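import Mathlib
import Cfsg.Prelude.Def_GeometricClasses
import Cfsg.Agent.Lib.Helper27.ASC.Defs
import Cfsg.Agent.Lib.Helper19.ASG.Defs
import Cfsg.Agent.Lib.Helper9.ASGD2T.Defs

set_option autoImplicit false
set_option linter.unusedVariables false

/-! Project ASG, block D2T, piece PTMUL: `ptMat` is multiplicative; the `i`-th factor embedding is additive,
homogeneous and injective. -/

namespace Cfsg.Agent.Lib.Helper19.ASG

open Cfsg Cfsg.Geo Cfsg.Agent.Lib.Helper27.ASC
open scoped MatrixGroups Matrix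

variable {n : ℕ} {F : Type*} [Field F]

/-- D2T-PTMUL : `ptMat` is multiplicative (entrywise: `Finset.prod_univ_sum`) -/
theorem ptMat_mul {m t : ℕ} (c c' : Fin t → Matrix (Fin m) (Fin m) F) :
    ptMat (c * c') = ptMat c * ptMat c' := by
  classical
  ext x y
  rw [Matrix.mul_apply, ptMat_apply]
  have h2 := (Finset.prod_univ_sum (fun _ : Fin t => (Finset.univ : Finset (Fin m)))
    (fun i k => c i (x i) k * c' i k (y i)))
  rw [Fintype.piFinset_univ] at h2
  simp only [Pi.mul_apply, Matrix.mul_apply]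
  rw [h2]
  refine Finset.sum_congr rfl fun z _ => ?_
  rw [ptMat_apply, ptMat_apply, Finset.prod_mul_distrib]

/-- D2T-PTMUL (same piece) -/
theorem ptMat_one {m t : ℕ} : ptMat (1 : Fin t → Matrix (Fin m) (Fin m) F) = 1 := by
  classical
  ext x y
  rw [ptMat_apply]
  simp only [Pi.one_apply, Matrix.one_apply]
  by_cases h : x = y
  · subst h; simp
  · rw [if_neg h]
    obtain ⟨i, hi⟩ := Function.ne_iff.mp h
    exact Finset.prod_eq_zero (Finset.mem_univ i) (by simp [hi])

/-- the entries of the `i`-th factor embedding -/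
theorem asgd2tptmul_single_apply {m t : ℕ} (i : Fin t) (a : Matrix (Fin m) (Fin m) F) (x y : Fin t → Fin m) :
    ptMat (Pi.mulSingle i a) x y = if ∀ j, j ≠ i → x j = y j then a (x i) (y i) else 0 := by
  classical
  rw [ptMat_apply]
  by_cases h : ∀ j, j ≠ i → x j = y j
  · rw [if_pos h, ← Finset.mul_prod_erase _ _ (Finset.mem_univ i), Pi.mulSingle_eq_same]
    have : ∏ j ∈ Finset.univ.erase i, (Pi.mulSingle i a : Fin t → Matrix (Fin m) (Fin m) F) j (x j) (y j) = 1 := by
      apply Finset.prod_eq_one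
      intro j hj
      have hji : j ≠ i := Finset.ne_of_mem_erase hj
      rw [Pi.mulSingle_eq_of_ne hji, Matrix.one_apply, if_pos (h j hji)]
    rw [this, mul_one]
  · rw [if_neg h]
    push Not at h
    obtain ⟨j, hji, hj⟩ := h
    apply Finset.prod_eq_zero (Finset.mem_univ j)
    rw [Pi.mulSingle_eq_of_ne hji, Matrix.one_apply, if_neg hj]

/-- D2T-PTMUL (same piece) : `a ↦ 1 ⊗ ⋯ ⊗ a ⊗ ⋯ ⊗ 1` is additive, homogeneous and injective -/
theorem ptMat_single_add {m t : ℕ} (i : Fin t) (a b : Matrix (Fin m) (Fin m) F) :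
    ptMat (Pi.mulSingle i (a + b)) = ptMat (Pi.mulSingle i a) + ptMat (Pi.mulSingle i b) := by
  classical
  ext x y
  rw [Matrix.add_apply, asgd2tptmul_single_apply, asgd2tptmul_single_apply, asgd2tptmul_single_apply]
  by_cases h : ∀ j, j ≠ i → x j = y j
  · rw [if_pos h, if_pos h, if_pos h, Matrix.add_apply]
  · rw [if_neg h, if_neg h, if_neg h, add_zero]

/-- D2T-PTMUL (same piece) -/
theorem ptMat_single_smul {m t : ℕ} (i : Fin t) (r : F) (a : Matrix (Fin m) (Fin m) F) :
    ptMat (Pi.mulSingle i (r • a)) = r • ptMat (Pi.mulSingle i a) := by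
  classical
  ext x y
  rw [Matrix.smul_apply, asgd2tptmul_single_apply, asgd2tptmul_single_apply]
  by_cases h : ∀ j, j ≠ i → x j = y j
  · rw [if_pos h, if_pos h, Matrix.smul_apply]
  · rw [if_neg h, if_neg h, smul_zero]

/-- D2T-PTMUL (same piece) -/
theorem ptMat_single_injective {m t : ℕ} (i : Fin t) (a b : Matrix (Fin m) (Fin m) F)
    (h : ptMat (Pi.mulSingle i a) = ptMat (Pi.mulSingle i b)) : a = b := by
  classical
  ext p q
  rcases Nat.eq_zero_or_pos m with hm | hm
  · subst hm; exact p.elim0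
  let z : Fin m := ⟨0, hm⟩
  have h1 := congrFun (congrFun h (Function.update (fun _ => z) i p)) (Function.update (fun _ => z) i q)
  rw [asgd2tptmul_single_apply, asgd2tptmul_single_apply] at h1
  have hc : ∀ j, j ≠ i → Function.update (fun _ : Fin t => z) i p j = Function.update (fun _ : Fin t => z) i q j := by
    intro j hj
    rw [Function.update_of_ne hj, Function.update_of_ne hj]
  rw [if_pos hc, if_pos hc, Function.update_self, Function.update_self] at h1
  exact h1

end Cfsg.Agent.Lib.Helper19.ASG
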