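import Mathlib
import Cfsg.Agent.Lib.Lead.BCG.Defs

set_option autoImplicit false

/-!
# Project BCG, row X2 (helper11): `sp_realize`, verbatim.
-/

namespace Cfsg.Agent.Lib.Lead.BCG

open Polynomial Module Matrix Cfsg.Agent.Lib.Helper13.S5955 Cfsg.Agent.Lib.helper15.S5972
  Cfsg.Agent.Lib.Helper18.ONE Cfsg.Agent.Lib.Lead.BCS

/-- X2 [S-M] -/
theorem sp_realize {F : Type*} [Field F] (d : ℕ) (y : Module.End F (Fin d ⊕ Fin d → F))
    (hy : ∀ u v, stdB d F (y u) (y v) = stdB d F u v) :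
    ∃ x : Matrix.symplecticGroup (Fin d) F,
      Matrix.toLin' (x : Matrix (Fin d ⊕ Fin d) (Fin d ⊕ Fin d) F) = y := by
  have hmem : LinearMap.toMatrix' y ∈ Matrix.symplecticGroup (Fin d) F := by
    rw [Cfsg.Agent.Lib.helper6.mem_symplecticGroup_iff_sympForm]
    intro u v
    have h1 : ∀ w, (LinearMap.toMatrix' y) *ᵥ w = y w := by
      intro w
      rw [← Matrix.toLin'_apply, Matrix.toLin'_toMatrix']
    rw [h1, h1, ← stdB_apply, ← stdB_apply]
    exact hy u v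
  exact ⟨⟨LinearMap.toMatrix' y, hmem⟩, Matrix.toLin'_toMatrix' y⟩

end Cfsg.Agent.Lib.Lead.BCG
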