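import Mathlib
import Cfsg.Agent.Lib.Lead.BCG.Defs

set_option autoImplicit false

/-!
# Project BCG, row X3 (helper11): `sp_same`, verbatim.
-/

namespace Cfsg.Agent.Lib.Lead.BCG

open Polynomial Module Matrix Cfsg.Agent.Lib.Helper13.S5955 Cfsg.Agent.Lib.helper15.S5972
  Cfsg.Agent.Lib.Helper18.ONE Cfsg.Agent.Lib.Lead.BCS

/-- `toLin'` commutes with powers -/
theorem bcgx3_toLin_pow {F : Type*} [Field F] {ι : Type*} [Fintype ι] [DecidableEq ι]
    (M : Matrix ι ι F) (k : ℕ) : (Matrix.toLin' M) ^ k = Matrix.toLin' (M ^ k) := by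
  induction k with
  | zero => rw [pow_zero, pow_zero, Matrix.toLin'_one]; rfl
  | succ k ih => rw [pow_succ, pow_succ, Matrix.toLin'_mul, ih]; rfl

/-- `toLin' M ^ k = 1 ↔ M ^ k = 1` -/
theorem bcgx3_toLin_pow_eq_one {F : Type*} [Field F] {ι : Type*} [Fintype ι] [DecidableEq ι]
    (M : Matrix ι ι F) (k : ℕ) : (Matrix.toLin' M) ^ k = 1 ↔ M ^ k = 1 := by
  rw [bcgx3_toLin_pow]
  constructor
  · intro h
    apply Matrix.toLin'.injective
    rw [h, Matrix.toLin'_one]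
    rfl
  · intro h
    rw [h, Matrix.toLin'_one]
    rfl

/-- X3 [S] -/
theorem sp_same {F : Type*} [Field F] (d : ℕ) (x : Matrix.symplecticGroup (Fin d) F) (k : ℕ) :
    x ^ k = 1 ↔
      (Matrix.toLin' (x : Matrix (Fin d ⊕ Fin d) (Fin d ⊕ Fin d) F)) ^ k = 1 := by
  rw [bcgx3_toLin_pow_eq_one, ← SubmonoidClass.coe_pow]
  constructor
  · intro h
    rw [h]
    rfl
  · intro h
    exact Subtype.ext h

end Cfsg.Agent.Lib.Lead.BCG
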