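import Mathlib
import Cfsg.Prelude.Def_OddOrderChar
import Cfsg.Agent.Lib.helper7.Induction

set_option autoImplicit false
open scoped ComplexConjugate

namespace Cfsg.Agent.Lib.Helper11

open Cfsg.Agent.Lib.helper7

theorem classInner_conj_symm {G : Type*} [Group G] [Fintype G] (f g : G → ℂ) :
    Cfsg.classInner f g = conj (Cfsg.classInner g f) := by
  unfold Cfsg.classInner
  rw [map_mul, map_sum, map_inv₀, Complex.conj_natCast]
  congr 1
  apply Finset.sum_congr rfl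
  intro x _
  rw [map_mul, Complex.conj_conj, mul_comm]

theorem classInner_sub_right' {G : Type*} [Group G] [Fintype G] (f g h : G → ℂ) :
    Cfsg.classInner f (g - h) = Cfsg.classInner f g - Cfsg.classInner f h := by
  simp only [Cfsg.classInner, Pi.sub_apply, map_sub, mul_sub, Finset.sum_sub_distrib]

theorem classInner_add_right' {G : Type*} [Group G] [Fintype G] (f g h : G → ℂ) :
    Cfsg.classInner f (g + h) = Cfsg.classInner f g + Cfsg.classInner f h := by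
  simp only [Cfsg.classInner, Pi.add_apply, map_add, mul_add, Finset.sum_add_distrib]

/-- the function `(1 - φ)(1 - ψ)` on `W` -/
def betaFun {W : Type*} [Group W] (φ ψ : W →* ℂˣ) : W → ℂ :=
  fun w => 1 - (φ w : ℂ) - (ψ w : ℂ) + (φ w : ℂ) * (ψ w : ℂ)

theorem betaFun_eq_zero_left {W : Type*} [Group W] (φ ψ : W →* ℂˣ) (w : W) (h : φ w = 1) :
    betaFun φ ψ w = 0 := by
  unfold betaFun
  rw [h]; simp

theorem betaFun_eq_zero_right {W : Type*} [Group W] (φ ψ : W →* ℂˣ) (w : W) (h : ψ w = 1) :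
    betaFun φ ψ w = 0 := by
  unfold betaFun
  rw [h]; simp

theorem indFun_zero {G : Type*} [Group G] [Fintype G] (H : Subgroup G) :
    Cfsg.indFun H (fun _ => (0 : ℂ)) = fun _ => 0 := by
  funext g
  unfold Cfsg.indFun
  have : ∀ x : G, Cfsg.extendByZero H (fun _ => (0 : ℂ)) (x⁻¹ * g * x) = 0 := by
    intro x
    by_cases hx : x⁻¹ * g * x ∈ H
    · rw [h7_extendByZero_mem H _ _ hx]
    · rw [h7_extendByZero_not_mem H _ _ hx]
  simp [this]

/-- the induction identity, including the degenerate cases where `φ` or `ψ` is trivial -/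
theorem ind_betaFun {G : Type*} [Group G] [Fintype G] (W₁ W₂ : Subgroup G)
    (χ : (↥(W₁ ⊔ W₂) →* ℂˣ) → (G → ℂ)) (hχ : Cfsg.IsCyclicTIFamily W₁ W₂ χ)
    (φ ψ : ↥(W₁ ⊔ W₂) →* ℂˣ)
    (hφ : ∀ w : ↥(W₁ ⊔ W₂), (w : G) ∈ W₂ → φ w = 1)
    (hψ : ∀ w : ↥(W₁ ⊔ W₂), (w : G) ∈ W₁ → ψ w = 1) :
    Cfsg.indFun (W₁ ⊔ W₂) (betaFun φ ψ) = fun g => 1 - χ φ g - χ ψ g + χ (φ * ψ) g := by
  by_cases h1 : φ = 1
  · subst h1
    have : betaFun (1 : ↥(W₁ ⊔ W₂) →* ℂˣ) ψ = fun _ => 0 := by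
      funext w; exact betaFun_eq_zero_left _ _ w rfl
    rw [this, indFun_zero]
    funext g
    have h3 : (1 : ↥(W₁ ⊔ W₂) →* ℂˣ) * ψ = ψ := one_mul ψ
    rw [h3, hχ.map_one]
    ring
  by_cases h2 : ψ = 1
  · subst h2
    have : betaFun φ (1 : ↥(W₁ ⊔ W₂) →* ℂˣ) = fun _ => 0 := by
      funext w; exact betaFun_eq_zero_right _ _ w rfl
    rw [this, indFun_zero]
    funext g
    have h3 : φ * (1 : ↥(W₁ ⊔ W₂) →* ℂˣ) = φ := mul_one φ
    rw [h3, hχ.map_one]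
    ring
  exact hχ.induced_eq φ ψ h1 h2 hφ hψ

/-- a class function vanishing on `W` off `W₁ ∪ W₂` is orthogonal to the induced `(1-φ)(1-ψ)` -/
theorem classInner_ind_betaFun_eq_zero {G : Type*} [Group G] [Fintype G] (W₁ W₂ : Subgroup G)
    (θ : G → ℂ) (hθ : Cfsg.IsClassFunction G θ)
    (hθV : ∀ w : ↥(W₁ ⊔ W₂), (w : G) ∉ W₁ → (w : G) ∉ W₂ → θ w = 0)
    (φ ψ : ↥(W₁ ⊔ W₂) →* ℂˣ)
    (hφ : ∀ w : ↥(W₁ ⊔ W₂), (w : G) ∈ W₂ → φ w = 1)
    (hψ : ∀ w : ↥(W₁ ⊔ W₂), (w : G) ∈ W₁ → ψ w = 1) :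
    Cfsg.classInner θ (Cfsg.indFun (W₁ ⊔ W₂) (betaFun φ ψ)) = 0 := by
  classical
  have : Fintype ↥(W₁ ⊔ W₂) := Fintype.ofFinite _
  rw [classInner_conj_symm, h7_frobenius_reciprocity (W₁ ⊔ W₂) (betaFun φ ψ) θ hθ]
  have : Cfsg.classInner (betaFun φ ψ) (fun h : ↥(W₁ ⊔ W₂) => θ h) = 0 := by
    unfold Cfsg.classInner
    rw [Finset.sum_eq_zero, mul_zero]
    intro w _
    by_cases h1 : (w : G) ∈ W₁
    · rw [betaFun_eq_zero_right φ ψ w (hψ w h1), zero_mul]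
    · by_cases h2 : (w : G) ∈ W₂
      · rw [betaFun_eq_zero_left φ ψ w (hφ w h2), zero_mul]
      · show betaFun φ ψ w * conj (θ w) = 0
        rw [hθV w h1 h2, map_zero, mul_zero]
  rw [this, map_zero]

end Cfsg.Agent.Lib.Helper11
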