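import Mathlib
import Cfsg.Prelude.Def_Characters
import Cfsg.Agent.Lib.Helper11.CyclicTI

set_option autoImplicit false
open scoped ComplexConjugate

namespace Cfsg.Agent.Lib.Helper11

/-- the complex-valued function attached to a linear character -/
def linFun {W : Type*} [Group W] (η : W →* ℂˣ) : W → ℂ := fun w => (η w : ℂ)

theorem linFun_apply {W : Type*} [Group W] (η : W →* ℂˣ) (w : W) : linFun η w = (η w : ℂ) := rfl

theorem linChar_conj {W : Type*} [Group W] [Finite W] (η : W →* ℂˣ) (w : W) :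
    conj (η w : ℂ) = (((η w)⁻¹ : ℂˣ) : ℂ) := by
  have h1 : (η w : ℂ) ^ (Nat.card W) = 1 := by
    rw [← Units.val_pow_eq_pow_val, ← map_pow, pow_card_eq_one', map_one, Units.val_one]
  have h2 : ‖(η w : ℂ)‖ = 1 := Complex.norm_eq_one_of_pow_eq_one h1 (Nat.card_pos.ne')
  rw [Units.val_inv_eq_inv_val, Complex.inv_eq_conj h2]

theorem sum_linChar_eq_zero {W : Type*} [Group W] [Fintype W] (η : W →* ℂˣ) (h : η ≠ 1) :
    ∑ w, (η w : ℂ) = 0 := by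
  have := sum_hom_units_eq_zero ((Units.coeHom ℂ).comp η) (by
    intro h2
    apply h
    ext w
    have := DFunLike.congr_fun h2 w
    simpa using this)
  simpa using this

theorem classInner_linFun {W : Type*} [Group W] [Fintype W] (η η' : W →* ℂˣ)
    [Decidable (η = η')] :
    Cfsg.classInner (linFun η) (linFun η') = if η = η' then 1 else 0 := by
  unfold Cfsg.classInner
  have h1 : ∀ w, linFun η w * conj (linFun η' w) = ((η * η'⁻¹) w : ℂ) := by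
    intro w
    rw [linFun_apply, linFun_apply, linChar_conj, MonoidHom.mul_apply, MonoidHom.inv_apply,
      Units.val_mul]
  simp only [h1]
  split_ifs with h
  · subst h
    have h2 : ∀ w, ((η * η⁻¹) w : ℂ) = 1 := by
      intro w
      rw [MonoidHom.mul_apply, MonoidHom.inv_apply, mul_inv_cancel, Units.val_one]
    simp only [h2, Finset.sum_const, Finset.card_univ, nsmul_eq_mul, mul_one]
    rw [Nat.card_eq_fintype_card]
    have : (Fintype.card W : ℂ) ≠ 0 := by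
      exact_mod_cast Fintype.card_ne_zero
    field_simp
  · rw [sum_linChar_eq_zero, mul_zero]
    intro h2
    apply h
    ext w
    have h3 := DFunLike.congr_fun h2 w
    rw [MonoidHom.mul_apply, MonoidHom.inv_apply, MonoidHom.one_apply, mul_inv_eq_one] at h3
    rw [h3]

theorem classInner_sub_left' {G : Type*} [Group G] [Fintype G] (f g h : G → ℂ) :
    Cfsg.classInner (f - g) h = Cfsg.classInner f h - Cfsg.classInner g h := by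
  simp only [Cfsg.classInner, Pi.sub_apply, sub_mul, mul_sub, Finset.sum_sub_distrib]

theorem classInner_add_left' {G : Type*} [Group G] [Fintype G] (f g h : G → ℂ) :
    Cfsg.classInner (f + g) h = Cfsg.classInner f h + Cfsg.classInner g h := by
  simp only [Cfsg.classInner, Pi.add_apply, add_mul, mul_add, Finset.sum_add_distrib]

theorem classInner_smul_left' {G : Type*} [Group G] [Fintype G] (c : ℂ) (f h : G → ℂ) :
    Cfsg.classInner (c • f) h = c * Cfsg.classInner f h := by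
  simp only [Cfsg.classInner, Pi.smul_apply, smul_eq_mul, Finset.mul_sum]
  apply Finset.sum_congr rfl
  intro x _
  ring

theorem classInner_sum_left' {G : Type*} [Group G] [Fintype G] {ι : Type*} (s : Finset ι)
    (f : ι → G → ℂ) (h : G → ℂ) :
    Cfsg.classInner (∑ i ∈ s, f i) h = ∑ i ∈ s, Cfsg.classInner (f i) h := by
  classical
  induction s using Finset.induction_on with
  | empty =>
    simp [Cfsg.classInner]
  | insert a s ha ih =>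
    rw [Finset.sum_insert ha, Finset.sum_insert ha, classInner_add_left', ih]

/-- a linear character of `W₁ ⊔ W₂` trivial on both factors is trivial -/
theorem linChar_eq_one_of_trivial {G : Type*} [Group G] (W₁ W₂ : Subgroup G)
    (η : ↥(W₁ ⊔ W₂) →* ℂˣ)
    (h1 : ∀ w : ↥(W₁ ⊔ W₂), (w : G) ∈ W₁ → η w = 1)
    (h2 : ∀ w : ↥(W₁ ⊔ W₂), (w : G) ∈ W₂ → η w = 1) : η = 1 := by
  have hle : W₁ ⊔ W₂ ≤ (η.ker).map (W₁ ⊔ W₂).subtype := by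
    apply sup_le
    · intro x hx
      have hx' : x ∈ W₁ ⊔ W₂ := (le_sup_left : W₁ ≤ W₁ ⊔ W₂) hx
      exact ⟨⟨x, hx'⟩, MonoidHom.mem_ker.mpr (h1 ⟨x, hx'⟩ hx), rfl⟩
    · intro x hx
      have hx' : x ∈ W₁ ⊔ W₂ := (le_sup_right : W₂ ≤ W₁ ⊔ W₂) hx
      exact ⟨⟨x, hx'⟩, MonoidHom.mem_ker.mpr (h2 ⟨x, hx'⟩ hx), rfl⟩
  ext w
  obtain ⟨k, hk, hkw⟩ := hle w.2
  have : k = w := Subtype.ext hkw
  subst this
  rw [MonoidHom.mem_ker.mp hk]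
  rfl

/-- the pair `(φ, ψ)` is determined by the product `φ ψ` -/
theorem linChar_pair_inj {G : Type*} [Group G] (W₁ W₂ : Subgroup G)
    (φ φ' ψ ψ' : ↥(W₁ ⊔ W₂) →* ℂˣ)
    (hφ : ∀ w : ↥(W₁ ⊔ W₂), (w : G) ∈ W₂ → φ w = 1)
    (hφ' : ∀ w : ↥(W₁ ⊔ W₂), (w : G) ∈ W₂ → φ' w = 1)
    (hψ : ∀ w : ↥(W₁ ⊔ W₂), (w : G) ∈ W₁ → ψ w = 1)
    (hψ' : ∀ w : ↥(W₁ ⊔ W₂), (w : G) ∈ W₁ → ψ' w = 1)
    (h : φ * ψ = φ' * ψ') : φ = φ' ∧ ψ = ψ' := by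
  have hw : ∀ w, φ w * ψ w = φ' w * ψ' w := by
    intro w
    have := DFunLike.congr_fun h w
    rwa [MonoidHom.mul_apply, MonoidHom.mul_apply] at this
  have key : φ = φ' := by
    have h1 : (φ * φ'⁻¹ : ↥(W₁ ⊔ W₂) →* ℂˣ) = 1 := by
      apply linChar_eq_one_of_trivial W₁ W₂
      · intro w hw1
        rw [MonoidHom.mul_apply, MonoidHom.inv_apply, mul_inv_eq_one]
        have := hw w
        rw [hψ w hw1, hψ' w hw1, mul_one, mul_one] at this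
        exact this
      · intro w hw2
        rw [MonoidHom.mul_apply, MonoidHom.inv_apply, mul_inv_eq_one, hφ w hw2, hφ' w hw2]
    ext w
    have h3 := DFunLike.congr_fun h1 w
    rw [MonoidHom.mul_apply, MonoidHom.inv_apply, MonoidHom.one_apply, mul_inv_eq_one] at h3
    rw [h3]
  refine ⟨key, ?_⟩
  subst key
  ext w
  have := hw w
  rw [mul_left_cancel this]

theorem classInner_linFun_pair {G : Type*} [Group G] [Fintype G] (W₁ W₂ : Subgroup G)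
    [Fintype ↥(W₁ ⊔ W₂)]
    (φ φ' ψ ψ' : ↥(W₁ ⊔ W₂) →* ℂˣ) [Decidable (φ = φ')] [Decidable (ψ = ψ')]
    (hφ : ∀ w : ↥(W₁ ⊔ W₂), (w : G) ∈ W₂ → φ w = 1)
    (hφ' : ∀ w : ↥(W₁ ⊔ W₂), (w : G) ∈ W₂ → φ' w = 1)
    (hψ : ∀ w : ↥(W₁ ⊔ W₂), (w : G) ∈ W₁ → ψ w = 1)
    (hψ' : ∀ w : ↥(W₁ ⊔ W₂), (w : G) ∈ W₁ → ψ' w = 1) :
    Cfsg.classInner (linFun (φ * ψ)) (linFun (φ' * ψ')) =
      (if φ = φ' then 1 else 0) * (if ψ = ψ' then 1 else 0) := by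
  classical
  rw [classInner_linFun]
  by_cases h : φ * ψ = φ' * ψ'
  · obtain ⟨h1, h2⟩ := linChar_pair_inj W₁ W₂ φ φ' ψ ψ' hφ hφ' hψ hψ' h
    rw [if_pos h, if_pos h1, if_pos h2, mul_one]
  · rw [if_neg h]
    by_cases h1 : φ = φ'
    · by_cases h2 : ψ = ψ'
      · exact absurd (by rw [h1, h2]) h
      · rw [if_neg h2, mul_zero]
    · rw [if_neg h1, zero_mul]

theorem betaFun_eq_linFun {W : Type*} [Group W] (φ ψ : W →* ℂˣ) :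
    betaFun φ ψ = linFun (1 * 1) - linFun (φ * 1) - linFun (1 * ψ) + linFun (φ * ψ) := by
  funext w
  simp [betaFun, linFun]

theorem classInner_betaFun_linFun {G : Type*} [Group G] [Fintype G] (W₁ W₂ : Subgroup G)
    [Fintype ↥(W₁ ⊔ W₂)]
    (φ φ' ψ ψ' : ↥(W₁ ⊔ W₂) →* ℂˣ)
    (hφ : ∀ w : ↥(W₁ ⊔ W₂), (w : G) ∈ W₂ → φ w = 1)
    (hφ' : ∀ w : ↥(W₁ ⊔ W₂), (w : G) ∈ W₂ → φ' w = 1)
    (hψ : ∀ w : ↥(W₁ ⊔ W₂), (w : G) ∈ W₁ → ψ w = 1)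
    (hψ' : ∀ w : ↥(W₁ ⊔ W₂), (w : G) ∈ W₁ → ψ' w = 1)
    (h1 : φ' ≠ 1) (h2 : ψ' ≠ 1) [Decidable (φ = φ')] [Decidable (ψ = ψ')] :
    Cfsg.classInner (betaFun φ ψ) (linFun (φ' * ψ')) =
      (if φ = φ' then 1 else 0) * (if ψ = ψ' then 1 else 0) := by
  classical
  have t1 : ∀ w : ↥(W₁ ⊔ W₂), (w : G) ∈ W₂ → (1 : ↥(W₁ ⊔ W₂) →* ℂˣ) w = 1 := fun _ _ => rfl
  have t2 : ∀ w : ↥(W₁ ⊔ W₂), (w : G) ∈ W₁ → (1 : ↥(W₁ ⊔ W₂) →* ℂˣ) w = 1 := fun _ _ => rfl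
  rw [betaFun_eq_linFun, classInner_add_left', classInner_sub_left', classInner_sub_left',
    classInner_linFun_pair W₁ W₂ 1 φ' 1 ψ' t1 hφ' t2 hψ',
    classInner_linFun_pair W₁ W₂ φ φ' 1 ψ' hφ hφ' t2 hψ',
    classInner_linFun_pair W₁ W₂ 1 φ' ψ ψ' t1 hφ' hψ hψ',
    classInner_linFun_pair W₁ W₂ φ φ' ψ ψ' hφ hφ' hψ hψ',
    if_neg (Ne.symm h1), if_neg (Ne.symm h2)]
  simp only [zero_mul, mul_zero, sub_zero, zero_add]

theorem classInner_linFun_betaFun {G : Type*} [Group G] [Fintype G] (W₁ W₂ : Subgroup G)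
    [Fintype ↥(W₁ ⊔ W₂)]
    (φ φ' ψ ψ' : ↥(W₁ ⊔ W₂) →* ℂˣ)
    (hφ : ∀ w : ↥(W₁ ⊔ W₂), (w : G) ∈ W₂ → φ w = 1)
    (hφ' : ∀ w : ↥(W₁ ⊔ W₂), (w : G) ∈ W₂ → φ' w = 1)
    (hψ : ∀ w : ↥(W₁ ⊔ W₂), (w : G) ∈ W₁ → ψ w = 1)
    (hψ' : ∀ w : ↥(W₁ ⊔ W₂), (w : G) ∈ W₁ → ψ' w = 1)
    [Decidable (φ = φ')] [Decidable (ψ = ψ')] [Decidable (φ = 1)] [Decidable (ψ = 1)] :
    Cfsg.classInner (linFun (φ * ψ)) (betaFun φ' ψ') =
      (if φ = 1 then 1 else 0) * (if ψ = 1 then 1 else 0)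
      - (if φ = φ' then 1 else 0) * (if ψ = 1 then 1 else 0)
      - (if φ = 1 then 1 else 0) * (if ψ = ψ' then 1 else 0)
      + (if φ = φ' then 1 else 0) * (if ψ = ψ' then 1 else 0) := by
  classical
  have t1 : ∀ w : ↥(W₁ ⊔ W₂), (w : G) ∈ W₂ → (1 : ↥(W₁ ⊔ W₂) →* ℂˣ) w = 1 := fun _ _ => rfl
  have t2 : ∀ w : ↥(W₁ ⊔ W₂), (w : G) ∈ W₁ → (1 : ↥(W₁ ⊔ W₂) →* ℂˣ) w = 1 := fun _ _ => rfl
  rw [betaFun_eq_linFun, classInner_add_right', classInner_sub_right', classInner_sub_right',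
    classInner_linFun_pair W₁ W₂ φ 1 ψ 1 hφ t1 hψ t2,
    classInner_linFun_pair W₁ W₂ φ φ' ψ 1 hφ hφ' hψ t2,
    classInner_linFun_pair W₁ W₂ φ 1 ψ ψ' hφ t1 hψ hψ',
    classInner_linFun_pair W₁ W₂ φ φ' ψ ψ' hφ hφ' hψ hψ']

theorem classInner_betaFun_betaFun {G : Type*} [Group G] [Fintype G] (W₁ W₂ : Subgroup G)
    [Fintype ↥(W₁ ⊔ W₂)]
    (φ φ' ψ ψ' : ↥(W₁ ⊔ W₂) →* ℂˣ)
    (hφ : ∀ w : ↥(W₁ ⊔ W₂), (w : G) ∈ W₂ → φ w = 1)
    (hφ' : ∀ w : ↥(W₁ ⊔ W₂), (w : G) ∈ W₂ → φ' w = 1)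
    (hψ : ∀ w : ↥(W₁ ⊔ W₂), (w : G) ∈ W₁ → ψ w = 1)
    (hψ' : ∀ w : ↥(W₁ ⊔ W₂), (w : G) ∈ W₁ → ψ' w = 1)
    (h1 : φ ≠ 1) (h2 : ψ ≠ 1) (h1' : φ' ≠ 1) (h2' : ψ' ≠ 1)
    [Decidable (φ = φ')] [Decidable (ψ = ψ')] :
    Cfsg.classInner (betaFun φ ψ) (betaFun φ' ψ') =
      1 + (if φ = φ' then 1 else 0) + (if ψ = ψ' then 1 else 0)
      + (if φ = φ' then 1 else 0) * (if ψ = ψ' then 1 else 0) := by
  classical
  have t1 : ∀ w : ↥(W₁ ⊔ W₂), (w : G) ∈ W₂ → (1 : ↥(W₁ ⊔ W₂) →* ℂˣ) w = 1 := fun _ _ => rfl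
  have t2 : ∀ w : ↥(W₁ ⊔ W₂), (w : G) ∈ W₁ → (1 : ↥(W₁ ⊔ W₂) →* ℂˣ) w = 1 := fun _ _ => rfl
  rw [betaFun_eq_linFun φ ψ, classInner_add_left', classInner_sub_left', classInner_sub_left',
    classInner_linFun_betaFun W₁ W₂ 1 φ' 1 ψ' t1 hφ' t2 hψ',
    classInner_linFun_betaFun W₁ W₂ φ φ' 1 ψ' hφ hφ' t2 hψ',
    classInner_linFun_betaFun W₁ W₂ 1 φ' ψ ψ' t1 hφ' hψ hψ',
    classInner_linFun_betaFun W₁ W₂ φ φ' ψ ψ' hφ hφ' hψ hψ']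
  rw [if_neg h1, if_neg h2, if_neg (Ne.symm h1'), if_neg (Ne.symm h2')]
  simp only [if_true, zero_mul, mul_zero, sub_zero, zero_add, mul_one, one_mul, zero_sub]
  have e1 : (if φ = φ' then (1 : ℂ) else 0) = @ite ℂ (φ = φ') (Classical.propDecidable _) 1 0 := by
    congr
  have e2 : (if ψ = ψ' then (1 : ℂ) else 0) = @ite ℂ (ψ = ψ') (Classical.propDecidable _) 1 0 := by
    congr
  rw [e1, e2]
  ring

end Cfsg.Agent.Lib.Helper11
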