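import Mathlib
import Cfsg.Prelude.Def_Characters
import Cfsg.Agent.Lib.helper7.Induction
import Cfsg.Agent.Lib.Helper25.CharBasic
import Cfsg.Agent.Lib.Helper11.LinChar

set_option autoImplicit false
open scoped ComplexConjugate

namespace Cfsg.Agent.Lib.Helper11

open Cfsg.Agent.Lib.helper7

/-- conjugate of a function on a normal subgroup -/
def cj {G : Type*} [Group G] (H : Subgroup G) [hN : H.Normal] (ψ : H → ℂ) (g : G) : H → ℂ :=
  fun h => ψ ⟨g * h * g⁻¹, hN.conj_mem h h.2 g⟩

theorem cj_apply {G : Type*} [Group G] (H : Subgroup G) [hN : H.Normal] (ψ : H → ℂ) (g : G)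
    (h : H) : cj H ψ g h = ψ ⟨g * h * g⁻¹, hN.conj_mem h h.2 g⟩ := rfl

theorem cj_one {G : Type*} [Group G] (H : Subgroup G) [hN : H.Normal] (ψ : H → ℂ) :
    cj H ψ 1 = ψ := by
  funext h
  rw [cj_apply]
  congr 1
  apply Subtype.ext
  simp

theorem cj_mul {G : Type*} [Group G] (H : Subgroup G) [hN : H.Normal] (ψ : H → ℂ) (g k : G) :
    cj H (cj H ψ g) k = cj H ψ (g * k) := by
  funext h
  rw [cj_apply, cj_apply, cj_apply]
  congr 1
  apply Subtype.ext
  simp only [mul_inv_rev]
  group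

theorem extendByZero_cj {G : Type*} [Group G] (H : Subgroup G) [hN : H.Normal] (θ : H → ℂ)
    (g z : G) :
    Cfsg.extendByZero H (cj H θ g) z = Cfsg.extendByZero H θ (g * z * g⁻¹) := by
  by_cases hz : z ∈ H
  · have hz' : g * z * g⁻¹ ∈ H := hN.conj_mem z hz g
    rw [h7_extendByZero_mem H _ z hz, h7_extendByZero_mem H _ _ hz']
    rfl
  · have hz' : g * z * g⁻¹ ∉ H := by
      intro h
      apply hz
      have := hN.conj_mem _ h g⁻¹
      simpa [mul_assoc] using this
    rw [h7_extendByZero_not_mem H _ z hz, h7_extendByZero_not_mem H _ _ hz']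

theorem indFun_cj {G : Type*} [Group G] [Fintype G] (H : Subgroup G) [hN : H.Normal]
    (θ : H → ℂ) (g : G) : Cfsg.indFun H (cj H θ g) = Cfsg.indFun H θ := by
  funext y
  unfold Cfsg.indFun
  congr 1
  simp only [extendByZero_cj]
  rw [← Equiv.sum_comp (Equiv.mulRight g⁻¹)
    (fun x => Cfsg.extendByZero H θ (x⁻¹ * y * x))]
  apply Finset.sum_congr rfl
  intro x _
  congr 1
  simp only [Equiv.coe_mulRight, mul_inv_rev, inv_inv]
  group

/-- the values of an induced function on the normal subgroup -/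
theorem indFun_normal_apply {G : Type*} [Group G] [Fintype G] (H : Subgroup G) [hN : H.Normal]
    (θ : H → ℂ) (h : H) :
    Cfsg.indFun H θ (h : G) = (Nat.card H : ℂ)⁻¹ * ∑ x : G, cj H θ x h := by
  unfold Cfsg.indFun
  congr 1
  rw [← Equiv.sum_comp (Equiv.inv G) (fun x => cj H θ x h)]
  apply Finset.sum_congr rfl
  intro x _
  have hx : x⁻¹ * (h : G) * x ∈ H := by
    have := hN.conj_mem h h.2 x⁻¹
    simpa using this
  rw [h7_extendByZero_mem H θ _ hx, Equiv.inv_apply, cj_apply]
  congr 1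
  apply Subtype.ext
  simp

theorem isIrreducible_comp_equiv {G G' : Type*} [Group G] [Group G'] {V : Type*}
    [AddCommGroup V] [Module ℂ V] (ρ : Representation ℂ G V) (α : G' ≃* G)
    [hρ : ρ.IsIrreducible] :
    Representation.IsIrreducible ((ρ.comp α.toMonoidHom : Representation ℂ G' V)) := by
  let e : Subrepresentation (ρ.comp α.toMonoidHom : Representation ℂ G' V) ≃o
      Subrepresentation ρ :=
    { toFun := fun S => ⟨S.toSubmodule, fun h v hv => by
        have := S.apply_mem_toSubmodule (α.symm h) hv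
        simpa using this⟩
      invFun := fun T => ⟨T.toSubmodule, fun h v hv => T.apply_mem_toSubmodule (α h) hv⟩
      left_inv := fun S => rfl
      right_inv := fun T => rfl
      map_rel_iff' := Iff.rfl }
  exact e.isSimpleOrder_iff.mpr hρ

theorem isIrr_cj {G : Type*} [Group G] (H : Subgroup G) [hN : H.Normal] (θ : H → ℂ)
    (hθ : Cfsg.IsIrrCharacter H θ) (g : G) : Cfsg.IsIrrCharacter H (cj H θ g) := by
  obtain ⟨n, ρ, hρ, hχ⟩ := hθ
  refine ⟨n, (ρ.comp (MulAut.conjNormal g : H ≃* H).toMonoidHom :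
    Representation ℂ H (Fin n → ℂ)), isIrreducible_comp_equiv ρ (MulAut.conjNormal g : H ≃* H), ?_⟩
  funext h
  rw [cj_apply, ← hχ]
  simp only [Representation.character]
  congr 2

theorem card_fiber_cj {G : Type*} [Group G] [Fintype G] (H : Subgroup G) [hN : H.Normal]
    (θ : H → ℂ) (g₀ : G) [DecidableEq (H → ℂ)] :
    (Finset.univ.filter (fun x : G => cj H θ x = cj H θ g₀)).card =
      Nat.card {g : G // ∀ h : H, cj H θ g h = θ h} := by
  classical
  have h1 : Nat.card {g : G // ∀ h : H, cj H θ g h = θ h} =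
      (Finset.univ.filter (fun g : G => cj H θ g = θ)).card := by
    rw [Nat.card_eq_fintype_card, Fintype.card_subtype]
    congr 1
    ext g
    simp only [Finset.mem_filter, Finset.mem_univ, true_and]
    exact funext_iff.symm
  rw [h1]
  have h2 : Finset.univ.filter (fun x : G => cj H θ x = cj H θ g₀) =
      (Finset.univ.filter (fun g : G => cj H θ g = θ)).map (Equiv.mulRight g₀).toEmbedding := by
    ext x
    simp only [Finset.mem_filter, Finset.mem_univ, true_and, Finset.mem_map,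
      Equiv.coe_toEmbedding, Equiv.coe_mulRight]
    constructor
    · intro hx
      refine ⟨x * g₀⁻¹, ?_, by group⟩
      rw [← cj_mul, hx, cj_mul, mul_inv_cancel, cj_one]
    · rintro ⟨g, hg, rfl⟩
      rw [← cj_mul, hg]
  rw [h2, Finset.card_map]

theorem sum_cj_eq {G : Type*} [Group G] [Fintype G] (H : Subgroup G) [hN : H.Normal]
    (θ : H → ℂ) :
    ∑ x : G, cj H θ x = (Nat.card {g : G // ∀ h : H, cj H θ g h = θ h} : ℂ) •
      ∑ᶠ ψ ∈ {ψ : H → ℂ | ∃ g : G, ψ = cj H θ g}, ψ := by
  classical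
  have hO : {ψ : H → ℂ | ∃ g : G, ψ = cj H θ g} =
      ↑(Finset.univ.image (fun g : G => cj H θ g)) := by
    ext ψ
    simp [eq_comm]
  rw [hO, finsum_mem_coe_finset]
  rw [← Finset.sum_fiberwise_of_maps_to (s := Finset.univ)
    (t := Finset.univ.image (fun g : G => cj H θ g)) (g := fun g : G => cj H θ g)
    (fun x _ => Finset.mem_image_of_mem _ (Finset.mem_univ x))]
  rw [Finset.smul_sum]
  apply Finset.sum_congr rfl
  intro ψ hψ
  rw [Finset.sum_congr rfl (fun x hx => (Finset.mem_filter.mp hx).2), Finset.sum_const]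
  obtain ⟨g₀, -, rfl⟩ := Finset.mem_image.mp hψ
  rw [card_fiber_cj, Nat.cast_smul_eq_nsmul]

theorem indFun_restrict_normal {G : Type*} [Group G] [Fintype G] (H : Subgroup G)
    [hN : H.Normal] (θ : H → ℂ) [DecidableEq (H → ℂ)] :
    (fun h : H => Cfsg.indFun H θ h) =
      ((Nat.card {g : G // ∀ h : H, cj H θ g h = θ h} : ℂ) / (Nat.card H : ℂ)) •
        ∑ ψ ∈ Finset.univ.image (fun g : G => cj H θ g), ψ := by
  have h1 := sum_cj_eq H θ
  have hO : {ψ : H → ℂ | ∃ g : G, ψ = cj H θ g} =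
      ↑(Finset.univ.image (fun g : G => cj H θ g)) := by
    ext ψ
    simp [eq_comm]
  rw [hO, finsum_mem_coe_finset] at h1
  funext h
  rw [indFun_normal_apply]
  have h2 : ∑ x : G, cj H θ x h = (∑ x : G, cj H θ x) h := by
    rw [Finset.sum_apply]
  rw [h2, h1]
  simp only [Pi.smul_apply, smul_eq_mul]
  rw [div_eq_mul_inv]
  ring

/-- induced functions from non-conjugate irreducible characters of a normal subgroup are
orthogonal -/
theorem classInner_indFun_of_not_conj {G : Type*} [Group G] [Fintype G] (H : Subgroup G)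
    [hN : H.Normal] (θ φ : H → ℂ) (hθ : Cfsg.IsIrrCharacter H θ) (hφ : Cfsg.IsIrrCharacter H φ)
    (hne : ¬ ∃ g : G, φ = cj H θ g) :
    Cfsg.classInner (Cfsg.indFun H φ) (Cfsg.indFun H θ) = 0 := by
  classical
  have : Fintype H := Fintype.ofFinite _
  rw [h7_frobenius_reciprocity H φ _ (h7_indFun_isClassFunction H θ), indFun_restrict_normal,
    classInner_conj_symm, classInner_smul_left', classInner_sum_left']
  rw [Finset.sum_eq_zero, mul_zero, map_zero]
  intro ψ hψ
  obtain ⟨g, -, rfl⟩ := Finset.mem_image.mp hψ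
  have h1 := Cfsg.Agent.Lib.Helper25.irr_classInner ⟨cj H θ g, isIrr_cj H θ hθ g⟩ ⟨φ, hφ⟩
  rw [h1, if_neg]
  intro h
  apply hne
  exact ⟨g, (congrArg Subtype.val h).symm⟩

end Cfsg.Agent.Lib.Helper11
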