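import Mathlib
import Cfsg.Prelude.Def_Characters
import Cfsg.Agent.Lib.helper2.CharInd
import Cfsg.Agent.Lib.Helper25.CharAbelian

set_option autoImplicit false
open scoped ComplexConjugate

namespace Cfsg.Agent.Lib.Helper11

open Cfsg.Agent.Lib.Helper25 Cfsg.Agent.Lib.helper2

theorem genChar_classFunction {G : Type*} [Group G] (θ : G → ℂ)
    (hθ : Cfsg.IsGeneralizedCharacter G θ) : ∀ g h : G, θ (h * g * h⁻¹) = θ g := by
  obtain ⟨χ, ψ, hχ, hψ, rfl⟩ := hθ
  intro g h
  simp only [Pi.sub_apply]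
  rw [isCharacter_isClassFunction hχ g h, isCharacter_isClassFunction hψ g h]

theorem genChar_inner_int {G : Type*} [Group G] [Fintype G] (θ : G → ℂ)
    (hθ : Cfsg.IsGeneralizedCharacter G θ) (η : Cfsg.IrrCharacter G) :
    ∃ z : ℤ, Cfsg.classInner θ (η : G → ℂ) = (z : ℂ) := by
  obtain ⟨χ, ψ, hχ, hψ, rfl⟩ := hθ
  obtain ⟨a, ha⟩ := classInner_character_nat hχ (isCharacter_of_irr η)
  obtain ⟨b, hb⟩ := classInner_character_nat hψ (isCharacter_of_irr η)
  refine ⟨(a : ℤ) - (b : ℤ), ?_⟩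
  rw [Cfsg.Agent.Lib.Helper25.classInner_sub_left, ha, hb]
  push_cast
  rfl

/-- a generalized character of norm one is an irreducible character up to sign -/
theorem genChar_norm_one {G : Type*} [Group G] [Fintype G] (θ : G → ℂ)
    (hθ : Cfsg.IsGeneralizedCharacter G θ) (h1 : Cfsg.classInner θ θ = 1) :
    ∃ (ε : ℤ) (η : Cfsg.IrrCharacter G), (ε = 1 ∨ ε = -1) ∧ θ = (ε : ℂ) • (η : G → ℂ) := by
  classical
  have : Fintype (Cfsg.IrrCharacter G) := Fintype.ofFinite _
  have hcl := genChar_classFunction θ hθ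
  have hc := fun η => genChar_inner_int θ hθ η
  choose c hc using hc
  have hpar := classInner_parseval θ hcl
  rw [h1] at hpar
  simp only [hc, map_intCast] at hpar
  have hpar' : ∑ η : Cfsg.IrrCharacter G, c η * c η = 1 := by
    have : ((∑ η : Cfsg.IrrCharacter G, c η * c η : ℤ) : ℂ) = 1 := by
      rw [hpar]
      push_cast
      rfl
    exact_mod_cast this
  have hex : ∃ η₀, c η₀ ≠ 0 := by
    by_contra hcon
    push Not at hcon
    simp only [hcon, mul_zero, Finset.sum_const_zero] at hpar'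
    exact absurd hpar' (by norm_num)
  obtain ⟨η₀, hη₀⟩ := hex
  have hsq : 1 ≤ c η₀ * c η₀ := by
    have : 0 < c η₀ * c η₀ := mul_self_pos.mpr hη₀
    omega
  have hothers : ∀ η, η ≠ η₀ → c η = 0 := by
    intro η hne
    by_contra h0
    have h2 : c η₀ * c η₀ + c η * c η ≤ ∑ η : Cfsg.IrrCharacter G, c η * c η := by
      have hsub : ({η₀, η} : Finset (Cfsg.IrrCharacter G)) ⊆ Finset.univ := Finset.subset_univ _
      have := Finset.sum_le_sum_of_subset_of_nonneg (f := fun η => c η * c η) hsub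
        (fun i _ _ => mul_self_nonneg _)
      rw [Finset.sum_pair (Ne.symm hne)] at this
      exact this
    have h3 : 0 < c η * c η := mul_self_pos.mpr h0
    omega
  have hone : c η₀ * c η₀ = 1 := by
    rw [Finset.sum_eq_single η₀ (fun η _ hne => by rw [hothers η hne, mul_zero])
      (fun h => absurd (Finset.mem_univ _) h)] at hpar'
    exact hpar'
  have hε : c η₀ = 1 ∨ c η₀ = -1 := by
    have : (c η₀ - 1) * (c η₀ + 1) = 0 := by
      have : (c η₀ - 1) * (c η₀ + 1) = c η₀ * c η₀ - 1 := by ring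
      rw [this, hone]
      rfl
    rcases mul_eq_zero.mp this with h | h
    · left; omega
    · right; omega
  refine ⟨c η₀, η₀, hε, ?_⟩
  have hexp := classFunction_expansion θ hcl
  rw [Finset.sum_eq_single η₀ (fun η _ hne => by rw [hc, hothers η hne, Int.cast_zero, zero_smul])
    (fun h => absurd (Finset.mem_univ _) h), hc] at hexp
  exact hexp

theorem classInner_sub_right'' {G : Type*} [Group G] [Fintype G] (f g h : G → ℂ) :
    Cfsg.classInner f (g - h) = Cfsg.classInner f g - Cfsg.classInner f h := by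
  simp only [Cfsg.classInner, Pi.sub_apply, map_sub, mul_sub, Finset.sum_sub_distrib]

theorem classInner_sum_right'' {G : Type*} [Group G] [Fintype G] {ι : Type*} (s : Finset ι)
    (f : G → ℂ) (h : ι → G → ℂ) :
    Cfsg.classInner f (∑ i ∈ s, h i) = ∑ i ∈ s, Cfsg.classInner f (h i) := by
  classical
  induction s using Finset.induction_on with
  | empty =>
    simp [Cfsg.classInner]
  | insert a s ha ih =>
    rw [Finset.sum_insert ha, Finset.sum_insert ha, ← ih]
    simp only [Cfsg.classInner, Pi.add_apply, map_add, mul_add, Finset.sum_add_distrib]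

/-- the inner product of two generalized characters is an integer -/
theorem genChar_inner_genChar_int {G : Type*} [Group G] [Fintype G] (θ φ : G → ℂ)
    (hθ : Cfsg.IsGeneralizedCharacter G θ) (hφ : Cfsg.IsGeneralizedCharacter G φ) :
    ∃ z : ℤ, Cfsg.classInner θ φ = (z : ℂ) := by
  obtain ⟨χ, ψ, hχ, hψ, rfl⟩ := hθ
  obtain ⟨χ', ψ', hχ', hψ', rfl⟩ := hφ
  obtain ⟨a, ha⟩ := classInner_character_nat hχ hχ'
  obtain ⟨b, hb⟩ := classInner_character_nat hχ hψ'
  obtain ⟨c, hc⟩ := classInner_character_nat hψ hχ'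
  obtain ⟨d, hd⟩ := classInner_character_nat hψ hψ'
  refine ⟨(a : ℤ) - b - c + d, ?_⟩
  rw [Cfsg.Agent.Lib.Helper25.classInner_sub_left, classInner_sub_right'',
    classInner_sub_right'', ha, hb, hc, hd]
  push_cast
  ring

/-- a generalized character of norm two vanishing at the identity is a difference of two
distinct irreducible characters -/
theorem genChar_norm_two {G : Type*} [Group G] [Fintype G] (θ : G → ℂ)
    (hθ : Cfsg.IsGeneralizedCharacter G θ) (h2 : Cfsg.classInner θ θ = 2) (h0 : θ 1 = 0) :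
    ∃ (η₁ η₂ : Cfsg.IrrCharacter G), η₁ ≠ η₂ ∧ θ = (η₁ : G → ℂ) - (η₂ : G → ℂ) := by
  classical
  have : Fintype (Cfsg.IrrCharacter G) := Fintype.ofFinite _
  have hcl := genChar_classFunction θ hθ
  have hc := fun η => genChar_inner_int θ hθ η
  choose c hc using hc
  have hpar := classInner_parseval θ hcl
  rw [h2] at hpar
  simp only [hc, map_intCast] at hpar
  have hpar' : ∑ η : Cfsg.IrrCharacter G, c η * c η = 2 := by
    have : ((∑ η : Cfsg.IrrCharacter G, c η * c η : ℤ) : ℂ) = 2 := by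
      rw [hpar]
      push_cast
      rfl
    exact_mod_cast this
  have hex : ∃ η₁, c η₁ ≠ 0 := by
    by_contra hcon
    push Not at hcon
    simp only [hcon, mul_zero, Finset.sum_const_zero] at hpar'
    exact absurd hpar' (by norm_num)
  obtain ⟨η₁, hη₁⟩ := hex
  have hsplit : c η₁ * c η₁ + ∑ η ∈ Finset.univ.erase η₁, c η * c η = 2 := by
    exact (Finset.add_sum_erase _ (fun η => c η * c η) (Finset.mem_univ η₁)).trans hpar'
  have hnn : 0 ≤ ∑ η ∈ Finset.univ.erase η₁, c η * c η :=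
    Finset.sum_nonneg (fun i _ => mul_self_nonneg _)
  have hsq1 : c η₁ * c η₁ = 1 := by
    have hpos : 0 < c η₁ * c η₁ := mul_self_pos.mpr hη₁
    have hle : c η₁ * c η₁ ≤ 2 := by omega
    by_contra hne
    have h2' : c η₁ * c η₁ = 2 := by omega
    have : c η₁ < 2 ∧ -2 < c η₁ := by
      constructor <;> nlinarith
    have h3 : c η₁ = 1 ∨ c η₁ = -1 ∨ c η₁ = 0 := by omega
    rcases h3 with h | h | h <;> rw [h] at h2' <;> norm_num at h2'
  have hrest : ∑ η ∈ Finset.univ.erase η₁, c η * c η = 1 := by omega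
  have hex2 : ∃ η₂ ∈ Finset.univ.erase η₁, c η₂ ≠ 0 := by
    by_contra hcon
    push Not at hcon
    rw [Finset.sum_eq_zero (fun η hη => by rw [hcon η hη, mul_zero])] at hrest
    exact absurd hrest (by norm_num)
  obtain ⟨η₂, hη₂mem, hη₂⟩ := hex2
  have hne : η₂ ≠ η₁ := (Finset.mem_erase.mp hη₂mem).1
  have hsplit2 : c η₂ * c η₂ + ∑ η ∈ (Finset.univ.erase η₁).erase η₂, c η * c η = 1 := by
    exact (Finset.add_sum_erase _ (fun η => c η * c η) hη₂mem).trans hrest
  have hnn2 : 0 ≤ ∑ η ∈ (Finset.univ.erase η₁).erase η₂, c η * c η :=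
    Finset.sum_nonneg (fun i _ => mul_self_nonneg _)
  have hsq2 : c η₂ * c η₂ = 1 := by
    have hpos : 0 < c η₂ * c η₂ := mul_self_pos.mpr hη₂
    omega
  have hrest2 : ∑ η ∈ (Finset.univ.erase η₁).erase η₂, c η * c η = 0 := by omega
  have hothers : ∀ η, η ≠ η₁ → η ≠ η₂ → c η = 0 := by
    intro η h1 h2'
    have hmem : η ∈ (Finset.univ.erase η₁).erase η₂ :=
      Finset.mem_erase.mpr ⟨h2', Finset.mem_erase.mpr ⟨h1, Finset.mem_univ _⟩⟩
    have := (Finset.sum_eq_zero_iff_of_nonneg (fun i _ => mul_self_nonneg (c i))).mp hrest2 η hmem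
    exact mul_self_eq_zero.mp this
  have hexp := classFunction_expansion θ hcl
  have hsum : θ = (c η₁ : ℂ) • (η₁ : G → ℂ) + (c η₂ : ℂ) • (η₂ : G → ℂ) := by
    rw [hexp]
    rw [← Finset.add_sum_erase _ (fun χ : Cfsg.IrrCharacter G =>
        Cfsg.classInner θ (χ : G → ℂ) • (χ : G → ℂ)) (Finset.mem_univ η₁),
      ← Finset.add_sum_erase _ (fun χ : Cfsg.IrrCharacter G =>
        Cfsg.classInner θ (χ : G → ℂ) • (χ : G → ℂ)) hη₂mem]
    rw [Finset.sum_eq_zero, add_zero, hc, hc]
    intro η hη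
    obtain ⟨h2', h1'⟩ := Finset.mem_erase.mp hη
    rw [hc, hothers η (Finset.mem_erase.mp h1').1 h2', Int.cast_zero, zero_smul]
  have hpm : ∀ z : ℤ, z * z = 1 → z = 1 ∨ z = -1 := by
    intro z hz
    have : (z - 1) * (z + 1) = 0 := by
      have : (z - 1) * (z + 1) = z * z - 1 := by ring
      rw [this, hz]
      rfl
    rcases mul_eq_zero.mp this with h | h
    · left; omega
    · right; omega
  obtain ⟨d₁, hd₁, he₁⟩ := irr_one_eq_finrank η₁
  obtain ⟨d₂, hd₂, he₂⟩ := irr_one_eq_finrank η₂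
  have hval : (c η₁ : ℤ) * d₁ + c η₂ * d₂ = 0 := by
    have h := congrFun hsum 1
    rw [h0] at h
    simp only [Pi.add_apply, Pi.smul_apply, smul_eq_mul, he₁, he₂] at h
    have : (((c η₁ : ℤ) * d₁ + c η₂ * d₂ : ℤ) : ℂ) = 0 := by
      push_cast
      exact h.symm
    exact_mod_cast this
  have hd₁' : (0 : ℤ) < d₁ := by exact_mod_cast hd₁
  have hd₂' : (0 : ℤ) < d₂ := by exact_mod_cast hd₂
  rcases hpm _ hsq1 with e1 | e1 <;> rcases hpm _ hsq2 with e2 | e2
  · rw [e1, e2] at hval; omega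
  · refine ⟨η₁, η₂, Ne.symm hne, ?_⟩
    rw [hsum, e1, e2]
    simp [sub_eq_add_neg]
  · refine ⟨η₂, η₁, hne, ?_⟩
    rw [hsum, e1, e2]
    simp [sub_eq_add_neg, add_comm]
  · rw [e1, e2] at hval; omega

end Cfsg.Agent.Lib.Helper11
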