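import Mathlib
import Cfsg.Prelude.Def_Characters
import Cfsg.Agent.Lib.Helper11.IndNormal
import Cfsg.Agent.Lib.Helper11.VirtChar
import Cfsg.Agent.Lib.helper2.CharInd

set_option autoImplicit false
open scoped ComplexConjugate

namespace Cfsg.Agent.Lib.Helper11

open Cfsg.Agent.Lib.helper7 Cfsg.Agent.Lib.Helper25 Cfsg.Agent.Lib.helper2

/-- restriction of a function on `T` to `H ≤ T` -/
def resTo {G : Type*} [Group G] {H T : Subgroup G} (hHT : H ≤ T) (ξ : T → ℂ) : H → ℂ :=
  fun h => ξ ⟨h, hHT h.2⟩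

theorem isCharacter_resTo {G : Type*} [Group G] {H T : Subgroup G} (hHT : H ≤ T) (ξ : T → ℂ)
    (hξ : Cfsg.IsCharacter T ξ) : Cfsg.IsCharacter H (resTo hHT ξ) :=
  isCharacter_comp_hom hξ (Subgroup.inclusion hHT)

/-- transport of a function on `H` to `H.subgroupOf T` -/
def toSub {G : Type*} [Group G] (H T : Subgroup G) (θ : H → ℂ) : ↥(H.subgroupOf T) → ℂ :=
  fun x => θ ⟨(x : T), Subgroup.mem_subgroupOf.mp x.2⟩

theorem toSub_resTo {G : Type*} [Group G] {H T : Subgroup G} (hHT : H ≤ T) (ξ : T → ℂ) :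
    toSub H T (resTo hHT ξ) = fun x : ↥(H.subgroupOf T) => ξ x := rfl

theorem classInner_toSub {G : Type*} [Group G] {H T : Subgroup G} (hHT : H ≤ T) [Fintype H]
    [Fintype ↥(H.subgroupOf T)] (a b : H → ℂ) :
    Cfsg.classInner (toSub H T a) (toSub H T b) = Cfsg.classInner a b := by
  unfold Cfsg.classInner
  have hcard : Nat.card ↥(H.subgroupOf T) = Nat.card H :=
    Nat.card_congr (Subgroup.subgroupOfEquivOfLe hHT).toEquiv
  rw [hcard]
  congr 1
  exact Equiv.sum_comp (Subgroup.subgroupOfEquivOfLe hHT).toEquiv (fun h => a h * conj (b h))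

theorem isIrr_toSub {G : Type*} [Group G] {H T : Subgroup G} (hHT : H ≤ T) (θ : H → ℂ)
    (hθ : Cfsg.IsIrrCharacter H θ) : Cfsg.IsIrrCharacter ↥(H.subgroupOf T) (toSub H T θ) := by
  obtain ⟨n, ρ, hρ, hχ⟩ := hθ
  refine ⟨n, (ρ.comp (Subgroup.subgroupOfEquivOfLe hHT).toMonoidHom :
    Representation ℂ ↥(H.subgroupOf T) (Fin n → ℂ)),
    isIrreducible_comp_equiv ρ (Subgroup.subgroupOfEquivOfLe hHT), ?_⟩
  funext x
  rw [← hχ]
  rfl

theorem cj_toSub {G : Type*} [Group G] (H T : Subgroup G) [hN : H.Normal] (θ : H → ℂ) (t : T) :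
    cj (H.subgroupOf T) (toSub H T θ) t = toSub H T (cj H θ (t : G)) := rfl

/-- Frobenius reciprocity for induction from `H.subgroupOf T` to `T`, in terms of `H` -/
theorem frobenius_toSub {G : Type*} [Group G] {H T : Subgroup G} (hHT : H ≤ T) [Fintype T]
    [Fintype H] (θ : H → ℂ) (ξ : T → ℂ) (hξ : Cfsg.IsClassFunction T ξ) :
    Cfsg.classInner (Cfsg.indFun (H.subgroupOf T) (toSub H T θ)) ξ =
      Cfsg.classInner θ (resTo hHT ξ) := by
  classical
  have : Fintype ↥(H.subgroupOf T) := Fintype.ofFinite _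
  rw [h7_frobenius_reciprocity (H.subgroupOf T) (toSub H T θ) ξ hξ, ← toSub_resTo hHT ξ,
    classInner_toSub hHT]

/-- Clifford: two irreducible constituents of the restriction of an irreducible character to a
normal subgroup are conjugate -/
theorem clifford_conj {K : Type*} [Group K] [Fintype K] (N : Subgroup K) [hN : N.Normal]
    [Fintype N] (η : K → ℂ) (hη : Cfsg.IsIrrCharacter K η) (φ φ' : N → ℂ)
    (hφ : Cfsg.IsIrrCharacter N φ) (hφ' : Cfsg.IsIrrCharacter N φ')
    (h1 : Cfsg.classInner (fun n : N => η n) φ ≠ 0)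
    (h2 : Cfsg.classInner (fun n : N => η n) φ' ≠ 0) : ∃ k : K, φ' = cj N φ k := by
  classical
  by_contra hne
  have : Fintype (Cfsg.IrrCharacter K) := Fintype.ofFinite _
  have h0 := classInner_indFun_of_not_conj N φ φ' hφ hφ' hne
  have hcl : Cfsg.IsClassFunction K η := fun g h => irr_conj_invariant ⟨η, hη⟩ g h
  obtain ⟨b, hb, hexp⟩ := isCharacter_expansion
    (isCharacter_indFun N φ' (isCharacter_of_irr ⟨φ', hφ'⟩))
  obtain ⟨a, ha, -⟩ := isCharacter_expansion
    (isCharacter_indFun N φ (isCharacter_of_irr ⟨φ, hφ⟩))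
  rw [hexp, classInner_sum_left'] at h0
  have h3 : ∀ ξ : Cfsg.IrrCharacter K,
      Cfsg.classInner ((b ξ : ℂ) • (ξ : K → ℂ)) (Cfsg.indFun N φ) = ((b ξ * a ξ : ℕ) : ℂ) := by
    intro ξ
    rw [classInner_smul_left', Cfsg.Agent.Lib.helper2.classInner_symm_of_nat _ _ _ (ha ξ)]
    push_cast
    rfl
  simp only [h3] at h0
  have h4 : ∑ ξ : Cfsg.IrrCharacter K, b ξ * a ξ = 0 := by
    have : ((∑ ξ : Cfsg.IrrCharacter K, b ξ * a ξ : ℕ) : ℂ) = 0 := by
      push_cast
      push_cast at h0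
      exact h0
    exact_mod_cast this
  have h5 := (Finset.sum_eq_zero_iff.mp h4) ⟨η, hη⟩ (Finset.mem_univ _)
  have ha' : a ⟨η, hη⟩ ≠ 0 := by
    intro hz
    have := ha ⟨η, hη⟩
    rw [hz, h7_frobenius_reciprocity N φ η hcl, Cfsg.Agent.Lib.Helper11.classInner_conj_symm] at this
    simp only [Nat.cast_zero] at this
    apply h1
    have h6 := congrArg conj this
    simpa using h6
  have hb' : b ⟨η, hη⟩ ≠ 0 := by
    intro hz
    have := hb ⟨η, hη⟩
    rw [hz, h7_frobenius_reciprocity N φ' η hcl, Cfsg.Agent.Lib.Helper11.classInner_conj_symm] at this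
    simp only [Nat.cast_zero] at this
    apply h2
    have h6 := congrArg conj this
    simpa using h6
  rcases Nat.mul_eq_zero.mp h5 with h | h
  · exact hb' h
  · exact ha' h

/-- Clifford inside a subgroup `T` containing the normal subgroup `H` of `G` -/
theorem clifford_conj_sub {G : Type*} [Group G] {H T : Subgroup G} [hN : H.Normal] (hHT : H ≤ T)
    [Fintype T] [Fintype H] (η : T → ℂ) (hη : Cfsg.IsIrrCharacter T η) (φ φ' : H → ℂ)
    (hφ : Cfsg.IsIrrCharacter H φ) (hφ' : Cfsg.IsIrrCharacter H φ')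
    (h1 : Cfsg.classInner (resTo hHT η) φ ≠ 0)
    (h2 : Cfsg.classInner (resTo hHT η) φ' ≠ 0) : ∃ t ∈ T, φ' = cj H φ t := by
  classical
  have : Fintype ↥(H.subgroupOf T) := Fintype.ofFinite _
  have hnorm : (H.subgroupOf T).Normal := Subgroup.normal_subgroupOf
  have h1' : Cfsg.classInner (fun n : ↥(H.subgroupOf T) => η n) (toSub H T φ) ≠ 0 := by
    rw [← toSub_resTo hHT η, classInner_toSub hHT]
    exact h1
  have h2' : Cfsg.classInner (fun n : ↥(H.subgroupOf T) => η n) (toSub H T φ') ≠ 0 := by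
    rw [← toSub_resTo hHT η, classInner_toSub hHT]
    exact h2
  obtain ⟨k, hk⟩ := clifford_conj (H.subgroupOf T) η hη (toSub H T φ) (toSub H T φ')
    (isIrr_toSub hHT φ hφ) (isIrr_toSub hHT φ' hφ') h1' h2'
  refine ⟨k, k.2, ?_⟩
  rw [cj_toSub] at hk
  funext h
  have := congrFun hk ⟨⟨h, hHT h.2⟩, Subgroup.mem_subgroupOf.mpr h.2⟩
  exact this

theorem classInner_cj_cj {G : Type*} [Group G] (H : Subgroup G) [hN : H.Normal] [Fintype H]
    (a b : H → ℂ) (g : G) :
    Cfsg.classInner (cj H a g) (cj H b g) = Cfsg.classInner a b := by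
  unfold Cfsg.classInner
  congr 1
  exact Equiv.sum_comp (MulAut.conjNormal g : H ≃* H).toEquiv (fun h => a h * conj (b h))

theorem cj_res_of_classFunction {G : Type*} [Group G] (H : Subgroup G) [hN : H.Normal]
    (χ : G → ℂ) (hχ : Cfsg.IsClassFunction G χ) (g : G) :
    cj H (fun h : H => χ h) g = fun h : H => χ h := by
  funext h
  rw [cj_apply]
  exact hχ h g

theorem card_orbit_mul {G : Type*} [Group G] [Fintype G] (H : Subgroup G) [hN : H.Normal]
    (θ : H → ℂ) [DecidableEq (H → ℂ)] :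
    (Finset.univ.image (fun g : G => cj H θ g)).card *
      Nat.card {g : G // ∀ h : H, cj H θ g h = θ h} = Nat.card G := by
  have h1 := Finset.card_eq_sum_card_fiberwise (f := fun g : G => cj H θ g)
    (s := Finset.univ) (t := Finset.univ.image (fun g : G => cj H θ g))
    (fun x _ => Finset.mem_coe.mpr (Finset.mem_image_of_mem _ (Finset.mem_univ x)))
  rw [Nat.card_eq_fintype_card (α := G), ← Finset.card_univ, h1]
  have h2 : ∀ ψ ∈ Finset.univ.image (fun g : G => cj H θ g),
      (Finset.univ.filter (fun a : G => cj H θ a = ψ)).card =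
        Nat.card {g : G // ∀ h : H, cj H θ g h = θ h} := by
    intro ψ hψ
    obtain ⟨g₀, -, rfl⟩ := Finset.mem_image.mp hψ
    exact card_fiber_cj H θ g₀
  rw [Finset.sum_congr rfl h2, Finset.sum_const, smul_eq_mul]

/-- the degree of a character of `G` is at least (multiplicity of `θ`) × (orbit size) × `θ 1` -/
theorem orbit_degree_bound {G : Type*} [Group G] [Fintype G] (H : Subgroup G) [hN : H.Normal]
    [Fintype H] (χ : G → ℂ) (hχ : Cfsg.IsCharacter G χ) (θ : H → ℂ)
    (hθ : Cfsg.IsIrrCharacter H θ) (f dχ dθ : ℕ)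
    (hf : Cfsg.classInner (fun h : H => χ h) θ = (f : ℂ)) (h1 : χ 1 = (dχ : ℂ))
    (h2 : θ 1 = (dθ : ℂ)) :
    f * dθ * Nat.card G ≤ dχ * Nat.card {g : G // ∀ h : H, cj H θ g h = θ h} := by
  classical
  have : Fintype (Cfsg.IrrCharacter H) := Fintype.ofFinite _
  obtain ⟨m, hm, hexp⟩ := isCharacter_expansion (isCharacter_restrict hχ H)
  have hd : ∀ φ : Cfsg.IrrCharacter H, ∃ d : ℕ, (φ : H → ℂ) 1 = (d : ℂ) := by
    intro φ
    obtain ⟨n, _, h⟩ := irr_one_eq_finrank φ
    exact ⟨n, h⟩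
  choose d hd using hd
  have hdχ : dχ = ∑ φ : Cfsg.IrrCharacter H, m φ * d φ := by
    have h3 : (dχ : ℂ) = ((∑ φ : Cfsg.IrrCharacter H, m φ * d φ : ℕ) : ℂ) := by
      rw [← h1]
      have := congrFun hexp 1
      simp only [Subgroup.coe_one] at this
      rw [this]
      simp only [Finset.sum_apply, Pi.smul_apply, smul_eq_mul, hd]
      push_cast
      rfl
    exact_mod_cast h3
  set O : Finset (Cfsg.IrrCharacter H) :=
    Finset.univ.filter (fun φ => ∃ g : G, (φ : H → ℂ) = cj H θ g) with hO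
  have hOm : ∀ φ ∈ O, m φ * d φ = f * dθ := by
    intro φ hφ
    obtain ⟨g, hg⟩ := (Finset.mem_filter.mp hφ).2
    have e1 : m φ = f := by
      have := hm φ
      rw [hg, ← cj_res_of_classFunction H χ (isCharacter_isClassFunction hχ) g,
        classInner_cj_cj, hf] at this
      exact_mod_cast this.symm
    have e2 : d φ = dθ := by
      have := hd φ
      rw [hg, cj_apply] at this
      have e3 : (⟨g * ((1 : H) : G) * g⁻¹, hN.conj_mem _ (1 : H).2 g⟩ : H) = 1 := by
        apply Subtype.ext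
        simp
      rw [e3, h2] at this
      exact_mod_cast this.symm
    rw [e1, e2]
  have hOcard : O.card = (Finset.univ.image (fun g : G => cj H θ g)).card := by
    have : Finset.univ.image (fun g : G => cj H θ g) = O.image Subtype.val := by
      ext ψ
      simp only [Finset.mem_image, Finset.mem_univ, true_and, hO, Finset.mem_filter]
      constructor
      · rintro ⟨g, rfl⟩
        exact ⟨⟨cj H θ g, isIrr_cj H θ hθ g⟩, ⟨g, rfl⟩, rfl⟩
      · rintro ⟨φ, ⟨g, hg⟩, rfl⟩
        exact ⟨g, hg.symm⟩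
    rw [this, Finset.card_image_of_injective _ Subtype.val_injective]
  have hsum : O.card * (f * dθ) ≤ dχ := by
    rw [hdχ, ← smul_eq_mul, ← Finset.sum_const]
    rw [← Finset.sum_congr rfl hOm]
    exact Finset.sum_le_sum_of_subset (Finset.subset_univ O)
  have hcard := card_orbit_mul H θ
  rw [← hOcard] at hcard
  calc f * dθ * Nat.card G = f * dθ * (O.card *
        Nat.card {g : G // ∀ h : H, cj H θ g h = θ h}) := by rw [hcard]
    _ = (O.card * (f * dθ)) * Nat.card {g : G // ∀ h : H, cj H θ g h = θ h} := by ring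
    _ ≤ dχ * Nat.card {g : G // ∀ h : H, cj H θ g h = θ h} := Nat.mul_le_mul_right _ hsum

end Cfsg.Agent.Lib.Helper11
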