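import Mathlib
import Cfsg.Prelude.Def_Characters
import Cfsg.Agent.Lib.Helper11.Clifford

set_option autoImplicit false
open scoped ComplexConjugate

namespace Cfsg.Agent.Lib.Helper11

open Cfsg.Agent.Lib.helper7

theorem extendByZero_toSub {G : Type*} [Group G] (H T : Subgroup G) (θ : H → ℂ) (t : T) :
    Cfsg.extendByZero (H.subgroupOf T) (toSub H T θ) t = Cfsg.extendByZero H θ (t : G) := by
  by_cases ht : (t : G) ∈ H
  · have ht' : t ∈ H.subgroupOf T := Subgroup.mem_subgroupOf.mpr ht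
    rw [h7_extendByZero_mem _ _ _ ht', h7_extendByZero_mem _ _ _ ht]
    rfl
  · have ht' : t ∉ H.subgroupOf T := fun h => ht (Subgroup.mem_subgroupOf.mp h)
    rw [h7_extendByZero_not_mem _ _ _ ht', h7_extendByZero_not_mem _ _ _ ht]

theorem extendByZero_indFun_toSub {G : Type*} [Group G] {H T : Subgroup G} (hHT : H ≤ T)
    [Fintype T] (θ : H → ℂ) (y : G) :
    Cfsg.extendByZero T (Cfsg.indFun (H.subgroupOf T) (toSub H T θ)) y =
      (Nat.card H : ℂ)⁻¹ * ∑ s : T, Cfsg.extendByZero H θ ((s : G)⁻¹ * y * (s : G)) := by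
  have hcard : Nat.card ↥(H.subgroupOf T) = Nat.card H :=
    Nat.card_congr (Subgroup.subgroupOfEquivOfLe hHT).toEquiv
  by_cases hy : y ∈ T
  · rw [h7_extendByZero_mem _ _ _ hy]
    unfold Cfsg.indFun
    rw [hcard]
    congr 1
    apply Finset.sum_congr rfl
    intro s _
    rw [extendByZero_toSub]
    rfl
  · rw [h7_extendByZero_not_mem _ _ _ hy, Finset.sum_eq_zero, mul_zero]
    intro s _
    apply h7_extendByZero_not_mem
    intro h
    apply hy
    have h1 : (s : G)⁻¹ * y * (s : G) ∈ T := hHT h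
    have h2 := T.mul_mem (T.mul_mem s.2 h1) (T.inv_mem s.2)
    simpa [mul_assoc] using h2

/-- transitivity of induction -/
theorem indFun_trans {G : Type*} [Group G] [Fintype G] {H T : Subgroup G} (hHT : H ≤ T)
    [Fintype T] (θ : H → ℂ) :
    Cfsg.indFun T (Cfsg.indFun (H.subgroupOf T) (toSub H T θ)) = Cfsg.indFun H θ := by
  funext g
  have hTne : (Nat.card T : ℂ) ≠ 0 := by exact_mod_cast Nat.card_pos.ne'
  change (Nat.card T : ℂ)⁻¹ * ∑ x : G, Cfsg.extendByZero T
      (Cfsg.indFun (H.subgroupOf T) (toSub H T θ)) (x⁻¹ * g * x) =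
    (Nat.card H : ℂ)⁻¹ * ∑ x : G, Cfsg.extendByZero H θ (x⁻¹ * g * x)
  simp only [extendByZero_indFun_toSub hHT]
  rw [← Finset.mul_sum, Finset.sum_comm]
  have h1 : ∀ s : T, ∑ x : G, Cfsg.extendByZero H θ ((s : G)⁻¹ * (x⁻¹ * g * x) * (s : G)) =
      ∑ x : G, Cfsg.extendByZero H θ (x⁻¹ * g * x) := by
    intro s
    rw [← Equiv.sum_comp (Equiv.mulRight (s : G)) (fun x => Cfsg.extendByZero H θ (x⁻¹ * g * x))]
    apply Finset.sum_congr rfl
    intro x _
    congr 1
    simp [mul_assoc]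
  rw [Finset.sum_congr rfl (fun s _ => h1 s), Finset.sum_const, Finset.card_univ,
    ← Nat.card_eq_fintype_card, nsmul_eq_mul]
  field_simp

theorem extendByZero_smul {G : Type*} [Group G] (H : Subgroup G) (c : ℂ) (θ : H → ℂ) (y : G) :
    Cfsg.extendByZero H (c • θ) y = c * Cfsg.extendByZero H θ y := by
  by_cases hy : y ∈ H
  · rw [h7_extendByZero_mem H _ _ hy, h7_extendByZero_mem H _ _ hy]
    rfl
  · rw [h7_extendByZero_not_mem H _ _ hy, h7_extendByZero_not_mem H _ _ hy, mul_zero]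

theorem extendByZero_add {G : Type*} [Group G] (H : Subgroup G) (θ φ : H → ℂ) (y : G) :
    Cfsg.extendByZero H (θ + φ) y = Cfsg.extendByZero H θ y + Cfsg.extendByZero H φ y := by
  by_cases hy : y ∈ H
  · rw [h7_extendByZero_mem H _ _ hy, h7_extendByZero_mem H _ _ hy, h7_extendByZero_mem H _ _ hy]
    rfl
  · rw [h7_extendByZero_not_mem H _ _ hy, h7_extendByZero_not_mem H _ _ hy,
      h7_extendByZero_not_mem H _ _ hy, add_zero]

theorem indFun_smul {G : Type*} [Group G] [Fintype G] (H : Subgroup G) (c : ℂ) (θ : H → ℂ) :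
    Cfsg.indFun H (c • θ) = c • Cfsg.indFun H θ := by
  funext u
  unfold Cfsg.indFun
  simp only [extendByZero_smul, Pi.smul_apply, smul_eq_mul, ← Finset.mul_sum]
  ring

theorem indFun_add {G : Type*} [Group G] [Fintype G] (H : Subgroup G) (θ φ : H → ℂ) :
    Cfsg.indFun H (θ + φ) = Cfsg.indFun H θ + Cfsg.indFun H φ := by
  funext u
  unfold Cfsg.indFun
  simp only [extendByZero_add, Pi.add_apply, Finset.sum_add_distrib]
  ring

theorem indFun_zero' {G : Type*} [Group G] [Fintype G] (H : Subgroup G) :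
    Cfsg.indFun H (0 : H → ℂ) = 0 := by
  have := indFun_smul H 0 (0 : H → ℂ)
  rw [zero_smul, zero_smul] at this
  exact this

theorem indFun_sum {G : Type*} [Group G] [Fintype G] (H : Subgroup G) {ι : Type*}
    (s : Finset ι) (f : ι → H → ℂ) :
    Cfsg.indFun H (∑ i ∈ s, f i) = ∑ i ∈ s, Cfsg.indFun H (f i) := by
  classical
  induction s using Finset.induction_on with
  | empty => simp [indFun_zero']
  | insert a s ha ih => rw [Finset.sum_insert ha, Finset.sum_insert ha, indFun_add, ih]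

end Cfsg.Agent.Lib.Helper11
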