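import Mathlib
import Cfsg.Agent.Lib.Helper11.LinChar

set_option autoImplicit false
open scoped ComplexConjugate

namespace Cfsg.Agent.Lib.Helper11

/-- linear characters of a finite abelian group separate a subgroup from its complement -/
theorem exists_linChar_ne_one {W : Type*} [Group W] [Finite W]
    (hcomm : ∀ a b : W, a * b = b * a) (H : Subgroup W) (x : W) (hx : x ∉ H) :
    ∃ φ : W →* ℂˣ, (∀ y ∈ H, φ y = 1) ∧ φ x ≠ 1 := by
  letI : CommGroup W := { (inferInstance : Group W) with mul_comm := hcomm }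
  have := (CommGroup.forall_monoidHom_apply_eq_one_iff ℂ H x).not.mpr hx
  push Not at this
  exact this

/-- the subgroup of linear characters trivial on `H` -/
def annih {W : Type*} [Group W] (H : Subgroup W) : Subgroup (W →* ℂˣ) where
  carrier := {φ | ∀ y ∈ H, φ y = 1}
  mul_mem' := by
    intro a b ha hb y hy
    rw [MonoidHom.mul_apply, ha y hy, hb y hy, mul_one]
  one_mem' := by
    intro y _
    rfl
  inv_mem' := by
    intro a ha y hy
    rw [MonoidHom.inv_apply, ha y hy, inv_one]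

theorem mem_annih {W : Type*} [Group W] (H : Subgroup W) (φ : W →* ℂˣ) :
    φ ∈ annih H ↔ ∀ y ∈ H, φ y = 1 := Iff.rfl

theorem sum_annih {W : Type*} [Group W] [Finite W]
    (hcomm : ∀ a b : W, a * b = b * a) (H : Subgroup W) [Fintype ↥(annih H)] (u : W)
    [Decidable (u ∈ H)] :
    ∑ φ : ↥(annih H), (((φ : W →* ℂˣ) u : ℂˣ) : ℂ) =
      if u ∈ H then (Fintype.card ↥(annih H) : ℂ) else 0 := by
  split_ifs with hu
  · have : ∀ φ : ↥(annih H), (((φ : W →* ℂˣ) u : ℂˣ) : ℂ) = 1 := by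
      intro φ
      rw [φ.2 u hu, Units.val_one]
    simp only [this, Finset.sum_const, Finset.card_univ, nsmul_eq_mul, mul_one]
  · obtain ⟨φ₀, h1, h2⟩ := exists_linChar_ne_one hcomm H u hu
    have := sum_hom_units_eq_zero
      ((Units.coeHom ℂ).comp (((MonoidHom.eval (N := ℂˣ)) u).comp (annih H).subtype)) (by
      intro h
      apply h2
      have h3 := DFunLike.congr_fun h ⟨φ₀, h1⟩
      simpa using h3)
    simpa using this

theorem linChar_conj' {W : Type*} [Group W] [Finite W] (η : W →* ℂˣ) (w : W) :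
    conj (η w : ℂ) = ((η w⁻¹ : ℂˣ) : ℂ) := by
  rw [linChar_conj, map_inv]

theorem betaFun_eq_mul {W : Type*} [Group W] (φ ψ : W →* ℂˣ) (w : W) :
    betaFun φ ψ w = (1 - (φ w : ℂ)) * (1 - (ψ w : ℂ)) := by
  unfold betaFun
  ring

theorem sum_annih_conj {W : Type*} [Group W] [Finite W]
    (hcomm : ∀ a b : W, a * b = b * a) (H : Subgroup W) [Fintype ↥(annih H)] (v w : W)
    (hv : v ∉ H) [Decidable (v⁻¹ * w ∈ H)] :
    ∑ φ : ↥(annih H), conj (((φ : W →* ℂˣ) v : ℂˣ) : ℂ) * (1 - (((φ : W →* ℂˣ) w : ℂˣ) : ℂ)) =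
      if v⁻¹ * w ∈ H then - (Fintype.card ↥(annih H) : ℂ) else 0 := by
  classical
  have h1 : ∀ φ : ↥(annih H),
      conj (((φ : W →* ℂˣ) v : ℂˣ) : ℂ) * (1 - (((φ : W →* ℂˣ) w : ℂˣ) : ℂ)) =
      (((φ : W →* ℂˣ) v⁻¹ : ℂˣ) : ℂ) - (((φ : W →* ℂˣ) (v⁻¹ * w) : ℂˣ) : ℂ) := by
    intro φ
    rw [linChar_conj', map_mul, Units.val_mul]
    ring
  simp only [h1, Finset.sum_sub_distrib]
  rw [sum_annih hcomm H v⁻¹, sum_annih hcomm H (v⁻¹ * w)]
  have hv' : v⁻¹ ∉ H := fun h => hv (by simpa using H.inv_mem h)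
  rw [if_neg hv']
  split_ifs <;> simp

/-- the kernel identity: a signed combination of the `(1-φ)(1-ψ)` is a delta function -/
theorem sum_conj_betaFun {W : Type*} [Group W] [Finite W]
    (hcomm : ∀ a b : W, a * b = b * a) (H₁ H₂ : Subgroup W) (hdisj : H₁ ⊓ H₂ = ⊥)
    [Fintype ↥(annih H₁)] [Fintype ↥(annih H₂)] (v w : W) (hv1 : v ∉ H₁) (hv2 : v ∉ H₂)
    [Decidable (w = v)] :
    ∑ φ : ↥(annih H₂), ∑ ψ : ↥(annih H₁),
      (conj (((φ : W →* ℂˣ) v : ℂˣ) : ℂ) * conj (((ψ : W →* ℂˣ) v : ℂˣ) : ℂ)) *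
        betaFun (φ : W →* ℂˣ) (ψ : W →* ℂˣ) w =
      if w = v then (Fintype.card ↥(annih H₂) : ℂ) * (Fintype.card ↥(annih H₁) : ℂ) else 0 := by
  classical
  have h1 : ∀ (φ : ↥(annih H₂)) (ψ : ↥(annih H₁)),
      (conj (((φ : W →* ℂˣ) v : ℂˣ) : ℂ) * conj (((ψ : W →* ℂˣ) v : ℂˣ) : ℂ)) *
        betaFun (φ : W →* ℂˣ) (ψ : W →* ℂˣ) w =
      (conj (((φ : W →* ℂˣ) v : ℂˣ) : ℂ) * (1 - (((φ : W →* ℂˣ) w : ℂˣ) : ℂ))) *
      (conj (((ψ : W →* ℂˣ) v : ℂˣ) : ℂ) * (1 - (((ψ : W →* ℂˣ) w : ℂˣ) : ℂ))) := by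
    intro φ ψ
    rw [betaFun_eq_mul]
    ring
  simp only [h1]
  rw [← Finset.sum_mul_sum, sum_annih_conj hcomm H₂ v w hv2, sum_annih_conj hcomm H₁ v w hv1]
  by_cases hwv : w = v
  · subst hwv
    rw [if_pos rfl, if_pos (by simp), if_pos (by simp)]
    ring
  · rw [if_neg hwv]
    by_cases h2 : v⁻¹ * w ∈ H₂
    · by_cases h3 : v⁻¹ * w ∈ H₁
      · exfalso
        have : v⁻¹ * w ∈ H₁ ⊓ H₂ := ⟨h3, h2⟩
        rw [hdisj, Subgroup.mem_bot, inv_mul_eq_one] at this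
        exact hwv this.symm
      · rw [if_neg h3, mul_zero]
    · rw [if_neg h2, zero_mul]

end Cfsg.Agent.Lib.Helper11
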