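import Mathlib
import Cfsg.Prelude.Def_Characters
import Cfsg.Agent.Lib.Helper11.LinCharDual
import Cfsg.Agent.Lib.Helper11.IndNormal
import Cfsg.Agent.Lib.Helper25.CharQuot
import Cfsg.Agent.Lib.helper7.CharMul
import Cfsg.Agent.Lib.helper2.CharInd
import Cfsg.Agent.Lib.helper2.CharInt

set_option autoImplicit false
open scoped ComplexConjugate

namespace Cfsg.Agent.Lib.Helper11

open Cfsg.Agent.Lib.helper7 Cfsg.Agent.Lib.helper2 Cfsg.Agent.Lib.Helper25

/-- linear characters of `K` trivial on a normal subgroup `N` with abelian quotient separate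
`N` from its complement -/
theorem exists_annih_ne_one {K : Type*} [Group K] [Finite K] (N : Subgroup K) [N.Normal]
    (hab : ∀ x y : K, x * y * x⁻¹ * y⁻¹ ∈ N) (u : K) (hu : u ∉ N) :
    ∃ φ : K →* ℂˣ, (∀ y ∈ N, φ y = 1) ∧ φ u ≠ 1 := by
  have hcomm : ∀ a b : K ⧸ N, a * b = b * a := by
    intro a b
    induction a using QuotientGroup.induction_on with
    | H a =>
      induction b using QuotientGroup.induction_on with
      | H b =>
        rw [← QuotientGroup.mk_mul, ← QuotientGroup.mk_mul, QuotientGroup.eq]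
        have := hab b⁻¹ a⁻¹
        simpa [mul_assoc] using this
  obtain ⟨φ, -, h2⟩ := exists_linChar_ne_one hcomm ⊥ (u : K ⧸ N) (by
    rw [Subgroup.mem_bot, QuotientGroup.eq_one_iff]
    exact hu)
  refine ⟨φ.comp (QuotientGroup.mk' N), ?_, h2⟩
  intro y hy
  have : (y : K ⧸ N) = 1 := (QuotientGroup.eq_one_iff y).mpr hy
  simp [this]

theorem sum_annih_of_normal {K : Type*} [Group K] [Finite K] (N : Subgroup K) [N.Normal]
    (hab : ∀ x y : K, x * y * x⁻¹ * y⁻¹ ∈ N) [Fintype ↥(annih N)] (u : K)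
    [Decidable (u ∈ N)] :
    ∑ φ : ↥(annih N), (((φ : K →* ℂˣ) u : ℂˣ) : ℂ) =
      if u ∈ N then (Fintype.card ↥(annih N) : ℂ) else 0 := by
  split_ifs with hu
  · have : ∀ φ : ↥(annih N), (((φ : K →* ℂˣ) u : ℂˣ) : ℂ) = 1 := by
      intro φ
      rw [φ.2 u hu, Units.val_one]
    simp only [this, Finset.sum_const, Finset.card_univ, nsmul_eq_mul, mul_one]
  · obtain ⟨φ₀, h1, h2⟩ := exists_annih_ne_one N hab u hu
    have := sum_hom_units_eq_zero
      ((Units.coeHom ℂ).comp (((MonoidHom.eval (N := ℂˣ)) u).comp (annih N).subtype)) (by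
      intro h
      apply h2
      have h3 := DFunLike.congr_fun h ⟨φ₀, h1⟩
      simpa using h3)
    simpa using this

/-- a linear character times an irreducible character is irreducible -/
theorem isIrr_linChar_mul {K : Type*} [Group K] [Fintype K] (φ : K →* ℂˣ) (ψ : K → ℂ)
    (hψ : Cfsg.IsIrrCharacter K ψ) :
    Cfsg.IsIrrCharacter K (fun g => ((φ g : ℂˣ) : ℂ) * ψ g) := by
  have hchar : Cfsg.IsCharacter K ((linIrr φ : K → ℂ) * ψ) :=
    h7_isCharacter_mul (isCharacter_of_irr (linIrr φ)) (isCharacter_of_irr ⟨ψ, hψ⟩)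
  have hfun : ((linIrr φ : K → ℂ) * ψ) = (fun g => ((φ g : ℂˣ) : ℂ) * ψ g) := by
    funext g
    rfl
  rw [hfun] at hchar
  apply h7_irr_of_norm_one hchar
  have h1 := irr_classInner (⟨ψ, hψ⟩ : Cfsg.IrrCharacter K) ⟨ψ, hψ⟩
  rw [if_pos rfl] at h1
  rw [← h1]
  unfold Cfsg.classInner
  congr 1
  apply Finset.sum_congr rfl
  intro g _
  simp only [map_mul]
  have : ((φ g : ℂˣ) : ℂ) * conj ((φ g : ℂˣ) : ℂ) = 1 := by
    rw [linChar_conj, ← Units.val_mul, mul_inv_cancel, Units.val_one]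
  calc ((φ g : ℂˣ) : ℂ) * ψ g * (conj ((φ g : ℂˣ) : ℂ) * conj (ψ g))
      = (((φ g : ℂˣ) : ℂ) * conj ((φ g : ℂˣ) : ℂ)) * (ψ g * conj (ψ g)) := by ring
    _ = ψ g * conj (ψ g) := by rw [this, one_mul]

/-- the character induced from the trivial character of a normal subgroup with abelian
quotient is a positive multiple of the sum of the linear characters trivial on it -/
theorem indFun_one_eq_sum_annih {K : Type*} [Group K] [Fintype K] (N : Subgroup K)
    [hN : N.Normal] (hab : ∀ x y : K, x * y * x⁻¹ * y⁻¹ ∈ N) [Fintype ↥(annih N)] :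
    Cfsg.indFun N (fun _ : N => (1 : ℂ)) =
      ((N.index : ℂ) / (Fintype.card ↥(annih N) : ℂ)) •
        ∑ φ : ↥(annih N), (fun u : K => (((φ : K →* ℂˣ) u : ℂˣ) : ℂ)) := by
  classical
  funext u
  rw [Pi.smul_apply, Finset.sum_apply, sum_annih_of_normal N hab u]
  have hcard : (Fintype.card ↥(annih N) : ℂ) ≠ 0 := by
    have : 0 < Fintype.card ↥(annih N) := Fintype.card_pos
    exact_mod_cast this.ne'
  by_cases hu : u ∈ N
  · rw [if_pos hu, smul_eq_mul, div_mul_cancel₀ _ hcard]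
    have := h7_indFun_restrict_invariant N (fun _ : N => (1 : ℂ)) (fun g => rfl) ⟨u, hu⟩
    rw [this, mul_one]
  · rw [if_neg hu, smul_zero]
    unfold Cfsg.indFun
    rw [Finset.sum_eq_zero, mul_zero]
    intro x _
    apply h7_extendByZero_not_mem
    intro h
    apply hu
    have := hN.conj_mem _ h x
    simpa [mul_assoc] using this

/-- Let `N` be a normal subgroup of `K` with abelian quotient and `θ` a `K`-invariant irreducible
character of `N`.  Then all irreducible constituents of the induced character restrict to the same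
multiple `e θ`, and `e ^ 2` times their number is the index. -/
theorem ramification_abelian_quotient {K : Type*} [Group K] [Fintype K] (N : Subgroup K)
    [hN : N.Normal] [Fintype N] [Fintype (Cfsg.IrrCharacter K)] (θ : N → ℂ)
    (hθ : Cfsg.IsIrrCharacter N θ) (hinv : ∀ k : K, cj N θ k = θ)
    (hab : ∀ x y : K, x * y * x⁻¹ * y⁻¹ ∈ N) :
    ∃ (e : ℕ) (C : Finset (Cfsg.IrrCharacter K)), 0 < e ∧
      (∀ ψ : Cfsg.IrrCharacter K, ψ ∈ C ↔ Cfsg.classInner (Cfsg.indFun N θ) (ψ : K → ℂ) ≠ 0) ∧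
      (∀ ψ ∈ C, (fun n : N => (ψ : K → ℂ) n) = (e : ℂ) • θ) ∧
      Cfsg.indFun N θ = (e : ℂ) • ∑ ψ ∈ C, (ψ : K → ℂ) ∧
      e ^ 2 * C.card * Nat.card N = Nat.card K := by
  classical
  have : Fintype ↥(annih N) := Fintype.ofFinite _
  have hInd : Cfsg.IsCharacter K (Cfsg.indFun N θ) :=
    isCharacter_indFun N θ (isCharacter_of_irr ⟨θ, hθ⟩)
  have hθ1 : θ 1 ≠ 0 := irr_one_ne_zero ⟨θ, hθ⟩
  have hidx : (N.index : ℂ) ≠ 0 := by
    exact_mod_cast Subgroup.index_ne_zero_of_finite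
  have hInd1 : Cfsg.indFun N θ 1 = (N.index : ℂ) * θ 1 := h7_indFun_one N θ
  have hne1 : Cfsg.indFun N θ 1 ≠ 0 := by
    rw [hInd1]
    exact mul_ne_zero hidx hθ1
  have hcl : ∀ ψ : Cfsg.IrrCharacter K, Cfsg.IsClassFunction K (ψ : K → ℂ) :=
    fun ψ g h => irr_conj_invariant ψ g h
  -- Frobenius reciprocity in the form we use
  have hfrob : ∀ ψ : Cfsg.IrrCharacter K, Cfsg.classInner (Cfsg.indFun N θ) (ψ : K → ℂ) =
      Cfsg.classInner θ (fun n : N => (ψ : K → ℂ) n) :=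
    fun ψ => h7_frobenius_reciprocity N θ _ (hcl ψ)
  obtain ⟨ψ₀, a, hapos, ha⟩ := isCharacter_exists_constituent hInd hne1
  have hψ₀ne : Cfsg.classInner (fun n : N => (ψ₀ : K → ℂ) n) θ ≠ 0 := by
    intro h
    have h2 := hfrob ψ₀
    rw [ha, classInner_conj_symm θ, h, map_zero] at h2
    have : (a : ℂ) ≠ 0 := by exact_mod_cast hapos.ne'
    exact this h2
  obtain ⟨e, hepos, he1, he2⟩ := h7_clifford_invariant N (ψ₀ : K → ℂ) ψ₀.2 θ hθ hψ₀ne hinv
  have hene : (e : ℂ) ≠ 0 := by exact_mod_cast hepos.ne'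
  -- key identity
  have hkey : (e : ℂ) • Cfsg.indFun N θ =
      ((N.index : ℂ) / (Fintype.card ↥(annih N) : ℂ)) •
        ∑ φ : ↥(annih N), (fun u : K => (((φ : K →* ℂˣ) u : ℂˣ) : ℂ) * (ψ₀ : K → ℂ) u) := by
    have h1 : Cfsg.indFun N ((fun _ : N => (1 : ℂ)) * fun n : N => (ψ₀ : K → ℂ) n) =
        Cfsg.indFun N (fun _ : N => (1 : ℂ)) * (ψ₀ : K → ℂ) :=
      h7_indFun_mul_restrict N _ _ (hcl ψ₀)
    have h2 : ((fun _ : N => (1 : ℂ)) * fun n : N => (ψ₀ : K → ℂ) n) = (e : ℂ) • θ := by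
      rw [← he2]
      funext n
      simp
    have h3 : Cfsg.indFun N ((e : ℂ) • θ) = (e : ℂ) • Cfsg.indFun N θ := by
      have hext : ∀ y : K, Cfsg.extendByZero N ((e : ℂ) • θ) y =
          (e : ℂ) * Cfsg.extendByZero N θ y := by
        intro y
        by_cases hy : y ∈ N
        · rw [h7_extendByZero_mem N _ _ hy, h7_extendByZero_mem N _ _ hy]
          rfl
        · rw [h7_extendByZero_not_mem N _ _ hy, h7_extendByZero_not_mem N _ _ hy, mul_zero]
      funext u
      unfold Cfsg.indFun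
      simp only [hext, Pi.smul_apply, smul_eq_mul, ← Finset.mul_sum]
      ring
    rw [← h3, ← h2, h1, indFun_one_eq_sum_annih N hab]
    funext u
    simp only [Pi.mul_apply, Pi.smul_apply, Finset.sum_apply, smul_eq_mul, Finset.sum_mul,
      mul_assoc]
  -- every constituent is a twist of ψ₀
  have htwist : ∀ ψ : Cfsg.IrrCharacter K, Cfsg.classInner (Cfsg.indFun N θ) (ψ : K → ℂ) ≠ 0 →
      (fun n : N => (ψ : K → ℂ) n) = (e : ℂ) • θ := by
    intro ψ hψ
    have h1 : Cfsg.classInner ((e : ℂ) • Cfsg.indFun N θ) (ψ : K → ℂ) ≠ 0 := by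
      rw [classInner_smul_left']
      exact mul_ne_zero hene hψ
    rw [hkey, classInner_smul_left', classInner_sum_left'] at h1
    have h2 : ∃ φ : ↥(annih N), Cfsg.classInner
        (fun u : K => (((φ : K →* ℂˣ) u : ℂˣ) : ℂ) * (ψ₀ : K → ℂ) u) (ψ : K → ℂ) ≠ 0 := by
      by_contra hcon
      push Not at hcon
      apply h1
      rw [Finset.sum_eq_zero (fun φ _ => hcon φ), mul_zero]
    obtain ⟨φ, hφ⟩ := h2
    have hirr := isIrr_linChar_mul (φ : K →* ℂˣ) (ψ₀ : K → ℂ) ψ₀.2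
    have h3 := irr_classInner (⟨_, hirr⟩ : Cfsg.IrrCharacter K) ψ
    simp only at h3
    rw [h3] at hφ
    have h4 : (⟨_, hirr⟩ : Cfsg.IrrCharacter K) = ψ := by
      by_contra hne
      rw [if_neg hne] at hφ
      exact hφ rfl
    rw [← he2, ← h4]
    funext n
    simp only
    rw [φ.2 (n : K) n.2, Units.val_one, one_mul]
  have hθθ : Cfsg.classInner θ θ = 1 := by
    have h1 := irr_classInner (⟨θ, hθ⟩ : Cfsg.IrrCharacter N) ⟨θ, hθ⟩
    rwa [if_pos rfl] at h1
  have hmult : ∀ ψ : Cfsg.IrrCharacter K, Cfsg.classInner (Cfsg.indFun N θ) (ψ : K → ℂ) ≠ 0 →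
      Cfsg.classInner (Cfsg.indFun N θ) (ψ : K → ℂ) = (e : ℂ) := by
    intro ψ hψ
    rw [hfrob ψ, htwist ψ hψ, classInner_conj_symm θ, classInner_smul_left', hθθ, mul_one,
      Complex.conj_natCast]
  have hsum : Cfsg.indFun N θ = (e : ℂ) • ∑ ψ ∈ Finset.univ.filter
      (fun ψ : Cfsg.IrrCharacter K => Cfsg.classInner (Cfsg.indFun N θ) (ψ : K → ℂ) ≠ 0),
      (ψ : K → ℂ) := by
    obtain ⟨m, hm, hexp⟩ := isCharacter_expansion hInd
    rw [Finset.smul_sum, Finset.sum_filter]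
    conv_lhs => rw [hexp]
    apply Finset.sum_congr rfl
    intro ψ _
    by_cases hψ : Cfsg.classInner (Cfsg.indFun N θ) (ψ : K → ℂ) ≠ 0
    · rw [if_pos hψ, ← hm ψ, hmult ψ hψ]
    · rw [if_neg hψ]
      push Not at hψ
      rw [← hm ψ, hψ, zero_smul]
  refine ⟨e, Finset.univ.filter
    (fun ψ : Cfsg.IrrCharacter K => Cfsg.classInner (Cfsg.indFun N θ) (ψ : K → ℂ) ≠ 0),
    hepos, ?_, ?_, hsum, ?_⟩
  · intro ψ
    simp
  · intro ψ hψ
    exact htwist ψ (Finset.mem_filter.mp hψ).2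
  · have h1 := congrFun hsum 1
    rw [hInd1, Pi.smul_apply, Finset.sum_apply, smul_eq_mul] at h1
    have h2 : ∀ ψ ∈ Finset.univ.filter
        (fun ψ : Cfsg.IrrCharacter K => Cfsg.classInner (Cfsg.indFun N θ) (ψ : K → ℂ) ≠ 0),
        (ψ : K → ℂ) 1 = (e : ℂ) * θ 1 := by
      intro ψ hψ
      have := congrFun (htwist ψ (Finset.mem_filter.mp hψ).2) 1
      simpa using this
    rw [Finset.sum_congr rfl h2, Finset.sum_const, nsmul_eq_mul] at h1
    have h3 : (N.index : ℂ) = ((e ^ 2 * (Finset.univ.filter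
        (fun ψ : Cfsg.IrrCharacter K =>
          Cfsg.classInner (Cfsg.indFun N θ) (ψ : K → ℂ) ≠ 0)).card : ℕ) : ℂ) := by
      apply mul_right_cancel₀ hθ1
      rw [h1]
      push_cast
      ring
    have h4 : N.index = e ^ 2 * (Finset.univ.filter
        (fun ψ : Cfsg.IrrCharacter K =>
          Cfsg.classInner (Cfsg.indFun N θ) (ψ : K → ℂ) ≠ 0)).card := by
      exact_mod_cast h3
    rw [← h4]
    exact Subgroup.index_mul_card N

/-- an induced function from a normal subgroup vanishes outside it -/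
theorem indFun_eq_zero_of_not_mem {K : Type*} [Group K] [Fintype K] (N : Subgroup K)
    [hN : N.Normal] (θ : N → ℂ) (u : K) (hu : u ∉ N) : Cfsg.indFun N θ u = 0 := by
  unfold Cfsg.indFun
  rw [Finset.sum_eq_zero, mul_zero]
  intro x _
  apply h7_extendByZero_not_mem
  intro h
  apply hu
  have := hN.conj_mem _ h x
  simpa [mul_assoc] using this

/-- in the coprime case the ramification index is `1` -/
theorem ramification_coprime {K : Type*} [Group K] [Fintype K] (N : Subgroup K)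
    [hN : N.Normal] [Fintype N] [Fintype (Cfsg.IrrCharacter K)] (θ : N → ℂ)
    (hθ : Cfsg.IsIrrCharacter N θ) (hinv : ∀ k : K, cj N θ k = θ)
    (hab : ∀ x y : K, x * y * x⁻¹ * y⁻¹ ∈ N) (hcop : Nat.Coprime (Nat.card N) N.index) :
    ∃ (C : Finset (Cfsg.IrrCharacter K)),
      (∀ ψ : Cfsg.IrrCharacter K, ψ ∈ C ↔ Cfsg.classInner (Cfsg.indFun N θ) (ψ : K → ℂ) ≠ 0) ∧
      (∀ ψ ∈ C, (fun n : N => (ψ : K → ℂ) n) = θ) ∧
      Cfsg.indFun N θ = ∑ ψ ∈ C, (ψ : K → ℂ) ∧
      C.card = N.index := by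
  classical
  obtain ⟨e, C, hepos, hC, hres, hsum, hcard⟩ := ramification_abelian_quotient N θ hθ hinv hab
  obtain ⟨Q, hQ⟩ := Subgroup.exists_right_complement'_of_coprime hcop
  have : Fintype Q := Fintype.ofFinite _
  have hNQ : N ⊓ Q = ⊥ := hQ.disjoint.eq_bot
  have hcardQ : Nat.card N * Nat.card Q = Nat.card K := hQ.card_mul_card
  have hidx : N.index * Nat.card N = Nat.card K := Subgroup.index_mul_card N
  have hNpos : 0 < Nat.card N := Nat.card_pos
  have hQidx : Nat.card Q = N.index := by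
    have : Nat.card N * Nat.card Q = Nat.card N * N.index := by rw [hcardQ, ← hidx, mul_comm]
    exact Nat.eq_of_mul_eq_mul_left hNpos this
  obtain ⟨d, hdpos, hd1, hddvd⟩ := irr_degree_dvd_card (⟨θ, hθ⟩ : Cfsg.IrrCharacter N)
  simp only at hd1
  -- sum of the induced character over the complement
  have hsumQ : ∑ q : Q, Cfsg.indFun N θ (q : K) = (Nat.card Q : ℂ) * (d : ℂ) := by
    rw [Finset.sum_eq_single (1 : Q)]
    · rw [Subgroup.coe_one, h7_indFun_one, hd1, hQidx]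
    · intro q _ hq
      apply indFun_eq_zero_of_not_mem
      intro hqN
      apply hq
      have : (q : K) ∈ N ⊓ Q := Subgroup.mem_inf.mpr ⟨hqN, q.2⟩
      rw [hNQ, Subgroup.mem_bot] at this
      exact Subtype.ext this
    · intro h
      exact absurd (Finset.mem_univ _) h
  -- the same sum through the constituents
  have hm : ∀ ψ : Cfsg.IrrCharacter K, ∃ m : ℕ,
      ∑ q : Q, (ψ : K → ℂ) (q : K) = (Nat.card Q : ℂ) * (m : ℂ) := by
    intro ψ
    obtain ⟨m, hm⟩ := classInner_character_nat (isCharacter_restrict (isCharacter_of_irr ψ) Q)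
      (isCharacter_of_irr (trivIrr Q))
    refine ⟨m, ?_⟩
    unfold Cfsg.classInner at hm
    simp only [trivIrr_apply, map_one, mul_one] at hm
    have hQ0 : (Nat.card Q : ℂ) ≠ 0 := by exact_mod_cast Nat.card_pos.ne'
    rw [← hm]
    field_simp
  choose m hm using hm
  have hsumQ2 : ∑ q : Q, Cfsg.indFun N θ (q : K) =
      (Nat.card Q : ℂ) * ((e * ∑ ψ ∈ C, m ψ : ℕ) : ℂ) := by
    rw [hsum]
    simp only [Pi.smul_apply, Finset.sum_apply, smul_eq_mul]
    rw [← Finset.mul_sum, Finset.sum_comm]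
    simp only [hm]
    rw [← Finset.mul_sum]
    push_cast
    ring
  have hQ0 : (Nat.card Q : ℂ) ≠ 0 := by exact_mod_cast Nat.card_pos.ne'
  have hde : (d : ℂ) = ((e * ∑ ψ ∈ C, m ψ : ℕ) : ℂ) :=
    mul_left_cancel₀ hQ0 (hsumQ.symm.trans hsumQ2)
  have hde' : d = e * ∑ ψ ∈ C, m ψ := by exact_mod_cast hde
  have he_dvd_N : e ∣ Nat.card N := (Dvd.intro _ hde'.symm).trans hddvd
  have he_dvd_idx : e ∣ N.index := by
    have h1 : e ^ 2 * C.card * Nat.card N = N.index * Nat.card N := by rw [hcard, hidx]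
    have h2 : e ^ 2 * C.card = N.index := Nat.eq_of_mul_eq_mul_right hNpos h1
    rw [← h2]
    exact Dvd.intro (e * C.card) (by ring)
  have he1 : e = 1 := Nat.eq_one_of_dvd_coprimes hcop he_dvd_N he_dvd_idx
  subst he1
  refine ⟨C, hC, ?_, ?_, ?_⟩
  · intro ψ hψ
    have := hres ψ hψ
    rw [Nat.cast_one, one_smul] at this
    exact this
  · rw [hsum, Nat.cast_one, one_smul]
  · have h1 : 1 ^ 2 * C.card * Nat.card N = N.index * Nat.card N := by rw [hcard, hidx]
    have h2 : 1 ^ 2 * C.card = N.index := Nat.eq_of_mul_eq_mul_right hNpos h1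
    rw [← h2]
    ring

end Cfsg.Agent.Lib.Helper11
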