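import Mathlib
import Cfsg.Prelude.Def_Characters
import Cfsg.Agent.Lib.Helper25.CharBasic
import Cfsg.Agent.Lib.helper7.CharTools
import Cfsg.Agent.Lib.Helper24.GaloisNorm

set_option autoImplicit false
set_option linter.style.haveILetI false

namespace Cfsg.Agent.Lib.Helper11

open Polynomial in
/-- For `m` coprime to `N` there is a field automorphism of `ℂ` raising every `N`-th root of unity
to its `m`-th power. -/
theorem exists_ringAut_pow (N m : ℕ) (hN : 0 < N) (hm : Nat.Coprime m N) :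
    ∃ τ : ℂ ≃+* ℂ, ∀ z : ℂ, z ^ N = 1 → τ z = z ^ m := by
  haveI : NeZero N := ⟨hN.ne'⟩
  haveI : NeZero (N : ℚ) := ⟨by exact_mod_cast hN.ne'⟩
  haveI hcyc : IsCyclotomicExtension {N} ℚ (CyclotomicField N ℚ) :=
    CyclotomicField.isCyclotomicExtension N ℚ
  let φ : CyclotomicField N ℚ →ₐ[ℚ] ℂ := IsAlgClosed.lift
  letI alg : Algebra (CyclotomicField N ℚ) ℂ := φ.toRingHom.toAlgebra
  have halg : ∀ x : CyclotomicField N ℚ, algebraMap (CyclotomicField N ℚ) ℂ x = φ x := fun _ => rfl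
  have hζ : IsPrimitiveRoot (IsCyclotomicExtension.zeta N ℚ (CyclotomicField N ℚ)) N :=
    IsCyclotomicExtension.zeta_spec N ℚ (CyclotomicField N ℚ)
  have hirr : Irreducible (Polynomial.cyclotomic N ℚ) := Polynomial.cyclotomic.irreducible_rat hN
  have hμ : IsPrimitiveRoot ((IsCyclotomicExtension.zeta N ℚ (CyclotomicField N ℚ)) ^ m) N :=
    hζ.pow_of_coprime m hm
  let σ : CyclotomicField N ℚ ≃ₐ[ℚ] CyclotomicField N ℚ := IsCyclotomicExtension.fromZetaAut hμ hirr
  have hσ : σ (IsCyclotomicExtension.zeta N ℚ (CyclotomicField N ℚ)) =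
      (IsCyclotomicExtension.zeta N ℚ (CyclotomicField N ℚ)) ^ m :=
    IsCyclotomicExtension.fromZetaAut_spec hμ hirr
  haveI : FaithfulSMul (CyclotomicField N ℚ) ℂ :=
    (faithfulSMul_iff_algebraMap_injective _ _).mpr φ.toRingHom.injective
  obtain ⟨ι, v, hv⟩ := exists_isTranscendenceBasis' (CyclotomicField N ℚ) (A := ℂ)
  haveI hcl : IsAlgClosure (Algebra.adjoin (CyclotomicField N ℚ) (Set.range v)) ℂ :=
    IsAlgClosed.isAlgClosure_of_transcendence_basis v hv
  let ae : MvPolynomial ι (CyclotomicField N ℚ) ≃ₐ[CyclotomicField N ℚ]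
      Algebra.adjoin (CyclotomicField N ℚ) (Set.range v) := hv.1.aevalEquiv
  let e : Algebra.adjoin (CyclotomicField N ℚ) (Set.range v) ≃+*
      Algebra.adjoin (CyclotomicField N ℚ) (Set.range v) :=
    ae.symm.toRingEquiv.trans ((MvPolynomial.mapEquiv ι σ.toRingEquiv).trans ae.toRingEquiv)
  have he : ∀ x : CyclotomicField N ℚ,
      e (algebraMap _ _ x) = algebraMap _ _ (σ x) := by
    intro x
    simp only [e, RingEquiv.trans_apply, AlgEquiv.coe_ringEquiv,
      AlgEquiv.commutes, MvPolynomial.mapEquiv_apply, MvPolynomial.algebraMap_eq, MvPolynomial.map_C]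
    rw [← MvPolynomial.algebraMap_eq, AlgEquiv.commutes]
    rfl
  let τ : ℂ ≃+* ℂ := IsAlgClosure.equivOfEquiv ℂ ℂ e
  have hτ : ∀ x : CyclotomicField N ℚ, τ (φ x) = φ (σ x) := by
    intro x
    have h1 : φ x = algebraMap (Algebra.adjoin (CyclotomicField N ℚ) (Set.range v)) ℂ
        (algebraMap _ _ x) := by
      rw [← IsScalarTower.algebraMap_apply]; rfl
    have h2 : φ (σ x) = algebraMap (Algebra.adjoin (CyclotomicField N ℚ) (Set.range v)) ℂ
        (algebraMap _ _ (σ x)) := by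
      rw [← IsScalarTower.algebraMap_apply]; rfl
    rw [h1, h2, IsAlgClosure.equivOfEquiv_algebraMap, he]
  refine ⟨τ, fun z hz => ?_⟩
  have hζ' : IsPrimitiveRoot (φ (IsCyclotomicExtension.zeta N ℚ (CyclotomicField N ℚ))) N :=
    hζ.map_of_injective φ.toRingHom.injective
  obtain ⟨j, -, rfl⟩ := hζ'.eq_pow_of_pow_eq_one hz
  rw [map_pow τ, hτ, hσ, map_pow φ, ← pow_mul, ← pow_mul, mul_comm]


/-- Entrywise image of a matrix representation under a field automorphism of `ℂ`. -/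
noncomputable def conjRep {G : Type*} [Group G] {n : ℕ} (τ : ℂ ≃+* ℂ)
    (ρ : Representation ℂ G (Fin n → ℂ)) : Representation ℂ G (Fin n → ℂ) :=
  ((Matrix.toLinAlgEquiv' : Matrix (Fin n) (Fin n) ℂ ≃ₐ[ℂ] _) : _ →* _).comp
    ((((τ : ℂ →+* ℂ).mapMatrix : Matrix (Fin n) (Fin n) ℂ →+* Matrix (Fin n) (Fin n) ℂ) :
        Matrix (Fin n) (Fin n) ℂ →* Matrix (Fin n) (Fin n) ℂ).comp
      (((LinearMap.toMatrixAlgEquiv' : ((Fin n → ℂ) →ₗ[ℂ] (Fin n → ℂ)) ≃ₐ[ℂ] _) : _ →* _).comp ρ))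

theorem conjRep_character {G : Type*} [Group G] {n : ℕ} (τ : ℂ ≃+* ℂ)
    (ρ : Representation ℂ G (Fin n → ℂ)) (g : G) :
    (conjRep τ ρ).character g = τ (ρ.character g) := by
  have h1 : ρ.character g = Matrix.trace (LinearMap.toMatrix' (ρ g)) := by
    rw [Representation.character, LinearMap.trace_eq_matrix_trace ℂ (Pi.basisFun ℂ (Fin n)),
      LinearMap.toMatrix_eq_toMatrix']
  have h2 : (conjRep τ ρ).character g =
      Matrix.trace ((LinearMap.toMatrix' (ρ g)).map τ) := by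
    rw [Representation.character, LinearMap.trace_eq_matrix_trace ℂ (Pi.basisFun ℂ (Fin n)),
      LinearMap.toMatrix_eq_toMatrix']
    congr 1
    simp only [conjRep, MonoidHom.coe_comp, Function.comp_apply, MonoidHom.coe_coe,
      RingHom.toMonoidHom_eq_coe, RingHom.mapMatrix_apply, RingHom.coe_coe]
    exact LinearMap.toMatrix'_toLin' _
  rw [h1, h2, Matrix.trace, Matrix.trace, map_sum]
  rfl

theorem isCharacter_ringAut {G : Type*} [Group G] (τ : ℂ ≃+* ℂ) {χ : G → ℂ}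
    (hχ : Cfsg.IsCharacter G χ) : Cfsg.IsCharacter G (fun g => τ (χ g)) := by
  obtain ⟨n, ρ, rfl⟩ := hχ
  exact ⟨n, conjRep τ ρ, funext fun g => conjRep_character τ ρ g⟩

open scoped ComplexConjugate in
theorem isIrrCharacter_ringAut {G : Type*} [Group G] [Finite G] (τ : ℂ ≃+* ℂ) {χ : G → ℂ}
    (hχ : Cfsg.IsIrrCharacter G χ) : Cfsg.IsIrrCharacter G (fun g => τ (χ g)) := by
  classical
  haveI : Fintype G := Fintype.ofFinite G
  obtain ⟨n, ρ, hρ, rfl⟩ := hχ
  have hirr : Cfsg.IsIrrCharacter G ρ.character := ⟨n, ρ, hρ, rfl⟩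
  have hch : Cfsg.IsCharacter G (fun g => τ (ρ.character g)) := isCharacter_ringAut τ ⟨n, ρ, rfl⟩
  refine Cfsg.Agent.Lib.helper7.h7_irr_of_norm_one hch ?_
  have h1 := Cfsg.Agent.Lib.Helper25.irr_classInner (⟨ρ.character, hirr⟩ : Cfsg.IrrCharacter G)
    ⟨ρ.character, hirr⟩
  simp only [if_true] at h1
  unfold Cfsg.classInner at h1 ⊢
  have h2 : ∀ g : G, conj (τ (ρ.character g)) = τ (ρ.character g⁻¹) := by
    intro g
    rw [← conjRep_character, ← conjRep_character, Cfsg.Agent.Lib.Helper25.char_inv]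
  have h3 : ∀ g : G, conj (ρ.character g) = ρ.character g⁻¹ := by
    intro g
    rw [Cfsg.Agent.Lib.Helper25.char_inv]
  simp_rw [h2, ← map_mul, ← map_sum]
  simp_rw [h3] at h1
  have hc : (Nat.card G : ℂ) ≠ 0 := by
    have : 0 < Nat.card G := Nat.card_pos
    exact_mod_cast this.ne'
  have h4 : ∑ g : G, ρ.character g * ρ.character g⁻¹ = (Nat.card G : ℂ) := by
    field_simp at h1
    exact h1
  rw [h4, map_natCast, inv_mul_cancel₀ hc]

/-- If `τ` raises `|G|`-th roots of unity to the `m`-th power, then it maps the value of a character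
at `g` to its value at `g ^ m`. -/
theorem ringAut_character_apply {G : Type*} [Group G] [Finite G] (τ : ℂ ≃+* ℂ) (m : ℕ)
    (hτ : ∀ z : ℂ, z ^ Nat.card G = 1 → τ z = z ^ m) {χ : G → ℂ}
    (hχ : Cfsg.IsCharacter G χ) (g : G) : τ (χ g) = χ (g ^ m) := by
  obtain ⟨s, c, hs, hk⟩ := Cfsg.Agent.Lib.Helper24.gn_char_pow_expansion hχ g
  have h1 := hk 1
  rw [pow_one] at h1
  rw [h1, hk m, map_sum]
  refine Finset.sum_congr rfl fun z hz => ?_
  rw [map_mul, map_natCast, pow_one, hτ z (hs z hz)]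

end Cfsg.Agent.Lib.Helper11
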