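import Mathlib
import Cfsg.Agent.Lib.helper7.BD.Defs

/-! Project BD, piece FIX: a normal cyclic subgroup `⟨x⟩`, `x ^ p = 1`, acts trivially on every
irreducible representation in characteristic `p`. -/

set_option autoImplicit false
set_option linter.unusedVariables false
set_option linter.unusedSectionVars false
set_option linter.style.haveILetI false

namespace Cfsg.Agent.Lib.helper7.BD

universe u v w

section A
variable {F : Type*} [Field F] {G : Type u} [Group G] [Fintype G]
variable {V : Type*} [AddCommGroup V] [Module F V] {W : Type*} [AddCommGroup W] [Module F W]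

/-- a nilpotent endomorphism of a nontrivial module has a nonzero kernel vector -/
theorem bdfix_exists_ker {Y : Type*} [AddCommGroup Y] [Module F Y] [Nontrivial Y]
    (u : Module.End F Y) (n : ℕ) (hn : u ^ n = 0) : ∃ w : Y, w ≠ 0 ∧ u w = 0 := by
  classical
  obtain ⟨w, hw⟩ := exists_ne (0 : Y)
  have hex : ∃ k : ℕ, (u ^ k) w = 0 := ⟨n, by rw [hn]; rfl⟩
  have hk0 : Nat.find hex ≠ 0 := by
    intro h0
    have := Nat.find_spec hex
    rw [h0, pow_zero] at this
    exact hw this
  obtain ⟨k, hk⟩ := Nat.exists_eq_succ_of_ne_zero hk0
  refine ⟨(u ^ k) w, ?_, ?_⟩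
  · intro h0
    have := Nat.find_min hex (m := k) (by omega)
    exact this h0
  · have := Nat.find_spec hex
    rw [hk, Nat.succ_eq_add_one, pow_succ'] at this
    exact this

/-- FIX -/
theorem trivial_of_irreducible {p : ℕ} [Fact p.Prime] [CharP F p] (x : G) (hxp : x ^ p = 1)
    (hnorm : ∀ h : G, ∃ k : ℕ, h * x * h⁻¹ = x ^ k)
    (σ : Representation F G W) [σ.IsIrreducible] : σ x = LinearMap.id := by
  have hnt : Nontrivial (Subrepresentation σ) := inferInstance
  haveI hW : Nontrivial W := by
    by_contra hcon
    rw [not_nontrivial_iff_subsingleton] at hcon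
    obtain ⟨S, T, hST⟩ := hnt
    apply hST
    apply Subrepresentation.toSubmodule_injective
    ext y
    rw [Subsingleton.elim y 0]
    simp
  set u : Module.End F W := σ x - 1 with hu
  have hup : u ^ p = 0 := by
    haveI : CharP (Module.End F W) p := by
      refine charP_of_injective_algebraMap (R := F) (A := Module.End F W) ?_ p
      exact (algebraMap F (Module.End F W)).injective
    have hc : Commute (σ x) (1 : Module.End F W) := Commute.one_right _
    rw [hu, sub_pow_char_of_commute _ hc, one_pow, ← map_pow, hxp, map_one, sub_self]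
  obtain ⟨w, hw, huw⟩ := bdfix_exists_ker u p hup
  -- the fixed space of `x` is a subrepresentation
  have hfix : ∀ (h : G) (y : W), σ x y = y → σ x (σ h y) = σ h y := by
    intro h y hy
    obtain ⟨k, hk⟩ := hnorm h⁻¹
    rw [inv_inv] at hk
    have h1 : x * h = h * x ^ k := by
      rw [← hk]
      group
    have h2 : σ x (σ h y) = σ (x * h) y := by
      rw [map_mul]
      rfl
    have h3 : ∀ j : ℕ, σ (x ^ j) y = y := by
      intro j
      induction j with
      | zero => rw [pow_zero, map_one]; rfl
      | succ j ih =>
        rw [pow_succ, map_mul, Module.End.mul_apply, hy, ih]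
    rw [h2, h1, map_mul, Module.End.mul_apply, h3 k]
  let K : Subrepresentation σ :=
    { toSubmodule := LinearMap.ker u
      apply_mem_toSubmodule := by
        intro h y hy
        rw [LinearMap.mem_ker] at hy ⊢
        have hy' : σ x y = y := by
          have : σ x y - y = 0 := by
            have := hy
            rw [hu] at this
            simpa using this
          exact sub_eq_zero.mp this
        have := hfix h y hy'
        rw [hu]
        show (σ x - 1) (σ h y) = 0
        rw [LinearMap.sub_apply, this]
        simp }
  have hK : K = ⊥ ∨ K = ⊤ := IsSimpleOrder.eq_bot_or_eq_top K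
  have hwK : w ∈ K.toSubmodule := LinearMap.mem_ker.mpr huw
  rcases hK with hK | hK
  · exfalso
    rw [hK] at hwK
    exact hw ((Submodule.mem_bot F).1 hwK)
  · refine LinearMap.ext fun y => ?_
    have hy : y ∈ K.toSubmodule := by
      rw [hK]
      exact Submodule.mem_top
    have hy' : u y = 0 := LinearMap.mem_ker.mp hy
    rw [hu] at hy'
    have : σ x y - y = 0 := by simpa using hy'
    rw [LinearMap.id_apply]
    exact sub_eq_zero.mp this

end A

end Cfsg.Agent.Lib.helper7.BD
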