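import Mathlib

set_option autoImplicit false

namespace Cfsg.Agent.Lib.Helper11

/-- in a nilpotent group, elements of coprime orders commute -/
theorem commute_of_coprime_orderOf {G : Type*} [Group G] [Group.IsNilpotent G] :
    ∀ x y : G, (orderOf x).Coprime (orderOf y) → Commute x y := by
  refine Group.nilpotent_center_quotient_ind
    (P := fun G _ _ => ∀ x y : G, (orderOf x).Coprime (orderOf y) → Commute x y) G ?_ ?_
  · intro G _ _ x y _
    exact Subsingleton.elim _ _
  · intro G _ _ ih x y hxy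
    have h1 : Commute (QuotientGroup.mk' (Subgroup.center G) x)
        (QuotientGroup.mk' (Subgroup.center G) y) := by
      apply ih
      exact Nat.Coprime.of_dvd (orderOf_map_dvd _ x) (orderOf_map_dvd _ y) hxy
    -- the commutator is central
    have hz : x * y * x⁻¹ * y⁻¹ ∈ Subgroup.center G := by
      rw [← QuotientGroup.eq_one_iff, ← QuotientGroup.mk'_apply]
      simp only [map_mul, map_inv]
      rw [h1.eq]
      group
    set z := x * y * x⁻¹ * y⁻¹ with hzdef
    have hzc : ∀ g : G, Commute z g := fun g => (Subgroup.mem_center_iff.mp hz g).symm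
    have hxyx : x * y * x⁻¹ = z * y := by rw [hzdef]; group
    have hyxy : y * x⁻¹ * y⁻¹ = x⁻¹ * z := by rw [hzdef]; group
    -- z ^ (orderOf y) = 1
    have h2 : z ^ orderOf y = 1 := by
      have : (x * y * x⁻¹) ^ orderOf y = 1 := by
        rw [conj_pow, pow_orderOf_eq_one]; group
      rw [hxyx, (hzc y).mul_pow, pow_orderOf_eq_one, mul_one] at this
      exact this
    have h3 : z ^ orderOf x = 1 := by
      have : (y * x⁻¹ * y⁻¹) ^ orderOf x = 1 := by
        rw [conj_pow, inv_pow, pow_orderOf_eq_one]; group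
      rw [hyxy, ((hzc x⁻¹).symm).mul_pow, inv_pow, pow_orderOf_eq_one, inv_one, one_mul] at this
      exact this
    have h4 : orderOf z ∣ 1 := by
      have := Nat.dvd_gcd (orderOf_dvd_of_pow_eq_one h3) (orderOf_dvd_of_pow_eq_one h2)
      rwa [hxy] at this
    have h5 : z = 1 := by
      rw [← orderOf_eq_one_iff]; exact Nat.dvd_one.mp h4
    have : x * y * x⁻¹ * y⁻¹ = 1 := h5
    show x * y = y * x
    have h6 : x * y = (x * y * x⁻¹ * y⁻¹) * (y * x) := by group
    rw [h6, this, one_mul]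

/-- split an element of finite order into commuting `p`-part and `p'`-part -/
theorem exists_p_parts {G : Type*} [Group G] (p : ℕ) (hp : p.Prime) (g : G) (hg : 0 < orderOf g) :
    ∃ u v : G, u ∈ Subgroup.zpowers g ∧ v ∈ Subgroup.zpowers g ∧ g = u * v ∧
      (∃ k : ℕ, u ^ p ^ k = 1) ∧ (orderOf v).Coprime p := by
  obtain ⟨k, m, hpm, hn⟩ := Nat.exists_eq_pow_mul_and_not_dvd hg.ne' p hp.ne_one
  have hcop : Nat.Coprime (p ^ k) m :=
    Nat.Coprime.pow_left k ((Nat.Prime.coprime_iff_not_dvd hp).mpr hpm)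
  obtain ⟨a, ha1, ha2⟩ := Nat.chineseRemainder hcop 1 0
  obtain ⟨b, hb1, hb2⟩ := Nat.chineseRemainder hcop 0 1
  refine ⟨g ^ a, g ^ b, ⟨a, by simp⟩, ⟨b, by simp⟩, ?_, ⟨k, ?_⟩, ?_⟩
  · rw [← pow_add]
    have : a + b ≡ 1 [MOD orderOf g] := by
      rw [hn]
      apply (Nat.modEq_and_modEq_iff_modEq_mul hcop).mp
      constructor
      · have := ha1.add hb1; simpa using this
      · have := ha2.add hb2; simpa using this
    have h := pow_eq_pow_iff_modEq.mpr this
    rw [h, pow_one]
  · rw [← pow_mul]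
    apply orderOf_dvd_iff_pow_eq_one.mp
    rw [hn]
    have : m ∣ a := (Nat.modEq_zero_iff_dvd).mp ha2
    obtain ⟨c, hc⟩ := this
    rw [hc]
    exact ⟨c, by ring⟩
  · have h2 : (g ^ b) ^ m = 1 := by
      rw [← pow_mul]
      apply orderOf_dvd_iff_pow_eq_one.mp
      rw [hn]
      have : p ^ k ∣ b := (Nat.modEq_zero_iff_dvd).mp hb1
      obtain ⟨c, hc⟩ := this
      rw [hc]
      exact ⟨c, by ring⟩
    have h3 : orderOf (g ^ b) ∣ m := orderOf_dvd_of_pow_eq_one h2
    exact Nat.Coprime.of_dvd_left h3 ((Nat.Prime.coprime_iff_not_dvd hp).mpr hpm).symm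

/-- in a finite nilpotent group, a `p`-element commuting with all `p`-elements is central -/
theorem central_of_commute_p_elements {H : Type*} [Group H] [Finite H] [Group.IsNilpotent H]
    (p : ℕ) (hp : p.Prime) (w : H) (hw : ∃ k : ℕ, w ^ p ^ k = 1)
    (hc : ∀ u : H, (∃ k : ℕ, u ^ p ^ k = 1) → Commute w u) : ∀ h : H, Commute w h := by
  intro h
  obtain ⟨u, v, _, _, huv, hu, hv⟩ := exists_p_parts p hp h (orderOf_pos h)
  rw [huv]
  apply Commute.mul_right (hc u hu)
  apply commute_of_coprime_orderOf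
  obtain ⟨k, hk⟩ := hw
  have h1 : orderOf w ∣ p ^ k := orderOf_dvd_of_pow_eq_one hk
  exact Nat.Coprime.of_dvd_left h1 (Nat.Coprime.pow_left k hv.symm)

end Cfsg.Agent.Lib.Helper11
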