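import Mathlib

set_option autoImplicit false
open scoped commutatorElement

namespace Cfsg.Agent.Lib.Helper11

/-- the descending series `C, [C,G], [C,G,G], ...` -/
def descendSeries {R : Type*} [Group R] (C : Subgroup R) : ℕ → Subgroup R
  | 0 => C
  | n + 1 => ⁅descendSeries C n, (⊤ : Subgroup R)⁆

theorem descendSeries_le_lcs {R : Type*} [Group R] (C : Subgroup R) (n : ℕ) :
    descendSeries C n ≤ Subgroup.lowerCentralSeries (⊤ : Subgroup R) n := by
  induction n with
  | zero => exact le_top
  | succ n ih =>
    rw [Subgroup.lowerCentralSeries_succ]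
    exact Subgroup.commutator_mono ih le_rfl

theorem descendSeries_normal {R : Type*} [Group R] (C : Subgroup R) [hC : C.Normal] (n : ℕ) :
    (descendSeries C n).Normal := by
  induction n with
  | zero => exact hC
  | succ n ih =>
    have := ih
    exact Subgroup.commutator_normal (descendSeries C n) ⊤

theorem descendSeries_le {R : Type*} [Group R] (C : Subgroup R) [hC : C.Normal] (n : ℕ) :
    descendSeries C n ≤ C := by
  induction n with
  | zero => exact le_rfl
  | succ n ih =>
    have := descendSeries_normal C n
    exact (Subgroup.commutator_le_left (descendSeries C n) ⊤).trans ih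

/-- In a nilpotent group, a normal subgroup `C` not contained in a subgroup `A`
contains an element outside `A` all of whose commutators with the group lie in `A`. -/
theorem exists_not_mem_commutator_mem {R : Type*} [Group R] [hnil : Group.IsNilpotent R]
    (C A : Subgroup R) [hC : C.Normal] (hCA : ¬ C ≤ A) :
    ∃ x ∈ C, x ∉ A ∧ ∀ r : R, ⁅x, r⁆ ∈ A := by
  classical
  obtain ⟨N, hN⟩ := Subgroup.nilpotent_iff_lowerCentralSeries.mp hnil
  have hex : ∃ n, descendSeries C n ≤ A :=
    ⟨N, ((descendSeries_le_lcs C N).trans (le_of_eq hN)).trans bot_le⟩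
  set n := Nat.find hex with hn
  have hnA : descendSeries C n ≤ A := Nat.find_spec hex
  have hn0 : n ≠ 0 := by
    intro h0
    rw [h0] at hnA
    exact hCA hnA
  obtain ⟨m, hm⟩ := Nat.exists_eq_succ_of_ne_zero hn0
  have hmA : ¬ descendSeries C m ≤ A := Nat.find_min hex (by omega)
  obtain ⟨x, hxD, hxA⟩ := SetLike.not_le_iff_exists.mp hmA
  refine ⟨x, descendSeries_le C m hxD, hxA, fun r => ?_⟩
  apply hnA
  rw [hm]
  exact Subgroup.commutator_mem_commutator hxD (Subgroup.mem_top r)

/-- A maximal normal abelian subgroup of a nilpotent group is self-centralizing. -/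
theorem centralizer_le_of_maximal_normal_abelian {R : Type*} [Group R] [Group.IsNilpotent R]
    (A : Subgroup R) [hAn : A.Normal] (hAc : IsMulCommutative A)
    (hmax : ∀ B : Subgroup R, B.Normal → IsMulCommutative B → A ≤ B → B = A) :
    Subgroup.centralizer (A : Set R) ≤ A := by
  by_contra hCA
  obtain ⟨x, hxC, hxA, hxr⟩ :=
    exists_not_mem_commutator_mem (Subgroup.centralizer (A : Set R)) A hCA
  set B := Subgroup.closure ((A : Set R) ∪ {x}) with hB
  have hAB : A ≤ B := fun a ha => Subgroup.subset_closure (Or.inl ha)
  have hxB : x ∈ B := Subgroup.subset_closure (Or.inr rfl)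
  have hBc : IsMulCommutative B := by
    apply Subgroup.isMulCommutative_closure
    have hcomm : ∀ a ∈ A, a * x = x * a := fun a ha => Subgroup.mem_centralizer_iff.mp hxC a ha
    rintro y (hy | hy) z (hz | hz)
    · have := hAc.is_comm.comm ⟨y, hy⟩ ⟨z, hz⟩
      exact congrArg Subtype.val this
    · rw [Set.mem_singleton_iff] at hz
      subst hz
      exact hcomm y hy
    · rw [Set.mem_singleton_iff] at hy
      subst hy
      exact (hcomm z hz).symm
    · rw [Set.mem_singleton_iff] at hy hz
      rw [hy, hz]
  have hBn : B.Normal := by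
    constructor
    intro n hn g
    induction hn using Subgroup.closure_induction with
    | mem y hy =>
      rcases hy with hy | hy
      · exact hAB (hAn.conj_mem y hy g)
      · rw [Set.mem_singleton_iff] at hy
        subst hy
        have h1 : ⁅y, g⁆ ∈ A := hxr g
        have h2 : g * y * g⁻¹ = (⁅y, g⁆)⁻¹ * y := by
          rw [commutatorElement_def]; group
        rw [h2]
        exact B.mul_mem (hAB (A.inv_mem h1)) hxB
    | one => simp
    | mul y z _ _ hy hz =>
      have : g * (y * z) * g⁻¹ = (g * y * g⁻¹) * (g * z * g⁻¹) := by group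
      rw [this]
      exact B.mul_mem hy hz
    | inv y _ hy =>
      have : g * y⁻¹ * g⁻¹ = (g * y * g⁻¹)⁻¹ := by group
      rw [this]
      exact B.inv_mem hy
  have := hmax B hBn hBc hAB
  exact hxA (this ▸ hxB)

/-- existence of a maximal normal abelian subgroup in a finite group -/
theorem exists_maximal_normal_abelian {R : Type*} [Group R] [Finite R] :
    ∃ A : Subgroup R, A.Normal ∧ IsMulCommutative A ∧
      ∀ B : Subgroup R, B.Normal → IsMulCommutative B → A ≤ B → B = A := by
  have hfin : {A : Subgroup R | A.Normal ∧ IsMulCommutative A}.Finite := Set.toFinite _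
  have hbot : (⊥ : Subgroup R) ∈ {A : Subgroup R | A.Normal ∧ IsMulCommutative A} :=
    ⟨inferInstance, inferInstance⟩
  obtain ⟨A, _, hA⟩ := hfin.exists_le_maximal hbot
  refine ⟨A, hA.prop.1, hA.prop.2, fun B hBn hBc hAB => ?_⟩
  exact le_antisymm (hA.le_of_ge ⟨hBn, hBc⟩ hAB) hAB

end Cfsg.Agent.Lib.Helper11
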