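import Mathlib
import Cfsg.Agent.Lib.Helper11.SelfCentralizing

set_option autoImplicit false

namespace Cfsg.Agent.Lib.Helper11.OddGL2

open Matrix

variable {F : Type*} [Field F]

/-- a `2 × 2` matrix that is not a scalar multiple of the identity -/
def NonScalar (g : Matrix (Fin 2) (Fin 2) F) : Prop :=
  g 0 1 ≠ 0 ∨ g 1 0 ≠ 0 ∨ g 0 0 ≠ g 1 1

theorem scalar_of_not_nonScalar (g : Matrix (Fin 2) (Fin 2) F) (h : ¬ NonScalar g) :
    g = (g 0 0) • (1 : Matrix (Fin 2) (Fin 2) F) := by
  unfold NonScalar at h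
  push Not at h
  obtain ⟨h1, h2, h3⟩ := h
  ext i j
  fin_cases i <;> fin_cases j <;> simp [h1, h2, h3]

/-- the commutant of a non-scalar `2 × 2` matrix consists of the polynomials in it -/
theorem commutant (g a : Matrix (Fin 2) (Fin 2) F) (hg : NonScalar g) (h : a * g = g * a) :
    ∃ α β : F, a = α • (1 : Matrix (Fin 2) (Fin 2) F) + β • g := by
  have h00 := congrFun (congrFun h 0) 0
  have h01 := congrFun (congrFun h 0) 1
  have h10 := congrFun (congrFun h 1) 0
  simp only [Matrix.mul_apply, Fin.sum_univ_two] at h00 h01 h10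
  rcases hg with hg | hg | hg
  · refine ⟨a 0 0 - a 0 1 / g 0 1 * g 0 0, a 0 1 / g 0 1, ?_⟩
    ext i j
    fin_cases i <;> fin_cases j <;> simp
    · field_simp
    · field_simp
      linear_combination -h00
    · field_simp
      linear_combination -h01
  · refine ⟨a 0 0 - a 1 0 / g 1 0 * g 0 0, a 1 0 / g 1 0, ?_⟩
    ext i j
    fin_cases i <;> fin_cases j <;> simp
    · field_simp
      linear_combination h00
    · field_simp
    · field_simp
      linear_combination h10
  · have hne : g 0 0 - g 1 1 ≠ 0 := sub_ne_zero.mpr hg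
    refine ⟨a 0 0 - (a 0 0 - a 1 1) / (g 0 0 - g 1 1) * g 0 0, (a 0 0 - a 1 1) / (g 0 0 - g 1 1), ?_⟩
    ext i j
    fin_cases i <;> fin_cases j <;> simp
    · field_simp
      linear_combination -h01
    · field_simp
      linear_combination h10
    · field_simp
      ring


/-- Cayley–Hamilton for `2 × 2` matrices -/
theorem sq_eq (N : Matrix (Fin 2) (Fin 2) F) :
    N * N = (N 0 0 + N 1 1) • N - N.det • (1 : Matrix (Fin 2) (Fin 2) F) := by
  ext i j
  fin_cases i <;> fin_cases j <;>
    simp [Matrix.mul_apply, Fin.sum_univ_two, Matrix.det_fin_two] <;> ring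

/-- a nilpotent `2 × 2` matrix squares to zero -/
theorem sq_zero_of_pow_eq_zero (N : Matrix (Fin 2) (Fin 2) F) (k : ℕ) (h : N ^ k = 0) :
    N * N = 0 := by
  have hdet : N.det = 0 := by
    have : N.det ^ k = 0 := by rw [← Matrix.det_pow, h, Matrix.det_zero]
    exact pow_eq_zero_iff (by
      rintro rfl
      rw [pow_zero] at h
      exact one_ne_zero h) |>.mp this
  have hsq : N * N = (N 0 0 + N 1 1) • N := by
    rw [sq_eq, hdet, zero_smul, sub_zero]
  have hpow : ∀ m : ℕ, N ^ (m + 1) = (N 0 0 + N 1 1) ^ m • N := by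
    intro m
    induction m with
    | zero => simp
    | succ m ih =>
      rw [pow_succ, ih, smul_mul_assoc, hsq, smul_smul, ← pow_succ]
  rcases k with _ | k
  · rw [pow_zero] at h
    exact absurd h one_ne_zero
  · rw [hpow k] at h
    rcases smul_eq_zero.mp h with h1 | h1
    · rcases k with _ | k
      · rw [pow_zero] at h1
        exact absurd h1 one_ne_zero
      · have : N 0 0 + N 1 1 = 0 := pow_eq_zero_iff (Nat.succ_ne_zero k) |>.mp h1
        rw [hsq, this, zero_smul]
    · rw [h1, mul_zero]

/-- an element of `p`-power order in characteristic `p` is unipotent -/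
theorem unipotent_sq_zero (p : ℕ) [Fact p.Prime] [CharP F p] (u : GL (Fin 2) F) (k : ℕ)
    (hu : u ^ p ^ k = 1) :
    ((u : Matrix (Fin 2) (Fin 2) F) - 1) * ((u : Matrix (Fin 2) (Fin 2) F) - 1) = 0 := by
  apply sq_zero_of_pow_eq_zero _ (p ^ k)
  have hc : Commute (u : Matrix (Fin 2) (Fin 2) F) 1 := Commute.one_right _
  rw [sub_pow_char_pow_of_commute _ _ hc, one_pow]
  have := congrArg (fun g : GL (Fin 2) F => (g : Matrix (Fin 2) (Fin 2) F)) hu
  simp only [Units.val_pow_eq_pow_val, Units.val_one] at this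
  rw [this, sub_self]

/-- a matrix killing two independent vectors of the plane is zero -/
theorem eq_zero_of_two_kernel (N : Matrix (Fin 2) (Fin 2) F) (v w : Fin 2 → F) (hv : v ≠ 0)
    (hw : w ∉ Submodule.span F {v}) (h1 : N.mulVec v = 0) (h2 : N.mulVec w = 0) : N = 0 := by
  have hdet : v 0 * w 1 - v 1 * w 0 ≠ 0 := by
    intro hd
    apply hw
    rw [Submodule.mem_span_singleton]
    have hv' : v 0 ≠ 0 ∨ v 1 ≠ 0 := by
      by_contra hcon
      push Not at hcon
      apply hv
      ext i
      fin_cases i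
      · exact hcon.1
      · exact hcon.2
    rcases hv' with h0 | h0
    · refine ⟨w 0 / v 0, ?_⟩
      ext i
      fin_cases i
      · simp; field_simp
      · simp; field_simp; linear_combination -hd
    · refine ⟨w 1 / v 1, ?_⟩
      ext i
      fin_cases i
      · simp; field_simp; linear_combination hd
      · simp; field_simp
  have e1 := congrFun h1 0
  have e2 := congrFun h1 1
  have e3 := congrFun h2 0
  have e4 := congrFun h2 1
  simp only [Matrix.mulVec, dotProduct, Fin.sum_univ_two, Pi.zero_apply] at e1 e2 e3 e4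
  ext i j
  fin_cases i <;> fin_cases j <;> simp
  · have : N 0 0 * (v 0 * w 1 - v 1 * w 0) = 0 := by linear_combination w 1 * e1 - v 1 * e3
    exact (mul_eq_zero.mp this).resolve_right hdet
  · have : N 0 1 * (v 0 * w 1 - v 1 * w 0) = 0 := by linear_combination v 0 * e3 - w 0 * e1
    exact (mul_eq_zero.mp this).resolve_right hdet
  · have : N 1 0 * (v 0 * w 1 - v 1 * w 0) = 0 := by linear_combination w 1 * e2 - v 1 * e4
    exact (mul_eq_zero.mp this).resolve_right hdet
  · have : N 1 1 * (v 0 * w 1 - v 1 * w 0) = 0 := by linear_combination v 0 * e4 - w 0 * e2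
    exact (mul_eq_zero.mp this).resolve_right hdet

/-- an eigenvector of a unipotent matrix is a fixed vector -/
theorem fixed_of_eigen (u : Matrix (Fin 2) (Fin 2) F) (hN : (u - 1) * (u - 1) = 0)
    (w : Fin 2 → F) (hw : w ≠ 0) (h : u.mulVec w ∈ Submodule.span F {w}) :
    (u - 1).mulVec w = 0 := by
  rw [Submodule.mem_span_singleton] at h
  obtain ⟨μ, hμ⟩ := h
  have h1 : (u - 1).mulVec w = (μ - 1) • w := by
    rw [Matrix.sub_mulVec, Matrix.one_mulVec, ← hμ, sub_smul, one_smul]
  have h2 : (u - 1).mulVec ((u - 1).mulVec w) = 0 := by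
    rw [Matrix.mulVec_mulVec, hN, Matrix.zero_mulVec]
  rw [h1, Matrix.mulVec_smul, h1, smul_smul] at h2
  rcases smul_eq_zero.mp h2 with h3 | h3
  · have : μ - 1 = 0 := by
      have : (μ - 1) ^ 2 = 0 := by rw [sq]; exact h3
      exact pow_eq_zero_iff (by norm_num) |>.mp this
    rw [h1, this, zero_smul]
  · exact absurd h3 hw


/-- `H` fixes the line spanned by `v` -/
def FixesLine (H : Subgroup (GL (Fin 2) F)) (v : Fin 2 → F) : Prop :=
  ∀ g ∈ H, (g : Matrix (Fin 2) (Fin 2) F).mulVec v ∈ Submodule.span F {v}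

theorem mulVec_ne_zero (h : GL (Fin 2) F) (v : Fin 2 → F) (hv : v ≠ 0) :
    (h : Matrix (Fin 2) (Fin 2) F).mulVec v ≠ 0 := by
  intro h0
  apply hv
  have : ((h⁻¹ : GL (Fin 2) F) : Matrix (Fin 2) (Fin 2) F).mulVec
      ((h : Matrix (Fin 2) (Fin 2) F).mulVec v) = v := by
    rw [Matrix.mulVec_mulVec, ← Units.val_mul, inv_mul_cancel, Units.val_one, Matrix.one_mulVec]
  rw [← this, h0, Matrix.mulVec_zero]

/-- if a normal subgroup `K` of `H` containing a nontrivial unipotent element fixes a line, so
does `H` -/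
theorem fixesLine_of_normal (p : ℕ) [Fact p.Prime] [CharP F p] (H K : Subgroup (GL (Fin 2) F))
    (hn : ∀ h ∈ H, ∀ k ∈ K, h⁻¹ * k * h ∈ K)
    (u : GL (Fin 2) F) (huK : u ∈ K) (hu1 : u ≠ 1) (k : ℕ) (hup : u ^ p ^ k = 1)
    (v : Fin 2 → F) (hv : v ≠ 0) (hK : FixesLine K v) : FixesLine H v := by
  intro h hh
  have hN := unipotent_sq_zero p u k hup
  have hNne : (u : Matrix (Fin 2) (Fin 2) F) - 1 ≠ 0 := by
    intro h0
    apply hu1
    apply Units.ext
    rw [Units.val_one]
    exact sub_eq_zero.mp h0
  have hv0 := fixed_of_eigen _ hN v hv (hK u huK)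
  by_contra hcon
  apply hNne
  apply eq_zero_of_two_kernel _ v ((h : Matrix (Fin 2) (Fin 2) F).mulVec v) hv hcon hv0
  have hu' := hK _ (hn h hh u huK)
  have hw := mulVec_ne_zero h v hv
  apply fixed_of_eigen _ hN _ hw
  rw [Submodule.mem_span_singleton] at hu' ⊢
  obtain ⟨μ, hμ⟩ := hu'
  refine ⟨μ, ?_⟩
  have : (u : Matrix (Fin 2) (Fin 2) F).mulVec ((h : Matrix (Fin 2) (Fin 2) F).mulVec v) =
      (h : Matrix (Fin 2) (Fin 2) F).mulVec
        (((h⁻¹ * u * h : GL (Fin 2) F) : Matrix (Fin 2) (Fin 2) F).mulVec v) := by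
    rw [Matrix.mulVec_mulVec, Matrix.mulVec_mulVec, ← Units.val_mul, ← Units.val_mul]
    congr 2
    group
  rw [this, ← hμ, Matrix.mulVec_smul]

/-- a scalar matrix commutes with everything -/
theorem scalar_commute (c : F) (a : Matrix (Fin 2) (Fin 2) F) :
    a * (c • (1 : Matrix (Fin 2) (Fin 2) F)) = (c • (1 : Matrix (Fin 2) (Fin 2) F)) * a := by
  rw [Matrix.mul_smul, Matrix.smul_mul, Matrix.mul_one, Matrix.one_mul]

/-- two matrices commuting with a non-scalar matrix commute -/
theorem commute_of_commute_nonScalar (g a b : Matrix (Fin 2) (Fin 2) F) (hg : NonScalar g)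
    (ha : a * g = g * a) (hb : b * g = g * b) : a * b = b * a := by
  obtain ⟨α, β, rfl⟩ := commutant g a hg ha
  obtain ⟨α', β', rfl⟩ := commutant g b hg hb
  simp only [add_mul, mul_add, Matrix.smul_mul, Matrix.mul_smul, Matrix.one_mul, Matrix.mul_one,
    smul_smul]
  rw [mul_comm α' α, mul_comm β' α, mul_comm α' β, mul_comm β' β]
  abel


open scoped commutatorElement in
/-- a finite `r`-subgroup of `GL₂(F)`, `r` odd, is commutative -/
theorem comm_of_isPGroup (R : Subgroup (GL (Fin 2) F)) [Finite R] (r : ℕ) [Fact r.Prime]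
    (hr2 : r ≠ 2) (hR : IsPGroup r R) : ∀ a ∈ R, ∀ b ∈ R, a * b = b * a := by
  have hrodd : Odd r := (Fact.out : r.Prime).odd_of_ne_two hr2
  by_contra hcon
  push Not at hcon
  obtain ⟨a₀, ha₀, b₀, hb₀, hab₀⟩ := hcon
  have hnil : Group.IsNilpotent R := hR.isNilpotent
  have hnc : ¬ (⊤ : Subgroup R) ≤ Subgroup.center R := by
    intro hle
    apply hab₀
    have := Subgroup.mem_center_iff.mp (hle (Subgroup.mem_top (⟨b₀, hb₀⟩ : R))) ⟨a₀, ha₀⟩
    exact congrArg Subtype.val this
  obtain ⟨x, -, hxZ, hxr⟩ :=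
    Cfsg.Agent.Lib.Helper11.exists_not_mem_commutator_mem (⊤ : Subgroup R) (Subgroup.center R) hnc
  by_cases hs : ∃ z ∈ Subgroup.center R, NonScalar ((z : R) : GL (Fin 2) F).val
  · obtain ⟨z, hz, hzs⟩ := hs
    apply hab₀
    have hza : (a₀ : Matrix (Fin 2) (Fin 2) F) * ((z : R) : GL (Fin 2) F).val =
        ((z : R) : GL (Fin 2) F).val * (a₀ : Matrix (Fin 2) (Fin 2) F) := by
      have := Subgroup.mem_center_iff.mp hz ⟨a₀, ha₀⟩
      have := congrArg (fun y : R => ((y : GL (Fin 2) F) : Matrix (Fin 2) (Fin 2) F)) this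
      simpa using this
    have hzb : (b₀ : Matrix (Fin 2) (Fin 2) F) * ((z : R) : GL (Fin 2) F).val =
        ((z : R) : GL (Fin 2) F).val * (b₀ : Matrix (Fin 2) (Fin 2) F) := by
      have := Subgroup.mem_center_iff.mp hz ⟨b₀, hb₀⟩
      have := congrArg (fun y : R => ((y : GL (Fin 2) F) : Matrix (Fin 2) (Fin 2) F)) this
      simpa using this
    apply Units.ext
    rw [Units.val_mul, Units.val_mul]
    exact commute_of_commute_nonScalar _ _ _ hzs hza hzb
  · push Not at hs
    apply hxZ
    rw [Subgroup.mem_center_iff]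
    intro y
    have hc := hxr y
    have hsc := scalar_of_not_nonScalar _ (hs _ hc)
    obtain ⟨c, hc'⟩ : ∃ c : F, ((⁅x, y⁆ : R) : GL (Fin 2) F).val =
        c • (1 : Matrix (Fin 2) (Fin 2) F) := ⟨_, hsc⟩
    -- determinant one
    have hdet : c ^ 2 = 1 := by
      have h1 : (((⁅x, y⁆ : R) : GL (Fin 2) F).val).det = 1 := by
        have h2 : ((⁅x, y⁆ : R) : GL (Fin 2) F) = ⁅(x : GL (Fin 2) F), (y : GL (Fin 2) F)⁆ := by
          simp [commutatorElement_def]
        have h3 : Matrix.GeneralLinearGroup.det ⁅(x : GL (Fin 2) F), (y : GL (Fin 2) F)⁆ = 1 := by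
          rw [map_commutatorElement, commutatorElement_eq_one_iff_commute]
          exact Commute.all _ _
        rw [h2]
        exact congrArg Units.val h3
      rw [hc', Matrix.det_smul, Matrix.det_one, mul_one, Fintype.card_fin] at h1
      exact h1
    -- odd order
    obtain ⟨k, hk⟩ := hR ⁅x, y⁆
    have hpow : c ^ r ^ k = 1 := by
      have h1 := congrArg (fun z : R => ((z : GL (Fin 2) F) : Matrix (Fin 2) (Fin 2) F)) hk
      simp only [SubgroupClass.coe_pow, Units.val_pow_eq_pow_val, OneMemClass.coe_one,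
        Units.val_one] at h1
      rw [hc', smul_pow, one_pow] at h1
      have h2 := congrFun (congrFun h1 0) 0
      simpa using h2
    have hc1 : c = 1 := by
      obtain ⟨j, hj⟩ := hrodd.pow (n := k)
      rw [hj, pow_succ, pow_mul, hdet, one_pow, one_mul] at hpow
      exact hpow
    rw [hc1, one_smul] at hc'
    have h4 : (⁅x, y⁆ : R) = 1 := by
      apply Subtype.ext
      apply Units.ext
      rw [hc']
      rfl
    rw [commutatorElement_eq_one_iff_commute] at h4
    exact h4.eq.symm


theorem two_ne_zero_of_char (p : ℕ) [Fact p.Prime] [CharP F p] (hp2 : p ≠ 2) : (2 : F) ≠ 0 := by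
  intro h
  have h2 : ((2 : ℕ) : F) = 0 := by exact_mod_cast h
  rw [CharP.cast_eq_zero_iff F p 2] at h2
  exact hp2 ((Nat.prime_dvd_prime_iff_eq (Fact.out : p.Prime) Nat.prime_two).mp h2)

theorem trace_lin (g : Matrix (Fin 2) (Fin 2) F) (α β : F) :
    (α • (1 : Matrix (Fin 2) (Fin 2) F) + β • g) 0 0 +
      (α • (1 : Matrix (Fin 2) (Fin 2) F) + β • g) 1 1 = 2 * α + β * (g 0 0 + g 1 1) := by
  simp
  ring

theorem det_lin (g : Matrix (Fin 2) (Fin 2) F) (α β : F) :
    (α • (1 : Matrix (Fin 2) (Fin 2) F) + β • g).det =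
      α ^ 2 + α * β * (g 0 0 + g 1 1) + β ^ 2 * g.det := by
  simp [Matrix.det_fin_two]
  ring

/-- a non-scalar element of finite order prime to the characteristic has nonzero discriminant -/
theorem disc_ne_zero (p : ℕ) [Fact p.Prime] [CharP F p] (hp2 : p ≠ 2) (g : GL (Fin 2) F)
    (hg : NonScalar g.val) (m : ℕ) (hm : 0 < m) (hgm : g ^ m = 1) (hpm : ¬ p ∣ m) :
    (g.val 0 0 + g.val 1 1) ^ 2 - 4 * g.val.det ≠ 0 := by
  intro hd
  have h2 : (2 : F) ≠ 0 := two_ne_zero_of_char p hp2
  obtain ⟨t, ht⟩ : ∃ t : F, t = g.val 0 0 + g.val 1 1 := ⟨_, rfl⟩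
  obtain ⟨d, hdd⟩ : ∃ d : F, d = g.val.det := ⟨_, rfl⟩
  rw [← ht, ← hdd] at hd
  obtain ⟨s, hs⟩ : ∃ s : F, s = t / 2 := ⟨_, rfl⟩
  have hts : t = 2 * s := by rw [hs]; field_simp
  have hds : d = s * s := by
    have : 4 * d = 4 * (s * s) := by rw [hts] at hd; linear_combination -hd
    have h4 : (4 : F) ≠ 0 := by
      have : (4 : F) = 2 * 2 := by norm_num
      rw [this]; exact mul_ne_zero h2 h2
    exact mul_left_cancel₀ h4 this
  obtain ⟨M, hM⟩ : ∃ M : Matrix (Fin 2) (Fin 2) F,
      M = g.val - s • (1 : Matrix (Fin 2) (Fin 2) F) := ⟨_, rfl⟩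
  have hgM : g.val = s • (1 : Matrix (Fin 2) (Fin 2) F) + M := by rw [hM]; abel
  have hMM : M * M = 0 := by
    have h1 := sq_eq g.val
    rw [← ht, ← hdd, hts, hds] at h1
    rw [hM]
    simp only [sub_mul, mul_sub, Matrix.smul_mul, Matrix.mul_smul, Matrix.one_mul, Matrix.mul_one,
      h1]
    module
  have hpow : ∀ k : ℕ, g.val ^ (k + 1) =
      s ^ (k + 1) • (1 : Matrix (Fin 2) (Fin 2) F) + (((k + 1 : ℕ) : F) * s ^ k) • M := by
    intro k
    induction k with
    | zero => simp [hgM]
    | succ k ih =>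
      rw [pow_succ, ih]
      conv_lhs => rw [hgM]
      simp only [mul_add, add_mul, Matrix.smul_mul, Matrix.mul_smul, Matrix.one_mul,
        Matrix.mul_one, hMM, smul_zero, add_zero, smul_smul]
      push_cast
      module
  obtain ⟨k, rfl⟩ : ∃ k, m = k + 1 := ⟨m - 1, by omega⟩
  have h1 : g.val ^ (k + 1) = 1 := by
    have := congrArg (fun z : GL (Fin 2) F => (z : Matrix (Fin 2) (Fin 2) F)) hgm
    simpa using this
  rw [hpow k] at h1
  obtain ⟨c, hc⟩ : ∃ c : F, c = ((k + 1 : ℕ) : F) * s ^ k := ⟨_, rfl⟩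
  rw [← hc] at h1
  have e01 := congrFun (congrFun h1 0) 1
  have e10 := congrFun (congrFun h1 1) 0
  have e00 := congrFun (congrFun h1 0) 0
  have e11 := congrFun (congrFun h1 1) 1
  simp [hM] at e01 e10 e00 e11
  have hc0 : c = 0 := by
    rcases hg with hg | hg | hg
    · exact e01.resolve_right hg
    · exact e10.resolve_right hg
    · have : c * (g.val 0 0 - g.val 1 1) = 0 := by linear_combination e00 - e11
      exact (mul_eq_zero.mp this).resolve_right (sub_ne_zero.mpr hg)
  rw [hc] at hc0
  rcases mul_eq_zero.mp hc0 with h3 | h3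
  · rw [CharP.cast_eq_zero_iff F p] at h3
    exact hpm h3
  · rcases k with _ | k
    · simp at h3
    · have hs0 : s = 0 := pow_eq_zero_iff (Nat.succ_ne_zero k) |>.mp h3
      have hd0 : d = 0 := by rw [hds, hs0, mul_zero]
      exact Matrix.GeneralLinearGroup.det_ne_zero g (hdd ▸ hd0)


/-- an element of odd order normalizing a commutative subgroup of `GL₂(F)` whose elements have
order prime to the characteristic centralizes it -/
theorem commute_of_normalizes (p : ℕ) [Fact p.Prime] [CharP F p] (hp2 : p ≠ 2)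
    (R : Subgroup (GL (Fin 2) F)) (hRc : ∀ a ∈ R, ∀ b ∈ R, a * b = b * a)
    (hRp : ∀ g ∈ R, ∃ m : ℕ, 0 < m ∧ g ^ m = 1 ∧ ¬ p ∣ m)
    (n : GL (Fin 2) F) (hn : ∀ x ∈ R, n * x * n⁻¹ ∈ R) (m : ℕ) (hm : Odd m) (hnm : n ^ m = 1) :
    ∀ x ∈ R, n * x = x * n := by
  have h2 : (2 : F) ≠ 0 := two_ne_zero_of_char p hp2
  by_cases hs : ∃ g ∈ R, NonScalar (g : GL (Fin 2) F).val
  · obtain ⟨g, hgR, hgs⟩ := hs
    -- claim: n commutes with g
    have hA : n * g = g * n := by
      obtain ⟨g', hg'⟩ : ∃ g' : GL (Fin 2) F, g' = n * g * n⁻¹ := ⟨_, rfl⟩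
      have hg'R : g' ∈ R := hg' ▸ hn g hgR
      have hcomm : g'.val * g.val = g.val * g'.val := by
        have := hRc g' hg'R g hgR
        have := congrArg (fun z : GL (Fin 2) F => (z : Matrix (Fin 2) (Fin 2) F)) this
        simpa using this
      obtain ⟨α, β, hab⟩ := commutant g.val g'.val hgs hcomm
      obtain ⟨t, ht⟩ : ∃ t : F, t = g.val 0 0 + g.val 1 1 := ⟨_, rfl⟩
      obtain ⟨d, hd⟩ : ∃ d : F, d = g.val.det := ⟨_, rfl⟩
      have hconj : g'.val = n.val * g.val * (n⁻¹ : GL (Fin 2) F).val := by
        rw [hg']; simp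
      have htr : g'.val 0 0 + g'.val 1 1 = t := by
        have h1 : Matrix.trace g'.val = Matrix.trace g.val := by
          rw [hconj, Matrix.trace_mul_comm, ← mul_assoc, ← Units.val_mul, inv_mul_cancel,
            Units.val_one, Matrix.one_mul]
        rw [Matrix.trace_fin_two, Matrix.trace_fin_two] at h1
        rw [h1, ht]
      have hdet : g'.val.det = d := by
        rw [hconj, Matrix.det_mul, Matrix.det_mul, mul_comm, ← mul_assoc, ← Matrix.det_mul,
          ← Units.val_mul, inv_mul_cancel, Units.val_one, Matrix.det_one, one_mul, hd]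
      rw [hab, trace_lin, ← ht] at htr
      rw [hab, det_lin, ← ht, ← hd] at hdet
      have hkey : (1 - β ^ 2) * (t ^ 2 - 4 * d) = 0 := by
        linear_combination 4 * hdet - (2 * α + β * t + t) * htr
      obtain ⟨mg, hmg0, hmg1, hmgp⟩ := hRp g hgR
      have hdisc := disc_ne_zero p hp2 g hgs mg hmg0 hmg1 hmgp
      rw [← ht, ← hd] at hdisc
      have hb : (1 - β) * (1 + β) = 0 := by
        have := (mul_eq_zero.mp hkey).resolve_right hdisc
        linear_combination this
      rcases mul_eq_zero.mp hb with hb1 | hb1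
      · -- β = 1
        have hβ : β = 1 := by linear_combination -hb1
        have hα : α = 0 := by
          rw [hβ] at htr
          have : 2 * α = 0 := by linear_combination htr
          exact (mul_eq_zero.mp this).resolve_left h2
        rw [hα, hβ, zero_smul, zero_add, one_smul] at hab
        have : g' = g := Units.ext hab
        rw [hg'] at this
        calc n * g = n * g * n⁻¹ * n := by group
          _ = g * n := by rw [this]
      · -- β = -1
        exfalso
        have hβ : β = -1 := by linear_combination hb1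
        have hα : α = t := by
          rw [hβ] at htr
          have : 2 * α = 2 * t := by linear_combination htr
          exact mul_left_cancel₀ h2 this
        rw [hα, hβ] at hab
        -- n² commutes with g
        have hn2 : (n * n).val * g.val = g.val * (n * n).val := by
          have e1g : n * g = g' * n := by rw [hg']; group
          have e1 : n.val * g.val = g'.val * n.val := by
            have := congrArg Units.val e1g
            simpa only [Units.val_mul] using this
          have e2 : n.val * g'.val = g.val * n.val := by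
            calc n.val * g'.val
                = n.val * (t • (1 : Matrix (Fin 2) (Fin 2) F) + (-1 : F) • g.val) := by
                  conv_lhs => rw [hab]
              _ = t • n.val + (-1 : F) • (n.val * g.val) := by
                  rw [mul_add, Matrix.mul_smul, Matrix.mul_smul, Matrix.mul_one]
              _ = t • n.val + (-1 : F) • (g'.val * n.val) := by rw [e1]
              _ = t • n.val + (-1 : F) •
                    ((t • (1 : Matrix (Fin 2) (Fin 2) F) + (-1 : F) • g.val) * n.val) := by
                  conv_lhs => rw [hab]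
              _ = g.val * n.val := by
                  rw [add_mul, Matrix.smul_mul, Matrix.smul_mul, Matrix.one_mul]
                  module
          rw [Units.val_mul, mul_assoc, e1, ← mul_assoc, e2, mul_assoc]
        have hn2' : (n * n) * g = g * (n * n) := Units.ext (by simpa using hn2)
        obtain ⟨j, hj⟩ := hm
        have hnn : n = (n * n) ^ (j + 1) := by
          rw [← pow_two, ← pow_mul]
          have : 2 * (j + 1) = m + 1 := by omega
          rw [this, pow_succ, hnm, one_mul]
        have hcg : Commute (n * n) g := hn2'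
        have hng : n * g = g * n := by
          have := (hcg.pow_left (j + 1)).eq
          rw [← hnn] at this
          exact this
        have hgg : g' = g := by
          rw [hg', hng]; group
        rw [hgg] at hab
        -- g = t - g, so 2 g = t, g scalar
        rcases hgs with h01 | h10 | h00
        · have := congrFun (congrFun hab 0) 1
          simp at this
          have h3 : 2 * g.val 0 1 = 0 := by linear_combination this
          exact h01 ((mul_eq_zero.mp h3).resolve_left h2)
        · have := congrFun (congrFun hab 1) 0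
          simp at this
          have h3 : 2 * g.val 1 0 = 0 := by linear_combination this
          exact h10 ((mul_eq_zero.mp h3).resolve_left h2)
        · have e0 := congrFun (congrFun hab 0) 0
          have e1 := congrFun (congrFun hab 1) 1
          simp at e0 e1
          have h3 : 2 * (g.val 0 0 - g.val 1 1) = 0 := by linear_combination e0 - e1
          exact h00 (sub_eq_zero.mp ((mul_eq_zero.mp h3).resolve_left h2))
    intro x hx
    have hxg : x.val * g.val = g.val * x.val := by
      have := hRc x hx g hgR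
      have := congrArg (fun z : GL (Fin 2) F => (z : Matrix (Fin 2) (Fin 2) F)) this
      simpa using this
    have hng : n.val * g.val = g.val * n.val := by
      have := congrArg (fun z : GL (Fin 2) F => (z : Matrix (Fin 2) (Fin 2) F)) hA
      simpa using this
    apply Units.ext
    rw [Units.val_mul, Units.val_mul]
    exact commute_of_commute_nonScalar _ _ _ hgs hng hxg
  · push Not at hs
    intro x hx
    have hsc := scalar_of_not_nonScalar _ (hs x hx)
    apply Units.ext
    rw [Units.val_mul, Units.val_mul, hsc]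
    exact scalar_commute _ _


/-- the subgroup of `GL₂(F)` fixing a vector -/
def vecStab (v : Fin 2 → F) : Subgroup (GL (Fin 2) F) where
  carrier := {g | (g : Matrix (Fin 2) (Fin 2) F).mulVec v = v}
  mul_mem' := by
    intro a b ha hb
    change ((a * b : GL (Fin 2) F) : Matrix (Fin 2) (Fin 2) F).mulVec v = v
    rw [Units.val_mul, ← Matrix.mulVec_mulVec, hb, ha]
  one_mem' := by
    change ((1 : GL (Fin 2) F) : Matrix (Fin 2) (Fin 2) F).mulVec v = v
    rw [Units.val_one, Matrix.one_mulVec]
  inv_mem' := by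
    intro a ha
    change ((a⁻¹ : GL (Fin 2) F) : Matrix (Fin 2) (Fin 2) F).mulVec v = v
    have ha' : (a : Matrix (Fin 2) (Fin 2) F).mulVec v = v := ha
    conv_lhs => rw [← ha']
    rw [Matrix.mulVec_mulVec, ← Units.val_mul, inv_mul_cancel, Units.val_one, Matrix.one_mulVec]

theorem fixesLine_of_le_vecStab (K : Subgroup (GL (Fin 2) F)) (v : Fin 2 → F)
    (h : K ≤ vecStab v) : FixesLine K v := by
  intro g hg
  have : (g : Matrix (Fin 2) (Fin 2) F).mulVec v = v := h hg
  rw [this]
  exact Submodule.mem_span_singleton_self v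

/-- a nontrivial unipotent element fixes a nonzero vector -/
theorem exists_fixed_vector (u : GL (Fin 2) F) (hu1 : u ≠ 1)
    (hN : ((u : Matrix (Fin 2) (Fin 2) F) - 1) * ((u : Matrix (Fin 2) (Fin 2) F) - 1) = 0) :
    ∃ v : Fin 2 → F, v ≠ 0 ∧ u ∈ vecStab v := by
  have hNne : (u : Matrix (Fin 2) (Fin 2) F) - 1 ≠ 0 := by
    intro h0
    apply hu1
    apply Units.ext
    rw [Units.val_one]
    exact sub_eq_zero.mp h0
  obtain ⟨w, hw⟩ : ∃ w : Fin 2 → F, ((u : Matrix (Fin 2) (Fin 2) F) - 1).mulVec w ≠ 0 := by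
    by_contra hcon
    push Not at hcon
    apply hNne
    ext i j
    have := congrFun (hcon (Pi.single j 1)) i
    simpa using this
  refine ⟨((u : Matrix (Fin 2) (Fin 2) F) - 1).mulVec w, hw, ?_⟩
  change (u : Matrix (Fin 2) (Fin 2) F).mulVec _ = _
  have h1 : ((u : Matrix (Fin 2) (Fin 2) F) - 1).mulVec
      (((u : Matrix (Fin 2) (Fin 2) F) - 1).mulVec w) = 0 := by
    rw [Matrix.mulVec_mulVec, hN, Matrix.zero_mulVec]
  rw [Matrix.sub_mulVec, Matrix.one_mulVec, sub_eq_zero] at h1
  exact h1


/-- the `p`-group case -/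
theorem exists_fixesLine_of_isPGroup (p : ℕ) [Fact p.Prime] [CharP F p]
    (H : Subgroup (GL (Fin 2) F)) [Finite H] (hH : IsPGroup p H) (hH1 : H ≠ ⊥) :
    ∃ v : Fin 2 → F, v ≠ 0 ∧ FixesLine H v := by
  have hnt : Nontrivial H := (Subgroup.nontrivial_iff_ne_bot H).mpr hH1
  have hcen := hH.bot_lt_center
  have hcne : Nat.card (Subgroup.center H) ≠ 1 := by
    intro h
    rw [Subgroup.card_eq_one] at h
    exact (ne_of_gt hcen) h
  have hdvd : p ∣ Nat.card (Subgroup.center H) := by
    rcases (hH.to_subgroup (Subgroup.center H)).card_eq_or_dvd with h | h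
    · exact absurd h hcne
    · exact h
  obtain ⟨z, hz⟩ := exists_prime_orderOf_dvd_card' p hdvd
  obtain ⟨u, hu⟩ : ∃ u : GL (Fin 2) F, u = ((z : H) : GL (Fin 2) F) := ⟨_, rfl⟩
  have hup : u ^ p ^ 1 = 1 := by
    have : z ^ p = 1 := by rw [← hz]; exact pow_orderOf_eq_one z
    rw [hu, pow_one]
    have := congrArg (fun y : Subgroup.center H => (((y : H) : GL (Fin 2) F))) this
    simpa using this
  have hu1 : u ≠ 1 := by
    intro h1
    have : z = 1 := by
      apply Subtype.ext
      apply Subtype.ext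
      rw [← hu, h1]
      rfl
    rw [this, orderOf_one] at hz
    exact (Fact.out : p.Prime).one_lt.ne hz
  obtain ⟨v, hv, huv⟩ := exists_fixed_vector u hu1 (unipotent_sq_zero p u 1 hup)
  refine ⟨v, hv, ?_⟩
  apply fixesLine_of_normal p H (Subgroup.zpowers u) ?_ u (Subgroup.mem_zpowers u) hu1 1 hup v hv
  · apply fixesLine_of_le_vecStab
    rw [Subgroup.zpowers_le]
    exact huv
  · intro h hh k hk
    have hcomm : ∀ y ∈ Subgroup.zpowers u, h * y = y * h := by
      intro y hy
      obtain ⟨j, rfl⟩ := hy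
      have h1 : Commute h u := by
        have := Subgroup.mem_center_iff.mp z.2 ⟨h, hh⟩
        have := congrArg (fun y : H => (y : GL (Fin 2) F)) this
        simp only [Subgroup.coe_mul] at this
        rw [hu]
        exact this
      exact (h1.zpow_right j).eq
    have : h⁻¹ * k * h = k := by
      rw [mul_assoc, ← hcomm k hk, ← mul_assoc, inv_mul_cancel, one_mul]
    rw [this]
    exact hk


/-- **Main theorem.** A finite subgroup of odd order of `GL₂(F)`, `F` of odd characteristic `p`,
whose order is divisible by `p`, fixes a line. -/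
theorem exists_fixesLine (p : ℕ) [Fact p.Prime] [CharP F p] (hp2 : p ≠ 2) :
    ∀ (n : ℕ) (H : Subgroup (GL (Fin 2) F)), Finite H → Nat.card H = n → Odd n → p ∣ n →
      ∃ v : Fin 2 → F, v ≠ 0 ∧ FixesLine H v := by
  have hpp : p.Prime := Fact.out
  intro n
  induction n using Nat.strong_induction_on with
  | _ n ih =>
    intro H hfin hcard hodd hpn
    have hn0 : n ≠ 0 := by rintro rfl; simp at hodd
    by_cases hr : ∃ r : ℕ, r.Prime ∧ r ≠ p ∧ r ∣ n
    · obtain ⟨r, hrp, hrne, hrn⟩ := hr
      have : Fact r.Prime := ⟨hrp⟩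
      have hr2 : r ≠ 2 := by
        rintro rfl
        exact (Nat.not_even_iff_odd.mpr hodd) (even_iff_two_dvd.mpr hrn)
      obtain ⟨R⟩ : Nonempty (Sylow r H) := inferInstance
      obtain ⟨R', hR'⟩ : ∃ R' : Subgroup (GL (Fin 2) F), R' = (R : Subgroup H).map H.subtype :=
        ⟨_, rfl⟩
      have hR'mem : ∀ y ∈ R', ∃ y₀ : H, y₀ ∈ R ∧ (y₀ : GL (Fin 2) F) = y := by
        intro y hy
        rw [hR'] at hy
        obtain ⟨y₀, hy₀, rfl⟩ := hy
        exact ⟨y₀, hy₀, rfl⟩
      have hR'fin : Finite R' := by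
        have hle : R' ≤ H := by rw [hR']; exact Subgroup.map_subtype_le _
        exact Finite.of_injective (Subgroup.inclusion hle) (Subgroup.inclusion_injective hle)
      have hR'p : IsPGroup r R' := by
        rw [hR']
        exact R.isPGroup'.map _
      have hR'c := comm_of_isPGroup R' r hr2 hR'p
      have hR'ord : ∀ g ∈ R', ∃ m : ℕ, 0 < m ∧ g ^ m = 1 ∧ ¬ p ∣ m := by
        intro g hg
        obtain ⟨k, hk⟩ := hR'p ⟨g, hg⟩
        refine ⟨r ^ k, pow_pos hrp.pos k, ?_, ?_⟩
        · have := congrArg Subtype.val hk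
          simpa using this
        · intro hd
          exact hrne ((Nat.prime_dvd_prime_iff_eq hpp hrp).mp (hpp.dvd_of_dvd_pow hd)).symm
      have hN : Subgroup.normalizer ((R : Subgroup H) : Set H) ≤
          Subgroup.centralizer ((R : Subgroup H) : Set H) := by
        intro ν hν
        rw [Subgroup.mem_centralizer_iff]
        intro x hx
        have hνodd : Odd (orderOf ν) := by
          have : orderOf ν ∣ n := hcard ▸ orderOf_dvd_natCard ν
          exact Odd.of_dvd_nat hodd this
        have hnorm : ∀ y ∈ R', (ν : GL (Fin 2) F) * y * (ν : GL (Fin 2) F)⁻¹ ∈ R' := by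
          intro y hy
          obtain ⟨y₀, hy₀, rfl⟩ := hR'mem y hy
          rw [hR']
          refine ⟨ν * y₀ * ν⁻¹, ?_, by simp⟩
          exact (Subgroup.mem_set_normalizer_iff.mp hν y₀).mp hy₀
        have hpow : (ν : GL (Fin 2) F) ^ orderOf ν = 1 := by
          have := congrArg Subtype.val (pow_orderOf_eq_one ν)
          rw [Subgroup.coe_pow] at this
          exact this
        have hxR' : (x : GL (Fin 2) F) ∈ R' := by
          rw [hR']
          exact ⟨x, hx, rfl⟩
        have := commute_of_normalizes p hp2 R' hR'c hR'ord (ν : GL (Fin 2) F) hnorm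
          (orderOf ν) hνodd hpow (x : GL (Fin 2) F) hxR'
        apply Subtype.ext
        simp only [Subgroup.coe_mul]
        exact this.symm
      have hcompl := MonoidHom.ker_transferSylow_isComplement' R hN
      obtain ⟨K, hK⟩ : ∃ K : Subgroup H, K = (MonoidHom.transferSylow R hN).ker := ⟨_, rfl⟩
      rw [← hK] at hcompl
      have hKn : K.Normal := by rw [hK]; infer_instance
      have hcardKR : Nat.card K * Nat.card (R : Subgroup H) = n := by
        rw [← hcard]
        exact hcompl.card_mul_card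
      obtain ⟨K', hK'⟩ : ∃ K' : Subgroup (GL (Fin 2) F), K' = K.map H.subtype := ⟨_, rfl⟩
      have hK'card : Nat.card K' = Nat.card K := by
        rw [hK']
        exact Subgroup.card_map_of_injective (Subgroup.subtype_injective H)
      have hRcard : 1 < Nat.card (R : Subgroup H) := by
        have hne : (R : Subgroup H) ≠ ⊥ := by
          have : r ∣ Nat.card H := hcard ▸ hrn
          exact R.ne_bot_of_dvd_card this
        have h1 : Nat.card (R : Subgroup H) ≠ 1 := by
          intro h
          exact hne (Subgroup.card_eq_one.mp h)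
        have h0 : Nat.card (R : Subgroup H) ≠ 0 := Nat.card_pos.ne'
        omega
      have hKpos : 0 < Nat.card K := Nat.card_pos
      have hKlt : Nat.card K' < n := by
        rw [hK'card, ← hcardKR]
        nlinarith
      have hKdvd : Nat.card K' ∣ n := by
        rw [hK'card, ← hcardKR]
        exact dvd_mul_right _ _
      have hKodd : Odd (Nat.card K') := Odd.of_dvd_nat hodd hKdvd
      have hpK : p ∣ Nat.card K' := by
        rw [hK'card]
        rw [← hcardKR] at hpn
        rcases (Nat.Prime.dvd_mul hpp).mp hpn with h | h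
        · exact h
        · exfalso
          obtain ⟨k, hk⟩ := IsPGroup.iff_card.mp R.isPGroup'
          rw [hk] at h
          exact hrne ((Nat.prime_dvd_prime_iff_eq hpp hrp).mp (hpp.dvd_of_dvd_pow h)).symm
      have hK'fin : Finite K' := by
        have hle : K' ≤ H := by rw [hK']; exact Subgroup.map_subtype_le _
        exact Finite.of_injective (Subgroup.inclusion hle) (Subgroup.inclusion_injective hle)
      obtain ⟨v, hv, hKv⟩ := ih (Nat.card K') hKlt K' hK'fin rfl hKodd hpK
      obtain ⟨u₀, hu₀⟩ := exists_prime_orderOf_dvd_card' p hpK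
      refine ⟨v, hv, ?_⟩
      apply fixesLine_of_normal p H K' ?_ (u₀ : GL (Fin 2) F) u₀.2 ?_ 1 ?_ v hv hKv
      · intro h hh k hk
        rw [hK'] at hk ⊢
        obtain ⟨k₀, hk₀, rfl⟩ := hk
        refine ⟨(⟨h, hh⟩ : H)⁻¹ * k₀ * ⟨h, hh⟩, ?_, by simp⟩
        have := hKn.conj_mem k₀ hk₀ (⟨h, hh⟩ : H)⁻¹
        rwa [inv_inv] at this
      · intro h1
        have : u₀ = 1 := Subtype.ext h1
        rw [this, orderOf_one] at hu₀
        exact hpp.one_lt.ne hu₀
      · rw [pow_one]
        have : u₀ ^ p = 1 := by rw [← hu₀]; exact pow_orderOf_eq_one u₀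
        have := congrArg Subtype.val this
        simpa using this
    · -- `H` is a `p`-group
      push Not at hr
      have hHp : IsPGroup p H := by
        apply IsPGroup.of_card (n := n.primeFactorsList.length)
        rw [hcard]
        apply Nat.eq_prime_pow_of_unique_prime_dvd hn0
        intro d hd hdn
        by_contra hdp
        exact hr d hd hdp hdn
      have hH1 : H ≠ ⊥ := by
        rintro rfl
        rw [Subgroup.card_bot] at hcard
        rw [← hcard] at hpn
        exact hpp.one_lt.ne' (Nat.dvd_one.mp hpn)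
      exact exists_fixesLine_of_isPGroup p H hHp hH1

end Cfsg.Agent.Lib.Helper11.OddGL2
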