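import Mathlib
import Cfsg.Agent.Lib.Helper11.OddGL2

set_option autoImplicit false

namespace Cfsg.Agent.Lib.Helper11.QuadPair

open Module Cfsg.Agent.Lib.Helper11.OddGL2

variable {K : Type*} [Field K] {V : Type*} [AddCommGroup V] [Module K V]

/-- dimension count for a pair of square-zero operators with trivial common kernel -/
theorem ker_facts [FiniteDimensional K V] (Nx Ny : End K V) (hx : Nx * Nx = 0) (hy : Ny * Ny = 0)
    (hker : LinearMap.ker Nx ⊓ LinearMap.ker Ny = ⊥) :
    LinearMap.range Nx = LinearMap.ker Nx ∧ LinearMap.range Ny = LinearMap.ker Ny ∧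
      2 * finrank K (LinearMap.ker Ny) = finrank K V := by
  have hrx : LinearMap.range Nx ≤ LinearMap.ker Nx := by
    rintro _ ⟨v, rfl⟩
    rw [LinearMap.mem_ker]
    have := LinearMap.congr_fun hx v
    simpa using this
  have hry : LinearMap.range Ny ≤ LinearMap.ker Ny := by
    rintro _ ⟨v, rfl⟩
    rw [LinearMap.mem_ker]
    have := LinearMap.congr_fun hy v
    simpa using this
  have h1 := LinearMap.finrank_range_add_finrank_ker Nx
  have h2 := LinearMap.finrank_range_add_finrank_ker Ny
  have h3 := Submodule.finrank_mono hrx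
  have h4 := Submodule.finrank_mono hry
  have h5 := Submodule.finrank_sup_add_finrank_inf_eq (LinearMap.ker Nx) (LinearMap.ker Ny)
  rw [hker, finrank_bot, add_zero] at h5
  have h6 : finrank K ↥(LinearMap.ker Nx ⊔ LinearMap.ker Ny) ≤ finrank K V :=
    Submodule.finrank_le _
  refine ⟨?_, ?_, ?_⟩
  · apply Submodule.eq_of_le_of_finrank_eq hrx
    omega
  · apply Submodule.eq_of_le_of_finrank_eq hry
    omega
  · omega


theorem pow_lower (k : ℕ) :
    (!![1, 0; 1, 1] : Matrix (Fin 2) (Fin 2) K) ^ k = !![1, 0; (k : K), 1] := by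
  induction k with
  | zero =>
    ext i j
    fin_cases i <;> fin_cases j <;> simp
  | succ k ih =>
    rw [pow_succ, ih]
    ext i j
    fin_cases i <;> fin_cases j <;> simp [Matrix.mul_apply, Fin.sum_univ_two]

/-- a finite subgroup of `GL₂(K)` of odd order cannot contain a lower and an upper elementary
unipotent matrix -/
theorem no_odd_pair (p : ℕ) [Fact p.Prime] [CharP K p] (hp2 : p ≠ 2) (lam : K) (hlam : lam ≠ 0)
    (H : Subgroup (GL (Fin 2) K)) [Finite H] (hodd : Odd (Nat.card H))
    (A B : GL (Fin 2) K) (hA : A ∈ H) (hB : B ∈ H) (hAv : A.val = !![1, 0; 1, 1])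
    (hBv : B.val = !![1, lam; 0, 1]) : False := by
  have hpp : p.Prime := Fact.out
  have hAp : A ^ p = 1 := by
    apply Units.ext
    rw [Units.val_pow_eq_pow_val, hAv, pow_lower, Units.val_one, CharP.cast_eq_zero]
    ext i j
    fin_cases i <;> fin_cases j <;> simp
  have hA1 : A ≠ 1 := by
    intro h
    have := congrArg (fun g : GL (Fin 2) K => (g : Matrix (Fin 2) (Fin 2) K) 1 0) h
    simp [hAv] at this
  have hord : orderOf A = p := orderOf_eq_prime hAp hA1
  have hpH : p ∣ Nat.card H := by
    have h1 : orderOf (⟨A, hA⟩ : H) = p := by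
      rw [← hord]
      exact Subgroup.orderOf_mk A hA
    rw [← h1]
    exact orderOf_dvd_natCard _
  obtain ⟨w, hw, hfix⟩ := exists_fixesLine p hp2 (Nat.card H) H inferInstance rfl hodd hpH
  have h1 := hfix A hA
  have h2 := hfix B hB
  rw [Submodule.mem_span_singleton] at h1 h2
  obtain ⟨μ, hμ⟩ := h1
  obtain ⟨ν, hν⟩ := h2
  have e0 := congrFun hμ 0
  have e1 := congrFun hμ 1
  have f0 := congrFun hν 0
  have f1 := congrFun hν 1
  simp [hAv, hBv, Matrix.mulVec, dotProduct, Fin.sum_univ_two] at e0 e1 f0 f1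
  have hw0 : w 0 = 0 := by
    by_contra h0
    have hμ1 : μ = 1 := by
      have : (μ - 1) * w 0 = 0 := by linear_combination e0
      have := (mul_eq_zero.mp this).resolve_right h0
      linear_combination this
    rw [hμ1, one_mul] at e1
    apply h0
    linear_combination -e1
  have hw1 : w 1 ≠ 0 := by
    intro h1
    apply hw
    ext i
    fin_cases i
    · exact hw0
    · exact h1
  rw [hw0] at f0
  have : lam * w 1 = 0 := by linear_combination -f0
  exact hlam ((mul_eq_zero.mp this).resolve_right hw1)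


/-- coordinates on the plane spanned by `u`, `v` -/
def planeMap (u v : V) (w : Fin 2 → K) : V := w 0 • u + w 1 • v

theorem planeMap_injective (u v : V)
    (hind : ∀ a b : K, a • u + b • v = 0 → a = 0 ∧ b = 0) :
    Function.Injective (planeMap (K := K) u v) := by
  intro w w' h
  unfold planeMap at h
  have : (w 0 - w' 0) • u + (w 1 - w' 1) • v = 0 := by
    rw [sub_smul, sub_smul]
    have := sub_eq_zero.mpr h
    rw [← this]
    abel
  obtain ⟨h0, h1⟩ := hind _ _ this
  ext i
  fin_cases i
  · exact sub_eq_zero.mp h0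
  · exact sub_eq_zero.mp h1

theorem matrix_eq_of_mulVec (M M' : Matrix (Fin 2) (Fin 2) K)
    (h : ∀ w : Fin 2 → K, M.mulVec w = M'.mulVec w) : M = M' := by
  ext i j
  have := congrFun (h (Pi.single j 1)) i
  simpa using this

variable {Γ : Type*} [Group Γ] [Finite Γ]

/-- **Core lemma.** Two square-zero-unipotent generators of a finite group of odd order acting on a
nonzero finite-dimensional space over an algebraically closed field of odd characteristic have a
common nonzero fixed vector. -/
theorem exists_common_fixed [IsAlgClosed K] [FiniteDimensional K V] [Nontrivial V]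
    (p : ℕ) [Fact p.Prime] [CharP K p] (hp2 : p ≠ 2)
    (hodd : Odd (Nat.card Γ)) (ρ : Γ →* End K V) (x y : Γ)
    (hgen : Subgroup.closure {x, y} = ⊤)
    (hx : (ρ x - 1) * (ρ x - 1) = 0) (hy : (ρ y - 1) * (ρ y - 1) = 0) :
    ∃ v : V, v ≠ 0 ∧ ρ x v = v ∧ ρ y v = v := by
  by_contra hcon
  push Not at hcon
  obtain ⟨Nx, hNx⟩ : ∃ Nx : End K V, Nx = ρ x - 1 := ⟨_, rfl⟩
  obtain ⟨Ny, hNy⟩ : ∃ Ny : End K V, Ny = ρ y - 1 := ⟨_, rfl⟩
  rw [← hNx] at hx
  rw [← hNy] at hy
  have hρx : ∀ v : V, ρ x v = v + Nx v := by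
    intro v; rw [hNx]; simp
  have hρy : ∀ v : V, ρ y v = v + Ny v := by
    intro v; rw [hNy]; simp
  have hker : LinearMap.ker Nx ⊓ LinearMap.ker Ny = ⊥ := by
    rw [eq_bot_iff]
    intro v hv
    rw [Submodule.mem_inf, LinearMap.mem_ker, LinearMap.mem_ker] at hv
    rw [Submodule.mem_bot]
    by_contra hv0
    apply hcon v hv0
    · rw [hρx, hv.1, add_zero]
    · rw [hρy, hv.2, add_zero]
  have hker0 : ∀ v : V, Nx v = 0 → Ny v = 0 → v = 0 := by
    intro v h1 h2
    have : v ∈ LinearMap.ker Nx ⊓ LinearMap.ker Ny := by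
      rw [Submodule.mem_inf, LinearMap.mem_ker, LinearMap.mem_ker]
      exact ⟨h1, h2⟩
    rw [hker, Submodule.mem_bot] at this
    exact this
  obtain ⟨hrx, hry, hdim⟩ := ker_facts Nx Ny hx hy hker
  have hNN : ∀ v : V, Nx (Nx v) = 0 := by
    intro v
    have := LinearMap.congr_fun hx v
    simpa using this
  have hMM : ∀ v : V, Ny (Ny v) = 0 := by
    intro v
    have := LinearMap.congr_fun hy v
    simpa using this
  have hpos : 0 < finrank K V := Module.finrank_pos
  have hUy : Nontrivial ↥(LinearMap.ker Ny) := by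
    apply Module.nontrivial_of_finrank_pos (R := K)
    omega
  -- the operator Ny ∘ Nx on ker Ny
  have hinv : ∀ u ∈ LinearMap.ker Ny, (Ny * Nx) u ∈ LinearMap.ker Ny := by
    intro u _
    rw [LinearMap.mem_ker]
    exact hMM _
  obtain ⟨lam, hlam⟩ := Module.End.exists_eigenvalue ((Ny * Nx).restrict hinv)
  obtain ⟨u', hu'⟩ := hlam.exists_hasEigenvector
  obtain ⟨u, hu⟩ : ∃ u : V, u = (u' : V) := ⟨_, rfl⟩
  have hu0 : u ≠ 0 := by
    rw [hu]
    intro h
    exact hu'.2 (Subtype.ext h)
  have huy : Ny u = 0 := by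
    rw [hu]
    exact LinearMap.mem_ker.mp u'.2
  have hcu : Ny (Nx u) = lam • u := by
    have := hu'.apply_eq_smul
    have := congrArg Subtype.val this
    rw [hu]
    simpa using this
  obtain ⟨v, hv⟩ : ∃ v : V, v = Nx u := ⟨_, rfl⟩
  have hv0 : v ≠ 0 := by
    intro h
    rw [hv] at h
    exact hu0 (hker0 u h huy)
  have hxv : Nx v = 0 := by rw [hv]; exact hNN u
  have hyv : Ny v = lam • u := by rw [hv]; exact hcu
  have hlam0 : lam ≠ 0 := by
    intro h
    rw [h, zero_smul] at hyv
    exact hv0 (hker0 v hxv hyv)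
  have hind : ∀ a b : K, a • u + b • v = 0 → a = 0 ∧ b = 0 := by
    intro a b hab
    have h1 := congrArg Ny hab
    rw [map_add, map_smul, map_smul, huy, hyv, smul_zero, zero_add, map_zero, smul_smul] at h1
    have hb : b = 0 := by
      rcases smul_eq_zero.mp h1 with h | h
      · exact (mul_eq_zero.mp h).resolve_right hlam0
      · exact absurd h hu0
    rw [hb, zero_smul, add_zero] at hab
    rcases smul_eq_zero.mp hab with h | h
    · exact ⟨h, hb⟩
    · exact absurd h hu0
  have hπinj := planeMap_injective (K := K) u v hind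
  -- every group element acts on the plane by a matrix
  have hmat : ∀ g : Γ, ∃ M : Matrix (Fin 2) (Fin 2) K,
      ∀ w : Fin 2 → K, ρ g (planeMap u v w) = planeMap u v (M.mulVec w) := by
    have hx' : ∃ M : Matrix (Fin 2) (Fin 2) K,
        ∀ w : Fin 2 → K, ρ x (planeMap u v w) = planeMap u v (M.mulVec w) := by
      refine ⟨!![1, 0; 1, 1], ?_⟩
      intro w
      unfold planeMap
      rw [hρx, map_add, map_smul, map_smul, hxv, ← hv]
      simp [Matrix.mulVec, dotProduct, Fin.sum_univ_two]
      module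
    have hy' : ∃ M : Matrix (Fin 2) (Fin 2) K,
        ∀ w : Fin 2 → K, ρ y (planeMap u v w) = planeMap u v (M.mulVec w) := by
      refine ⟨!![1, lam; 0, 1], ?_⟩
      intro w
      unfold planeMap
      rw [hρy, map_add, map_smul, map_smul, huy, hyv]
      simp [Matrix.mulVec, dotProduct, Fin.sum_univ_two]
      module
    have hmul : ∀ g h : Γ, (∃ M : Matrix (Fin 2) (Fin 2) K,
        ∀ w : Fin 2 → K, ρ g (planeMap u v w) = planeMap u v (M.mulVec w)) →
        (∃ M : Matrix (Fin 2) (Fin 2) K,
        ∀ w : Fin 2 → K, ρ h (planeMap u v w) = planeMap u v (M.mulVec w)) →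
        ∃ M : Matrix (Fin 2) (Fin 2) K,
        ∀ w : Fin 2 → K, ρ (g * h) (planeMap u v w) = planeMap u v (M.mulVec w) := by
      rintro g h ⟨M, hM⟩ ⟨M', hM'⟩
      refine ⟨M * M', ?_⟩
      intro w
      rw [map_mul, Module.End.mul_apply, hM', hM, Matrix.mulVec_mulVec]
    have hone : ∃ M : Matrix (Fin 2) (Fin 2) K,
        ∀ w : Fin 2 → K, ρ (1 : Γ) (planeMap u v w) = planeMap u v (M.mulVec w) := by
      refine ⟨1, ?_⟩
      intro w
      rw [map_one, Matrix.one_mulVec]
      rfl
    have hpow : ∀ (g : Γ) (k : ℕ), (∃ M : Matrix (Fin 2) (Fin 2) K,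
        ∀ w : Fin 2 → K, ρ g (planeMap u v w) = planeMap u v (M.mulVec w)) →
        ∃ M : Matrix (Fin 2) (Fin 2) K,
        ∀ w : Fin 2 → K, ρ (g ^ k) (planeMap u v w) = planeMap u v (M.mulVec w) := by
      intro g k hg
      induction k with
      | zero => rw [pow_zero]; exact hone
      | succ k ih => rw [pow_succ]; exact hmul _ _ ih hg
    intro g
    have hg : g ∈ Subgroup.closure {x, y} := by rw [hgen]; exact Subgroup.mem_top g
    induction hg using Subgroup.closure_induction with
    | mem z hz =>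
      rcases hz with rfl | hz
      · exact hx'
      · rw [Set.mem_singleton_iff] at hz
        rw [hz]; exact hy'
    | one => exact hone
    | mul a b _ _ ha hb => exact hmul a b ha hb
    | inv a _ ha =>
      have : a⁻¹ = a ^ (orderOf a - 1) := by
        have h1 : a * a ^ (orderOf a - 1) = 1 := by
          rw [← pow_succ', Nat.sub_add_cancel (orderOf_pos a), pow_orderOf_eq_one]
        exact inv_eq_of_mul_eq_one_right h1
      rw [this]
      exact hpow a _ ha
  choose σ hσ using hmat
  have hσuniq : ∀ (g : Γ) (M : Matrix (Fin 2) (Fin 2) K),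
      (∀ w : Fin 2 → K, ρ g (planeMap u v w) = planeMap u v (M.mulVec w)) → σ g = M := by
    intro g M hM
    apply matrix_eq_of_mulVec
    intro w
    apply hπinj
    rw [← hσ g w, hM w]
  have hσone : σ 1 = 1 := by
    apply hσuniq
    intro w
    rw [map_one, Matrix.one_mulVec]
    rfl
  have hσmul : ∀ g h : Γ, σ (g * h) = σ g * σ h := by
    intro g h
    apply hσuniq
    intro w
    rw [map_mul, Module.End.mul_apply, hσ h, hσ g, Matrix.mulVec_mulVec]
  have hσx : σ x = !![1, 0; 1, 1] := by
    apply hσuniq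
    intro w
    unfold planeMap
    rw [hρx, map_add, map_smul, map_smul, hxv, ← hv]
    simp [Matrix.mulVec, dotProduct, Fin.sum_univ_two]
    module
  have hσy : σ y = !![1, lam; 0, 1] := by
    apply hσuniq
    intro w
    unfold planeMap
    rw [hρy, map_add, map_smul, map_smul, huy, hyv]
    simp [Matrix.mulVec, dotProduct, Fin.sum_univ_two]
    module
  let σh : Γ →* Matrix (Fin 2) (Fin 2) K :=
    { toFun := σ, map_one' := hσone, map_mul' := hσmul }
  let σu : Γ →* GL (Fin 2) K := σh.toHomUnits
  have hfin : Finite σu.range :=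
    Finite.of_surjective σu.rangeRestrict (MonoidHom.rangeRestrict_surjective σu)
  have hoddr : Odd (Nat.card σu.range) := Odd.of_dvd_nat hodd (Subgroup.card_range_dvd σu)
  exact no_odd_pair p hp2 lam hlam0 σu.range hoddr (σu x) (σu y) ⟨x, rfl⟩ ⟨y, rfl⟩ hσx hσy


universe uV

/-- **Unipotence.** Under the hypotheses of the core lemma every group element acts unipotently. -/
theorem unipotent [IsAlgClosed K] (p : ℕ) [Fact p.Prime] [CharP K p] (hp2 : p ≠ 2)
    (hodd : Odd (Nat.card Γ)) (x y : Γ) (hgen : Subgroup.closure {x, y} = ⊤) :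
    ∀ (n : ℕ) (V : Type uV) [AddCommGroup V] [Module K V] [FiniteDimensional K V],
      finrank K V = n → ∀ ρ : Γ →* End K V, (ρ x - 1) * (ρ x - 1) = 0 →
      (ρ y - 1) * (ρ y - 1) = 0 → ∀ g : Γ, (ρ g - 1) ^ n = 0 := by
  intro n
  induction n with
  | zero =>
    intro V _ _ _ hn ρ _ _ g
    have : Subsingleton V := Module.finrank_zero_iff.mp hn
    ext v
    exact Subsingleton.elim _ _
  | succ n ih =>
    intro V _ _ _ hn ρ hx hy g
    have hnt : Nontrivial V := Module.nontrivial_of_finrank_pos (R := K) (by omega)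
    obtain ⟨v₀, hv₀, hxv, hyv⟩ := exists_common_fixed p hp2 hodd ρ x y hgen hx hy
    have hfix : ∀ g : Γ, ρ g v₀ = v₀ := by
      intro g
      have hg : g ∈ Subgroup.closure {x, y} := by rw [hgen]; exact Subgroup.mem_top g
      induction hg using Subgroup.closure_induction with
      | mem z hz =>
        rcases hz with rfl | hz
        · exact hxv
        · rw [Set.mem_singleton_iff] at hz
          rw [hz]; exact hyv
      | one => rw [map_one]; rfl
      | mul a b _ _ ha hb => rw [map_mul, Module.End.mul_apply, hb, ha]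
      | inv a _ ha =>
        have h1 : ρ a⁻¹ (ρ a v₀) = v₀ := by
          rw [← Module.End.mul_apply, ← map_mul, inv_mul_cancel, map_one]; rfl
        rw [ha] at h1
        exact h1
    obtain ⟨W, hW⟩ : ∃ W : Submodule K V, W = Submodule.span K {v₀} := ⟨_, rfl⟩
    have hWinv : ∀ g : Γ, W ≤ W.comap (ρ g) := by
      intro g w hw
      rw [Submodule.mem_comap]
      rw [hW, Submodule.mem_span_singleton] at hw ⊢
      obtain ⟨c, rfl⟩ := hw
      exact ⟨c, by rw [map_smul, hfix]⟩
    let ρq : Γ →* End K (V ⧸ W) :=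
      { toFun := fun g => W.mapQ W (ρ g) (hWinv g)
        map_one' := by
          ext v
          simp
        map_mul' := by
          intro a b
          ext v
          simp }
    have hρq : ∀ (g : Γ) (v : V), ρq g (Submodule.Quotient.mk v) = Submodule.Quotient.mk (ρ g v) :=
      fun g v => rfl
    have hsub : ∀ (g : Γ) (k : ℕ) (v : V), ((ρq g - 1) ^ k) (Submodule.Quotient.mk v) =
        Submodule.Quotient.mk (((ρ g - 1) ^ k) v) := by
      intro g k
      induction k with
      | zero => intro v; simp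
      | succ k ihk =>
        intro v
        rw [pow_succ, Module.End.mul_apply, pow_succ, Module.End.mul_apply]
        have : (ρq g - 1) (Submodule.Quotient.mk v) = Submodule.Quotient.mk ((ρ g - 1) v) := by
          simp [hρq]
        rw [this, ihk]
    have hsq : ∀ z : Γ, (ρ z - 1) * (ρ z - 1) = 0 → (ρq z - 1) * (ρq z - 1) = 0 := by
      intro z hz
      ext v
      have h1 := hsub z 2 v
      rw [pow_two, pow_two, hz] at h1
      simp only [LinearMap.comp_apply, Submodule.mkQ_apply]
      rw [h1]
      simp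
    have hdimq : finrank K (V ⧸ W) = n := by
      have h1 := Submodule.finrank_quotient_add_finrank W
      have h2 : finrank K W = 1 := by rw [hW]; exact finrank_span_singleton hv₀
      omega
    have hq := ih (V ⧸ W) hdimq ρq (hsq x hx) (hsq y hy) g
    ext v
    rw [pow_succ', Module.End.mul_apply]
    have h1 : ((ρ g - 1) ^ n) v ∈ W := by
      have := hsub g n v
      rw [hq] at this
      simp only [LinearMap.zero_apply] at this
      exact (Submodule.Quotient.mk_eq_zero W).mp this.symm
    rw [hW, Submodule.mem_span_singleton] at h1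
    obtain ⟨c, hc⟩ := h1
    rw [← hc, map_smul]
    simp [hfix]


/-- elements of order prime to `p` act trivially -/
theorem trivial_of_coprime [IsAlgClosed K] (p : ℕ) [Fact p.Prime] [CharP K p] (hp2 : p ≠ 2)
    (hodd : Odd (Nat.card Γ)) (x y : Γ) (hgen : Subgroup.closure {x, y} = ⊤)
    (V : Type uV) [AddCommGroup V] [Module K V] [FiniteDimensional K V]
    (ρ : Γ →* End K V) (hx : (ρ x - 1) * (ρ x - 1) = 0) (hy : (ρ y - 1) * (ρ y - 1) = 0)
    (g : Γ) (m : ℕ) (hm : g ^ m = 1) (hpm : ¬ p ∣ m) : ρ g = 1 := by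
  have hpp : p.Prime := Fact.out
  rcases subsingleton_or_nontrivial V with hV | hV
  · ext v
    exact Subsingleton.elim _ _
  · have hchar : CharP (End K V) p :=
      charP_of_injective_algebraMap (algebraMap K (End K V)).injective p
    have huni := unipotent p hp2 hodd x y hgen (finrank K V) V rfl ρ hx hy g
    obtain ⟨k, hk⟩ : ∃ k : ℕ, finrank K V ≤ p ^ k :=
      ⟨finrank K V, (Nat.lt_pow_self hpp.one_lt).le⟩
    have h1 : (ρ g - 1) ^ p ^ k = 0 := pow_eq_zero_of_le hk huni
    rw [sub_pow_char_pow_of_commute _ _ (Commute.one_right _), one_pow, sub_eq_zero] at h1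
    have h2 : (ρ g) ^ m = 1 := by rw [← map_pow, hm, map_one]
    have h3 : orderOf (ρ g) ∣ p ^ k := orderOf_dvd_of_pow_eq_one h1
    have h4 : orderOf (ρ g) ∣ m := orderOf_dvd_of_pow_eq_one h2
    have hcop : Nat.Coprime (p ^ k) m := by
      apply Nat.Coprime.pow_left
      exact (Nat.Prime.coprime_iff_not_dvd hpp).mpr hpm
    have h5 : orderOf (ρ g) = 1 := Nat.eq_one_of_dvd_coprimes hcop h3 h4
    exact orderOf_eq_one_iff.mp h5

end Cfsg.Agent.Lib.Helper11.QuadPair
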