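import Mathlib
import Cfsg.Agent.Lib.Helper11.QuadPair

set_option autoImplicit false

namespace Cfsg.Agent.Lib.Helper11.QuadPairGroup

open Module Cfsg.Agent.Lib.Helper11.QuadPair
open scoped TensorProduct

/-- the `ZMod p`-linear action on `Additive V` attached to an action by automorphisms -/
def linAction (p : ℕ) {V : Type*} [CommGroup V] [Module (ZMod p) (Additive V)] {Γ : Type*}
    [Group Γ] (φ : Γ →* MulAut V) : Γ →* End (ZMod p) (Additive V) where
  toFun g := (MulEquiv.toAdditive (φ g)).toAddMonoidHom.toZModLinearMap p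
  map_one' := by
    apply LinearMap.ext
    intro a
    simp only [map_one]
    rfl
  map_mul' := by
    intro a b
    apply LinearMap.ext
    intro v
    simp only [map_mul]
    rfl

theorem linAction_apply (p : ℕ) {V : Type*} [CommGroup V] [Module (ZMod p) (Additive V)]
    {Γ : Type*} [Group Γ] (φ : Γ →* MulAut V) (g : Γ) (a : Additive V) :
    linAction p φ g a = Additive.ofMul (φ g (Additive.toMul a)) := rfl

theorem trivial_on_elemAb_aux (p : ℕ) [Fact p.Prime] (hp2 : p ≠ 2)
    {V : Type*} [CommGroup V] [Finite V] [Module (ZMod p) (Additive V)]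
    {Γ : Type*} [Group Γ] [Finite Γ] (hodd : Odd (Nat.card Γ)) (φ : Γ →* MulAut V) (x y : Γ)
    (hgen : Subgroup.closure {x, y} = ⊤)
    (hx : ∀ v : V, φ x (φ x v / v) = φ x v / v) (hy : ∀ v : V, φ y (φ y v / v) = φ y v / v)
    (g : Γ) (m : ℕ) (hm : g ^ m = 1) (hpm : ¬ p ∣ m) : φ g = 1 := by
  obtain ⟨L, hL⟩ : ∃ L : Γ →* End (ZMod p) (Additive V), L = linAction p φ := ⟨_, rfl⟩
  have hLa : ∀ (g : Γ) (a : Additive V), L g a = Additive.ofMul (φ g (Additive.toMul a)) := by
    intro g a; rw [hL]; rfl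
  have hsq : ∀ z : Γ, (∀ v : V, φ z (φ z v / v) = φ z v / v) → (L z - 1) * (L z - 1) = 0 := by
    intro z hz
    apply LinearMap.ext
    intro a
    have h1 : ∀ b : Additive V,
        (L z - 1) b = Additive.ofMul (φ z (Additive.toMul b) / Additive.toMul b) := by
      intro b
      rw [LinearMap.sub_apply, Module.End.one_apply, hLa]
      rfl
    rw [Module.End.mul_apply, h1, h1, LinearMap.zero_apply, toMul_ofMul, hz, div_self']
    rfl
  -- base change to the algebraic closure
  have hcharK : CharP (AlgebraicClosure (ZMod p)) p :=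
    charP_of_injective_algebraMap (algebraMap (ZMod p) (AlgebraicClosure (ZMod p))).injective p
  obtain ⟨bc, hbc⟩ : ∃ bc : End (ZMod p) (Additive V) →ₐ[ZMod p]
      End (AlgebraicClosure (ZMod p)) (AlgebraicClosure (ZMod p) ⊗[ZMod p] Additive V),
      bc = Module.End.baseChangeHom (ZMod p) (AlgebraicClosure (ZMod p)) (Additive V) := ⟨_, rfl⟩
  have hbcinj : Function.Injective bc := by
    rw [hbc]
    exact LinearMap.baseChangeHom_injective (ZMod p) (Additive V) (AlgebraicClosure (ZMod p))
  obtain ⟨ρ, hρ⟩ : ∃ ρ : Γ →* End (AlgebraicClosure (ZMod p))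
      (AlgebraicClosure (ZMod p) ⊗[ZMod p] Additive V),
      ρ = (bc : End (ZMod p) (Additive V) →* _).comp L := ⟨_, rfl⟩
  have hρa : ∀ z : Γ, ρ z = bc (L z) := by
    intro z; rw [hρ]; rfl
  have hρsq : ∀ z : Γ, (L z - 1) * (L z - 1) = 0 → (ρ z - 1) * (ρ z - 1) = 0 := by
    intro z hz
    have : (ρ z - 1) * (ρ z - 1) = bc ((L z - 1) * (L z - 1)) := by
      rw [map_mul, map_sub, map_one, hρa]
    rw [this, hz, map_zero]
  have h1 := trivial_of_coprime p hp2 hodd x y hgen
    (AlgebraicClosure (ZMod p) ⊗[ZMod p] Additive V) ρ (hρsq x (hsq x hx)) (hρsq y (hsq y hy))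
    g m hm hpm
  have h2 : L g = 1 := by
    apply hbcinj
    rw [← hρa, h1, map_one]
  ext v
  have := hLa g (Additive.ofMul v)
  rw [h2] at this
  exact congrArg Additive.toMul this.symm

/-- **Bridge.** A finite group of odd order generated by two elements acting quadratically on a
finite elementary abelian `p`-group (`p` odd): every element of order prime to `p` acts
trivially. -/
theorem trivial_on_elemAb (p : ℕ) [Fact p.Prime] (hp2 : p ≠ 2)
    {V : Type*} [CommGroup V] [Finite V] (hV : ∀ v : V, v ^ p = 1)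
    {Γ : Type*} [Group Γ] [Finite Γ] (hodd : Odd (Nat.card Γ)) (φ : Γ →* MulAut V) (x y : Γ)
    (hgen : Subgroup.closure {x, y} = ⊤)
    (hx : ∀ v : V, φ x (φ x v / v) = φ x v / v) (hy : ∀ v : V, φ y (φ y v / v) = φ y v / v)
    (g : Γ) (m : ℕ) (hm : g ^ m = 1) (hpm : ¬ p ∣ m) : φ g = 1 := by
  have hA : ∀ a : Additive V, p • a = 0 := by
    intro a
    have := hV (Additive.toMul a)
    exact congrArg Additive.ofMul this
  exact @trivial_on_elemAb_aux p _ hp2 V _ _ (AddCommGroup.zmodModule hA) Γ _ _ hodd φ x y hgen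
    hx hy g m hm hpm

end Cfsg.Agent.Lib.Helper11.QuadPairGroup
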