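import Mathlib
import Cfsg.Agent.Lib.Helper11.OddGL2
import Cfsg.Agent.Lib.helper23.HallNum
import Cfsg.Agent.Lib.Helper11.QuadPairGroup

set_option autoImplicit false

namespace Cfsg.Agent.Lib.Helper11.OddGL2Der

open Cfsg.Agent.Lib.Helper11.OddGL2
open scoped commutatorElement

variable {F : Type*} [Field F]

/-- a solvable subgroup of `GL₂(F)` of odd order prime to the characteristic is abelian -/
theorem abelian_of_coprime (p : ℕ) [Fact p.Prime] [CharP F p] (hp2 : p ≠ 2) :
    ∀ (n : ℕ) (H : Subgroup (GL (Fin 2) F)), Finite H → Nat.card H = n → Odd n → ¬ p ∣ n →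
      Group.IsSolvable H → ∀ a ∈ H, ∀ b ∈ H, a * b = b * a := by
  intro n
  induction n using Nat.strong_induction_on with
  | _ n ih =>
    intro H hfin hcard hodd hpn hsol
    by_cases hH : H = ⊥
    · subst hH
      intro a ha b hb
      rw [Subgroup.mem_bot] at ha hb
      rw [ha, hb]
    have hnt : Nontrivial H := (Subgroup.nontrivial_iff_ne_bot H).mpr hH
    obtain ⟨M, hMn, hMr⟩ := Cfsg.Agent.Lib.helper23.exists_normal_prime_index (H := ↥H)
    have hn0 : 0 < n := by
      rcases hodd with ⟨k, rfl⟩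
      omega
    have hHpow : ∀ g ∈ H, g ^ n = 1 := by
      intro g hg
      have h1 : (⟨g, hg⟩ : H) ^ Nat.card H = 1 := pow_card_eq_one'
      rw [hcard] at h1
      have := congrArg Subtype.val h1
      simpa using this
    have hM'le : M.map H.subtype ≤ H := Subgroup.map_subtype_le _
    have hM'card : Nat.card ↥(M.map H.subtype) = Nat.card M :=
      Subgroup.card_map_of_injective (Subgroup.subtype_injective H)
    have hcardM : Nat.card M * M.index = n := by
      rw [← hcard]
      exact Subgroup.card_mul_index M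
    have hMpos : 0 < Nat.card M := Nat.card_pos
    have hlt : Nat.card ↥(M.map H.subtype) < n := by
      rw [hM'card, ← hcardM]
      have := hMr.one_lt
      nlinarith
    have hdvd : Nat.card ↥(M.map H.subtype) ∣ n := by
      rw [hM'card, ← hcardM]
      exact dvd_mul_right _ _
    have hM'fin : Finite ↥(M.map H.subtype) :=
      Finite.of_injective (Subgroup.inclusion hM'le) (Subgroup.inclusion_injective hM'le)
    have hM'sol : Group.IsSolvable ↥(M.map H.subtype) :=
      Group.isSolvable_of_isSolvable_injective (Subgroup.inclusion_injective hM'le)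
    have habM := ih _ hlt (M.map H.subtype) hM'fin rfl (Odd.of_dvd_nat hodd hdvd)
      (fun h => hpn (h.trans hdvd)) hM'sol
    have hcent : ∀ h ∈ H, ∀ x ∈ M.map H.subtype, h * x = x * h := by
      intro h hh
      refine commute_of_normalizes p hp2 (M.map H.subtype) habM ?_ h ?_ n hodd (hHpow h hh)
      · intro g hg
        exact ⟨n, hn0, hHpow g (hM'le hg), hpn⟩
      · intro x hx
        obtain ⟨x₀, hx₀, rfl⟩ := hx
        exact ⟨⟨h, hh⟩ * x₀ * (⟨h, hh⟩ : H)⁻¹, hMn.conj_mem x₀ hx₀ _, by simp⟩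
    have hcyc : IsCyclic (↥H ⧸ M) := by
      have : Fact (M.index.Prime) := ⟨hMr⟩
      exact isCyclic_of_prime_card (p := M.index) (Subgroup.index_eq_card M).symm
    intro a ha b hb
    have hker : (QuotientGroup.mk' M).ker ≤ Subgroup.center ↥H := by
      rw [QuotientGroup.ker_mk']
      intro m hm
      rw [Subgroup.mem_center_iff]
      intro g
      apply Subtype.ext
      exact hcent g g.2 m ⟨m, hm, rfl⟩
    have hcomm := MonoidHom.isMulCommutative_of_isCyclic_of_ker_le_center (QuotientGroup.mk' M) hker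
    exact congrArg Subtype.val (hcomm.is_comm.comm ⟨a, ha⟩ ⟨b, hb⟩)

/-- scalar by which an element fixing the line acts -/
theorem exists_scalar (H : Subgroup (GL (Fin 2) F)) (v : Fin 2 → F) (hv : v ≠ 0)
    (hfix : FixesLine H v) (g : GL (Fin 2) F) (hg : g ∈ H) :
    ∃ α : F, α ≠ 0 ∧ (g : Matrix (Fin 2) (Fin 2) F).mulVec v = α • v ∧
      ((g⁻¹ : GL (Fin 2) F) : Matrix (Fin 2) (Fin 2) F).mulVec v = α⁻¹ • v := by
  obtain ⟨α, hα⟩ := Submodule.mem_span_singleton.mp (hfix g hg)
  have hα0 : α ≠ 0 := by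
    rintro rfl
    rw [zero_smul] at hα
    exact mulVec_ne_zero g v hv hα.symm
  refine ⟨α, hα0, hα.symm, ?_⟩
  have h1 : ((g⁻¹ : GL (Fin 2) F) : Matrix (Fin 2) (Fin 2) F).mulVec
      ((g : Matrix (Fin 2) (Fin 2) F).mulVec v) = v := by
    rw [Matrix.mulVec_mulVec, ← Units.val_mul, inv_mul_cancel, Units.val_one, Matrix.one_mulVec]
  rw [← hα, Matrix.mulVec_smul] at h1
  have h2 := congrArg (fun w => α⁻¹ • w) h1
  simp only [smul_smul, inv_mul_cancel₀ hα0, one_smul] at h2
  exact h2

/-- elements of the derived subgroup of a group fixing a line fix the vector and have `det = 1` -/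
theorem commutator_le_vecStab (H : Subgroup (GL (Fin 2) F)) (v : Fin 2 → F) (hv : v ≠ 0)
    (hfix : FixesLine H v) :
    ⁅H, H⁆ ≤ vecStab v ⊓ (Matrix.GeneralLinearGroup.det (n := Fin 2) (R := F)).ker := by
  rw [Subgroup.commutator_le]
  intro g hg h hh
  refine Subgroup.mem_inf.mpr ⟨?_, ?_⟩
  · obtain ⟨α, hα0, hα1, hα2⟩ := exists_scalar H v hv hfix g hg
    obtain ⟨β, hβ0, hβ1, hβ2⟩ := exists_scalar H v hv hfix h hh
    show ((⁅g, h⁆ : GL (Fin 2) F) : Matrix (Fin 2) (Fin 2) F).mulVec v = v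
    rw [commutatorElement_def]
    simp only [Units.val_mul]
    simp only [← Matrix.mulVec_mulVec, hβ2, hα2, hβ1, hα1, Matrix.mulVec_smul, smul_smul]
    have : β⁻¹ * (α⁻¹ * (β * α)) = 1 := by field_simp
    rw [this, one_smul]
  · rw [MonoidHom.mem_ker, map_commutatorElement]
    exact commutatorElement_eq_one_iff_commute.mpr (Commute.all _ _)

theorem sq_zero_of_mem (v : Fin 2 → F) (hv : v ≠ 0) (u : GL (Fin 2) F)
    (hu : u ∈ vecStab v ⊓ (Matrix.GeneralLinearGroup.det (n := Fin 2) (R := F)).ker) :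
    ((u : Matrix (Fin 2) (Fin 2) F) - 1) * ((u : Matrix (Fin 2) (Fin 2) F) - 1) = 0 := by
  obtain ⟨hu1, hu2⟩ := Subgroup.mem_inf.mp hu
  have hfixv : (u : Matrix (Fin 2) (Fin 2) F).mulVec v = v := hu1
  have hdet : (u : Matrix (Fin 2) (Fin 2) F).det = 1 := by
    have := congrArg Units.val (MonoidHom.mem_ker.mp hu2)
    simpa using this
  have hNv : ((u : Matrix (Fin 2) (Fin 2) F) - 1).mulVec v = 0 := by
    rw [Matrix.sub_mulVec, Matrix.one_mulVec, hfixv, sub_self]
  have hdetN : ((u : Matrix (Fin 2) (Fin 2) F) - 1).det = 0 :=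
    Matrix.exists_mulVec_eq_zero_iff.mp ⟨v, hv, hNv⟩
  have htr : ((u : Matrix (Fin 2) (Fin 2) F) - 1) 0 0 + ((u : Matrix (Fin 2) (Fin 2) F) - 1) 1 1
      = 0 := by
    rw [Matrix.det_fin_two] at hdetN hdet
    simp only [Matrix.sub_apply, Matrix.one_apply_eq, Matrix.one_apply_ne, ne_eq,
      Fin.zero_eq_one_iff, Fin.one_eq_zero_iff, OfNat.ofNat_ne_one, not_false_eq_true,
      sub_zero] at hdetN ⊢
    linear_combination hdet - hdetN
  rw [sq_eq, htr, hdetN, zero_smul, zero_smul, sub_zero]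

theorem pow_char_eq_one (p : ℕ) [Fact p.Prime] [CharP F p] (u : GL (Fin 2) F)
    (hN : ((u : Matrix (Fin 2) (Fin 2) F) - 1) * ((u : Matrix (Fin 2) (Fin 2) F) - 1) = 0) :
    u ^ p = 1 := by
  have hpp : p.Prime := Fact.out
  have hc : Commute (u : Matrix (Fin 2) (Fin 2) F) 1 := Commute.one_right _
  have h1 : ((u : Matrix (Fin 2) (Fin 2) F) - 1) ^ p = 0 := by
    have : p = 2 + (p - 2) := by have := hpp.two_le; omega
    rw [this, pow_add, pow_two, hN, zero_mul]
  rw [sub_pow_char_of_commute _ hc, one_pow, sub_eq_zero] at h1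
  apply Units.ext
  rw [Units.val_pow_eq_pow_val, h1, Units.val_one]

/-- **Derived subgroup.** In a finite solvable subgroup of `GL₂(F)` of odd order (`char F = p` odd)
the elements of the derived subgroup of order prime to `p` are trivial. -/
theorem der_coprime_trivial (p : ℕ) [Fact p.Prime] [CharP F p] (hp2 : p ≠ 2)
    (H : Subgroup (GL (Fin 2) F)) [Finite H] (hodd : Odd (Nat.card H))
    (hsol : Group.IsSolvable H) (b : GL (Fin 2) F) (hb : b ∈ ⁅H, H⁆) (m : ℕ) (hbm : b ^ m = 1)
    (hpm : ¬ p ∣ m) : b = 1 := by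
  have hpp : p.Prime := Fact.out
  by_cases hpH : p ∣ Nat.card H
  · obtain ⟨v, hv, hfix⟩ := exists_fixesLine p hp2 (Nat.card H) H inferInstance rfl hodd hpH
    have hN := sq_zero_of_mem v hv b (commutator_le_vecStab H v hv hfix hb)
    have hbp := pow_char_eq_one p b hN
    have hcop : Nat.Coprime p m := (Nat.Prime.coprime_iff_not_dvd hpp).mpr hpm
    have := pow_gcd_eq_one.mpr ⟨hbp, hbm⟩
    rwa [Nat.Coprime.gcd_eq_one hcop, pow_one] at this
  · have hab := abelian_of_coprime p hp2 (Nat.card H) H inferInstance rfl hodd hpH hsol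
    have hbot : ⁅H, H⁆ = ⊥ := by
      rw [Subgroup.commutator_eq_bot_iff_le_centralizer]
      intro a ha
      rw [Subgroup.mem_centralizer_iff]
      intro c hc
      exact hab c hc a ha
    rw [hbot] at hb
    exact Subgroup.mem_bot.mp hb

/-- module form -/
theorem der_coprime_trivial_lin (p : ℕ) [Fact p.Prime] (hp2 : p ≠ 2) {K : Type*} [Field K]
    [CharP K p] {V : Type*} [AddCommGroup V] [Module K V] [FiniteDimensional K V]
    (h2 : Module.finrank K V = 2) {Γ : Type*} [Group Γ] [Finite Γ] (hodd : Odd (Nat.card Γ))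
    [hsol : Group.IsSolvable Γ] (ρ : Γ →* (V →ₗ[K] V)) (g : Γ) (hg : g ∈ commutator Γ) (m : ℕ)
    (hgm : g ^ m = 1) (hpm : ¬ p ∣ m) : ρ g = 1 := by
  classical
  obtain ⟨b, -⟩ : ∃ b : Module.Basis (Fin 2) K V, b = Module.finBasisOfFinrankEq K V h2 := ⟨_, rfl⟩
  obtain ⟨M, hM⟩ : ∃ M : Γ →* Matrix (Fin 2) (Fin 2) K, M =
    ((LinearMap.toMatrixAlgEquiv b : (V →ₗ[K] V) ≃ₐ[K] Matrix (Fin 2) (Fin 2) K) :
      (V →ₗ[K] V) →* Matrix (Fin 2) (Fin 2) K).comp ρ := ⟨_, rfl⟩
  have hMapp : ∀ g, M g = LinearMap.toMatrixAlgEquiv b (ρ g) := fun g => by rw [hM]; rfl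
  obtain ⟨U, hU⟩ : ∃ U : Γ →* GL (Fin 2) K, U = M.toHomUnits := ⟨_, rfl⟩
  have hUval : ∀ g, ((U g : GL (Fin 2) K) : Matrix (Fin 2) (Fin 2) K) = M g := fun g => by
    rw [hU]; rfl
  have hfin : Finite U.range := Finite.of_surjective U.rangeRestrict U.rangeRestrict_surjective
  have hodd' : Odd (Nat.card U.range) := Odd.of_dvd_nat hodd (Subgroup.card_range_dvd U)
  have hsol' : Group.IsSolvable U.range :=
    Group.isSolvable_of_surjective U.rangeRestrict_surjective
  have hmem : U g ∈ ⁅U.range, U.range⁆ := by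
    rw [MonoidHom.range_eq_map, ← Subgroup.map_commutator, ← commutator_def]
    exact Subgroup.mem_map_of_mem U hg
  have h1 := der_coprime_trivial p hp2 U.range hodd' hsol' (U g) hmem m
    (by rw [← map_pow, hgm, map_one]) hpm
  have h3 : M g = 1 := by rw [← hUval, h1]; rfl
  rw [hMapp] at h3
  have h4 : LinearMap.toMatrixAlgEquiv b (ρ g) = LinearMap.toMatrixAlgEquiv b 1 := by
    rw [h3, map_one]
  exact (LinearMap.toMatrixAlgEquiv b).injective h4

theorem mulAut_comm_of_isCyclic {V : Type*} [Group V] [IsCyclic V] (σ τ : MulAut V) :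
    σ * τ = τ * σ := by
  obtain ⟨m, hm⟩ := MonoidHom.map_cyclic σ.toMonoidHom
  obtain ⟨n, hn⟩ := MonoidHom.map_cyclic τ.toMonoidHom
  ext v
  have h1 : ∀ w, σ w = w ^ m := hm
  have h2 : ∀ w, τ w = w ^ n := hn
  rw [MulAut.mul_apply, MulAut.mul_apply, h2, h1, h1, h2, ← zpow_mul, ← zpow_mul, mul_comm]

theorem der_coprime_trivial_grp_aux (p : ℕ) [Fact p.Prime] (hp2 : p ≠ 2) {V : Type*}
    [CommGroup V] [Finite V] [Module (ZMod p) (Additive V)] (hk : Nat.card V = p ^ 2)
    {Γ : Type*} [Group Γ] [Finite Γ] (hodd : Odd (Nat.card Γ))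
    [hsol : Group.IsSolvable Γ] (ψ : Γ →* MulAut V) (g : Γ) (hg : g ∈ commutator Γ) (m : ℕ)
    (hgm : g ^ m = 1) (hpm : ¬ p ∣ m) : ψ g = 1 := by
  have hpp : p.Prime := Fact.out
  have hfin : Module.Finite (ZMod p) (Additive V) := Module.Finite.of_finite
  have hrank : Module.finrank (ZMod p) (Additive V) = 2 := by
    have h1 := Module.natCard_eq_pow_finrank (K := ZMod p) (V := Additive V)
    rw [Nat.card_zmod] at h1
    have h2 : Nat.card (Additive V) = p ^ 2 := hk
    rw [h2] at h1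
    exact (Nat.pow_right_injective hpp.two_le h1).symm
  have h3 := der_coprime_trivial_lin p hp2 hrank hodd
    (Cfsg.Agent.Lib.Helper11.QuadPairGroup.linAction p ψ) g hg m hgm hpm
  ext v
  have h4 := Cfsg.Agent.Lib.Helper11.QuadPairGroup.linAction_apply p ψ g (Additive.ofMul v)
  rw [h3] at h4
  exact congrArg Additive.toMul h4.symm

/-- group form: a finite solvable group of odd order acting on an elementary abelian `p`-group of
order at most `p ^ 2`: the elements of the derived subgroup of order prime to `p` act trivially -/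
theorem der_coprime_trivial_grp (p : ℕ) [Fact p.Prime] (hp2 : p ≠ 2) {V : Type*} [Group V]
    [Finite V] (hc : ∀ a b : V, a * b = b * a) (hV : ∀ v : V, v ^ p = 1)
    (hcard : Nat.card V ≤ p ^ 2) {Γ : Type*} [Group Γ] [Finite Γ] (hodd : Odd (Nat.card Γ))
    [hsol : Group.IsSolvable Γ] (ψ : Γ →* MulAut V) (g : Γ) (hg : g ∈ commutator Γ) (m : ℕ)
    (hgm : g ^ m = 1) (hpm : ¬ p ∣ m) : ψ g = 1 := by
  have hpp : p.Prime := Fact.out
  have hVp : IsPGroup p V := fun v => ⟨1, by rw [pow_one]; exact hV v⟩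
  obtain ⟨k, hk⟩ := IsPGroup.iff_card.mp hVp
  have hk2 : k ≤ 2 := by
    rw [hk] at hcard
    exact (Nat.pow_le_pow_iff_right hpp.one_lt).mp hcard
  have hcyc_case : IsCyclic V → ψ g = 1 := by
    intro hcyc
    have hle : commutator Γ ≤ ψ.ker := by
      rw [commutator_def, Subgroup.commutator_le]
      intro a _ b _
      rw [MonoidHom.mem_ker, map_commutatorElement]
      exact commutatorElement_eq_one_iff_commute.mpr (mulAut_comm_of_isCyclic _ _)
    exact MonoidHom.mem_ker.mp (hle hg)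
  interval_cases k
  · apply hcyc_case
    rw [pow_zero] at hk
    have : Subsingleton V := (Nat.card_eq_one_iff_unique.mp hk).1
    exact isCyclic_of_subsingleton
  · apply hcyc_case
    rw [pow_one] at hk
    exact isCyclic_of_prime_card hk
  · exact @der_coprime_trivial_grp_aux p _ hp2 V { ‹Group V› with mul_comm := hc } _
      (@AddCommGroup.zmodModule p (Additive V)
        (@Additive.addCommGroup V { ‹Group V› with mul_comm := hc })
        (by
          intro a
          have := hV (Additive.toMul a)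
          exact congrArg Additive.ofMul this))
      hk Γ _ _ hodd hsol ψ g hg m hgm hpm

end Cfsg.Agent.Lib.Helper11.OddGL2Der
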