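import Mathlib
import Cfsg.Agent.Lib.Helper11.QuadPairGroup

set_option autoImplicit false

namespace Cfsg.Agent.Lib.Helper11.QuadPairPGroup

open Cfsg.Agent.Lib.Helper11.QuadPairGroup

universe u

/-- the bridge with a `Group` instance and a commutativity hypothesis -/
theorem trivial_on_elemAb' (p : ℕ) [Fact p.Prime] (hp2 : p ≠ 2)
    {V : Type*} [Group V] [Finite V] (hc : ∀ a b : V, a * b = b * a) (hV : ∀ v : V, v ^ p = 1)
    {Γ : Type*} [Group Γ] [Finite Γ] (hodd : Odd (Nat.card Γ)) (φ : Γ →* MulAut V) (x y : Γ)
    (hgen : Subgroup.closure {x, y} = ⊤)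
    (hx : ∀ v : V, φ x (φ x v * v⁻¹) = φ x v * v⁻¹) (hy : ∀ v : V, φ y (φ y v * v⁻¹) = φ y v * v⁻¹)
    (g : Γ) (m : ℕ) (hm : g ^ m = 1) (hpm : ¬ p ∣ m) : φ g = 1 := by
  let _ : CommGroup V := { ‹Group V› with mul_comm := hc }
  refine trivial_on_elemAb p hp2 hV hodd φ x y hgen ?_ ?_ g m hm hpm
  · intro v
    rw [div_eq_mul_inv]
    exact hx v
  · intro v
    rw [div_eq_mul_inv]
    exact hy v

variable {P : Type u} [Group P]

/-- `Ω₁(Z(P))` -/
def omegaCenter (p : ℕ) (P : Type u) [Group P] : Subgroup P where
  carrier := {z | z ∈ Subgroup.center P ∧ z ^ p = 1}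
  mul_mem' := by
    rintro a b ⟨ha, hap⟩ ⟨hb, hbp⟩
    refine ⟨mul_mem ha hb, ?_⟩
    have hcomm : Commute a b := (Subgroup.mem_center_iff.mp hb a)
    rw [hcomm.mul_pow, hap, hbp, one_mul]
  one_mem' := ⟨one_mem _, one_pow _⟩
  inv_mem' := by
    rintro a ⟨ha, hap⟩
    exact ⟨inv_mem ha, by rw [inv_pow, hap, inv_one]⟩

theorem mem_omegaCenter (p : ℕ) (z : P) :
    z ∈ omegaCenter p P ↔ z ∈ Subgroup.center P ∧ z ^ p = 1 := Iff.rfl

theorem omegaCenter_invariant (p : ℕ) (α : MulAut P) (z : P) (hz : z ∈ omegaCenter p P) :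
    α z ∈ omegaCenter p P := by
  obtain ⟨hzc, hzp⟩ := hz
  refine ⟨?_, by rw [← map_pow, hzp, map_one]⟩
  rw [Subgroup.mem_center_iff]
  intro w
  have := Subgroup.mem_center_iff.mp hzc (α.symm w)
  have h2 := congrArg α this
  rw [map_mul, map_mul, MulEquiv.apply_symm_apply] at h2
  exact h2

instance omegaCenter_normal (p : ℕ) : (omegaCenter p P).Normal := by
  constructor
  intro n hn g
  have := Subgroup.mem_center_iff.mp hn.1 g
  rw [this, mul_inv_cancel_right]
  exact hn

theorem omegaCenter_ne_bot [Finite P] (p : ℕ) [Fact p.Prime] (hP : IsPGroup p P)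
    [Nontrivial P] : omegaCenter p P ≠ ⊥ := by
  have hcen := hP.bot_lt_center
  have hcne : Nat.card (Subgroup.center P) ≠ 1 := by
    intro h
    rw [Subgroup.card_eq_one] at h
    exact (ne_of_gt hcen) h
  have hdvd : p ∣ Nat.card (Subgroup.center P) := by
    rcases (hP.to_subgroup (Subgroup.center P)).card_eq_or_dvd with h | h
    · exact absurd h hcne
    · exact h
  obtain ⟨z, hz⟩ := exists_prime_orderOf_dvd_card' p hdvd
  intro hbot
  have hzmem : (z : P) ∈ omegaCenter p P := by
    refine ⟨z.2, ?_⟩
    have : z ^ p = 1 := by rw [← hz]; exact pow_orderOf_eq_one z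
    have := congrArg Subtype.val this
    simpa using this
  rw [hbot, Subgroup.mem_bot] at hzmem
  have : z = 1 := Subtype.ext hzmem
  rw [this, orderOf_one] at hz
  exact (Fact.out : p.Prime).one_lt.ne hz

/-- restriction of automorphisms to an invariant subgroup -/
def resAut (S : Subgroup P) (hS : ∀ (α : MulAut P), ∀ s ∈ S, α s ∈ S) : MulAut P →* MulAut S where
  toFun α :=
    { toFun := fun s => ⟨α s, hS α s s.2⟩
      invFun := fun s => ⟨α⁻¹ s, hS α⁻¹ s s.2⟩
      left_inv := by
        intro s
        apply Subtype.ext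
        simp
      right_inv := by
        intro s
        apply Subtype.ext
        simp
      map_mul' := by
        intro a b
        apply Subtype.ext
        simp }
  map_one' := by
    ext s
    rfl
  map_mul' := by
    intro a b
    ext s
    rfl

theorem resAut_apply (S : Subgroup P) (hS : ∀ (α : MulAut P), ∀ s ∈ S, α s ∈ S) (α : MulAut P)
    (s : S) : ((resAut S hS α) s : P) = α s := rfl

theorem map_eq_of_invariant (S : Subgroup P) (hS : ∀ (α : MulAut P), ∀ s ∈ S, α s ∈ S)
    (α : MulAut P) : S.map (α : P →* P) = S := by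
  apply le_antisymm
  · rintro _ ⟨s, hs, rfl⟩
    exact hS α s hs
  · intro s hs
    refine ⟨α⁻¹ s, hS α⁻¹ s hs, ?_⟩
    simp

/-- induced automorphisms on the quotient by an invariant normal subgroup -/
def quotAut (S : Subgroup P) [S.Normal] (hS : ∀ (α : MulAut P), ∀ s ∈ S, α s ∈ S) :
    MulAut P →* MulAut (P ⧸ S) where
  toFun α := QuotientGroup.congr S S α (map_eq_of_invariant S hS α)
  map_one' := by
    ext q
    induction q using QuotientGroup.induction_on with
    | H v => rfl
  map_mul' := by
    intro a b
    ext q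
    induction q using QuotientGroup.induction_on with
    | H v => rfl

theorem quotAut_mk (S : Subgroup P) [S.Normal] (hS : ∀ (α : MulAut P), ∀ s ∈ S, α s ∈ S)
    (α : MulAut P) (v : P) :
    quotAut S hS α (QuotientGroup.mk v) = QuotientGroup.mk (α v) := rfl


/-- **Two quadratic generators on a `p`-group.** A finite group of odd order generated by two
elements acting quadratically on a finite `p`-group (`p` odd): elements of order prime to `p`
act trivially. -/
theorem trivial_on_pgroup (p : ℕ) [Fact p.Prime] (hp2 : p ≠ 2)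
    {Γ : Type*} [Group Γ] [Finite Γ] (hodd : Odd (Nat.card Γ)) (x y : Γ)
    (hgen : Subgroup.closure {x, y} = ⊤) (g : Γ) (m : ℕ) (hm : g ^ m = 1) (hpm : ¬ p ∣ m) :
    ∀ (n : ℕ) (P : Type u) [Group P] [Finite P], Nat.card P = n → IsPGroup p P →
      ∀ φ : Γ →* MulAut P, (∀ v : P, φ x (φ x v * v⁻¹) = φ x v * v⁻¹) →
        (∀ v : P, φ y (φ y v * v⁻¹) = φ y v * v⁻¹) → φ g = 1 := by
  have hpp : p.Prime := Fact.out
  intro n
  induction n using Nat.strong_induction_on with
  | _ n ih =>
    intro P _ _ hn hP φ hx hy
    rcases subsingleton_or_nontrivial P with hsub | hnt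
    · ext v
      exact Subsingleton.elim _ _
    · obtain ⟨S, hSdef⟩ : ∃ S : Subgroup P, S = omegaCenter p P := ⟨_, rfl⟩
      have hSinv : ∀ (α : MulAut P), ∀ s ∈ S, α s ∈ S := by
        intro α s hs
        rw [hSdef] at hs ⊢
        exact omegaCenter_invariant p α s hs
      have hSn : S.Normal := by rw [hSdef]; infer_instance
      have hSne : S ≠ ⊥ := by rw [hSdef]; exact omegaCenter_ne_bot p hP
      -- action on S
      have h1 : (resAut S hSinv).comp φ g = 1 := by
        apply trivial_on_elemAb' p hp2 ?_ ?_ hodd ((resAut S hSinv).comp φ) x y hgen ?_ ?_ g m hm hpm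
        · intro a b
          apply Subtype.ext
          have ha : (a : P) ∈ omegaCenter p P := hSdef ▸ a.2
          exact (Subgroup.mem_center_iff.mp ha.1 b).symm
        · intro v
          apply Subtype.ext
          have hv : (v : P) ∈ omegaCenter p P := hSdef ▸ v.2
          simpa using hv.2
        · intro v
          apply Subtype.ext
          exact hx v
        · intro v
          apply Subtype.ext
          exact hy v
      -- action on the quotient
      have hcardq : Nat.card (P ⧸ S) < n := by
        rw [← hn, ← Subgroup.index_eq_card, ← Subgroup.card_mul_index S]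
        have h1 : 1 < Nat.card S := by
          have h0 : Nat.card S ≠ 0 := Nat.card_pos.ne'
          have h1 : Nat.card S ≠ 1 := fun h => hSne (Subgroup.card_eq_one.mp h)
          omega
        have h2 : 0 < S.index := Nat.pos_of_ne_zero Subgroup.index_ne_zero_of_finite
        nlinarith
      have h2 : (quotAut S hSinv).comp φ g = 1 := by
        apply ih (Nat.card (P ⧸ S)) hcardq (P ⧸ S) rfl (hP.to_quotient S)
          ((quotAut S hSinv).comp φ)
        · intro q
          induction q using QuotientGroup.induction_on with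
          | H v => exact congrArg QuotientGroup.mk (hx v)
        · intro q
          induction q using QuotientGroup.induction_on with
          | H v => exact congrArg QuotientGroup.mk (hy v)
      -- combine
      have hS1 : ∀ s ∈ S, φ g s = s := by
        intro s hs
        have := congrArg (fun α : MulAut S => ((α ⟨s, hs⟩ : S) : P)) h1
        exact this
      have hQ1 : ∀ v : P, v⁻¹ * φ g v ∈ S := by
        intro v
        have := congrArg (fun α : MulAut (P ⧸ S) => α (QuotientGroup.mk v)) h2
        have h3 : (QuotientGroup.mk (φ g v) : P ⧸ S) = QuotientGroup.mk v := this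
        exact (QuotientGroup.eq.mp h3.symm)
      ext v
      obtain ⟨z, hz⟩ : ∃ z : P, z = v⁻¹ * φ g v := ⟨_, rfl⟩
      have hzS : z ∈ S := hz ▸ hQ1 v
      have hgv : φ g v = v * z := by rw [hz]; group
      have hpow : ∀ k : ℕ, φ (g ^ k) v = v * z ^ k := by
        intro k
        induction k with
        | zero => simp
        | succ k ihk =>
          rw [pow_succ', map_mul, MulAut.mul_apply, ihk, map_mul, hgv, map_pow, hS1 z hzS,
            mul_assoc, ← pow_succ']
      have hzm : z ^ m = 1 := by
        have := hpow m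
        rw [hm, map_one, MulAut.one_apply] at this
        exact (mul_eq_left.mp this.symm)
      have hzp : z ^ p = 1 := by
        have : z ∈ omegaCenter p P := hSdef ▸ hzS
        exact this.2
      have hz1 : z = 1 := by
        have h3 : orderOf z ∣ m := orderOf_dvd_of_pow_eq_one hzm
        have h4 : orderOf z ∣ p := orderOf_dvd_of_pow_eq_one hzp
        have hcop : Nat.Coprime p m := (Nat.Prime.coprime_iff_not_dvd hpp).mpr hpm
        exact orderOf_eq_one_iff.mp (Nat.eq_one_of_dvd_coprimes hcop h4 h3)
      rw [hgv, hz1, mul_one]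
      rfl

end Cfsg.Agent.Lib.Helper11.QuadPairPGroup
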