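import Mathlib
import Cfsg.Agent.Lib.Helper11.OddGL2Der
import Cfsg.Agent.Lib.Helper11.QuadPairPGroup
import Cfsg.Agent.Lib.Helper1.ClassTwoOrder

set_option autoImplicit false

namespace Cfsg.Agent.Lib.Helper11.RankTwoExp

open Cfsg.Agent.Lib.Helper11.OddGL2Der Cfsg.Agent.Lib.Helper11.QuadPairPGroup
open scoped commutatorElement

universe u

variable {X : Type u} [Group X]

theorem closure_comm (S : Set X) (hS : ∀ a ∈ S, ∀ b ∈ S, a * b = b * a) :
    IsMulCommutative ↥(Subgroup.closure S) := by
  exact Subgroup.isMulCommutative_closure hS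

/-- structure of a nonabelian group of exponent `p`, class two, all of whose abelian subgroups have
order at most `p ^ 2` -/
theorem nonabelian_structure [Finite X] (p : ℕ) [Fact p.Prime] (hX : IsPGroup p X)
    (hcl : commutator X ≤ Subgroup.center X)
    (hrk : ∀ A : Subgroup X, IsMulCommutative A → Nat.card A ≤ p ^ 2)
    (x : X) (hx : x ∉ Subgroup.center X) :
    Nat.card ↥(Subgroup.center X) = p ∧ Nat.card X ≤ p ^ 3 := by
  have hpp : p.Prime := Fact.out
  have hnt : Nontrivial X := ⟨⟨x, 1, fun h => hx (h ▸ Subgroup.one_mem _)⟩⟩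
  have hZnt : Nontrivial ↥(Subgroup.center X) := hX.center_nontrivial
  have hZ1 : Nat.card ↥(Subgroup.center X) ≠ 1 := by
    intro h
    have := Subgroup.card_eq_one.mp h
    exact (Subgroup.nontrivial_iff_ne_bot _).mp hZnt this
  -- the abelian subgroup `A = ⟨Z, x⟩`
  have hcommA : ∀ a ∈ ((Subgroup.center X : Set X) ∪ {x}), ∀ b ∈ ((Subgroup.center X : Set X) ∪ {x}),
      a * b = b * a := by
    rintro a (ha | ha) b hb
    · exact ((Subgroup.mem_center_iff.mp ha) b).symm
    · rcases hb with hb | hb
      · exact (Subgroup.mem_center_iff.mp hb) a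
      · rw [Set.mem_singleton_iff] at ha hb
        rw [ha, hb]
  obtain ⟨A, hA⟩ : ∃ A : Subgroup X, A = Subgroup.closure ((Subgroup.center X : Set X) ∪ {x}) :=
    ⟨_, rfl⟩
  have hAc : IsMulCommutative ↥A := by rw [hA]; exact closure_comm _ hcommA
  have hZA : Subgroup.center X ≤ A := by
    rw [hA]
    exact fun z hz => Subgroup.subset_closure (Or.inl hz)
  have hxA : x ∈ A := by
    rw [hA]
    exact Subgroup.subset_closure (Or.inr rfl)
  have hAcard := hrk A hAc
  obtain ⟨i, hi⟩ := IsPGroup.iff_card.mp (hX.to_subgroup (Subgroup.center X))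
  obtain ⟨j, hj⟩ := IsPGroup.iff_card.mp (hX.to_subgroup A)
  have hj2 : j ≤ 2 := by
    rw [hj] at hAcard
    exact (Nat.pow_le_pow_iff_right hpp.one_lt).mp hAcard
  have hij : i < j := by
    have hle : Nat.card ↥(Subgroup.center X) ≤ Nat.card ↥A := Subgroup.card_le_of_le hZA
    rw [hi, hj] at hle
    have hle' : i ≤ j := (Nat.pow_le_pow_iff_right hpp.one_lt).mp hle
    rcases Nat.lt_or_ge i j with h | h
    · exact h
    · exfalso
      have hij' : i = j := le_antisymm hle' h
      have : Subgroup.center X = A := by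
        apply Subgroup.eq_of_le_of_card_ge hZA
        rw [hi, hj, hij']
      exact hx (this ▸ hxA)
  have hi0 : i ≠ 0 := by
    intro h0
    rw [h0, pow_zero] at hi
    exact hZ1 hi
  have hi1 : i = 1 := by omega
  have hj2' : j = 2 := by omega
  rw [hi1, pow_one] at hi
  rw [hj2'] at hj
  refine ⟨hi, ?_⟩
  -- the centraliser of `x` is `A`
  have hCA : Subgroup.centralizer ({x} : Set X) ≤ A := by
    intro y hy
    have hyx : y * x = x * y := Subgroup.mem_centralizer_singleton_iff.mp hy
    have hcommB : ∀ a ∈ ((Subgroup.center X : Set X) ∪ {x, y}),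
        ∀ b ∈ ((Subgroup.center X : Set X) ∪ {x, y}), a * b = b * a := by
      rintro a (ha | ha) b hb
      · exact ((Subgroup.mem_center_iff.mp ha) b).symm
      · rcases hb with hb | hb
        · exact (Subgroup.mem_center_iff.mp hb) a
        · rcases ha with rfl | ha <;> rcases hb with rfl | hb
          · rfl
          · rw [Set.mem_singleton_iff] at hb; rw [hb]; exact hyx.symm
          · rw [Set.mem_singleton_iff] at ha; rw [ha]; exact hyx
          · rw [Set.mem_singleton_iff] at ha hb; rw [ha, hb]
    obtain ⟨B, hB⟩ : ∃ B : Subgroup X,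
        B = Subgroup.closure ((Subgroup.center X : Set X) ∪ {x, y}) := ⟨_, rfl⟩
    have hBc : IsMulCommutative ↥B := by rw [hB]; exact closure_comm _ hcommB
    have hAB : A ≤ B := by
      rw [hA, hB]
      apply Subgroup.closure_mono
      rintro a (ha | ha)
      · exact Or.inl ha
      · exact Or.inr (Or.inl ha)
    have hyB : y ∈ B := by
      rw [hB]
      exact Subgroup.subset_closure (Or.inr (Or.inr rfl))
    have hBcard := hrk B hBc
    have : A = B := by
      apply Subgroup.eq_of_le_of_card_ge hAB
      rw [hj]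
      exact hBcard
    rw [this]
    exact hyB
  have hCcard : Nat.card ↥(Subgroup.centralizer ({x} : Set X)) ≤ p ^ 2 := by
    rw [← hj]
    exact Subgroup.card_le_of_le hCA
  -- the commutator homomorphism
  have hker : (Cfsg.Agent.Lib.Helper1.commHom hcl x).ker = Subgroup.centralizer ({x} : Set X) := by
    ext g
    rw [MonoidHom.mem_ker, Cfsg.Agent.Lib.Helper1.commHom_eq_one_iff,
      Subgroup.mem_centralizer_singleton_iff]
  have hidx : (Cfsg.Agent.Lib.Helper1.commHom hcl x).ker.index ≤ p := by
    rw [Subgroup.index_ker, ← hi]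
    exact Subgroup.card_le_card_group _
  have hmul := Subgroup.card_mul_index (Cfsg.Agent.Lib.Helper1.commHom hcl x).ker
  rw [← hmul, hker] at *
  calc Nat.card ↥(Subgroup.centralizer ({x} : Set X)) *
        (Subgroup.centralizer ({x} : Set X)).index ≤ p ^ 2 * p := Nat.mul_le_mul hCcard hidx
    _ = p ^ 3 := by ring

theorem center_invariant (α : MulAut X) (s : X) (hs : s ∈ Subgroup.center X) :
    α s ∈ Subgroup.center X := by
  rw [Subgroup.mem_center_iff] at hs ⊢
  intro y
  have h1 := hs (α⁻¹ y)
  have h2 := congrArg α h1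
  simpa using h2

/-- a finite solvable group of odd order acting on a group of exponent `p`, class at most two, with
all abelian subgroups of order at most `p ^ 2`: the elements of the derived subgroup of order
prime to `p` act trivially -/
theorem der_coprime_trivial_exp [Finite X] (p : ℕ) [Fact p.Prime] (hp2 : p ≠ 2)
    (hexp : ∀ x : X, x ^ p = 1) (hcl : commutator X ≤ Subgroup.center X)
    (hrk : ∀ A : Subgroup X, IsMulCommutative A → Nat.card A ≤ p ^ 2)
    {Γ : Type*} [Group Γ] [Finite Γ] (hodd : Odd (Nat.card Γ)) [hsol : Group.IsSolvable Γ]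
    (φ : Γ →* MulAut X) (g : Γ) (hg : g ∈ commutator Γ) (m : ℕ) (hgm : g ^ m = 1)
    (hpm : ¬ p ∣ m) : φ g = 1 := by
  have hpp : p.Prime := Fact.out
  have hX : IsPGroup p X := fun x => ⟨1, by rw [pow_one]; exact hexp x⟩
  by_cases hab : ∀ a b : X, a * b = b * a
  · have hcard : Nat.card X ≤ p ^ 2 := by
      have := hrk ⊤ ⟨⟨fun a b => Subtype.ext (hab a.1 b.1)⟩⟩
      rwa [Subgroup.card_top] at this
    exact der_coprime_trivial_grp p hp2 hab hexp hcard hodd φ g hg m hgm hpm
  · push Not at hab
    obtain ⟨a, b, hab⟩ := hab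
    have ha : a ∉ Subgroup.center X := by
      intro h
      exact hab ((Subgroup.mem_center_iff.mp h b).symm)
    obtain ⟨hZcard, hXcard⟩ := nonabelian_structure p hX hcl hrk a ha
    have hZinv : ∀ α : MulAut X, ∀ s ∈ Subgroup.center X, α s ∈ Subgroup.center X :=
      center_invariant
    -- the action on the centre
    have h1 := der_coprime_trivial_grp p hp2 (V := ↥(Subgroup.center X))
      (fun u v => Subtype.ext (Subgroup.mem_center_iff.mp v.2 u.1)) (fun v => Subtype.ext (by simpa using hexp v.1))
      (by rw [hZcard]; exact Nat.le_self_pow (by norm_num) p) hodd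
      ((resAut _ hZinv).comp φ) g hg m hgm hpm
    -- the action on the central quotient
    have hQcomm : ∀ u v : X ⧸ Subgroup.center X, u * v = v * u := by
      intro u v
      induction u using QuotientGroup.induction_on with
      | H u =>
        induction v using QuotientGroup.induction_on with
        | H v =>
          rw [← QuotientGroup.mk_mul, ← QuotientGroup.mk_mul, QuotientGroup.eq]
          have h3 : (u * v)⁻¹ * (v * u) = ⁅v⁻¹, u⁻¹⁆ := by
            rw [commutatorElement_def]; group
          rw [h3]
          exact hcl (Subgroup.commutator_mem_commutator (Subgroup.mem_top _) (Subgroup.mem_top _))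
    have hQexp : ∀ u : X ⧸ Subgroup.center X, u ^ p = 1 := by
      intro u
      induction u using QuotientGroup.induction_on with
      | H u => rw [← QuotientGroup.mk_pow, hexp, QuotientGroup.mk_one]
    have hQcard : Nat.card (X ⧸ Subgroup.center X) ≤ p ^ 2 := by
      have h3 := Subgroup.card_eq_card_quotient_mul_card_subgroup (Subgroup.center X)
      rw [hZcard] at h3
      rw [h3] at hXcard
      have h4 : Nat.card (X ⧸ Subgroup.center X) * p ≤ p ^ 2 * p := by
        calc Nat.card (X ⧸ Subgroup.center X) * p ≤ p ^ 3 := hXcard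
          _ = p ^ 2 * p := by ring
      exact Nat.le_of_mul_le_mul_right h4 hpp.pos
    have h2 := der_coprime_trivial_grp p hp2 (V := X ⧸ Subgroup.center X) hQcomm hQexp hQcard hodd
      ((quotAut _ hZinv).comp φ) g hg m hgm hpm
    -- combine
    ext x
    rw [MulAut.one_apply]
    obtain ⟨z, hz⟩ : ∃ z : X, z = x⁻¹ * φ g x := ⟨_, rfl⟩
    have hzZ : z ∈ Subgroup.center X := by
      have h3 := congrArg (fun β : MulAut (X ⧸ Subgroup.center X) => β (QuotientGroup.mk x)) h2
      simp only [MonoidHom.coe_comp, Function.comp_apply, quotAut_mk, MulAut.one_apply] at h3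
      rw [hz]
      exact QuotientGroup.eq.mp h3.symm
    have hzfix : φ g z = z := by
      have h3 := congrArg (fun β : MulAut ↥(Subgroup.center X) => ((β ⟨z, hzZ⟩ : ↥(Subgroup.center X)) : X)) h1
      simpa [resAut_apply] using h3
    have hgx : φ g x = x * z := by rw [hz]; group
    have hpow : ∀ n : ℕ, (φ g ^ n) x = x * z ^ n := by
      intro n
      induction n with
      | zero => simp
      | succ n ih =>
        rw [pow_succ', MulAut.mul_apply, ih, map_mul, map_pow, hzfix, hgx, pow_succ', mul_assoc]
    have hm1 : (φ g ^ m) x = x := by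
      rw [← map_pow, hgm, map_one, MulAut.one_apply]
    rw [hpow m] at hm1
    have hzm : z ^ m = 1 := by
      have := congrArg (fun t => x⁻¹ * t) hm1
      simpa using this
    have hz1 : z = 1 := by
      have hcop : Nat.Coprime m p := ((Nat.Prime.coprime_iff_not_dvd hpp).mpr hpm).symm
      have := pow_gcd_eq_one.mpr ⟨hzm, hexp z⟩
      rwa [Nat.Coprime.gcd_eq_one hcop, pow_one] at this
    rw [hgx, hz1, mul_one]

end Cfsg.Agent.Lib.Helper11.RankTwoExp
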