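import Mathlib
import Cfsg.Agent.Lib.Helper11.RankTwoExp
import Cfsg.Agent.Lib.Helper9.AutRank2

set_option autoImplicit false

namespace Cfsg.Agent.Lib.Helper11.AutRankTwo

open Cfsg.Agent.Lib.Helper11.RankTwoExp Cfsg.Agent.Lib.Helper11.QuadPairPGroup
open scoped commutatorElement

universe u

variable {R : Type u} [Group R]

theorem orderOf_coprime_of_pow {A : Type*} [Group A] (a : A) (p m : ℕ) (hp : p.Prime)
    (ham : a ^ m = 1) (hpm : ¬ p ∣ m) : Nat.Coprime (orderOf a) p := by
  have h1 : orderOf a ∣ m := orderOf_dvd_of_pow_eq_one ham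
  have h2 : Nat.Coprime m p := ((Nat.Prime.coprime_iff_not_dvd hp).mpr hpm).symm
  exact Nat.Coprime.coprime_dvd_left h1 h2

/-- **Automorphisms of `p`-groups of rank at most two.** A finite solvable group of odd order acting
on a `p`-group of rank at most two (`p` odd): the elements of the derived subgroup of order prime
to `p` act trivially. -/
theorem der_coprime_trivial_rank_two [Finite R] (p : ℕ) [Fact p.Prime] (hp2 : p ≠ 2)
    (hR : IsPGroup p R) (hrk : Cfsg.PRankLE p 2 R)
    {Γ : Type*} [Group Γ] [Finite Γ] (hodd : Odd (Nat.card Γ)) [hsol : Group.IsSolvable Γ]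
    (φ : Γ →* MulAut R) (g : Γ) (hg : g ∈ commutator Γ) (m : ℕ) (hgm : g ^ m = 1)
    (hpm : ¬ p ∣ m) : φ g = 1 := by
  have hpp : p.Prime := Fact.out
  obtain ⟨H, hchar, -, hcomm, hcent⟩ := Cfsg.Agent.Lib.Helper1.exists_critical hR
  have hHinv : ∀ α : MulAut R, ∀ s ∈ H, α s ∈ H := by
    intro α k hk
    have := (Subgroup.characteristic_iff_map_eq.1 hchar) α
    rw [← this]
    exact Subgroup.mem_map.2 ⟨k, hk, rfl⟩
  have hcl : commutator ↥H ≤ Subgroup.center ↥H := by
    rw [commutator_def, Subgroup.commutator_le]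
    intro x _ y _
    rw [Subgroup.mem_center_iff]
    intro g
    apply Subtype.ext
    have h1 : ⁅x.1, y.1⁆ ∈ Subgroup.centralizer (H : Set R) :=
      (hcomm (Subgroup.commutator_mem_commutator x.2 (Subgroup.mem_top _))).2
    exact (Subgroup.mem_centralizer_iff.1 h1) g.1 g.2
  have hXexp : ∀ x ∈ Subgroup.closure {x : ↥H | x ^ p = 1}, x ^ p = 1 := fun x hx =>
    Cfsg.Agent.Lib.Helper1.pow_prime_eq_one_of_mem_closure hpp hp2 hcl x hx
  have hXinv : ∀ β : MulAut ↥H, ∀ s ∈ Subgroup.closure {x : ↥H | x ^ p = 1},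
      β s ∈ Subgroup.closure {x : ↥H | x ^ p = 1} := by
    intro β x hx
    apply Subgroup.subset_closure
    show (β x) ^ p = 1
    rw [← map_pow, hXexp x hx, map_one]
  have hrkH : Cfsg.PRankLE p 2 ↥H := Cfsg.Agent.Lib.Helper9.ar_rank_subgroup hrk H
  -- the action on `Ω₁(H)`
  have h1 := der_coprime_trivial_exp p hp2
    (X := ↥(Subgroup.closure {x : ↥H | x ^ p = 1}))
    (fun x => Subtype.ext (hXexp x.1 x.2))
    (Cfsg.Agent.Lib.Helper9.ar_class_subgroup hcl _)
    (by
      intro A hA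
      apply Cfsg.Agent.Lib.Helper9.ar_rank_subgroup hrkH _ A hA
      intro a _
      apply Subtype.ext
      exact hXexp a.1 a.2)
    hodd ((resAut _ hXinv).comp ((resAut H hHinv).comp φ)) g hg m hgm hpm
  -- the action on `H`
  have h2 : (resAut H hHinv) (φ g) = 1 := by
    apply Cfsg.Agent.Lib.Helper24.oa_main hp2 (Nat.card ↥H) ↥H rfl (hR.to_subgroup H)
    · apply orderOf_coprime_of_pow _ p m hpp _ hpm
      rw [← map_pow, ← map_pow, hgm, map_one, map_one]
    · intro x hx
      have hxX : x ∈ Subgroup.closure {x : ↥H | x ^ p = 1} := Subgroup.subset_closure hx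
      have h3 := congrArg (fun β : MulAut ↥(Subgroup.closure {x : ↥H | x ^ p = 1}) =>
        ((β ⟨x, hxX⟩ : ↥(Subgroup.closure {x : ↥H | x ^ p = 1})) : ↥H)) h1
      simpa [resAut_apply] using h3
  -- the action on `R`
  apply Cfsg.Agent.Lib.Helper24.ca_crit hR H inferInstance hcent (φ g)
  · apply orderOf_coprime_of_pow _ p m hpp _ hpm
    rw [← map_pow, hgm, map_one]
  · intro x hx
    have h3 := congrArg (fun β : MulAut ↥H => ((β ⟨x, hx⟩ : ↥H) : R)) h2
    simpa [resAut_apply] using h3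

end Cfsg.Agent.Lib.Helper11.AutRankTwo
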