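import Mathlib
import Cfsg.Prelude.Def_OddOrderLocal
import Cfsg.Agent.Lib.Helper21.OmegaCent2
import Cfsg.Agent.Lib.Helper11.SelfCentralizing

set_option autoImplicit false
open scoped commutatorElement

namespace Cfsg.Agent.Lib.Helper11.BenderA

/-- a `p`-group (`p` odd) of rank at least three has a normal self-centralizing subgroup of rank at
least three -/
theorem exists_scn3_type {R : Type*} [Group R] [Finite R] (p : ℕ) [hp : Fact p.Prime] (hp2 : p ≠ 2)
    (hR : IsPGroup p R) (hr : ¬ Cfsg.PRankLE p 2 R) :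
    ∃ A : Subgroup R, A.Normal ∧ IsMulCommutative A ∧ Subgroup.centralizer (A : Set R) = A ∧
      ¬ Cfsg.PRankLE p 2 ↥A := by
  classical
  unfold Cfsg.PRankLE at hr
  push Not at hr
  obtain ⟨E, hEc, hEe, hEcard⟩ := hr
  have hEc' : ∀ a ∈ E, ∀ b ∈ E, a * b = b * a := by
    intro a ha b hb
    exact congrArg Subtype.val (hEc.is_comm.comm ⟨a, ha⟩ ⟨b, hb⟩)
  obtain ⟨A₃, hA₃n, hA₃c, hA₃e, hA₃card⟩ :=
    Cfsg.Agent.Lib.Helper21.OmegaCent.exists_normal_elemAb_cube hp2 hR ⟨E, hEc', hEe, hEcard⟩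
  have hA₃c' : IsMulCommutative A₃ :=
    ⟨⟨fun a b => Subtype.ext (hA₃c a a.2 b b.2)⟩⟩
  have hfin : {A : Subgroup R | A.Normal ∧ IsMulCommutative A}.Finite := Set.toFinite _
  obtain ⟨A, hA₃A, hA⟩ := hfin.exists_le_maximal (a := A₃) ⟨hA₃n, hA₃c'⟩
  have hAn : A.Normal := hA.prop.1
  have hAc : IsMulCommutative A := hA.prop.2
  have hRnil : Group.IsNilpotent R := hR.isNilpotent
  have hcent : Subgroup.centralizer (A : Set R) ≤ A :=
    centralizer_le_of_maximal_normal_abelian A hAc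
      (fun B hBn hBc hAB => le_antisymm (hA.le_of_ge ⟨hBn, hBc⟩ hAB) hAB)
  refine ⟨A, hAn, hAc, le_antisymm hcent ?_, ?_⟩
  · intro a ha
    rw [Subgroup.mem_centralizer_iff]
    intro b hb
    exact congrArg Subtype.val (hAc.is_comm.comm ⟨b, hb⟩ ⟨a, ha⟩)
  · intro h
    have h1 := h (A₃.subgroupOf A) ?_ ?_
    · rw [Nat.card_congr (Subgroup.subgroupOfEquivOfLe hA₃A).toEquiv, hA₃card] at h1
      have := Nat.pow_lt_pow_right hp.out.one_lt (show 2 < 3 by norm_num)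
      omega
    · refine ⟨⟨fun a b => ?_⟩⟩
      apply Subtype.ext
      apply Subtype.ext
      exact hA₃c _ a.2 _ b.2
    · intro a ha
      apply Subtype.ext
      have := hA₃e _ ha
      simpa using this

variable {G : Type*} [Group G]

/-- a `p`-subgroup (`p` odd) of rank at least three has an `SCN_3` subgroup -/
theorem exists_scn3 [Finite G] (p : ℕ) [hp : Fact p.Prime] (hp2 : p ≠ 2) (P : Subgroup G)
    (hP : IsPGroup p P) (hr : ¬ Cfsg.PRankLE p 2 ↥P) :
    ∃ A : Subgroup G, Cfsg.IsSCN P A ∧ ¬ Cfsg.PRankLE p 2 ↥A := by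
  obtain ⟨A, hAn, hAc, hAcent, hAr⟩ := exists_scn3_type p hp2 hP hr
  refine ⟨A.map P.subtype, ⟨?_, ?_, ?_⟩, ?_⟩
  · rintro _ ⟨a, _, rfl⟩
    exact a.2
  · intro x hx
    rw [Subgroup.mem_normalizer_iff]
    intro y
    constructor
    · rintro ⟨a, ha, rfl⟩
      exact ⟨⟨x, hx⟩ * a * ⟨x, hx⟩⁻¹, hAn.conj_mem a ha ⟨x, hx⟩, rfl⟩
    · rintro ⟨a, ha, ha'⟩
      have hy : y ∈ P := by
        have h1 : x⁻¹ * (x * y * x⁻¹) * x ∈ P :=
          P.mul_mem (P.mul_mem (P.inv_mem hx) (ha' ▸ a.2)) hx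
        simpa [mul_assoc] using h1
      refine ⟨⟨y, hy⟩, ?_, rfl⟩
      have h2 := hAn.conj_mem a ha (⟨x, hx⟩⁻¹)
      have h3 : (⟨x, hx⟩ : P)⁻¹ * a * (⟨x, hx⟩ : P)⁻¹⁻¹ = ⟨y, hy⟩ := by
        apply Subtype.ext
        simp only [Subgroup.coe_mul, Subgroup.coe_inv, inv_inv]
        have : (a : G) = x * y * x⁻¹ := ha'
        rw [this]
        group
      rwa [h3] at h2
  · ext x
    rw [Subgroup.mem_inf]
    constructor
    · rintro ⟨hxP, hxC⟩
      refine ⟨⟨x, hxP⟩, ?_, rfl⟩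
      have hmem : (⟨x, hxP⟩ : ↥P) ∈ Subgroup.centralizer (A : Set ↥P) := by
        rw [Subgroup.mem_centralizer_iff]
        intro a ha
        apply Subtype.ext
        exact Subgroup.mem_centralizer_iff.mp hxC a ⟨a, ha, rfl⟩
      rwa [hAcent] at hmem
    · rintro ⟨a, ha, rfl⟩
      refine ⟨a.2, ?_⟩
      rw [Subgroup.mem_centralizer_iff]
      rintro _ ⟨b, hb, rfl⟩
      have h := hAc.is_comm.comm ⟨b, hb⟩ ⟨a, ha⟩
      have h' := congrArg (fun z : ↥A => ((z : ↥P) : G)) h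
      simpa using h'
  · intro h
    apply hAr
    intro B hBc hBe
    have hinj : Function.Injective ((P.subtype.comp A.subtype) : ↥A →* G) :=
      (Subgroup.subtype_injective P).comp (Subgroup.subtype_injective A)
    have hle : B.map (P.subtype.comp A.subtype) ≤ A.map P.subtype := by
      rintro _ ⟨b, _, rfl⟩
      exact ⟨b.1, b.2, rfl⟩
    have h1 := h ((B.map (P.subtype.comp A.subtype)).subgroupOf (A.map P.subtype)) ?_ ?_
    · rwa [Nat.card_congr (Subgroup.subgroupOfEquivOfLe hle).toEquiv,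
        Subgroup.card_map_of_injective hinj] at h1
    · refine ⟨⟨fun a b => ?_⟩⟩
      obtain ⟨a₀, ha₀, ha₀'⟩ := Subgroup.mem_subgroupOf.mp a.2
      obtain ⟨b₀, hb₀, hb₀'⟩ := Subgroup.mem_subgroupOf.mp b.2
      apply Subtype.ext
      apply Subtype.ext
      simp only [Subgroup.coe_mul]
      rw [← ha₀', ← hb₀', ← map_mul, ← map_mul]
      congr 1
      exact congrArg Subtype.val (hBc.is_comm.comm ⟨a₀, ha₀⟩ ⟨b₀, hb₀⟩)
    · intro a ha
      obtain ⟨a₀, ha₀, ha₀'⟩ := Subgroup.mem_subgroupOf.mp ha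
      apply Subtype.ext
      simp only [Subgroup.coe_pow, Subgroup.coe_one]
      rw [← ha₀', ← map_pow, hBe a₀ ha₀, map_one]

end Cfsg.Agent.Lib.Helper11.BenderA
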