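import Mathlib

set_option autoImplicit false
open scoped commutatorElement

namespace Cfsg.Agent.Lib.Helper11

theorem conj_pow_of_conj {G : Type*} [Group G] (x h z : G) (hxh : x * h * x⁻¹ = h * z)
    (hxz : x * z * x⁻¹ = z) (k : ℕ) : x ^ k * h * (x ^ k)⁻¹ = h * z ^ k := by
  induction k with
  | zero => simp
  | succ k ih =>
    have hz : x * z ^ k * x⁻¹ = z ^ k := by
      have h1 : x * z ^ k * x⁻¹ = (x * z * x⁻¹) ^ k := by
        rw [conj_pow]
      rw [h1, hxz]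
    calc x ^ (k + 1) * h * (x ^ (k + 1))⁻¹
        = x * (x ^ k * h * (x ^ k)⁻¹) * x⁻¹ := by
          rw [pow_succ']; group
      _ = x * (h * z ^ k) * x⁻¹ := by rw [ih]
      _ = (x * h * x⁻¹) * (x * z ^ k * x⁻¹) := by group
      _ = h * z * z ^ k := by rw [hxh, hz]
      _ = h * z ^ (k + 1) := by rw [pow_succ', mul_assoc]

theorem eq_one_of_conj_eq_mul_of_coprime {G : Type*} [Group G] (x h z : G)
    (hxh : x * h * x⁻¹ = h * z) (hxz : x * z * x⁻¹ = z) (m : ℕ) (hzm : z ^ m = 1)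
    (hcop : (orderOf x).Coprime m) : z = 1 := by
  have hk := conj_pow_of_conj x h z hxh hxz (orderOf x)
  rw [pow_orderOf_eq_one] at hk
  have hz1 : z ^ orderOf x = 1 := by
    have : h = h * z ^ orderOf x := by simpa using hk
    exact (mul_eq_left.mp this.symm)
  have ho1 : orderOf z ∣ orderOf x := orderOf_dvd_of_pow_eq_one hz1
  have ho2 : orderOf z ∣ m := orderOf_dvd_of_pow_eq_one hzm
  have : orderOf z = 1 := Nat.eq_one_of_dvd_coprimes hcop ho1 ho2
  exact orderOf_eq_one_iff.mp this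

theorem exists_mul_pow_eq_of_mem_normalizer {G : Type*} [Group G] (N : Subgroup G) (n k : G)
    (hn : n ∈ N) (hk : k ∈ Subgroup.normalizer (N : Set G)) (j : ℕ) :
    ∃ n' ∈ N, (n * k) ^ j = n' * k ^ j := by
  induction j with
  | zero => exact ⟨1, N.one_mem, by simp⟩
  | succ j ih =>
    obtain ⟨n', hn', h⟩ := ih
    have hkj : k ^ j ∈ Subgroup.normalizer (N : Set G) := Subgroup.pow_mem _ hk j
    have h1 : k ^ j * n * (k ^ j)⁻¹ ∈ N := (Subgroup.mem_normalizer_iff.mp hkj n).mp hn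
    refine ⟨n' * (k ^ j * n * (k ^ j)⁻¹), N.mul_mem hn' h1, ?_⟩
    rw [pow_succ, h, pow_succ]
    group

theorem le_of_le_sup_of_coprime {G : Type*} [Group G] [Finite G] (N K M : Subgroup G)
    (hKN : K ≤ Subgroup.normalizer (N : Set G)) (hNK : N ⊓ K = ⊥) (hM : M ≤ N ⊔ K)
    (hcop : (Nat.card M).Coprime (Nat.card K)) : M ≤ N := by
  intro u hu
  have hu' : u ∈ ((N ⊔ K : Subgroup G) : Set G) := hM hu
  rw [Subgroup.coe_mul_of_right_le_normalizer_left N K hKN] at hu'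
  obtain ⟨n, hn, k, hk, rfl⟩ := hu'
  obtain ⟨n', hn', h⟩ := exists_mul_pow_eq_of_mem_normalizer N n k hn (hKN hk) (orderOf (n * k))
  rw [pow_orderOf_eq_one] at h
  have hk1 : k ^ orderOf (n * k) = n'⁻¹ := by
    rw [eq_comm, inv_eq_iff_mul_eq_one]
    exact h.symm
  have hk2 : k ^ orderOf (n * k) ∈ N ⊓ K :=
    ⟨hk1 ▸ N.inv_mem hn', K.pow_mem hk _⟩
  rw [hNK, Subgroup.mem_bot] at hk2
  have ho1 : orderOf k ∣ orderOf (n * k) := orderOf_dvd_of_pow_eq_one hk2
  have ho2 : orderOf (n * k) ∣ Nat.card M := Subgroup.orderOf_dvd_natCard M hu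
  have ho3 : orderOf k ∣ Nat.card K := Subgroup.orderOf_dvd_natCard K hk
  have : orderOf k = 1 := Nat.eq_one_of_dvd_coprimes hcop (ho1.trans ho2) ho3
  rw [orderOf_eq_one_iff] at this
  subst this
  simpa using hn

end Cfsg.Agent.Lib.Helper11
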