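import Mathlib

set_option autoImplicit false
open scoped commutatorElement

namespace Cfsg.Agent.Lib.Helper11

variable {G : Type*} [Group G]

theorem pow_mul_comm_commutator (x y : G) (hcy : ⁅y, x⁆ * y = y * ⁅y, x⁆) (n : ℕ) :
    y ^ n * x = ⁅y, x⁆ ^ n * x * y ^ n := by
  induction n with
  | zero => simp
  | succ n ih =>
    have hc : Commute (⁅y, x⁆ ^ n) y := (show Commute ⁅y, x⁆ y from hcy).pow_left n
    have e : y * x = ⁅y, x⁆ * x * y := by simp only [commutatorElement_def]; group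
    calc y ^ (n + 1) * x = y * (y ^ n * x) := by rw [pow_succ']; group
      _ = y * (⁅y, x⁆ ^ n * x * y ^ n) := by rw [ih]
      _ = (y * ⁅y, x⁆ ^ n) * x * y ^ n := by group
      _ = (⁅y, x⁆ ^ n * y) * x * y ^ n := by rw [hc.eq]
      _ = ⁅y, x⁆ ^ n * (y * x) * y ^ n := by group
      _ = ⁅y, x⁆ ^ n * (⁅y, x⁆ * x * y) * y ^ n := by rw [e]
      _ = ⁅y, x⁆ ^ (n + 1) * x * y ^ (n + 1) := by rw [pow_succ, pow_succ]; group

theorem mul_pow_class_two (x y : G) (hcx : ⁅y, x⁆ * x = x * ⁅y, x⁆) (hcy : ⁅y, x⁆ * y = y * ⁅y, x⁆)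
    (n : ℕ) : (x * y) ^ n = x ^ n * y ^ n * ⁅y, x⁆ ^ (n.choose 2) := by
  induction n with
  | zero => simp
  | succ n ih =>
    have hcX : Commute ⁅y, x⁆ x := hcx
    have hcY : Commute ⁅y, x⁆ y := hcy
    have h1 := pow_mul_comm_commutator x y hcy n
    have hcc : Commute (⁅y, x⁆ ^ (n.choose 2)) (x * y) := (hcX.mul_right hcY).pow_left _
    have hcn : Commute (⁅y, x⁆ ^ n) (x ^ n) := (hcX.pow_right n).pow_left n
    have hcn2 : Commute (⁅y, x⁆ ^ n) (x * y ^ n * y) :=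
      ((hcX.mul_right (hcY.pow_right n)).mul_right hcY).pow_left n
    have e : (n + 1).choose 2 = n.choose 2 + n := by
      rw [Nat.choose_succ_succ' n 1, Nat.choose_one_right, add_comm]
    calc (x * y) ^ (n + 1) = (x * y) ^ n * (x * y) := pow_succ _ _
      _ = x ^ n * y ^ n * ⁅y, x⁆ ^ (n.choose 2) * (x * y) := by rw [ih]
      _ = x ^ n * y ^ n * ((x * y) * ⁅y, x⁆ ^ (n.choose 2)) := by rw [mul_assoc, hcc.eq]
      _ = x ^ n * (y ^ n * x) * y * ⁅y, x⁆ ^ (n.choose 2) := by group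
      _ = x ^ n * (⁅y, x⁆ ^ n * x * y ^ n) * y * ⁅y, x⁆ ^ (n.choose 2) := by rw [h1]
      _ = (x ^ n * ⁅y, x⁆ ^ n) * (x * y ^ n * y) * ⁅y, x⁆ ^ (n.choose 2) := by group
      _ = (⁅y, x⁆ ^ n * x ^ n) * (x * y ^ n * y) * ⁅y, x⁆ ^ (n.choose 2) := by rw [hcn.eq]
      _ = ⁅y, x⁆ ^ n * (x ^ n * (x * y ^ n * y)) * ⁅y, x⁆ ^ (n.choose 2) := by group
      _ = ⁅y, x⁆ ^ n * (x ^ (n + 1) * y ^ (n + 1)) * ⁅y, x⁆ ^ (n.choose 2) := by
          rw [pow_succ, pow_succ]; group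
      _ = (x ^ (n + 1) * y ^ (n + 1)) * ⁅y, x⁆ ^ n * ⁅y, x⁆ ^ (n.choose 2) := by
          have : Commute (⁅y, x⁆ ^ n) (x ^ (n + 1) * y ^ (n + 1)) :=
            ((hcX.pow_right _).mul_right (hcY.pow_right _)).pow_left n
          rw [this.eq]
      _ = x ^ (n + 1) * y ^ (n + 1) * ⁅y, x⁆ ^ ((n + 1).choose 2) := by
          have h2 : ⁅y, x⁆ ^ n * ⁅y, x⁆ ^ (n.choose 2) = ⁅y, x⁆ ^ (n.choose 2 + n) := by
            rw [← pow_add, add_comm]
          rw [e, mul_assoc, h2]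

/-- in a group of class at most two and odd `p`, products of elements of order dividing `p`
have order dividing `p` -/
theorem mul_pow_prime_eq_one (p : ℕ) (hp : p.Prime) (hp2 : p ≠ 2) (x y : G)
    (hcx : ⁅y, x⁆ * x = x * ⁅y, x⁆) (hcy : ⁅y, x⁆ * y = y * ⁅y, x⁆)
    (hx : x ^ p = 1) (hy : y ^ p = 1) : (x * y) ^ p = 1 := by
  have h1 := pow_mul_comm_commutator x y hcy p
  rw [hy, one_mul, mul_one] at h1
  have hcp : ⁅y, x⁆ ^ p = 1 := by
    have : ⁅y, x⁆ ^ p * x = 1 * x := by rw [← h1, one_mul]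
    exact mul_right_cancel this
  rw [mul_pow_class_two x y hcx hcy, hx, hy, one_mul, one_mul]
  have hodd : Odd p := hp.odd_of_ne_two hp2
  obtain ⟨m, hm⟩ := hodd
  have hch : p.choose 2 = p * m := by
    rw [Nat.choose_two_right, hm]
    have : (2 * m + 1) * (2 * m + 1 - 1) = 2 * ((2 * m + 1) * m) := by
      rw [Nat.add_sub_cancel]; ring
    rw [this, Nat.mul_div_cancel_left _ (by norm_num : 0 < 2)]
  rw [hch, pow_mul, hcp, one_pow]

/-- a subgroup of class at most two generated by elements of order dividing an odd prime `p`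
has exponent dividing `p` -/
theorem pow_prime_eq_one_of_closure (p : ℕ) (hp : p.Prime) (hp2 : p ≠ 2) (R : Subgroup G)
    (hcl : ∀ x ∈ R, ∀ y ∈ R, ∀ z ∈ R, ⁅x, y⁆ * z = z * ⁅x, y⁆)
    (hgen : R ≤ Subgroup.closure {x : G | x ∈ R ∧ x ^ p = 1}) : ∀ x ∈ R, x ^ p = 1 := by
  have key : ∀ x ∈ Subgroup.closure {x : G | x ∈ R ∧ x ^ p = 1}, x ∈ R ∧ x ^ p = 1 := by
    intro x hx
    induction hx using Subgroup.closure_induction with
    | mem x hx => exact hx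
    | one => exact ⟨R.one_mem, one_pow _⟩
    | mul x y _ _ ihx ihy =>
      refine ⟨R.mul_mem ihx.1 ihy.1, ?_⟩
      exact mul_pow_prime_eq_one p hp hp2 x y (hcl y ihy.1 x ihx.1 x ihx.1)
        (hcl y ihy.1 x ihx.1 y ihy.1) ihx.2 ihy.2
    | inv x _ ih => exact ⟨R.inv_mem ih.1, by rw [inv_pow, ih.2, inv_one]⟩
  intro x hx
  exact (key x (hgen hx)).2

end Cfsg.Agent.Lib.Helper11
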