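import Mathlib

set_option autoImplicit false
open scoped commutatorElement

namespace Cfsg.Agent.Lib.Helper11

variable {G : Type*} [Group G]

/-- the symmetrized product of a list: the product followed by the product in reverse order -/
def symProd (l : List G) : G := l.prod * l.reverse.prod

theorem symProd_nil : symProd ([] : List G) = 1 := by simp [symProd]

theorem symProd_cons (a : G) (l : List G) : symProd (a :: l) = a * symProd l * a := by
  simp only [symProd, List.reverse_cons, List.prod_cons, List.prod_append, List.prod_nil, mul_one]
  group

theorem list_prod_mem (R : Subgroup G) {l : List G} (hl : ∀ a ∈ l, a ∈ R) : l.prod ∈ R :=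
  Subgroup.list_prod_mem R hl

theorem symProd_mem (R : Subgroup G) {l : List G} (hl : ∀ a ∈ l, a ∈ R) : symProd l ∈ R := by
  apply R.mul_mem (list_prod_mem R hl)
  apply list_prod_mem R
  intro a ha
  exact hl a (List.mem_reverse.mp ha)

/-- in a group of class at most two the symmetrized product does not depend on the order -/
theorem symProd_perm (R : Subgroup G)
    (hcl : ∀ x ∈ R, ∀ y ∈ R, ∀ z ∈ R, ⁅x, y⁆ * z = z * ⁅x, y⁆)
    {l l' : List G} (h : l.Perm l') (hl : ∀ a ∈ l, a ∈ R) : symProd l = symProd l' := by
  induction h with
  | nil => rfl
  | cons x _ ih =>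
    rw [symProd_cons, symProd_cons, ih (fun a ha => hl a (List.mem_cons_of_mem _ ha))]
  | swap x y l =>
    have hx : x ∈ R := hl x (by simp)
    have hy : y ∈ R := hl y (by simp)
    have hm : symProd l ∈ R := symProd_mem R (fun a ha => hl a (by simp [ha]))
    rw [symProd_cons, symProd_cons, symProd_cons, symProd_cons]
    set m := symProd l
    have hc := hcl x hx y hy
    have e1 : x * y = ⁅x, y⁆ * (y * x) := by simp only [commutatorElement_def]; group
    calc y * (x * m * x) * y = y * x * m * (x * y) := by group
      _ = y * x * m * (⁅x, y⁆ * (y * x)) := by rw [e1]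
      _ = (y * x * m) * ⁅x, y⁆ * (y * x) := by group
      _ = ⁅x, y⁆ * (y * x * m) * (y * x) := by
          rw [hc (y * x * m) (R.mul_mem (R.mul_mem hy hx) hm)]
      _ = (⁅x, y⁆ * (y * x)) * m * (y * x) := by group
      _ = x * y * m * (y * x) := by rw [← e1]
      _ = x * (y * m * y) * x := by group
  | trans h1 _ ih1 ih2 =>
    rw [ih1 hl, ih2 (fun a ha => hl a (h1.mem_iff.mpr ha))]

theorem symProd_conj (g : G) (l : List G) :
    g * symProd l * g⁻¹ = symProd (l.map (fun a => g * a * g⁻¹)) := by
  induction l with
  | nil => simp [symProd_nil]
  | cons a l ih =>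
    rw [List.map_cons, symProd_cons, symProd_cons, ← ih]
    group

theorem symProd_map_mul_right (z : G) (l : List G) (hz : ∀ a ∈ l, a * z = z * a) :
    symProd (l.map (fun a => a * z)) = symProd l * z ^ (2 * l.length) := by
  induction l with
  | nil => simp [symProd_nil]
  | cons a l ih =>
    have hza : a * z = z * a := hz a (by simp)
    have hzl : ∀ b ∈ l, b * z = z * b := fun b hb => hz b (by simp [hb])
    have hzm : symProd l * z = z * symProd l := by
      have h1 : ∀ (l' : List G), (∀ b ∈ l', b * z = z * b) → l'.prod * z = z * l'.prod := by
        intro l' hl'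
        induction l' with
        | nil => simp
        | cons b l' ih' =>
          rw [List.prod_cons, mul_assoc, ih' (fun c hc => hl' c (by simp [hc])), ← mul_assoc,
            hl' b (by simp), mul_assoc]
      unfold symProd
      rw [mul_assoc, h1 l.reverse (fun b hb => hzl b (List.mem_reverse.mp hb)), ← mul_assoc,
        h1 l hzl, mul_assoc]
    have hzc : Commute z a := hza.symm
    have hzm' : Commute z (symProd l) := hzm.symm
    rw [List.map_cons, symProd_cons, symProd_cons, ih hzl, List.length_cons]
    have e : 2 * (l.length + 1) = 2 * l.length + 2 := by ring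
    rw [e, pow_add, pow_two]
    have hzk : Commute (z ^ (2 * l.length)) a := hzc.pow_left _
    calc a * z * (symProd l * z ^ (2 * l.length)) * (a * z)
        = a * (z * symProd l) * z ^ (2 * l.length) * a * z := by group
      _ = a * (symProd l * z) * z ^ (2 * l.length) * a * z := by rw [hzm]
      _ = a * symProd l * z * (z ^ (2 * l.length) * a) * z := by group
      _ = a * symProd l * z * (a * z ^ (2 * l.length)) * z := by rw [hzk.eq]
      _ = a * symProd l * (z * a) * z ^ (2 * l.length) * z := by group
      _ = a * symProd l * (a * z) * z ^ (2 * l.length) * z := by rw [hza]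
      _ = a * symProd l * a * (z * z ^ (2 * l.length)) * z := by group
      _ = a * symProd l * a * (z ^ (2 * l.length) * z) * z := by
          rw [(Commute.refl z).pow_right _ |>.eq]
      _ = a * symProd l * a * (z ^ (2 * l.length) * (z * z)) := by group

end Cfsg.Agent.Lib.Helper11
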