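import Mathlib
import Cfsg.Agent.Lib.Helper11.SymNorm
import Cfsg.Agent.Lib.Lead.Coprime

set_option autoImplicit false
open scoped commutatorElement

namespace Cfsg.Agent.Lib.Helper11

variable {G : Type*} [Group G]

/-- the symmetrized norm of `x` with respect to the list `L` of operators -/
def symNorm (L : List G) (x : G) : G := symProd (L.map (fun k => k * x * k⁻¹))

theorem symNorm_mem (R : Subgroup G) (L : List G) (x : G) (h : ∀ k ∈ L, k * x * k⁻¹ ∈ R) :
    symNorm L x ∈ R := by
  apply symProd_mem R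
  intro a ha
  obtain ⟨k, hk, rfl⟩ := List.mem_map.mp ha
  exact h k hk

theorem symNorm_perm (R : Subgroup G)
    (hcl : ∀ x ∈ R, ∀ y ∈ R, ∀ z ∈ R, ⁅x, y⁆ * z = z * ⁅x, y⁆)
    {L L' : List G} (h : L.Perm L') (x : G) (hx : ∀ k ∈ L, k * x * k⁻¹ ∈ R) :
    symNorm L x = symNorm L' x := by
  apply symProd_perm R hcl (h.map _)
  intro a ha
  obtain ⟨k, hk, rfl⟩ := List.mem_map.mp ha
  exact hx k hk

theorem symNorm_conj_left (k₀ : G) (L : List G) (x : G) :
    k₀ * symNorm L x * k₀⁻¹ = symNorm (L.map (fun k => k₀ * k)) x := by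
  unfold symNorm
  rw [symProd_conj, List.map_map, List.map_map]
  congr 1
  apply List.map_congr_left
  intro k _
  simp only [Function.comp]
  group

theorem symNorm_conj (g : G) (L : List G) (x : G) :
    g * symNorm L x * g⁻¹ = symNorm (L.map (fun k => g * k * g⁻¹)) (g * x * g⁻¹) := by
  unfold symNorm
  rw [symProd_conj, List.map_map, List.map_map]
  congr 1
  apply List.map_congr_left
  intro k _
  simp only [Function.comp]
  group

theorem symNorm_mul_right (L : List G) (x z : G) (hzL : ∀ k ∈ L, k * z = z * k)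
    (hzx : ∀ k ∈ L, (k * x * k⁻¹) * z = z * (k * x * k⁻¹)) :
    symNorm L (x * z) = symNorm L x * z ^ (2 * L.length) := by
  unfold symNorm
  have h1 : L.map (fun k => k * (x * z) * k⁻¹) =
      (L.map (fun k => k * x * k⁻¹)).map (fun a => a * z) := by
    rw [List.map_map]
    apply List.map_congr_left
    intro k hk
    simp only [Function.comp]
    have : k * z * k⁻¹ = z := by rw [hzL k hk, mul_inv_cancel_right]
    calc k * (x * z) * k⁻¹ = k * x * k⁻¹ * (k * z * k⁻¹) := by group
      _ = k * x * k⁻¹ * z := by rw [this]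
  rw [h1, symProd_map_mul_right, List.length_map]
  intro a ha
  obtain ⟨k, hk, rfl⟩ := List.mem_map.mp ha
  exact hzx k hk

/-- a list enumerating a finite subgroup -/
theorem exists_list_of_subgroup [Finite G] (K : Subgroup G) :
    ∃ L : List G, L.Nodup ∧ (∀ k, k ∈ L ↔ k ∈ K) ∧ L.length = Nat.card K := by
  classical
  have : Fintype G := Fintype.ofFinite G
  refine ⟨(Finset.univ.filter (fun k => k ∈ K)).toList, Finset.nodup_toList _, ?_, ?_⟩
  · intro k
    simp
  · rw [Finset.length_toList, Nat.card_eq_fintype_card, Fintype.card_subtype]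

theorem perm_map_of_bij {L : List G} (hL : L.Nodup) (K : Subgroup G) (hLK : ∀ k, k ∈ L ↔ k ∈ K)
    (f : G → G) (hf : Function.Injective f) (hfK : ∀ k, k ∈ K → f k ∈ K)
    (hsurj : ∀ k ∈ K, ∃ k' ∈ K, f k' = k) : (L.map f).Perm L := by
  rw [List.perm_ext_iff_of_nodup (hL.map hf) hL]
  intro a
  rw [List.mem_map, hLK]
  constructor
  · rintro ⟨k, hk, rfl⟩
    exact hfK k ((hLK k).mp hk)
  · intro ha
    obtain ⟨k', hk', rfl⟩ := hsurj a ha
    exact ⟨k', (hLK k').mpr hk', rfl⟩

end Cfsg.Agent.Lib.Helper11
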