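import Mathlib
import Cfsg.Agent.Lib.Helper11.SymSection
import Cfsg.Agent.Lib.Helper11.Coprime

set_option autoImplicit false
open scoped commutatorElement

namespace Cfsg.Agent.Lib.Helper11

variable {G : Type*} [Group G] [Finite G]

/-- an element of `R` outside `C` that is fixed by `P` modulo `C` -/
theorem exists_fixed_mod (p : ℕ) [Fact p.Prime] (R P C : Subgroup G) (hR : IsPGroup p R)
    (hP : IsPGroup p P) (hPR : P ≤ Subgroup.normalizer (R : Set G)) (hne : ¬ R ≤ C) :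
    ∃ x ∈ R, x ∉ C ∧ ∀ a ∈ P, ⁅x, a⁆ ∈ C := by
  obtain ⟨Γ, hΓ⟩ : ∃ Γ : Subgroup G, Γ = R ⊔ P := ⟨_, rfl⟩
  have hΓp : IsPGroup p Γ := by
    rw [hΓ]
    exact IsPGroup.to_sup_of_normal_left' hR hP hPR
  have hnil : Group.IsNilpotent Γ := hΓp.isNilpotent
  have hRΓ : R ≤ Γ := hΓ ▸ le_sup_left
  have hPΓ : P ≤ Γ := hΓ ▸ le_sup_right
  have hΓR : Γ ≤ Subgroup.normalizer (R : Set G) := by
    rw [hΓ]
    exact sup_le Subgroup.le_normalizer hPR
  let 𝒰 : Set (Subgroup G) := {U | U ≤ R ∧ Γ ≤ Subgroup.normalizer (U : Set G) ∧ ¬ U ≤ C}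
  have hR𝒰 : R ∈ 𝒰 := ⟨le_rfl, hΓR, hne⟩
  obtain ⟨U, hU, hmin⟩ := wellFounded_lt.has_min 𝒰 ⟨R, hR𝒰⟩
  have hUbot : U ≠ ⊥ := by
    rintro rfl
    exact hU.2.2 bot_le
  have hV : ⁅U, Γ⁆ < U :=
    Cfsg.Agent.Lib.Lead.commutator_lt_of_nilpotent U Γ (hU.1.trans hRΓ) hU.2.1 hnil hUbot
  have hVC : ⁅U, Γ⁆ ≤ C := by
    by_contra hcon
    apply hmin ⁅U, Γ⁆ ⟨hV.le.trans hU.1, ?_, hcon⟩ hV
    exact Cfsg.Agent.Lib.Lead.le_normalizer_commutator Γ U Γ hU.2.1 Subgroup.le_normalizer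
  obtain ⟨x, hxU, hxC⟩ := SetLike.not_le_iff_exists.mp hU.2.2
  refine ⟨x, hU.1 hxU, hxC, ?_⟩
  intro a ha
  exact hVC (Subgroup.commutator_mem_commutator hxU (hPΓ ha))

theorem conj_mem_inf_centralizer (R K : Subgroup G) (a : G)
    (haR : a ∈ Subgroup.normalizer (R : Set G)) (haK : a ∈ Subgroup.normalizer (K : Set G))
    (w : G) (hw : w ∈ R ⊓ Subgroup.centralizer (K : Set G)) :
    a * w * a⁻¹ ∈ R ⊓ Subgroup.centralizer (K : Set G) := by
  refine ⟨(Subgroup.mem_normalizer_iff.mp haR w).mp hw.1, ?_⟩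
  show a * w * a⁻¹ ∈ Subgroup.centralizer (K : Set G)
  rw [Subgroup.mem_centralizer_iff]
  intro k hk
  have hk' : a⁻¹ * k * a ∈ K := (Subgroup.mem_normalizer_iff''.mp haK k).mp hk
  have h1 := (Subgroup.mem_centralizer_iff.mp hw.2) _ hk'
  calc k * (a * w * a⁻¹) = a * ((a⁻¹ * k * a) * w) * a⁻¹ := by group
    _ = a * (w * (a⁻¹ * k * a)) * a⁻¹ := by rw [h1]
    _ = a * w * a⁻¹ * k := by group

/-- the key step: a `P`-fixed element of `R` outside `C_R(K)`, from the symmetrized norm -/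
theorem exists_fixed_outside (p : ℕ) [Fact p.Prime] (hp2 : p ≠ 2) (R P K : Subgroup G)
    (hR : IsPGroup p R) (hP : IsPGroup p P) (hK : (Nat.card K).Coprime p)
    (hPR : P ≤ Subgroup.normalizer (R : Set G)) (hKR : K ≤ Subgroup.normalizer (R : Set G))
    (hPK : P ≤ Subgroup.normalizer (K : Set G))
    (hcen : ∀ z ∈ R, (∀ k ∈ K, k * z = z * k) → ∀ y ∈ R, z * y = y * z)
    (hcomm : ∀ x ∈ R, ∀ y ∈ R, ∀ k ∈ K, k * ⁅x, y⁆ = ⁅x, y⁆ * k)
    (hne : ¬ R ≤ Subgroup.centralizer (K : Set G)) :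
    ∃ y ∈ R, (∀ a ∈ P, a * y = y * a) ∧ y ∉ Subgroup.centralizer (K : Set G) := by
  have hp : p.Prime := Fact.out
  obtain ⟨C, hC⟩ : ∃ C : Subgroup G, C = R ⊓ Subgroup.centralizer (K : Set G) := ⟨_, rfl⟩
  have hCR : C ≤ R := hC ▸ inf_le_left
  have hCK : ∀ z ∈ C, ∀ k ∈ K, k * z = z * k := by
    intro z hz k hk
    rw [hC] at hz
    exact (Subgroup.mem_centralizer_iff.mp hz.2) k hk
  have hCmem : ∀ z ∈ R, (∀ k ∈ K, k * z = z * k) → z ∈ C := by
    intro z hz h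
    rw [hC]
    exact ⟨hz, Subgroup.mem_centralizer_iff.mpr h⟩
  have hCcen : ∀ z ∈ C, ∀ y ∈ R, z * y = y * z := fun z hz => hcen z (hCR hz) (hCK z hz)
  have hcommR : ∀ x ∈ R, ∀ y ∈ R, ⁅x, y⁆ ∈ R := by
    intro x hx y hy
    rw [commutatorElement_def]
    exact R.mul_mem (R.mul_mem (R.mul_mem hx hy) (R.inv_mem hx)) (R.inv_mem hy)
  have hcl : ∀ x ∈ R, ∀ y ∈ R, ∀ z ∈ R, ⁅x, y⁆ * z = z * ⁅x, y⁆ := by
    intro x hx y hy z hz
    exact hcen _ (hcommR x hx y hy) (hcomm x hx y hy) z hz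
  have hneC : ¬ R ≤ C := by
    intro h
    apply hne
    intro x hx
    have := h hx
    rw [hC] at this
    exact this.2
  obtain ⟨x₀, hx₀R, hx₀C, hx₀P⟩ := exists_fixed_mod p R P C hR hP hPR hneC
  obtain ⟨L, hLnd, hLK, hLlen⟩ := exists_list_of_subgroup K
  have hconjR : ∀ k ∈ K, ∀ x ∈ R, k * x * k⁻¹ ∈ R := by
    intro k hk x hx
    exact (Subgroup.mem_normalizer_iff.mp (hKR hk) x).mp hx
  have hLR : ∀ x ∈ R, ∀ k ∈ L, k * x * k⁻¹ ∈ R := fun x hx k hk => hconjR k ((hLK k).mp hk) x hx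
  -- the norm lands in `C`
  have hνC : ∀ x ∈ R, symNorm L x ∈ C := by
    intro x hx
    apply hCmem _ (symNorm_mem R L x (hLR x hx))
    intro k₀ hk₀
    have h1 := symNorm_conj_left k₀ L x
    have hperm : (L.map (fun k => k₀ * k)).Perm L := by
      apply perm_map_of_bij hLnd K hLK _ (mul_right_injective k₀)
      · intro k hk
        exact K.mul_mem hk₀ hk
      · intro k hk
        exact ⟨k₀⁻¹ * k, K.mul_mem (K.inv_mem hk₀) hk, by group⟩
    have h2 : symNorm (L.map (fun k => k₀ * k)) x = symNorm L x := by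
      apply symNorm_perm R hcl hperm
      intro k hk
      obtain ⟨k', hk', rfl⟩ := List.mem_map.mp hk
      exact hconjR _ (K.mul_mem hk₀ ((hLK k').mp hk')) x hx
    rw [h2] at h1
    calc k₀ * symNorm L x = (k₀ * symNorm L x * k₀⁻¹) * k₀ := by group
      _ = symNorm L x * k₀ := by rw [h1]
  -- the power map on `C`
  obtain ⟨n, hn⟩ : ∃ n : ℕ, n = 2 * L.length := ⟨_, rfl⟩
  have hCp : IsPGroup p C := hR.to_le hCR
  have hcopn : (Nat.card C).Coprime n := by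
    obtain ⟨j, hj⟩ := (IsPGroup.iff_card).mp hCp
    rw [hj, hn, hLlen]
    apply Nat.Coprime.pow_left
    apply Nat.Coprime.mul_right
    · exact (Nat.coprime_primes hp Nat.prime_two).mpr hp2
    · exact hK.symm
  have hsurj : ∀ z ∈ C, ∃ w ∈ C, w ^ n = z := by
    intro z hz
    refine ⟨((powCoprime hcopn).symm ⟨z, hz⟩ : C), Subtype.property _, ?_⟩
    have := (powCoprime hcopn).apply_symm_apply ⟨z, hz⟩
    have h2 := congrArg Subtype.val this
    simpa using h2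
  have hinj : ∀ z ∈ C, ∀ w ∈ C, z ^ n = w ^ n → z = w := by
    intro z hz w hw h
    have : (powCoprime hcopn) ⟨z, hz⟩ = (powCoprime hcopn) ⟨w, hw⟩ := by
      apply Subtype.ext
      simpa using h
    exact congrArg Subtype.val ((powCoprime hcopn).injective this)
  have hνmul : ∀ x ∈ R, ∀ z ∈ C, symNorm L (x * z) = symNorm L x * z ^ n := by
    intro x hx z hz
    rw [hn]
    apply symNorm_mul_right
    · intro k hk
      exact hCK z hz k ((hLK k).mp hk)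
    · intro k hk
      exact (hCcen z hz _ (hLR x hx k hk)).symm
  obtain ⟨w, hwC, hw⟩ := hsurj (symNorm L x₀)⁻¹ (C.inv_mem (hνC x₀ hx₀R))
  have hy1 : symNorm L (x₀ * w) = 1 := by
    rw [hνmul x₀ hx₀R w hwC, hw, mul_inv_cancel]
  have hyR : x₀ * w ∈ R := R.mul_mem hx₀R (hCR hwC)
  refine ⟨x₀ * w, hyR, ?_, ?_⟩
  · intro a ha
    have haR := hPR ha
    have haK := hPK ha
    -- conjugate of `x₀`
    have hc' : ⁅a, x₀⁆ ∈ C := by
      have := C.inv_mem (hx₀P a ha)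
      rwa [commutatorElement_inv] at this
    have e1 : a * x₀ * a⁻¹ = x₀ * ⁅a, x₀⁆ := by
      have h1 : a * x₀ * a⁻¹ = ⁅a, x₀⁆ * x₀ := by
        simp only [commutatorElement_def]; group
      rw [h1, hCcen _ hc' x₀ hx₀R]
    have hawC : a * w * a⁻¹ ∈ C := by
      rw [hC]
      apply conj_mem_inf_centralizer R K a haR haK
      rw [← hC]; exact hwC
    obtain ⟨z', hz'⟩ : ∃ z' : G, z' = ⁅a, x₀⁆ * (a * w * a⁻¹) := ⟨_, rfl⟩
    have hz'C : z' ∈ C := hz' ▸ C.mul_mem hc' hawC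
    have e2 : a * (x₀ * w) * a⁻¹ = x₀ * z' := by
      calc a * (x₀ * w) * a⁻¹ = (a * x₀ * a⁻¹) * (a * w * a⁻¹) := by group
        _ = x₀ * ⁅a, x₀⁆ * (a * w * a⁻¹) := by rw [e1]
        _ = x₀ * z' := by rw [hz', mul_assoc]
    -- the norm of the conjugate
    have h3 := symNorm_conj a L (x₀ * w)
    have hperm : (L.map (fun k => a * k * a⁻¹)).Perm L := by
      apply perm_map_of_bij hLnd K hLK _
      · intro k k' h
        simpa using h
      · intro k hk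
        exact (Subgroup.mem_normalizer_iff.mp haK k).mp hk
      · intro k hk
        exact ⟨a⁻¹ * k * a, (Subgroup.mem_normalizer_iff''.mp haK k).mp hk, by group⟩
    have hyR' : a * (x₀ * w) * a⁻¹ ∈ R := (Subgroup.mem_normalizer_iff.mp haR _).mp hyR
    have h4 : symNorm (L.map (fun k => a * k * a⁻¹)) (a * (x₀ * w) * a⁻¹) =
        symNorm L (a * (x₀ * w) * a⁻¹) := by
      apply symNorm_perm R hcl hperm
      intro k hk
      obtain ⟨k', hk', rfl⟩ := List.mem_map.mp hk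
      exact hconjR _ ((Subgroup.mem_normalizer_iff.mp haK k').mp ((hLK k').mp hk')) _ hyR'
    rw [h4, hy1, mul_one, mul_inv_cancel, e2, hνmul x₀ hx₀R z' hz'C] at h3
    have h5 : symNorm L x₀ * z' ^ n = symNorm L x₀ * w ^ n := by
      rw [← h3, hw, mul_inv_cancel]
    have h6 : z' = w := hinj z' hz'C w hwC (mul_left_cancel h5)
    rw [h6] at e2
    calc a * (x₀ * w) = (a * (x₀ * w) * a⁻¹) * a := by group
      _ = x₀ * w * a := by rw [e2]
  · intro hcon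
    apply hx₀C
    have hyC : x₀ * w ∈ C := by
      rw [hC]
      exact ⟨hyR, hcon⟩
    have := C.mul_mem hyC (C.inv_mem hwC)
    simpa using this

end Cfsg.Agent.Lib.Helper11
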