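import Mathlib
import Cfsg.Agent.Lib.Helper11.PKAction
import Cfsg.Agent.Lib.Helper11.ClassTwoPow
import Cfsg.Agent.S0120
import Cfsg.Agent.S0055

set_option autoImplicit false
open scoped commutatorElement

namespace Cfsg.Agent.Lib.Helper11

variable {G : Type*} [Group G] [Finite G]

/-- the hypothesis on the pair `(R, P)`: either `p` is odd and `P` contains the elements of
order dividing `p` of `C_R(P)`, or `P` contains `C_R(P)` and `[R, P]` is central in `R`. -/
def PKHyp (p : ℕ) (R P : Subgroup G) : Prop :=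
  (p ≠ 2 ∧ ∀ x ∈ R, x ^ p = 1 → (∀ a ∈ P, a * x = x * a) → x ∈ P) ∨
  ((∀ x ∈ R, (∀ a ∈ P, a * x = x * a) → x ∈ P) ∧
    ∀ x ∈ R, ∀ a ∈ P, ∀ y ∈ R, ⁅x, a⁆ * y = y * ⁅x, a⁆)

omit [Finite G] in
theorem PKHyp.mono {p : ℕ} {R R' P : Subgroup G} (h : PKHyp p R P) (hle : R' ≤ R) :
    PKHyp p R' P := by
  rcases h with ⟨h1, h2⟩ | ⟨h1, h2⟩
  · exact Or.inl ⟨h1, fun x hx => h2 x (hle hx)⟩
  · exact Or.inr ⟨fun x hx => h1 x (hle hx), fun x hx a ha y hy => h2 x (hle hx) a ha y (hle hy)⟩

/-- `P ∩ R` is centralized by `K` -/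
theorem inf_le_centralizer_of_coprime (p : ℕ) [Fact p.Prime] (R P K : Subgroup G)
    (hR : IsPGroup p R) (hK : (Nat.card K).Coprime p)
    (hKR : K ≤ Subgroup.normalizer (R : Set G)) (hPK : P ≤ Subgroup.normalizer (K : Set G)) :
    P ⊓ R ≤ Subgroup.centralizer (K : Set G) := by
  intro x hx
  rw [Subgroup.mem_centralizer_iff]
  intro k hk
  have h1 : x * k * x⁻¹ ∈ K := (Subgroup.mem_normalizer_iff.mp (hPK hx.1) k).mp hk
  have h2 : k * x⁻¹ * k⁻¹ ∈ R :=
    (Subgroup.mem_normalizer_iff.mp (hKR hk) x⁻¹).mp (R.inv_mem hx.2)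
  have h3 : x * k * x⁻¹ * k⁻¹ ∈ K := K.mul_mem h1 (K.inv_mem hk)
  have h4 : x * k * x⁻¹ * k⁻¹ ∈ R := by
    have : x * k * x⁻¹ * k⁻¹ = x * (k * x⁻¹ * k⁻¹) := by group
    rw [this]
    exact R.mul_mem hx.2 h2
  have hcop : (Nat.card R).Coprime (Nat.card K) := by
    obtain ⟨j, hj⟩ := (IsPGroup.iff_card).mp hR
    rw [hj]
    exact Nat.Coprime.pow_left j hK.symm
  have h5 : x * k * x⁻¹ * k⁻¹ = 1 :=
    Subgroup.disjoint_def.mp (Subgroup.disjoint_of_coprime_natCard hcop) h4 h3
  calc k * x = (x * k * x⁻¹ * k⁻¹)⁻¹ * (x * k) := by group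
    _ = x * k := by rw [h5, inv_one, one_mul]

/-- a `p'`-element acting trivially on `R / C` and on `C` acts trivially on `R` -/
theorem commute_of_conj_mem_mul (p : ℕ) [Fact p.Prime] (R : Subgroup G) (hR : IsPGroup p R)
    (k : G) (hk : (orderOf k).Coprime p) (x z : G) (hz : z ∈ R) (hxz : k * x * k⁻¹ = x * z)
    (hkz : k * z = z * k) : k * x = x * k := by
  have hz1 : z = 1 := by
    apply eq_one_of_conj_eq_mul_of_coprime k x z hxz (by rw [hkz, mul_inv_cancel_right])
      (Nat.card R) (by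
        have := pow_card_eq_one' (G := R) (x := ⟨z, hz⟩)
        exact congrArg Subtype.val this)
    obtain ⟨j, hj⟩ := (IsPGroup.iff_card).mp hR
    rw [hj]
    exact Nat.Coprime.pow_right j hk
  rw [hz1, mul_one] at hxz
  calc k * x = (k * x * k⁻¹) * k := by group
    _ = x * k := by rw [hxz]

theorem orderOf_coprime_of_mem (p : ℕ) (K : Subgroup G) (hK : (Nat.card K).Coprime p)
    (k : G) (hk : k ∈ K) : (orderOf k).Coprime p :=
  Nat.Coprime.coprime_dvd_left (Subgroup.orderOf_dvd_natCard K hk) hK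

/-- a `p'`-element normalizing the `p`-group `R` (`p` odd) and centralizing its elements of order
dividing `p` centralizes `R` -/
theorem centralizes_of_centralizes_omega (p : ℕ) [Fact p.Prime] (hp2 : p ≠ 2) (R : Subgroup G)
    (hR : IsPGroup p R) (k : G) (hkR : k ∈ Subgroup.normalizer (R : Set G))
    (hk : (orderOf k).Coprime p) (h : ∀ x ∈ R, x ^ p = 1 → k * x = x * k) :
    ∀ x ∈ R, k * x = x * k := by
  obtain ⟨a, ha⟩ : ∃ a : MulAut R, a = Cfsg.Agent.Lib.Lead.conjAut R k hkR := ⟨_, rfl⟩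
  have hav : ∀ x : R, ((a x : R) : G) = k * x * k⁻¹ := by
    intro x
    rw [ha]
    rfl
  have hpow : ∀ (j : ℕ) (x : R), (((a ^ j) x : R) : G) = k ^ j * x * (k ^ j)⁻¹ := by
    intro j
    induction j with
    | zero => intro x; simp
    | succ j ih =>
      intro x
      rw [pow_succ, MulAut.mul_apply, ih, hav, pow_succ]
      group
  have hao : a ^ orderOf k = 1 := by
    ext x
    rw [hpow, pow_orderOf_eq_one]
    simp
  have hcop : Nat.Coprime (orderOf a) p :=
    Nat.Coprime.coprime_dvd_left (orderOf_dvd_of_pow_eq_one hao) hk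
  have h1 : a = 1 := by
    apply Cfsg.Agent.S0120.result hp2 hR a hcop
    intro x hx
    apply Subtype.ext
    rw [hav]
    have hx' : (x : G) ^ p = 1 := by
      have := congrArg Subtype.val hx
      simpa using this
    rw [h x x.2 hx', mul_inv_cancel_right]
  intro x hx
  have h2 := hav ⟨x, hx⟩
  rw [h1] at h2
  simp only [MulAut.one_apply] at h2
  calc k * x = (k * x * k⁻¹) * k := by group
    _ = x * k := by rw [← h2]

/-- the case `[R, P] ≤ Z(R) ≤ C_R(K)` with `R = [R, K]`: then `P` centralizes `R` -/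
theorem centralizes_of_class_two (p : ℕ) [Fact p.Prime] (R P K : Subgroup G)
    (hR : IsPGroup p R) (hK : (Nat.card K).Coprime p)
    (hPR : P ≤ Subgroup.normalizer (R : Set G)) (hKR : K ≤ Subgroup.normalizer (R : Set G))
    (hPK : P ≤ Subgroup.normalizer (K : Set G))
    (hgen : R ≤ ⁅R, K⁆)
    (hcl : ∀ x ∈ R, ∀ a ∈ P, ∀ y ∈ R, ⁅x, a⁆ * y = y * ⁅x, a⁆)
    (hZK : ∀ z ∈ R, (∀ y ∈ R, z * y = y * z) → ∀ k ∈ K, k * z = z * k) :
    ∀ a ∈ P, ∀ y ∈ R, a * y = y * a := by
  -- conjugation by `b ∈ P` moves `y ∈ R` by a central element fixed by `K`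
  have hmove : ∀ b ∈ P, ∀ y ∈ R, ∃ c ∈ R, (∀ k ∈ K, k * c = c * k) ∧
      (∀ y' ∈ R, c * y' = y' * c) ∧ b * y * b⁻¹ = y * c := by
    intro b hb y hy
    have hcR : ⁅y⁻¹, b⁆ ∈ R := by
      have h1 : b * y * b⁻¹ ∈ R := (Subgroup.mem_normalizer_iff.mp (hPR hb) y).mp hy
      have : ⁅y⁻¹, b⁆ = y⁻¹ * (b * y * b⁻¹) := by simp only [commutatorElement_def]; group
      rw [this]
      exact R.mul_mem (R.inv_mem hy) h1
    have hcc := hcl y⁻¹ (R.inv_mem hy) b hb
    refine ⟨⁅y⁻¹, b⁆, hcR, hZK _ hcR hcc, hcc, ?_⟩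
    simp only [commutatorElement_def]; group
  intro a ha
  -- `κ = a⁻¹ k⁻¹ a k` centralizes `R`
  have hκ : ∀ k ∈ K, ∀ y ∈ R, (a⁻¹ * k⁻¹ * a * k) * y = y * (a⁻¹ * k⁻¹ * a * k) := by
    intro k hk y hy
    have hκK : a⁻¹ * k⁻¹ * a * k ∈ K := by
      apply K.mul_mem _ hk
      exact (Subgroup.mem_normalizer_iff''.mp (hPK ha) k⁻¹).mp (K.inv_mem hk)
    have hy1 : k * y * k⁻¹ ∈ R := (Subgroup.mem_normalizer_iff.mp (hKR hk) y).mp hy
    obtain ⟨c, hcR, hcK, _, hc⟩ := hmove a ha (k * y * k⁻¹) hy1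
    obtain ⟨c', hc'R, hc'K, _, hc'⟩ := hmove a⁻¹ (P.inv_mem ha) y hy
    have hc2 : a⁻¹ * c * a ∈ R := by
      have := (Subgroup.mem_normalizer_iff.mp (hPR (P.inv_mem ha)) c).mp hcR
      simpa using this
    have hc2K : ∀ k' ∈ K, k' * (a⁻¹ * c * a) = (a⁻¹ * c * a) * k' := by
      intro k' hk'
      have h1 : a * k' * a⁻¹ ∈ K := (Subgroup.mem_normalizer_iff.mp (hPK ha) k').mp hk'
      have h2 := hcK _ h1
      calc k' * (a⁻¹ * c * a) = a⁻¹ * ((a * k' * a⁻¹) * c) * a := by group
        _ = a⁻¹ * (c * (a * k' * a⁻¹)) * a := by rw [h2]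
        _ = a⁻¹ * c * a * k' := by group
    apply commute_of_conj_mem_mul p R hR _ (orderOf_coprime_of_mem p K hK _ hκK) y
      (c' * (a⁻¹ * c * a)) (R.mul_mem hc'R hc2)
    · have hkc : k⁻¹ * c * k = c := by
        have := hcK k hk
        calc k⁻¹ * c * k = k⁻¹ * (c * k) := by group
          _ = k⁻¹ * (k * c) := by rw [this]
          _ = c := by group
      have e1 : a * (k * y * k⁻¹) * a⁻¹ = k * y * k⁻¹ * c := hc
      have e2 : a⁻¹ * y * a⁻¹⁻¹ = y * c' := hc'
      calc a⁻¹ * k⁻¹ * a * k * y * (a⁻¹ * k⁻¹ * a * k)⁻¹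
          = a⁻¹ * (k⁻¹ * (a * (k * y * k⁻¹) * a⁻¹) * k) * a := by group
        _ = a⁻¹ * (k⁻¹ * (k * y * k⁻¹ * c) * k) * a := by rw [e1]
        _ = a⁻¹ * (y * (k⁻¹ * c * k)) * a := by group
        _ = a⁻¹ * (y * c) * a := by rw [hkc]
        _ = (a⁻¹ * y * a⁻¹⁻¹) * (a⁻¹ * c * a) := by group
        _ = y * c' * (a⁻¹ * c * a) := by rw [e2]
        _ = y * (c' * (a⁻¹ * c * a)) := by group
    · have h1 := hc'K _ hκK
      have h2 := hc2K _ hκK
      have hC1 : Commute (a⁻¹ * k⁻¹ * a * k) c' := h1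
      have hC2 : Commute (a⁻¹ * k⁻¹ * a * k) (a⁻¹ * c * a) := h2
      exact (hC1.mul_right hC2).eq
  -- `a` centralizes the generators of `[R, K]`
  have hle : ⁅R, K⁆ ≤ Subgroup.centralizer ({a} : Set G) := by
    rw [Subgroup.commutator_le]
    intro x hx k hk
    rw [Subgroup.mem_centralizer_iff]
    intro a' ha'
    rw [Set.mem_singleton_iff] at ha'
    subst ha'
    obtain ⟨c, hcR, hcK, hcZ, hc⟩ := hmove a' ha x hx
    have hu : k * x * k⁻¹ ∈ R := (Subgroup.mem_normalizer_iff.mp (hKR hk) x).mp hx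
    have hkc : k * c * k⁻¹ = c := by rw [hcK k hk, mul_inv_cancel_right]
    have hκx := hκ k hk x hx
    have e3 : a' * (k * x * k⁻¹) * a'⁻¹ = k * x * k⁻¹ * c := by
      have hκx' : (a'⁻¹ * k⁻¹ * a' * k) * x * (a'⁻¹ * k⁻¹ * a' * k)⁻¹ = x := by
        rw [hκx, mul_inv_cancel_right]
      calc a' * (k * x * k⁻¹) * a'⁻¹
          = k * (a' * ((a'⁻¹ * k⁻¹ * a' * k) * x * (a'⁻¹ * k⁻¹ * a' * k)⁻¹) * a'⁻¹) * k⁻¹ := by
            group
        _ = k * (a' * x * a'⁻¹) * k⁻¹ := by rw [hκx']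
        _ = k * (x * c) * k⁻¹ := by rw [hc]
        _ = k * x * k⁻¹ * (k * c * k⁻¹) := by group
        _ = k * x * k⁻¹ * c := by rw [hkc]
    have e4 : a' * ⁅x, k⁆ * a'⁻¹ = ⁅x, k⁆ := by
      have h5 : ⁅x, k⁆ = x * (k * x * k⁻¹)⁻¹ := by simp only [commutatorElement_def]; group
      have hcu : c * (k * x * k⁻¹)⁻¹ = (k * x * k⁻¹)⁻¹ * c := hcZ _ (R.inv_mem hu)
      calc a' * ⁅x, k⁆ * a'⁻¹ = (a' * x * a'⁻¹) * (a' * (k * x * k⁻¹) * a'⁻¹)⁻¹ := by
            rw [h5]; group
        _ = x * c * (k * x * k⁻¹ * c)⁻¹ := by rw [hc, e3]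
        _ = x * (c * c⁻¹) * (k * x * k⁻¹)⁻¹ := by group
        _ = ⁅x, k⁆ := by rw [mul_inv_cancel, mul_one, h5]
    calc a' * ⁅x, k⁆ = (a' * ⁅x, k⁆ * a'⁻¹) * a' := by group
      _ = ⁅x, k⁆ * a' := by rw [e4]
  intro y hy
  have := hle (hgen hy)
  rw [Subgroup.mem_centralizer_iff] at this
  exact this a rfl

/-- **Main lemma.** Let `R` be a `p`-group normalized by the `p`-group `P` and the `p'`-group `K`,
`K` normalized by `P`, and assume the hypothesis `PKHyp` (in particular `C_R(P) ≤ P` up to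
elements of order `p` for odd `p`). Then `K` centralizes `R`. -/
theorem pk_centralizes (p : ℕ) [Fact p.Prime] (P K : Subgroup G) (hP : IsPGroup p P)
    (hK : (Nat.card K).Coprime p) (hPK : P ≤ Subgroup.normalizer (K : Set G)) :
    ∀ (n : ℕ) (R : Subgroup G), Nat.card R = n → IsPGroup p R →
      P ≤ Subgroup.normalizer (R : Set G) → K ≤ Subgroup.normalizer (R : Set G) →
      PKHyp p R P → R ≤ Subgroup.centralizer (K : Set G) := by
  have hp : p.Prime := Fact.out
  intro n
  induction n using Nat.strong_induction_on with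
  | _ n ih =>
    intro R hn hR hPR hKR hyp
    subst hn
    -- induction hypothesis for proper invariant subgroups
    have sub : ∀ R' : Subgroup G, R' ≤ R → R' ≠ R → P ≤ Subgroup.normalizer (R' : Set G) →
        K ≤ Subgroup.normalizer (R' : Set G) → R' ≤ Subgroup.centralizer (K : Set G) := by
      intro R' hle hne hP' hK'
      exact ih (Nat.card R') (Cfsg.Agent.Lib.Lead.card_lt_card_of_lt (lt_of_le_of_ne hle hne)) R' rfl
        (hR.to_le hle) hP' hK' (hyp.mono hle)
    by_cases hRbot : R = ⊥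
    · rw [hRbot]; exact bot_le
    -- Step A: `R = [R, K]`
    have hR₂le : ⁅R, K⁆ ≤ R := Cfsg.Agent.Lib.Lead.commutator_le_left_of_le_normalizer R K hKR
    by_cases hR₂ : ⁅R, K⁆ = R
    swap
    · have h1 := sub ⁅R, K⁆ hR₂le hR₂
        (Cfsg.Agent.Lib.Lead.le_normalizer_commutator P R K hPR hPK)
        (Cfsg.Agent.Lib.Lead.right_le_normalizer_commutator R K hKR)
      intro x hx
      rw [Subgroup.mem_centralizer_iff]
      intro k hk
      have hz : ⁅x⁻¹, k⁆ ∈ ⁅R, K⁆ := Subgroup.commutator_mem_commutator (R.inv_mem hx) hk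
      apply commute_of_conj_mem_mul p R hR k (orderOf_coprime_of_mem p K hK k hk) x ⁅x⁻¹, k⁆
        (hR₂le hz)
      · simp only [commutatorElement_def]; group
      · exact (Subgroup.mem_centralizer_iff.mp (h1 hz)) k hk
    -- Step B: `K` centralizes `R'`
    have hnil : Group.IsNilpotent R := hR.isNilpotent
    have hder : ⁅R, R⁆ < R :=
      Cfsg.Agent.Lib.Lead.commutator_lt_of_nilpotent R R le_rfl Subgroup.le_normalizer hnil hRbot
    have hderK : ⁅R, R⁆ ≤ Subgroup.centralizer (K : Set G) :=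
      sub ⁅R, R⁆ hder.le hder.ne
        (Cfsg.Agent.Lib.Lead.le_normalizer_commutator P R R hPR hPR)
        (Cfsg.Agent.Lib.Lead.le_normalizer_commutator K R R hKR hKR)
    have hcomm : ∀ x ∈ R, ∀ y ∈ R, ∀ k ∈ K, k * ⁅x, y⁆ = ⁅x, y⁆ * k := by
      intro x hx y hy k hk
      exact (Subgroup.mem_centralizer_iff.mp (hderK (Subgroup.commutator_mem_commutator hx hy))) k hk
    -- Step C: `C_R(K)` is central in `R`
    have hcen : ∀ z ∈ R, (∀ k ∈ K, k * z = z * k) → ∀ y ∈ R, z * y = y * z := by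
      obtain ⟨C, hC⟩ : ∃ C : Subgroup G, C = R ⊓ Subgroup.centralizer (K : Set G) := ⟨_, rfl⟩
      have h1 : ⁅⁅R, C⁆, K⁆ = ⊥ := by
        rw [Subgroup.commutator_eq_bot_iff_le_centralizer]
        refine le_trans (Subgroup.commutator_mono le_rfl ?_) hderK
        rw [hC]; exact inf_le_left
      have h2 : ⁅⁅C, K⁆, R⁆ = ⊥ := by
        have : ⁅C, K⁆ = ⊥ := by
          rw [Subgroup.commutator_eq_bot_iff_le_centralizer, hC]
          exact inf_le_right
        rw [this, Subgroup.commutator_bot_left]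
      have h3 := Subgroup.commutator_commutator_eq_bot_of_rotate h1 h2
      rw [Subgroup.commutator_comm K R, hR₂, Subgroup.commutator_eq_bot_iff_le_centralizer] at h3
      intro z hz hzK y hy
      have hzC : z ∈ C := by
        rw [hC]; exact ⟨hz, Subgroup.mem_centralizer_iff.mpr hzK⟩
      exact (Subgroup.mem_centralizer_iff.mp (h3 hy)) z hzC
    have hPRK := inf_le_centralizer_of_coprime p R P K hR hK hKR hPK
    rcases hyp with ⟨hp2, hΩ⟩ | ⟨hfull, hcl2⟩
    · -- odd case
      obtain ⟨Ω, hΩdef⟩ : ∃ Ω : Subgroup G, Ω = Subgroup.closure {x : G | x ∈ R ∧ x ^ p = 1} :=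
        ⟨_, rfl⟩
      have hΩle : Ω ≤ R := by
        rw [hΩdef, Subgroup.closure_le]
        intro x hx
        exact hx.1
      have hΩnorm : ∀ H : Subgroup G, H ≤ Subgroup.normalizer (R : Set G) →
          H ≤ Subgroup.normalizer (Ω : Set G) := by
        intro H hH
        rw [hΩdef, Subgroup.le_normalizer_closure_iff]
        intro h hh g hg
        apply Subgroup.subset_closure
        refine ⟨(Subgroup.mem_normalizer_iff.mp (hH hh) g).mp hg.1, ?_⟩
        rw [conj_pow, hg.2]; simp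
      by_cases hΩR : Ω = R
      swap
      · have h1 := sub Ω hΩle hΩR (hΩnorm P hPR) (hΩnorm K hKR)
        intro x hx
        rw [Subgroup.mem_centralizer_iff]
        intro k hk
        apply centralizes_of_centralizes_omega p hp2 R hR k (hKR hk)
          (orderOf_coprime_of_mem p K hK k hk) _ x hx
        intro x' hx' hx'p
        have : x' ∈ Ω := by
          rw [hΩdef]
          exact Subgroup.subset_closure ⟨hx', hx'p⟩
        exact (Subgroup.mem_centralizer_iff.mp (h1 this)) k hk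
      have hcommR : ∀ x ∈ R, ∀ y ∈ R, ⁅x, y⁆ ∈ R := by
        intro x hx y hy
        exact hder.le (Subgroup.commutator_mem_commutator hx hy)
      have hcl : ∀ x ∈ R, ∀ y ∈ R, ∀ z ∈ R, ⁅x, y⁆ * z = z * ⁅x, y⁆ := by
        intro x hx y hy z hz
        exact hcen _ (hcommR x hx y hy) (hcomm x hx y hy) z hz
      have hexp : ∀ x ∈ R, x ^ p = 1 := by
        apply pow_prime_eq_one_of_closure p hp hp2 R hcl
        rw [← hΩdef, hΩR]
      by_contra hne
      obtain ⟨y, hyR, hyP, hyK⟩ :=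
        exists_fixed_outside p hp2 R P K hR hP hK hPR hKR hPK hcen hcomm hne
      exact hyK (hPRK ⟨hΩ y hyR (hexp y hyR) hyP, hyR⟩)
    · -- the case `[R, P] ≤ Z(R)`
      by_cases hab : ∀ x ∈ R, ∀ y ∈ R, x * y = y * x
      · -- `R` abelian
        have : IsMulCommutative R := ⟨⟨fun a b => Subtype.ext (hab a a.2 b b.2)⟩⟩
        have hcop : (Nat.card K).Coprime (Nat.card R) := by
          obtain ⟨j, hj⟩ := (IsPGroup.iff_card).mp hR
          rw [hj]
          exact Nat.Coprime.pow_right j hK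
        have h55 := (Cfsg.Agent.S0055.result K R hKR hcop).1
        rw [hR₂] at h55
        have h55' : R ⊓ Subgroup.centralizer (K : Set G) = ⊥ := by
          rw [← h55]
          apply le_antisymm
          · exact le_inf (le_inf inf_le_left inf_le_right) inf_le_left
          · exact inf_le_left
        -- a nontrivial fixed point of `P`
        have hne : ¬ R ≤ (⊥ : Subgroup G) := fun h => hRbot (le_bot_iff.mp h)
        obtain ⟨x, hxR, hx1, hxP⟩ := exists_fixed_mod p R P ⊥ hR hP hPR hne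
        exfalso
        apply hx1
        have hxfix : ∀ a ∈ P, a * x = x * a := by
          intro a ha
          have := hxP a ha
          rw [Subgroup.mem_bot, commutatorElement_eq_one_iff_mul_comm] at this
          exact this.symm
        have hxP' : x ∈ P := hfull x hxR hxfix
        have hxK := hPRK ⟨hxP', hxR⟩
        have : x ∈ R ⊓ Subgroup.centralizer (K : Set G) := ⟨hxR, hxK⟩
        rw [h55'] at this
        exact this
      · -- `R` nonabelian: the centre is proper
        obtain ⟨Z, hZ⟩ : ∃ Z : Subgroup G, Z = R ⊓ Subgroup.centralizer (R : Set G) := ⟨_, rfl⟩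
        have hZle : Z ≤ R := hZ ▸ inf_le_left
        have hZne : Z ≠ R := by
          intro h
          apply hab
          intro x hx y hy
          have hxZ : x ∈ Z := h ▸ hx
          rw [hZ] at hxZ
          exact ((Subgroup.mem_centralizer_iff.mp hxZ.2) y hy).symm
        have hZnorm : ∀ H : Subgroup G, H ≤ Subgroup.normalizer (R : Set G) →
            H ≤ Subgroup.normalizer (Z : Set G) := by
          intro H hH h hh
          rw [Subgroup.mem_normalizer_iff]
          intro z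
          have key : ∀ (g : G), g ∈ Subgroup.normalizer (R : Set G) → ∀ w ∈ Z, g * w * g⁻¹ ∈ Z := by
            intro g hg w hw
            rw [hZ] at hw ⊢
            refine ⟨(Subgroup.mem_normalizer_iff.mp hg w).mp hw.1, ?_⟩
            show g * w * g⁻¹ ∈ Subgroup.centralizer (R : Set G)
            rw [Subgroup.mem_centralizer_iff]
            intro y hy
            have hy' : g⁻¹ * y * g ∈ R := (Subgroup.mem_normalizer_iff''.mp hg y).mp hy
            have h1 := (Subgroup.mem_centralizer_iff.mp hw.2) _ hy'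
            calc y * (g * w * g⁻¹) = g * ((g⁻¹ * y * g) * w) * g⁻¹ := by group
              _ = g * (w * (g⁻¹ * y * g)) * g⁻¹ := by rw [h1]
              _ = g * w * g⁻¹ * y := by group
          constructor
          · intro hz
            exact key h (hH hh) z hz
          · intro hz
            have := key h⁻¹ (Subgroup.inv_mem _ (hH hh)) _ hz
            have e : h⁻¹ * (h * z * h⁻¹) * h⁻¹⁻¹ = z := by group
            rwa [e] at this
        have hZK := sub Z hZle hZne (hZnorm P hPR) (hZnorm K hKR)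
        have hPcent := centralizes_of_class_two p R P K hR hK hPR hKR hPK hR₂.ge hcl2
          (by
            intro z hz hzc k hk
            have hzZ : z ∈ Z := by
              rw [hZ]
              refine ⟨hz, Subgroup.mem_centralizer_iff.mpr ?_⟩
              intro y hy
              exact (hzc y hy).symm
            exact (Subgroup.mem_centralizer_iff.mp (hZK hzZ)) k hk)
        intro x hx
        have hxP : x ∈ P := hfull x hx (fun a ha => hPcent a ha x hx)
        exact hPRK ⟨hxP, hx⟩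

end Cfsg.Agent.Lib.Helper11
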