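import Mathlib
import Cfsg.Prelude.Def_Local
import Cfsg.Prelude.Def_CaseTheorems
import Cfsg.Agent.Lib.Helper11.PKClaim
import Cfsg.Agent.Lib.helper17.SylowNormal
import Cfsg.Agent.Lib.Helper5.PConstr
import Cfsg.Agent.Lib.Helper18.PPrimeCore

set_option autoImplicit false
open scoped commutatorElement

namespace Cfsg.Agent.Lib.Helper11

theorem le_normalizer_inf' {X : Type*} [Group X] {A H K : Subgroup X}
    (hH : A ≤ Subgroup.normalizer (H : Set X)) (hK : A ≤ Subgroup.normalizer (K : Set X)) :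
    A ≤ Subgroup.normalizer ((H ⊓ K : Subgroup X) : Set X) := by
  intro a ha
  rw [Subgroup.mem_normalizer_iff]
  intro x
  have h1 := Subgroup.mem_normalizer_iff.mp (hH ha) x
  have h2 := Subgroup.mem_normalizer_iff.mp (hK ha) x
  exact ⟨fun h => ⟨h1.mp h.1, h2.mp h.2⟩, fun h => ⟨h1.mpr h.1, h2.mpr h.2⟩⟩

theorem le_normalizer_sup' {X : Type*} [Group X] {A H K : Subgroup X}
    (hH : A ≤ Subgroup.normalizer (H : Set X)) (hK : A ≤ Subgroup.normalizer (K : Set X)) :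
    A ≤ Subgroup.normalizer ((H ⊔ K : Subgroup X) : Set X) := by
  intro a ha
  rw [Subgroup.mem_normalizer_iff_map_conj_eq, Subgroup.map_sup,
    Subgroup.mem_normalizer_iff_map_conj_eq.mp (hH ha),
    Subgroup.mem_normalizer_iff_map_conj_eq.mp (hK ha)]

/-- **Invariant `p'`-subgroups of a `p`-constrained group lie in `O_{p'}`.** -/
theorem inv_le_pPrimeCore {X : Type*} [Group X] [Finite X] (p : ℕ) [Fact p.Prime]
    (hX : Cfsg.IsPConstrained p X) (A Q : Subgroup X) (hAp : IsPGroup p A)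
    (hQ : (Nat.card Q).Coprime p) (hAQ : A ≤ Subgroup.normalizer (Q : Set X))
    (hyp : (p ≠ 2 ∧ ∀ x ∈ Subgroup.centralizer (A : Set X), x ^ p = 1 → x ∈ A) ∨
      ((∀ x ∈ Subgroup.centralizer (A : Set X), IsPGroup p (Subgroup.zpowers x) → x ∈ A) ∧
        ∀ T : Subgroup X, IsPGroup p T → ∀ x ∈ T, ∀ y ∈ T, ∀ z ∈ T, ⁅x, y⁆ * z = z * ⁅x, y⁆)) :
    Q ≤ Cfsg.pPrimeCore p X := by
  have hp : p.Prime := Fact.out
  obtain ⟨N, hN⟩ : ∃ N : Subgroup X, N = Cfsg.pPrimeCore p X := ⟨_, rfl⟩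
  have hNn : N.Normal := hN ▸ Cfsg.pPrimeCore_normal p X
  have hNcop : (Nat.card N).Coprime p := hN ▸ Cfsg.Agent.Lib.Helper18.pPrimeCore_card_coprime_h18 p
  have hMn : (Cfsg.pPrimePCore p X).Normal := Cfsg.Agent.Lib.Helper5.h5_pPrimePCore_normal p X
  obtain ⟨T₀, hAT⟩ := hAp.exists_le_sylow
  obtain ⟨S₀, hS₀⟩ : ∃ S₀ : Sylow p ↥(Cfsg.pPrimePCore p X),
      S₀ = Cfsg.Agent.Lib.helper17.sylowInfNormal T₀ (Cfsg.pPrimePCore p X) := ⟨_, rfl⟩
  obtain ⟨S, hS⟩ : ∃ S : Subgroup X, S = (T₀ : Subgroup X) ⊓ Cfsg.pPrimePCore p X := ⟨_, rfl⟩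
  have hS₀map : (S₀ : Subgroup ↥(Cfsg.pPrimePCore p X)).map (Cfsg.pPrimePCore p X).subtype = S := by
    rw [hS₀, hS]
    exact Cfsg.Agent.Lib.helper17.sylowInfNormal_map T₀ (Cfsg.pPrimePCore p X)
  have hcS : Subgroup.centralizer (S : Set X) ≤ Cfsg.pPrimePCore p X := by
    have := hX S₀
    rwa [hS₀map] at this
  have hST : S ≤ T₀ := hS ▸ inf_le_left
  have hSp : IsPGroup p S := T₀.isPGroup'.to_le hST
  have hnormal_le : ∀ (H B : Subgroup X), H.Normal → B ≤ Subgroup.normalizer (H : Set X) := by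
    intro H B hH
    rw [Subgroup.normalizer_eq_top_iff.mpr hH]
    exact le_top
  have hAS : A ≤ Subgroup.normalizer (S : Set X) := by
    rw [hS]
    apply le_normalizer_inf'
    · exact hAT.trans Subgroup.le_normalizer
    · exact hnormal_le _ _ hMn
  -- the enlarged `p'`-group
  obtain ⟨K', hK'⟩ : ∃ K' : Subgroup X, K' = Q ⊔ N := ⟨_, rfl⟩
  have hK'cop : (Nat.card K').Coprime p := by
    rw [hK']
    exact Nat.Coprime.coprime_dvd_left (Cfsg.Agent.Lib.Helper18.card_sup_dvd_mul_h18 Q N)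
      (Nat.Coprime.mul_left hQ hNcop)
  have hAK' : A ≤ Subgroup.normalizer (K' : Set X) := by
    rw [hK']
    exact le_normalizer_sup' hAQ (hnormal_le _ _ hNn)
  obtain ⟨K₁, hK₁⟩ : ∃ K₁ : Subgroup X, K₁ = K' ⊓ Subgroup.normalizer (S : Set X) := ⟨_, rfl⟩
  have hK₁S : K₁ ≤ Subgroup.normalizer (S : Set X) := hK₁ ▸ inf_le_right
  have hK₁cop : (Nat.card K₁).Coprime p :=
    Nat.Coprime.coprime_dvd_left (Subgroup.card_dvd_of_le (hK₁ ▸ inf_le_left)) hK'cop
  have hAK₁ : A ≤ Subgroup.normalizer (K₁ : Set X) := by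
    rw [hK₁]
    exact le_normalizer_inf' hAK' (hAS.trans Subgroup.le_normalizer)
  have hPK : PKHyp p S A := by
    rcases hyp with ⟨hp2, h⟩ | ⟨h, hcls⟩
    · refine Or.inl ⟨hp2, ?_⟩
      intro x _ hxp hxa
      exact h x (Subgroup.mem_centralizer_iff.mpr hxa) hxp
    · refine Or.inr ⟨?_, ?_⟩
      · intro x hx hxa
        apply h x (Subgroup.mem_centralizer_iff.mpr hxa)
        exact hSp.to_le (Subgroup.zpowers_le.mpr hx)
      · intro x hx a ha y hy
        exact hcls T₀ T₀.isPGroup' x (hST hx) a (hAT ha) y (hST hy)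
  have hSK₁ := pk_centralizes p A K₁ hAp hK₁cop hAK₁ (Nat.card S) S rfl hSp hAS hK₁S hPK
  have hK₁M : K₁ ≤ Cfsg.pPrimePCore p X := by
    refine le_trans ?_ hcS
    intro k hk
    rw [Subgroup.mem_centralizer_iff]
    intro s hs
    exact ((Subgroup.mem_centralizer_iff.mp (hSK₁ hs)) k hk).symm
  -- `p'`-elements of `O_{p',p}` lie in `O_{p'}`
  have hpN : ∀ k ∈ Cfsg.pPrimePCore p X, (orderOf k).Coprime p → k ∈ N := by
    intro k hk hko
    rw [Cfsg.Agent.Lib.Helper5.h5_mem_pPrimePCore_iff] at hk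
    have hpc : IsPGroup p (Cfsg.pCore p (X ⧸ Cfsg.pPrimeCore p X)) :=
      Cfsg.Agent.Lib.Helper1.pCore_isPGroup p
    obtain ⟨j, hj⟩ := hpc ⟨_, hk⟩
    have hj' : (QuotientGroup.mk' (Cfsg.pPrimeCore p X) k) ^ p ^ j = 1 := by
      have := congrArg Subtype.val hj
      simpa using this
    have h1 : orderOf (QuotientGroup.mk' (Cfsg.pPrimeCore p X) k) ∣ p ^ j :=
      orderOf_dvd_of_pow_eq_one hj'
    have h2 : orderOf (QuotientGroup.mk' (Cfsg.pPrimeCore p X) k) ∣ orderOf k :=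
      orderOf_map_dvd _ k
    have h3 : orderOf (QuotientGroup.mk' (Cfsg.pPrimeCore p X) k) = 1 :=
      Nat.eq_one_of_dvd_coprimes (Nat.Coprime.pow_right j hko) h2 h1
    rw [orderOf_eq_one_iff] at h3
    rw [hN]
    exact (QuotientGroup.eq_one_iff k).mp h3
  have hK₁N : K₁ ≤ N := by
    intro k hk
    exact hpN k (hK₁M hk) (orderOf_coprime_of_mem p K₁ hK₁cop k hk)
  -- Frattini
  have hfrat := Sylow.normalizer_sup_eq_top S₀
  rw [hS₀map] at hfrat
  have hK'N : K' ≤ N := by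
    intro k hk
    have hk' : k ∈ ((Subgroup.normalizer (S : Set X) ⊔ Cfsg.pPrimePCore p X : Subgroup X) : Set X) := by
      rw [hfrat]; trivial
    rw [Subgroup.mul_normal] at hk'
    obtain ⟨n, hn, m, hm, hnm⟩ := hk'
    have hnm' : n * m = k := hnm
    subst hnm'
    -- write `m = s * ν`
    have himg := Cfsg.Agent.Lib.Helper5.h5_sylow_pPrimePCore_map S₀
    rw [hS₀map] at himg
    have hm' : QuotientGroup.mk' (Cfsg.pPrimeCore p X) m ∈ Cfsg.pCore p (X ⧸ Cfsg.pPrimeCore p X) :=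
      (Cfsg.Agent.Lib.Helper5.h5_mem_pPrimePCore_iff m).mp hm
    rw [← himg] at hm'
    obtain ⟨s, hs, hsm⟩ := hm'
    have hν : s⁻¹ * m ∈ N := by
      rw [hN, ← QuotientGroup.eq_one_iff]
      have : (QuotientGroup.mk' (Cfsg.pPrimeCore p X)) (s⁻¹ * m) =
          ((QuotientGroup.mk' (Cfsg.pPrimeCore p X)) s)⁻¹ * (QuotientGroup.mk' (Cfsg.pPrimeCore p X)) m := by
        rw [map_mul, map_inv]
      rw [show ((s⁻¹ * m : X) : X ⧸ Cfsg.pPrimeCore p X) = (QuotientGroup.mk' (Cfsg.pPrimeCore p X)) (s⁻¹ * m) from rfl,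
        this, hsm, inv_mul_cancel]
    have hNK' : N ≤ K' := hK' ▸ le_sup_right
    have hns : n * s ∈ K₁ := by
      rw [hK₁]
      refine ⟨?_, Subgroup.mul_mem _ hn (Subgroup.le_normalizer hs)⟩
      have : n * s = (n * m) * (s⁻¹ * m)⁻¹ := by group
      rw [this]
      exact K'.mul_mem hk (K'.inv_mem (hNK' hν))
    have : n * m = (n * s) * (s⁻¹ * m) := by group
    rw [this]
    exact N.mul_mem (hK₁N hns) hν
  rw [← hN]
  exact le_trans (hK' ▸ le_sup_left) hK'N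

end Cfsg.Agent.Lib.Helper11
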