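import Mathlib
import Cfsg.Prelude.Def_OddOrderLocal
import Cfsg.Agent.Lib.Helper18.PPrimeCore

set_option autoImplicit false

namespace Cfsg.Agent.Lib.Helper11

/-- all prime divisors of `n` lie in `π` -/
def PiNum (π : Set ℕ) (n : ℕ) : Prop := ∀ r : ℕ, r.Prime → r ∣ n → r ∈ π

theorem PiNum.of_dvd {π : Set ℕ} {m n : ℕ} (h : PiNum π n) (hd : m ∣ n) : PiNum π m :=
  fun r hr hrm => h r hr (hrm.trans hd)

theorem PiNum.mul {π : Set ℕ} {m n : ℕ} (hm : PiNum π m) (hn : PiNum π n) : PiNum π (m * n) := by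
  intro r hr hd
  rcases (Nat.Prime.dvd_mul hr).mp hd with h | h
  · exact hm r hr h
  · exact hn r hr h

theorem PiNum.one (π : Set ℕ) : PiNum π 1 := by
  intro r hr hd
  exact absurd (Nat.dvd_one.mp hd) hr.one_lt.ne'

variable {G : Type*} [Group G]

theorem sSup_normal_piNum [Finite G] (π : Set ℕ) (S : Set (Subgroup G))
    (hS : ∀ N ∈ S, N.Normal ∧ PiNum π (Nat.card N)) :
    (sSup S).Normal ∧ PiNum π (Nat.card (sSup S : Subgroup G)) := by
  have hfin : S.Finite := Set.toFinite S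
  induction S, hfin using Set.Finite.induction_on with
  | empty =>
    rw [sSup_empty]
    refine ⟨Subgroup.normal_bot, ?_⟩
    rw [Subgroup.card_bot]
    exact PiNum.one π
  | @insert a s ha hs ih =>
    rw [sSup_insert]
    have h1 := hS a (Set.mem_insert a s)
    have h2 := ih (fun N hN => hS N (Set.mem_insert_of_mem a hN))
    have := h1.1
    have := h2.1
    refine ⟨Subgroup.sup_normal a (sSup s), ?_⟩
    exact (h1.2.mul h2.2).of_dvd (Cfsg.Agent.Lib.Helper18.card_sup_dvd_mul_h18 a (sSup s))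

theorem piCore_piNum [Finite G] (π : Set ℕ) : PiNum π (Nat.card (Cfsg.piCore π G)) :=
  (sSup_normal_piNum π _ (fun _ hN => hN)).2

theorem le_piCore {π : Set ℕ} {N : Subgroup G} (hN : N.Normal) (h : PiNum π (Nat.card N)) :
    N ≤ Cfsg.piCore π G :=
  le_sSup ⟨hN, h⟩

theorem piCore_eq_pPrimeCore [Finite G] (π : Set ℕ) (p : ℕ) (hp : p.Prime)
    (hπ : ∀ r : ℕ, r.Prime → (r ∈ π ↔ r ≠ p)) : Cfsg.piCore π G = Cfsg.pPrimeCore p G := by
  unfold Cfsg.piCore Cfsg.pPrimeCore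
  congr 1
  ext N
  simp only [Set.mem_setOf_eq]
  constructor
  · rintro ⟨h1, h2⟩
    refine ⟨h1, ?_⟩
    rw [Nat.coprime_comm, Nat.Prime.coprime_iff_not_dvd hp]
    intro hd
    exact (hπ p hp).mp (h2 p hp hd) rfl
  · rintro ⟨h1, h2⟩
    refine ⟨h1, ?_⟩
    intro r hr hd
    rw [hπ r hr]
    rintro rfl
    exact (Nat.Prime.coprime_iff_not_dvd hr).mp h2.symm hd

theorem piCoreOf_le (π : Set ℕ) (X : Subgroup G) : Cfsg.piCoreOf π X ≤ X := by
  unfold Cfsg.piCoreOf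
  exact Subgroup.map_subtype_le _

theorem piCoreOf_piNum [Finite G] (π : Set ℕ) (X : Subgroup G) :
    PiNum π (Nat.card (Cfsg.piCoreOf π X)) := by
  unfold Cfsg.piCoreOf
  rw [Subgroup.card_map_of_injective X.subtype_injective]
  exact piCore_piNum π

theorem le_normalizer_piCoreOf (π : Set ℕ) (X : Subgroup G) :
    X ≤ Subgroup.normalizer ((Cfsg.piCoreOf π X : Subgroup G) : Set G) := by
  have hnorm := Cfsg.piCore_normal π ↥X
  have key : ∀ (g : G) (hg : g ∈ X), ∀ x ∈ Cfsg.piCoreOf π X, g * x * g⁻¹ ∈ Cfsg.piCoreOf π X := by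
    rintro g hg _ ⟨y, hy, rfl⟩
    exact ⟨⟨g, hg⟩ * y * ⟨g, hg⟩⁻¹, hnorm.conj_mem y hy ⟨g, hg⟩, rfl⟩
  intro e he
  rw [Subgroup.mem_normalizer_iff]
  intro x
  constructor
  · exact key e he x
  · intro hx
    have := key e⁻¹ (X.inv_mem he) _ hx
    have e1 : e⁻¹ * (e * x * e⁻¹) * e⁻¹⁻¹ = x := by group
    rwa [e1] at this

/-- a `π`-subgroup of `Z` normalized by `Z` lies in `O_π(Z)` -/
theorem le_piCoreOf {π : Set ℕ} {W Z : Subgroup G} (hWZ : W ≤ Z)
    (hZW : Z ≤ Subgroup.normalizer (W : Set G)) (hW : PiNum π (Nat.card W)) :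
    W ≤ Cfsg.piCoreOf π Z := by
  have hn : (W.subgroupOf Z).Normal := Subgroup.normal_subgroupOf_of_le_normalizer hZW
  have hcard : Nat.card (W.subgroupOf Z) = Nat.card W :=
    Nat.card_congr (Subgroup.subgroupOfEquivOfLe hWZ).toEquiv
  have hle : W.subgroupOf Z ≤ Cfsg.piCore π ↥Z := le_piCore hn (hcard ▸ hW)
  intro w hw
  exact ⟨⟨w, hWZ hw⟩, hle (by rw [Subgroup.mem_subgroupOf]; exact hw), rfl⟩

end Cfsg.Agent.Lib.Helper11
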