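import Mathlib
import Cfsg.Prelude.Def_OddOrderLocal
import Cfsg.Agent.S1442
import Cfsg.Agent.Lib.Helper11.Coprime
import Cfsg.Agent.Lib.Helper11.PiCore
import Cfsg.Agent.Lib.Helper11.PConstrInv
import Cfsg.Agent.Lib.Lead.Coprime
import Cfsg.Agent.Lib.Helper1.Fitting
import Cfsg.Agent.Lib.Helper1.CFitting
import Cfsg.Agent.Lib.Helper9.GenFitting
import Cfsg.Agent.Lib.Helper9.FittingExtra
import Cfsg.Agent.Lib.Helper12.Local

set_option autoImplicit false

namespace Cfsg.Agent.Lib.Helper11.MaxLocA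

open Cfsg.Agent.Lib.Helper11

/-- Thompson's `A × B` lemma for subgroups of an ambient group -/
theorem axb {Γ : Type*} [Group Γ] [Finite Γ] (p : ℕ) [hp : Fact p.Prime] (P A B : Subgroup Γ)
    (hP : IsPGroup p P) (hB : IsPGroup p B) (hA : (Nat.card A).Coprime p)
    (hAP : A ≤ Subgroup.normalizer (P : Set Γ)) (hBP : B ≤ Subgroup.normalizer (P : Set Γ))
    (hAB : ∀ a ∈ A, ∀ b ∈ B, a * b = b * a)
    (hcent : ∀ x ∈ P, (∀ b ∈ B, b * x = x * b) → ∀ a ∈ A, a * x = x * a) :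
    ∀ a ∈ A, ∀ x ∈ P, a * x = x * a := by
  obtain ⟨T, hT⟩ : ∃ T : Subgroup Γ, T = P ⊔ B := ⟨_, rfl⟩
  have hTp : IsPGroup p T := by
    rw [hT]
    exact hP.to_sup_of_normal_left' hB hBP
  have hAB' : A ≤ Subgroup.normalizer (B : Set Γ) := by
    intro a ha
    rw [Subgroup.mem_normalizer_iff]
    intro b
    constructor
    · intro hb
      have : a * b * a⁻¹ = b := by rw [hAB a ha b hb, mul_inv_cancel_right]
      rw [this]; exact hb
    · intro hb
      have h1 := hAB a ha _ hb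
      have : b = a * b * a⁻¹ := by
        have h2 : a * (a * b * a⁻¹) = a * b * a⁻¹ * a := h1
        have h3 : a * b = a * b * a⁻¹ * a⁻¹⁻¹ := by simp
        have h4 : a * (a * b * a⁻¹) * a⁻¹ = a * b * a⁻¹ := by rw [h2]; group
        have h5 : a * (a * b * a⁻¹) * a⁻¹ = a * (a * b * a⁻¹ * a⁻¹) := by group
        have h6 : a * (a * b * a⁻¹ * a⁻¹) = a * (b * a⁻¹) := by rw [← h5, h4]; group
        have h7 := mul_left_cancel h6
        calc b = (b * a⁻¹) * a := by group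
          _ = (a * b * a⁻¹ * a⁻¹) * a := by rw [h7]
          _ = a * b * a⁻¹ := by group
      rw [this]; exact hb
  have hAT : A ≤ Subgroup.normalizer (T : Set Γ) := by
    rw [hT]
    exact le_normalizer_sup' hAP hAB'
  have hcop : (Nat.card A).Coprime (Nat.card T) := by
    obtain ⟨n, hn⟩ := IsPGroup.iff_card.mp hTp
    rw [hn]
    exact Nat.Coprime.pow_right n hA
  have hBT : B ≤ T := hT ▸ le_sup_right
  have hPT : P ≤ T := hT ▸ le_sup_left
  have key := Cfsg.Agent.S1442.result T A hTp.isNilpotent hAT hcop ?_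
  · intro a ha x hx
    have := key ha
    rw [Subgroup.mem_centralizer_iff] at this
    exact (this x (hPT hx)).symm
  · intro e he
    obtain ⟨heT, heC⟩ := Subgroup.mem_inf.mp he
    refine Subgroup.mem_inf.mpr ⟨heT, ?_⟩
    rw [Subgroup.mem_centralizer_iff]
    intro a ha
    change a ∈ A at ha
    rw [Subgroup.mem_centralizer_iff] at heC
    -- `e` commutes with `B`
    have heB : ∀ b ∈ B, b * e = e * b := by
      intro b hb
      apply heC
      refine Subgroup.mem_inf.mpr ⟨hBT hb, ?_⟩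
      rw [Subgroup.mem_centralizer_iff]
      intro a' ha'
      exact hAB a' ha' b hb
    have heT' : e ∈ ((P ⊔ B : Subgroup Γ) : Set Γ) := hT ▸ heT
    rw [Subgroup.coe_mul_of_right_le_normalizer_left P B hBP] at heT'
    obtain ⟨x, hx, b, hb, rfl⟩ := heT'
    have hx : x ∈ P := hx
    have hb : b ∈ B := hb
    obtain ⟨c, hc⟩ : ∃ c : Γ, c = b⁻¹ * (x⁻¹ * (a * x * a⁻¹)) * b := ⟨_, rfl⟩
    have haxa : a * x * a⁻¹ ∈ P := (Subgroup.mem_normalizer_iff.mp (hAP ha) x).mp hx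
    have hcP : c ∈ P := by
      rw [hc]
      have h1 : x⁻¹ * (a * x * a⁻¹) ∈ P := P.mul_mem (P.inv_mem hx) haxa
      have h2 := (Subgroup.mem_normalizer_iff.mp (hBP (B.inv_mem hb)) _).mp h1
      simpa using h2
    have hconj : a * (x * b) * a⁻¹ = (x * b) * c := by
      rw [hc]
      have h1 : a * b = b * a := hAB a ha b hb
      calc a * (x * b) * a⁻¹ = a * x * (a⁻¹ * a) * b * a⁻¹ := by group
        _ = a * x * a⁻¹ * (a * b) * a⁻¹ := by group
        _ = a * x * a⁻¹ * (b * a) * a⁻¹ := by rw [h1]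
        _ = x * b * (b⁻¹ * (x⁻¹ * (a * x * a⁻¹)) * b) := by group
    have hcB : ∀ b' ∈ B, b' * c = c * b' := by
      intro b' hb'
      have h1 : b' * (x * b) = (x * b) * b' := heB b' hb'
      have h2 : b' * (a * (x * b) * a⁻¹) = (a * (x * b) * a⁻¹) * b' := by
        have h3 : a * b' = b' * a := hAB a ha b' hb'
        have h4 : b' * a⁻¹ = a⁻¹ * b' := by
          have : a⁻¹ * (a * b') * a⁻¹ = a⁻¹ * (b' * a) * a⁻¹ := by rw [h3]
          simpa [mul_assoc] using this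
        calc b' * (a * (x * b) * a⁻¹) = (b' * a) * (x * b) * a⁻¹ := by group
          _ = (a * b') * (x * b) * a⁻¹ := by rw [h3]
          _ = a * (b' * (x * b)) * a⁻¹ := by group
          _ = a * ((x * b) * b') * a⁻¹ := by rw [h1]
          _ = a * (x * b) * (b' * a⁻¹) := by group
          _ = a * (x * b) * (a⁻¹ * b') := by rw [h4]
          _ = (a * (x * b) * a⁻¹) * b' := by group
      rw [hconj] at h2
      have h5 : (x * b) * (b' * c) = (x * b) * (c * b') := by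
        calc (x * b) * (b' * c) = ((x * b) * b') * c := by group
          _ = (b' * (x * b)) * c := by rw [h1]
          _ = b' * ((x * b) * c) := by group
          _ = (x * b) * c * b' := h2
          _ = (x * b) * (c * b') := by group
      exact mul_left_cancel h5
    have hac : a * c = c * a := hcent c hcP hcB a ha
    obtain ⟨k, hk⟩ := hP ⟨c, hcP⟩
    have hk' : c ^ p ^ k = 1 := by
      have := congrArg Subtype.val hk
      simpa using this
    have hoa : (orderOf a).Coprime (p ^ k) := by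
      apply Nat.Coprime.pow_right
      exact Nat.Coprime.coprime_dvd_left (Subgroup.orderOf_dvd_natCard A ha) hA
    have hc1 : c = 1 := eq_one_of_conj_eq_mul_of_coprime a (x * b) c hconj
      (by rw [hac, mul_inv_cancel_right]) (p ^ k) hk' hoa
    rw [hc1, mul_one] at hconj
    have hfin : x * b * a = a * (x * b) := by
      calc x * b * a = (a * (x * b) * a⁻¹) * a := by rw [hconj]
        _ = a * (x * b) := by group
    exact hfin.symm


/-- `O_σ(Γ / O_σ(Γ)) = 1` -/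
theorem piCore_quotient_eq_bot {Γ : Type*} [Group Γ] [Finite Γ] (σ : Set ℕ)
    (K : Subgroup Γ) [hKn : K.Normal] (hK : K = Cfsg.piCore σ Γ) :
    Cfsg.piCore σ (Γ ⧸ K) = ⊥ := by
  obtain ⟨Nb, hNb⟩ : ∃ Nb : Subgroup (Γ ⧸ K), Nb = Cfsg.piCore σ (Γ ⧸ K) := ⟨_, rfl⟩
  have hNbn : Nb.Normal := hNb ▸ Cfsg.piCore_normal σ (Γ ⧸ K)
  rw [← hNb]
  obtain ⟨N, hN⟩ : ∃ N : Subgroup Γ, N = Nb.comap (QuotientGroup.mk' K) := ⟨_, rfl⟩
  have hNn : N.Normal := hN ▸ Subgroup.Normal.comap hNbn _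
  have hKN : K ≤ N := by
    rw [hN]
    intro k hk
    rw [Subgroup.mem_comap]
    have : (QuotientGroup.mk' K) k = 1 := (QuotientGroup.eq_one_iff k).mpr hk
    rw [this]
    exact Nb.one_mem
  have hrel : K.relIndex N = Nat.card Nb := by
    have h1 : (⊥ : Subgroup (Γ ⧸ K)).comap (QuotientGroup.mk' K) = K := by
      ext x
      rw [Subgroup.mem_comap, Subgroup.mem_bot]
      exact QuotientGroup.eq_one_iff x
    have h2 : ((⊥ : Subgroup (Γ ⧸ K)).comap (QuotientGroup.mk' K)).relIndex N = Nat.card Nb := by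
      rw [Subgroup.relIndex_comap, hN,
        Subgroup.map_comap_eq_self_of_surjective (QuotientGroup.mk'_surjective K),
        Subgroup.relIndex_bot_left]
    rw [← h2]
    congr 1
    exact h1.symm
  have hcard : Nat.card K * Nat.card Nb = Nat.card N := by
    rw [← hrel]
    exact Cfsg.Agent.Lib.Helper18.card_mul_relIndex_of_le_h18 hKN
  have hpi : PiNum σ (Nat.card N) := by
    rw [← hcard]
    apply PiNum.mul
    · rw [hK]; exact piCore_piNum σ
    · rw [hNb]; exact piCore_piNum σ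
  have hNK : N ≤ K := by
    rw [hK]
    exact le_piCore hNn hpi
  rw [eq_bot_iff]
  intro x hx
  obtain ⟨g, rfl⟩ := QuotientGroup.mk'_surjective K x
  have hg : g ∈ N := by rw [hN]; exact hx
  rw [Subgroup.mem_bot]
  exact (QuotientGroup.eq_one_iff g).mpr (hNK hg)


/-- abstract form of the key step: an invariant `q`-subgroup lies in `O_σ` -/
theorem inv_le_piCore {Γ : Type*} [Group Γ] [Finite Γ] [hsolv : Group.IsSolvable Γ] (σ : Set ℕ)
    (Q : Subgroup Γ) (q : ℕ) [hq : Fact q.Prime] (hqσ : q ∈ σ) (hQ : IsPGroup q Q)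
    (hdata : ∀ p : ℕ, p.Prime → p ∉ σ → ∃ A B : Subgroup Γ,
        IsPGroup p B ∧ (Nat.card A).Coprime p ∧ (Nat.card A).Coprime q ∧
        (∀ a ∈ A, ∀ b ∈ B, a * b = b * a) ∧
        A ≤ Subgroup.normalizer (Q : Set Γ) ∧ Q ⊓ Subgroup.centralizer (A : Set Γ) = ⊥ ∧
        (∀ N : Subgroup Γ, N.Normal → Cfsg.piCore σ Γ ≤ N →
          (∀ x ∈ N, ∃ k : ℕ, x ^ p ^ k ∈ Cfsg.piCore σ Γ) →
           ∀ x ∈ N, (∀ b ∈ B, b * x = x * b) → ∀ a ∈ A, a * x = x * a)) :
    Q ≤ Cfsg.piCore σ Γ := by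
  classical
  have hKn : (Cfsg.piCore σ Γ).Normal := Cfsg.piCore_normal σ Γ
  obtain ⟨φ, hφ⟩ : ∃ φ : Γ →* Γ ⧸ Cfsg.piCore σ Γ, φ = QuotientGroup.mk' (Cfsg.piCore σ Γ) :=
    ⟨_, rfl⟩
  have hφs : Function.Surjective φ := hφ ▸ QuotientGroup.mk'_surjective _
  have hφk : ∀ x : Γ, φ x = 1 ↔ x ∈ Cfsg.piCore σ Γ := by
    intro x
    rw [hφ]
    exact QuotientGroup.eq_one_iff x
  have hbot := piCore_quotient_eq_bot σ (Cfsg.piCore σ Γ) rfl
  have hKpi : PiNum σ (Nat.card (Cfsg.piCore σ Γ)) := piCore_piNum σ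
  -- cores for primes in `σ` vanish
  have hcore_bot : ∀ p : ℕ, p.Prime → p ∈ σ → Cfsg.pCore p (Γ ⧸ Cfsg.piCore σ Γ) = ⊥ := by
    intro p hp hpσ
    have : Fact p.Prime := ⟨hp⟩
    have hle : Cfsg.pCore p (Γ ⧸ Cfsg.piCore σ Γ) ≤ Cfsg.piCore σ (Γ ⧸ Cfsg.piCore σ Γ) := by
      apply le_piCore (Cfsg.Agent.Lib.Helper1.pCore_normal p)
      intro r hr hrd
      obtain ⟨n, hn⟩ := IsPGroup.iff_card.mp
        (Cfsg.Agent.Lib.Helper1.pCore_isPGroup (G := Γ ⧸ Cfsg.piCore σ Γ) p)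
      rw [hn] at hrd
      have := (Nat.prime_dvd_prime_iff_eq hr hp).mp (hr.dvd_of_dvd_pow hrd)
      rw [this]; exact hpσ
    rw [hbot] at hle
    exact eq_bot_iff.mpr hle
  have hstep : ∀ p : ℕ, p.Prime → ∀ x ∈ Q,
      ∀ y ∈ Cfsg.pCore p (Γ ⧸ Cfsg.piCore σ Γ), φ x * y = y * φ x := by
    intro p hp
    have : Fact p.Prime := ⟨hp⟩
    by_cases hpσ : p ∈ σ
    · intro x _ y hy
      rw [hcore_bot p hp hpσ, Subgroup.mem_bot] at hy
      rw [hy]; simp
    · obtain ⟨Pb, hPb⟩ : ∃ Pb : Subgroup (Γ ⧸ Cfsg.piCore σ Γ), Pb = Cfsg.pCore p _ := ⟨_, rfl⟩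
      have hPbn : Pb.Normal := hPb ▸ Cfsg.Agent.Lib.Helper1.pCore_normal p
      have hPbp : IsPGroup p Pb := hPb ▸ Cfsg.Agent.Lib.Helper1.pCore_isPGroup p
      rw [← hPb]
      obtain ⟨A, B, hBp, hAp, hAq, hAB, hAQ, hQA, hN⟩ := hdata p hp hpσ
      obtain ⟨N, hNdef⟩ : ∃ N : Subgroup Γ, N = Pb.comap φ := ⟨_, rfl⟩
      have hNn : N.Normal := hNdef ▸ Subgroup.Normal.comap hPbn φ
      have hKN : Cfsg.piCore σ Γ ≤ N := by
        intro k hk
        rw [hNdef, Subgroup.mem_comap, (hφk k).mpr hk]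
        exact Pb.one_mem
      have hNp : ∀ x ∈ N, ∃ k : ℕ, x ^ p ^ k ∈ Cfsg.piCore σ Γ := by
        intro x hx
        rw [hNdef, Subgroup.mem_comap] at hx
        obtain ⟨k, hk⟩ := hPbp ⟨φ x, hx⟩
        refine ⟨k, ?_⟩
        rw [← hφk, map_pow]
        have := congrArg Subtype.val hk
        simpa using this
      have hcopBK : (Nat.card B).Coprime (Nat.card (Cfsg.piCore σ Γ)) := by
        obtain ⟨n, hn⟩ := IsPGroup.iff_card.mp hBp
        rw [hn]
        apply Nat.Coprime.pow_left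
        rw [Nat.Prime.coprime_iff_not_dvd hp]
        intro hd
        exact hpσ (hKpi p hp hd)
      -- the image of `A` centralizes `Pb`
      have hA_cent : ∀ a ∈ A, ∀ y ∈ Pb, φ a * y = y * φ a := by
        have hcopA : (Nat.card (A.map φ)).Coprime p :=
          Nat.Coprime.coprime_dvd_left (Subgroup.card_map_dvd A φ) hAp
        have hnorm : ∀ S : Subgroup (Γ ⧸ Cfsg.piCore σ Γ),
            S ≤ Subgroup.normalizer (Pb : Set (Γ ⧸ Cfsg.piCore σ Γ)) := by
          intro S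
          rw [Subgroup.normalizer_eq_top_iff.mpr hPbn]
          exact le_top
        have key := axb p Pb (A.map φ) (B.map φ) hPbp (hBp.map φ) hcopA (hnorm _) (hnorm _) ?_ ?_
        · intro a ha y hy
          exact key (φ a) ⟨a, ha, rfl⟩ y hy
        · rintro _ ⟨a, ha, rfl⟩ _ ⟨b, hb, rfl⟩
          rw [← map_mul, ← map_mul, hAB a ha b hb]
        · intro xb hxb hxbB
          obtain ⟨x, rfl⟩ := hφs xb
          have hxN : x ∈ N := by rw [hNdef]; exact hxb
          have hx : ∀ b ∈ B, x⁻¹ * (b * x * b⁻¹) ∈ Cfsg.piCore σ Γ := by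
            intro b hb
            rw [← hφk]
            have h1 := hxbB (φ b) ⟨b, hb, rfl⟩
            simp only [map_mul, map_inv]
            rw [h1]
            group
          obtain ⟨d, hd, hxd⟩ := Cfsg.Agent.Lib.Lead.coset_fixed B (Cfsg.piCore σ Γ)
            (by rw [Subgroup.normalizer_eq_top_iff.mpr hKn]; exact le_top) hcopBK
            (Or.inr inferInstance) x hx
          rw [Subgroup.mem_centralizer_iff] at hxd
          have hxdN : x * d ∈ N := N.mul_mem hxN (hKN hd)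
          have h2 := hN N hNn hKN hNp (x * d) hxdN (fun b hb => hxd b hb)
          rintro _ ⟨a, ha, rfl⟩
          have h3 := h2 a ha
          have h4 : φ (x * d) = φ x := by
            rw [map_mul, (hφk d).mpr hd, mul_one]
          rw [← h4, ← map_mul, ← map_mul, h3]
      -- `Q` maps into the centralizer
      intro x hxQ
      obtain ⟨Cb, hCb⟩ : ∃ Cb : Subgroup (Γ ⧸ Cfsg.piCore σ Γ),
          Cb = Subgroup.centralizer (Pb : Set (Γ ⧸ Cfsg.piCore σ Γ)) := ⟨_, rfl⟩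
      have hCbn : Cb.Normal := hCb ▸ Subgroup.normal_centralizer
      obtain ⟨Q₁, hQ₁⟩ : ∃ Q₁ : Subgroup Γ, Q₁ = Q ⊓ Cb.comap φ := ⟨_, rfl⟩
      have hcomapn : (Cb.comap φ).Normal := Subgroup.Normal.comap hCbn φ
      have hAQ₁ : A ≤ Subgroup.normalizer (Q₁ : Set Γ) := by
        rw [hQ₁]
        apply le_normalizer_inf' hAQ
        rw [Subgroup.normalizer_eq_top_iff.mpr hcomapn]
        exact le_top
      have hcopAQ₁ : (Nat.card A).Coprime (Nat.card Q₁) := by
        have h1 : Nat.card Q₁ ∣ Nat.card Q := Subgroup.card_dvd_of_le (hQ₁ ▸ inf_le_left)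
        obtain ⟨n, hn⟩ := IsPGroup.iff_card.mp hQ
        rw [hn] at h1
        exact Nat.Coprime.coprime_dvd_right h1 (Nat.Coprime.pow_right n hAq)
      have hAmem : ∀ a ∈ A, φ a ∈ Cb := by
        intro a ha
        rw [hCb, Subgroup.mem_centralizer_iff]
        intro y hy
        exact (hA_cent a ha y hy).symm
      have hx : ∀ a ∈ A, x⁻¹ * (a * x * a⁻¹) ∈ Q₁ := by
        intro a ha
        rw [hQ₁]
        refine Subgroup.mem_inf.mpr ⟨?_, ?_⟩
        · exact Q.mul_mem (Q.inv_mem hxQ) ((Subgroup.mem_normalizer_iff.mp (hAQ ha) x).mp hxQ)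
        · rw [Subgroup.mem_comap]
          have h1 : φ (x⁻¹ * (a * x * a⁻¹)) = ((φ x)⁻¹ * φ a * (φ x)⁻¹⁻¹) * (φ a)⁻¹ := by
            simp only [map_mul, map_inv]
            group
          rw [h1]
          exact Cb.mul_mem (hCbn.conj_mem _ (hAmem a ha) _) (Cb.inv_mem (hAmem a ha))
      obtain ⟨d, hd, hxd⟩ := Cfsg.Agent.Lib.Lead.coset_fixed A Q₁ hAQ₁ hcopAQ₁
        (Or.inr inferInstance) x hx
      have hdQ : d ∈ Q := (hQ₁ ▸ hd : d ∈ Q ⊓ Cb.comap φ).1
      have hxd1 : x * d ∈ Q ⊓ Subgroup.centralizer (A : Set Γ) :=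
        Subgroup.mem_inf.mpr ⟨Q.mul_mem hxQ hdQ, hxd⟩
      rw [hQA, Subgroup.mem_bot] at hxd1
      have hxeq : x = d⁻¹ := eq_inv_of_mul_eq_one_left hxd1
      have hxQ₁ : x ∈ Q₁ := hxeq ▸ Q₁.inv_mem hd
      have hxC : φ x ∈ Cb := (hQ₁ ▸ hxQ₁ : x ∈ Q ⊓ Cb.comap φ).2
      rw [hCb, Subgroup.mem_centralizer_iff] at hxC
      intro y hy
      exact (hxC y hy).symm
  -- the Fitting subgroup of the quotient
  have hFit : ∀ x ∈ Q, φ x ∈ Cfsg.fittingSubgroup (Γ ⧸ Cfsg.piCore σ Γ) := by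
    intro x hx
    apply Cfsg.Agent.Lib.Helper1.centralizer_fittingSubgroup_le
    rw [Subgroup.mem_centralizer_iff]
    intro y hy
    rw [Cfsg.Agent.Lib.Helper1.fittingSubgroup_eq_iSup_pCore] at hy
    have hle : (⨆ p : Nat.Primes, Cfsg.pCore (p : ℕ) (Γ ⧸ Cfsg.piCore σ Γ)) ≤
        Subgroup.centralizer ({φ x} : Set (Γ ⧸ Cfsg.piCore σ Γ)) := by
      apply iSup_le
      intro p y hy
      rw [Subgroup.mem_centralizer_singleton_iff]
      exact (hstep p p.2 x hx y hy).symm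
    have := hle hy
    rw [Subgroup.mem_centralizer_singleton_iff] at this
    exact this
  have hFpi : PiNum σᶜ (Nat.card (Cfsg.fittingSubgroup (Γ ⧸ Cfsg.piCore σ Γ))) := by
    rw [Cfsg.Agent.Lib.Helper1.fittingSubgroup_eq_iSup_pCore, iSup]
    apply (sSup_normal_piNum σᶜ _ _).2
    rintro _ ⟨p, rfl⟩
    have : Fact (p : ℕ).Prime := ⟨p.2⟩
    change (Cfsg.pCore (p : ℕ) (Γ ⧸ Cfsg.piCore σ Γ)).Normal ∧
      PiNum σᶜ (Nat.card (Cfsg.pCore (p : ℕ) (Γ ⧸ Cfsg.piCore σ Γ)))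
    refine ⟨Cfsg.Agent.Lib.Helper1.pCore_normal p, ?_⟩
    by_cases hpσ : (p : ℕ) ∈ σ
    · rw [hcore_bot p p.2 hpσ, Subgroup.card_bot]
      exact PiNum.one _
    · intro r hr hrd
      obtain ⟨n, hn⟩ := IsPGroup.iff_card.mp
        (Cfsg.Agent.Lib.Helper1.pCore_isPGroup (G := Γ ⧸ Cfsg.piCore σ Γ) p)
      rw [hn] at hrd
      have := (Nat.prime_dvd_prime_iff_eq hr p.2).mp (hr.dvd_of_dvd_pow hrd)
      rw [this]; exact hpσ
  intro x hx
  rw [← hφk]
  by_contra hne
  have h1 : orderOf (φ x) ∣ Nat.card (Cfsg.fittingSubgroup (Γ ⧸ Cfsg.piCore σ Γ)) :=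
    Subgroup.orderOf_dvd_natCard _ (hFit x hx)
  have h2 : orderOf (φ x) ∣ orderOf x := orderOf_map_dvd φ x
  obtain ⟨k, hk⟩ := hQ ⟨x, hx⟩
  have hk' : x ^ q ^ k = 1 := by
    have := congrArg Subtype.val hk
    simpa using this
  have h3 : orderOf (φ x) ∣ q ^ k := h2.trans (orderOf_dvd_of_pow_eq_one hk')
  obtain ⟨j, -, hj⟩ := (Nat.dvd_prime_pow hq.out).mp h3
  have hj0 : j ≠ 0 := by
    intro h0
    rw [h0, pow_zero, orderOf_eq_one_iff] at hj
    exact hne hj
  have h4 : q ∣ orderOf (φ x) := hj ▸ dvd_pow_self q hj0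
  exact hFpi q hq.out (h4.trans h1) hqσ


/-- the join of a solvable subgroup and a solvable subgroup normalizing it is solvable -/
theorem isSolvable_sup {G : Type*} [Group G] (R M : Subgroup G) (hR : Group.IsSolvable R)
    (hM : Group.IsSolvable M) (hMR : M ≤ Subgroup.normalizer (R : Set G)) :
    Group.IsSolvable ↥(R ⊔ M) := by
  have hRle : R ≤ R ⊔ M := le_sup_left
  have hMle : M ≤ R ⊔ M := le_sup_right
  have hn : (R.subgroupOf (R ⊔ M)).Normal :=
    Subgroup.normal_subgroupOf_of_le_normalizer (sup_le Subgroup.le_normalizer hMR)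
  rw [Group.isSolvable_iff_subgroup_quotient (R.subgroupOf (R ⊔ M))]
  constructor
  · exact Group.isSolvable_of_isSolvable_injective
      (f := (Subgroup.subgroupOfEquivOfLe hRle).toMonoidHom)
      (Subgroup.subgroupOfEquivOfLe hRle).injective
  · obtain ⟨f, hf⟩ : ∃ f : M →* ↥(R ⊔ M) ⧸ R.subgroupOf (R ⊔ M),
        f = (QuotientGroup.mk' _).comp (Subgroup.inclusion hMle) := ⟨_, rfl⟩
    apply Group.isSolvable_of_surjective (f := f)
    intro y
    obtain ⟨⟨g, hg⟩, rfl⟩ := QuotientGroup.mk'_surjective _ y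
    have hg' : g ∈ ((R ⊔ M : Subgroup G) : Set G) := hg
    rw [Subgroup.coe_mul_of_right_le_normalizer_left R M hMR] at hg'
    obtain ⟨r, hr, m, hm, hrm⟩ := hg'
    have hr : r ∈ R := hr
    have hm : m ∈ M := hm
    refine ⟨⟨m, hm⟩, ?_⟩
    rw [hf]
    simp only [MonoidHom.coe_comp, Function.comp_apply, QuotientGroup.mk'_apply]
    rw [QuotientGroup.eq, Subgroup.mem_subgroupOf]
    simp only [Subgroup.coe_mul, Subgroup.coe_inv, Subgroup.coe_inclusion]
    rw [← hrm]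
    have h1 : m⁻¹ * (r * m) = m⁻¹ * r * m⁻¹⁻¹ := by group
    rw [h1]
    exact (Subgroup.mem_normalizer_iff.mp (hMR (M.inv_mem hm)) r).mp hr

/-- a solvable subgroup of `C(F(Γ))` normalized by `C(F(Γ))` lies in `F(Γ)` -/
theorem solvable_le_fitting {Γ : Type*} [Group Γ] [Finite Γ] (S : Subgroup Γ)
    (hS : Group.IsSolvable S)
    (hSX : S ≤ Subgroup.centralizer (Cfsg.fittingSubgroup Γ : Set Γ))
    (hXS : Subgroup.centralizer (Cfsg.fittingSubgroup Γ : Set Γ) ≤
      Subgroup.normalizer (S : Set Γ)) :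
    S ≤ Cfsg.fittingSubgroup Γ := by
  have hFn : (Cfsg.fittingSubgroup Γ).Normal := Cfsg.Agent.Lib.Helper1.fittingSubgroup_normal
  obtain ⟨X, hX⟩ : ∃ X : Subgroup Γ, X = Subgroup.centralizer (Cfsg.fittingSubgroup Γ : Set Γ) :=
    ⟨_, rfl⟩
  have hXn : X.Normal := hX ▸ Subgroup.normal_centralizer
  rw [← hX] at hSX hXS
  -- the Fitting subgroup of `S`
  obtain ⟨T, hT⟩ : ∃ T : Subgroup Γ, T = (Cfsg.fittingSubgroup ↥S).map S.subtype := ⟨_, rfl⟩
  have hchar : (Cfsg.fittingSubgroup ↥S).Characteristic :=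
    Cfsg.Agent.Lib.Helper12.fittingSubgroup_characteristic _
  have hTS : T ≤ S := hT ▸ Subgroup.map_subtype_le _
  have hXT : X ≤ Subgroup.normalizer (T : Set Γ) := by
    rw [hT]
    exact Cfsg.Agent.Lib.Lead.le_normalizer_map_characteristic S X hXS _
  have hTnil : Group.IsNilpotent T := by
    rw [hT]
    have : Group.IsNilpotent (Cfsg.fittingSubgroup ↥S) :=
      Cfsg.Agent.Lib.Helper1.fittingSubgroup_nilpotent
    exact Group.nilpotent_of_mulEquiv
      ((Cfsg.fittingSubgroup ↥S).equivMapOfInjective S.subtype S.subtype_injective)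
  have hTF : T ≤ Cfsg.fittingSubgroup Γ :=
    Cfsg.Agent.Lib.Helper9.nilpotent_normal_in_normal_le_fitting X T (hTS.trans hSX) hXT hTnil
  -- `F(S)` is central in `S`
  have hcentral : Cfsg.fittingSubgroup ↥S ≤ Subgroup.center ↥S := by
    intro t ht
    rw [Subgroup.mem_center_iff]
    intro s
    apply Subtype.ext
    have htT : (t : Γ) ∈ T := hT ▸ ⟨t, ht, rfl⟩
    have h1 := hSX s.2
    rw [hX, Subgroup.mem_centralizer_iff] at h1
    have := h1 (t : Γ) (hTF htT)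
    simpa using this.symm
  have hcomm := Cfsg.Agent.Lib.Helper9.comm_of_solvable_of_fitting_le_center hS hcentral
  have hSnil : Group.IsNilpotent S := by
    have hc : IsMulCommutative S := ⟨⟨hcomm⟩⟩
    refine ⟨⟨1, ?_⟩⟩
    exact Subgroup.upperCentralSeries_one_eq_top_iff.mpr hc
  exact Cfsg.Agent.Lib.Helper9.nilpotent_normal_in_normal_le_fitting X S hSX hXS hSnil

end Cfsg.Agent.Lib.Helper11.MaxLocA
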