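import Mathlib

set_option autoImplicit false

namespace Cfsg.Agent.Lib.Helper11

variable {G : Type*} [Group G]

/-- the conjugate subgroup `c H c⁻¹` -/
def conjSub (c : G) (H : Subgroup G) : Subgroup G := H.map (MulAut.conj c).toMonoidHom

theorem mem_conjSub {c : G} {H : Subgroup G} {x : G} : x ∈ conjSub c H ↔ c⁻¹ * x * c ∈ H := by
  unfold conjSub
  constructor
  · rintro ⟨y, hy, rfl⟩
    simp only [MulEquiv.coe_toMonoidHom, MulAut.conj_apply]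
    have : c⁻¹ * (c * y * c⁻¹) * c = y := by group
    rwa [this]
  · intro h
    refine ⟨c⁻¹ * x * c, h, ?_⟩
    simp only [MulEquiv.coe_toMonoidHom, MulAut.conj_apply]
    group

theorem conj_mem_conjSub {c : G} {H : Subgroup G} {x : G} (hx : x ∈ H) : c * x * c⁻¹ ∈ conjSub c H := by
  rw [mem_conjSub]
  have : c⁻¹ * (c * x * c⁻¹) * c = x := by group
  rwa [this]

theorem conjSub_one (H : Subgroup G) : conjSub 1 H = H := by
  ext x; rw [mem_conjSub]; simp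

theorem conjSub_mul (c d : G) (H : Subgroup G) : conjSub (c * d) H = conjSub c (conjSub d H) := by
  ext x
  rw [mem_conjSub, mem_conjSub, mem_conjSub]
  have : (c * d)⁻¹ * x * (c * d) = d⁻¹ * (c⁻¹ * x * c) * d := by group
  rw [this]

theorem conjSub_mono {c : G} {H K : Subgroup G} (h : H ≤ K) : conjSub c H ≤ conjSub c K :=
  Subgroup.map_mono h

theorem conjSub_inf (c : G) (H K : Subgroup G) : conjSub c (H ⊓ K) = conjSub c H ⊓ conjSub c K := by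
  ext x
  simp only [mem_conjSub, Subgroup.mem_inf]

theorem conjSub_inv_conjSub (c : G) (H : Subgroup G) : conjSub c⁻¹ (conjSub c H) = H := by
  rw [← conjSub_mul, inv_mul_cancel, conjSub_one]

theorem conjSub_conjSub_inv (c : G) (H : Subgroup G) : conjSub c (conjSub c⁻¹ H) = H := by
  rw [← conjSub_mul, mul_inv_cancel, conjSub_one]

theorem card_conjSub (c : G) (H : Subgroup G) : Nat.card (conjSub c H) = Nat.card H :=
  Subgroup.card_map_of_injective (MulAut.conj c).injective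

theorem isPGroup_conjSub {q : ℕ} {H : Subgroup G} (h : IsPGroup q H) (c : G) :
    IsPGroup q (conjSub c H) := h.map _

theorem conjSub_eq_self_of_mem_normalizer {c : G} {H : Subgroup G}
    (hc : c ∈ Subgroup.normalizer (H : Set G)) : conjSub c H = H :=
  Subgroup.mem_normalizer_iff_map_conj_eq.mp hc

/-- conjugation by an element centralizing `A` preserves `A`-invariance -/
theorem le_normalizer_conjSub {A H : Subgroup G} (hAH : A ≤ Subgroup.normalizer (H : Set G))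
    {c : G} (hc : c ∈ Subgroup.centralizer (A : Set G)) :
    A ≤ Subgroup.normalizer ((conjSub c H : Subgroup G) : Set G) := by
  intro a ha
  rw [Subgroup.mem_normalizer_iff]
  have hca : a * c = c * a := (Subgroup.mem_centralizer_iff.mp hc a ha)
  have hca' : c⁻¹ * a = a * c⁻¹ := by
    calc c⁻¹ * a = c⁻¹ * (a * c) * c⁻¹ := by group
      _ = c⁻¹ * (c * a) * c⁻¹ := by rw [hca]
      _ = a * c⁻¹ := by group
  intro x
  rw [mem_conjSub, mem_conjSub]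
  have hca'' : a⁻¹ * c = c * a⁻¹ := by
    calc a⁻¹ * c = a⁻¹ * (c * a) * a⁻¹ := by group
      _ = a⁻¹ * (a * c) * a⁻¹ := by rw [hca]
      _ = c * a⁻¹ := by group
  have e : c⁻¹ * (a * x * a⁻¹) * c = a * (c⁻¹ * x * c) * a⁻¹ := by
    calc c⁻¹ * (a * x * a⁻¹) * c = (c⁻¹ * a) * x * (a⁻¹ * c) := by group
      _ = (a * c⁻¹) * x * (c * a⁻¹) := by rw [hca', hca'']
      _ = a * (c⁻¹ * x * c) * a⁻¹ := by group
  rw [e]
  exact Subgroup.mem_normalizer_iff.mp (hAH ha) _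

/-- maximal `A`-invariant `q`-subgroups -/
def IsMaxInv (A : Subgroup G) (q : ℕ) (Q : Subgroup G) : Prop :=
  IsPGroup q Q ∧ A ≤ Subgroup.normalizer (Q : Set G) ∧
    ∀ R : Subgroup G, IsPGroup q R → A ≤ Subgroup.normalizer (R : Set G) → Q ≤ R → R = Q

theorem exists_isMaxInv_ge [Finite G] (A : Subgroup G) (q : ℕ) (R : Subgroup G) (hR : IsPGroup q R)
    (hAR : A ≤ Subgroup.normalizer (R : Set G)) : ∃ Q, IsMaxInv A q Q ∧ R ≤ Q := by
  let 𝒮 : Set (Subgroup G) := {Q | IsPGroup q Q ∧ A ≤ Subgroup.normalizer (Q : Set G) ∧ R ≤ Q}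
  obtain ⟨Q, hQ, hmax⟩ := wellFounded_gt.has_min 𝒮 ⟨R, hR, hAR, le_rfl⟩
  refine ⟨Q, ⟨hQ.1, hQ.2.1, ?_⟩, hQ.2.2⟩
  intro R' hR' hAR' hle
  by_contra hne
  exact hmax R' ⟨hR', hAR', hQ.2.2.trans hle⟩ (lt_of_le_of_ne hle (Ne.symm hne))

theorem IsMaxInv.conj {A : Subgroup G} {q : ℕ} {Q : Subgroup G} (h : IsMaxInv A q Q) {c : G}
    (hc : c ∈ Subgroup.centralizer (A : Set G)) : IsMaxInv A q (conjSub c Q) := by
  refine ⟨isPGroup_conjSub h.1 c, le_normalizer_conjSub h.2.1 hc, ?_⟩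
  intro R hR hAR hle
  have h1 : Q ≤ conjSub c⁻¹ R := by
    have := conjSub_mono (c := c⁻¹) hle
    rwa [conjSub_inv_conjSub] at this
  have h2 := h.2.2 (conjSub c⁻¹ R) (isPGroup_conjSub hR _)
    (le_normalizer_conjSub hAR (Subgroup.inv_mem _ hc)) h1
  rw [← h2, conjSub_conjSub_inv]

/-- **The maximal intersection argument.** -/
theorem trans_engine [Finite G] (A C : Subgroup G) (q : ℕ)
    (hCA : C ≤ Subgroup.centralizer (A : Set G))
    (Pred : Subgroup G → Prop) (hPred : ∀ D D' : Subgroup G, D ≤ D' → Pred D → Pred D')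
    (link : ∀ Q₁ Q₂ : Subgroup G, IsMaxInv A q Q₁ → IsMaxInv A q Q₂ → Pred (Q₁ ⊓ Q₂) →
      Q₁ ⊓ Q₂ ≠ Q₁ → Q₁ ⊓ Q₂ ≠ Q₂ →
      ∃ (R : Subgroup G) (c : G), c ∈ C ∧ IsPGroup q R ∧ A ≤ Subgroup.normalizer (R : Set G) ∧
        Q₁ ⊓ Q₂ < R ⊓ Q₁ ∧ Q₁ ⊓ Q₂ < conjSub c R ⊓ Q₂) :
    ∀ Q₁ Q₂ : Subgroup G, IsMaxInv A q Q₁ → IsMaxInv A q Q₂ → Pred (Q₁ ⊓ Q₂) →
      ∃ c ∈ C, Q₂ = conjSub c Q₁ := by
  have key : ∀ (n : ℕ) (Q₁ Q₂ : Subgroup G), Nat.card G - Nat.card (Q₁ ⊓ Q₂ : Subgroup G) = n →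
      IsMaxInv A q Q₁ → IsMaxInv A q Q₂ → Pred (Q₁ ⊓ Q₂) → ∃ c ∈ C, Q₂ = conjSub c Q₁ := by
    intro n
    induction n using Nat.strong_induction_on with
    | _ n ih =>
      intro Q₁ Q₂ hn h₁ h₂ hP
      by_cases hD₁ : Q₁ ⊓ Q₂ = Q₁
      · have hle : Q₁ ≤ Q₂ := inf_eq_left.mp hD₁
        refine ⟨1, C.one_mem, ?_⟩
        rw [conjSub_one]
        exact h₁.2.2 Q₂ h₂.1 h₂.2.1 hle
      by_cases hD₂ : Q₁ ⊓ Q₂ = Q₂
      · have hle : Q₂ ≤ Q₁ := inf_eq_right.mp hD₂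
        refine ⟨1, C.one_mem, ?_⟩
        rw [conjSub_one]
        exact (h₂.2.2 Q₁ h₁.1 h₁.2.1 hle).symm
      obtain ⟨R, c, hcC, hRq, hAR, hlt₁, hlt₂⟩ := link Q₁ Q₂ h₁ h₂ hP hD₁ hD₂
      obtain ⟨Qs, hQs, hRQs⟩ := exists_isMaxInv_ge A q R hRq hAR
      have hcardlt : ∀ D' : Subgroup G, Q₁ ⊓ Q₂ < D' →
          Nat.card G - Nat.card D' < Nat.card G - Nat.card (Q₁ ⊓ Q₂ : Subgroup G) := by
        intro D' hlt
        have h1 : Nat.card (Q₁ ⊓ Q₂ : Subgroup G) < Nat.card D' := by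
          rcases (Subgroup.card_le_of_le hlt.le).lt_or_eq with h | h
          · exact h
          · exact absurd (Subgroup.eq_of_le_of_card_ge hlt.le h.ge) hlt.ne
        have h2 : Nat.card D' ≤ Nat.card G := Subgroup.card_le_card_group D'
        omega
      -- first comparison: `Qs` and `Q₁`
      have hlt₁' : Q₁ ⊓ Q₂ < Qs ⊓ Q₁ := lt_of_lt_of_le hlt₁ (inf_le_inf_right _ hRQs)
      obtain ⟨c₁, hc₁, e₁⟩ := ih _ (hn ▸ hcardlt _ hlt₁') Qs Q₁ rfl hQs h₁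
        (hPred _ _ hlt₁'.le hP)
      -- second comparison: `conjSub c Qs` and `Q₂`
      have hQs' : IsMaxInv A q (conjSub c Qs) := hQs.conj (hCA hcC)
      have hlt₂' : Q₁ ⊓ Q₂ < conjSub c Qs ⊓ Q₂ :=
        lt_of_lt_of_le hlt₂ (inf_le_inf_right _ (conjSub_mono hRQs))
      obtain ⟨c₂, hc₂, e₂⟩ := ih _ (hn ▸ hcardlt _ hlt₂') (conjSub c Qs) Q₂ rfl hQs' h₂
        (hPred _ _ hlt₂'.le hP)
      refine ⟨c₂ * c * c₁⁻¹, C.mul_mem (C.mul_mem hc₂ hcC) (C.inv_mem hc₁), ?_⟩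
      rw [e₂, conjSub_mul, conjSub_mul, e₁, conjSub_inv_conjSub]
  intro Q₁ Q₂ h₁ h₂ hP
  exact key _ Q₁ Q₂ rfl h₁ h₂ hP

end Cfsg.Agent.Lib.Helper11
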