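import Mathlib
import Cfsg.Prelude.Def_Local
import Cfsg.Prelude.Def_OddOrderLocal
import Cfsg.Agent.Lib.Helper11.PConstrInv
import Cfsg.Agent.Lib.Helper11.TransEngine
import Cfsg.Agent.S0024
import Cfsg.Agent.S0025
import Cfsg.Agent.S1282

set_option autoImplicit false
open scoped commutatorElement Pointwise

namespace Cfsg.Agent.Lib.Helper11

variable {G : Type*} [Group G] [Finite G]

/-- commutators are central in a group of class at most two -/
theorem commutator_central_of_class_le_two {S : Type*} [Group S] [hS : Group.IsNilpotent S]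
    (h : Group.nilpotencyClass S ≤ 2) (x y z : S) : ⁅x, y⁆ * z = z * ⁅x, y⁆ := by
  have h1 : Subgroup.lowerCentralSeries (⊤ : Subgroup S) 2 = ⊥ :=
    Subgroup.lowerCentralSeries_eq_bot_iff_nilpotencyClass_le.mpr h
  have h2 : ⁅⁅x, y⁆, z⁆ ∈ Subgroup.lowerCentralSeries (⊤ : Subgroup S) 2 := by
    rw [Subgroup.lowerCentralSeries_succ, Subgroup.lowerCentralSeries_succ,
      Subgroup.lowerCentralSeries_zero]
    exact Subgroup.commutator_mem_commutator
      (Subgroup.commutator_mem_commutator (Subgroup.mem_top x) (Subgroup.mem_top y))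
      (Subgroup.mem_top z)
  rw [h1, Subgroup.mem_bot, commutatorElement_eq_one_iff_mul_comm] at h2
  exact h2

/-- the `p'`-elements of `C_G(E)` lie in `O_{p'}(C_G(E))` when `E` is a central Sylow subgroup -/
theorem mem_piCoreOf_centralizer (p : ℕ) [Fact p.Prime] (E : Subgroup G) (hEp : IsPGroup p E)
    (hEc : ∀ a ∈ E, ∀ b ∈ E, a * b = b * a)
    (hEfull : ∀ x ∈ Subgroup.centralizer (E : Set G), IsPGroup p (Subgroup.zpowers x) → x ∈ E)
    (c : G) (hc : c ∈ Subgroup.centralizer (E : Set G)) (hco : (orderOf c).Coprime p) :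
    c ∈ Cfsg.piCoreOf (Cfsg.primesNotDvd p) (Subgroup.centralizer (E : Set G)) := by
  have hp : p.Prime := Fact.out
  obtain ⟨ZE, hZE⟩ : ∃ ZE : Subgroup G, ZE = Subgroup.centralizer (E : Set G) := ⟨_, rfl⟩
  rw [← hZE] at hc ⊢
  have hEZ : E ≤ ZE := by
    rw [hZE]
    intro e he
    rw [Subgroup.mem_centralizer_iff]
    intro b hb
    exact hEc b hb e he
  obtain ⟨Z, hZ⟩ : ∃ Z : Subgroup ZE, Z = E.subgroupOf ZE := ⟨_, rfl⟩
  have hZc : ∀ z ∈ Z, ∀ e : ZE, z * e = e * z := by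
    intro z hz e
    rw [hZ, Subgroup.mem_subgroupOf] at hz
    apply Subtype.ext
    have he : (e : G) ∈ Subgroup.centralizer (E : Set G) := hZE ▸ e.2
    exact (Subgroup.mem_centralizer_iff.mp he) _ hz
  have hZp : IsPGroup p Z := by
    rw [hZ]
    exact hEp.comap_subtype
  obtain ⟨S, hZS⟩ := hZp.exists_le_sylow
  have hSZ : (S : Subgroup ZE) ≤ Z := by
    intro s hs
    rw [hZ, Subgroup.mem_subgroupOf]
    apply hEfull
    · exact hZE ▸ s.2
    · obtain ⟨k, hk⟩ := S.isPGroup' ⟨s, hs⟩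
      have hk' : (s : G) ^ p ^ k = 1 := by
        have := congrArg Subtype.val (congrArg Subtype.val hk)
        simpa using this
      apply IsPGroup.of_card (n := (Nat.factorization (orderOf (s : G))) p)
      rw [Nat.card_zpowers]
      obtain ⟨j, _, hj⟩ := (Nat.dvd_prime_pow hp).mp (orderOf_dvd_of_pow_eq_one hk')
      rw [hj]
      simp [hp.factorization_pow]
  have hZS' : Z = (S : Subgroup ZE) := le_antisymm hZS hSZ
  have hcop : (Nat.card Z).Coprime Z.index := by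
    rw [hZS']
    exact S.card_coprime_index
  obtain ⟨D, hDchar, hD⟩ := Cfsg.Agent.Lib.Helper5.h5_central_hall_complement Z hZc hcop
  have hDn : D.Normal := inferInstance
  have hDcop : (Nat.card D).Coprime p := by
    have h1 := hD.card_mul_card
    have h2 := Z.card_mul_index
    have h3 : Nat.card D = Z.index := by
      rw [← h2] at h1
      exact Nat.eq_of_mul_eq_mul_left Nat.card_pos h1
    rw [h3, hZS', Nat.coprime_comm, Nat.Prime.coprime_iff_not_dvd hp]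
    exact S.not_dvd_index
  have hDle : D ≤ Cfsg.piCore (Cfsg.primesNotDvd p) ZE := by
    apply le_sSup
    refine ⟨hDn, ?_⟩
    intro r hr hrd
    refine ⟨hr, ?_⟩
    intro hrp
    have : r = p := (Nat.prime_dvd_prime_iff_eq hr hp).mp hrp
    subst this
    exact (Nat.Prime.coprime_iff_not_dvd hr).mp hDcop.symm hrd
  -- the element `c`
  have hmul : (Z : Set ZE) * (D : Set ZE) = Set.univ := (Subgroup.isComplement'_def.mp hD).mul_eq
  have hc' : (⟨c, hc⟩ : ZE) ∈ (Z : Set ZE) * (D : Set ZE) := by rw [hmul]; trivial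
  obtain ⟨z, hz, d, hd, hzd⟩ := hc'
  have hzd' : z * d = ⟨c, hc⟩ := hzd
  have hcomm : Commute z d := hZc z hz d
  have hoc : orderOf (⟨c, hc⟩ : ZE) = orderOf c := Subgroup.orderOf_mk c hc
  have hpow : (z * d) ^ orderOf c = 1 := by
    rw [hzd', ← hoc, pow_orderOf_eq_one]
  rw [hcomm.mul_pow] at hpow
  have hzD : z ^ orderOf c ∈ D := by
    have : z ^ orderOf c = (d ^ orderOf c)⁻¹ := eq_inv_of_mul_eq_one_left hpow
    rw [this]
    exact D.inv_mem (D.pow_mem hd _)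
  have hz1 : z ^ orderOf c = 1 := by
    have hdisj := hD.disjoint
    exact Subgroup.disjoint_def.mp hdisj (Z.pow_mem hz _) hzD
  have hz2 : z = 1 := by
    obtain ⟨k, hk⟩ := hZp ⟨z, hz⟩
    have hk' : z ^ p ^ k = 1 := by
      have := congrArg Subtype.val hk
      simpa using this
    have h1 : orderOf z ∣ orderOf c := orderOf_dvd_of_pow_eq_one hz1
    have h2 : orderOf z ∣ p ^ k := orderOf_dvd_of_pow_eq_one hk'
    have : orderOf z = 1 := Nat.eq_one_of_dvd_coprimes (Nat.Coprime.pow_right k hco) h1 h2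
    exact orderOf_eq_one_iff.mp this
  rw [hz2, one_mul] at hzd'
  unfold Cfsg.piCoreOf
  refine ⟨⟨c, hc⟩, hDle (hzd' ▸ hd), rfl⟩

/-- for `1 ≠ a ∈ E` there is an `E`-invariant `p'`-subgroup containing every `E`-invariant
`p'`-subgroup of `C_G(a)` -/
theorem exists_local_core (p : ℕ) [Fact p.Prime]
    (hloc : ∀ T : Subgroup G, IsPGroup p T → T ≠ ⊥ →
      Cfsg.IsPConstrained p ↥(Subgroup.normalizer (T : Set G)))
    (h2 : p = 2 → ∀ S : Sylow p G, Group.IsNilpotent (S : Subgroup G) ∧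
      Group.nilpotencyClass (S : Subgroup G) ≤ 2)
    (E : Subgroup G) (hEp : IsPGroup p E) (hEc : ∀ a ∈ E, ∀ b ∈ E, a * b = b * a)
    (hEfull : ∀ x ∈ Subgroup.centralizer (E : Set G), IsPGroup p (Subgroup.zpowers x) → x ∈ E)
    (a : G) (ha : a ∈ E) (ha1 : a ≠ 1) :
    ∃ M : Subgroup G, (Nat.card M).Coprime p ∧ E ≤ Subgroup.normalizer (M : Set G) ∧
      ∀ Q' : Subgroup G, Q' ≤ Subgroup.centralizer ({a} : Set G) → (Nat.card Q').Coprime p →
        E ≤ Subgroup.normalizer (Q' : Set G) → Q' ≤ M := by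
  have hp : p.Prime := Fact.out
  obtain ⟨H, hH⟩ : ∃ H : Subgroup G, H = Subgroup.normalizer ((Subgroup.zpowers a : Subgroup G) : Set G) :=
    ⟨_, rfl⟩
  have hzp : IsPGroup p (Subgroup.zpowers a) := hEp.to_le (Subgroup.zpowers_le.mpr ha)
  have hzne : Subgroup.zpowers a ≠ ⊥ := by
    intro h
    exact ha1 (Subgroup.zpowers_eq_bot.mp h)
  have hX : Cfsg.IsPConstrained p ↥H := hH ▸ hloc _ hzp hzne
  have hcentH : Subgroup.centralizer ({a} : Set G) ≤ H := by
    rw [hH]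
    intro x hx
    apply Subgroup.centralizer_le_normalizer
    rw [Subgroup.mem_centralizer_iff]
    intro h hh
    obtain ⟨k, rfl⟩ := Subgroup.mem_zpowers_iff.mp hh
    have hxa : a * x = x * a := (Subgroup.mem_centralizer_iff.mp hx) a rfl
    exact ((show Commute a x from hxa).zpow_left k).eq
  have hEH : E ≤ H := by
    refine le_trans ?_ hcentH
    intro e he
    rw [Subgroup.mem_centralizer_iff]
    intro b hb
    rw [Set.mem_singleton_iff] at hb
    subst hb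
    exact hEc b ha e he
  refine ⟨(Cfsg.pPrimeCore p ↥H).map H.subtype, ?_, ?_, ?_⟩
  · rw [Subgroup.card_map_of_injective H.subtype_injective]
    exact Cfsg.Agent.Lib.Helper18.pPrimeCore_card_coprime_h18 p
  · intro e he
    rw [Subgroup.mem_normalizer_iff]
    have hnorm := Cfsg.pPrimeCore_normal p ↥H
    have key : ∀ (g : G) (hg : g ∈ H), ∀ x ∈ (Cfsg.pPrimeCore p ↥H).map H.subtype,
        g * x * g⁻¹ ∈ (Cfsg.pPrimeCore p ↥H).map H.subtype := by
      rintro g hg _ ⟨y, hy, rfl⟩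
      refine ⟨⟨g, hg⟩ * y * ⟨g, hg⟩⁻¹, hnorm.conj_mem y hy ⟨g, hg⟩, rfl⟩
    intro x
    constructor
    · exact key e (hEH he) x
    · intro hx
      have := key e⁻¹ (H.inv_mem (hEH he)) _ hx
      have e1 : e⁻¹ * (e * x * e⁻¹) * e⁻¹⁻¹ = x := by group
      rwa [e1] at this
  · intro Q' hQa hQcop hEQ
    have hQH : Q' ≤ H := hQa.trans hcentH
    have hAp : IsPGroup p (E.subgroupOf H) := hEp.comap_subtype
    have hQ'' : (Nat.card (Q'.subgroupOf H)).Coprime p := by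
      rw [Nat.card_congr (Subgroup.subgroupOfEquivOfLe hQH).toEquiv]
      exact hQcop
    have hAQ : E.subgroupOf H ≤ Subgroup.normalizer ((Q'.subgroupOf H : Subgroup ↥H) : Set ↥H) := by
      intro e he
      rw [Subgroup.mem_subgroupOf] at he
      rw [Subgroup.mem_normalizer_iff]
      intro x
      rw [Subgroup.mem_subgroupOf, Subgroup.mem_subgroupOf]
      exact Subgroup.mem_normalizer_iff.mp (hEQ he) x
    have hfull' : ∀ x ∈ Subgroup.centralizer ((E.subgroupOf H : Subgroup ↥H) : Set ↥H),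
        IsPGroup p (Subgroup.zpowers x) → x ∈ E.subgroupOf H := by
      intro x hx hxp
      rw [Subgroup.mem_subgroupOf]
      apply hEfull
      · rw [Subgroup.mem_centralizer_iff]
        intro e he
        have := (Subgroup.mem_centralizer_iff.mp hx) ⟨e, hEH he⟩ (by
          rw [SetLike.mem_coe, Subgroup.mem_subgroupOf]; exact he)
        exact congrArg Subtype.val this
      · have : Subgroup.zpowers (x : G) = (Subgroup.zpowers x).map H.subtype := by
          rw [MonoidHom.map_zpowers]; rfl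
        rw [this]
        exact hxp.map _
    have hyp : (p ≠ 2 ∧ ∀ x ∈ Subgroup.centralizer ((E.subgroupOf H : Subgroup ↥H) : Set ↥H),
          x ^ p = 1 → x ∈ E.subgroupOf H) ∨
        ((∀ x ∈ Subgroup.centralizer ((E.subgroupOf H : Subgroup ↥H) : Set ↥H),
            IsPGroup p (Subgroup.zpowers x) → x ∈ E.subgroupOf H) ∧
          ∀ T : Subgroup ↥H, IsPGroup p T → ∀ x ∈ T, ∀ y ∈ T, ∀ z ∈ T,
            ⁅x, y⁆ * z = z * ⁅x, y⁆) := by
      by_cases hp2 : p = 2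
      · refine Or.inr ⟨hfull', ?_⟩
        intro T hT x hx y hy z hz
        have hTp : IsPGroup p (T.map H.subtype) := hT.map _
        obtain ⟨S, hS⟩ := hTp.exists_le_sylow
        obtain ⟨hSn, hScl⟩ := h2 hp2 S
        have hxS : (x : G) ∈ (S : Subgroup G) := hS ⟨x, hx, rfl⟩
        have hyS : (y : G) ∈ (S : Subgroup G) := hS ⟨y, hy, rfl⟩
        have hzS : (z : G) ∈ (S : Subgroup G) := hS ⟨z, hz, rfl⟩
        have := commutator_central_of_class_le_two hScl
          (⟨x, hxS⟩ : (S : Subgroup G)) ⟨y, hyS⟩ ⟨z, hzS⟩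
        have h3 := congrArg Subtype.val this
        apply Subtype.ext
        simpa [commutatorElement_def] using h3
      · refine Or.inl ⟨hp2, ?_⟩
        intro x hx hxp
        apply hfull' x hx
        apply IsPGroup.of_card (n := (Nat.factorization (orderOf x)) p)
        rw [Nat.card_zpowers]
        obtain ⟨j, _, hj⟩ := (Nat.dvd_prime_pow hp).mp
          (by rw [pow_one]; exact orderOf_dvd_of_pow_eq_one hxp : orderOf x ∣ p ^ 1)
        rw [hj]
        simp [hp.factorization_pow]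
    have hres := inv_le_pPrimeCore p hX (E.subgroupOf H) (Q'.subgroupOf H) hAp hQ'' hAQ hyp
    intro x hx
    exact ⟨⟨x, hQH hx⟩, hres (by rw [Subgroup.mem_subgroupOf]; exact hx), rfl⟩

theorem card_sup_dvd_of_le_normalizer' {U D : Subgroup G}
    (hUD : U ≤ Subgroup.normalizer (D : Set G)) :
    Nat.card (U ⊔ D : Subgroup G) ∣ Nat.card U * Nat.card D := by
  obtain ⟨J, hJ⟩ : ∃ J : Subgroup G, J = Subgroup.normalizer (D : Set G) := ⟨_, rfl⟩
  have hDJ : D ≤ J := hJ ▸ Subgroup.le_normalizer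
  have hUJ : U ≤ J := hJ ▸ hUD
  have hDn : (D.subgroupOf J).Normal := by
    rw [hJ]
    exact Subgroup.normal_in_normalizer
  have h1 := Cfsg.Agent.Lib.Helper18.card_sup_dvd_mul_h18 (U.subgroupOf J) (D.subgroupOf J)
  rw [← Subgroup.subgroupOf_sup hUJ hDJ,
    Nat.card_congr (Subgroup.subgroupOfEquivOfLe (sup_le hUJ hDJ)).toEquiv,
    Nat.card_congr (Subgroup.subgroupOfEquivOfLe hUJ).toEquiv,
    Nat.card_congr (Subgroup.subgroupOfEquivOfLe hDJ).toEquiv] at h1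
  exact h1

theorem coprime_of_isPGroup_ne {p q : ℕ} (hp : p.Prime) (hq : q.Prime) (hqp : q ≠ p)
    {Q : Subgroup G} (hQ : IsPGroup q Q) : (Nat.card Q).Coprime p := by
  have : Fact q.Prime := ⟨hq⟩
  obtain ⟨k, hk⟩ := (IsPGroup.iff_card).mp hQ
  rw [hk]
  exact Nat.Coprime.pow_left k ((Nat.coprime_primes hq hp).mpr hqp)

/-- the linking step of the transitivity theorem -/
theorem thompson_link (p : ℕ) [Fact p.Prime]
    (hloc : ∀ T : Subgroup G, IsPGroup p T → T ≠ ⊥ →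
      Cfsg.IsPConstrained p ↥(Subgroup.normalizer (T : Set G)))
    (h2 : p = 2 → ∀ S : Sylow p G, Group.IsNilpotent (S : Subgroup G) ∧
      Group.nilpotencyClass (S : Subgroup G) ≤ 2)
    (E : Subgroup G) (hEp : IsPGroup p E) (hEc : ∀ a ∈ E, ∀ b ∈ E, a * b = b * a)
    (hEfull : ∀ x ∈ Subgroup.centralizer (E : Set G), IsPGroup p (Subgroup.zpowers x) → x ∈ E)
    (A₀ : Subgroup G) (hA₀E : A₀ ≤ E) (hA₀ : Cfsg.IsElementaryAbelian p A₀)
    (hA₀3 : p ^ 3 ≤ Nat.card A₀)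
    (q : ℕ) [Fact q.Prime] (hqp : q ≠ p) (Q₁ Q₂ : Subgroup G)
    (h₁ : IsMaxInv E q Q₁) (h₂ : IsMaxInv E q Q₂) (hD₁ : Q₁ ⊓ Q₂ ≠ Q₁) (hD₂ : Q₁ ⊓ Q₂ ≠ Q₂) :
    ∃ (R : Subgroup G) (c : G),
      c ∈ Cfsg.piCoreOf (Cfsg.primesNotDvd p) (Subgroup.centralizer (E : Set G)) ∧
      IsPGroup q R ∧ E ≤ Subgroup.normalizer (R : Set G) ∧
      Q₁ ⊓ Q₂ < R ⊓ Q₁ ∧ Q₁ ⊓ Q₂ < conjSub c R ⊓ Q₂ := by
  have hp : p.Prime := Fact.out
  have hq : q.Prime := Fact.out
  obtain ⟨a, haA, ha1, hx₁, hx₂⟩ := Cfsg.Agent.S1282.result p A₀ hA₀ hA₀3 q hqp Q₁ Q₂ h₁.1 h₂.1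
    (hA₀E.trans h₁.2.1) (hA₀E.trans h₂.2.1) hD₁ hD₂
  have haE : a ∈ E := hA₀E haA
  obtain ⟨M, hMcop, hEM, hM⟩ := exists_local_core p hloc h2 E hEp hEc hEfull a haE ha1
  obtain ⟨D, hD⟩ : ∃ D : Subgroup G, D = Q₁ ⊓ Q₂ := ⟨_, rfl⟩
  rw [← hD] at hx₁ hx₂ ⊢
  have hED : E ≤ Subgroup.normalizer (D : Set G) := hD ▸ le_normalizer_inf' h₁.2.1 h₂.2.1
  obtain ⟨ND, hND⟩ : ∃ ND : Subgroup G, ND = Subgroup.normalizer (D : Set G) := ⟨_, rfl⟩
  rw [← hND] at hx₁ hx₂
  have hEND : E ≤ Subgroup.normalizer (ND : Set G) := hND ▸ hED.trans Subgroup.le_normalizer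
  obtain ⟨Ca, hCa⟩ : ∃ Ca : Subgroup G, Ca = Subgroup.centralizer ({a} : Set G) := ⟨_, rfl⟩
  rw [← hCa] at hx₁ hx₂
  have hECa' : E ≤ Ca := by
    rw [hCa]
    intro e he
    rw [Subgroup.mem_centralizer_iff]
    intro b hb
    rw [Set.mem_singleton_iff] at hb
    subst hb
    exact hEc b haE e he
  have hECa : E ≤ Subgroup.normalizer (Ca : Set G) := hECa'.trans Subgroup.le_normalizer
  have hDq : IsPGroup q D := h₁.1.to_le (hD ▸ inf_le_left)
  -- the two local pieces lie in `M`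
  have hpiece : ∀ Q : Subgroup G, IsPGroup q Q → E ≤ Subgroup.normalizer (Q : Set G) →
      ND ⊓ Q ⊓ Ca ≤ M := by
    intro Q hQq hEQ
    apply hM
    · rw [← hCa]; exact inf_le_right
    · exact coprime_of_isPGroup_ne hp hq hqp (hQq.to_le (inf_le_left.trans inf_le_right))
    · exact le_normalizer_inf' (le_normalizer_inf' hEND hEQ) hECa
  obtain ⟨U, hU⟩ : ∃ U : Subgroup G, U = M ⊓ ND := ⟨_, rfl⟩
  have hUD : U ≤ Subgroup.normalizer (D : Set G) := hU ▸ hND ▸ inf_le_right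
  have hUcop : (Nat.card U).Coprime p :=
    Nat.Coprime.coprime_dvd_left (Subgroup.card_dvd_of_le (hU ▸ inf_le_left)) hMcop
  have hEU : E ≤ Subgroup.normalizer (U : Set G) := hU ▸ le_normalizer_inf' hEM hEND
  obtain ⟨Y, hY⟩ : ∃ Y : Subgroup G, Y = U ⊔ D := ⟨_, rfl⟩
  have hYcop : (Nat.card Y).Coprime p := by
    rw [hY]
    exact Nat.Coprime.coprime_dvd_left (card_sup_dvd_of_le_normalizer' hUD)
      (Nat.Coprime.mul_left hUcop (coprime_of_isPGroup_ne hp hq hqp hDq))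
  have hEY : E ≤ Subgroup.normalizer (Y : Set G) := hY ▸ le_normalizer_sup' hEU hED
  have hDY : D ≤ Y := hY ▸ le_sup_right
  have hpieceY : ∀ Q : Subgroup G, IsPGroup q Q → E ≤ Subgroup.normalizer (Q : Set G) →
      ND ⊓ Q ⊓ Ca ≤ Y := by
    intro Q hQq hEQ
    refine le_trans ?_ (hY ▸ le_sup_left : U ≤ Y)
    rw [hU]
    exact le_inf (hpiece Q hQq hEQ) (inf_le_left.trans inf_le_left)
  have hcopEY : (Nat.card E).Coprime (Nat.card Y) := by
    obtain ⟨k, hk⟩ := (IsPGroup.iff_card).mp hEp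
    rw [hk]
    exact Nat.Coprime.pow_left k hYcop.symm
  have hsolv : Group.IsSolvable E ∨ Group.IsSolvable Y := by
    left
    have := hEp.isNilpotent
    infer_instance
  -- invariant Sylow subgroups of `Y` containing the two pieces
  have hV : ∀ Q : Subgroup G, IsMaxInv E q Q → D ≤ Q →
      ∃ P : Sylow q Y, D ⊔ (ND ⊓ Q ⊓ Ca) ≤ (P : Subgroup Y).map Y.subtype ∧
        E ≤ Subgroup.normalizer (((P : Subgroup Y).map Y.subtype : Subgroup G) : Set G) := by
    intro Q hQ hDQ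
    apply Cfsg.Agent.S0025.result E Y hEY hcopEY hsolv q
    · exact sup_le hDY (hpieceY Q hQ.1 hQ.2.1)
    · exact hQ.1.to_le (sup_le hDQ (inf_le_left.trans inf_le_right))
    · exact le_normalizer_sup' hED (le_normalizer_inf' (le_normalizer_inf' hEND hQ.2.1) hECa)
  obtain ⟨P₁, hP₁le, hP₁E⟩ := hV Q₁ h₁ (hD ▸ inf_le_left)
  obtain ⟨P₂, hP₂le, hP₂E⟩ := hV Q₂ h₂ (hD ▸ inf_le_right)
  obtain ⟨c, hcE, hc⟩ := Cfsg.Agent.S0024.result E Y hEY hcopEY hsolv q P₁ P₂ hP₁E hP₂E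
  have hmemP : ∀ y : Y, y ∈ (P₂ : Subgroup Y) ↔ c⁻¹ * y * c ∈ (P₁ : Subgroup Y) := by
    intro y
    rw [← hc, Sylow.pointwise_smul_def, Subgroup.mem_pointwise_smul_iff_inv_smul_mem]
    simp [MulAut.smul_def]
  have hconj : conjSub (c : G) ((P₁ : Subgroup Y).map Y.subtype) =
      (P₂ : Subgroup Y).map Y.subtype := by
    ext x
    rw [mem_conjSub]
    constructor
    · rintro ⟨y, hy, hyx⟩
      have hyx' : (y : G) = (c : G)⁻¹ * x * (c : G) := hyx
      have hxY : x ∈ Y := by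
        have : x = (c : G) * (y : G) * (c : G)⁻¹ := by
          rw [hyx']; group
        rw [this]
        exact Y.mul_mem (Y.mul_mem c.2 y.2) (Y.inv_mem c.2)
      refine ⟨⟨x, hxY⟩, ?_, rfl⟩
      rw [SetLike.mem_coe, hmemP]
      have : c⁻¹ * (⟨x, hxY⟩ : Y) * c = y := by
        apply Subtype.ext
        exact hyx'.symm
      rw [this]
      exact hy
    · rintro ⟨y, hy, rfl⟩
      rw [SetLike.mem_coe, hmemP] at hy
      exact ⟨c⁻¹ * y * c, hy, rfl⟩
  have hcC : (c : G) ∈ Cfsg.piCoreOf (Cfsg.primesNotDvd p) (Subgroup.centralizer (E : Set G)) := by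
    apply mem_piCoreOf_centralizer p E hEp hEc hEfull (c : G) hcE
    exact orderOf_coprime_of_mem p Y hYcop (c : G) c.2
  refine ⟨(P₁ : Subgroup Y).map Y.subtype, (c : G), hcC, P₁.isPGroup'.map _, hP₁E, ?_, ?_⟩
  · obtain ⟨x, hx, hxD⟩ := SetLike.not_le_iff_exists.mp hx₁
    refine lt_of_le_of_ne (le_inf (le_sup_left.trans hP₁le) (hD ▸ inf_le_left)) ?_
    intro heq
    apply hxD
    rw [heq]
    exact ⟨hP₁le (Subgroup.mem_sup_right hx), hx.1.2⟩
  · rw [hconj]
    obtain ⟨x, hx, hxD⟩ := SetLike.not_le_iff_exists.mp hx₂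
    refine lt_of_le_of_ne (le_inf (le_sup_left.trans hP₂le) (hD ▸ inf_le_right)) ?_
    intro heq
    apply hxD
    rw [heq]
    exact ⟨hP₂le (Subgroup.mem_sup_right hx), hx.1.2⟩

theorem mem_invSubgroups_iff (E : Subgroup G) (q : ℕ) [Fact q.Prime] (Y : Subgroup G) :
    Y ∈ Cfsg.invSubgroups ⊤ E {q} ↔ IsPGroup q Y ∧ E ≤ Subgroup.normalizer (Y : Set G) := by
  have hq : q.Prime := Fact.out
  unfold Cfsg.invSubgroups
  simp only [Set.mem_setOf_eq, le_top, true_and, Set.mem_singleton_iff]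
  constructor
  · rintro ⟨h1, h2⟩
    refine ⟨?_, h2⟩
    have hne : Nat.card Y ≠ 0 := Nat.card_pos.ne'
    have := Nat.eq_prime_pow_of_unique_prime_dvd hne (fun {d} hd hdvd => h1 d hd hdvd)
    exact IsPGroup.of_card this
  · rintro ⟨h1, h2⟩
    refine ⟨?_, h2⟩
    intro r hr hrd
    obtain ⟨k, hk⟩ := (IsPGroup.iff_card).mp h1
    rw [hk] at hrd
    exact (Nat.prime_dvd_prime_iff_eq hr hq).mp (hr.dvd_of_dvd_pow hrd)

theorem mem_maxInvSubgroups_iff (E : Subgroup G) (q : ℕ) [Fact q.Prime] (Q : Subgroup G) :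
    Q ∈ Cfsg.maxInvSubgroups ⊤ E {q} ↔ IsMaxInv E q Q := by
  unfold Cfsg.maxInvSubgroups IsMaxInv
  simp only [Set.mem_setOf_eq, mem_invSubgroups_iff]
  constructor
  · rintro ⟨⟨h1, h2⟩, h3⟩
    exact ⟨h1, h2, fun R hR hER hle => h3 R ⟨hR, hER⟩ hle⟩
  · rintro ⟨h1, h2, h3⟩
    exact ⟨⟨h1, h2⟩, fun R hR hle => h3 R hR.1 hR.2 hle⟩

/-- **Thompson's transitivity theorem** for groups whose `p`-locals are `p`-constrained. -/
theorem thompson_transitivity (p : ℕ) [Fact p.Prime]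
    (hloc : ∀ T : Subgroup G, IsPGroup p T → T ≠ ⊥ →
      Cfsg.IsPConstrained p ↥(Subgroup.normalizer (T : Set G)))
    (h2 : p = 2 → ∀ S : Sylow p G, Group.IsNilpotent (S : Subgroup G) ∧
      Group.nilpotencyClass (S : Subgroup G) ≤ 2)
    (E : Subgroup G) (hEp : IsPGroup p E) (hEc : IsMulCommutative E)
    (hE3 : ¬ Cfsg.PRankLE p 2 E)
    (hEfull : ∀ x ∈ Subgroup.centralizer (E : Set G), IsPGroup p (Subgroup.zpowers x) → x ∈ E)
    (q : ℕ) [Fact q.Prime] (hqp : q ≠ p) :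
    ∀ Q₁ ∈ Cfsg.maxInvSubgroups ⊤ E {q}, ∀ Q₂ ∈ Cfsg.maxInvSubgroups ⊤ E {q},
      ∃ k ∈ Cfsg.piCoreOf (Cfsg.primesNotDvd p) (Subgroup.centralizer (E : Set G)),
        Q₂ = Q₁.map (MulAut.conj k).toMonoidHom := by
  have hp : p.Prime := Fact.out
  have hEc' : ∀ a ∈ E, ∀ b ∈ E, a * b = b * a := by
    intro a ha b hb
    have := hEc.is_comm.comm (⟨a, ha⟩ : E) ⟨b, hb⟩
    exact congrArg Subtype.val this
  -- the elementary abelian subgroup of order at least `p ^ 3`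
  unfold Cfsg.PRankLE at hE3
  push Not at hE3
  obtain ⟨A, _, hAexp, hAcard⟩ := hE3
  obtain ⟨A₀, hA₀⟩ : ∃ A₀ : Subgroup G, A₀ = A.map E.subtype := ⟨_, rfl⟩
  have hA₀E : A₀ ≤ E := by
    rw [hA₀]
    rintro _ ⟨x, _, rfl⟩
    exact x.2
  have hA₀el : Cfsg.IsElementaryAbelian p A₀ := by
    refine ⟨⟨⟨fun x y => Subtype.ext (hEc' x (hA₀E x.2) y (hA₀E y.2))⟩⟩, ?_⟩
    rw [hA₀]
    rintro _ ⟨x, hx, rfl⟩
    have := hAexp x hx
    have h3 := congrArg Subtype.val this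
    simpa using h3
  have hA₀3 : p ^ 3 ≤ Nat.card A₀ := by
    have hcard : Nat.card A₀ = Nat.card A := by
      rw [hA₀]
      exact Subgroup.card_map_of_injective E.subtype_injective
    have hA₀p : IsPGroup p A₀ := hEp.to_le hA₀E
    obtain ⟨k, hk⟩ := (IsPGroup.iff_card).mp hA₀p
    rw [hk]
    apply Nat.pow_le_pow_right hp.pos
    by_contra hk3
    push Not at hk3
    apply absurd hAcard
    push Not
    rw [← hcard, hk]
    exact Nat.pow_le_pow_right hp.pos (by omega)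
  have hCE : Cfsg.piCoreOf (Cfsg.primesNotDvd p) (Subgroup.centralizer (E : Set G)) ≤
      Subgroup.centralizer (E : Set G) := by
    unfold Cfsg.piCoreOf
    exact Subgroup.map_subtype_le _
  have main := trans_engine E
    (Cfsg.piCoreOf (Cfsg.primesNotDvd p) (Subgroup.centralizer (E : Set G))) q hCE
    (fun _ => True) (fun _ _ _ _ => trivial)
    (fun Q₁ Q₂ h₁ h₂ _ hD₁ hD₂ =>
      thompson_link p hloc h2 E hEp hEc' hEfull A₀ hA₀E hA₀el hA₀3 q hqp Q₁ Q₂ h₁ h₂ hD₁ hD₂)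
  intro Q₁ hQ₁ Q₂ hQ₂
  rw [mem_maxInvSubgroups_iff] at hQ₁ hQ₂
  obtain ⟨c, hc, e⟩ := main Q₁ Q₂ hQ₁ hQ₂ trivial
  exact ⟨c, hc, e⟩

end Cfsg.Agent.Lib.Helper11
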