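import Mathlib
import Cfsg.Prelude.Def_OddOrderLocal
import Cfsg.Agent.Lib.Helper11.PiCore
import Cfsg.Agent.Lib.Helper11.TransEngine
import Cfsg.Agent.Lib.Helper11.ThompsonTrans
import Cfsg.Agent.S0024
import Cfsg.Agent.S0025

set_option autoImplicit false
open scoped Pointwise

namespace Cfsg.Agent.Lib.Helper11

variable {G : Type*} [Group G] [Finite G]

theorem coprime_of_piNum_primesNotDvd {n m : ℕ} (h : PiNum (Cfsg.primesNotDvd n) m) :
    n.Coprime m := by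
  apply Nat.Coprime.symm
  apply Nat.coprime_of_dvd
  intro k hk hkm hkn
  exact (h k hk hkm).2 hkn

theorem piNum_of_isPGroup {π : Set ℕ} {q : ℕ} (hq : q.Prime) (hqπ : q ∈ π) {V : Subgroup G}
    (hV : IsPGroup q V) : PiNum π (Nat.card V) := by
  have : Fact q.Prime := ⟨hq⟩
  intro r hr hrd
  obtain ⟨k, hk⟩ := (IsPGroup.iff_card).mp hV
  rw [hk] at hrd
  have : r = q := (Nat.prime_dvd_prime_iff_eq hr hq).mp (hr.dvd_of_dvd_pow hrd)
  rw [this]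
  exact hqπ

/-- under the transitivity hypothesis every `A`-invariant `π(A)'`-subgroup of a proper overgroup
`X` of `A` lies in `O_{π(A)'}(X)` -/
theorem le_piCoreOf_of_transHyp {A : Subgroup G} (hA : Cfsg.TransitivityHypothesis A)
    {X : Subgroup G} (hX : X ≠ ⊤) (hAX : A ≤ X) {V : Subgroup G} (hVX : V ≤ X)
    (hV : PiNum (Cfsg.primesNotDvd (Nat.card A)) (Nat.card V))
    (hAV : A ≤ Subgroup.normalizer (V : Set G)) :
    V ≤ Cfsg.piCoreOf (Cfsg.primesNotDvd (Nat.card A)) X := by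
  rw [← hA.2.2 X hX hAX]
  apply le_sSup
  exact ⟨hVX, hV, hAV⟩

/-- `O_{π(A)'}(X) ∩ C(A) ≤ O_{π(A)'}(C(A))` under the transitivity hypothesis -/
theorem piCoreOf_inf_centralizer_le {A : Subgroup G} (hA : Cfsg.TransitivityHypothesis A)
    (hNA : Subgroup.normalizer (A : Set G) ≠ ⊤) {Y : Subgroup G}
    (hY : PiNum (Cfsg.primesNotDvd (Nat.card A)) (Nat.card Y)) :
    Y ⊓ Subgroup.centralizer (A : Set G) ≤
      Cfsg.piCoreOf (Cfsg.primesNotDvd (Nat.card A)) (Subgroup.centralizer (A : Set G)) := by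
  obtain ⟨N, hN⟩ : ∃ N : Subgroup G, N = Subgroup.normalizer (A : Set G) := ⟨_, rfl⟩
  obtain ⟨π, hπ⟩ : ∃ π : Set ℕ, π = Cfsg.primesNotDvd (Nat.card A) := ⟨_, rfl⟩
  rw [← hπ] at hY ⊢
  have hAN : A ≤ N := hN ▸ Subgroup.le_normalizer
  have hCN : Subgroup.centralizer (A : Set G) ≤ N := hN ▸ Subgroup.centralizer_le_normalizer _
  have hW : Y ⊓ Subgroup.centralizer (A : Set G) ≤ Cfsg.piCoreOf π N := by
    rw [hπ]
    apply le_piCoreOf_of_transHyp hA (hN ▸ hNA) hAN (inf_le_right.trans hCN)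
    · rw [← hπ]
      exact hY.of_dvd (Subgroup.card_dvd_of_le inf_le_left)
    · intro a ha
      apply Subgroup.centralizer_le_normalizer
      rw [Subgroup.mem_centralizer_iff]
      intro w hw
      exact ((Subgroup.mem_centralizer_iff.mp hw.2) a ha).symm
  have hW' : Cfsg.piCoreOf π N ⊓ Subgroup.centralizer (A : Set G) ≤
      Cfsg.piCoreOf π (Subgroup.centralizer (A : Set G)) := by
    apply le_piCoreOf inf_le_right
    · apply le_normalizer_inf'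
      · exact hCN.trans (le_normalizer_piCoreOf π N)
      · exact Subgroup.le_normalizer
    · exact (piCoreOf_piNum π N).of_dvd (Subgroup.card_dvd_of_le inf_le_left)
  exact (le_inf hW inf_le_right).trans hW'

/-- local conjugation: two `A`-invariant `q`-subgroups of a proper overgroup of `A` lie in
`A`-invariant `q`-subgroups conjugate under `O_{π(A)'}(C(A))` -/
theorem local_conj_of_transHyp (hsolv : ∀ H : Subgroup G, H ≠ ⊤ → Group.IsSolvable H)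
    {A : Subgroup G} (hA : Cfsg.TransitivityHypothesis A)
    (hNA : Subgroup.normalizer (A : Set G) ≠ ⊤) (q : ℕ) [Fact q.Prime]
    (hqA : ¬ q ∣ Nat.card A) {X : Subgroup G} (hX : X ≠ ⊤) (hAX : A ≤ X)
    (V₁ V₂ : Subgroup G) (hV₁X : V₁ ≤ X) (hV₂X : V₂ ≤ X) (hV₁ : IsPGroup q V₁)
    (hV₂ : IsPGroup q V₂) (hAV₁ : A ≤ Subgroup.normalizer (V₁ : Set G))
    (hAV₂ : A ≤ Subgroup.normalizer (V₂ : Set G)) :
    ∃ (R : Subgroup G) (c : G),
      c ∈ Cfsg.piCoreOf (Cfsg.primesNotDvd (Nat.card A)) (Subgroup.centralizer (A : Set G)) ∧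
      IsPGroup q R ∧ A ≤ Subgroup.normalizer (R : Set G) ∧ V₁ ≤ R ∧ V₂ ≤ conjSub c R := by
  have hq : q.Prime := Fact.out
  have hqπ : q ∈ Cfsg.primesNotDvd (Nat.card A) := ⟨hq, hqA⟩
  obtain ⟨Y, hYdef⟩ : ∃ Y : Subgroup G, Y = Cfsg.piCoreOf (Cfsg.primesNotDvd (Nat.card A)) X :=
    ⟨_, rfl⟩
  have hYX : Y ≤ X := hYdef ▸ piCoreOf_le _ X
  have hYπ : PiNum (Cfsg.primesNotDvd (Nat.card A)) (Nat.card Y) := hYdef ▸ piCoreOf_piNum _ X
  have hAY : A ≤ Subgroup.normalizer (Y : Set G) := hYdef ▸ hAX.trans (le_normalizer_piCoreOf _ X)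
  have hV₁Y : V₁ ≤ Y := hYdef ▸ le_piCoreOf_of_transHyp hA hX hAX hV₁X
    (piNum_of_isPGroup hq hqπ hV₁) hAV₁
  have hV₂Y : V₂ ≤ Y := hYdef ▸ le_piCoreOf_of_transHyp hA hX hAX hV₂X
    (piNum_of_isPGroup hq hqπ hV₂) hAV₂
  have hcop : (Nat.card A).Coprime (Nat.card Y) := coprime_of_piNum_primesNotDvd hYπ
  have hXs : Group.IsSolvable X := hsolv X hX
  have hYs : Group.IsSolvable Y :=
    Group.isSolvable_of_isSolvable_injective (Subgroup.inclusion_injective hYX)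
  have hsol : Group.IsSolvable A ∨ Group.IsSolvable Y := Or.inr hYs
  obtain ⟨P₁, hP₁le, hP₁A⟩ := Cfsg.Agent.S0025.result A Y hAY hcop hsol q V₁ hV₁Y hV₁ hAV₁
  obtain ⟨P₂, hP₂le, hP₂A⟩ := Cfsg.Agent.S0025.result A Y hAY hcop hsol q V₂ hV₂Y hV₂ hAV₂
  obtain ⟨c, hcA, hc⟩ := Cfsg.Agent.S0024.result A Y hAY hcop hsol q P₁ P₂ hP₁A hP₂A
  have hmemP : ∀ y : Y, y ∈ (P₂ : Subgroup Y) ↔ c⁻¹ * y * c ∈ (P₁ : Subgroup Y) := by
    intro y
    rw [← hc, Sylow.pointwise_smul_def, Subgroup.mem_pointwise_smul_iff_inv_smul_mem]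
    simp [MulAut.smul_def]
  have hconj : conjSub (c : G) ((P₁ : Subgroup Y).map Y.subtype) =
      (P₂ : Subgroup Y).map Y.subtype := by
    ext x
    rw [mem_conjSub]
    constructor
    · rintro ⟨y, hy, hyx⟩
      have hyx' : (y : G) = (c : G)⁻¹ * x * (c : G) := hyx
      have hxY : x ∈ Y := by
        have : x = (c : G) * (y : G) * (c : G)⁻¹ := by
          rw [hyx']; group
        rw [this]
        exact Y.mul_mem (Y.mul_mem c.2 y.2) (Y.inv_mem c.2)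
      refine ⟨⟨x, hxY⟩, ?_, rfl⟩
      rw [SetLike.mem_coe, hmemP]
      have : c⁻¹ * (⟨x, hxY⟩ : Y) * c = y := by
        apply Subtype.ext
        exact hyx'.symm
      rw [this]
      exact hy
    · rintro ⟨y, hy, rfl⟩
      rw [SetLike.mem_coe, hmemP] at hy
      exact ⟨c⁻¹ * y * c, hy, rfl⟩
  have hcC : (c : G) ∈
      Cfsg.piCoreOf (Cfsg.primesNotDvd (Nat.card A)) (Subgroup.centralizer (A : Set G)) :=
    piCoreOf_inf_centralizer_le hA hNA hYπ ⟨c.2, hcA⟩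
  refine ⟨(P₁ : Subgroup Y).map Y.subtype, (c : G), hcC, P₁.isPGroup'.map _, hP₁A, hP₁le, ?_⟩
  rw [hconj]
  exact hP₂le

/-- in a simple group the normalizer of a nontrivial proper subgroup is proper -/
theorem normalizer_ne_top_of_simple [IsSimpleGroup G] {D : Subgroup G} (h1 : D ≠ ⊥) (h2 : D ≠ ⊤) :
    Subgroup.normalizer (D : Set G) ≠ ⊤ := by
  intro h
  have hn : D.Normal := Subgroup.normalizer_eq_top_iff.mp h
  rcases hn.eq_bot_or_eq_top with h | h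
  · exact h1 h
  · exact h2 h

/-- the overgroup form of transitivity: maximal `A`-invariant `q`-subgroups with nontrivial
intersection are conjugate under `O_{π(A)'}(C(A))` -/
theorem trans_of_inter_ne_bot [IsSimpleGroup G]
    (hsolv : ∀ H : Subgroup G, H ≠ ⊤ → Group.IsSolvable H)
    {A : Subgroup G} (hA : Cfsg.TransitivityHypothesis A) (q : ℕ) [Fact q.Prime]
    (hqA : ¬ q ∣ Nat.card A) :
    ∀ Q₁ Q₂ : Subgroup G, IsMaxInv A q Q₁ → IsMaxInv A q Q₂ → Q₁ ⊓ Q₂ ≠ ⊥ →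
      ∃ c ∈ Cfsg.piCoreOf (Cfsg.primesNotDvd (Nat.card A)) (Subgroup.centralizer (A : Set G)),
        Q₂ = conjSub c Q₁ := by
  have hNA : Subgroup.normalizer (A : Set G) ≠ ⊤ := normalizer_ne_top_of_simple hA.1 hA.2.1
  apply trans_engine A _ q (piCoreOf_le _ _) (fun D => D ≠ ⊥)
  · intro D D' hle hD hD'
    apply hD
    rw [eq_bot_iff]
    exact hD' ▸ hle
  · intro Q₁ Q₂ h₁ h₂ hP hD₁ hD₂
    obtain ⟨D, hD⟩ : ∃ D : Subgroup G, D = Q₁ ⊓ Q₂ := ⟨_, rfl⟩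
    rw [← hD] at hP hD₁ hD₂ ⊢
    have hDQ₁ : D ≤ Q₁ := hD ▸ inf_le_left
    have hDQ₂ : D ≤ Q₂ := hD ▸ inf_le_right
    have hDtop : D ≠ ⊤ := by
      intro h
      apply hD₁
      apply le_antisymm hDQ₁
      rw [h]
      exact le_top
    obtain ⟨X, hXdef⟩ : ∃ X : Subgroup G, X = Subgroup.normalizer (D : Set G) := ⟨_, rfl⟩
    have hX : X ≠ ⊤ := hXdef ▸ normalizer_ne_top_of_simple hP hDtop
    have hAX : A ≤ X := hXdef ▸ hD ▸ le_normalizer_inf' h₁.2.1 h₂.2.1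
    have hAXn : A ≤ Subgroup.normalizer (X : Set G) := hAX.trans Subgroup.le_normalizer
    have hDX : D ≤ X := hXdef ▸ Subgroup.le_normalizer
    obtain ⟨R, c, hc, hRq, hAR, hR₁, hR₂⟩ := local_conj_of_transHyp hsolv hA hNA q hqA hX hAX
      (X ⊓ Q₁) (X ⊓ Q₂) inf_le_left inf_le_left (h₁.1.to_le inf_le_right)
      (h₂.1.to_le inf_le_right) (le_normalizer_inf' hAXn h₁.2.1) (le_normalizer_inf' hAXn h₂.2.1)
    refine ⟨R, c, hc, hRq, hAR, ?_, ?_⟩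
    · have hlt : D < Q₁ := lt_of_le_of_ne hDQ₁ hD₁
      obtain ⟨x, hxQ, hxN, hxD⟩ := Cfsg.Agent.Lib.Lead.exists_mem_normalizer_not_mem D Q₁ hlt
        h₁.1.isNilpotent
      refine lt_of_le_of_ne (le_inf ((le_inf hDX hDQ₁).trans hR₁) hDQ₁) ?_
      intro heq
      apply hxD
      rw [heq]
      exact ⟨hR₁ ⟨hXdef ▸ hxN, hxQ⟩, hxQ⟩
    · have hlt : D < Q₂ := lt_of_le_of_ne hDQ₂ hD₂
      obtain ⟨x, hxQ, hxN, hxD⟩ := Cfsg.Agent.Lib.Lead.exists_mem_normalizer_not_mem D Q₂ hlt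
        h₂.1.isNilpotent
      refine lt_of_le_of_ne (le_inf ((le_inf hDX hDQ₂).trans hR₂) hDQ₂) ?_
      intro heq
      apply hxD
      rw [heq]
      exact ⟨hR₂ ⟨hXdef ▸ hxN, hxQ⟩, hxQ⟩

/-- the common overgroup form -/
theorem trans_of_common_overgroup [IsSimpleGroup G]
    (hsolv : ∀ H : Subgroup G, H ≠ ⊤ → Group.IsSolvable H)
    {A : Subgroup G} (hA : Cfsg.TransitivityHypothesis A) (q : ℕ) [Fact q.Prime]
    (hqA : ¬ q ∣ Nat.card A) (Q₁ Q₂ : Subgroup G) (h₁ : IsMaxInv A q Q₁) (h₂ : IsMaxInv A q Q₂)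
    (H : Subgroup G) (hH : H ≠ ⊤) (hAH : A ≤ H) (hH₁ : H ⊓ Q₁ ≠ ⊥) (hH₂ : H ⊓ Q₂ ≠ ⊥) :
    ∃ c ∈ Cfsg.piCoreOf (Cfsg.primesNotDvd (Nat.card A)) (Subgroup.centralizer (A : Set G)),
      Q₂ = conjSub c Q₁ := by
  have hNA : Subgroup.normalizer (A : Set G) ≠ ⊤ := normalizer_ne_top_of_simple hA.1 hA.2.1
  have hAHn : A ≤ Subgroup.normalizer (H : Set G) := hAH.trans Subgroup.le_normalizer
  have hCA := piCoreOf_le (Cfsg.primesNotDvd (Nat.card A)) (Subgroup.centralizer (A : Set G))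
  obtain ⟨R, c, hc, hRq, hAR, hR₁, hR₂⟩ := local_conj_of_transHyp hsolv hA hNA q hqA hH hAH
    (H ⊓ Q₁) (H ⊓ Q₂) inf_le_left inf_le_left (h₁.1.to_le inf_le_right)
    (h₂.1.to_le inf_le_right) (le_normalizer_inf' hAHn h₁.2.1) (le_normalizer_inf' hAHn h₂.2.1)
  obtain ⟨Qs, hQs, hRQs⟩ := exists_isMaxInv_ge A q R hRq hAR
  have hne₁ : Qs ⊓ Q₁ ≠ ⊥ := by
    intro h
    apply hH₁
    rw [eq_bot_iff, ← h]
    exact le_inf (hR₁.trans hRQs) inf_le_right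
  have hQs' : IsMaxInv A q (conjSub c Qs) := hQs.conj (hCA hc)
  have hne₂ : conjSub c Qs ⊓ Q₂ ≠ ⊥ := by
    intro h
    apply hH₂
    rw [eq_bot_iff, ← h]
    exact le_inf (hR₂.trans (conjSub_mono hRQs)) inf_le_right
  obtain ⟨c₁, hc₁, e₁⟩ := trans_of_inter_ne_bot hsolv hA q hqA Qs Q₁ hQs h₁ hne₁
  obtain ⟨c₂, hc₂, e₂⟩ := trans_of_inter_ne_bot hsolv hA q hqA (conjSub c Qs) Q₂ hQs' h₂ hne₂
  refine ⟨c₂ * c * c₁⁻¹, Subgroup.mul_mem _ (Subgroup.mul_mem _ hc₂ hc) (Subgroup.inv_mem _ hc₁), ?_⟩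
  rw [e₂, conjSub_mul, conjSub_mul, e₁, conjSub_inv_conjSub]

end Cfsg.Agent.Lib.Helper11
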