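import Mathlib
import Cfsg.Prelude.Def_CaseTheorems
import Cfsg.Prelude.Def_OddOrderLocal
import Cfsg.Agent.Lib.Helper11.MaxLocA
import Cfsg.Agent.Lib.Helper11.TransHyp
import Cfsg.Agent.Lib.Helper1.Nilp

set_option autoImplicit false

namespace Cfsg.Agent.Lib.Helper11.MaxLocB

open Cfsg.Agent.Lib.Helper11 Cfsg.Agent.Lib.Helper11.MaxLocA

variable {G : Type*} [Group G]

theorem fittingOf_le (H : Subgroup G) : Cfsg.fittingOf H ≤ H := by
  unfold Cfsg.fittingOf
  exact Subgroup.map_subtype_le _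

theorem fittingOf_nilpotent [Finite G] (H : Subgroup G) : Group.IsNilpotent (Cfsg.fittingOf H) := by
  unfold Cfsg.fittingOf
  have : Group.IsNilpotent (Cfsg.fittingSubgroup ↥H) :=
    Cfsg.Agent.Lib.Helper1.fittingSubgroup_nilpotent
  exact Group.nilpotent_of_mulEquiv
    ((Cfsg.fittingSubgroup ↥H).equivMapOfInjective H.subtype H.subtype_injective)

theorem le_normalizer_fittingOf (H : Subgroup G) :
    H ≤ Subgroup.normalizer (Cfsg.fittingOf H : Set G) := by
  unfold Cfsg.fittingOf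
  have hchar : (Cfsg.fittingSubgroup ↥H).Characteristic :=
    Cfsg.Agent.Lib.Helper12.fittingSubgroup_characteristic _
  exact Cfsg.Agent.Lib.Lead.le_normalizer_map_characteristic H H Subgroup.le_normalizer _

/-- the `p`-part of the centre of `F(H)` -/
def zP (H : Subgroup G) (p : ℕ) : Subgroup G where
  carrier := {z | z ∈ Cfsg.fittingOf H ∧ z ∈ Subgroup.centralizer (Cfsg.fittingOf H : Set G) ∧
    ∃ k : ℕ, z ^ p ^ k = 1}
  one_mem' := ⟨Subgroup.one_mem _, Subgroup.one_mem _, 0, by simp⟩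
  mul_mem' := by
    rintro a b ⟨ha, hac, ka, hka⟩ ⟨hb, hbc, kb, hkb⟩
    refine ⟨Subgroup.mul_mem _ ha hb, Subgroup.mul_mem _ hac hbc, ka + kb, ?_⟩
    have hcomm : Commute a b := by
      rw [Subgroup.mem_centralizer_iff] at hac
      exact (hac b hb).symm
    rw [hcomm.mul_pow, pow_add, pow_mul, hka, one_pow, one_mul, mul_comm (p ^ ka), pow_mul, hkb,
      one_pow]
  inv_mem' := by
    rintro a ⟨ha, hac, ka, hka⟩
    exact ⟨Subgroup.inv_mem _ ha, Subgroup.inv_mem _ hac, ka, by rw [inv_pow, hka, inv_one]⟩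

theorem mem_zP (H : Subgroup G) (p : ℕ) (z : G) :
    z ∈ zP H p ↔ z ∈ Cfsg.fittingOf H ∧ z ∈ Subgroup.centralizer (Cfsg.fittingOf H : Set G) ∧
      ∃ k : ℕ, z ^ p ^ k = 1 := Iff.rfl

theorem zP_le (H : Subgroup G) (p : ℕ) : zP H p ≤ Cfsg.fittingOf H := fun _ hz => hz.1

theorem zP_le_centralizer (H : Subgroup G) (p : ℕ) :
    zP H p ≤ Subgroup.centralizer (Cfsg.fittingOf H : Set G) := fun _ hz => hz.2.1

theorem zP_isPGroup (H : Subgroup G) (p : ℕ) : IsPGroup p (zP H p) := by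
  rintro ⟨z, hz⟩
  obtain ⟨k, hk⟩ := hz.2.2
  exact ⟨k, Subtype.ext (by simpa using hk)⟩

theorem le_normalizer_zP (H : Subgroup G) (p : ℕ) :
    H ≤ Subgroup.normalizer (zP H p : Set G) := by
  have key : ∀ h ∈ H, ∀ z ∈ zP H p, h * z * h⁻¹ ∈ zP H p := by
    intro h hh z hz
    have hF := le_normalizer_fittingOf H hh
    refine ⟨(Subgroup.mem_normalizer_iff.mp hF z).mp hz.1, ?_, ?_⟩
    · rw [Subgroup.mem_centralizer_iff]
      intro f hf
      have hf' : h⁻¹ * f * h ∈ Cfsg.fittingOf H := by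
        have := (Subgroup.mem_normalizer_iff.mp
          (Subgroup.inv_mem _ hF) f).mp hf
        simpa using this
      have hc := (Subgroup.mem_centralizer_iff.mp hz.2.1) _ hf'
      calc f * (h * z * h⁻¹) = h * ((h⁻¹ * f * h) * z) * h⁻¹ := by group
        _ = h * (z * (h⁻¹ * f * h)) * h⁻¹ := by rw [hc]
        _ = h * z * h⁻¹ * f := by group
    · obtain ⟨k, hk⟩ := hz.2.2
      exact ⟨k, by rw [conj_pow, hk]; group⟩
  intro h hh
  rw [Subgroup.mem_normalizer_iff]
  intro z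
  constructor
  · exact key h hh z
  · intro hz
    have := key h⁻¹ (H.inv_mem hh) _ hz
    have e : h⁻¹ * (h * z * h⁻¹) * h⁻¹⁻¹ = z := by group
    rwa [e] at this

theorem zP_ne_bot [Finite G] (H : Subgroup G) (p : ℕ) [hp : Fact p.Prime]
    (hpd : p ∣ Nat.card (Cfsg.fittingOf H)) : zP H p ≠ ⊥ := by
  have hnil := fittingOf_nilpotent H
  obtain ⟨P⟩ : Nonempty (Sylow p ↥(Cfsg.fittingOf H)) := inferInstance
  have hPn : (P : Subgroup ↥(Cfsg.fittingOf H)).Normal := inferInstance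
  have hP1 : (P : Subgroup ↥(Cfsg.fittingOf H)) ≠ ⊥ := by
    intro hbot
    have h1 := P.card_eq_multiplicity
    rw [hbot, Subgroup.card_bot] at h1
    have h2 : (Nat.card ↥(Cfsg.fittingOf H)).factorization p = 0 := by
      by_contra hne
      have : 1 < p ^ (Nat.card ↥(Cfsg.fittingOf H)).factorization p :=
        Nat.one_lt_pow hne hp.out.one_lt
      omega
    rcases (Nat.factorization_eq_zero_iff _ _).mp h2 with h | h | h
    · exact h hp.out
    · exact h hpd
    · exact Nat.card_pos.ne' h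
  have hne := Cfsg.Agent.Lib.Helper1.normal_inf_center_ne_bot (P : Subgroup ↥(Cfsg.fittingOf H)) hP1
  obtain ⟨⟨z, hz⟩, hz1⟩ := (Subgroup.ne_bot_iff_exists_ne_one).mp hne
  obtain ⟨hzP, hzc⟩ := Subgroup.mem_inf.mp hz
  intro hbot
  have hmem : (z : G) ∈ zP H p := by
    refine ⟨z.2, ?_, ?_⟩
    · rw [Subgroup.mem_centralizer_iff]
      intro f hf
      have := (Subgroup.mem_center_iff.mp hzc) ⟨f, hf⟩
      have h2 := congrArg Subtype.val this
      simpa using h2
    · obtain ⟨k, hk⟩ := P.isPGroup' ⟨z, hzP⟩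
      refine ⟨k, ?_⟩
      have h2 := congrArg Subtype.val (congrArg Subtype.val hk)
      simpa using h2
  rw [hbot, Subgroup.mem_bot] at hmem
  apply hz1
  apply Subtype.ext
  apply Subtype.ext
  simpa using hmem


theorem centralizer_zP_le [Finite G] (H : Subgroup G)
    (hHmax : ∀ L : Subgroup G, Cfsg.IsLocalSubgroup L → H ≤ L → L = H)
    (p : ℕ) [hp : Fact p.Prime] (hpd : p ∣ Nat.card (Cfsg.fittingOf H)) :
    Subgroup.centralizer (zP H p : Set G) ≤ H := by
  have hloc : Cfsg.IsLocalSubgroup (Subgroup.normalizer (zP H p : Set G)) :=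
    ⟨p, zP H p, hp.out, zP_isPGroup H p, zP_ne_bot H p hpd, rfl⟩
  have h1 := hHmax _ hloc (le_normalizer_zP H p)
  intro x hx
  rw [← h1]
  exact Subgroup.centralizer_le_normalizer _ hx

theorem zP_le_of_self_centralizing (H M : Subgroup G) (hM : M ≤ Cfsg.fittingOf H)
    (hCM : Cfsg.fittingOf H ⊓ Subgroup.centralizer (M : Set G) ≤ M) (p : ℕ) : zP H p ≤ M := by
  intro z hz
  apply hCM
  refine Subgroup.mem_inf.mpr ⟨hz.1, ?_⟩
  exact Subgroup.centralizer_le (show (M : Set G) ⊆ (Cfsg.fittingOf H : Set G) from hM) hz.2.1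

/-- solvable subgroups normalized by `X = C_H(F(H))` meet `X` inside `F(H)` -/
theorem inf_le_fittingOf [Finite G] (H L : Subgroup G) (hL : Group.IsSolvable L)
    (hXL : H ⊓ Subgroup.centralizer (Cfsg.fittingOf H : Set G) ≤ Subgroup.normalizer (L : Set G)) :
    H ⊓ Subgroup.centralizer (Cfsg.fittingOf H : Set G) ⊓ L ≤ Cfsg.fittingOf H := by
  obtain ⟨X, hX⟩ : ∃ X : Subgroup G, X = H ⊓ Subgroup.centralizer (Cfsg.fittingOf H : Set G) :=
    ⟨_, rfl⟩
  rw [← hX] at hXL ⊢
  have hXH : X ≤ H := hX ▸ inf_le_left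
  obtain ⟨S, hS⟩ : ∃ S : Subgroup ↥H, S = (X ⊓ L).subgroupOf H := ⟨_, rfl⟩
  have hSsolv : Group.IsSolvable S := by
    rw [hS]
    have h1 : Group.IsSolvable ↥(X ⊓ L) :=
      Group.isSolvable_of_isSolvable_injective (Subgroup.inclusion_injective (inf_le_right : X ⊓ L ≤ L))
    exact Group.isSolvable_of_isSolvable_injective
      (f := (Subgroup.subgroupOfEquivOfLe (inf_le_left.trans hXH : X ⊓ L ≤ H)).toMonoidHom)
      (Subgroup.subgroupOfEquivOfLe (inf_le_left.trans hXH : X ⊓ L ≤ H)).injective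
  have hmemF : ∀ f : ↥H, f ∈ Cfsg.fittingSubgroup ↥H → (f : G) ∈ Cfsg.fittingOf H := by
    intro f hf
    exact ⟨f, hf, rfl⟩
  have hSX : S ≤ Subgroup.centralizer (Cfsg.fittingSubgroup ↥H : Set ↥H) := by
    intro s hs
    rw [hS, Subgroup.mem_subgroupOf] at hs
    have hsX : (s : G) ∈ X := hs.1
    rw [hX] at hsX
    rw [Subgroup.mem_centralizer_iff]
    intro f hf
    apply Subtype.ext
    have := (Subgroup.mem_centralizer_iff.mp hsX.2) (f : G) (hmemF f hf)
    simpa using this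
  have hcX : ∀ x : ↥H, x ∈ Subgroup.centralizer (Cfsg.fittingSubgroup ↥H : Set ↥H) → (x : G) ∈ X := by
    intro x hx
    rw [hX]
    refine Subgroup.mem_inf.mpr ⟨x.2, ?_⟩
    rw [Subgroup.mem_centralizer_iff]
    rintro _ ⟨f, hf, rfl⟩
    have := (Subgroup.mem_centralizer_iff.mp hx) f hf
    have h2 := congrArg Subtype.val this
    simpa using h2
  have hXS : Subgroup.centralizer (Cfsg.fittingSubgroup ↥H : Set ↥H) ≤
      Subgroup.normalizer (S : Set ↥H) := by
    have key : ∀ x : ↥H, x ∈ Subgroup.centralizer (Cfsg.fittingSubgroup ↥H : Set ↥H) →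
        ∀ s ∈ S, x * s * x⁻¹ ∈ S := by
      intro x hx s hs
      rw [hS, Subgroup.mem_subgroupOf] at hs ⊢
      have hxX := hcX x hx
      refine Subgroup.mem_inf.mpr ⟨?_, ?_⟩
      · simp only [Subgroup.coe_mul, Subgroup.coe_inv]
        exact X.mul_mem (X.mul_mem hxX hs.1) (X.inv_mem hxX)
      · simp only [Subgroup.coe_mul, Subgroup.coe_inv]
        exact (Subgroup.mem_normalizer_iff.mp (hXL hxX) _).mp hs.2
    intro x hx
    rw [Subgroup.mem_normalizer_iff]
    intro s
    constructor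
    · exact key x hx s
    · intro hs
      have := key x⁻¹ (Subgroup.inv_mem _ hx) _ hs
      have e : x⁻¹ * (x * s * x⁻¹) * x⁻¹⁻¹ = s := by group
      rwa [e] at this
  have hle := solvable_le_fitting S hSsolv hSX hXS
  intro g hg
  have hgH : g ∈ H := hXH hg.1
  have : (⟨g, hgH⟩ : ↥H) ∈ S := by
    rw [hS, Subgroup.mem_subgroupOf]
    exact hg
  exact ⟨⟨g, hgH⟩, hle this, rfl⟩


/-- invariant subgroups of order coprime to `F(H)` have no fixed points under a subgroup `B`
centralized by `M` with `C_G(B) ≤ H` -/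
theorem inf_centralizer_eq_bot [Finite G] (H M : Subgroup G) (hM : M ≤ Cfsg.fittingOf H)
    (hCM : Cfsg.fittingOf H ⊓ Subgroup.centralizer (M : Set G) ≤ M)
    (L : Subgroup G) (hL : Group.IsSolvable L)
    (hXL : H ⊓ Subgroup.centralizer (Cfsg.fittingOf H : Set G) ≤ Subgroup.normalizer (L : Set G))
    (B : Subgroup G) (hBM : M ≤ Subgroup.centralizer (B : Set G))
    (hBH : Subgroup.centralizer (B : Set G) ≤ H)
    (Y : Subgroup G) (hYL : Y ≤ L) (hMY : M ≤ Subgroup.normalizer (Y : Set G))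
    (hcop : (Nat.card Y).Coprime (Nat.card (Cfsg.fittingOf H))) :
    Y ⊓ Subgroup.centralizer (B : Set G) = ⊥ := by
  obtain ⟨F, hF⟩ : ∃ F : Subgroup G, F = Cfsg.fittingOf H := ⟨_, rfl⟩
  rw [← hF] at hM hCM hXL hcop
  have hHF : H ≤ Subgroup.normalizer (F : Set G) := hF ▸ le_normalizer_fittingOf H
  have hFnil : Group.IsNilpotent F := hF ▸ fittingOf_nilpotent H
  obtain ⟨D, hD⟩ : ∃ D : Subgroup G, D = Y ⊓ Subgroup.centralizer (B : Set G) := ⟨_, rfl⟩
  rw [← hD]
  have hDY : D ≤ Y := hD ▸ inf_le_left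
  have hDB : D ≤ Subgroup.centralizer (B : Set G) := hD ▸ inf_le_right
  have hDH : D ≤ H := hDB.trans hBH
  have hcopD : (Nat.card D).Coprime (Nat.card F) :=
    Nat.Coprime.coprime_dvd_left (Subgroup.card_dvd_of_le hDY) hcop
  -- `D` centralizes `M`
  have hDM : D ≤ Subgroup.centralizer (M : Set G) := by
    intro d hd
    rw [Subgroup.mem_centralizer_iff]
    intro m hm
    have h1 : d * m * d⁻¹ * m⁻¹ ∈ D := by
      have h2 : m * d⁻¹ * m⁻¹ ∈ D := by
        rw [hD]
        refine Subgroup.mem_inf.mpr ⟨?_, ?_⟩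
        · exact (Subgroup.mem_normalizer_iff.mp (hMY hm) _).mp (Y.inv_mem (hDY hd))
        · exact Subgroup.mul_mem _ (Subgroup.mul_mem _ (hBM hm) (Subgroup.inv_mem _ (hDB hd)))
            (Subgroup.inv_mem _ (hBM hm))
      have e : d * m * d⁻¹ * m⁻¹ = d * (m * d⁻¹ * m⁻¹) := by group
      rw [e]
      exact D.mul_mem hd h2
    have h3 : d * m * d⁻¹ * m⁻¹ ∈ F := by
      have h4 : d * m * d⁻¹ ∈ F := (Subgroup.mem_normalizer_iff.mp (hHF (hDH hd)) m).mp (hM hm)
      exact F.mul_mem h4 (F.inv_mem (hM hm))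
    have h5 := Cfsg.Agent.Lib.Lead.inf_eq_bot_of_coprime' D F hcopD h1 h3
    have h6 : d * m = m * d := by
      have : d * m = (d * m * d⁻¹ * m⁻¹) * (m * d) := by group
      rw [this, h5, one_mul]
    exact h6.symm
  -- `D` centralizes `F`
  have hDF : D ≤ Subgroup.centralizer (F : Set G) := by
    apply Cfsg.Agent.S1442.result F D hFnil (hDH.trans hHF) hcopD
    intro f hf
    obtain ⟨hfF, hfC⟩ := Subgroup.mem_inf.mp hf
    have hMle : M ≤ F ⊓ Subgroup.centralizer (D : Set G) := by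
      intro m hm
      refine Subgroup.mem_inf.mpr ⟨hM hm, ?_⟩
      rw [Subgroup.mem_centralizer_iff]
      intro d hd
      exact ((Subgroup.mem_centralizer_iff.mp (hDM hd)) m hm).symm
    apply hMle
    apply hCM
    refine Subgroup.mem_inf.mpr ⟨hfF, ?_⟩
    exact Subgroup.centralizer_le (show (M : Set G) ⊆ _ from hMle) hfC
  have hle : D ≤ F := by
    have := inf_le_fittingOf H L hL (hF ▸ hXL)
    rw [← hF] at this
    intro d hd
    apply this
    exact Subgroup.mem_inf.mpr ⟨Subgroup.mem_inf.mpr ⟨hDH hd, hDF hd⟩, hYL (hDY hd)⟩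
  rw [eq_bot_iff]
  intro d hd
  rw [Subgroup.mem_bot]
  exact Cfsg.Agent.Lib.Lead.inf_eq_bot_of_coprime' D F hcopD hd (hle hd)


theorem isPGroup_card_coprime {X : Type*} [Group X] [Finite X] {r n : ℕ} (hr : r.Prime)
    (hX : IsPGroup r X) (hn : ¬ r ∣ n) : (Nat.card X).Coprime n := by
  have : Fact r.Prime := ⟨hr⟩
  obtain ⟨k, hk⟩ := IsPGroup.iff_card.mp hX
  rw [hk]
  apply Nat.Coprime.pow_left
  exact (Nat.Prime.coprime_iff_not_dvd hr).mpr hn

/-- the main step: an `M`-invariant `q`-subgroup of an `X`-invariant solvable group `L ≥ M` lies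
in `O_{π'}(L)` -/
theorem inv_le_piCoreOf [Finite G] (H M : Subgroup G)
    (hHmax : ∀ L : Subgroup G, Cfsg.IsLocalSubgroup L → H ≤ L → L = H)
    (hF2 : 2 ≤ (Nat.card (Cfsg.fittingOf H)).primeFactors.card)
    (hM : M ≤ Cfsg.fittingOf H)
    (hCM : Cfsg.fittingOf H ⊓ Subgroup.centralizer (M : Set G) ≤ M)
    (L : Subgroup G) (hL : Group.IsSolvable L) (hML : M ≤ L)
    (hXL : H ⊓ Subgroup.centralizer (Cfsg.fittingOf H : Set G) ≤ Subgroup.normalizer (L : Set G))
    (q : ℕ) [hq : Fact q.Prime] (hqF : ¬ q ∣ Nat.card (Cfsg.fittingOf H))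
    (Q : Subgroup G) (hQL : Q ≤ L) (hQ : IsPGroup q Q)
    (hMQ : M ≤ Subgroup.normalizer (Q : Set G)) :
    Q ≤ Cfsg.piCoreOf (Cfsg.primesNotDvd (Nat.card (Cfsg.fittingOf H))) L := by
  classical
  obtain ⟨σ, hσ⟩ : ∃ σ : Set ℕ, σ = Cfsg.primesNotDvd (Nat.card (Cfsg.fittingOf H)) := ⟨_, rfl⟩
  rw [← hσ]
  have hqσ : q ∈ σ := hσ ▸ ⟨hq.out, hqF⟩
  -- facts on the central `p`-parts
  have hzM : ∀ p : ℕ, zP H p ≤ M := zP_le_of_self_centralizing H M hM hCM
  have hzL : ∀ p : ℕ, zP H p ≤ L := fun p => (hzM p).trans hML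
  have hMz : ∀ p : ℕ, M ≤ Subgroup.centralizer (zP H p : Set G) := by
    intro p m hm
    rw [Subgroup.mem_centralizer_iff]
    intro z hz
    exact ((Subgroup.mem_centralizer_iff.mp hz.2.1) m (hM hm)).symm
  -- the core and its coprimality
  obtain ⟨K, hK⟩ : ∃ K : Subgroup G, K = Cfsg.piCoreOf σ L := ⟨_, rfl⟩
  have hKL : K ≤ L := hK ▸ piCoreOf_le σ L
  have hMK : M ≤ Subgroup.normalizer (K : Set G) :=
    hK ▸ hML.trans (le_normalizer_piCoreOf σ L)
  have hKcop : (Nat.card K).Coprime (Nat.card (Cfsg.fittingOf H)) := by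
    have h1 : PiNum σ (Nat.card K) := hK ▸ piCoreOf_piNum σ L
    rw [hσ] at h1
    exact (coprime_of_piNum_primesNotDvd h1).symm
  have hQcop : (Nat.card Q).Coprime (Nat.card (Cfsg.fittingOf H)) :=
    isPGroup_card_coprime hq.out hQ hqF
  have hmain : Q.subgroupOf L ≤ Cfsg.piCore σ ↥L := by
    apply inv_le_piCore σ (Q.subgroupOf L) q hqσ hQ.comap_subtype
    intro p hp hpσ
    have hpF : p ∣ Nat.card (Cfsg.fittingOf H) := by
      by_contra hnd
      exact hpσ (hσ ▸ ⟨hp, hnd⟩)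
    have : Fact p.Prime := ⟨hp⟩
    have hpmem : p ∈ (Nat.card (Cfsg.fittingOf H)).primeFactors :=
      Nat.mem_primeFactors.mpr ⟨hp, hpF, Nat.card_pos.ne'⟩
    obtain ⟨r, hrmem, hrp⟩ := Finset.exists_mem_ne (by omega : 1 <
      (Nat.card (Cfsg.fittingOf H)).primeFactors.card) p
    have hr : r.Prime := Nat.prime_of_mem_primeFactors hrmem
    have hrF : r ∣ Nat.card (Cfsg.fittingOf H) := Nat.dvd_of_mem_primeFactors hrmem
    have : Fact r.Prime := ⟨hr⟩
    have hrq : r ≠ q := fun h => hqF (h ▸ hrF)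
    have hcr : Subgroup.centralizer (zP H r : Set G) ≤ H := centralizer_zP_le H hHmax r hrF
    have hcp : Subgroup.centralizer (zP H p : Set G) ≤ H := centralizer_zP_le H hHmax p hpF
    have hAr : IsPGroup r ((zP H r).subgroupOf L) := (zP_isPGroup H r).comap_subtype
    refine ⟨(zP H r).subgroupOf L, (zP H p).subgroupOf L, (zP_isPGroup H p).comap_subtype,
      ?_, ?_, ?_, ?_, ?_, ?_⟩
    · exact isPGroup_card_coprime hr hAr (fun h => hrp ((Nat.prime_dvd_prime_iff_eq hr hp).mp h))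
    · exact isPGroup_card_coprime hr hAr (fun h => hrq ((Nat.prime_dvd_prime_iff_eq hr hq.out).mp h))
    · intro a ha b hb
      rw [Subgroup.mem_subgroupOf] at ha hb
      apply Subtype.ext
      have := (Subgroup.mem_centralizer_iff.mp ha.2.1) (b : G) hb.1
      simpa using this.symm
    · intro a ha
      rw [Subgroup.mem_subgroupOf] at ha
      have h1 := hMQ (hzM r ha)
      rw [Subgroup.mem_normalizer_iff] at h1 ⊢
      intro x
      rw [Subgroup.mem_subgroupOf, Subgroup.mem_subgroupOf]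
      have := h1 (x : G)
      simpa using this
    · rw [eq_bot_iff]
      intro x hx
      obtain ⟨hxQ, hxA⟩ := Subgroup.mem_inf.mp hx
      rw [Subgroup.mem_subgroupOf] at hxQ
      have h1 := inf_centralizer_eq_bot H M hM hCM L hL hXL (zP H r) (hMz r) hcr Q hQL hMQ hQcop
      have h2 : (x : G) ∈ Q ⊓ Subgroup.centralizer (zP H r : Set G) := by
        refine Subgroup.mem_inf.mpr ⟨hxQ, ?_⟩
        rw [Subgroup.mem_centralizer_iff]
        intro z hz
        have := (Subgroup.mem_centralizer_iff.mp hxA) ⟨z, hzL r hz⟩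
          (Subgroup.mem_subgroupOf.mpr hz)
        have h3 := congrArg Subtype.val this
        simpa using h3
      rw [h1, Subgroup.mem_bot] at h2
      rw [Subgroup.mem_bot]
      exact Subtype.ext h2
    · intro N hNn hKN hNp x hxN hxB a ha
      rw [Subgroup.mem_subgroupOf] at ha
      obtain ⟨c, hc⟩ : ∃ c : ↥L, c = a * x * a⁻¹ * x⁻¹ := ⟨_, rfl⟩
      have hcN : c ∈ N := by
        rw [hc]
        exact N.mul_mem (hNn.conj_mem x hxN a) (N.inv_mem hxN)
      have haB : ∀ b ∈ (zP H p).subgroupOf L, b * a = a * b := by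
        intro b hb
        rw [Subgroup.mem_subgroupOf] at hb
        apply Subtype.ext
        have := (Subgroup.mem_centralizer_iff.mp ha.2.1) (b : G) hb.1
        simpa using this
      -- `c` centralizes `B`
      have hcB : ∀ b ∈ (zP H p).subgroupOf L, b * c = c * b := by
        intro b hb
        have h1 := haB b hb
        have h2 := hxB b hb
        have h3 : b * a⁻¹ = a⁻¹ * b := by
          have : a⁻¹ * (b * a) * a⁻¹ = a⁻¹ * (a * b) * a⁻¹ := by rw [h1]
          have h5 : a⁻¹ * b = b * a⁻¹ := by simpa [mul_assoc] using this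
          exact h5.symm
        have h4 : b * x⁻¹ = x⁻¹ * b := by
          have : x⁻¹ * (b * x) * x⁻¹ = x⁻¹ * (x * b) * x⁻¹ := by rw [h2]
          have h5 : x⁻¹ * b = b * x⁻¹ := by simpa [mul_assoc] using this
          exact h5.symm
        rw [hc]
        calc b * (a * x * a⁻¹ * x⁻¹) = (b * a) * x * a⁻¹ * x⁻¹ := by group
          _ = a * (b * x) * a⁻¹ * x⁻¹ := by rw [h1]; group
          _ = a * x * (b * a⁻¹) * x⁻¹ := by rw [h2]; group
          _ = a * x * a⁻¹ * (b * x⁻¹) := by rw [h3]; group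
          _ = a * x * a⁻¹ * x⁻¹ * b := by rw [h4]; group
      -- a power of `c` lies in the core and is fixed by `B`
      obtain ⟨k, hk⟩ := hNp c hcN
      have hck : ((c ^ p ^ k : ↥L) : G) ∈ K ⊓ Subgroup.centralizer (zP H p : Set G) := by
        refine Subgroup.mem_inf.mpr ⟨?_, ?_⟩
        · rw [hK]
          exact ⟨c ^ p ^ k, hk, rfl⟩
        · rw [Subgroup.mem_centralizer_iff]
          intro z hz
          have hcomm : Commute (⟨z, hzL p hz⟩ : ↥L) c := hcB _ (Subgroup.mem_subgroupOf.mpr hz)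
          have := (hcomm.pow_right (p ^ k)).eq
          have h3 := congrArg Subtype.val this
          simpa using h3
      rw [inf_centralizer_eq_bot H M hM hCM L hL hXL (zP H p) (hMz p) hcp K hKL hMK hKcop,
        Subgroup.mem_bot] at hck
      have hck' : (c : G) ^ p ^ k = 1 := by simpa using hck
      -- `c` lies in the `r`-part
      have hcz : (c : G) ∈ zP H r := by
        have hxH : (x : G) ∈ H := by
          apply hcp
          rw [Subgroup.mem_centralizer_iff]
          intro z hz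
          have := hxB ⟨z, hzL p hz⟩ (Subgroup.mem_subgroupOf.mpr hz)
          have h3 := congrArg Subtype.val this
          simpa using h3
        have h1 : (x : G) * (a : G)⁻¹ * (x : G)⁻¹ ∈ zP H r :=
          (Subgroup.mem_normalizer_iff.mp (le_normalizer_zP H r hxH) _).mp
            (Subgroup.inv_mem _ ha)
        have e : (c : G) = (a : G) * ((x : G) * (a : G)⁻¹ * (x : G)⁻¹) := by
          rw [hc]
          simp only [Subgroup.coe_mul, Subgroup.coe_inv]
          group
        rw [e]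
        exact Subgroup.mul_mem _ ha h1
      obtain ⟨j, hj⟩ := hcz.2.2
      have hc1 : (c : G) = 1 := by
        have hcop : Nat.Coprime (p ^ k) (r ^ j) := by
          apply Nat.Coprime.pow
          rw [Nat.coprime_primes hp hr]
          exact fun h => hrp h.symm
        have := pow_gcd_eq_one.mpr ⟨hck', hj⟩
        rwa [Nat.Coprime.gcd_eq_one hcop, pow_one] at this
      have hc1' : c = 1 := Subtype.ext hc1
      rw [hc] at hc1'
      have : a * x = (a * x * a⁻¹ * x⁻¹) * (x * a) := by group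
      rw [this, hc1', one_mul]
  intro g hg
  exact ⟨⟨g, hQL hg⟩, hmain (Subgroup.mem_subgroupOf.mpr hg), rfl⟩

end Cfsg.Agent.Lib.Helper11.MaxLocB
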