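import Mathlib
import Cfsg.Agent.Lib.Helper11.MaxLocA
import Cfsg.Agent.Lib.Helper11.NilpCoprime
import Cfsg.Agent.Lib.Helper18.SylowIn
import Cfsg.Agent.Lib.Helper1.GNPC3.ZEBasic
import Cfsg.Agent.S1458

set_option autoImplicit false

namespace Cfsg.Agent.Lib.Helper11.MaxSubA

open Cfsg.Agent.Lib.Helper11 Cfsg.Agent.Lib.Helper11.MaxLocA

/-- an element of finite order lies in every subgroup containing its prime-power-order powers -/
theorem gl_mem {Γ : Type*} [Group Γ] (K : Subgroup Γ) :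
    ∀ (n : ℕ) (g : Γ), orderOf g = n → 0 < n →
      (∀ h ∈ Subgroup.zpowers g, ∀ p : ℕ, p.Prime → p ∣ orderOf g → (∃ k : ℕ, h ^ p ^ k = 1) → h ∈ K) →
      g ∈ K := by
  intro n
  induction n using Nat.strong_induction_on with
  | _ n ih =>
    intro g hgn hpos hK
    by_cases h1 : n = 1
    · rw [h1, orderOf_eq_one_iff] at hgn
      rw [hgn]; exact K.one_mem
    · obtain ⟨p, hp, hpn⟩ := Nat.exists_prime_and_dvd h1
      obtain ⟨u, v, hu, hv, huv, huk, hvc⟩ := exists_p_parts p hp g (hgn ▸ hpos)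
      have hvd : orderOf v ∣ orderOf g := orderOf_dvd_of_mem_zpowers hv
      have hvlt : orderOf v < n := by
        rw [← hgn]
        apply lt_of_le_of_ne (Nat.le_of_dvd (hgn ▸ hpos) hvd)
        intro he
        rw [he, hgn] at hvc
        exact hp.one_lt.ne' (Nat.Coprime.eq_one_of_dvd hvc.symm hpn)
      have hvpos : 0 < orderOf v := Nat.pos_of_dvd_of_pos hvd (hgn ▸ hpos)
      have hvK : v ∈ K := by
        apply ih (orderOf v) hvlt v rfl hvpos
        intro h hh r hr hrv hk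
        apply hK h _ r hr (hrv.trans hvd) hk
        exact (Subgroup.zpowers_le.mpr hv) hh
      have huK : u ∈ K := hK u hu p hp (hgn ▸ hpn) huk
      rw [huv]
      exact K.mul_mem huK hvK

/-- coprime centralization: a `p'`-subgroup `A` normal in `H`, commuting with a `p`-subgroup `B`
with `C(B) ≤ H`, centralizes every `p`-subgroup normalized by `A` and `B` -/
theorem lemB {Γ : Type*} [Group Γ] [Finite Γ] (p : ℕ) [hp : Fact p.Prime] (T A B H : Subgroup Γ)
    (hT : IsPGroup p T) (hB : IsPGroup p B) (hA : (Nat.card A).Coprime p)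
    (hAT : A ≤ Subgroup.normalizer (T : Set Γ)) (hBT : B ≤ Subgroup.normalizer (T : Set Γ))
    (hAB : ∀ a ∈ A, ∀ b ∈ B, a * b = b * a)
    (hHA : H ≤ Subgroup.normalizer (A : Set Γ))
    (hBH : Subgroup.centralizer (B : Set Γ) ≤ H) :
    ∀ a ∈ A, ∀ x ∈ T, a * x = x * a := by
  apply axb p T A B hT hB hA hAT hBT hAB
  intro x hx hxB a ha
  have hxH : x ∈ H := by
    apply hBH
    rw [Subgroup.mem_centralizer_iff]
    exact hxB
  have hcT : a * x * a⁻¹ * x⁻¹ ∈ T :=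
    T.mul_mem ((Subgroup.mem_normalizer_iff.mp (hAT ha) x).mp hx) (T.inv_mem hx)
  have hcA : a * x * a⁻¹ * x⁻¹ ∈ A := by
    have h1 : x * a⁻¹ * x⁻¹ ∈ A :=
      (Subgroup.mem_normalizer_iff.mp (hHA hxH) a⁻¹).mp (A.inv_mem ha)
    have e : a * x * a⁻¹ * x⁻¹ = a * (x * a⁻¹ * x⁻¹) := by group
    rw [e]
    exact A.mul_mem ha h1
  have hcop : (Nat.card A).Coprime (Nat.card T) := by
    obtain ⟨n, hn⟩ := IsPGroup.iff_card.mp hT
    rw [hn]
    exact Nat.Coprime.pow_right n hA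
  have h1 := Cfsg.Agent.Lib.Lead.inf_eq_bot_of_coprime' A T hcop hcA hcT
  calc a * x = (a * x * a⁻¹ * x⁻¹) * (x * a) := by group
    _ = x * a := by rw [h1, one_mul]


/-- an element of `q'`-order acting on `x` modulo an abelian subgroup `Zs`, trivially on the
`q`-part of `Zs`, with the `q'`-part of `Zs` centralized by the `q`-element `x`, centralizes `x` -/
theorem trivAct {Γ : Type*} [Group Γ] (q : ℕ) (hq : q.Prime) (Zs : Subgroup Γ) (a x : Γ)
    (hZab : ∀ u ∈ Zs, ∀ v ∈ Zs, u * v = v * u)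
    (haZ : ∀ u ∈ Zs, a * u * a⁻¹ ∈ Zs)
    (hc : a * x * a⁻¹ * x⁻¹ ∈ Zs)
    (hqa : ∀ u ∈ Zs, (∃ k : ℕ, u ^ q ^ k = 1) → a * u = u * a)
    (hqx : ∀ u ∈ Zs, (orderOf u).Coprime q → x * u = u * x)
    (hx : ∃ m : ℕ, x ^ q ^ m = 1)
    (haq : (orderOf a).Coprime q)
    (hfin : ∀ u ∈ Zs, 0 < orderOf u) :
    a * x = x * a := by
  obtain ⟨z, w, hz, hw, hzw, ⟨n, hzn⟩, hwc⟩ := exists_p_parts q hq _ (hfin _ hc)
  have hzZ : z ∈ Zs := (Subgroup.zpowers_le.mpr hc) hz
  have hwZ : w ∈ Zs := (Subgroup.zpowers_le.mpr hc) hw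
  have haz : a * z = z * a := hqa z hzZ ⟨n, hzn⟩
  have hxw : x * w = w * x := hqx w hwZ hwc
  have hconj : a * x * a⁻¹ = z * w * x := by
    rw [← hzw]; group
  have hazk : ∀ k : ℕ, a * z ^ k * a⁻¹ = z ^ k := by
    intro k
    have : Commute a (z ^ k) := (show Commute a z from haz).pow_right k
    rw [this.eq]; group
  have key : ∀ k : ℕ, ∃ wk ∈ Zs, (orderOf wk).Coprime q ∧ a ^ k * x * (a ^ k)⁻¹ = z ^ k * wk * x := by
    intro k
    induction k with
    | zero => exact ⟨1, Zs.one_mem, by simp, by simp⟩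
    | succ k ih =>
      obtain ⟨wk, hwk, hwkc, hk⟩ := ih
      refine ⟨a * wk * a⁻¹ * w, Zs.mul_mem (haZ wk hwk) hwZ, ?_, ?_⟩
      · have hcm : Commute (a * wk * a⁻¹) w := hZab _ (haZ wk hwk) _ hwZ
        have h1 := hcm.orderOf_mul_dvd_lcm
        have h2 : orderOf (a * wk * a⁻¹) = orderOf wk := by
          have := orderOf_injective (MulAut.conj a).toMonoidHom (MulAut.conj a).injective wk
          simpa using this
        rw [h2] at h1
        exact Nat.Coprime.coprime_dvd_left (h1.trans (Nat.lcm_dvd_mul _ _))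
          (Nat.Coprime.mul_left hwkc hwc)
      · have e1 : a ^ (k + 1) * x * (a ^ (k + 1))⁻¹ = a * (a ^ k * x * (a ^ k)⁻¹) * a⁻¹ := by
          rw [pow_succ']; group
        rw [e1, hk]
        have e2 : a * (z ^ k * wk * x) * a⁻¹ = (a * z ^ k * a⁻¹) * (a * wk * a⁻¹) * (a * x * a⁻¹) := by
          group
        rw [e2, hazk, hconj]
        have hcm : (a * wk * a⁻¹) * z = z * (a * wk * a⁻¹) := hZab _ (haZ wk hwk) _ hzZ
        calc z ^ k * (a * wk * a⁻¹) * (z * w * x)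
            = z ^ k * ((a * wk * a⁻¹) * z) * w * x := by group
          _ = z ^ k * (z * (a * wk * a⁻¹)) * w * x := by rw [hcm]
          _ = z ^ (k + 1) * (a * wk * a⁻¹ * w) * x := by rw [pow_succ]; group
  obtain ⟨wk, hwk, hwkc, hk⟩ := key (orderOf a)
  rw [pow_orderOf_eq_one] at hk
  have h1 : z ^ orderOf a * wk = 1 := by
    have : (1 : Γ) * x * (1 : Γ)⁻¹ = x := by group
    rw [this] at hk
    have h2 : x = (z ^ orderOf a * wk) * x := hk
    have h3 : (1 : Γ) * x = (z ^ orderOf a * wk) * x := by rw [one_mul]; exact h2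
    exact (mul_right_cancel h3).symm
  have h2 : z ^ orderOf a = wk⁻¹ := eq_inv_of_mul_eq_one_left h1
  have h3 : z ^ orderOf a = 1 := by
    rw [← orderOf_eq_one_iff]
    have h4 : orderOf (z ^ orderOf a) ∣ q ^ n := by
      apply orderOf_dvd_of_pow_eq_one
      rw [← pow_mul, mul_comm, pow_mul, hzn, one_pow]
    have h5 : (orderOf (z ^ orderOf a)).Coprime (q ^ n) := by
      rw [h2, orderOf_inv]
      exact Nat.Coprime.pow_right n hwkc
    exact Nat.Coprime.eq_one_of_dvd h5 h4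
  have hz1 : z = 1 := by
    rw [← orderOf_eq_one_iff]
    have h4 : orderOf z ∣ orderOf a := orderOf_dvd_of_pow_eq_one h3
    have h5 : orderOf z ∣ q ^ n := orderOf_dvd_of_pow_eq_one hzn
    have h6 : (orderOf z).Coprime (q ^ n) :=
      Nat.Coprime.coprime_dvd_left h4 (Nat.Coprime.pow_right n haq)
    exact Nat.Coprime.eq_one_of_dvd h6 h5
  rw [hz1, one_mul] at hconj
  obtain ⟨m, hm⟩ := hx
  have hw1 : w = 1 := by
    rw [← orderOf_eq_one_iff]
    have h4 : (a * x * a⁻¹) ^ q ^ m = 1 := by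
      rw [conj_pow, hm]; group
    rw [hconj, (show Commute w x from hxw.symm).mul_pow, hm, mul_one] at h4
    have h5 : orderOf w ∣ q ^ m := orderOf_dvd_of_pow_eq_one h4
    exact Nat.Coprime.eq_one_of_dvd (Nat.Coprime.pow_right m hwc) h5
  rw [hw1, one_mul] at hconj
  calc a * x = (a * x * a⁻¹) * a := by group
    _ = x * a := by rw [hconj]


open Cfsg.Agent.Lib.Helper18 Cfsg.Agent.Lib.Helper1.GNPC3 in
/-- local form of Glauberman's `ZJ` theorem: if the normal `q'`-subgroups of the odd-order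
solvable subgroup `K` are central in `K`, then `Z(J(S))` is normalized by `K` -/
theorem zj_local {Γ : Type*} [Group Γ] [Finite Γ] (q : ℕ) [hq : Fact q.Prime] (K S : Subgroup Γ)
    (hKs : Group.IsSolvable K) (hKodd : Odd (Nat.card K))
    (hS : IsSylowIn q S K)
    (hcentral : ∀ N : Subgroup Γ, N ≤ K → K ≤ Subgroup.normalizer (N : Set Γ) →
      (Nat.card N).Coprime q → ∀ n ∈ N, ∀ k ∈ K, n * k = k * n) :
    K ≤ Subgroup.normalizer ((ZE q S : Subgroup Γ) : Set Γ) := by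
  obtain ⟨SK, hSK⟩ := hS.exists_sylow
  have : Group.IsSolvable ↥K := hKs
  have hn := Cfsg.Agent.S1458.result (G := ↥K) hKodd q SK
  rw [centerThompsonOf_eq] at hn
  obtain ⟨Zk, hZk⟩ : ∃ Zk : Subgroup ↥K, Zk = ZE q (SK : Subgroup ↥K) := ⟨_, rfl⟩
  obtain ⟨O, hO⟩ : ∃ O : Subgroup ↥K, O = Cfsg.pPrimeCore q ↥K := ⟨_, rfl⟩
  rw [← hZk, ← hO] at hn
  have hOn : O.Normal := hO ▸ Cfsg.Agent.Lib.Helper1.pPrimeCore_normal q
  have hOc : (Nat.card O).Coprime q := hO ▸ Cfsg.Agent.Lib.Helper1.pPrimeCore_card_coprime q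
  -- `O` is central
  have hOcen : ∀ o ∈ O, ∀ k : ↥K, o * k = k * o := by
    intro o ho k
    have h1 := hcentral (O.map K.subtype) (by rintro _ ⟨y, _, rfl⟩; exact y.2) ?_ ?_ (o : Γ)
      ⟨o, ho, rfl⟩ (k : Γ) k.2
    · exact Subtype.ext (by simpa using h1)
    · intro g hg
      apply mem_normalizer_of_conjSub_le
      rintro _ ⟨_, ⟨y, hy, rfl⟩, rfl⟩
      refine ⟨⟨g, hg⟩ * y * ⟨g, hg⟩⁻¹, hOn.conj_mem y hy _, ?_⟩
      simp
    · rw [Nat.card_congr (O.equivMapOfInjective K.subtype K.subtype_injective).symm.toEquiv]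
      exact hOc
  have hZq : ∀ z ∈ Zk, ∃ k : ℕ, z ^ q ^ k = 1 := by
    intro z hz
    have hzS : z ∈ (SK : Subgroup ↥K) := ZE_le q _ (hZk ▸ hz)
    obtain ⟨k, hk⟩ := SK.isPGroup' ⟨z, hzS⟩
    exact ⟨k, by simpa using congrArg Subtype.val hk⟩
  have key : ∀ k : ↥K, ∀ z ∈ Zk, k * z * k⁻¹ ∈ Zk := by
    intro k z hz
    have h1 : k * z * k⁻¹ ∈ Zk ⊔ O := hn.conj_mem z (le_sup_left (a := Zk) hz) k
    have h2 : k * z * k⁻¹ ∈ ((Zk ⊔ O : Subgroup ↥K) : Set ↥K) := h1
    rw [Subgroup.mul_normal] at h2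
    obtain ⟨z', hz', o, ho, hzo⟩ := h2
    have hz' : z' ∈ Zk := hz'
    have ho : o ∈ O := ho
    have hzo : z' * o = k * z * k⁻¹ := hzo
    obtain ⟨a, ha⟩ := hZq z' hz'
    obtain ⟨b, hb⟩ := hZq z hz
    have hcm : Commute z' o := (hOcen o ho z').symm
    have h3 : (z' * o) ^ (q ^ a * q ^ b) = 1 := by
      rw [hzo, conj_pow, mul_comm, pow_mul, hb, one_pow]; group
    rw [hcm.mul_pow, pow_mul, ha, one_pow, one_mul] at h3
    have h4 : orderOf o ∣ q ^ a * q ^ b := orderOf_dvd_of_pow_eq_one h3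
    have h5 : orderOf o ∣ Nat.card O := by
      have := orderOf_dvd_natCard (⟨o, ho⟩ : ↥O)
      rwa [Subgroup.orderOf_mk] at this
    have h6 : (orderOf o).Coprime (q ^ a * q ^ b) := by
      have h7 : (orderOf o).Coprime q := Nat.Coprime.coprime_dvd_left h5 hOc
      exact Nat.Coprime.mul_right (Nat.Coprime.pow_right a h7) (Nat.Coprime.pow_right b h7)
    have h8 : o = 1 := by
      rw [← orderOf_eq_one_iff]
      exact Nat.Coprime.eq_one_of_dvd h6 h4
    rw [h8, mul_one] at hzo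
    rw [← hzo]
    exact hz'
  have hSmap : S = (SK : Subgroup ↥K).map K.subtype := by
    rw [hSK, Subgroup.map_subgroupOf_eq_of_le hS.le]
  have hZE : ZE q S = Zk.map K.subtype := by
    rw [hZk, hSmap]
    exact ZE_map q K.subtype (fun _ _ _ _ h => K.subtype_injective h)
  intro g hg
  apply mem_normalizer_of_conjSub_le
  rw [hZE]
  rintro _ ⟨_, ⟨y, hy, rfl⟩, rfl⟩
  refine ⟨⟨g, hg⟩ * y * ⟨g, hg⟩⁻¹, key _ y hy, ?_⟩
  simp

open Cfsg.Agent.Lib.Helper18 Cfsg.Agent.Lib.Helper1.GNPC3 in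
/-- `zj_local` combined with the Frattini argument -/
theorem zj_frattini {Γ : Type*} [Group Γ] [Finite Γ] (q : ℕ) [hq : Fact q.Prime] (K S X : Subgroup Γ)
    (hKs : Group.IsSolvable K) (hKodd : Odd (Nat.card K))
    (hS : IsSylowIn q S K)
    (hcentral : ∀ N : Subgroup Γ, N ≤ K → K ≤ Subgroup.normalizer (N : Set Γ) →
      (Nat.card N).Coprime q → ∀ n ∈ N, ∀ k ∈ K, n * k = k * n)
    (hXK : X ≤ Subgroup.normalizer (K : Set Γ)) :
    X ≤ Subgroup.normalizer ((ZE q S : Subgroup Γ) : Set Γ) := by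
  have h1 := zj_local q K S hKs hKodd hS hcentral
  intro g hg
  obtain ⟨n, hn, hng⟩ := hS.frattini (hXK hg)
  have h2 := normalizer_le_normalizer_ZE q S hng
  have h3 := h1 hn
  have e : g = n⁻¹ * (n * g) := by group
  rw [e]
  exact Subgroup.mul_mem _ (Subgroup.inv_mem _ h3) h2


end Cfsg.Agent.Lib.Helper11.MaxSubA
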