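import Mathlib
import Cfsg.Agent.Lib.Helper11.MaxLocB
import Cfsg.Agent.Lib.Helper11.MaxSubA

set_option autoImplicit false

namespace Cfsg.Agent.Lib.Helper11.MaxSubB

open Cfsg.Agent.Lib.Helper11 Cfsg.Agent.Lib.Helper11.MaxLocA Cfsg.Agent.Lib.Helper11.MaxLocB
  Cfsg.Agent.Lib.Helper11.MaxSubA Cfsg.Agent.Lib.Helper18

/-- in a finite nilpotent group the `p`-elements are closed under multiplication -/
theorem nilpotent_pelem_mul {N : Type*} [Group N] [Finite N] [Group.IsNilpotent N] (p : ℕ)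
    [Fact p.Prime] (x y : N) (hx : ∃ k : ℕ, x ^ p ^ k = 1) (hy : ∃ k : ℕ, y ^ p ^ k = 1) :
    ∃ k : ℕ, (x * y) ^ p ^ k = 1 := by
  obtain ⟨P⟩ : Nonempty (Sylow p N) := inferInstance
  have hPn : (P : Subgroup N).Normal := inferInstance
  have huniq : Unique (Sylow p N) := Sylow.unique_of_normal P hPn
  have hmem : ∀ z : N, (∃ k : ℕ, z ^ p ^ k = 1) → z ∈ (P : Subgroup N) := by
    rintro z ⟨k, hk⟩
    have hz : IsPGroup p (Subgroup.zpowers z) := by
      rintro ⟨g, hg⟩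
      obtain ⟨i, rfl⟩ := Subgroup.mem_zpowers_iff.mp hg
      refine ⟨k, Subtype.ext ?_⟩
      simp only [Subgroup.coe_pow, Subgroup.coe_one]
      rw [← zpow_natCast, ← zpow_mul, mul_comm, zpow_mul, zpow_natCast, hk, one_zpow]
    obtain ⟨Q, hQ⟩ := hz.exists_le_sylow
    have : Q = P := Subsingleton.elim _ _
    rw [← this]
    exact hQ (Subgroup.mem_zpowers z)
  have hxy : x * y ∈ (P : Subgroup N) := Subgroup.mul_mem _ (hmem x hx) (hmem y hy)
  obtain ⟨k, hk⟩ := P.isPGroup' ⟨x * y, hxy⟩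
  exact ⟨k, by simpa using congrArg Subtype.val hk⟩

variable {G : Type*} [Group G]

/-- the `p`-part `O_p(F(H))` of the Fitting subgroup, as a subgroup of `G` -/
def fP [Finite G] (H : Subgroup G) (p : ℕ) [Fact p.Prime] : Subgroup G where
  carrier := {x | x ∈ Cfsg.fittingOf H ∧ ∃ k : ℕ, x ^ p ^ k = 1}
  one_mem' := ⟨Subgroup.one_mem _, 0, by simp⟩
  mul_mem' := by
    rintro a b ⟨ha, ka, hka⟩ ⟨hb, kb, hkb⟩
    refine ⟨Subgroup.mul_mem _ ha hb, ?_⟩
    have := fittingOf_nilpotent H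
    obtain ⟨k, hk⟩ := nilpotent_pelem_mul p (⟨a, ha⟩ : ↥(Cfsg.fittingOf H)) ⟨b, hb⟩
      ⟨ka, Subtype.ext (by simpa using hka)⟩ ⟨kb, Subtype.ext (by simpa using hkb)⟩
    exact ⟨k, by simpa using congrArg Subtype.val hk⟩
  inv_mem' := by
    rintro a ⟨ha, k, hk⟩
    exact ⟨Subgroup.inv_mem _ ha, k, by rw [inv_pow, hk, inv_one]⟩

theorem mem_fP [Finite G] (H : Subgroup G) (p : ℕ) [Fact p.Prime] (x : G) :
    x ∈ fP H p ↔ x ∈ Cfsg.fittingOf H ∧ ∃ k : ℕ, x ^ p ^ k = 1 := Iff.rfl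

theorem fP_le [Finite G] (H : Subgroup G) (p : ℕ) [Fact p.Prime] : fP H p ≤ Cfsg.fittingOf H :=
  fun _ hx => hx.1

theorem fP_le_self [Finite G] (H : Subgroup G) (p : ℕ) [Fact p.Prime] : fP H p ≤ H :=
  (fP_le H p).trans (fittingOf_le H)

theorem fP_isPGroup [Finite G] (H : Subgroup G) (p : ℕ) [Fact p.Prime] : IsPGroup p (fP H p) := by
  rintro ⟨z, hz⟩
  obtain ⟨k, hk⟩ := hz.2
  exact ⟨k, Subtype.ext (by simpa using hk)⟩

theorem le_normalizer_fP [Finite G] (H : Subgroup G) (p : ℕ) [Fact p.Prime] :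
    H ≤ Subgroup.normalizer (fP H p : Set G) := by
  intro h hh
  apply mem_normalizer_of_conjSub_le
  rintro _ ⟨z, hz, rfl⟩
  have hF := le_normalizer_fittingOf H hh
  obtain ⟨k, hk⟩ := hz.2
  refine ⟨(Subgroup.mem_normalizer_iff.mp hF z).mp hz.1, k, ?_⟩
  simp only [MulEquiv.coe_toMonoidHom, MulAut.conj_apply]
  rw [conj_pow, hk]; group

theorem zP_le_fP [Finite G] (H : Subgroup G) (p : ℕ) [Fact p.Prime] : zP H p ≤ fP H p :=
  fun _ hz => ⟨hz.1, hz.2.2⟩

theorem fP_ne_bot [Finite G] (H : Subgroup G) (p : ℕ) [Fact p.Prime]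
    (hpd : p ∣ Nat.card (Cfsg.fittingOf H)) : fP H p ≠ ⊥ := by
  intro h
  apply zP_ne_bot H p hpd
  rw [eq_bot_iff, ← h]
  exact zP_le_fP H p

theorem dvd_of_fP_ne_bot [Finite G] (H : Subgroup G) (p : ℕ) [hp : Fact p.Prime]
    (hne : fP H p ≠ ⊥) : p ∣ Nat.card (Cfsg.fittingOf H) := by
  obtain ⟨k, hk⟩ := IsPGroup.iff_card.mp (fP_isPGroup H p)
  have hk0 : k ≠ 0 := by
    rintro rfl
    rw [pow_zero] at hk
    exact hne ((Subgroup.card_eq_one).mp hk)
  have h1 : p ∣ Nat.card (fP H p) := by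
    rw [hk]; exact dvd_pow_self p hk0
  exact h1.trans (Subgroup.card_dvd_of_le (fP_le H p))

theorem orderOf_coprime_of_pow {p q : ℕ} (hp : p.Prime) (hq : q.Prime) (hpq : p ≠ q) {a : G}
    (ha : ∃ k : ℕ, a ^ p ^ k = 1) : (orderOf a).Coprime q := by
  obtain ⟨k, hk⟩ := ha
  have h1 : orderOf a ∣ p ^ k := orderOf_dvd_of_pow_eq_one hk
  exact Nat.Coprime.coprime_dvd_left h1
    (Nat.Coprime.pow_left k ((Nat.coprime_primes hp hq).mpr hpq))

/-- elements of `F(H)` of coprime orders commute -/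
theorem fitting_commute [Finite G] (H : Subgroup G) {a b : G} (ha : a ∈ Cfsg.fittingOf H)
    (hb : b ∈ Cfsg.fittingOf H) (hab : (orderOf a).Coprime (orderOf b)) : a * b = b * a := by
  have := fittingOf_nilpotent H
  have h1 := commute_of_coprime_orderOf (⟨a, ha⟩ : ↥(Cfsg.fittingOf H)) ⟨b, hb⟩
    (by rw [Subgroup.orderOf_mk, Subgroup.orderOf_mk]; exact hab)
  have h2 := congrArg Subtype.val h1.eq
  simpa using h2

theorem fP_commute [Finite G] (H : Subgroup G) (p q : ℕ) [hp : Fact p.Prime] [hq : Fact q.Prime]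
    (hpq : p ≠ q) {a b : G} (ha : a ∈ fP H p) (hb : b ∈ fP H q) : a * b = b * a := by
  apply fitting_commute H ha.1 hb.1
  obtain ⟨l, hl⟩ := hb.2
  have h1 : orderOf b ∣ q ^ l := orderOf_dvd_of_pow_eq_one hl
  exact Nat.Coprime.coprime_dvd_right h1
    (Nat.Coprime.pow_right l (orderOf_coprime_of_pow hp.out hq.out hpq ha.2))

/-- `C_G(O_{q'}(F(H)))` -/
def cQ (H : Subgroup G) (q : ℕ) : Subgroup G :=
  Subgroup.centralizer {x | x ∈ Cfsg.fittingOf H ∧ (orderOf x).Coprime q}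

theorem mem_cQ_iff (H : Subgroup G) (q : ℕ) (c : G) :
    c ∈ cQ H q ↔ ∀ y ∈ Cfsg.fittingOf H, (orderOf y).Coprime q → y * c = c * y := by
  unfold cQ
  rw [Subgroup.mem_centralizer_iff]
  constructor
  · intro h y hy hyq
    exact h y ⟨hy, hyq⟩
  · rintro h y ⟨hy, hyq⟩
    exact h y hy hyq

theorem le_normalizer_cQ [Finite G] (H : Subgroup G) (q : ℕ) :
    H ≤ Subgroup.normalizer (cQ H q : Set G) := by
  intro h hh
  apply mem_normalizer_of_conjSub_le
  rintro _ ⟨c, hc, rfl⟩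
  have hc : c ∈ cQ H q := hc
  rw [mem_cQ_iff] at hc ⊢
  intro y hy hyq
  simp only [MulEquiv.coe_toMonoidHom, MulAut.conj_apply]
  have hF := le_normalizer_fittingOf H (H.inv_mem hh)
  have hy' : h⁻¹ * y * h⁻¹⁻¹ ∈ Cfsg.fittingOf H := (Subgroup.mem_normalizer_iff.mp hF y).mp hy
  have ho : orderOf (h⁻¹ * y * h⁻¹⁻¹) = orderOf y := by
    have := orderOf_injective (MulAut.conj h⁻¹).toMonoidHom (MulAut.conj h⁻¹).injective y
    simpa using this
  have h1 := hc _ hy' (ho ▸ hyq)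
  calc y * (h * c * h⁻¹) = h * ((h⁻¹ * y * h⁻¹⁻¹) * c) * h⁻¹ := by group
    _ = h * (c * (h⁻¹ * y * h⁻¹⁻¹)) * h⁻¹ := by rw [h1]
    _ = h * c * h⁻¹ * y := by group

theorem fP_le_cQ [Finite G] (H : Subgroup G) (q : ℕ) [hq : Fact q.Prime] : fP H q ≤ cQ H q := by
  intro a ha
  rw [mem_cQ_iff]
  intro y hy hyq
  apply fitting_commute H hy ha.1
  obtain ⟨l, hl⟩ := ha.2
  have h1 : orderOf a ∣ q ^ l := orderOf_dvd_of_pow_eq_one hl
  exact Nat.Coprime.coprime_dvd_right h1 (Nat.Coprime.pow_right l hyq)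

theorem cQ_commute_fP [Finite G] (H : Subgroup G) (p q : ℕ) [hp : Fact p.Prime] (hq : q.Prime)
    (hpq : p ≠ q) {a c : G} (ha : a ∈ fP H p) (hc : c ∈ cQ H q) : a * c = c * a :=
  (mem_cQ_iff H q c).mp hc a ha.1 (orderOf_coprime_of_pow hp.out hq hpq ha.2)

theorem cQ_le_centralizer_zP [Finite G] (H : Subgroup G) (p q : ℕ) (hp : p.Prime) (hq : q.Prime)
    (hpq : p ≠ q) : cQ H q ≤ Subgroup.centralizer (zP H p : Set G) := by
  intro c hc
  rw [Subgroup.mem_centralizer_iff]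
  intro z hz
  exact (mem_cQ_iff H q c).mp hc z hz.1 (orderOf_coprime_of_pow hp hq hpq hz.2.2)

/-- `C_G(O_{q'}(F)) ∩ C_G(O_q(F)) ≤ C_G(F)` -/
theorem cQ_inf_le [Finite G] (H : Subgroup G) (q : ℕ) [hq : Fact q.Prime] {c : G}
    (hc : c ∈ cQ H q) (hcq : ∀ f ∈ fP H q, f * c = c * f) :
    c ∈ Subgroup.centralizer (Cfsg.fittingOf H : Set G) := by
  rw [Subgroup.mem_centralizer_iff]
  intro y hy
  obtain ⟨u, v, hu, hv, huv, huk, hvc⟩ := exists_p_parts q hq.out y (orderOf_pos y)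
  have huF : u ∈ Cfsg.fittingOf H := (Subgroup.zpowers_le.mpr hy) hu
  have hvF : v ∈ Cfsg.fittingOf H := (Subgroup.zpowers_le.mpr hy) hv
  have h1 : u * c = c * u := hcq u ⟨huF, huk⟩
  have h2 : v * c = c * v := (mem_cQ_iff H q c).mp hc v hvF hvc
  rw [huv, mul_assoc, h2, ← mul_assoc, h1, mul_assoc]

section Coatom

variable [Finite G]

theorem coatom_solvable (hG : Cfsg.IsMinSimpleOddOrder G) (H : Subgroup G) (hH : IsCoatom H) :
    Group.IsSolvable H := hG.2.2.2 H hH.1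

theorem coatom_odd (hG : Cfsg.IsMinSimpleOddOrder G) (H : Subgroup G) :
    Odd (Nat.card H) := Odd.of_dvd_nat hG.1 (Subgroup.card_subgroup_dvd_card H)

/-- a proper nontrivial subgroup normalized by the maximal subgroup `H` has normalizer `H` -/
theorem normalizer_eq_of_coatom (hG : Cfsg.IsMinSimpleOddOrder G) (H : Subgroup G) (hH : IsCoatom H)
    (T : Subgroup G) (hT1 : T ≠ ⊥) (hT2 : T ≠ ⊤)
    (hHT : H ≤ Subgroup.normalizer (T : Set G)) : Subgroup.normalizer (T : Set G) = H := by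
  have hsimple : IsSimpleGroup G := hG.2.1
  have hne : Subgroup.normalizer (T : Set G) ≠ ⊤ := by
    intro htop
    have hn : T.Normal := Subgroup.normalizer_eq_top_iff.mp htop
    rcases hn.eq_bot_or_eq_top with h | h
    · exact hT1 h
    · exact hT2 h
  rcases eq_or_lt_of_le hHT with h | h
  · exact h.symm
  · exact absurd (hH.2 _ h) hne

theorem not_solvable_of_minSimple (hG : Cfsg.IsMinSimpleOddOrder G) : ¬ Group.IsSolvable G := by
  intro hs
  have hsimple : IsSimpleGroup G := hG.2.1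
  apply hG.2.2.1
  exact isMulCommutative_iff.mpr (IsSimpleGroup.comm_iff_isSolvable.mpr hs)

theorem coatom_hmax (hG : Cfsg.IsMinSimpleOddOrder G) (H : Subgroup G) (hH : IsCoatom H) :
    ∀ X : Subgroup G, Cfsg.IsLocalSubgroup X → H ≤ X → X = H := by
  rintro X ⟨p, T, hp, hTp, hT1, rfl⟩ hHX
  apply normalizer_eq_of_coatom hG H hH T hT1 _ hHX
  rintro rfl
  have : Fact p.Prime := ⟨hp⟩
  have hGp : IsPGroup p G := by
    intro g
    obtain ⟨k, hk⟩ := hTp ⟨g, Subgroup.mem_top g⟩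
    exact ⟨k, by simpa using congrArg Subtype.val hk⟩
  have hnil : Group.IsNilpotent G := hGp.isNilpotent
  exact not_solvable_of_minSimple hG inferInstance

theorem centralizer_zP_le' (hG : Cfsg.IsMinSimpleOddOrder G) (H : Subgroup G) (hH : IsCoatom H)
    (p : ℕ) [hp : Fact p.Prime] (hpd : p ∣ Nat.card (Cfsg.fittingOf H)) :
    Subgroup.centralizer (zP H p : Set G) ≤ H :=
  centralizer_zP_le H (coatom_hmax hG H hH) p hpd

/-- `C_H(F(H)) ≤ F(H)` -/
theorem inf_centralizer_le (hG : Cfsg.IsMinSimpleOddOrder G) (H : Subgroup G) (hH : IsCoatom H) :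
    H ⊓ Subgroup.centralizer (Cfsg.fittingOf H : Set G) ≤ Cfsg.fittingOf H := by
  have h1 := inf_le_fittingOf H H (coatom_solvable hG H hH)
    (inf_le_left.trans Subgroup.le_normalizer)
  intro x hx
  exact h1 (Subgroup.mem_inf.mpr ⟨hx, (Subgroup.mem_inf.mp hx).1⟩)

theorem cQ_le (hG : Cfsg.IsMinSimpleOddOrder G) (H : Subgroup G) (hH : IsCoatom H)
    (p q : ℕ) [hp : Fact p.Prime] (hq : q.Prime) (hpq : p ≠ q)
    (hpd : p ∣ Nat.card (Cfsg.fittingOf H)) : cQ H q ≤ H :=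
  (cQ_le_centralizer_zP H p q hp.out hq hpq).trans (centralizer_zP_le' hG H hH p hpd)

/-- normal `q'`-subgroups of `C_G(O_{q'}(F))` are central in it -/
theorem cQ_central (hG : Cfsg.IsMinSimpleOddOrder G) (H : Subgroup G) (hH : IsCoatom H)
    (p q : ℕ) [hp : Fact p.Prime] [hq : Fact q.Prime] (hpq : p ≠ q)
    (hpd : p ∣ Nat.card (Cfsg.fittingOf H))
    (N : Subgroup G) (hN : N ≤ cQ H q) (hKN : cQ H q ≤ Subgroup.normalizer (N : Set G))
    (hNq : (Nat.card N).Coprime q) : ∀ n ∈ N, ∀ k ∈ cQ H q, n * k = k * n := by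
  have hcH := cQ_le hG H hH p q hq.out hpq hpd
  -- `N` centralizes `O_q(F)`
  have h1 : ∀ n ∈ N, ∀ f ∈ fP H q, f * n = n * f := by
    intro n hn f hf
    have hcop : (Nat.card N).Coprime (Nat.card (fP H q)) := by
      obtain ⟨k, hk⟩ := IsPGroup.iff_card.mp (fP_isPGroup H q)
      rw [hk]
      exact Nat.Coprime.pow_right k hNq
    have hcN : f * n * f⁻¹ * n⁻¹ ∈ N := by
      have h2 : f * n * f⁻¹ ∈ N :=
        (Subgroup.mem_normalizer_iff.mp (hKN (fP_le_cQ H q hf)) n).mp hn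
      exact N.mul_mem h2 (N.inv_mem hn)
    have hcF : f * n * f⁻¹ * n⁻¹ ∈ fP H q := by
      have h2 : n * f⁻¹ * n⁻¹ ∈ fP H q :=
        (Subgroup.mem_normalizer_iff.mp (le_normalizer_fP H q (hcH (hN hn))) f⁻¹).mp
          ((fP H q).inv_mem hf)
      have e : f * n * f⁻¹ * n⁻¹ = f * (n * f⁻¹ * n⁻¹) := by group
      rw [e]
      exact (fP H q).mul_mem hf h2
    have h3 := Cfsg.Agent.Lib.Lead.inf_eq_bot_of_coprime' N (fP H q) hcop hcN hcF
    calc f * n = (f * n * f⁻¹ * n⁻¹) * (n * f) := by group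
      _ = n * f := by rw [h3, one_mul]
  intro n hn k hk
  have hnC := cQ_inf_le H q (hN hn) (h1 n hn)
  have hnF : n ∈ Cfsg.fittingOf H :=
    inf_centralizer_le hG H hH (Subgroup.mem_inf.mpr ⟨hcH (hN hn), hnC⟩)
  have hno : (orderOf n).Coprime q := by
    have h2 : orderOf n ∣ Nat.card N := by
      have := orderOf_dvd_natCard (⟨n, hn⟩ : ↥N)
      rwa [Subgroup.orderOf_mk] at this
    exact Nat.Coprime.coprime_dvd_left h2 hNq
  exact (mem_cQ_iff H q k).mp hk n hnF hno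

end Coatom

end Cfsg.Agent.Lib.Helper11.MaxSubB
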