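import Mathlib
import Cfsg.Agent.Lib.Helper11.MaxSubB

set_option autoImplicit false

namespace Cfsg.Agent.Lib.Helper11.MaxSubC

open Cfsg.Agent.Lib.Helper11 Cfsg.Agent.Lib.Helper11.MaxLocA Cfsg.Agent.Lib.Helper11.MaxLocB
  Cfsg.Agent.Lib.Helper11.MaxSubA Cfsg.Agent.Lib.Helper11.MaxSubB Cfsg.Agent.Lib.Helper18
  Cfsg.Agent.Lib.Helper1.GNPC3

variable {G : Type*} [Group G] [Finite G]

/-- a `p`-element of `F(L)` (inside `H`, centralizing `O_q(F(H))`) centralizes the `q`-elements of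
`C_G(O_{q'}(F(H)))` -/
theorem fP_commute_qelem (hG : Cfsg.IsMinSimpleOddOrder G) (H L : Subgroup G) (hH : IsCoatom H)
    (q p0 : ℕ) [hq : Fact q.Prime] [hp0 : Fact p0.Prime] (hp0q : p0 ≠ q)
    (hp0 : p0 ∣ Nat.card (Cfsg.fittingOf H))
    (p : ℕ) [hp : Fact p.Prime] (hpq : p ≠ q)
    (hEH : fP L p ≤ H)
    (hcomm : ∀ a ∈ fP L p, ∀ b ∈ fP H q, a * b = b * a)
    (a : G) (ha : a ∈ fP L p) (x : G) (hx : x ∈ cQ H q) (hxq : ∃ m : ℕ, x ^ q ^ m = 1) :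
    a * x = x * a := by
  obtain ⟨F, hF⟩ : ∃ F : Subgroup G, F = Cfsg.fittingOf H := ⟨_, rfl⟩
  have hcH := cQ_le hG H hH p0 q hq.out hp0q hp0
  have haH : a ∈ H := hEH ha
  have hxH : x ∈ H := hcH hx
  have hHF : H ≤ Subgroup.normalizer (F : Set G) := hF ▸ le_normalizer_fittingOf H
  apply trivAct q hq.out (F ⊓ Subgroup.centralizer (F : Set G)) a x
  · intro u hu v hv
    exact (Subgroup.mem_centralizer_iff.mp (Subgroup.mem_inf.mp hv).2 u (Subgroup.mem_inf.mp hu).1)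
  · intro u hu
    obtain ⟨huF, huC⟩ := Subgroup.mem_inf.mp hu
    refine Subgroup.mem_inf.mpr ⟨(Subgroup.mem_normalizer_iff.mp (hHF haH) u).mp huF, ?_⟩
    rw [Subgroup.mem_centralizer_iff]
    intro f hf
    have hf' : a⁻¹ * f * a⁻¹⁻¹ ∈ F :=
      (Subgroup.mem_normalizer_iff.mp (hHF (H.inv_mem haH)) f).mp hf
    have h1 := Subgroup.mem_centralizer_iff.mp huC _ hf'
    calc f * (a * u * a⁻¹) = a * ((a⁻¹ * f * a⁻¹⁻¹) * u) * a⁻¹ := by group
      _ = a * (u * (a⁻¹ * f * a⁻¹⁻¹)) * a⁻¹ := by rw [h1]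
      _ = a * u * a⁻¹ * f := by group
  · -- the commutator lies in `Z(F)`
    have hc1 : a * x * a⁻¹ * x⁻¹ ∈ cQ H q := by
      have h1 : a * x * a⁻¹ ∈ cQ H q :=
        (Subgroup.mem_normalizer_iff.mp (le_normalizer_cQ H q haH) x).mp hx
      exact (cQ H q).mul_mem h1 ((cQ H q).inv_mem hx)
    have hc2 : ∀ f ∈ fP H q, f * (a * x * a⁻¹ * x⁻¹) = (a * x * a⁻¹ * x⁻¹) * f := by
      intro f hf
      obtain ⟨f1, hf1⟩ : ∃ f1 : G, f1 = x⁻¹ * f * x⁻¹⁻¹ := ⟨_, rfl⟩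
      have hf1m : f1 ∈ fP H q := by
        rw [hf1]
        exact (Subgroup.mem_normalizer_iff.mp (le_normalizer_fP H q (H.inv_mem hxH)) f).mp hf
      have hff1 : f = x * f1 * x⁻¹ := by rw [hf1]; group
      have h1 : a * f1 = f1 * a := hcomm a ha f1 hf1m
      have h2 : a * f = f * a := hcomm a ha f hf
      have h3 : a⁻¹ * f1 = f1 * a⁻¹ := by
        calc a⁻¹ * f1 = a⁻¹ * (f1 * a) * a⁻¹ := by group
          _ = a⁻¹ * (a * f1) * a⁻¹ := by rw [h1]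
          _ = f1 * a⁻¹ := by group
      symm
      calc a * x * a⁻¹ * x⁻¹ * f = a * x * a⁻¹ * x⁻¹ * (x * f1 * x⁻¹) := by rw [← hff1]
        _ = a * x * (a⁻¹ * f1) * x⁻¹ := by group
        _ = a * x * (f1 * a⁻¹) * x⁻¹ := by rw [h3]
        _ = a * (x * f1 * x⁻¹) * x * a⁻¹ * x⁻¹ := by group
        _ = (a * f) * x * a⁻¹ * x⁻¹ := by rw [← hff1]
        _ = (f * a) * x * a⁻¹ * x⁻¹ := by rw [h2]
        _ = f * (a * x * a⁻¹ * x⁻¹) := by group
    have hc3 := cQ_inf_le H q hc1 hc2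
    have hc4 : a * x * a⁻¹ * x⁻¹ ∈ Cfsg.fittingOf H :=
      inf_centralizer_le hG H hH (Subgroup.mem_inf.mpr ⟨hcH hc1, hc3⟩)
    rw [hF]
    exact Subgroup.mem_inf.mpr ⟨hc4, hc3⟩
  · intro u hu hk
    have huF : u ∈ Cfsg.fittingOf H := hF ▸ (Subgroup.mem_inf.mp hu).1
    exact hcomm a ha u ⟨huF, hk⟩
  · intro u hu huq
    have huF : u ∈ Cfsg.fittingOf H := hF ▸ (Subgroup.mem_inf.mp hu).1
    exact ((mem_cQ_iff H q x).mp hx u huF huq).symm
  · exact hxq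
  · exact orderOf_coprime_of_pow hp.out hq.out hpq ha.2
  · intro u _
    exact orderOf_pos u

/-- `q`-subgroups of `C_G(O_{q'}(F(H)))` lie in `C_G(O_{q'}(F(L)))` -/
theorem qsub_le_cQ (hG : Cfsg.IsMinSimpleOddOrder G) (H L : Subgroup G) (hH : IsCoatom H)
    (q p0 : ℕ) [hq : Fact q.Prime] [hp0 : Fact p0.Prime] (hp0q : p0 ≠ q)
    (hp0 : p0 ∣ Nat.card (Cfsg.fittingOf H))
    (hEH : ∀ (p : ℕ) [Fact p.Prime], fP L p ≤ H)
    (hcomm : ∀ (p : ℕ) [Fact p.Prime], p ≠ q → ∀ a ∈ fP L p, ∀ b ∈ fP H q, a * b = b * a)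
    (S : Subgroup G) (hS : S ≤ cQ H q) (hSq : IsPGroup q S) : S ≤ cQ L q := by
  intro x hxS
  rw [mem_cQ_iff]
  intro y hy hyq
  have hxq : ∃ m : ℕ, x ^ q ^ m = 1 := by
    obtain ⟨m, hm⟩ := hSq ⟨x, hxS⟩
    exact ⟨m, by simpa using congrArg Subtype.val hm⟩
  have key : y ∈ Subgroup.centralizer ({x} : Set G) := by
    apply gl_mem _ (orderOf y) y rfl (orderOf_pos y)
    intro h hh p hp hpd hk
    have : Fact p.Prime := ⟨hp⟩
    have hpq : p ≠ q := by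
      rintro rfl
      exact hp.one_lt.ne' (Nat.Coprime.eq_one_of_dvd hyq.symm hpd)
    have hhE : h ∈ fP L p := ⟨(Subgroup.zpowers_le.mpr hy) hh, hk⟩
    have h1 := fP_commute_qelem hG H L hH q p0 hp0q hp0 p hpq (hEH p) (hcomm p hpq) h hhE x
      (hS hxS) hxq
    rw [Subgroup.mem_centralizer_iff]
    intro g hg
    rw [Set.mem_singleton_iff] at hg
    rw [hg]
    exact h1.symm
  rw [Subgroup.mem_centralizer_iff] at key
  exact (key x rfl).symm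

/-- `Z(J(S))` is normal in `H` for a Sylow `q`-subgroup `S` of `C_G(O_{q'}(F(H)))` -/
theorem le_normalizer_ZE (hG : Cfsg.IsMinSimpleOddOrder G) (H : Subgroup G) (hH : IsCoatom H)
    (p q : ℕ) [hp : Fact p.Prime] [hq : Fact q.Prime] (hpq : p ≠ q)
    (hpd : p ∣ Nat.card (Cfsg.fittingOf H))
    (S : Subgroup G) (hS : IsSylowIn q S (cQ H q)) :
    H ≤ Subgroup.normalizer ((ZE q S : Subgroup G) : Set G) := by
  have hcH := cQ_le hG H hH p q hq.out hpq hpd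
  have hHs := coatom_solvable hG H hH
  apply zj_frattini q (cQ H q) S H
    (Group.isSolvable_of_isSolvable_injective (Subgroup.inclusion_injective hcH))
    (coatom_odd hG _) hS
  · exact cQ_central hG H hH p q hpq hpd
  · exact le_normalizer_cQ H q

end Cfsg.Agent.Lib.Helper11.MaxSubC
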