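import Mathlib
import Cfsg.Agent.Lib.Lead.Coprime
import Cfsg.Agent.Lib.Helper11.TransEngine

set_option autoImplicit false
open scoped Pointwise

namespace Cfsg.Agent.Lib.Helper11

open Cfsg.Agent.Lib.Lead Cfsg.Agent.S0001

/-- external form: if `A K = S K` is the whole group with `K` normal and `(|A|, |K|) = 1`, then a
`K`-conjugate of `A` lies in `S` -/
theorem exists_conj_le_ext {Γ : Type*} [Group Γ] [Finite Γ] (A K : Subgroup Γ) [K.Normal]
    (hsup : A ⊔ K = ⊤) (hcop : (Nat.card A).Coprime (Nat.card K))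
    (hsolv : Group.IsSolvable A ∨ Group.IsSolvable K) (S : Subgroup Γ) (hfr : S ⊔ K = ⊤) :
    ∃ k ∈ K, ∀ a ∈ A, k * a * k⁻¹ ∈ S := by
  have hcompl : Subgroup.IsComplement' K A := isComplement'_of_sup_eq_top K A hsup hcop
  have hidx : K.index = Nat.card A := hcompl.symm.index_eq_card
  have hAK : A ≤ Subgroup.normalizer (K : Set Γ) := by
    rw [Subgroup.normalizer_eq_top_iff.mpr inferInstance]; exact le_top
  have hidxS : (K.subgroupOf S).index = Nat.card A := by
    change K.relIndex S = _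
    rw [← Subgroup.relIndex_sup_right, hfr, Subgroup.relIndex_top_right, hidx]
  have hcopS : (Nat.card (K.subgroupOf S)).Coprime (K.subgroupOf S).index := by
    rw [hidxS]
    exact (Nat.Coprime.coprime_dvd_right (card_subgroupOf_dvd K S) hcop).symm
  obtain ⟨B', hB'⟩ := Subgroup.exists_left_complement'_of_coprime hcopS
  have hcardB' : Nat.card B' = Nat.card A := by rw [← hidxS]; exact hB'.index_eq_card.symm
  have hcardB : Nat.card (B'.map S.subtype) = Nat.card A := by
    rw [Subgroup.card_map_of_injective S.subtype_injective, hcardB']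
  have hBS : B'.map S.subtype ≤ S := by
    rintro _ ⟨b, _, rfl⟩; exact b.2
  obtain ⟨k, hk, hkA⟩ := hall_conj A K hAK hcop hsolv (B'.map S.subtype)
    (by rw [hsup]; exact le_top) hcardB
  refine ⟨k, hk, ?_⟩
  intro a ha
  apply hBS
  rw [← hkA, Subgroup.mem_pointwise_smul_iff_inv_smul_mem]
  simp only [MulAut.smul_def, MulAut.conj_inv_apply]
  have : k⁻¹ * (k * a * k⁻¹) * k = a := by group
  rw [this]; exact ha

variable {G : Type*} [Group G]

theorem mem_normalizer_iff_conjSub {g : G} {X : Subgroup G} :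
    g ∈ Subgroup.normalizer (X : Set G) ↔ conjSub g X = X :=
  Subgroup.mem_normalizer_iff_map_conj_eq

/-- the existence part of Glauberman's lemma for the conjugation action on subgroups -/
theorem exists_invariant_conj [Finite G] (A K : Subgroup G)
    (hAK : A ≤ Subgroup.normalizer (K : Set G))
    (hcop : (Nat.card A).Coprime (Nat.card K)) (hsolv : Group.IsSolvable A ∨ Group.IsSolvable K)
    (X : Subgroup G) (horb : ∀ a ∈ A, ∃ k ∈ K, conjSub a X = conjSub k X) :
    ∃ k ∈ K, A ≤ Subgroup.normalizer ((conjSub k X : Subgroup G) : Set G) := by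
  have hKn : (K.subgroupOf (A ⊔ K)).Normal := Subgroup.normal_subgroupOf_sup_of_le_normalizer hAK
  have hA' : A ≤ A ⊔ K := le_sup_left
  have hK' : K ≤ A ⊔ K := le_sup_right
  have cK : Nat.card (K.subgroupOf (A ⊔ K)) = Nat.card K := card_subgroupOf_of_le hK'
  have cA : Nat.card (A.subgroupOf (A ⊔ K)) = Nat.card A := card_subgroupOf_of_le hA'
  have hsup : A.subgroupOf (A ⊔ K) ⊔ K.subgroupOf (A ⊔ K) = ⊤ := by
    rw [← Subgroup.subgroupOf_sup hA' hK', Subgroup.subgroupOf_self]
  have hcop' : (Nat.card (A.subgroupOf (A ⊔ K))).Coprime (Nat.card (K.subgroupOf (A ⊔ K))) := by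
    rw [cK, cA]; exact hcop
  have hsolv' : Group.IsSolvable (A.subgroupOf (A ⊔ K)) ∨
      Group.IsSolvable (K.subgroupOf (A ⊔ K)) := by
    rcases hsolv with h | h
    · exact Or.inl (solvable_subgroupOf A _)
    · exact Or.inr (solvable_subgroupOf K _)
  have hfr : (Subgroup.normalizer (X : Set G)).subgroupOf (A ⊔ K) ⊔ K.subgroupOf (A ⊔ K) = ⊤ := by
    rw [eq_top_iff, ← hsup]
    apply sup_le _ le_sup_right
    intro a ha
    rw [Subgroup.mem_subgroupOf] at ha
    obtain ⟨k, hk, hak⟩ := horb (a : G) ha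
    have hn : k⁻¹ * (a : G) ∈ Subgroup.normalizer (X : Set G) := by
      rw [mem_normalizer_iff_conjSub, conjSub_mul, hak, conjSub_inv_conjSub]
    have hmem : k⁻¹ * (a : G) ∈ A ⊔ K :=
      Subgroup.mul_mem _ (Subgroup.inv_mem _ (hK' hk)) a.2
    have e : a = (⟨k, hK' hk⟩ : ↥(A ⊔ K)) * ⟨k⁻¹ * (a : G), hmem⟩ := by
      apply Subtype.ext
      simp
    rw [e]
    apply Subgroup.mul_mem
    · apply Subgroup.mem_sup_right
      rw [Subgroup.mem_subgroupOf]
      exact hk
    · apply Subgroup.mem_sup_left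
      rw [Subgroup.mem_subgroupOf]
      exact hn
  obtain ⟨k, hk, hkA⟩ := exists_conj_le_ext (A.subgroupOf (A ⊔ K)) (K.subgroupOf (A ⊔ K)) hsup
    hcop' hsolv' _ hfr
  rw [Subgroup.mem_subgroupOf] at hk
  refine ⟨(k : G)⁻¹, K.inv_mem hk, ?_⟩
  intro a ha
  have h1 := hkA ⟨a, hA' ha⟩ (by rw [Subgroup.mem_subgroupOf]; exact ha)
  rw [Subgroup.mem_subgroupOf] at h1
  have h2 : (k : G) * a * (k : G)⁻¹ ∈ Subgroup.normalizer (X : Set G) := by
    simpa using h1
  rw [mem_normalizer_iff_conjSub] at h2 ⊢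
  rw [← conjSub_mul]
  have e : a * (k : G)⁻¹ = (k : G)⁻¹ * ((k : G) * a * (k : G)⁻¹) := by group
  rw [e, conjSub_mul, h2]

end Cfsg.Agent.Lib.Helper11
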