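import Mathlib
import Cfsg.Prelude.Def_OddOrderLocal
import Cfsg.Agent.Lib.Helper11.TransHyp
import Cfsg.Agent.Lib.Helper11.GlaubermanFix

set_option autoImplicit false
open scoped Pointwise commutatorElement

namespace Cfsg.Agent.Lib.Helper11

variable {G : Type*} [Group G]

theorem conjSub_eq_smul (k : G) (X : Subgroup G) : conjSub k X = MulAut.conj k • X := rfl

theorem conj_mem_of_mem_normalizer {A : Subgroup G} {g : G}
    (hg : g ∈ Subgroup.normalizer (A : Set G)) {a : G} (ha : a ∈ A) : g⁻¹ * a * g ∈ A := by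
  have := (Subgroup.mem_normalizer_iff.mp (Subgroup.inv_mem _ hg) a).mp ha
  simpa using this

/-- conjugating by an element normalizing `A` preserves `A`-invariance -/
theorem le_normalizer_conjSub_of_normalizer {A H : Subgroup G}
    (hAH : A ≤ Subgroup.normalizer (H : Set G)) {g : G}
    (hg : g ∈ Subgroup.normalizer (A : Set G)) :
    A ≤ Subgroup.normalizer ((conjSub g H : Subgroup G) : Set G) := by
  intro a ha
  rw [mem_normalizer_iff_conjSub, ← conjSub_mul]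
  have e : a * g = g * (g⁻¹ * a * g) := by group
  rw [e, conjSub_mul, mem_normalizer_iff_conjSub.mp (hAH (conj_mem_of_mem_normalizer hg ha))]

theorem IsMaxInv.conj_normalizer {A : Subgroup G} {q : ℕ} {Q : Subgroup G} (h : IsMaxInv A q Q)
    {g : G} (hg : g ∈ Subgroup.normalizer (A : Set G)) : IsMaxInv A q (conjSub g Q) := by
  refine ⟨isPGroup_conjSub h.1 g, le_normalizer_conjSub_of_normalizer h.2.1 hg, ?_⟩
  intro R hR hAR hle
  have h1 : Q ≤ conjSub g⁻¹ R := by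
    have := conjSub_mono (c := g⁻¹) hle
    rwa [conjSub_inv_conjSub] at this
  have h2 := h.2.2 (conjSub g⁻¹ R) (isPGroup_conjSub hR _)
    (le_normalizer_conjSub_of_normalizer hAR (Subgroup.inv_mem _ hg)) h1
  rw [← h2, conjSub_conjSub_inv]

theorem conjSub_centralizer_le {A : Subgroup G} {g : G}
    (hg : g ∈ Subgroup.normalizer (A : Set G)) :
    conjSub g (Subgroup.centralizer (A : Set G)) ≤ Subgroup.centralizer (A : Set G) := by
  intro x hx
  rw [mem_conjSub] at hx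
  rw [Subgroup.mem_centralizer_iff]
  intro a ha
  have ha' : g⁻¹ * a * g ∈ A := conj_mem_of_mem_normalizer hg ha
  have h1 := (Subgroup.mem_centralizer_iff.mp hx) _ ha'
  calc a * x = g * ((g⁻¹ * a * g) * (g⁻¹ * x * g)) * g⁻¹ := by group
    _ = g * ((g⁻¹ * x * g) * (g⁻¹ * a * g)) * g⁻¹ := by rw [h1]
    _ = x * a := by group

theorem normalizer_le_normalizer_centralizer (A : Subgroup G) :
    Subgroup.normalizer (A : Set G) ≤
      Subgroup.normalizer ((Subgroup.centralizer (A : Set G) : Subgroup G) : Set G) := by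
  intro g hg
  rw [mem_normalizer_iff_conjSub]
  apply le_antisymm (conjSub_centralizer_le hg)
  have := conjSub_mono (c := g) (conjSub_centralizer_le (Subgroup.inv_mem _ hg))
  rwa [conjSub_conjSub_inv] at this

variable [Finite G]

theorem conjSub_piCoreOf_le (π : Set ℕ) (X : Subgroup G) {g : G}
    (hg : g ∈ Subgroup.normalizer (X : Set G)) :
    conjSub g (Cfsg.piCoreOf π X) ≤ Cfsg.piCoreOf π X := by
  apply le_piCoreOf
  · have := conjSub_mono (c := g) (piCoreOf_le π X)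
    rwa [mem_normalizer_iff_conjSub.mp hg] at this
  · exact le_normalizer_conjSub_of_normalizer (le_normalizer_piCoreOf π X) hg
  · rw [card_conjSub]
    exact piCoreOf_piNum π X

theorem normalizer_le_normalizer_piCoreOf (π : Set ℕ) (X : Subgroup G) :
    Subgroup.normalizer (X : Set G) ≤
      Subgroup.normalizer ((Cfsg.piCoreOf π X : Subgroup G) : Set G) := by
  intro g hg
  rw [mem_normalizer_iff_conjSub]
  apply le_antisymm (conjSub_piCoreOf_le π X hg)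
  have := conjSub_mono (c := g) (conjSub_piCoreOf_le π X (Subgroup.inv_mem _ hg))
  rwa [conjSub_conjSub_inv] at this

/-- `N(A)` normalizes `O_π(C(A))` -/
theorem normalizer_le_normalizer_piCoreOf_centralizer (π : Set ℕ) (A : Subgroup G) :
    Subgroup.normalizer (A : Set G) ≤ Subgroup.normalizer
      ((Cfsg.piCoreOf π (Subgroup.centralizer (A : Set G)) : Subgroup G) : Set G) :=
  (normalizer_le_normalizer_centralizer A).trans (normalizer_le_normalizer_piCoreOf π _)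

/-- numbers whose primes divide `n` are coprime to `π(n)'`-numbers -/
theorem coprime_of_primes_dvd {n m k : ℕ} (hm : ∀ r : ℕ, r.Prime → r ∣ m → r ∣ n)
    (hk : PiNum (Cfsg.primesNotDvd n) k) : m.Coprime k := by
  apply Nat.coprime_of_dvd
  intro r hr hrm hrk
  exact (hk r hr hrk).2 (hm r hr hrm)

/-- part (a): `O_{π'}(C(A)) ∩ C(P) = O_{π'}(C(P))` for `A ≤ P` -/
theorem piCoreOf_centralizer_inf {A : Subgroup G} (hA : Cfsg.TransitivityHypothesis A)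
    (hNA : Subgroup.normalizer (A : Set G) ≠ ⊤) {P : Subgroup G} (hAP : A ≤ P) :
    Cfsg.piCoreOf (Cfsg.primesNotDvd (Nat.card A)) (Subgroup.centralizer (A : Set G)) ⊓
      Subgroup.centralizer (P : Set G) =
    Cfsg.piCoreOf (Cfsg.primesNotDvd (Nat.card A)) (Subgroup.centralizer (P : Set G)) := by
  have hCC : Subgroup.centralizer (P : Set G) ≤ Subgroup.centralizer (A : Set G) :=
    Subgroup.centralizer_le (by exact_mod_cast hAP)
  apply le_antisymm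
  · apply le_piCoreOf inf_le_right
    · apply le_normalizer_inf'
      · exact hCC.trans (le_normalizer_piCoreOf _ _)
      · exact Subgroup.le_normalizer
    · exact (piCoreOf_piNum _ _).of_dvd (Subgroup.card_dvd_of_le inf_le_left)
  · apply le_inf _ (piCoreOf_le _ _)
    have h1 := piCoreOf_inf_centralizer_le hA hNA
      (piCoreOf_piNum (Cfsg.primesNotDvd (Nat.card A)) (Subgroup.centralizer (P : Set G)))
    exact (le_inf le_rfl ((piCoreOf_le _ _).trans hCC)).trans h1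

/-- part (c), nontrivial case -/
theorem isMaxInv_of_isMaxInv_overgroup [IsSimpleGroup G]
    (hsolv : ∀ H : Subgroup G, H ≠ ⊤ → Group.IsSolvable H)
    {A : Subgroup G} (hA : Cfsg.TransitivityHypothesis A) (q : ℕ) [Fact q.Prime]
    (hqA : ¬ q ∣ Nat.card A) {P : Subgroup G} (hAP : A ≤ P)
    (hPπ : ∀ r : ℕ, r.Prime → r ∣ Nat.card P → r ∣ Nat.card A)
    {Q : Subgroup G} (hQ : IsMaxInv P q Q) (hQne : Q ≠ ⊥) : IsMaxInv A q Q := by
  have hq : q.Prime := Fact.out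
  have hqπ : q ∈ Cfsg.primesNotDvd (Nat.card A) := ⟨hq, hqA⟩
  have hQtop : Q ≠ ⊤ := by
    intro h
    apply hqA
    have hAq : IsPGroup q A := hQ.1.to_le (h ▸ le_top)
    obtain ⟨k, hk⟩ := (IsPGroup.iff_card).mp hAq
    have hk0 : k ≠ 0 := by
      rintro rfl
      rw [pow_zero] at hk
      exact hA.1 ((Subgroup.card_eq_one).mp hk)
    rw [hk]
    exact dvd_pow_self q hk0
  obtain ⟨N, hN⟩ : ∃ N : Subgroup G, N = Subgroup.normalizer (Q : Set G) := ⟨_, rfl⟩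
  have hNtop : N ≠ ⊤ := hN ▸ normalizer_ne_top_of_simple hQne hQtop
  have hPN : P ≤ N := hN ▸ hQ.2.1
  have hAN : A ≤ N := hAP.trans hPN
  have hQN : Q ≤ N := hN ▸ Subgroup.le_normalizer
  obtain ⟨Y, hYdef⟩ : ∃ Y : Subgroup G, Y = Cfsg.piCoreOf (Cfsg.primesNotDvd (Nat.card A)) N :=
    ⟨_, rfl⟩
  have hYN : Y ≤ N := hYdef ▸ piCoreOf_le _ N
  have hYπ : PiNum (Cfsg.primesNotDvd (Nat.card A)) (Nat.card Y) := hYdef ▸ piCoreOf_piNum _ N
  have hPY : P ≤ Subgroup.normalizer (Y : Set G) := hYdef ▸ hPN.trans (le_normalizer_piCoreOf _ N)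
  have hQY : Q ≤ Y := hYdef ▸ le_piCoreOf_of_transHyp hA hNtop hAN hQN
    (piNum_of_isPGroup hq hqπ hQ.1) (hAP.trans hQ.2.1)
  have hcop : (Nat.card P).Coprime (Nat.card Y) := coprime_of_primes_dvd hPπ hYπ
  have hNs : Group.IsSolvable N := hsolv N hNtop
  have hYs : Group.IsSolvable Y :=
    Group.isSolvable_of_isSolvable_injective (Subgroup.inclusion_injective hYN)
  obtain ⟨S, hQS, hPS⟩ := Cfsg.Agent.S0025.result P Y hPY hcop (Or.inr hYs) q Q hQY hQ.1 hQ.2.1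
  have hSQ : (S : Subgroup Y).map Y.subtype = Q := hQ.2.2 _ (S.isPGroup'.map _) hPS hQS
  refine ⟨hQ.1, hAP.trans hQ.2.1, ?_⟩
  intro R hR hAR hle
  by_contra hne
  have hlt : Q < R := lt_of_le_of_ne hle (Ne.symm hne)
  obtain ⟨x, hxR, hxN, hxQ⟩ := Cfsg.Agent.Lib.Lead.exists_mem_normalizer_not_mem Q R hlt
    hR.isNilpotent
  obtain ⟨V, hV⟩ : ∃ V : Subgroup G, V = N ⊓ R := ⟨_, rfl⟩
  have hVq : IsPGroup q V := hR.to_le (hV ▸ inf_le_right)
  have hAV : A ≤ Subgroup.normalizer (V : Set G) :=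
    hV ▸ le_normalizer_inf' (hAN.trans Subgroup.le_normalizer) hAR
  have hVY : V ≤ Y := hYdef ▸ le_piCoreOf_of_transHyp hA hNtop hAN (hV ▸ inf_le_left)
    (piNum_of_isPGroup hq hqπ hVq) hAV
  have hQV : Q ≤ V := hV ▸ le_inf hQN hle
  have hxV : x ∈ V := hV ▸ ⟨hN ▸ hxN, hxR⟩
  have hVS : V.subgroupOf Y = (S : Subgroup Y) := by
    apply S.is_maximal' hVq.comap_subtype
    intro s hs
    change (s : G) ∈ V
    apply hQV
    rw [← hSQ]
    exact ⟨s, hs, rfl⟩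
  apply hxQ
  rw [← hSQ]
  refine ⟨⟨x, hVY hxV⟩, ?_, rfl⟩
  rw [SetLike.mem_coe, ← hVS, Subgroup.mem_subgroupOf]
  exact hxV

/-- if `P` normalizes `A` and has no nontrivial invariant `q`-subgroups then neither has `A` -/
theorem eq_bot_of_isMaxInv_bot
    (hsolv : ∀ H : Subgroup G, H ≠ ⊤ → Group.IsSolvable H)
    {A : Subgroup G} (q : ℕ) {P : Subgroup G} (hP : P ≠ ⊤)
    (hPπ : ∀ r : ℕ, r.Prime → r ∣ Nat.card P → r ∣ Nat.card A)
    (hPA : P ≤ Subgroup.normalizer (A : Set G))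
    (htr : ∀ Q₁ Q₂ : Subgroup G, IsMaxInv A q Q₁ → IsMaxInv A q Q₂ →
      ∃ c ∈ Cfsg.piCoreOf (Cfsg.primesNotDvd (Nat.card A)) (Subgroup.centralizer (A : Set G)),
        Q₂ = conjSub c Q₁)
    (hbot : IsMaxInv P q ⊥) {Q₁ : Subgroup G} (h₁ : IsMaxInv A q Q₁) : Q₁ = ⊥ := by
  obtain ⟨K, hK⟩ : ∃ K : Subgroup G, K =
    Cfsg.piCoreOf (Cfsg.primesNotDvd (Nat.card A)) (Subgroup.centralizer (A : Set G)) := ⟨_, rfl⟩
  rw [← hK] at htr
  have hPK : P ≤ Subgroup.normalizer (K : Set G) :=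
    hK ▸ hPA.trans (normalizer_le_normalizer_piCoreOf_centralizer _ A)
  have hcop : (Nat.card P).Coprime (Nat.card K) :=
    coprime_of_primes_dvd hPπ (hK ▸ piCoreOf_piNum _ _)
  have hPs : Group.IsSolvable P := hsolv P hP
  obtain ⟨k, hk, hPk⟩ := exists_invariant_conj P K hPK hcop (Or.inl hPs) Q₁ (by
    intro x hx
    obtain ⟨c, hc, e⟩ := htr Q₁ (conjSub x Q₁) h₁ (h₁.conj_normalizer (hPA hx))
    exact ⟨c, hc, e⟩)
  have h1 : conjSub k Q₁ = ⊥ := hbot.2.2 _ (isPGroup_conjSub h₁.1 k) hPk bot_le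
  have h2 := congrArg (conjSub k⁻¹) h1
  rw [conjSub_inv_conjSub] at h2
  rw [h2]
  unfold conjSub
  exact Subgroup.map_bot _

/-- the data carried along a subnormal chain -/
def GoodFor (π : Set ℕ) (q : ℕ) (B : Subgroup G) : Prop :=
  Cfsg.TransitivityHypothesis B ∧ Cfsg.primesNotDvd (Nat.card B) = π ∧
    ∀ Q₁ Q₂ : Subgroup G, IsMaxInv B q Q₁ → IsMaxInv B q Q₂ →
      ∃ c ∈ Cfsg.piCoreOf π (Subgroup.centralizer (B : Set G)), Q₂ = conjSub c Q₁

theorem transHyp_of_le {A : Subgroup G} (hA : Cfsg.TransitivityHypothesis A) {P : Subgroup G}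
    (hAP : A ≤ P) (hP : P ≠ ⊤)
    (hPπ : ∀ r : ℕ, r.Prime → r ∣ Nat.card P → r ∣ Nat.card A) :
    Cfsg.primesNotDvd (Nat.card P) = Cfsg.primesNotDvd (Nat.card A) ∧
      Cfsg.TransitivityHypothesis P := by
  have hset : Cfsg.primesNotDvd (Nat.card P) = Cfsg.primesNotDvd (Nat.card A) := by
    ext r
    unfold Cfsg.primesNotDvd
    simp only [Set.mem_ofPred_eq]
    constructor
    · rintro ⟨hr, h⟩
      exact ⟨hr, fun hd => h (hd.trans (Subgroup.card_dvd_of_le hAP))⟩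
    · rintro ⟨hr, h⟩
      exact ⟨hr, fun hd => h (hPπ r hr hd)⟩
  refine ⟨hset, ?_, hP, ?_⟩
  · intro h
    apply hA.1
    rw [eq_bot_iff, ← h]
    exact hAP
  · intro X hX hPX
    rw [hset]
    apply le_antisymm
    · apply sSup_le
      rintro Y ⟨hYX, hYπ, hPY⟩
      exact le_piCoreOf_of_transHyp hA hX (hAP.trans hPX) hYX hYπ (hAP.trans hPY)
    · apply le_sSup
      exact ⟨piCoreOf_le _ X, piCoreOf_piNum _ X, hPX.trans (le_normalizer_piCoreOf _ X)⟩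

/-- one normal step -/
theorem normal_step [IsSimpleGroup G]
    (hsolv : ∀ H : Subgroup G, H ≠ ⊤ → Group.IsSolvable H) (π : Set ℕ) (q : ℕ) [Fact q.Prime]
    (hqπ : q ∈ π) {B P : Subgroup G} (hB : GoodFor π q B) (hBP : B ≤ P)
    (hPB : P ≤ Subgroup.normalizer (B : Set G)) (hP : P ≠ ⊤)
    (hPπ : ∀ r : ℕ, r.Prime → r ∣ Nat.card P → r ∉ π) :
    GoodFor π q P ∧ (∀ Q : Subgroup G, IsMaxInv P q Q → IsMaxInv B q Q) ∧
      Cfsg.piCoreOf π (Subgroup.centralizer (B : Set G)) ⊓ Subgroup.centralizer (P : Set G) =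
        Cfsg.piCoreOf π (Subgroup.centralizer (P : Set G)) := by
  obtain ⟨hBT, hπ, htr⟩ := hB
  subst hπ
  have hqB : ¬ q ∣ Nat.card B := hqπ.2
  have hPπ' : ∀ r : ℕ, r.Prime → r ∣ Nat.card P → r ∣ Nat.card B := by
    intro r hr hd
    by_contra hn
    exact hPπ r hr hd ⟨hr, hn⟩
  have hNB : Subgroup.normalizer (B : Set G) ≠ ⊤ := normalizer_ne_top_of_simple hBT.1 hBT.2.1
  obtain ⟨hset, hPT⟩ := transHyp_of_le hBT hBP hP hPπ'
  have ha := piCoreOf_centralizer_inf hBT hNB hBP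
  have hc : ∀ Q : Subgroup G, IsMaxInv P q Q → IsMaxInv B q Q := by
    intro Q hQ
    by_cases hQne : Q = ⊥
    · subst hQne
      refine ⟨hQ.1, hBP.trans hQ.2.1, ?_⟩
      intro R hR hBR _
      obtain ⟨Q₁, hQ₁, hRQ₁⟩ := exists_isMaxInv_ge B q R hR hBR
      have := eq_bot_of_isMaxInv_bot hsolv q hP hPπ' hPB htr hQ hQ₁
      rw [eq_bot_iff, ← this]
      exact hRQ₁
    · exact isMaxInv_of_isMaxInv_overgroup hsolv hBT q hqB hBP hPπ' hQ hQne
  refine ⟨⟨hPT, hset, ?_⟩, hc, ha⟩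
  intro Q₁ Q₂ h₁ h₂
  obtain ⟨k, hk, e⟩ := htr Q₁ Q₂ (hc Q₁ h₁) (hc Q₂ h₂)
  obtain ⟨K, hK⟩ : ∃ K : Subgroup G, K =
    Cfsg.piCoreOf (Cfsg.primesNotDvd (Nat.card B)) (Subgroup.centralizer (B : Set G)) := ⟨_, rfl⟩
  rw [← hK] at hk ha
  have hPK : P ≤ Subgroup.normalizer (K : Set G) :=
    hK ▸ hPB.trans (normalizer_le_normalizer_piCoreOf_centralizer _ B)
  have hcop : (Nat.card P).Coprime (Nat.card K) :=
    coprime_of_primes_dvd hPπ' (hK ▸ piCoreOf_piNum _ _)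
  have hPs : Group.IsSolvable P := hsolv P hP
  obtain ⟨c, hc', e'⟩ := Cfsg.Agent.Lib.Lead.conj_by_centralizer P K hPK hcop (Or.inl hPs) Q₁
    h₁.2.1 k hk (by rw [← conjSub_eq_smul, ← e]; exact h₂.2.1)
  refine ⟨c, ha ▸ hc', ?_⟩
  rw [e, conjSub_eq_smul, conjSub_eq_smul, e']

/-- induction along a subnormal chain -/
theorem subnormal_chain [IsSimpleGroup G]
    (hsolv : ∀ H : Subgroup G, H ≠ ⊤ → Group.IsSolvable H) (π : Set ℕ) (q : ℕ) [Fact q.Prime]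
    (hqπ : q ∈ π) (P : Subgroup G) (hP : P ≠ ⊤)
    (hPπ : ∀ r : ℕ, r.Prime → r ∣ Nat.card P → r ∉ π) :
    ∀ H : Subgroup ↥P, H.IsSubnormal → GoodFor π q (H.map P.subtype) →
      GoodFor π q P ∧ (∀ Q : Subgroup G, IsMaxInv P q Q → IsMaxInv (H.map P.subtype) q Q) ∧
        Cfsg.piCoreOf π (Subgroup.centralizer ((H.map P.subtype : Subgroup G) : Set G)) ⊓
          Subgroup.centralizer (P : Set G) = Cfsg.piCoreOf π (Subgroup.centralizer (P : Set G)) := by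
  intro H hH
  induction hH with
  | top =>
    have e : (⊤ : Subgroup ↥P).map P.subtype = P := by
      rw [← MonoidHom.range_eq_map, Subgroup.range_subtype]
    rw [e]
    intro h
    refine ⟨h, fun Q hQ => hQ, ?_⟩
    exact inf_eq_left.mpr (piCoreOf_le _ _)
  | step H K hle hK hN ih =>
    intro hB
    obtain ⟨B, hBdef⟩ : ∃ B : Subgroup G, B = H.map P.subtype := ⟨_, rfl⟩
    obtain ⟨B₁, hB₁def⟩ : ∃ B₁ : Subgroup G, B₁ = K.map P.subtype := ⟨_, rfl⟩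
    rw [← hBdef] at hB ⊢
    rw [← hB₁def] at ih
    have hBB₁ : B ≤ B₁ := by
      rw [hBdef, hB₁def]
      exact Subgroup.map_mono hle
    have hB₁P : B₁ ≤ P := hB₁def ▸ Subgroup.map_subtype_le _
    have hB₁N : B₁ ≤ Subgroup.normalizer (B : Set G) := by
      rw [Subgroup.le_normalizer_iff, hBdef, hB₁def]
      rintro _ ⟨k, hk, rfl⟩ _ ⟨h, hh, rfl⟩
      have := hN.conj_mem ⟨h, hle hh⟩ (by rw [Subgroup.mem_subgroupOf]; exact hh) ⟨k, hk⟩
      rw [Subgroup.mem_subgroupOf] at this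
      exact ⟨k * h * k⁻¹, this, by simp⟩
    have hB₁top : B₁ ≠ ⊤ := by
      intro h
      apply hP
      rw [eq_top_iff, ← h]
      exact hB₁P
    have hB₁π : ∀ r : ℕ, r.Prime → r ∣ Nat.card B₁ → r ∉ π := fun r hr hd =>
      hPπ r hr (hd.trans (Subgroup.card_dvd_of_le hB₁P))
    obtain ⟨hG₁, hc₁, ha₁⟩ := normal_step hsolv π q hqπ hB hBB₁ hB₁N hB₁top hB₁π
    obtain ⟨hG₂, hc₂, ha₂⟩ := ih hG₁
    refine ⟨hG₂, fun Q hQ => hc₁ Q (hc₂ Q hQ), ?_⟩
    have hCC : Subgroup.centralizer (P : Set G) ≤ Subgroup.centralizer (B₁ : Set G) :=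
      Subgroup.centralizer_le (by exact_mod_cast hB₁P)
    rw [← ha₂, ← ha₁, inf_assoc, inf_eq_right.mpr hCC]

omit [Finite G] in
/-- the Frattini argument for a transitive normal subgroup -/
theorem frattini_of_transitive {P Ks : Subgroup G} {q : ℕ}
    (htr : ∀ Q₁ Q₂ : Subgroup G, IsMaxInv P q Q₁ → IsMaxInv P q Q₂ → ∃ c ∈ Ks, Q₂ = conjSub c Q₁)
    {Q : Subgroup G} (hQ : IsMaxInv P q Q) {g : G} (hg : g ∈ Subgroup.normalizer (P : Set G)) :
    ∃ c ∈ Ks, c⁻¹ * g ∈ Subgroup.normalizer (Q : Set G) := by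
  obtain ⟨c, hc, e⟩ := htr Q (conjSub g Q) hQ (hQ.conj_normalizer hg)
  refine ⟨c, hc, ?_⟩
  rw [mem_normalizer_iff_conjSub, conjSub_mul, e, conjSub_inv_conjSub]

/-- part (d) -/
theorem normalizer_eq_sup_and_focal {P Ks : Subgroup G} {q : ℕ}
    (hKC : Ks ≤ Subgroup.centralizer (P : Set G))
    (hKn : Subgroup.normalizer (P : Set G) ≤ Subgroup.normalizer (Ks : Set G))
    (hcop : (Nat.card Ks).Coprime (Nat.card P))
    (htr : ∀ Q₁ Q₂ : Subgroup G, IsMaxInv P q Q₁ → IsMaxInv P q Q₂ → ∃ c ∈ Ks, Q₂ = conjSub c Q₁)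
    {Q : Subgroup G} (hQ : IsMaxInv P q Q) :
    P ⊓ ⁅Subgroup.normalizer (P : Set G), Subgroup.normalizer (P : Set G)⁆ ≤
        ⁅Subgroup.normalizer (Q : Set G), Subgroup.normalizer (Q : Set G)⁆ ∧
      Subgroup.normalizer (P : Set G) =
        Ks ⊔ (Subgroup.normalizer (P : Set G) ⊓ Subgroup.normalizer (Q : Set G)) := by
  obtain ⟨N, hN⟩ : ∃ N : Subgroup G, N = Subgroup.normalizer (P : Set G) := ⟨_, rfl⟩
  obtain ⟨L, hL⟩ : ∃ L : Subgroup G, L = N ⊓ Subgroup.normalizer (Q : Set G) := ⟨_, rfl⟩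
  rw [← hN] at hKn ⊢
  rw [← hL]
  have hKN : Ks ≤ N := hN ▸ hKC.trans (Subgroup.centralizer_le_normalizer _)
  have hLN : L ≤ N := hL ▸ inf_le_left
  have hdecomp : ∀ g ∈ N, ∃ c ∈ Ks, c⁻¹ * g ∈ L := by
    intro g hg
    obtain ⟨c, hc, hcg⟩ := frattini_of_transitive htr hQ (hN ▸ hg)
    exact ⟨c, hc, hL ▸ ⟨N.mul_mem (N.inv_mem (hKN hc)) hg, hcg⟩⟩
  have hsup : N = Ks ⊔ L := by
    apply le_antisymm
    · intro g hg
      obtain ⟨c, hc, hcg⟩ := hdecomp g hg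
      have e : g = c * (c⁻¹ * g) := by group
      rw [e]
      exact Subgroup.mul_mem _ (Subgroup.mem_sup_left hc) (Subgroup.mem_sup_right hcg)
    · exact sup_le hKN hLN
  refine ⟨?_, hsup⟩
  obtain ⟨M, hM⟩ : ∃ M : Subgroup G, M = Ks ⊔ ⁅L, L⁆ := ⟨_, rfl⟩
  have hKM : Ks ≤ M := hM ▸ le_sup_left
  have hLM : ⁅L, L⁆ ≤ M := hM ▸ le_sup_right
  have hLLL : ⁅L, L⁆ ≤ L := by
    rw [Subgroup.commutator_le]
    intro g₁ h₁ g₂ h₂
    rw [commutatorElement_def]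
    exact L.mul_mem (L.mul_mem (L.mul_mem h₁ h₂) (L.inv_mem h₁)) (L.inv_mem h₂)
  have hLLN : ⁅L, L⁆ ≤ N := hLLL.trans hLN
  -- commutators with elements of `Ks`
  have hF2 : ∀ k ∈ Ks, ∀ g ∈ N, ⁅k, g⁆ ∈ Ks ∧ ⁅g, k⁆ ∈ Ks := by
    intro k hk g hg
    have h1 : g * k⁻¹ * g⁻¹ ∈ Ks :=
      (Subgroup.le_normalizer_iff.mp hKn) g hg k⁻¹ (Ks.inv_mem hk)
    have h2 : g * k * g⁻¹ ∈ Ks := (Subgroup.le_normalizer_iff.mp hKn) g hg k hk
    constructor
    · have e : ⁅k, g⁆ = k * (g * k⁻¹ * g⁻¹) := by rw [commutatorElement_def]; group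
      rw [e]
      exact Ks.mul_mem hk h1
    · have e : ⁅g, k⁆ = (g * k * g⁻¹) * k⁻¹ := by rw [commutatorElement_def]
      rw [e]
      exact Ks.mul_mem h2 (Ks.inv_mem hk)
  have hcomm : ⁅N, N⁆ ≤ M := by
    rw [Subgroup.commutator_le]
    intro g₁ hg₁ g₂ hg₂
    obtain ⟨k₁, hk₁, hl₁⟩ := hdecomp g₁ hg₁
    obtain ⟨k₂, hk₂, hl₂⟩ := hdecomp g₂ hg₂
    obtain ⟨l₁, hl₁def⟩ : ∃ l₁, l₁ = k₁⁻¹ * g₁ := ⟨_, rfl⟩
    obtain ⟨l₂, hl₂def⟩ : ∃ l₂, l₂ = k₂⁻¹ * g₂ := ⟨_, rfl⟩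
    rw [← hl₁def] at hl₁
    rw [← hl₂def] at hl₂
    have e₁ : g₁ = k₁ * l₁ := by rw [hl₁def]; group
    have e₂ : g₂ = k₂ * l₂ := by rw [hl₂def]; group
    have hl₁N : l₁ ∈ N := hLN hl₁
    have id1 : ⁅k₁ * l₁, g₂⁆ = k₁ * ⁅l₁, g₂⁆ * k₁⁻¹ * ⁅k₁, g₂⁆ := by
      simp only [commutatorElement_def]; group
    have id2 : ⁅l₁, k₂ * l₂⁆ = ⁅l₁, k₂⁆ * (k₂ * ⁅l₁, l₂⁆ * k₂⁻¹) := by
      simp only [commutatorElement_def]; group
    have h3 : ⁅l₁, g₂⁆ ∈ M := by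
      rw [e₂, id2]
      apply M.mul_mem (hKM (hF2 k₂ hk₂ l₁ hl₁N).2)
      exact M.mul_mem (M.mul_mem (hKM hk₂)
        (hLM (Subgroup.commutator_mem_commutator hl₁ hl₂))) (M.inv_mem (hKM hk₂))
    rw [e₁, id1]
    apply M.mul_mem _ (hKM (hF2 k₁ hk₁ g₂ hg₂).1)
    exact M.mul_mem (M.mul_mem (hKM hk₁) h3) (M.inv_mem (hKM hk₁))
  intro x hx
  have hxM : x ∈ M := hcomm hx.2
  have hxP : x ∈ P := hx.1
  have hmem : x ∈ ((Ks ⊔ ⁅L, L⁆ : Subgroup G) : Set G) := hM ▸ hxM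
  rw [Subgroup.coe_mul_of_right_le_normalizer_left Ks ⁅L, L⁆ (hLLN.trans hKn)] at hmem
  obtain ⟨k, hk, l, hl, hkl⟩ := hmem
  have hkx : Commute k x := ((Subgroup.mem_centralizer_iff.mp (hKC hk)) x hxP).symm
  have hl' : l = k⁻¹ * x := by rw [← hkl]; group
  have hkx' : Commute k⁻¹ x := hkx.inv_left
  have hpow : l ^ orderOf k = x ^ orderOf k := by
    rw [hl', hkx'.mul_pow, inv_pow, pow_orderOf_eq_one, inv_one, one_mul]
  have hco : (orderOf k).Coprime (orderOf x) := by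
    apply Nat.Coprime.coprime_dvd_left (Subgroup.orderOf_dvd_natCard Ks hk)
    exact Nat.Coprime.coprime_dvd_right (Subgroup.orderOf_dvd_natCard P hxP) hcop
  obtain ⟨j, hj⟩ := exists_pow_eq_self_of_coprime hco
  have hxl : x = (l ^ orderOf k) ^ j := by rw [hpow, hj]
  have hxLL : x ∈ ⁅L, L⁆ := by
    rw [hxl]
    exact Subgroup.pow_mem _ (Subgroup.pow_mem _ hl _) _
  exact Subgroup.commutator_mono (hL ▸ inf_le_right) (hL ▸ inf_le_right) hxLL

end Cfsg.Agent.Lib.Helper11
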