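import Mathlib
import Cfsg.Prelude.Def_OddOrderLocal
import Cfsg.Agent.Lib.Helper11.TransHyp
import Cfsg.Agent.S1282
import Cfsg.Agent.S0058

set_option autoImplicit false
open scoped Pointwise

namespace Cfsg.Agent.Lib.Helper11

variable {G : Type*} [Group G] [Finite G]

omit [Finite G] in
theorem centralizer_singleton_ne_top [IsSimpleGroup G] (hnonab : ¬ IsMulCommutative G) {a : G}
    (ha : a ≠ 1) : Subgroup.centralizer ({a} : Set G) ≠ ⊤ := by
  intro h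
  have hac : a ∈ Subgroup.center G := by
    rw [Subgroup.mem_center_iff]
    intro g
    have hg : g ∈ Subgroup.centralizer ({a} : Set G) := h ▸ Subgroup.mem_top g
    exact ((Subgroup.mem_centralizer_iff.mp hg) a rfl).symm
  rcases (inferInstance : (Subgroup.center G).Normal).eq_bot_or_eq_top with hc | hc
  · rw [hc, Subgroup.mem_bot] at hac
    exact ha hac
  · apply hnonab
    refine ⟨⟨fun x y => ?_⟩⟩
    have hx : x ∈ Subgroup.center G := hc ▸ Subgroup.mem_top x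
    exact ((Subgroup.mem_center_iff.mp hx) y).symm

omit [Finite G] in
theorem le_centralizer_singleton {A : Subgroup G} {a : G}
    (ha : a ∈ Subgroup.centralizer (A : Set G)) : A ≤ Subgroup.centralizer ({a} : Set G) := by
  intro x hx
  rw [Subgroup.mem_centralizer_iff]
  intro b hb
  rw [Set.mem_singleton_iff] at hb
  subst hb
  exact ((Subgroup.mem_centralizer_iff.mp ha) x hx).symm

theorem exists_elemAb_of_not_rankLE (Z : Subgroup G) (k : ℕ) (h : ¬ Cfsg.RankLE k ↥Z) :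
    ∃ p : ℕ, p.Prime ∧ ∃ A₀ : Subgroup G, A₀ ≤ Z ∧ Cfsg.IsElementaryAbelian p A₀ ∧
      p ^ (k + 1) ≤ Nat.card A₀ := by
  unfold Cfsg.RankLE Cfsg.PRankLE at h
  push Not at h
  obtain ⟨p, hp, B, hBc, hBexp, hBcard⟩ := h
  have : Fact p.Prime := ⟨hp⟩
  refine ⟨p, hp, B.map Z.subtype, ?_, ⟨?_, ?_⟩, ?_⟩
  · rintro _ ⟨x, _, rfl⟩
    exact x.2
  · refine ⟨⟨fun x y => ?_⟩⟩
    obtain ⟨b₁, hb₁, e₁⟩ := x.2
    obtain ⟨b₂, hb₂, e₂⟩ := y.2
    apply Subtype.ext
    change (x : G) * (y : G) = (y : G) * (x : G)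
    rw [← e₁, ← e₂]
    have := hBc.is_comm.comm (⟨b₁, hb₁⟩ : B) ⟨b₂, hb₂⟩
    have h3 := congrArg (fun t : B => (((t : ↥Z)) : G)) this
    simpa using h3
  · rintro _ ⟨x, hx, rfl⟩
    have := hBexp x hx
    have h3 := congrArg Subtype.val this
    simpa using h3
  · have hcard : Nat.card (B.map Z.subtype) = Nat.card B :=
      Subgroup.card_map_of_injective Z.subtype_injective
    have hBp : IsPGroup p B := by
      intro b
      refine ⟨1, ?_⟩
      rw [pow_one]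
      apply Subtype.ext
      have := hBexp b b.2
      simpa using this
    obtain ⟨j, hj⟩ := (IsPGroup.iff_card).mp hBp
    rw [hcard, hj]
    apply Nat.pow_le_pow_right hp.pos
    by_contra hk3
    push Not at hk3
    rw [hj] at hBcard
    have := Nat.pow_le_pow_right hp.pos (by omega : j ≤ k)
    omega

theorem isMaxInv_eq_bot_of_bot {A : Subgroup G} {q : ℕ} {Q₁ Q₂ : Subgroup G}
    (h₁ : IsMaxInv A q Q₁) (h₂ : IsMaxInv A q Q₂) (h : Q₁ = ⊥) : Q₂ = ⊥ := by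
  have := h₁.2.2 Q₂ h₂.1 h₂.2.1 (h ▸ bot_le)
  rw [this, h]

/-- transitivity when both subgroups meet the centralizer of a nontrivial element of `Z(A)` -/
theorem trans_of_centralizer [IsSimpleGroup G] (hnonab : ¬ IsMulCommutative G)
    (hsolv : ∀ H : Subgroup G, H ≠ ⊤ → Group.IsSolvable H)
    {A : Subgroup G} (hA : Cfsg.TransitivityHypothesis A) (q : ℕ) [Fact q.Prime]
    (hqA : ¬ q ∣ Nat.card A) (Q₁ Q₂ : Subgroup G) (h₁ : IsMaxInv A q Q₁) (h₂ : IsMaxInv A q Q₂)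
    (a : G) (haZ : a ∈ Subgroup.centralizer (A : Set G)) (ha1 : a ≠ 1)
    (hH₁ : Q₁ ⊓ Subgroup.centralizer ({a} : Set G) ≠ ⊥)
    (hH₂ : Q₂ ⊓ Subgroup.centralizer ({a} : Set G) ≠ ⊥) :
    ∃ c ∈ Cfsg.piCoreOf (Cfsg.primesNotDvd (Nat.card A)) (Subgroup.centralizer (A : Set G)),
      Q₂ = conjSub c Q₁ := by
  apply trans_of_common_overgroup hsolv hA q hqA Q₁ Q₂ h₁ h₂ (Subgroup.centralizer ({a} : Set G))
    (centralizer_singleton_ne_top hnonab ha1) (le_centralizer_singleton haZ)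
  · rwa [inf_comm]
  · rwa [inf_comm]

/-- transitivity when `Z(A)` has rank at least three -/
theorem trans_rank_three [IsSimpleGroup G] (hnonab : ¬ IsMulCommutative G)
    (hsolv : ∀ H : Subgroup G, H ≠ ⊤ → Group.IsSolvable H)
    {A : Subgroup G} (hA : Cfsg.TransitivityHypothesis A)
    (hZ : ¬ Cfsg.RankLE 2 ↥(A ⊓ Subgroup.centralizer (A : Set G))) (q : ℕ) [Fact q.Prime]
    (hqA : ¬ q ∣ Nat.card A) (Q₁ Q₂ : Subgroup G) (h₁ : IsMaxInv A q Q₁) (h₂ : IsMaxInv A q Q₂) :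
    ∃ c ∈ Cfsg.piCoreOf (Cfsg.primesNotDvd (Nat.card A)) (Subgroup.centralizer (A : Set G)),
      Q₂ = conjSub c Q₁ := by
  have hq : q.Prime := Fact.out
  obtain ⟨p, hp, A₀, hA₀Z, hA₀, hA₀3⟩ := exists_elemAb_of_not_rankLE _ 2 hZ
  have : Fact p.Prime := ⟨hp⟩
  have hqp : q ≠ p := by
    rintro rfl
    apply hqA
    have h1 : q ∣ Nat.card A₀ := by
      have hA₀p : IsPGroup q A₀ := by
        intro b
        refine ⟨1, ?_⟩
        rw [pow_one]
        apply Subtype.ext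
        have := hA₀.2 b b.2
        simpa using this
      obtain ⟨j, hj⟩ := (IsPGroup.iff_card).mp hA₀p
      rw [hj] at hA₀3 ⊢
      have hj0 : j ≠ 0 := by
        rintro rfl
        rw [pow_zero] at hA₀3
        have := Nat.one_lt_pow (n := 2 + 1) (by omega) hq.one_lt
        omega
      exact dvd_pow_self q hj0
    exact h1.trans (Subgroup.card_dvd_of_le (hA₀Z.trans inf_le_left))
  by_cases hD : Q₁ ⊓ Q₂ = ⊥
  · by_cases hQ₁ : Q₁ = ⊥
    · refine ⟨1, Subgroup.one_mem _, ?_⟩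
      rw [conjSub_one, hQ₁]
      exact isMaxInv_eq_bot_of_bot h₁ h₂ hQ₁
    by_cases hQ₂ : Q₂ = ⊥
    · exact absurd (isMaxInv_eq_bot_of_bot h₂ h₁ hQ₂) hQ₁
    have hD₁ : Q₁ ⊓ Q₂ ≠ Q₁ := fun h => hQ₁ (h ▸ hD)
    have hD₂ : Q₁ ⊓ Q₂ ≠ Q₂ := fun h => hQ₂ (h ▸ hD)
    obtain ⟨a, haA, ha1, hx₁, hx₂⟩ := Cfsg.Agent.S1282.result p A₀ hA₀ hA₀3 q hqp Q₁ Q₂ h₁.1 h₂.1
      ((hA₀Z.trans inf_le_left).trans h₁.2.1) ((hA₀Z.trans inf_le_left).trans h₂.2.1) hD₁ hD₂
    apply trans_of_centralizer hnonab hsolv hA q hqA Q₁ Q₂ h₁ h₂ a (hA₀Z haA).2 ha1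
    · intro h
      apply hx₁
      rw [hD, inf_assoc, h]
      exact inf_le_right
    · intro h
      apply hx₂
      rw [hD, inf_assoc, h]
      exact inf_le_right
  · exact trans_of_inter_ne_bot hsolv hA q hqA Q₁ Q₂ h₁ h₂ hD

/-- transitivity when `Z(A)` has rank at least two and `q` divides `|C(A)|` -/
theorem trans_rank_two [IsSimpleGroup G] (hnonab : ¬ IsMulCommutative G)
    (hsolv : ∀ H : Subgroup G, H ≠ ⊤ → Group.IsSolvable H)
    {A : Subgroup G} (hA : Cfsg.TransitivityHypothesis A)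
    (hZ : ¬ Cfsg.RankLE 1 ↥(A ⊓ Subgroup.centralizer (A : Set G))) (q : ℕ) [Fact q.Prime]
    (hqA : ¬ q ∣ Nat.card A) (hqC : q ∣ Nat.card (Subgroup.centralizer (A : Set G)))
    (Q₁ Q₂ : Subgroup G) (h₁ : IsMaxInv A q Q₁) (h₂ : IsMaxInv A q Q₂) :
    ∃ c ∈ Cfsg.piCoreOf (Cfsg.primesNotDvd (Nat.card A)) (Subgroup.centralizer (A : Set G)),
      Q₂ = conjSub c Q₁ := by
  have hq : q.Prime := Fact.out
  obtain ⟨p, hp, A₀, hA₀Z, hA₀, hA₀2⟩ := exists_elemAb_of_not_rankLE _ 1 hZ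
  have hA₀A : A₀ ≤ A := hA₀Z.trans inf_le_left
  have hcomm : IsMulCommutative A₀ := hA₀.1
  have hncyc : ¬ IsCyclic A₀ := by
    intro hc
    obtain ⟨g, hg⟩ := hc.exists_generator
    have h1 : orderOf g = Nat.card A₀ := orderOf_eq_card_of_forall_mem_zpowers hg
    have h2 : orderOf g ∣ p := by
      apply orderOf_dvd_of_pow_eq_one
      apply Subtype.ext
      have := hA₀.2 g g.2
      simpa using this
    have h3 : orderOf g ≤ p := Nat.le_of_dvd hp.pos h2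
    have h4 : p < p ^ (1 + 1) := by
      calc p = p ^ 1 := (pow_one p).symm
        _ < p ^ (1 + 1) := Nat.pow_lt_pow_right hp.one_lt (by omega)
    omega
  -- a subgroup of order `q` centralized by `A`
  obtain ⟨x, hx⟩ := exists_prime_orderOf_dvd_card' (G := Subgroup.centralizer (A : Set G)) q hqC
  have hxo : orderOf (x : G) = q := by rw [Subgroup.orderOf_coe]; exact hx
  have hx1 : (x : G) ≠ 1 := by
    intro h
    rw [h, orderOf_one] at hxo
    exact hq.one_lt.ne hxo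
  obtain ⟨Q₀, hQ₀⟩ : ∃ Q₀ : Subgroup G, Q₀ = Subgroup.zpowers (x : G) := ⟨_, rfl⟩
  have hQ₀q : IsPGroup q Q₀ := by
    apply IsPGroup.of_card (n := 1)
    rw [hQ₀, Nat.card_zpowers, hxo, pow_one]
  have hAQ₀ : A ≤ Subgroup.normalizer (Q₀ : Set G) := by
    intro a ha
    apply Subgroup.centralizer_le_normalizer
    rw [Subgroup.mem_centralizer_iff]
    intro h hh
    rw [SetLike.mem_coe, hQ₀] at hh
    obtain ⟨k, rfl⟩ := Subgroup.mem_zpowers_iff.mp hh
    have hxa : a * (x : G) = (x : G) * a := (Subgroup.mem_centralizer_iff.mp x.2) a ha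
    exact ((show Commute (x : G) a from hxa.symm).zpow_left k).eq
  obtain ⟨Qs, hQs, hQ₀Qs⟩ := exists_isMaxInv_ge A q Q₀ hQ₀q hAQ₀
  have hxQs : (x : G) ∈ Qs := hQ₀Qs (hQ₀ ▸ Subgroup.mem_zpowers _)
  have hQsne : Qs ≠ ⊥ := by
    intro h
    rw [h, Subgroup.mem_bot] at hxQs
    exact hx1 hxQs
  have claim : ∀ Q : Subgroup G, IsMaxInv A q Q →
      ∃ c ∈ Cfsg.piCoreOf (Cfsg.primesNotDvd (Nat.card A)) (Subgroup.centralizer (A : Set G)),
        Qs = conjSub c Q := by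
    intro Q hQ
    have hQne : Q ≠ ⊥ := fun h => hQsne (isMaxInv_eq_bot_of_bot hQ hQs h)
    have hcop : (Nat.card A₀).Coprime (Nat.card Q) := by
      obtain ⟨k, hk⟩ := (IsPGroup.iff_card).mp hQ.1
      rw [hk]
      apply Nat.Coprime.pow_right
      apply Nat.Coprime.coprime_dvd_left (Subgroup.card_dvd_of_le hA₀A)
      exact ((Nat.Prime.coprime_iff_not_dvd hq).mpr hqA).symm
    have hgen := Cfsg.Agent.S0058.result A₀ Q hncyc (hA₀A.trans hQ.2.1) hcop
    have hex : ∃ a, a ∈ A₀ ∧ a ≠ 1 ∧ Q ⊓ Subgroup.centralizer ({a} : Set G) ≠ ⊥ := by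
      by_contra hno
      push Not at hno
      apply hQne
      rw [← hgen, eq_bot_iff]
      apply iSup₂_le
      intro a ha
      rw [hno a ha.1 ha.2]
    obtain ⟨a, haA₀, ha1, hQa⟩ := hex
    apply trans_of_centralizer hnonab hsolv hA q hqA Q Qs hQ hQs a (hA₀Z haA₀).2 ha1 hQa
    intro h
    apply hx1
    have hmem : (x : G) ∈ Qs ⊓ Subgroup.centralizer ({a} : Set G) := by
      refine Subgroup.mem_inf.mpr ⟨hxQs, ?_⟩
      rw [Subgroup.mem_centralizer_iff]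
      intro b hb
      rw [Set.mem_singleton_iff] at hb
      subst hb
      exact (Subgroup.mem_centralizer_iff.mp x.2) b (hA₀A haA₀)
    rw [h, Subgroup.mem_bot] at hmem
    exact hmem
  obtain ⟨c₁, hc₁, e₁⟩ := claim Q₁ h₁
  obtain ⟨c₂, hc₂, e₂⟩ := claim Q₂ h₂
  refine ⟨c₂⁻¹ * c₁, Subgroup.mul_mem _ (Subgroup.inv_mem _ hc₂) hc₁, ?_⟩
  rw [conjSub_mul, ← e₁, e₂, conjSub_inv_conjSub]

end Cfsg.Agent.Lib.Helper11
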