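import Mathlib
import Cfsg.Agent.Lib.Helper11.MaxSubC
import Cfsg.Agent.Lib.Helper5.InvSylow
import Cfsg.Agent.Lib.Helper11.TransOvergroup
import Cfsg.Agent.S1393
import Cfsg.Agent.S1395

set_option autoImplicit false

namespace Cfsg.Agent.Lib.Helper11.MaxSubD

open Cfsg.Agent.Lib.Helper11 Cfsg.Agent.Lib.Helper11.MaxLocA Cfsg.Agent.Lib.Helper11.MaxLocB
  Cfsg.Agent.Lib.Helper11.MaxSubA Cfsg.Agent.Lib.Helper11.MaxSubB Cfsg.Agent.Lib.Helper11.MaxSubC
  Cfsg.Agent.Lib.Helper18 Cfsg.Agent.Lib.Helper1.GNPC3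

/-- a group acted on coprimely lies in any subgroup containing its invariant subgroups of
prime power order -/
theorem inv_le_of_sylows {Γ : Type*} [Group Γ] [Finite Γ] (A R T : Subgroup Γ)
    (hAR : A ≤ Subgroup.normalizer (R : Set Γ)) (hcop : (Nat.card A).Coprime (Nat.card R))
    (hsolv : Group.IsSolvable A)
    (h : ∀ (q : ℕ) [Fact q.Prime], ∀ Q : Subgroup Γ, Q ≤ R → IsPGroup q Q →
      A ≤ Subgroup.normalizer (Q : Set Γ) → Q ≤ T) : R ≤ T := by
  have hdvd : Nat.card R ∣ Nat.card (R ⊓ T : Subgroup Γ) := by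
    rw [← Nat.factorization_prime_le_iff_dvd Nat.card_pos.ne' Nat.card_pos.ne']
    intro q hq
    have : Fact q.Prime := ⟨hq⟩
    obtain ⟨Q, hQR, hQq, hAQ, hQc⟩ :=
      Cfsg.Agent.Lib.Helper5.exists_invariant_sylow_sub A R hAR hcop hsolv q
    have hQT : Q ≤ T := h q Q hQR hQq hAQ
    have h1 : Nat.card Q ∣ Nat.card (R ⊓ T : Subgroup Γ) :=
      Subgroup.card_dvd_of_le (le_inf hQR hQT)
    rw [hQc] at h1
    exact (hq.pow_dvd_iff_le_factorization Nat.card_pos.ne').mp h1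
  have hle : Nat.card R ≤ Nat.card (R ⊓ T : Subgroup Γ) := Nat.le_of_dvd Nat.card_pos hdvd
  have heq : (R ⊓ T : Subgroup Γ) = R := Subgroup.eq_of_le_of_card_ge inf_le_left hle
  rw [← heq]
  exact inf_le_right

/-- every subgroup of a finite nilpotent group is subnormal -/
theorem isSubnormal_of_nilpotent {N : Type*} [Group N] [Finite N] [hN : Group.IsNilpotent N] :
    ∀ (n : ℕ) (H : Subgroup N), Nat.card N - Nat.card H = n → H.IsSubnormal := by
  intro n
  induction n using Nat.strong_induction_on with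
  | _ n ih =>
    intro H hn
    by_cases htop : H = ⊤
    · rw [htop]; exact Subgroup.IsSubnormal.top
    · have hnc := Group.normalizerCondition_of_isNilpotent (G := N)
      have hlt : H < Subgroup.normalizer (H : Set N) := hnc H (lt_top_iff_ne_top.mpr htop)
      have hcard : Nat.card H < Nat.card (Subgroup.normalizer (H : Set N)) := by
        by_contra hge
        push Not at hge
        have := Subgroup.eq_of_le_of_card_ge hlt.le hge
        exact hlt.ne this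
      have hle : Nat.card (Subgroup.normalizer (H : Set N)) ≤ Nat.card N :=
        Subgroup.card_le_card_group _
      have hK : (Subgroup.normalizer (H : Set N)).IsSubnormal :=
        ih (Nat.card N - Nat.card (Subgroup.normalizer (H : Set N))) (by omega) _ rfl
      exact Subgroup.IsSubnormal.step H _ hlt.le hK Subgroup.normal_in_normalizer

/-- a proper subgroup of a `p`-group is properly contained in its normalizer -/
theorem pgroup_grow {Γ : Type*} [Group Γ] [Finite Γ] (p : ℕ) [Fact p.Prime] (R T : Subgroup Γ)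
    (hT : IsPGroup p T) (hRT : R < T) :
    ∃ y ∈ T, y ∉ R ∧ y ∈ Subgroup.normalizer (R : Set Γ) := by
  have hTnil : Group.IsNilpotent T := hT.isNilpotent
  have hnc := Group.normalizerCondition_of_isNilpotent (G := T)
  have hlt' : R.subgroupOf T < ⊤ := by
    rw [lt_top_iff_ne_top]
    intro htop
    rw [Subgroup.subgroupOf_eq_top] at htop
    exact (not_le_of_gt hRT) htop
  obtain ⟨x, hxn, hxH⟩ := SetLike.exists_of_lt (hnc _ hlt')
  refine ⟨(x : Γ), x.2, ?_, ?_⟩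
  · intro hx
    exact hxH (Subgroup.mem_subgroupOf.mpr hx)
  · apply mem_normalizer_of_conjSub_le
    rintro _ ⟨r, hr, rfl⟩
    have := (Subgroup.mem_normalizer_iff.mp hxn ⟨r, hRT.le hr⟩).mp (Subgroup.mem_subgroupOf.mpr hr)
    rw [Subgroup.mem_subgroupOf] at this
    simpa using this

/-- an elementary abelian subgroup of order at least `p ^ (k + 1)` witnesses rank bigger than `k` -/
theorem not_rankLE_of_elemAb {Γ : Type*} [Group Γ] [Finite Γ] (p : ℕ) [hp : Fact p.Prime]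
    (k : ℕ) (Z A₀ : Subgroup Γ)
    (hA₀Z : A₀ ≤ Z) (hA₀e : Cfsg.IsElementaryAbelian p A₀) (hA₀c : p ^ (k + 1) ≤ Nat.card A₀) :
    ¬ Cfsg.RankLE k ↥Z := by
  intro h
  have h1 := h p hp.out (A₀.subgroupOf Z) ?_ ?_
  · rw [Nat.card_congr (Subgroup.subgroupOfEquivOfLe hA₀Z).toEquiv] at h1
    have : p ^ k < p ^ (k + 1) := Nat.pow_lt_pow_right hp.out.one_lt (Nat.lt_succ_self k)
    omega
  · have := hA₀e.1
    refine isMulCommutative_iff.mpr ?_
    rintro ⟨a, ha⟩ ⟨b, hb⟩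
    apply Subtype.ext
    apply Subtype.ext
    have h2 := isMulCommutative_iff.mp hA₀e.1 ⟨a, Subgroup.mem_subgroupOf.mp ha⟩
      ⟨b, Subgroup.mem_subgroupOf.mp hb⟩
    have h3 := congrArg Subtype.val h2
    simpa using h3
  · intro a ha
    apply Subtype.ext
    have := hA₀e.2 (a : Γ) (Subgroup.mem_subgroupOf.mp ha)
    simpa using this

variable {G : Type*} [Group G] [Finite G]

/-- a subgroup normal in the maximal subgroup `M` of order coprime to `F(M)` is trivial -/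
theorem normal_coprime_eq_bot (hG : Cfsg.IsMinSimpleOddOrder G) (M : Subgroup G) (hM : IsCoatom M)
    (N : Subgroup G) (hNM : N ≤ M) (hMN : M ≤ Subgroup.normalizer (N : Set G))
    (hcop : (Nat.card N).Coprime (Nat.card (Cfsg.fittingOf M))) : N = ⊥ := by
  rw [eq_bot_iff]
  intro n hn
  rw [Subgroup.mem_bot]
  have hHF := le_normalizer_fittingOf M
  have hnC : n ∈ Subgroup.centralizer (Cfsg.fittingOf M : Set G) := by
    rw [Subgroup.mem_centralizer_iff]
    intro f hf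
    have hcN : f * n * f⁻¹ * n⁻¹ ∈ N := by
      have h2 : f * n * f⁻¹ ∈ N :=
        (Subgroup.mem_normalizer_iff.mp (hMN (fittingOf_le M hf)) n).mp hn
      exact N.mul_mem h2 (N.inv_mem hn)
    have hcF : f * n * f⁻¹ * n⁻¹ ∈ Cfsg.fittingOf M := by
      have h2 : n * f⁻¹ * n⁻¹ ∈ Cfsg.fittingOf M :=
        (Subgroup.mem_normalizer_iff.mp (hHF (hNM hn)) f⁻¹).mp (Subgroup.inv_mem _ hf)
      have e : f * n * f⁻¹ * n⁻¹ = f * (n * f⁻¹ * n⁻¹) := by group
      rw [e]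
      exact Subgroup.mul_mem _ hf h2
    have h3 := Cfsg.Agent.Lib.Lead.inf_eq_bot_of_coprime' N _ hcop hcN hcF
    calc f * n = (f * n * f⁻¹ * n⁻¹) * (n * f) := by group
      _ = n * f := by rw [h3, one_mul]
  have hnF : n ∈ Cfsg.fittingOf M :=
    inf_centralizer_le hG M hM (Subgroup.mem_inf.mpr ⟨hNM hn, hnC⟩)
  exact Cfsg.Agent.Lib.Lead.inf_eq_bot_of_coprime' N _ hcop hn hnF


theorem pgroup_ne_top (hG : Cfsg.IsMinSimpleOddOrder G) (q : ℕ) [Fact q.Prime] (Q : Subgroup G)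
    (hQ : IsPGroup q Q) : Q ≠ ⊤ := by
  rintro rfl
  have hGp : IsPGroup q G := by
    intro g
    obtain ⟨k, hk⟩ := hQ ⟨g, Subgroup.mem_top g⟩
    exact ⟨k, by simpa using congrArg Subtype.val hk⟩
  have hnil : Group.IsNilpotent G := hGp.isNilpotent
  exact not_solvable_of_minSimple hG inferInstance

/-- Under the transitivity hypothesis for `B ≤ F(M)` containing `Z(F(M))` with centre of rank at
least three, every `B`-invariant `q`-subgroup (`q` not dividing `#F(M)`) is trivial. -/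
theorem inv_eq_bot (hG : Cfsg.IsMinSimpleOddOrder G) (M : Subgroup G) (hM : IsCoatom M)
    (B : Subgroup G) (hBF : B ≤ Cfsg.fittingOf M)
    (hZB : Cfsg.fittingOf M ⊓ Subgroup.centralizer (Cfsg.fittingOf M : Set G) ≤ B)
    (hTH : Cfsg.TransitivityHypothesis B)
    (hrank : ¬ Cfsg.RankLE 2 ↥(B ⊓ Subgroup.centralizer (B : Set G)))
    (q : ℕ) [hq : Fact q.Prime] (hqF : ¬ q ∣ Nat.card (Cfsg.fittingOf M))
    (Q : Subgroup G) (hQq : IsPGroup q Q) (hBQ : B ≤ Subgroup.normalizer (Q : Set G)) : Q = ⊥ := by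
  have hzB : ∀ r : ℕ, zP M r ≤ B := fun r z hz => hZB (Subgroup.mem_inf.mpr ⟨hz.1, hz.2.1⟩)
  have hprimes : ∀ r : ℕ, r.Prime → r ∣ Nat.card (Cfsg.fittingOf M) → r ∣ Nat.card B := by
    intro r hr hrd
    have : Fact r.Prime := ⟨hr⟩
    have hne := zP_ne_bot M r hrd
    obtain ⟨k, hk⟩ := IsPGroup.iff_card.mp (zP_isPGroup M r)
    have hk0 : k ≠ 0 := by
      rintro rfl
      rw [pow_zero] at hk
      exact hne (Subgroup.card_eq_one.mp hk)
    have h1 : r ∣ Nat.card (zP M r) := by rw [hk]; exact dvd_pow_self r hk0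
    exact h1.trans (Subgroup.card_dvd_of_le (hzB r))
  have hqB : ¬ q ∣ Nat.card B := fun h => hqF (h.trans (Subgroup.card_dvd_of_le hBF))
  have hF1 : Nat.card (Cfsg.fittingOf M) ≠ 1 := by
    intro h1
    have hFbot : Cfsg.fittingOf M = ⊥ := Subgroup.card_eq_one.mp h1
    apply hTH.1
    rw [eq_bot_iff, ← hFbot]
    exact hBF
  obtain ⟨p, hp, hpd⟩ := Nat.exists_prime_and_dvd hF1
  have : Fact p.Prime := ⟨hp⟩
  have hBM : B ≤ M := hBF.trans (fittingOf_le M)
  have hCBM : Subgroup.centralizer (B : Set G) ≤ M :=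
    (Subgroup.centralizer_le (show ((zP M p : Subgroup G) : Set G) ⊆ (B : Set G) from hzB p)).trans
      (centralizer_zP_le' hG M hM p hpd)
  -- `O_σ(M) = 1`
  have hOM : Cfsg.piCoreOf (Cfsg.primesNotDvd (Nat.card B)) M = ⊥ := by
    apply normal_coprime_eq_bot hG M hM _ (piCoreOf_le _ M) (le_normalizer_piCoreOf _ M)
    exact (coprime_of_primes_dvd hprimes (piCoreOf_piNum _ M)).symm
  -- `O_σ(C_G(B)) = 1`
  have hK : Cfsg.piCoreOf (Cfsg.primesNotDvd (Nat.card B)) (Subgroup.centralizer (B : Set G)) = ⊥ := by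
    rw [eq_bot_iff, ← hOM, ← hTH.2.2 M hM.1 hBM]
    apply le_sSup
    refine ⟨(piCoreOf_le _ _).trans hCBM, piCoreOf_piNum _ _, ?_⟩
    intro b hb
    apply Subgroup.centralizer_le_normalizer
    rw [Subgroup.mem_centralizer_iff]
    intro k hk
    have hkC := piCoreOf_le _ _ hk
    exact (Subgroup.mem_centralizer_iff.mp hkC b hb).symm
  have htr := Cfsg.Agent.S1393.result hG B hTH hrank q hq.out hqB
  rw [hK] at htr
  have huniq : ∀ Q₁ Q₂ : Subgroup G, IsMaxInv B q Q₁ → IsMaxInv B q Q₂ → Q₂ = Q₁ := by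
    intro Q₁ Q₂ h₁ h₂
    obtain ⟨k, hk, e⟩ := htr Q₁ ((mem_maxInvSubgroups_iff B q Q₁).mpr h₁) Q₂
      ((mem_maxInvSubgroups_iff B q Q₂).mpr h₂)
    rw [Subgroup.mem_bot] at hk
    rw [e, hk]
    ext x
    simp
  have hFtop : Cfsg.fittingOf M ≠ ⊤ := by
    intro h
    apply hM.1
    rw [eq_top_iff, ← h]
    exact fittingOf_le M
  have hFnil := fittingOf_nilpotent M
  have hsn : (B.subgroupOf (Cfsg.fittingOf M)).IsSubnormal := isSubnormal_of_nilpotent _ _ rfl
  have htr' := Cfsg.Agent.S1393.result hG B hTH hrank q hq.out hqB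
  have h95 := (Cfsg.Agent.S1395.result hG B hTH q hq.out hqB (Cfsg.fittingOf M) hFtop hprimes hBF hsn
    htr').2.2.1
  obtain ⟨Q₀, hQ₀, -⟩ := exists_isMaxInv_ge (Cfsg.fittingOf M) q ⊥ IsPGroup.of_bot
    (by
      intro x _
      rw [Subgroup.mem_normalizer_iff]
      intro h
      simp only [Subgroup.mem_bot]
      constructor
      · rintro rfl; group
      · intro h1
        have : h = x⁻¹ * (x * h * x⁻¹) * x := by group
        rw [this, h1]; group)
  have hQ₀B : IsMaxInv B q Q₀ :=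
    (mem_maxInvSubgroups_iff B q Q₀).mp (h95 ((mem_maxInvSubgroups_iff _ q Q₀).mpr hQ₀))
  have hMQ₀ : M ≤ Subgroup.normalizer (Q₀ : Set G) := by
    intro m hm
    have h1 := hQ₀.conj_normalizer (le_normalizer_fittingOf M hm)
    have h2 : IsMaxInv B q (Cfsg.Agent.Lib.Helper11.conjSub m Q₀) :=
      (mem_maxInvSubgroups_iff B q _).mp (h95 ((mem_maxInvSubgroups_iff _ q _).mpr h1))
    have h3 := huniq Q₀ _ hQ₀B h2
    exact Subgroup.mem_normalizer_iff_map_conj_eq.mpr h3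
  have hQ₀bot : Q₀ = ⊥ := by
    by_contra hne
    have h1 := normalizer_eq_of_coatom hG M hM Q₀ hne (pgroup_ne_top hG q Q₀ hQ₀.1) hMQ₀
    have hQ₀M : Q₀ ≤ M := h1 ▸ Subgroup.le_normalizer
    exact hne (normal_coprime_eq_bot hG M hM Q₀ hQ₀M hMQ₀
      (isPGroup_card_coprime hq.out hQ₀.1 hqF))
  obtain ⟨Q₁, hQ₁, hQQ₁⟩ := exists_isMaxInv_ge B q Q hQq hBQ
  have := huniq Q₀ Q₁ hQ₀B hQ₁
  rw [eq_bot_iff]
  rw [this, hQ₀bot] at hQQ₁
  exact hQQ₁


omit [Finite G] in
theorem isPGroup_zpowers (p : ℕ) (y : G) (hy : ∃ k : ℕ, y ^ p ^ k = 1) :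
    IsPGroup p (Subgroup.zpowers y) := by
  obtain ⟨k, hk⟩ := hy
  rintro ⟨g, hg⟩
  obtain ⟨i, rfl⟩ := Subgroup.mem_zpowers_iff.mp hg
  refine ⟨k, Subtype.ext ?_⟩
  simp only [Subgroup.coe_pow, Subgroup.coe_one]
  rw [← zpow_natCast, ← zpow_mul, mul_comm, zpow_mul, zpow_natCast, hk, one_zpow]

/-- adjoining a normalizing `p`-element outside `R` gives a strictly bigger `p`-group -/
theorem sup_zpowers (p : ℕ) [Fact p.Prime] (R : Subgroup G) (hR : IsPGroup p R) (y : G)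
    (hyN : y ∈ Subgroup.normalizer (R : Set G)) (hyR : y ∉ R) (hy : ∃ k : ℕ, y ^ p ^ k = 1) :
    IsPGroup p ↥(R ⊔ Subgroup.zpowers y) ∧ R < R ⊔ Subgroup.zpowers y := by
  constructor
  · apply hR.to_sup_of_normal_left' (isPGroup_zpowers p y hy)
    rw [Subgroup.zpowers_le]
    exact hyN
  · apply lt_of_le_of_ne le_sup_left
    intro h
    apply hyR
    rw [h]
    exact Subgroup.mem_sup_right (Subgroup.mem_zpowers y)

/-- a `p`-subgroup `R` of `X` all of whose normalizing `p`-elements in `X` lie in `R` is a Sylow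
`p`-subgroup of `X` -/
theorem sylow_of_normalizer (p : ℕ) [Fact p.Prime] (R X : Subgroup G) (hRX : R ≤ X)
    (hR : IsPGroup p R)
    (h : ∀ y ∈ X, y ∈ Subgroup.normalizer (R : Set G) → (∃ k : ℕ, y ^ p ^ k = 1) → y ∈ R) :
    IsSylowIn p R X := by
  have hRp' : IsPGroup p (R.subgroupOf X) := hR.comap_subtype
  obtain ⟨S0, hS0⟩ := hRp'.exists_le_sylow
  have hS := isSylowIn_of_sylow S0
  have hRS : R ≤ (S0 : Subgroup ↥X).map X.subtype := by
    intro x hx
    exact ⟨⟨x, hRX hx⟩, hS0 (by simpa [Subgroup.mem_subgroupOf] using hx), rfl⟩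
  by_cases he : R = (S0 : Subgroup ↥X).map X.subtype
  · rw [he]; exact hS
  · exfalso
    obtain ⟨y, hyS, hyR, hyN⟩ := pgroup_grow p R _ hS.isPGroup (lt_of_le_of_ne hRS he)
    apply hyR
    apply h y (hS.le hyS) hyN
    obtain ⟨k, hk⟩ := hS.isPGroup ⟨y, hyS⟩
    exact ⟨k, by simpa using congrArg Subtype.val hk⟩

/-- maximal subgroups with trivial `p'`-core are normalizers of `Z(J(R))` -/
theorem zj_coatom (hG : Cfsg.IsMinSimpleOddOrder G) (L : Subgroup G) (hL : IsCoatom L)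
    (p : ℕ) [Fact p.Prime]
    (hO : ∀ N : Subgroup G, N ≤ L → L ≤ Subgroup.normalizer (N : Set G) →
      (Nat.card N).Coprime p → N = ⊥)
    (R : Subgroup G) (hR : IsSylowIn p R L) (hR1 : R ≠ ⊥) :
    Subgroup.normalizer ((ZE p R : Subgroup G) : Set G) = L := by
  have h1 : L ≤ Subgroup.normalizer ((ZE p R : Subgroup G) : Set G) := by
    apply zj_local p L R (coatom_solvable hG L hL) (coatom_odd hG L) hR
    intro N hNL hLN hcop n hn k _
    rw [hO N hNL hLN hcop, Subgroup.mem_bot] at hn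
    rw [hn, one_mul, mul_one]
  exact normalizer_eq_of_coatom hG L hL _ (ZE_ne_bot hR.isPGroup hR1)
    (pgroup_ne_top hG p _ (hR.isPGroup.to_le (ZE_le p R))) h1

/-- a nontrivial `p`-subgroup all of whose maximal overgroups have trivial `p'`-core lies in a
unique maximal subgroup -/
theorem uniq_of_core_trivial (hG : Cfsg.IsMinSimpleOddOrder G) (M : Subgroup G) (hM : IsCoatom M)
    (p : ℕ) [hp : Fact p.Prime] (A : Subgroup G) (hA1 : A ≠ ⊥) (hAp : IsPGroup p A) (hAM : A ≤ M)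
    (hO : ∀ L : Subgroup G, IsCoatom L → A ≤ L → ∀ N : Subgroup G, N ≤ L →
      L ≤ Subgroup.normalizer (N : Set G) → (Nat.card N).Coprime p → N = ⊥) :
    ∀ L : Subgroup G, IsCoatom L → A ≤ L → L = M := by
  by_contra hcon
  push Not at hcon
  obtain ⟨L₀, hL₀, hAL₀, hL₀M⟩ := hcon
  obtain ⟨𝒮, h𝒮⟩ : ∃ 𝒮 : Set (Subgroup G), 𝒮 = {L | IsCoatom L ∧ A ≤ L ∧ L ≠ M} := ⟨_, rfl⟩
  have h𝒮ne : 𝒮.Nonempty := ⟨L₀, h𝒮 ▸ ⟨hL₀, hAL₀, hL₀M⟩⟩
  obtain ⟨L, hL𝒮, hmax⟩ := Set.exists_max_image 𝒮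
    (fun L => (Nat.card (L ⊓ M : Subgroup G)).factorization p) (Set.toFinite 𝒮) h𝒮ne
  rw [h𝒮] at hL𝒮
  obtain ⟨hL, hAL, hLM⟩ := hL𝒮
  -- a Sylow subgroup of `L ⊓ M` containing `A`
  have hAp' : IsPGroup p (A.subgroupOf (L ⊓ M)) := hAp.comap_subtype
  obtain ⟨R0, hR0⟩ := hAp'.exists_le_sylow
  obtain ⟨R, hRdef⟩ : ∃ R : Subgroup G, R = (R0 : Subgroup ↥(L ⊓ M)).map (L ⊓ M).subtype :=
    ⟨_, rfl⟩
  have hR : IsSylowIn p R (L ⊓ M) := hRdef ▸ isSylowIn_of_sylow R0
  have hAR : A ≤ R := by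
    intro x hx
    rw [hRdef]
    exact ⟨⟨x, le_inf hAL hAM hx⟩, hR0 (by simpa [Subgroup.mem_subgroupOf] using hx), rfl⟩
  have hRcard : Nat.card R = p ^ (Nat.card (L ⊓ M : Subgroup G)).factorization p := by
    rw [hRdef, Subgroup.card_map_of_injective (Subgroup.subtype_injective _)]
    exact R0.card_eq_multiplicity
  have hR1 : R ≠ ⊥ := by
    intro h
    apply hA1
    rw [eq_bot_iff, ← h]
    exact hAR
  have hRL : R ≤ L := hR.le.trans inf_le_left
  have hRM : R ≤ M := hR.le.trans inf_le_right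
  have hRtop : R ≠ ⊤ := pgroup_ne_top hG p R hR.isPGroup
  have hsimple : IsSimpleGroup G := hG.2.1
  -- no `p`-element of `L ⊓ M` outside `R` normalizes `R`
  have hnoLM : ∀ y ∈ L ⊓ M, y ∈ Subgroup.normalizer (R : Set G) → (∃ k : ℕ, y ^ p ^ k = 1) →
      y ∈ R := by
    intro y hy hyN hyp
    by_contra hyR
    obtain ⟨h1, h2⟩ := sup_zpowers p R hR.isPGroup y hyN hyR hyp
    have h3 : R ⊔ Subgroup.zpowers y ≤ L ⊓ M := sup_le hR.le (by rw [Subgroup.zpowers_le]; exact hy)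
    have := hR.eq_of_le h3 h1 le_sup_left
    exact h2.ne this.symm
  -- if a `p`-element of `M` outside `R` normalizes `R` then `N_G(R) ≤ M`
  have hclaim : ∀ y ∈ M, y ∈ Subgroup.normalizer (R : Set G) → y ∉ R → (∃ k : ℕ, y ^ p ^ k = 1) →
      Subgroup.normalizer (R : Set G) ≤ M := by
    intro y hyM hyN hyR hyp
    have hne : Subgroup.normalizer (R : Set G) ≠ ⊤ := normalizer_ne_top_of_simple hR1 hRtop
    obtain ⟨L', hL', hNL'⟩ := (eq_top_or_exists_le_coatom _).resolve_left hne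
    by_cases hL'M : L' = M
    · rw [← hL'M]; exact hNL'
    · exfalso
      have hRL' : R ≤ L' := Subgroup.le_normalizer.trans hNL'
      have hL'𝒮 : L' ∈ 𝒮 := h𝒮 ▸ ⟨hL', hAR.trans hRL', hL'M⟩
      have h1 := hmax L' hL'𝒮
      obtain ⟨h2, h3⟩ := sup_zpowers p R hR.isPGroup y hyN hyR hyp
      have h4 : R ⊔ Subgroup.zpowers y ≤ L' ⊓ M :=
        sup_le (le_inf hRL' hRM)
          (by rw [Subgroup.zpowers_le]; exact Subgroup.mem_inf.mpr ⟨hNL' hyN, hyM⟩)
      obtain ⟨j, hj⟩ := IsPGroup.iff_card.mp h2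
      have h5 : p ^ j ∣ Nat.card (L' ⊓ M : Subgroup G) := hj ▸ Subgroup.card_dvd_of_le h4
      have h6 : j ≤ (Nat.card (L' ⊓ M : Subgroup G)).factorization p :=
        (hp.out.pow_dvd_iff_le_factorization Nat.card_pos.ne').mp h5
      have h7 : Nat.card R < Nat.card ↥(R ⊔ Subgroup.zpowers y) := by
        by_contra hge
        push Not at hge
        exact h3.ne (Subgroup.eq_of_le_of_card_ge h3.le hge)
      rw [hRcard, hj] at h7
      have h8 : (Nat.card (L ⊓ M : Subgroup G)).factorization p < j :=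
        (Nat.pow_lt_pow_iff_right hp.out.one_lt).mp h7
      omega
  -- a Sylow subgroup of `M` containing `R`
  have hRp' : IsPGroup p (R.subgroupOf M) := hR.isPGroup.comap_subtype
  obtain ⟨P0, hP0⟩ := hRp'.exists_le_sylow
  obtain ⟨P', hP'def⟩ : ∃ P' : Subgroup G, P' = (P0 : Subgroup ↥M).map M.subtype := ⟨_, rfl⟩
  have hP' : IsSylowIn p P' M := hP'def ▸ isSylowIn_of_sylow P0
  have hRP' : R ≤ P' := by
    intro x hx
    rw [hP'def]
    exact ⟨⟨x, hRM hx⟩, hP0 (by simpa [Subgroup.mem_subgroupOf] using hx), rfl⟩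
  have hpel : ∀ y ∈ P', ∃ k : ℕ, y ^ p ^ k = 1 := by
    intro y hy
    obtain ⟨k, hk⟩ := hP'.isPGroup ⟨y, hy⟩
    exact ⟨k, by simpa using congrArg Subtype.val hk⟩
  by_cases hRP : R = P'
  · -- `R` is a Sylow subgroup of `M`
    have hRSM : IsSylowIn p R M := hRP ▸ hP'
    have e1 := zj_coatom hG M hM p (hO M hM hAM) R hRSM hR1
    have hNRM : Subgroup.normalizer (R : Set G) ≤ M :=
      e1 ▸ normalizer_le_normalizer_ZE p R
    have hRSL : IsSylowIn p R L := by
      apply sylow_of_normalizer p R L hRL hR.isPGroup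
      intro y hyL hyN hyp
      exact hnoLM y (Subgroup.mem_inf.mpr ⟨hyL, hNRM hyN⟩) hyN hyp
    have e2 := zj_coatom hG L hL p (hO L hL hAL) R hRSL hR1
    exact hLM (e2.symm.trans e1)
  · obtain ⟨x, hxP', hxR, hxN⟩ := pgroup_grow p R P' hP'.isPGroup (lt_of_le_of_ne hRP' hRP)
    have hxM : x ∈ M := hP'.le hxP'
    have hNRM := hclaim x hxM hxN hxR (hpel x hxP')
    have hRSL : IsSylowIn p R L := by
      apply sylow_of_normalizer p R L hRL hR.isPGroup
      intro y hyL hyN hyp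
      exact hnoLM y (Subgroup.mem_inf.mpr ⟨hyL, hNRM hyN⟩) hyN hyp
    have e2 := zj_coatom hG L hL p (hO L hL hAL) R hRSL hR1
    have hxL : x ∈ L := e2 ▸ normalizer_le_normalizer_ZE p R hxN
    exact hxR (hnoLM x (Subgroup.mem_inf.mpr ⟨hxL, hxM⟩) hxN (hpel x hxP'))


end Cfsg.Agent.Lib.Helper11.MaxSubD
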