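import Mathlib
import Cfsg.Prelude.Def_Solvable
import Cfsg.Agent.Lib.Helper11.QuadPairPGroup
import Cfsg.Agent.Lib.Helper24.BaerSuzuki

set_option autoImplicit false

namespace Cfsg.Agent.Lib.Helper11.PStableOdd

open Cfsg.Agent.Lib.Helper11
open scoped commutatorElement

variable {G : Type*} [Group G]

/-- `x` acts quadratically on the subgroup `P` -/
def Quad (P : Subgroup G) (x : G) : Prop :=
  ∀ v ∈ P, x * (x * v * x⁻¹ * v⁻¹) * x⁻¹ = x * v * x⁻¹ * v⁻¹

theorem quad_conj (P : Subgroup G) (x n : G) (hn : n ∈ Subgroup.normalizer (P : Set G))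
    (hx : Quad P x) : Quad P (n * x * n⁻¹) := by
  intro v hv
  have hw : n⁻¹ * v * n ∈ P := by
    have := (Subgroup.mem_set_normalizer_iff.mp (inv_mem hn) v).mp hv
    simpa using this
  have h := hx _ hw
  have e1 : n * x * n⁻¹ * v * (n * x * n⁻¹)⁻¹ * v⁻¹
      = n * (x * (n⁻¹ * v * n) * x⁻¹ * (n⁻¹ * v * n)⁻¹) * n⁻¹ := by group
  rw [e1]
  calc n * x * n⁻¹ * (n * (x * (n⁻¹ * v * n) * x⁻¹ * (n⁻¹ * v * n)⁻¹) * n⁻¹) * (n * x * n⁻¹)⁻¹
      = n * (x * (x * (n⁻¹ * v * n) * x⁻¹ * (n⁻¹ * v * n)⁻¹) * x⁻¹) * n⁻¹ := by group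
    _ = _ := by rw [h]

theorem quad_of_commutator (P A : Subgroup G) (h : ⁅⁅P, A⁆, A⁆ = ⊥) (a : G) (ha : a ∈ A) :
    Quad P a := by
  intro v hv
  have h1 : ⁅v, a⁆ ∈ ⁅P, A⁆ := Subgroup.commutator_mem_commutator hv ha
  have h2 : ⁅⁅v, a⁆⁻¹, a⁆ ∈ ⁅⁅P, A⁆, A⁆ := Subgroup.commutator_mem_commutator (inv_mem h1) ha
  rw [h, Subgroup.mem_bot] at h2
  have e : a * v * a⁻¹ * v⁻¹ = ⁅v, a⁆⁻¹ := by
    rw [commutatorElement_def]; group
  rw [e]
  rw [commutatorElement_def] at h2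
  generalize ⁅v, a⁆ = c at h2 ⊢
  have h3 : c⁻¹ * a = a * c⁻¹ := by
    calc c⁻¹ * a = (c⁻¹ * a * c⁻¹⁻¹ * a⁻¹) * (a * c⁻¹) := by group
      _ = a * c⁻¹ := by rw [h2, one_mul]
  rw [← h3]; group

theorem pair_centralizes [Finite G] (p : ℕ) [Fact p.Prime] (hp2 : p ≠ 2)
    (hodd : Odd (Nat.card G)) (P : Subgroup G) (hP : IsPGroup p P) (x y : G)
    (hxN : x ∈ Subgroup.normalizer (P : Set G)) (hyN : y ∈ Subgroup.normalizer (P : Set G))
    (hx : Quad P x) (hy : Quad P y) (g : G) (hg : g ∈ Subgroup.closure ({x, y} : Set G)) (m : ℕ)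
    (hm : g ^ m = 1) (hpm : ¬ p ∣ m) : g ∈ Subgroup.centralizer (P : Set G) := by
  have hle : Subgroup.closure ({x, y} : Set G) ≤ Subgroup.normalizer (P : Set G) := by
    rw [Subgroup.closure_le]
    rintro z (rfl | rfl)
    · exact hxN
    · exact hyN
  have hoddΓ : Odd (Nat.card ↥(Subgroup.closure ({x, y} : Set G))) :=
    Odd.of_dvd_nat hodd (Subgroup.card_subgroup_dvd_card _)
  obtain ⟨φ, hφ⟩ : ∃ φ : ↥(Subgroup.closure ({x, y} : Set G)) →* MulAut ↥P,
      φ = P.normalizerMonoidHom.comp (Subgroup.inclusion hle) := ⟨_, rfl⟩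
  have hφa : ∀ (z : ↥(Subgroup.closure ({x, y} : Set G))) (v : ↥P),
      ((φ z v : ↥P) : G) = z * v * (z : G)⁻¹ := by
    intro z v
    rw [hφ]
    rfl
  obtain ⟨x', hx'⟩ : ∃ x' : ↥(Subgroup.closure ({x, y} : Set G)), (x' : G) = x :=
    ⟨⟨x, Subgroup.subset_closure (by simp)⟩, rfl⟩
  obtain ⟨y', hy'⟩ : ∃ y' : ↥(Subgroup.closure ({x, y} : Set G)), (y' : G) = y :=
    ⟨⟨y, Subgroup.subset_closure (by simp)⟩, rfl⟩
  have hgen : Subgroup.closure ({x', y'} : Set ↥(Subgroup.closure ({x, y} : Set G))) = ⊤ := by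
    have := Subgroup.closure_closure_coe_preimage (k := ({x, y} : Set G))
    convert this using 2
    ext z
    simp only [Set.mem_insert_iff, Set.mem_singleton_iff, Set.mem_preimage, Subtype.ext_iff, hx', hy']
  have key := QuadPairPGroup.trivial_on_pgroup p hp2 hoddΓ x' y' hgen ⟨g, hg⟩ m
    (Subtype.ext (by simpa using hm)) hpm (Nat.card ↥P) ↥P rfl hP φ ?_ ?_
  · rw [Subgroup.mem_centralizer_iff]
    intro v hv
    have h1 := hφa ⟨g, hg⟩ ⟨v, hv⟩
    rw [key] at h1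
    simp only [MulAut.one_apply] at h1
    calc v * g = (g * v * g⁻¹) * g := by rw [← h1]
      _ = g * v := by group
  · intro v
    apply Subtype.ext
    have := hx v v.2
    simp only [Subgroup.coe_mul, Subgroup.coe_inv, hφa, hx']
    exact this
  · intro v
    apply Subtype.ext
    have := hy v v.2
    simp only [Subgroup.coe_mul, Subgroup.coe_inv, hφa, hy']
    exact this

theorem quad_mem_normal_pgroup [Finite G] (p : ℕ) [Fact p.Prime] (hp2 : p ≠ 2)
    (hodd : Odd (Nat.card G)) (P : Subgroup G) (hP : IsPGroup p P) (a : G)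
    (haN : a ∈ Subgroup.normalizer (P : Set G)) (hap : ∃ k : ℕ, a ^ p ^ k = 1) (ha : Quad P a) :
    ∃ M : Subgroup (↥(Subgroup.normalizer (P : Set G)) ⧸
        (Subgroup.centralizer (P : Set G)).subgroupOf (Subgroup.normalizer (P : Set G))),
      M.Normal ∧ IsPGroup p M ∧
        (QuotientGroup.mk' ((Subgroup.centralizer (P : Set G)).subgroupOf
          (Subgroup.normalizer (P : Set G))) ⟨a, haN⟩) ∈ M := by
  obtain ⟨N, hN⟩ : ∃ N : Subgroup G, N = Subgroup.normalizer (P : Set G) := ⟨_, rfl⟩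
  obtain ⟨π, hπ⟩ : ∃ π : ↥(Subgroup.normalizer (P : Set G)) →*
      (↥(Subgroup.normalizer (P : Set G)) ⧸
        (Subgroup.centralizer (P : Set G)).subgroupOf (Subgroup.normalizer (P : Set G))),
      π = QuotientGroup.mk' ((Subgroup.centralizer (P : Set G)).subgroupOf
          (Subgroup.normalizer (P : Set G))) := ⟨_, rfl⟩
  have hπs : Function.Surjective π := by rw [hπ]; exact QuotientGroup.mk'_surjective _
  have hπ1 : ∀ z : ↥(Subgroup.normalizer (P : Set G)),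
      (z : G) ∈ Subgroup.centralizer (P : Set G) → π z = 1 := by
    intro z hz
    rw [hπ, QuotientGroup.mk'_apply, QuotientGroup.eq_one_iff]
    exact Subgroup.mem_subgroupOf.mpr hz
  rw [← hπ]
  obtain ⟨a', ha'⟩ : ∃ a' : ↥(Subgroup.normalizer (P : Set G)), a' = ⟨a, haN⟩ := ⟨_, rfl⟩
  rw [← ha']
  have ha'c : (a' : G) = a := by rw [ha']
  have hX : IsPGroup p ↥(Subgroup.zpowers (π a')) := by
    obtain ⟨k, hk⟩ := hap
    rintro ⟨z, hz⟩
    obtain ⟨i, rfl⟩ := Subgroup.mem_zpowers_iff.mp hz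
    refine ⟨k, Subtype.ext ?_⟩
    have h1 : a' ^ p ^ k = 1 := Subtype.ext (by simpa [ha'c] using hk)
    simp only [Subgroup.coe_pow, Subgroup.coe_one]
    rw [← zpow_natCast, ← zpow_mul, mul_comm, zpow_mul, zpow_natCast, ← map_pow, h1, map_one,
      one_zpow]
  suffices hBS : ∀ q, IsPGroup p ↥(Subgroup.zpowers (π a') ⊔
      (Subgroup.zpowers (π a')).map (MulAut.conj q).toMonoidHom) by
    obtain ⟨M, hMn, hMp, hXM⟩ :=
      Cfsg.Agent.Lib.Helper24.baer_suzuki (Subgroup.zpowers (π a')) hX hBS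
    exact ⟨M, hMn, hMp, hXM (Subgroup.mem_zpowers _)⟩
  intro q
  obtain ⟨n, rfl⟩ := hπs q
  have hle : Subgroup.zpowers (π a') ⊔
      (Subgroup.zpowers (π a')).map (MulAut.conj (π n)).toMonoidHom ≤
      (Subgroup.closure ({a', n * a' * n⁻¹} : Set ↥(Subgroup.normalizer (P : Set G)))).map π := by
    rw [sup_le_iff]
    constructor
    · rw [Subgroup.zpowers_le]
      exact ⟨a', Subgroup.subset_closure (by simp), rfl⟩
    · rw [MonoidHom.map_zpowers, Subgroup.zpowers_le]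
      refine ⟨n * a' * n⁻¹, Subgroup.subset_closure (by simp), ?_⟩
      simp [MulAut.conj_apply]
  refine IsPGroup.to_le ?_ hle
  rintro ⟨z, hz⟩
  obtain ⟨g, hg, rfl⟩ := hz
  have hgG : (g : G) ∈ Subgroup.closure ({a, (n : G) * a * (n : G)⁻¹} : Set G) := by
    have h1 := Subgroup.mem_map_of_mem (Subgroup.normalizer (P : Set G)).subtype hg
    rw [MonoidHom.map_closure] at h1
    have h2 : (Subgroup.normalizer (P : Set G)).subtype ''
        ({a', n * a' * n⁻¹} : Set ↥(Subgroup.normalizer (P : Set G))) =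
        {a, (n : G) * a * (n : G)⁻¹} := by
      rw [Set.image_pair]
      simp [ha'c]
    rw [h2] at h1
    exact h1
  obtain ⟨k, m, hpm, hkm⟩ := Nat.exists_eq_pow_mul_and_not_dvd (orderOf_pos (g : G)).ne' p
    (Nat.Prime.ne_one Fact.out)
  have hc : (g : G) ^ p ^ k ∈ Subgroup.centralizer (P : Set G) :=
    pair_centralizes p hp2 hodd P hP a ((n : G) * a * (n : G)⁻¹) haN
      (mul_mem (mul_mem n.2 haN) (inv_mem n.2)) ha (quad_conj P a n n.2 ha) _
      (pow_mem hgG _) m (by rw [← pow_mul, ← hkm, pow_orderOf_eq_one]) hpm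
  refine ⟨k, Subtype.ext ?_⟩
  simp only [Subgroup.coe_pow, Subgroup.coe_one]
  rw [← map_pow]
  exact hπ1 _ (by simpa using hc)

theorem quad_mem_pCore [Finite G] (p : ℕ) [Fact p.Prime] (hp2 : p ≠ 2)
    (hodd : Odd (Nat.card G)) (P : Subgroup G) (hP : IsPGroup p P) (a : G)
    (haN : a ∈ Subgroup.normalizer (P : Set G)) (hap : ∃ k : ℕ, a ^ p ^ k = 1) (ha : Quad P a) :
    (QuotientGroup.mk' ((Subgroup.centralizer (P : Set G)).subgroupOf
          (Subgroup.normalizer (P : Set G))) ⟨a, haN⟩) ∈ Cfsg.pCore p _ := by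
  obtain ⟨M, hMn, hMp, hM⟩ := quad_mem_normal_pgroup p hp2 hodd P hP a haN hap ha
  exact (le_sSup (show M ∈ {N : Subgroup _ | N.Normal ∧ IsPGroup p N} from ⟨hMn, hMp⟩)) hM

end Cfsg.Agent.Lib.Helper11.PStableOdd
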