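import Mathlib
import Cfsg.Prelude.Def_Solvable
import Cfsg.Agent.Lib.Helper11.PStableOdd
import Cfsg.Agent.Lib.Helper1.CFitting

set_option autoImplicit false

namespace Cfsg.Agent.Lib.Helper11.PStableOdd2

open Cfsg.Agent.Lib.Helper11 Cfsg.Agent.Lib.Helper11.PStableOdd

variable {G : Type*} [Group G]

/-- generic version: any quotient of a subgroup of the normalizer killing the centralizer -/
theorem quad_mem_normal_pgroup_gen [Finite G] (p : ℕ) [Fact p.Prime] (hp2 : p ≠ 2)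
    (hodd : Odd (Nat.card G)) (P : Subgroup G) (hP : IsPGroup p P)
    (N : Subgroup G) (hN : N ≤ Subgroup.normalizer (P : Set G))
    {Q : Type*} [Group Q] [Finite Q] (π : ↥N →* Q) (hπs : Function.Surjective π)
    (hπ1 : ∀ z : ↥N, (z : G) ∈ Subgroup.centralizer (P : Set G) → π z = 1)
    (a' : ↥N) (hap : ∃ k : ℕ, (a' : G) ^ p ^ k = 1) (ha : Quad P (a' : G)) :
    ∃ M : Subgroup Q, M.Normal ∧ IsPGroup p M ∧ π a' ∈ M := by
  have hX : IsPGroup p ↥(Subgroup.zpowers (π a')) := by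
    obtain ⟨k, hk⟩ := hap
    rintro ⟨z, hz⟩
    obtain ⟨i, rfl⟩ := Subgroup.mem_zpowers_iff.mp hz
    refine ⟨k, Subtype.ext ?_⟩
    have h1 : a' ^ p ^ k = 1 := Subtype.ext (by simpa using hk)
    simp only [Subgroup.coe_pow, Subgroup.coe_one]
    rw [← zpow_natCast, ← zpow_mul, mul_comm, zpow_mul, zpow_natCast, ← map_pow, h1, map_one,
      one_zpow]
  suffices hBS : ∀ q, IsPGroup p ↥(Subgroup.zpowers (π a') ⊔
      (Subgroup.zpowers (π a')).map (MulAut.conj q).toMonoidHom) by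
    obtain ⟨M, hMn, hMp, hXM⟩ :=
      Cfsg.Agent.Lib.Helper24.baer_suzuki (Subgroup.zpowers (π a')) hX hBS
    exact ⟨M, hMn, hMp, hXM (Subgroup.mem_zpowers _)⟩
  intro q
  obtain ⟨n, rfl⟩ := hπs q
  have hle : Subgroup.zpowers (π a') ⊔
      (Subgroup.zpowers (π a')).map (MulAut.conj (π n)).toMonoidHom ≤
      (Subgroup.closure ({a', n * a' * n⁻¹} : Set ↥N)).map π := by
    rw [sup_le_iff]
    constructor
    · rw [Subgroup.zpowers_le]
      exact ⟨a', Subgroup.subset_closure (by simp), rfl⟩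
    · rw [MonoidHom.map_zpowers, Subgroup.zpowers_le]
      refine ⟨n * a' * n⁻¹, Subgroup.subset_closure (by simp), ?_⟩
      simp [MulAut.conj_apply]
  refine IsPGroup.to_le ?_ hle
  rintro ⟨z, hz⟩
  obtain ⟨g, hg, rfl⟩ := hz
  have hgG : (g : G) ∈ Subgroup.closure ({(a' : G), (n : G) * a' * (n : G)⁻¹} : Set G) := by
    have h1 := Subgroup.mem_map_of_mem N.subtype hg
    rw [MonoidHom.map_closure] at h1
    have h2 : N.subtype '' ({a', n * a' * n⁻¹} : Set ↥N) =
        {(a' : G), (n : G) * a' * (n : G)⁻¹} := by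
      rw [Set.image_pair]
      simp
    rw [h2] at h1
    exact h1
  obtain ⟨k, m, hpm, hkm⟩ := Nat.exists_eq_pow_mul_and_not_dvd (orderOf_pos (g : G)).ne' p
    (Nat.Prime.ne_one Fact.out)
  have hc : (g : G) ^ p ^ k ∈ Subgroup.centralizer (P : Set G) :=
    pair_centralizes p hp2 hodd P hP a' ((n : G) * a' * (n : G)⁻¹) (hN a'.2)
      (mul_mem (mul_mem (hN n.2) (hN a'.2)) (inv_mem (hN n.2))) ha
      (quad_conj P a' n (hN n.2) ha) _
      (pow_mem hgG _) m (by rw [← pow_mul, ← hkm, pow_orderOf_eq_one]) hpm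
  refine ⟨k, Subtype.ext ?_⟩
  simp only [Subgroup.coe_pow, Subgroup.coe_one]
  rw [← map_pow]
  exact hπ1 _ (by simpa using hc)

/-- For a normal `p`-subgroup `P`: a quadratically acting `p`-element maps into `O_p(G / C_G(P))`. -/
theorem quad_mem_pCore_normal [Finite G] (p : ℕ) [Fact p.Prime] (hp2 : p ≠ 2)
    (hodd : Odd (Nat.card G)) (P : Subgroup G) [P.Normal] (hP : IsPGroup p P) (a : G)
    (hap : ∃ k : ℕ, a ^ p ^ k = 1) (ha : Quad P a) :
    (QuotientGroup.mk' (Subgroup.centralizer (P : Set G)) a) ∈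
      Cfsg.pCore p (G ⧸ Subgroup.centralizer (P : Set G)) := by
  have hN : (⊤ : Subgroup G) ≤ Subgroup.normalizer (P : Set G) := by
    rw [Subgroup.normalizer_eq_top]
  obtain ⟨M, hMn, hMp, hM⟩ := quad_mem_normal_pgroup_gen p hp2 hodd P hP ⊤ hN
    ((QuotientGroup.mk' (Subgroup.centralizer (P : Set G))).comp (⊤ : Subgroup G).subtype)
    (by
      intro q
      obtain ⟨g, rfl⟩ := QuotientGroup.mk'_surjective _ q
      exact ⟨⟨g, Subgroup.mem_top g⟩, rfl⟩)
    (by
      intro z hz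
      simp only [MonoidHom.coe_comp, Function.comp_apply, Subgroup.coe_subtype,
        QuotientGroup.mk'_apply, QuotientGroup.eq_one_iff]
      exact hz)
    ⟨a, Subgroup.mem_top a⟩ hap ha
  exact (le_sSup (show M ∈ {N : Subgroup _ | N.Normal ∧ IsPGroup p N} from ⟨hMn, hMp⟩)) hM

/-- an element normalising an abelian subgroup `B`... : elements of an abelian subgroup normalised
by `P` act quadratically on `P` -/
theorem quad_of_abelian (P B : Subgroup G) (hB : ∀ x ∈ B, ∀ y ∈ B, x * y = y * x)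
    (hPB : P ≤ Subgroup.normalizer (B : Set G)) (b : G) (hb : b ∈ B) : Quad P b := by
  intro v hv
  have h1 : v * b * v⁻¹ ∈ B := (Subgroup.mem_set_normalizer_iff.mp (hPB hv) b).mp hb
  have h2 : b * v * b⁻¹ * v⁻¹ ∈ B := by
    have : b * v * b⁻¹ * v⁻¹ = b * (v * b * v⁻¹)⁻¹ := by group
    rw [this]
    exact mul_mem hb (inv_mem h1)
  have h3 := hB _ h2 b hb
  generalize b * v * b⁻¹ * v⁻¹ = c at h3 ⊢
  rw [← h3]
  group

theorem eq_one_of_pow_coprime {x : G} {a b : ℕ} (ha : x ^ a = 1) (hb : x ^ b = 1)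
    (hab : Nat.Coprime a b) : x = 1 := by
  have := pow_gcd_eq_one.mpr ⟨ha, hb⟩
  rwa [Nat.Coprime.gcd_eq_one hab, pow_one] at this

/-- Hall-Higman type consequence: `C_G(P)` is a `p`-group when `O_{p'}(G) = 1`, `G` solvable and
`O_p(G) ∩ C_G(P) ≤ P`. -/
theorem centralizer_isPGroup [Finite G] [Group.IsSolvable G] (p : ℕ) [Fact p.Prime]
    (P : Subgroup G) [P.Normal] (hP : IsPGroup p P) (hO : Cfsg.pPrimeCore p G = ⊥)
    (hQ : Cfsg.pCore p G ⊓ Subgroup.centralizer (P : Set G) ≤ P) :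
    IsPGroup p ↥(Subgroup.centralizer (P : Set G)) := by
  have hCn : (Subgroup.centralizer (P : Set G)).Normal := Subgroup.normal_centralizer
  have hQn : (Cfsg.pCore p G).Normal := Cfsg.Agent.Lib.Helper1.pCore_normal p
  have hQp : IsPGroup p ↥(Cfsg.pCore p G) := Cfsg.Agent.Lib.Helper1.pCore_isPGroup p
  have hCQ := Cfsg.Agent.Lib.Helper1.centralizer_pCore_le (G := G) p hO
  have hpp : p.Prime := Fact.out
  rintro ⟨c, hc⟩
  obtain ⟨k, m, hpm, hkm⟩ := Nat.exists_eq_pow_mul_and_not_dvd (orderOf_pos c).ne' p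
    hpp.ne_one
  refine ⟨k, Subtype.ext ?_⟩
  simp only [Subgroup.coe_pow, Subgroup.coe_one]
  obtain ⟨c0, hc0⟩ : ∃ c0 : G, c0 = c ^ p ^ k := ⟨_, rfl⟩
  rw [← hc0]
  have hc0C : c0 ∈ Subgroup.centralizer (P : Set G) := by rw [hc0]; exact pow_mem hc _
  have hc0m : c0 ^ m = 1 := by rw [hc0, ← pow_mul, ← hkm, pow_orderOf_eq_one]
  have hcop : ∀ j : ℕ, Nat.Coprime m (p ^ j) := fun j =>
    Nat.Coprime.pow_right j ((Nat.Prime.coprime_iff_not_dvd hpp).mpr hpm).symm
  have hcent : c0 ∈ Subgroup.centralizer (Cfsg.pCore p G : Set G) := by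
    rw [Subgroup.mem_centralizer_iff]
    intro q hq
    obtain ⟨z, hz⟩ : ∃ z : G, z = q⁻¹ * c0 * q * c0⁻¹ := ⟨_, rfl⟩
    have hzQ : z ∈ Cfsg.pCore p G := by
      have h1 : z = q⁻¹ * (c0 * q * c0⁻¹) := by rw [hz]; group
      rw [h1]
      exact mul_mem (inv_mem hq) (hQn.conj_mem q hq c0)
    have hzC : z ∈ Subgroup.centralizer (P : Set G) := by
      have h1 : z = (q⁻¹ * c0 * q⁻¹⁻¹) * c0⁻¹ := by rw [hz]; group
      rw [h1]
      exact mul_mem (hCn.conj_mem c0 hc0C q⁻¹) (inv_mem hc0C)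
    have hzP : z ∈ P := hQ ⟨hzQ, hzC⟩
    have hcomm : z * c0 = c0 * z := Subgroup.mem_centralizer_iff.mp hc0C z hzP
    have hconj : c0 * q * c0⁻¹ = q * z := by rw [hz]; group
    have hpow : ∀ n : ℕ, c0 ^ n * q * (c0 ^ n)⁻¹ = q * z ^ n := by
      intro n
      induction n with
      | zero => simp
      | succ n ih =>
        have hzn : c0 * z ^ n * c0⁻¹ = z ^ n := by
          have : Commute c0 (z ^ n) := (Commute.pow_right hcomm.symm n)
          rw [this.eq]; group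
        calc c0 ^ (n + 1) * q * (c0 ^ (n + 1))⁻¹
            = c0 * (c0 ^ n * q * (c0 ^ n)⁻¹) * c0⁻¹ := by rw [pow_succ']; group
          _ = c0 * (q * z ^ n) * c0⁻¹ := by rw [ih]
          _ = (c0 * q * c0⁻¹) * (c0 * z ^ n * c0⁻¹) := by group
          _ = q * z * z ^ n := by rw [hconj, hzn]
          _ = q * z ^ (n + 1) := by rw [pow_succ']; group
    have hzm : z ^ m = 1 := by
      have := hpow m
      rw [hc0m] at this
      simpa using this.symm
    obtain ⟨j, hj⟩ := hP ⟨z, hzP⟩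
    have hzj : z ^ p ^ j = 1 := by simpa using congrArg Subtype.val hj
    have hz1 : z = 1 := eq_one_of_pow_coprime hzm hzj (hcop j)
    rw [hz1, mul_one] at hconj
    calc q * c0 = (c0 * q * c0⁻¹) * c0 := by rw [hconj]
      _ = c0 * q := by group
  have hc0Q := hCQ hcent
  obtain ⟨j, hj⟩ := hQp ⟨c0, hc0Q⟩
  have hc0j : c0 ^ p ^ j = 1 := by simpa using congrArg Subtype.val hj
  exact eq_one_of_pow_coprime hc0m hc0j (hcop j)

end Cfsg.Agent.Lib.Helper11.PStableOdd2
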