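import Mathlib
import Cfsg.Agent.Lib.Helper11.MaxSubD
import Cfsg.Agent.Lib.Helper11.PStableOdd2

set_option autoImplicit false

namespace Cfsg.Agent.Lib.Helper11.MaxSubE

open Cfsg.Agent.Lib.Helper11 Cfsg.Agent.Lib.Helper11.MaxLocA Cfsg.Agent.Lib.Helper11.MaxLocB
  Cfsg.Agent.Lib.Helper11.MaxSubA Cfsg.Agent.Lib.Helper11.MaxSubB Cfsg.Agent.Lib.Helper11.MaxSubC
  Cfsg.Agent.Lib.Helper11.MaxSubD Cfsg.Agent.Lib.Helper18 Cfsg.Agent.Lib.Helper1.GNPC3
  Cfsg.Agent.Lib.Helper11.PStableOdd Cfsg.Agent.Lib.Helper11.PStableOdd2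

variable {G : Type*} [Group G] [Finite G]

/-- a normal `p`-subgroup of `M` lies in every Sylow `p`-subgroup of `M` -/
theorem fitting_le_sylow (M : Subgroup G) (p : ℕ) [Fact p.Prime]
    (hFp : IsPGroup p ↥(Cfsg.fittingOf M)) (Pg : Subgroup G) (hPg : IsSylowIn p Pg M) :
    Cfsg.fittingOf M ≤ Pg := by
  obtain ⟨x, hx, hle⟩ := hPg.exists_conj_le (fittingOf_le M) hFp
  rwa [conjSub_eq_of_mem_normalizer (le_normalizer_fittingOf M hx)] at hle

/-- `p`-stability: when `F(M)` is a `p`-group, abelian normal subgroups of a Sylow `p`-subgroup of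
the odd-order solvable group `M` lie in `F(M)` -/
theorem abelian_normal_le_fitting (M : Subgroup G) (hMs : Group.IsSolvable M)
    (hModd : Odd (Nat.card M)) (p : ℕ) [hp : Fact p.Prime]
    (hFp : IsPGroup p ↥(Cfsg.fittingOf M)) (Pg A : Subgroup G) (hPg : IsSylowIn p Pg M)
    (hAP : A ≤ Pg) (hPA : Pg ≤ Subgroup.normalizer (A : Set G))
    (hAab : ∀ a ∈ A, ∀ b ∈ A, a * b = b * a) : A ≤ Cfsg.fittingOf M := by
  intro a ha
  have haM : a ∈ M := hPg.le (hAP ha)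
  have hFPg := fitting_le_sylow M p hFp Pg hPg
  by_cases ha1 : a = 1
  · rw [ha1]; exact Subgroup.one_mem _
  have hap : ∃ k : ℕ, a ^ p ^ k = 1 := by
    obtain ⟨k, hk⟩ := hPg.isPGroup ⟨a, hAP ha⟩
    exact ⟨k, by simpa using congrArg Subtype.val hk⟩
  have hp2 : p ≠ 2 := by
    rintro rfl
    obtain ⟨k, hk⟩ := hap
    have h1 : orderOf a ∣ 2 ^ k := orderOf_dvd_of_pow_eq_one hk
    have h2 : orderOf a ∣ Nat.card M := by
      have := orderOf_dvd_natCard (⟨a, haM⟩ : ↥M)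
      rwa [Subgroup.orderOf_mk] at this
    have h3 : Odd (orderOf a) := Odd.of_dvd_nat hModd h2
    have h4 : (orderOf a).Coprime (2 ^ k) :=
      Nat.Coprime.pow_right k (Nat.coprime_two_right.mpr h3)
    exact ha1 (orderOf_eq_one_iff.mp (Nat.Coprime.eq_one_of_dvd h4 h1))
  have hquadG : Quad (Cfsg.fittingOf M) a :=
    quad_of_abelian (Cfsg.fittingOf M) A hAab (hFPg.trans hPA) a ha
  obtain ⟨F', hF'⟩ : ∃ F' : Subgroup ↥M, F' = Cfsg.fittingSubgroup ↥M := ⟨_, rfl⟩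
  have hF'n : F'.Normal := hF' ▸ Cfsg.Agent.Lib.Helper1.fittingSubgroup_normal
  have hmemF : ∀ v : ↥M, v ∈ F' → (v : G) ∈ Cfsg.fittingOf M := by
    intro v hv
    exact ⟨v, hF' ▸ hv, rfl⟩
  have hF'p : IsPGroup p F' := by
    rintro ⟨v, hv⟩
    obtain ⟨k, hk⟩ := hFp ⟨(v : G), hmemF v hv⟩
    refine ⟨k, Subtype.ext (Subtype.ext ?_)⟩
    have := congrArg Subtype.val hk
    simpa using this
  have hquad : Quad F' (⟨a, haM⟩ : ↥M) := by
    intro v hv
    apply Subtype.ext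
    have := hquadG (v : G) (hmemF v hv)
    simpa using this
  have hap' : ∃ k : ℕ, (⟨a, haM⟩ : ↥M) ^ p ^ k = 1 := by
    obtain ⟨k, hk⟩ := hap
    exact ⟨k, Subtype.ext (by simpa using hk)⟩
  have h1 := quad_mem_pCore_normal p hp2 hModd F' hF'p ⟨a, haM⟩ hap' hquad
  obtain ⟨N, hN⟩ : ∃ N : Subgroup ↥M, N = (Cfsg.pCore p (↥M ⧸ Subgroup.centralizer (F' : Set ↥M))).comap
      (QuotientGroup.mk' (Subgroup.centralizer (F' : Set ↥M))) := ⟨_, rfl⟩
  have haN : (⟨a, haM⟩ : ↥M) ∈ N := by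
    rw [hN, Subgroup.mem_comap]
    exact h1
  have hNn : N.Normal := by
    rw [hN]
    exact Subgroup.Normal.comap (Cfsg.Agent.Lib.Helper1.pCore_normal p) _
  have hCle : Subgroup.centralizer (F' : Set ↥M) ≤ F' := by
    rw [hF']
    exact Cfsg.Agent.Lib.Helper1.centralizer_fittingSubgroup_le
  have hNp : IsPGroup p N := by
    rw [hN]
    apply IsPGroup.comap_of_ker_isPGroup (Cfsg.Agent.Lib.Helper1.pCore_isPGroup p)
    rw [QuotientGroup.ker_mk']
    exact hF'p.to_le hCle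
  have hNnil : Group.IsNilpotent N := hNp.isNilpotent
  have hNF : N ≤ F' := by
    rw [hF']
    exact Cfsg.Agent.Lib.Helper1.le_fittingSubgroup hNn hNnil
  exact hmemF _ (hNF haN)

end Cfsg.Agent.Lib.Helper11.MaxSubE
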