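import Mathlib
import Cfsg.Agent.Lib.Helper11.ThompsonTrans
import Cfsg.Agent.Lib.Helper22.Sylow2
import Cfsg.Agent.S1327

set_option autoImplicit false
open scoped commutatorElement

namespace Cfsg.Agent.Lib.Helper11

/-- a finite solvable group is `p`-constrained -/
theorem isPConstrained_of_isSolvable {H : Type*} [Group H] [Finite H] [hs : Group.IsSolvable H]
    (p : ℕ) [Fact p.Prime] : Cfsg.IsPConstrained p H := by
  rw [Cfsg.Agent.S1327.result]
  unfold Cfsg.pLayer
  have hempty : {K : Subgroup H | Cfsg.IsPComponent p K} = ∅ := by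
    rw [Set.eq_empty_iff_forall_notMem]
    rintro K ⟨_, ⟨_, hperf, hsimp⟩, _⟩
    have hsolvQ : Group.IsSolvable (H ⧸ Cfsg.pPrimeCore p H) := inferInstance
    have hsolvK : Group.IsSolvable ↥(K.map (QuotientGroup.mk' (Cfsg.pPrimeCore p H))) :=
      inferInstance
    have hsub : Subsingleton ↥(K.map (QuotientGroup.mk' (Cfsg.pPrimeCore p H))) := by
      by_contra hne
      rw [not_subsingleton_iff_nontrivial] at hne
      exact Group.IsPerfect.not_isSolvable
        (G := ↥(K.map (QuotientGroup.mk' (Cfsg.pPrimeCore p H)))) hsolvK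
    have hnt : Nontrivial (↥(K.map (QuotientGroup.mk' (Cfsg.pPrimeCore p H))) ⧸
        Subgroup.center ↥(K.map (QuotientGroup.mk' (Cfsg.pPrimeCore p H)))) := hsimp.toNontrivial
    have hsub2 : Subsingleton (↥(K.map (QuotientGroup.mk' (Cfsg.pPrimeCore p H))) ⧸
        Subgroup.center ↥(K.map (QuotientGroup.mk' (Cfsg.pPrimeCore p H)))) := inferInstance
    exact not_subsingleton _ hsub2
  rw [hempty, sSup_empty]

variable {G : Type*} [Group G] [Finite G]

/-- a self-centralizing normal abelian subgroup of a Sylow subgroup contains the `p`-elements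
of its centralizer -/
theorem scn_full (p : ℕ) [Fact p.Prime] (P : Sylow p G) (B : Subgroup G)
    (hBn : (P : Subgroup G) ≤ Subgroup.normalizer (B : Set G))
    (hBc : (P : Subgroup G) ⊓ Subgroup.centralizer (B : Set G) = B) :
    ∀ x ∈ Subgroup.centralizer (B : Set G), IsPGroup p (Subgroup.zpowers x) → x ∈ B := by
  intro x hx hxp
  obtain ⟨k, hk⟩ := (IsPGroup.iff_card).mp hxp
  rw [Nat.card_zpowers] at hk
  have hidx : ¬ p ∣ (P : Subgroup G).relIndex (Subgroup.normalizer (B : Set G)) := by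
    intro h
    exact P.not_dvd_index (h.trans (Subgroup.relIndex_dvd_index_of_le hBn))
  obtain ⟨h, hh, hconj⟩ := Cfsg.Agent.Lib.Helper22.exists_conj_mem_of_pelement p
    (Subgroup.normalizer (B : Set G)) (P : Subgroup G) P.isPGroup' hidx x
    (Subgroup.centralizer_le_normalizer (B : Set G) hx) k hk
  have hcent : h⁻¹ * x * h ∈ Subgroup.centralizer (B : Set G) := by
    rw [Subgroup.mem_centralizer_iff]
    intro b hb
    have hb' : h * b * h⁻¹ ∈ B := (Subgroup.mem_normalizer_iff.mp hh b).mp hb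
    have h1 := (Subgroup.mem_centralizer_iff.mp hx) _ hb'
    calc b * (h⁻¹ * x * h) = h⁻¹ * ((h * b * h⁻¹) * x) * h := by group
      _ = h⁻¹ * (x * (h * b * h⁻¹)) * h := by rw [h1]
      _ = h⁻¹ * x * h * b := by group
  have hB : h⁻¹ * x * h ∈ B := by
    rw [← hBc]
    exact ⟨hconj, hcent⟩
  have := (Subgroup.mem_normalizer_iff.mp hh _).mp hB
  have e : h * (h⁻¹ * x * h) * h⁻¹ = x := by group
  rwa [e] at this

/-- the transitivity theorem in terms of `IsMaxInv` -/
theorem thompson_transitivity_core (p : ℕ) [Fact p.Prime]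
    (hloc : ∀ T : Subgroup G, IsPGroup p T → T ≠ ⊥ →
      Cfsg.IsPConstrained p ↥(Subgroup.normalizer (T : Set G)))
    (h2 : p = 2 → ∀ S : Sylow p G, Group.IsNilpotent (S : Subgroup G) ∧
      Group.nilpotencyClass (S : Subgroup G) ≤ 2)
    (E : Subgroup G) (hEp : IsPGroup p E) (hEc : ∀ a ∈ E, ∀ b ∈ E, a * b = b * a)
    (hEfull : ∀ x ∈ Subgroup.centralizer (E : Set G), IsPGroup p (Subgroup.zpowers x) → x ∈ E)
    (A₀ : Subgroup G) (hA₀E : A₀ ≤ E) (hA₀ : Cfsg.IsElementaryAbelian p A₀)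
    (hA₀3 : p ^ 3 ≤ Nat.card A₀)
    (q : ℕ) [Fact q.Prime] (hqp : q ≠ p) (Q₁ Q₂ : Subgroup G)
    (h₁ : IsMaxInv E q Q₁) (h₂ : IsMaxInv E q Q₂) :
    ∃ c ∈ Cfsg.piCoreOf (Cfsg.primesNotDvd p) (Subgroup.centralizer (E : Set G)),
      Q₂ = conjSub c Q₁ := by
  have hCE : Cfsg.piCoreOf (Cfsg.primesNotDvd p) (Subgroup.centralizer (E : Set G)) ≤
      Subgroup.centralizer (E : Set G) := by
    unfold Cfsg.piCoreOf
    exact Subgroup.map_subtype_le _
  exact trans_engine E
    (Cfsg.piCoreOf (Cfsg.primesNotDvd p) (Subgroup.centralizer (E : Set G))) q hCE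
    (fun _ => True) (fun _ _ _ _ => trivial)
    (fun Q₁ Q₂ h₁ h₂ _ hD₁ hD₂ =>
      thompson_link p hloc h2 E hEp hEc hEfull A₀ hA₀E hA₀ hA₀3 q hqp Q₁ Q₂ h₁ h₂ hD₁ hD₂)
    Q₁ Q₂ h₁ h₂ trivial

end Cfsg.Agent.Lib.Helper11
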