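import Mathlib
import Cfsg.Agent.Lib.Helper11.BenderA
import Cfsg.Agent.S1397

set_option autoImplicit false
open scoped commutatorElement

namespace Cfsg.Agent.Lib.Helper11.BenderB

open Cfsg.Agent.Lib.Helper11 Cfsg.Agent.Lib.Helper11.MaxLocA Cfsg.Agent.Lib.Helper11.MaxLocB
  Cfsg.Agent.Lib.Helper11.MaxSubA Cfsg.Agent.Lib.Helper11.MaxSubB Cfsg.Agent.Lib.Helper11.MaxSubC
  Cfsg.Agent.Lib.Helper11.MaxSubD Cfsg.Agent.Lib.Helper11.MaxSubE
  Cfsg.Agent.Lib.Helper18 Cfsg.Agent.Lib.Helper11.BenderA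

variable {G : Type*} [Group G] [Finite G]

omit [Finite G] in
/-- transfer of "rank at least three" to an overgroup -/
theorem not_pRankLE_of_le (p : ℕ) [hp : Fact p.Prime] (A₁ P : Subgroup G) (hA₁P : A₁ ≤ P)
    (hA₁e : Cfsg.IsElementaryAbelian p A₁) (hA₁3 : p ^ 3 ≤ Nat.card A₁) :
    ¬ Cfsg.PRankLE p 2 ↥P := by
  intro h
  have h1 := h (A₁.subgroupOf P) ?_ ?_
  · rw [Nat.card_congr (Subgroup.subgroupOfEquivOfLe hA₁P).toEquiv] at h1
    have := Nat.pow_lt_pow_right hp.out.one_lt (show 2 < 3 by norm_num)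
    omega
  · refine ⟨⟨fun a b => ?_⟩⟩
    apply Subtype.ext
    apply Subtype.ext
    have := hA₁e.1.is_comm.comm ⟨a.1.1, a.2⟩ ⟨b.1.1, b.2⟩
    have h' := congrArg Subtype.val this
    simpa using h'
  · intro a ha
    apply Subtype.ext
    have := hA₁e.2 _ ha
    simpa using this

/-- **Fitting uniqueness**: a maximal subgroup whose Fitting subgroup has rank at least three is the
only maximal subgroup containing that Fitting subgroup -/
theorem fitting_unique (hG : Cfsg.IsMinSimpleOddOrder G) (M : Subgroup G) (hM : IsCoatom M)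
    (hr : ¬ Cfsg.RankLE 2 ↥(Cfsg.fittingOf M)) :
    ∀ L : Subgroup G, IsCoatom L → Cfsg.fittingOf M ≤ L → L = M := by
  classical
  obtain ⟨p, hp, A₁, hA₁F, hA₁e, hA₁3⟩ := exists_elemAb_of_not_rankLE (Cfsg.fittingOf M) 2 hr
  have : Fact p.Prime := ⟨hp⟩
  have hfin : {B : Subgroup G | B ≤ Cfsg.fittingOf M ∧ Cfsg.IsElementaryAbelian p B}.Finite :=
    Set.toFinite _
  obtain ⟨A₀, hA₁A₀, hA₀⟩ := hfin.exists_le_maximal (a := A₁) ⟨hA₁F, hA₁e⟩
  have hA₀F : A₀ ≤ Cfsg.fittingOf M := hA₀.prop.1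
  have hA₀e : Cfsg.IsElementaryAbelian p A₀ := hA₀.prop.2
  have hA₀3 : p ^ 3 ≤ Nat.card A₀ :=
    hA₁3.trans (Nat.card_mono (Set.toFinite _) hA₁A₀)
  have hA₀max : ∀ B : Subgroup G, B ≤ Cfsg.fittingOf M → Cfsg.IsElementaryAbelian p B →
      A₀ ≤ B → B = A₀ := fun B hBF hBe hAB => le_antisymm (hA₀.le_of_ge ⟨hBF, hBe⟩ hAB) hAB
  obtain ⟨ha, hb⟩ := Cfsg.Agent.S1397.result hG M hM p A₀ hA₀F hA₀e hA₀3 hA₀max
  intro L hL hFL
  by_cases hFp : IsPGroup p ↥(Cfsg.fittingOf M)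
  · obtain ⟨P⟩ : Nonempty (Sylow p M) := inferInstance
    obtain ⟨-, h2⟩ := hb hFp P
    have hPS : IsSylowIn p ((P : Subgroup M).map M.subtype) M := isSylowIn_of_sylow P
    have hFP := fitting_le_sylow M p hFp _ hPS
    have hrP : ¬ Cfsg.PRankLE p 2 ↥((P : Subgroup M).map M.subtype) :=
      not_pRankLE_of_le p A₁ _ (hA₁F.trans hFP) hA₁e hA₁3
    have hp2 : p ≠ 2 := by
      rintro rfl
      have h1 : 2 ∣ Nat.card A₁ := by
        have : (2 : ℕ) ∣ 2 ^ 3 := ⟨4, by norm_num⟩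
        obtain ⟨k, hk⟩ := IsPGroup.iff_card.mp
          (show IsPGroup 2 A₁ from fun a => ⟨1, Subtype.ext (by simpa using hA₁e.2 a a.2)⟩)
        rw [hk] at hA₁3 ⊢
        have hk0 : k ≠ 0 := by
          rintro rfl
          norm_num at hA₁3
        exact dvd_pow_self 2 hk0
      have h2 : 2 ∣ Nat.card G := h1.trans (Subgroup.card_subgroup_dvd_card A₁)
      have := hG.1
      rw [Nat.odd_iff] at this
      omega
    obtain ⟨A, hAscn, hAr⟩ := exists_scn3 p hp2 _ hPS.isPGroup hrP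
    obtain ⟨hAF, M', hM', huniq⟩ := h2 A hAscn hAr
    have e1 := huniq L ⟨hL, hAF.trans hFL⟩
    have e2 := huniq M ⟨hM, hAF.trans (fittingOf_le M)⟩
    rw [e1, e2]
  · obtain ⟨M', hM', huniq⟩ := ha hFp
    have e1 := huniq L ⟨hL, inf_le_left.trans hFL⟩
    have e2 := huniq M ⟨hM, inf_le_left.trans (fittingOf_le M)⟩
    rw [e1, e2]

end Cfsg.Agent.Lib.Helper11.BenderB
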