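import Mathlib
import Cfsg.Prelude.Def_OddOrderLocal
import Cfsg.Agent.Lib.Helper11.AutRankTwo
import Cfsg.Agent.Lib.Helper1.PLength
import Cfsg.Agent.S0640

set_option autoImplicit false

namespace Cfsg.Agent.Lib.Helper11.RankTwoSolvable

open scoped commutatorElement

variable {G : Type*} [Group G]

/-- a normal `p'`-subgroup of `p`-power index is a complement to every Sylow `p`-subgroup -/
theorem isComplement'_sylow [Finite G] (p : ℕ) [Fact p.Prime] (N : Subgroup G)
    (hN : (Nat.card N).Coprime p) (a : ℕ) (hidx : N.index = p ^ a) (P : Sylow p G) :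
    N.IsComplement' (P : Subgroup G) := by
  have hpp : p.Prime := Fact.out
  have hcard : Nat.card N * p ^ a = Nat.card G := by rw [← hidx]; exact Subgroup.card_mul_index N
  have hP : Nat.card (P : Subgroup G) = p ^ a := by
    rw [P.card_eq_multiplicity, ← hcard,
      Nat.factorization_mul Nat.card_pos.ne' (pow_pos hpp.pos a).ne']
    simp only [Finsupp.coe_add, Pi.add_apply]
    rw [Nat.factorization_eq_zero_of_not_dvd
      (fun h => (Nat.Prime.coprime_iff_not_dvd hpp).mp hN.symm h),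
      hpp.factorization_pow]
    simp
  apply Subgroup.isComplement'_of_coprime
  · rw [hP]; exact hcard
  · rw [hP]; exact Nat.Coprime.pow_right a hN

/-- the `p`-rank does not grow in a quotient by a normal `p'`-subgroup -/
theorem prank_quotient [Finite G] (p k : ℕ) [Fact p.Prime] (hr : Cfsg.PRankLE p k G)
    (K : Subgroup G) [K.Normal] (hK : (Nat.card K).Coprime p) : Cfsg.PRankLE p k (G ⧸ K) := by
  have hpp : p.Prime := Fact.out
  intro A hAc hAexp
  have hAp : IsPGroup p ↥A := fun a => ⟨1, by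
    rw [pow_one]
    exact Subtype.ext (by simpa using hAexp a.1 a.2)⟩
  have hπ : Function.Surjective (QuotientGroup.mk' K) := QuotientGroup.mk'_surjective K
  obtain ⟨Sb, hSb⟩ := hAp.exists_le_sylow
  obtain ⟨S, hS⟩ := Sylow.mapSurjective_surjective hπ p Sb
  have hSK : (S : Subgroup G) ⊓ K = ⊥ := by
    apply disjoint_iff.mp
    apply Subgroup.disjoint_of_coprime_natCard
    obtain ⟨j, hj⟩ := IsPGroup.iff_card.mp S.isPGroup'
    rw [hj]
    exact (Nat.Coprime.pow_right j hK).symm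
  have hinjS : ∀ x ∈ (S : Subgroup G), QuotientGroup.mk' K x = 1 → x = 1 := by
    intro x hx h1
    have hxK : x ∈ K := by
      rwa [QuotientGroup.mk'_apply, QuotientGroup.eq_one_iff] at h1
    have : x ∈ (S : Subgroup G) ⊓ K := Subgroup.mem_inf.mpr ⟨hx, hxK⟩
    rw [hSK] at this
    exact Subgroup.mem_bot.mp this
  have hinjS' : ∀ x ∈ (S : Subgroup G), ∀ y ∈ (S : Subgroup G),
      QuotientGroup.mk' K x = QuotientGroup.mk' K y → x = y := by
    intro x hx y hy hxy
    have h1 : QuotientGroup.mk' K (x * y⁻¹) = 1 := by rw [map_mul, map_inv, hxy, mul_inv_cancel]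
    exact mul_inv_eq_one.mp (hinjS _ (mul_mem hx (inv_mem hy)) h1)
  obtain ⟨E, hE⟩ : ∃ E : Subgroup G, E = (S : Subgroup G) ⊓ A.comap (QuotientGroup.mk' K) :=
    ⟨_, rfl⟩
  have hES : E ≤ (S : Subgroup G) := by rw [hE]; exact inf_le_left
  have hEA : ∀ e ∈ E, QuotientGroup.mk' K e ∈ A := by
    intro e he
    rw [hE] at he
    exact (Subgroup.mem_inf.mp he).2
  have hEmap : E.map (QuotientGroup.mk' K) = A := by
    apply le_antisymm
    · rintro _ ⟨e, he, rfl⟩
      exact hEA e he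
    · intro a ha
      have haS : a ∈ (Sb : Subgroup (G ⧸ K)) := hSb ha
      rw [← hS, Sylow.coe_mapSurjective] at haS
      obtain ⟨s, hs, rfl⟩ := Subgroup.mem_map.mp haS
      refine Subgroup.mem_map.mpr ⟨s, ?_, rfl⟩
      rw [hE]
      exact Subgroup.mem_inf.mpr ⟨hs, ha⟩
  have hEc : IsMulCommutative ↥E := by
    refine ⟨⟨?_⟩⟩
    rintro ⟨a, ha⟩ ⟨b, hb⟩
    apply Subtype.ext
    show a * b = b * a
    apply hinjS' _ (mul_mem (hES ha) (hES hb)) _ (mul_mem (hES hb) (hES ha))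
    rw [map_mul, map_mul]
    exact congrArg Subtype.val (hAc.is_comm.comm ⟨_, hEA a ha⟩ ⟨_, hEA b hb⟩)
  have hEexp : ∀ e ∈ E, e ^ p = 1 := by
    intro e he
    apply hinjS _ (pow_mem (hES he) _)
    rw [map_pow]
    exact hAexp _ (hEA e he)
  have hcardE : Nat.card ↥E = Nat.card ↥A := by
    rw [← hEmap]
    have hinj : Function.Injective ((QuotientGroup.mk' K).comp E.subtype) := by
      intro x y hxy
      apply Subtype.ext
      exact hinjS' _ (hES x.2) _ (hES y.2) hxy
    have h1 : ((QuotientGroup.mk' K).comp E.subtype).range = E.map (QuotientGroup.mk' K) := by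
      rw [MonoidHom.range_eq_map, ← Subgroup.map_map, ← MonoidHom.range_eq_map,
        Subgroup.range_subtype]
    rw [← h1]
    exact Nat.card_congr (Equiv.ofInjective _ hinj)
  rw [← hcardE]
  exact hr E hEc hEexp

/-- consequences of `G' ≤ O_{p',p}(G)` -/
theorem consequences [Finite G] (p : ℕ) [Fact p.Prime]
    (h5 : commutator G ≤ Cfsg.pPrimePCore p G) :
    Cfsg.HasNormalPComplement p ↥(commutator G) ∧
    (∀ L : Subgroup ↥(commutator G), (Nat.card L).Coprime p →
      L ≤ Cfsg.pPrimeCore p ↥(commutator G)) ∧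
    ((Cfsg.pPrimePCore p G).index).Coprime p := by
  have hpp : p.Prime := Fact.out
  have hKcop : (Nat.card ↥(Cfsg.pPrimeCore p G)).Coprime p :=
    Cfsg.Agent.Lib.Helper1.pPrimeCore_card_coprime p
  have hTp : IsPGroup p ↥(Cfsg.pCore p (G ⧸ Cfsg.pPrimeCore p G)) :=
    Cfsg.Agent.Lib.Helper1.pCore_isPGroup p
  have hπ : Function.Surjective (QuotientGroup.mk' (Cfsg.pPrimeCore p G)) :=
    QuotientGroup.mk'_surjective _
  have hmem : ∀ c ∈ commutator G, QuotientGroup.mk' (Cfsg.pPrimeCore p G) c ∈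
      Cfsg.pCore p (G ⧸ Cfsg.pPrimeCore p G) := fun c hc => h5 hc
  obtain ⟨N, hN⟩ : ∃ N : Subgroup ↥(commutator G),
      N = (Cfsg.pPrimeCore p G).subgroupOf (commutator G) := ⟨_, rfl⟩
  have hNn : N.Normal := by rw [hN]; infer_instance
  have hNcop : (Nat.card ↥N).Coprime p := by
    have hdvd : Nat.card ↥N ∣ Nat.card ↥(Cfsg.pPrimeCore p G) := by
      rw [hN]
      let f : ↥((Cfsg.pPrimeCore p G).subgroupOf (commutator G)) →* ↥(Cfsg.pPrimeCore p G) :=
        { toFun := fun x => ⟨x.1.1, Subgroup.mem_subgroupOf.mp x.2⟩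
          map_one' := rfl
          map_mul' := fun _ _ => rfl }
      apply Subgroup.card_dvd_of_injective f
      intro x y hxy
      apply Subtype.ext
      apply Subtype.ext
      exact congrArg (fun t : ↥(Cfsg.pPrimeCore p G) => (t : G)) hxy
    exact Nat.Coprime.coprime_dvd_left hdvd hKcop
  have hmapp : IsPGroup p ↥((commutator G).map (QuotientGroup.mk' (Cfsg.pPrimeCore p G))) := by
    apply hTp.to_le
    rintro _ ⟨c, hc, rfl⟩
    exact hmem c hc
  obtain ⟨a, ha⟩ := IsPGroup.iff_card.mp hmapp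
  have hNidx : N.index = p ^ a := by
    rw [hN, ← ha]
    show (Cfsg.pPrimeCore p G).relIndex (commutator G) = _
    have := Subgroup.relIndex_ker (K := commutator G) (QuotientGroup.mk' (Cfsg.pPrimeCore p G))
    rwa [QuotientGroup.ker_mk'] at this
  refine ⟨?_, ?_, ?_⟩
  · obtain ⟨P⟩ : Nonempty (Sylow p ↥(commutator G)) := inferInstance
    exact ⟨P, N, hNn, isComplement'_sylow p N hNcop a hNidx P⟩
  · intro L hL
    have hNle : N ≤ Cfsg.pPrimeCore p ↥(commutator G) :=
      le_sSup (show N ∈ {M : Subgroup ↥(commutator G) | M.Normal ∧ (Nat.card M).Coprime p} from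
        ⟨hNn, hNcop⟩)
    refine le_trans ?_ hNle
    intro l hl
    rw [hN, Subgroup.mem_subgroupOf]
    have h1 : (⟨l, hl⟩ : ↥L) ^ Nat.card ↥L = 1 := pow_card_eq_one'
    have h2 : (l : G) ^ Nat.card ↥L = 1 := by
      have h2' := congrArg (fun t : ↥L => ((t : ↥(commutator G)) : G)) h1
      simp only [Subgroup.coe_pow, Subgroup.coe_one] at h2'
      exact h2'
    obtain ⟨j, hj⟩ := hTp ⟨_, hmem l.1 l.2⟩
    have h3 : (QuotientGroup.mk' (Cfsg.pPrimeCore p G) (l : G)) ^ p ^ j = 1 := by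
      simpa using congrArg Subtype.val hj
    have h4 : (QuotientGroup.mk' (Cfsg.pPrimeCore p G) (l : G)) ^ Nat.card ↥L = 1 := by
      rw [← map_pow, h2, map_one]
    have h5' : QuotientGroup.mk' (Cfsg.pPrimeCore p G) (l : G) = 1 := by
      have := pow_gcd_eq_one.mpr ⟨h4, h3⟩
      rwa [Nat.Coprime.gcd_eq_one (Nat.Coprime.pow_right j hL), pow_one] at this
    rwa [QuotientGroup.mk'_apply, QuotientGroup.eq_one_iff] at h5'
  · show ((Cfsg.pCore p (G ⧸ Cfsg.pPrimeCore p G)).comap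
      (QuotientGroup.mk' (Cfsg.pPrimeCore p G))).index.Coprime p
    rw [Subgroup.index_comap_of_surjective _ hπ]
    obtain ⟨S⟩ : Nonempty (Sylow p (G ⧸ Cfsg.pPrimeCore p G)) := inferInstance
    have hTS : Cfsg.pCore p (G ⧸ Cfsg.pPrimeCore p G) ≤ (S : Subgroup (G ⧸ Cfsg.pPrimeCore p G)) :=
      Cfsg.Agent.Lib.Helper1.pCore_le_sylow p S
    have hcomm : ∀ x y : G ⧸ Cfsg.pPrimeCore p G, ⁅x, y⁆ ∈ Cfsg.pCore p (G ⧸ Cfsg.pPrimeCore p G) := by
      intro x y
      obtain ⟨x', rfl⟩ := hπ x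
      obtain ⟨y', rfl⟩ := hπ y
      rw [← map_commutatorElement]
      exact hmem _ (Subgroup.commutator_mem_commutator (Subgroup.mem_top _) (Subgroup.mem_top _))
    have hSn : (S : Subgroup (G ⧸ Cfsg.pPrimeCore p G)).Normal := by
      constructor
      intro s hs g
      have e : g * s * g⁻¹ = ⁅g, s⁆ * s := by rw [commutatorElement_def]; group
      rw [e]
      exact mul_mem (hTS (hcomm g s)) hs
    have hST : (S : Subgroup (G ⧸ Cfsg.pPrimeCore p G)) ≤ Cfsg.pCore p (G ⧸ Cfsg.pPrimeCore p G) :=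
      Cfsg.Agent.Lib.Helper1.le_pCore hSn S.isPGroup'
    have heq : Cfsg.pCore p (G ⧸ Cfsg.pPrimeCore p G) = (S : Subgroup (G ⧸ Cfsg.pPrimeCore p G)) :=
      le_antisymm hTS hST
    rw [heq]
    exact ((Nat.Prime.coprime_iff_not_dvd hpp).mpr S.not_dvd_index).symm

/-- normal `p`-complement when the index of `O_{p'}(G)` only involves primes `≤ p` and `p` is small -/
theorem npc_of_small [Finite G] (hodd : Odd (Nat.card G)) (p : ℕ) [Fact p.Prime]
    (h1 : ∀ q : ℕ, q.Prime → q ∣ (Cfsg.pPrimeCore p G).index → q ≤ p)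
    (hsmall : p = 3 ∨ ∀ q : ℕ, q.Prime → q ∣ Nat.card G → p ≤ q) :
    Cfsg.HasNormalPComplement p G := by
  have hpp : p.Prime := Fact.out
  have hKcop : (Nat.card ↥(Cfsg.pPrimeCore p G)).Coprime p :=
    Cfsg.Agent.Lib.Helper1.pPrimeCore_card_coprime p
  have hidx0 : (Cfsg.pPrimeCore p G).index ≠ 0 := Subgroup.index_ne_zero_of_finite
  have hidxdvd : (Cfsg.pPrimeCore p G).index ∣ Nat.card G := Subgroup.index_dvd_card _
  have hpow : (Cfsg.pPrimeCore p G).index =
      p ^ (Cfsg.pPrimeCore p G).index.primeFactorsList.length := by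
    apply Nat.eq_prime_pow_of_unique_prime_dvd hidx0
    intro q hq hqd
    have hqle := h1 q hq hqd
    have hqG : q ∣ Nat.card G := hqd.trans hidxdvd
    rcases hsmall with h3 | hmin
    · have hq2 : q ≠ 2 := by
        rintro rfl
        exact (Nat.not_even_iff_odd.mpr hodd) (even_iff_two_dvd.mpr hqG)
      have := hq.two_le
      omega
    · exact le_antisymm hqle (hmin q hq hqG)
  obtain ⟨P⟩ : Nonempty (Sylow p G) := inferInstance
  exact ⟨P, Cfsg.pPrimeCore p G, inferInstance, isComplement'_sylow p _ hKcop _ hpow P⟩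

/-- the conjugation kernel on a normal subgroup is its centraliser -/
theorem conjNormal_ker_le {H : Type*} [Group H] (T : Subgroup H) [T.Normal] :
    (MulAut.conjNormal (H := T)).ker ≤ Subgroup.centralizer (T : Set H) := by
  intro g hg
  rw [MonoidHom.mem_ker] at hg
  rw [Subgroup.mem_centralizer_iff]
  intro t ht
  have h1 := congrArg (fun β : MulAut ↥T => ((β ⟨t, ht⟩ : ↥T) : H)) hg
  simp only [MulAut.conjNormal_apply, MulAut.one_apply] at h1
  calc t * g = (g * t * g⁻¹) * g := by rw [h1]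
    _ = g * t := by group

/-- B & G 4.20, main part: in a solvable group of odd order and `p`-rank at most two,
`G' ≤ O_{p',p}(G)` and the primes dividing `|G : O_{p'}(G)|` are at most `p` -/
theorem rank_two_main [Finite G] [Group.IsSolvable G] (hodd : Odd (Nat.card G)) (p : ℕ)
    [Fact p.Prime] (hp2 : p ≠ 2) (hr : Cfsg.PRankLE p 2 G) :
    (∀ q : ℕ, q.Prime → q ∣ (Cfsg.pPrimeCore p G).index → q ≤ p) ∧
      commutator G ≤ Cfsg.pPrimePCore p G := by
  have hpp : p.Prime := Fact.out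
  have hKcop : (Nat.card ↥(Cfsg.pPrimeCore p G)).Coprime p :=
    Cfsg.Agent.Lib.Helper1.pPrimeCore_card_coprime p
  have hrQ : Cfsg.PRankLE p 2 (G ⧸ Cfsg.pPrimeCore p G) := prank_quotient p 2 hr _ hKcop
  have hTp : IsPGroup p ↥(Cfsg.pCore p (G ⧸ Cfsg.pPrimeCore p G)) :=
    Cfsg.Agent.Lib.Helper1.pCore_isPGroup p
  have hrT : Cfsg.PRankLE p 2 ↥(Cfsg.pCore p (G ⧸ Cfsg.pPrimeCore p G)) :=
    Cfsg.Agent.Lib.Helper9.ar_rank_subgroup hrQ _
  have hO : Cfsg.pPrimeCore p (G ⧸ Cfsg.pPrimeCore p G) = ⊥ :=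
    Cfsg.Agent.Lib.Helper1.pPrimeCore_quotient_eq_bot p
  have hC : Subgroup.centralizer (Cfsg.pCore p (G ⧸ Cfsg.pPrimeCore p G) : Set (G ⧸ Cfsg.pPrimeCore p G)) ≤
      Cfsg.pCore p (G ⧸ Cfsg.pPrimeCore p G) := Cfsg.Agent.Lib.Helper1.centralizer_pCore_le p hO
  have hπ : Function.Surjective (QuotientGroup.mk' (Cfsg.pPrimeCore p G)) :=
    QuotientGroup.mk'_surjective _
  have hoddQ : Odd (Nat.card (G ⧸ Cfsg.pPrimeCore p G)) :=
    Odd.of_dvd_nat hodd (Subgroup.card_quotient_dvd_card _)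
  have hker : (MulAut.conjNormal (H := Cfsg.pCore p (G ⧸ Cfsg.pPrimeCore p G))).ker ≤
      Cfsg.pCore p (G ⧸ Cfsg.pPrimeCore p G) := (conjNormal_ker_le _).trans hC
  constructor
  · intro q hq hqd
    by_cases hqp : q = p
    · exact hqp.le
    · rw [Subgroup.index_eq_card] at hqd
      have hmul := Subgroup.card_mul_index
        (MulAut.conjNormal (H := Cfsg.pCore p (G ⧸ Cfsg.pPrimeCore p G))).ker
      rw [Subgroup.index_ker] at hmul
      rw [← hmul] at hqd
      have hkerp : IsPGroup p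
          ↥(MulAut.conjNormal (H := Cfsg.pCore p (G ⧸ Cfsg.pPrimeCore p G))).ker :=
        hTp.to_le hker
      obtain ⟨j, hj⟩ := IsPGroup.iff_card.mp hkerp
      rw [hj] at hqd
      have hq2 : q ∣ Nat.card
          ↥(MulAut.conjNormal (H := Cfsg.pCore p (G ⧸ Cfsg.pPrimeCore p G))).range := by
        rcases (Nat.Prime.dvd_mul hq).mp hqd with h | h
        · exfalso
          exact hqp ((Nat.prime_dvd_prime_iff_eq hq hpp).mp (hq.dvd_of_dvd_pow h))
        · exact h
      have hq3 : q ∣ Nat.card (MulAut ↥(Cfsg.pCore p (G ⧸ Cfsg.pPrimeCore p G))) :=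
        hq2.trans (Subgroup.card_subgroup_dvd_card _)
      exact (Cfsg.Agent.S0640.result hp2 hTp hrT q hq hqp hq3).2.le
  · -- `Ḡ'` is a `p`-group
    have hQder : ∀ c ∈ commutator (G ⧸ Cfsg.pPrimeCore p G), ∀ m : ℕ, c ^ m = 1 → ¬ p ∣ m →
        c = 1 := by
      intro c hc m hcm hpm
      have h1 := Cfsg.Agent.Lib.Helper11.AutRankTwo.der_coprime_trivial_rank_two p hp2 hTp hrT hoddQ
        (MulAut.conjNormal (H := Cfsg.pCore p (G ⧸ Cfsg.pPrimeCore p G))) c hc m hcm hpm
      have hcT : c ∈ Cfsg.pCore p (G ⧸ Cfsg.pPrimeCore p G) := hker (MonoidHom.mem_ker.mpr h1)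
      obtain ⟨j, hj⟩ := hTp ⟨c, hcT⟩
      have hcj : c ^ p ^ j = 1 := by simpa using congrArg Subtype.val hj
      have hcop : Nat.Coprime m (p ^ j) :=
        Nat.Coprime.pow_right j ((Nat.Prime.coprime_iff_not_dvd hpp).mpr hpm).symm
      have := pow_gcd_eq_one.mpr ⟨hcm, hcj⟩
      rwa [Nat.Coprime.gcd_eq_one hcop, pow_one] at this
    have hQp : IsPGroup p ↥(commutator (G ⧸ Cfsg.pPrimeCore p G)) := by
      rintro ⟨c, hc⟩
      obtain ⟨k, m, hpm, hkm⟩ := Nat.exists_eq_pow_mul_and_not_dvd (orderOf_pos c).ne' p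
        hpp.ne_one
      refine ⟨k, Subtype.ext ?_⟩
      simp only [Subgroup.coe_pow, Subgroup.coe_one]
      exact hQder _ (pow_mem hc _) m (by rw [← pow_mul, ← hkm, pow_orderOf_eq_one]) hpm
    have hQle : commutator (G ⧸ Cfsg.pPrimeCore p G) ≤ Cfsg.pCore p (G ⧸ Cfsg.pPrimeCore p G) :=
      Cfsg.Agent.Lib.Helper1.le_pCore inferInstance hQp
    intro c hc
    show QuotientGroup.mk' (Cfsg.pPrimeCore p G) c ∈ Cfsg.pCore p (G ⧸ Cfsg.pPrimeCore p G)
    apply hQle
    have h1 : (commutator G).map (QuotientGroup.mk' (Cfsg.pPrimeCore p G)) ≤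
        commutator (G ⧸ Cfsg.pPrimeCore p G) := by
      rw [commutator_def, Subgroup.map_commutator, commutator_def]
      exact Subgroup.commutator_mono le_top le_top
    exact h1 (Subgroup.mem_map_of_mem _ hc)

end Cfsg.Agent.Lib.Helper11.RankTwoSolvable
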