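import Mathlib
import Cfsg.Prelude.Def_OddOrderLocal
import Cfsg.Agent.Lib.Helper11.RankTwoSolvable
import Cfsg.Agent.Lib.Helper1.Fitting
import Cfsg.Agent.Lib.Helper1.CFitting
import Cfsg.Agent.Lib.Helper5.PConstr
import Cfsg.Agent.Lib.Lead.Coprime
import Cfsg.Agent.Lib.helper4.PrimeDegree
import Cfsg.Agent.Lib.Helper20.HallRel

/-!
# Solvable groups of odd order whose Fitting subgroup has rank at most two

B & G 4.20 type results: `G'` is nilpotent, characteristic subgroups of a Sylow subgroup `S`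
inside `S'` are normal, and `G` has a Sylow tower.
-/

set_option autoImplicit false

namespace Cfsg.Agent.Lib.Helper11.RankTwoTower

open scoped Pointwise commutatorElement

variable {G : Type*} [Group G]

/-- rank bounds pass along injective homomorphisms -/
theorem prank_of_injective {K H : Type*} [Group K] [Group H] (f : K →* H)
    (hf : Function.Injective f) {p k : ℕ} (h : Cfsg.PRankLE p k H) : Cfsg.PRankLE p k K := by
  intro A hA hexp
  have h1 : IsMulCommutative ↥(A.map f) := by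
    refine ⟨⟨?_⟩⟩
    rintro ⟨a, ha⟩ ⟨b, hb⟩
    apply Subtype.ext
    obtain ⟨a', ha', rfl⟩ := Subgroup.mem_map.1 ha
    obtain ⟨b', hb', rfl⟩ := Subgroup.mem_map.1 hb
    show f a' * f b' = f b' * f a'
    rw [← map_mul, ← map_mul]
    congr 1
    exact congrArg Subtype.val (hA.1.1 ⟨a', ha'⟩ ⟨b', hb'⟩)
  have h2 : ∀ a ∈ A.map f, a ^ p = 1 := by
    intro a ha
    obtain ⟨a', ha', rfl⟩ := Subgroup.mem_map.1 ha
    rw [← map_pow, hexp a' ha', map_one]
  have := h _ h1 h2
  rwa [Subgroup.card_map_of_injective hf] at this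

/-- rank bounds pass to smaller subgroups -/
theorem prank_of_le {p k : ℕ} {H K : Subgroup G} (hKH : K ≤ H) (h : Cfsg.PRankLE p k ↥H) :
    Cfsg.PRankLE p k ↥K :=
  prank_of_injective (Subgroup.inclusion hKH) (Subgroup.inclusion_injective hKH) h

/-- `O_2` of a group of odd order is trivial -/
theorem pCore_two_eq_bot [Finite G] (hodd : Odd (Nat.card G)) : Cfsg.pCore 2 G = ⊥ := by
  have : Fact (Nat.Prime 2) := ⟨Nat.prime_two⟩
  have hQp : IsPGroup 2 ↥(Cfsg.pCore 2 G) := Cfsg.Agent.Lib.Helper1.pCore_isPGroup 2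
  obtain ⟨k, hk⟩ := IsPGroup.iff_card.mp hQp
  have hdvd : Nat.card ↥(Cfsg.pCore 2 G) ∣ Nat.card G := Subgroup.card_subgroup_dvd_card _
  have hodd' : Odd (Nat.card ↥(Cfsg.pCore 2 G)) := Odd.of_dvd_nat hodd hdvd
  rw [hk] at hodd'
  rcases Nat.eq_zero_or_pos k with h0 | hpos
  · rw [h0, pow_zero] at hk
    exact Subgroup.card_eq_one.mp hk
  · exfalso
    have h2 : Even (2 ^ k) := (Nat.even_pow.mpr ⟨even_two, hpos.ne'⟩)
    exact (Nat.not_even_iff_odd.mpr hodd') h2

/-- if `t ∈ A ⊔ B` with `A` normal and the order of `t` prime to `|B|` then `t ∈ A` -/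
theorem mem_of_mem_sup_coprime [Finite G] (A B : Subgroup G) [A.Normal] (t : G) (ht : t ∈ A ⊔ B)
    (n : ℕ) (htn : t ^ n = 1) (hn : n.Coprime (Nat.card B)) : t ∈ A := by
  have h1 : (↑(B ⊔ A) : Set G) = (B : Set G) * (A : Set G) := Subgroup.mul_normal B A
  rw [sup_comm] at ht
  have ht' : t ∈ (↑(B ⊔ A) : Set G) := ht
  rw [h1] at ht'
  obtain ⟨b, hb, a, ha, hba⟩ := ht'
  have hmk : (QuotientGroup.mk t : G ⧸ A) = QuotientGroup.mk b := by
    rw [← hba, QuotientGroup.mk_mul]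
    have : (QuotientGroup.mk a : G ⧸ A) = 1 := (QuotientGroup.eq_one_iff a).mpr ha
    rw [this, mul_one]
  have h2 : (QuotientGroup.mk t : G ⧸ A) ^ n = 1 := by
    rw [← QuotientGroup.mk_pow, htn]; rfl
  have h3 : (QuotientGroup.mk t : G ⧸ A) ^ Nat.card B = 1 := by
    rw [hmk, ← QuotientGroup.mk_pow]
    have : b ^ Nat.card B = 1 := Cfsg.Agent.Lib.Helper5.h5_pow_card_eq_one_of_mem hb
    rw [this]; rfl
  have h4 := pow_gcd_eq_one.mpr ⟨h2, h3⟩
  rw [Nat.Coprime.gcd_eq_one hn, pow_one] at h4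
  exact (QuotientGroup.eq_one_iff t).mp h4

/-- elements of `G'` of order prime to `r` centralize `O_r(G)` -/
theorem der_centralizes [Finite G] [Group.IsSolvable G] (hodd : Odd (Nat.card G))
    (r : ℕ) [Fact r.Prime] (hF : Cfsg.PRankLE r 2 ↥(Cfsg.pCore r G))
    (c : G) (hc : c ∈ commutator G) (m : ℕ) (hcm : c ^ m = 1) (hrm : ¬ r ∣ m) :
    c ∈ Subgroup.centralizer (Cfsg.pCore r G : Set G) := by
  have hQp : IsPGroup r ↥(Cfsg.pCore r G) := Cfsg.Agent.Lib.Helper1.pCore_isPGroup r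
  by_cases hr2 : r = 2
  · subst hr2
    rw [pCore_two_eq_bot hodd, Subgroup.mem_centralizer_iff]
    intro h hh
    have : h = 1 := hh
    rw [this, one_mul, mul_one]
  · have h1 := Cfsg.Agent.Lib.Helper11.AutRankTwo.der_coprime_trivial_rank_two r hr2 hQp hF hodd
      (MulAut.conjNormal (H := Cfsg.pCore r G)) c hc m hcm hrm
    exact Cfsg.Agent.Lib.Helper11.RankTwoSolvable.conjNormal_ker_le _ (MonoidHom.mem_ker.mpr h1)

/-- the product of the `O_p(G)` for the primes `p ≠ q` -/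
def otherCores (G : Type*) [Group G] (q : Nat.Primes) : Subgroup G :=
  sSup {N : Subgroup G | ∃ p : Nat.Primes, p ≠ q ∧ N = Cfsg.pCore (p : ℕ) G}

theorem otherCores_normal_coprime [Finite G] (q : Nat.Primes) :
    (otherCores G q).Normal ∧ (Nat.card (otherCores G q)).Coprime q := by
  apply Cfsg.Agent.Lib.Helper1.sSup_normal_coprime
  rintro N ⟨p, hp, rfl⟩
  have : Fact (p : ℕ).Prime := ⟨p.2⟩
  refine ⟨Cfsg.Agent.Lib.Helper1.pCore_normal _, ?_⟩
  obtain ⟨n, hn⟩ := IsPGroup.iff_card.mp (Cfsg.Agent.Lib.Helper1.pCore_isPGroup (G := G) (p : ℕ))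
  rw [hn]
  apply Nat.Coprime.pow_left
  rw [Nat.coprime_primes p.2 q.2]
  intro h
  exact hp (Subtype.ext h)

theorem fitting_eq_sup [Finite G] (q : Nat.Primes) :
    Cfsg.fittingSubgroup G = Cfsg.pCore (q : ℕ) G ⊔ otherCores G q := by
  rw [Cfsg.Agent.Lib.Helper1.fittingSubgroup_eq_iSup_pCore,
    Cfsg.Agent.Lib.Helper1.iSup_pCore_eq_sup q]
  rfl

theorem pCore_le_otherCores (q p : Nat.Primes) (h : p ≠ q) :
    Cfsg.pCore (p : ℕ) G ≤ otherCores G q := le_sSup ⟨p, h, rfl⟩

/-- `r`-elements of `G'` lie in `O_r(G)` -/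
theorem relem_mem_pCore [Finite G] [Group.IsSolvable G] (hodd : Odd (Nat.card G))
    (hF : ∀ (q : ℕ) [Fact q.Prime], Cfsg.PRankLE q 2 ↥(Cfsg.pCore q G))
    (r : ℕ) [Fact r.Prime] (x : G) (hx : x ∈ commutator G) (k : ℕ) (hxk : x ^ r ^ k = 1) :
    x ∈ Cfsg.pCore r G := by
  have hrp : r.Prime := Fact.out
  obtain ⟨W, hW⟩ : ∃ W : Subgroup G, W = otherCores G ⟨r, hrp⟩ := ⟨_, rfl⟩
  have hWn : W.Normal := hW ▸ (otherCores_normal_coprime (G := G) ⟨r, hrp⟩).1
  have hWcop : (Nat.card W).Coprime r := by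
    rw [hW]; exact (otherCores_normal_coprime (G := G) ⟨r, hrp⟩).2
  have hFeq : Cfsg.fittingSubgroup G = Cfsg.pCore r G ⊔ W := by
    rw [hW]; exact fitting_eq_sup ⟨r, hrp⟩
  have hQn : (Cfsg.pCore r G).Normal := Cfsg.Agent.Lib.Helper1.pCore_normal r
  have hQp : IsPGroup r ↥(Cfsg.pCore r G) := Cfsg.Agent.Lib.Helper1.pCore_isPGroup r
  obtain ⟨a, ha⟩ := IsPGroup.iff_card.mp hQp
  obtain ⟨M, hM⟩ : ∃ M : Subgroup G, M = commutator G ⊓ Subgroup.centralizer (W : Set G) :=
    ⟨_, rfl⟩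
  have hMn : M.Normal := by
    rw [hM]
    have : (Subgroup.centralizer (W : Set G)).Normal := Subgroup.normal_centralizer
    exact Subgroup.normal_inf_normal _ _
  have hMder : M ≤ commutator G := by rw [hM]; exact inf_le_left
  have hMcen : M ≤ Subgroup.centralizer (W : Set G) := by rw [hM]; exact inf_le_right
  have K1 : ∀ y ∈ M, ∀ m : ℕ, y ^ m = 1 → ¬ r ∣ m → y ∈ W := by
    intro y hy m hym hrm
    have h1 := der_centralizes hodd r (hF r) y (hMder hy) m hym hrm
    have h2 : y ∈ Subgroup.centralizer (Cfsg.fittingSubgroup G : Set G) := by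
      have h3 : Cfsg.fittingSubgroup G ≤ Subgroup.centralizer ({y} : Set G) := by
        rw [hFeq]
        apply sup_le
        · intro u hu
          rw [Subgroup.mem_centralizer_iff]
          intro z hz
          rw [Set.mem_singleton_iff] at hz
          rw [hz]
          exact ((Subgroup.mem_centralizer_iff.mp h1) u hu).symm
        · intro u hu
          rw [Subgroup.mem_centralizer_iff]
          intro z hz
          rw [Set.mem_singleton_iff] at hz
          rw [hz]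
          exact ((Subgroup.mem_centralizer_iff.mp (hMcen hy)) u hu).symm
      rw [Subgroup.mem_centralizer_iff]
      intro f hf
      exact ((Subgroup.mem_centralizer_iff.mp (h3 hf)) y rfl).symm
    have h4 : y ∈ Cfsg.fittingSubgroup G :=
      Cfsg.Agent.Lib.Helper1.centralizer_fittingSubgroup_le h2
    rw [hFeq, sup_comm] at h4
    refine mem_of_mem_sup_coprime W (Cfsg.pCore r G) y h4 m hym ?_
    rw [ha]
    exact Nat.Coprime.pow_right a ((Nat.Prime.coprime_iff_not_dvd hrp).mpr hrm).symm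
  obtain ⟨Z, hZ⟩ : ∃ Z : Subgroup ↥M, Z = W.subgroupOf M := ⟨_, rfl⟩
  have hZc : ∀ z ∈ Z, ∀ e : ↥M, z * e = e * z := by
    intro z hz e
    rw [hZ, Subgroup.mem_subgroupOf] at hz
    have he : (e : G) ∈ Subgroup.centralizer (W : Set G) := hMcen e.2
    apply Subtype.ext
    simp only [Subgroup.coe_mul]
    exact (Subgroup.mem_centralizer_iff.mp he) z hz
  have hZn : Z.Normal := ⟨fun z hz g => by
    rw [← hZc z hz g, mul_inv_cancel_right]; exact hz⟩
  have hZcardW : Nat.card Z ∣ Nat.card W := by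
    have h1 : Nat.card Z = Nat.card ↥(Z.map M.subtype) :=
      (Subgroup.card_map_of_injective M.subtype_injective).symm
    rw [h1]
    apply Subgroup.card_dvd_of_le
    rw [hZ, Subgroup.subgroupOf_map_subtype]; exact inf_le_left
  have hZcop : (Nat.card Z).Coprime r := Nat.Coprime.coprime_dvd_left hZcardW hWcop
  have hQuot : IsPGroup r (↥M ⧸ Z) := by
    intro ebar
    obtain ⟨e, rfl⟩ := QuotientGroup.mk_surjective ebar
    obtain ⟨j, m, hrm, hjm⟩ := Nat.exists_eq_pow_mul_and_not_dvd (orderOf_pos e).ne' r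
      hrp.ne_one
    refine ⟨j, ?_⟩
    rw [← QuotientGroup.mk_pow, QuotientGroup.eq_one_iff, hZ, Subgroup.mem_subgroupOf]
    apply K1 _ (e ^ r ^ j).2 m ?_ hrm
    rw [← Subgroup.coe_pow, ← pow_mul, ← hjm, pow_orderOf_eq_one]; rfl
  obtain ⟨n, hn⟩ := IsPGroup.iff_card.mp hQuot
  have hidx : Z.index = r ^ n := by rw [Subgroup.index_eq_card]; exact hn
  have hcop : (Nat.card Z).Coprime Z.index := by
    rw [hidx]; exact Nat.Coprime.pow_right n hZcop
  obtain ⟨D, hDchar, hD⟩ := Cfsg.Agent.Lib.Helper5.h5_central_hall_complement Z hZc hcop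
  have hDcard : Nat.card D = r ^ n := by
    have h1 := hD.card_mul_card
    have h2 := Z.card_mul_index
    rw [← hidx]
    rw [← h2] at h1
    exact Nat.eq_of_mul_eq_mul_left Nat.card_pos h1
  have hDp : IsPGroup r ↥D := IsPGroup.of_card hDcard
  have hDn : (D.map M.subtype).Normal :=
    Cfsg.Agent.Lib.Helper5.h5_normal_map_of_characteristic M D
  have hDle : D.map M.subtype ≤ Cfsg.pCore r G :=
    Cfsg.Agent.Lib.Helper1.le_pCore hDn (hDp.map _)
  have hxM : x ∈ M := by
    rw [hM]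
    refine ⟨hx, ?_⟩
    have h3 : W ≤ Subgroup.centralizer ({x} : Set G) := by
      rw [hW]
      apply sSup_le
      rintro N ⟨p, hp, rfl⟩
      have : Fact (p : ℕ).Prime := ⟨p.2⟩
      have hpr : ¬ (p : ℕ) ∣ r ^ k := by
        intro h
        have := (Nat.prime_dvd_prime_iff_eq p.2 hrp).mp (p.2.dvd_of_dvd_pow h)
        exact hp (Subtype.ext this)
      have h1 := der_centralizes hodd (p : ℕ) (hF p) x hx (r ^ k) hxk hpr
      intro u hu
      rw [Subgroup.mem_centralizer_iff]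
      intro z hz
      rw [Set.mem_singleton_iff] at hz
      rw [hz]
      exact ((Subgroup.mem_centralizer_iff.mp h1) u hu).symm
    show x ∈ Subgroup.centralizer (W : Set G)
    rw [Subgroup.mem_centralizer_iff]
    intro w hw
    exact ((Subgroup.mem_centralizer_iff.mp (h3 hw)) x rfl).symm
  have hmul : (Z : Set ↥M) * (D : Set ↥M) = Set.univ :=
    (Subgroup.isComplement'_def.mp hD).mul_eq
  have hc' : (⟨x, hxM⟩ : ↥M) ∈ (Z : Set ↥M) * (D : Set ↥M) := by rw [hmul]; trivial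
  obtain ⟨z, hz, d, hd, hzd⟩ := hc'
  have hzd' : z * d = ⟨x, hxM⟩ := hzd
  have hcomm : Commute z d := hZc z hz d
  have hpow : (z * d) ^ r ^ k = 1 := by
    rw [hzd']; apply Subtype.ext; simpa using hxk
  rw [hcomm.mul_pow] at hpow
  have hzD : z ^ r ^ k ∈ D := by
    have : z ^ r ^ k = (d ^ r ^ k)⁻¹ := eq_inv_of_mul_eq_one_left hpow
    rw [this]; exact D.inv_mem (D.pow_mem hd _)
  have hz1 : z ^ r ^ k = 1 := Subgroup.disjoint_def.mp hD.disjoint (Z.pow_mem hz _) hzD
  have hz2 : z ^ Nat.card Z = 1 := Cfsg.Agent.Lib.Helper5.h5_pow_card_eq_one_of_mem hz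
  have hz3 : z = 1 := by
    have := pow_gcd_eq_one.mpr ⟨hz1, hz2⟩
    rwa [Nat.Coprime.gcd_eq_one (Nat.Coprime.pow_left k hZcop.symm), pow_one] at this
  rw [hz3, one_mul] at hzd'
  apply hDle
  refine ⟨d, hd, ?_⟩
  rw [hzd']
  rfl

/-- `G' ≤ F(G)` -/
theorem commutator_le_fitting [Finite G] [Group.IsSolvable G] (hodd : Odd (Nat.card G))
    (hF : ∀ (q : ℕ) [Fact q.Prime], Cfsg.PRankLE q 2 ↥(Cfsg.pCore q G)) :
    commutator G ≤ Cfsg.fittingSubgroup G := by
  obtain ⟨N, hN⟩ : ∃ N : Subgroup G, N = commutator G := ⟨_, rfl⟩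
  rw [← hN]
  have h1 : N = (⊤ : Subgroup N).map N.subtype := by
    rw [← MonoidHom.range_eq_map, Subgroup.range_subtype]
  rw [h1, ← Cfsg.Agent.Lib.Helper1.iSup_sylow_eq_top, Subgroup.map_iSup]
  apply iSup_le
  intro p
  rw [Subgroup.map_iSup]
  apply iSup_le
  intro P
  have : Fact (p : ℕ).Prime := ⟨p.2⟩
  refine le_trans ?_ (Cfsg.Agent.Lib.Helper1.pCore_le_fittingSubgroup (p : ℕ))
  rintro _ ⟨s, hs, rfl⟩
  obtain ⟨k, hk⟩ := P.isPGroup' ⟨s, hs⟩
  apply relem_mem_pCore hodd hF (p : ℕ) _ (hN ▸ s.2) k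
  have := congrArg Subtype.val (congrArg Subtype.val hk)
  simpa using this

/-- `G'` is nilpotent -/
theorem commutator_nilpotent [Finite G] [Group.IsSolvable G] (hodd : Odd (Nat.card G))
    (hF : ∀ (q : ℕ) [Fact q.Prime], Cfsg.PRankLE q 2 ↥(Cfsg.pCore q G)) :
    Group.IsNilpotent ↥(commutator G) := by
  have hle := commutator_le_fitting hodd hF
  have : Group.IsNilpotent ↥(Cfsg.fittingSubgroup G) :=
    Cfsg.Agent.Lib.Helper1.fittingSubgroup_nilpotent
  have h1 : Group.IsNilpotent ↥((commutator G).subgroupOf (Cfsg.fittingSubgroup G)) :=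
    inferInstance
  exact (Group.isNilpotent_congr (Subgroup.subgroupOfEquivOfLe hle)).mp h1

/-- a subgroup containing the derived subgroup is normal -/
theorem normal_of_commutator_le (K : Subgroup G) (h : commutator G ≤ K) : K.Normal := by
  refine ⟨fun k hk g => ?_⟩
  have h1 : g * k * g⁻¹ = ⁅g, k⁆ * k := by rw [commutatorElement_def]; group
  rw [h1]
  exact K.mul_mem
    (h (Subgroup.commutator_mem_commutator (Subgroup.mem_top g) (Subgroup.mem_top k))) hk

/-- characteristic subgroups of a Sylow subgroup `S` inside `S'` are normal when `G' ≤ F(G)` -/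
theorem char_sub_normal [Finite G] (hNF : commutator G ≤ Cfsg.fittingSubgroup G)
    (q : ℕ) [Fact q.Prime] (S : Sylow q G) (T : Subgroup ↥(S : Subgroup G))
    (hT : T.Characteristic)
    (hTle : T.map (S : Subgroup G).subtype ≤ ⁅(S : Subgroup G), (S : Subgroup G)⁆) :
    (T.map (S : Subgroup G).subtype).Normal := by
  have hqp : q.Prime := Fact.out
  obtain ⟨W, hW⟩ : ∃ W : Subgroup G, W = otherCores G ⟨q, hqp⟩ := ⟨_, rfl⟩
  have hWn : W.Normal := hW ▸ (otherCores_normal_coprime (G := G) ⟨q, hqp⟩).1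
  have hWcop : (Nat.card W).Coprime q := by
    rw [hW]; exact (otherCores_normal_coprime (G := G) ⟨q, hqp⟩).2
  have hFeq : Cfsg.fittingSubgroup G = Cfsg.pCore q G ⊔ W := by
    rw [hW]; exact fitting_eq_sup ⟨q, hqp⟩
  have hQn : (Cfsg.pCore q G).Normal := Cfsg.Agent.Lib.Helper1.pCore_normal q
  have hQp : IsPGroup q ↥(Cfsg.pCore q G) := Cfsg.Agent.Lib.Helper1.pCore_isPGroup q
  have hQS : Cfsg.pCore q G ≤ S := Cfsg.Agent.Lib.Helper1.pCore_le_sylow q S
  obtain ⟨a, ha⟩ := IsPGroup.iff_card.mp hQp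
  have hdisj : Disjoint (Cfsg.pCore q G) W := by
    apply Subgroup.disjoint_of_coprime_natCard
    rw [ha]
    exact Nat.Coprime.pow_left a hWcop.symm
  have hT1 : T.map (S : Subgroup G).subtype ≤ Cfsg.pCore q G := by
    intro t ht
    have htF : t ∈ Cfsg.fittingSubgroup G := by
      apply hNF
      rw [commutator_def]
      exact Subgroup.commutator_mono le_top le_top (hTle ht)
    have htS : t ∈ (S : Subgroup G) := by
      obtain ⟨s, -, rfl⟩ := ht
      exact s.2
    obtain ⟨k, hk⟩ := S.isPGroup' ⟨t, htS⟩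
    have hk' : t ^ q ^ k = 1 := by simpa using congrArg Subtype.val hk
    rw [hFeq] at htF
    exact mem_of_mem_sup_coprime (Cfsg.pCore q G) W t htF (q ^ k) hk'
      (Nat.Coprime.pow_left k hWcop.symm)
  obtain ⟨K, hK⟩ : ∃ K : Subgroup G, K = (S : Subgroup G) ⊔ Cfsg.fittingSubgroup G := ⟨_, rfl⟩
  have hKn : K.Normal := normal_of_commutator_le K (hNF.trans (hK ▸ le_sup_right))
  have hSK : (S : Subgroup G) ≤ K := hK ▸ le_sup_left
  have hfr : Subgroup.normalizer ((S : Subgroup G) : Set G) ⊔ K = ⊤ :=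
    Sylow.normalizer_sup_eq_top' S hSK
  have hN1 : Subgroup.normalizer ((S : Subgroup G) : Set G) ≤
      Subgroup.normalizer ((T.map (S : Subgroup G).subtype : Subgroup G) : Set G) :=
    Cfsg.Agent.Lib.Lead.le_normalizer_map_characteristic (S : Subgroup G) _ le_rfl T
  have hN2 : W ≤ Subgroup.normalizer ((T.map (S : Subgroup G).subtype : Subgroup G) : Set G) := by
    rw [Subgroup.le_normalizer_iff]
    intro w hw t ht
    have hc : Commute t w :=
      Subgroup.commute_of_normal_of_disjoint _ _ hQn hWn hdisj t w (hT1 ht) hw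
    rw [← hc.eq, mul_inv_cancel_right]
    exact ht
  have hKle : K ≤ Subgroup.normalizer
      ((T.map (S : Subgroup G).subtype : Subgroup G) : Set G) := by
    rw [hK, hFeq]
    refine sup_le (Subgroup.le_normalizer.trans hN1) (sup_le ?_ hN2)
    exact hQS.trans (Subgroup.le_normalizer.trans hN1)
  apply Subgroup.normalizer_eq_top_iff.mp
  rw [eq_top_iff, ← hfr]
  exact sup_le hN1 hKle

open Cfsg.Agent.Lib.Helper20 in
/-- joins of normal π-subgroups are normal π-subgroups -/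
theorem sSup_normal_piNum [Finite G] (π : Set ℕ) (S : Set (Subgroup G))
    (hS : ∀ N ∈ S, N.Normal ∧ PiNum π (Nat.card N)) :
    (sSup S).Normal ∧ PiNum π (Nat.card (sSup S : Subgroup G)) := by
  have hfin : S.Finite := Set.toFinite S
  induction S, hfin using Set.Finite.induction_on with
  | empty =>
    rw [sSup_empty]
    refine ⟨Subgroup.normal_bot, ?_⟩
    rw [Subgroup.card_bot]
    exact piNum_one π
  | @insert a s ha hs ih =>
    rw [sSup_insert]
    have h1 := hS a (Set.mem_insert a s)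
    have h2 := ih (fun N hN => hS N (Set.mem_insert_of_mem a hN))
    have := h1.1
    have := h2.1
    refine ⟨Subgroup.sup_normal a (sSup s), ?_⟩
    exact PiNum.of_dvd (PiNum.mul h1.2 h2.2) (Cfsg.Agent.Lib.Helper1.card_sup_dvd_mul a (sSup s))

open Cfsg.Agent.Lib.Helper20 in
theorem piNum_prime_pow {π : Set ℕ} {q : ℕ} (hq : q.Prime) (hqπ : q ∈ π) (n : ℕ) :
    PiNum π (q ^ n) := by
  intro s hs hd
  have := (Nat.prime_dvd_prime_iff_eq hs hq).mp (hs.dvd_of_dvd_pow hd)
  rw [this]; exact hqπ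

open Cfsg.Agent.Lib.Helper20 in
/-- the Sylow tower: a characteristic Hall subgroup for the primes greater than `p` -/
theorem hall_tower {G : Type*} [Group G] [Finite G] [Group.IsSolvable G]
    (hodd : Odd (Nat.card G))
    (hF : ∀ (q : ℕ) [Fact q.Prime], Cfsg.PRankLE q 2 ↥(Cfsg.pCore q G))
    (hNF : commutator G ≤ Cfsg.fittingSubgroup G) (p : ℕ) :
    ∃ N : Subgroup G, N.Characteristic ∧ Cfsg.IsPiHall {q | q.Prime ∧ p < q} N := by
  obtain ⟨π, hπ⟩ : ∃ π : Set ℕ, π = {q | q.Prime ∧ p < q} := ⟨_, rfl⟩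
  rw [← hπ]
  obtain ⟨H, hH⟩ := (hall_of_piSepS π (piSepS_of_solvable π G)).1
  obtain ⟨A, hA⟩ : ∃ A : Subgroup G,
    A = sSup {N : Subgroup G | ∃ q : Nat.Primes, p < (q : ℕ) ∧ N = Cfsg.pCore (q : ℕ) G} :=
    ⟨_, rfl⟩
  obtain ⟨B, hB⟩ : ∃ B : Subgroup G,
    B = sSup {N : Subgroup G | ∃ q : Nat.Primes, (q : ℕ) ≤ p ∧ N = Cfsg.pCore (q : ℕ) G} :=
    ⟨_, rfl⟩
  have hAn : A.Normal ∧ PiNum π (Nat.card A) := by
    rw [hA]
    apply sSup_normal_piNum
    rintro N ⟨q, hq, rfl⟩
    have : Fact (q : ℕ).Prime := ⟨q.2⟩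
    refine ⟨Cfsg.Agent.Lib.Helper1.pCore_normal _, ?_⟩
    obtain ⟨n, hn⟩ :=
      IsPGroup.iff_card.mp (Cfsg.Agent.Lib.Helper1.pCore_isPGroup (G := G) (q : ℕ))
    rw [hn]
    exact piNum_prime_pow q.2 (by rw [hπ]; exact ⟨q.2, hq⟩) n
  have hBn : B.Normal ∧ PiNum {s | s ≤ p} (Nat.card B) := by
    rw [hB]
    apply sSup_normal_piNum
    rintro N ⟨q, hq, rfl⟩
    have : Fact (q : ℕ).Prime := ⟨q.2⟩
    refine ⟨Cfsg.Agent.Lib.Helper1.pCore_normal _, ?_⟩
    obtain ⟨n, hn⟩ :=
      IsPGroup.iff_card.mp (Cfsg.Agent.Lib.Helper1.pCore_isPGroup (G := G) (q : ℕ))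
    rw [hn]
    exact piNum_prime_pow q.2 hq n
  have hAnorm : A.Normal := hAn.1
  have hBnorm : B.Normal := hBn.1
  have hcopHB : (Nat.card H).Coprime (Nat.card B) := by
    apply Nat.coprime_of_dvd
    intro s hs h1 h2
    have h3 : s ∈ π := hH.1 s hs h1
    rw [hπ] at h3
    have h4 : s ≤ p := hBn.2 s hs h2
    exact absurd h3.2 (not_lt.mpr h4)
  have hFle : Cfsg.fittingSubgroup G ≤ A ⊔ B := by
    rw [Cfsg.Agent.Lib.Helper1.fittingSubgroup_eq_iSup_pCore]
    apply iSup_le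
    intro q
    by_cases hq : p < (q : ℕ)
    · refine le_trans ?_ le_sup_left
      rw [hA]
      exact le_sSup ⟨q, hq, rfl⟩
    · refine le_trans ?_ le_sup_right
      rw [hB]
      exact le_sSup ⟨q, not_lt.mp hq, rfl⟩
  have hAH : A ≤ H := normal_le_hall hAn.2 hH
  -- `H` centralizes `B`
  have hBcen : ∀ b ∈ B, ∀ h ∈ H, b * h = h * b := by
    have h1 : B ≤ Subgroup.centralizer (H : Set G) := by
      rw [hB]
      apply sSup_le
      rintro N ⟨q, hq, rfl⟩
      have hqF : Fact (q : ℕ).Prime := ⟨q.2⟩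
      intro u hu
      rw [Subgroup.mem_centralizer_iff]
      intro h hh
      by_cases hq2 : (q : ℕ) = 2
      · have h0 := pCore_two_eq_bot hodd
        rw [← hq2] at h0
        rw [h0] at hu
        have : u = 1 := hu
        rw [this, one_mul, mul_one]
      · have hQp : IsPGroup (q : ℕ) ↥(Cfsg.pCore (q : ℕ) G) :=
          Cfsg.Agent.Lib.Helper1.pCore_isPGroup (q : ℕ)
        have hα : MulAut.conjNormal (H := Cfsg.pCore (q : ℕ) G) h = 1 := by
          by_contra hne
          have hne' : orderOf (MulAut.conjNormal (H := Cfsg.pCore (q : ℕ) G) h) ≠ 1 := by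
            rwa [Ne, orderOf_eq_one_iff]
          obtain ⟨s, hs, hsd⟩ := Nat.exists_prime_and_dvd hne'
          have h2 : s ∣ Nat.card H := by
            refine hsd.trans ((orderOf_map_dvd _ h).trans ?_)
            rw [← Subgroup.orderOf_mk h hh]
            exact orderOf_dvd_natCard _
          have h3 : s ∈ π := hH.1 s hs h2
          rw [hπ] at h3
          have h4 : s ∣ Nat.card (MulAut ↥(Cfsg.pCore (q : ℕ) G)) :=
            hsd.trans (orderOf_dvd_natCard _)
          have hsq : s ≠ (q : ℕ) := by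
            intro h5
            rw [h5] at h3
            exact absurd h3.2 (not_lt.mpr hq)
          have h6 := (Cfsg.Agent.S0640.result hq2 hQp (hF (q : ℕ)) s hs hsq h4).2
          exact absurd (h6.trans_le hq) (not_lt.mpr h3.2.le)
        have hcen := Cfsg.Agent.Lib.Helper11.RankTwoSolvable.conjNormal_ker_le _
          (MonoidHom.mem_ker.mpr hα)
        exact ((Subgroup.mem_centralizer_iff.mp hcen) u hu).symm
    intro b hb h hh
    exact ((Subgroup.mem_centralizer_iff.mp (h1 hb)) h hh).symm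
  have hHn : H.Normal := by
    refine ⟨fun h hh g => ?_⟩
    have hc : ⁅g, h⁆ ∈ A ⊔ B := by
      apply hFle
      apply hNF
      exact Subgroup.commutator_mem_commutator (Subgroup.mem_top g) (Subgroup.mem_top h)
    have hc' : ⁅g, h⁆ ∈ (↑(A ⊔ B) : Set G) := hc
    rw [Subgroup.mul_normal A B] at hc'
    obtain ⟨a, ha, b, hb, hab⟩ := hc'
    have hab' : a * b = ⁅g, h⁆ := hab
    have h1 : g * h * g⁻¹ = (a * h) * b := by
      have : g * h * g⁻¹ = ⁅g, h⁆ * h := by rw [commutatorElement_def]; group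
      rw [this, ← hab', mul_assoc, hBcen b hb h hh, ← mul_assoc]
    have hah : a * h ∈ H := H.mul_mem (hAH ha) hh
    have hcomm : Commute (a * h) b := (hBcen b hb _ hah).symm
    have h2 : (g * h * g⁻¹) ^ Nat.card H = 1 := by
      rw [conj_pow, Cfsg.Agent.Lib.Helper5.h5_pow_card_eq_one_of_mem hh]
      group
    rw [h1, hcomm.mul_pow, Cfsg.Agent.Lib.Helper5.h5_pow_card_eq_one_of_mem hah, one_mul] at h2
    have h3 : b ^ Nat.card B = 1 := Cfsg.Agent.Lib.Helper5.h5_pow_card_eq_one_of_mem hb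
    have h4 := pow_gcd_eq_one.mpr ⟨h2, h3⟩
    rw [Nat.Coprime.gcd_eq_one hcopHB, pow_one] at h4
    rw [h1, h4, mul_one]
    exact hah
  have hcop : (Nat.card H).Coprime H.index := coprime_of_piNum hH.1 hH.2
  exact ⟨H, Cfsg.Agent.Lib.helper4.characteristic_of_normal_coprime H hcop, hH⟩

end Cfsg.Agent.Lib.Helper11.RankTwoTower
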