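import Mathlib
import Cfsg.Agent.Lib.Helper11.BenderB
import Cfsg.Agent.Lib.Helper11.PConstrInv
import Cfsg.Agent.Lib.Helper11.ThompsonTransOdd
import Cfsg.Agent.Lib.Helper9.Rank
import Cfsg.Agent.S1451

set_option autoImplicit false
open scoped commutatorElement

namespace Cfsg.Agent.Lib.Helper11.BenderC

open Cfsg.Agent.Lib.Helper11 Cfsg.Agent.Lib.Helper11.MaxLocA Cfsg.Agent.Lib.Helper11.MaxLocB
  Cfsg.Agent.Lib.Helper11.MaxSubA Cfsg.Agent.Lib.Helper11.MaxSubB Cfsg.Agent.Lib.Helper11.MaxSubC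
  Cfsg.Agent.Lib.Helper11.MaxSubD Cfsg.Agent.Lib.Helper11.MaxSubE
  Cfsg.Agent.Lib.Helper18 Cfsg.Agent.Lib.Helper1.GNPC3 Cfsg.Agent.Lib.Helper11.BenderB

variable {G : Type*} [Group G] [Finite G]

/-- the `p'`-core of a subgroup, as a subgroup of the ambient group -/
def ppc (p : ℕ) (L : Subgroup G) : Subgroup G := (Cfsg.pPrimeCore p ↥L).map L.subtype

omit [Finite G] in
theorem ppc_le (p : ℕ) (L : Subgroup G) : ppc p L ≤ L := by
  rintro _ ⟨x, _, rfl⟩
  exact x.2

theorem ppc_coprime (p : ℕ) (L : Subgroup G) : (Nat.card (ppc p L)).Coprime p := by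
  unfold ppc
  rw [Subgroup.card_map_of_injective (Subgroup.subtype_injective L)]
  exact Cfsg.Agent.Lib.Helper18.pPrimeCore_card_coprime_h18 p

omit [Finite G] in
theorem le_normalizer_ppc (p : ℕ) (L : Subgroup G) : L ≤ Subgroup.normalizer (ppc p L : Set G) := by
  have hn : (Cfsg.pPrimeCore p ↥L).Normal := Cfsg.Agent.Lib.Helper18.pPrimeCore_normal_h18 p ↥L
  intro x hx
  rw [Subgroup.mem_normalizer_iff]
  intro y
  constructor
  · rintro ⟨a, ha, rfl⟩
    exact ⟨⟨x, hx⟩ * a * ⟨x, hx⟩⁻¹, hn.conj_mem a ha ⟨x, hx⟩, rfl⟩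
  · rintro ⟨a, ha, ha'⟩
    have hy : y ∈ L := by
      have h1 : x⁻¹ * (x * y * x⁻¹) * x ∈ L :=
        L.mul_mem (L.mul_mem (L.inv_mem hx) (ha' ▸ a.2)) hx
      simpa [mul_assoc] using h1
    refine ⟨⟨y, hy⟩, ?_, rfl⟩
    have h2 := hn.conj_mem a ha (⟨x, hx⟩⁻¹)
    have h3 : (⟨x, hx⟩ : L)⁻¹ * a * (⟨x, hx⟩ : L)⁻¹⁻¹ = ⟨y, hy⟩ := by
      apply Subtype.ext
      simp only [Subgroup.coe_mul, Subgroup.coe_inv, inv_inv]
      have : (a : G) = x * y * x⁻¹ := ha'
      rw [this]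
      group
    rwa [h3] at h2

omit [Finite G] in
theorem le_ppc (p : ℕ) (L N : Subgroup G) (hNL : N ≤ L)
    (hLN : L ≤ Subgroup.normalizer (N : Set G)) (hcop : (Nat.card N).Coprime p) : N ≤ ppc p L := by
  intro n hn
  refine ⟨⟨n, hNL hn⟩, ?_, rfl⟩
  have hnorm : (N.subgroupOf L).Normal :=
    (Subgroup.normal_subgroupOf_iff_le_normalizer hNL).mpr hLN
  have hc : (Nat.card (N.subgroupOf L)).Coprime p := by
    rwa [Nat.card_congr (Subgroup.subgroupOfEquivOfLe hNL).toEquiv]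
  exact Cfsg.Agent.Lib.Helper18.le_pPrimeCore_h18 hnorm hc (Subgroup.mem_subgroupOf.mpr hn)

/-- subgroups of order prime to `p` invariant under a Sylow `p`-subgroup of the solvable group `L`
lie in `O_{p'}(L)` -/
theorem sylow_inv_le (L : Subgroup G) (hLs : Group.IsSolvable L) (p : ℕ) [hp : Fact p.Prime]
    (hp2 : p ≠ 2) (S : Subgroup G) (hS : IsSylowIn p S L) (Y : Subgroup G) (hYL : Y ≤ L)
    (hYp : (Nat.card Y).Coprime p) (hSY : S ≤ Subgroup.normalizer (Y : Set G)) :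
    Y ≤ ppc p L := by
  have hXc : Cfsg.IsPConstrained p ↥L := Cfsg.Agent.Lib.Helper11.isPConstrained_of_isSolvable p
  have hQ : (Nat.card (Y.subgroupOf L)).Coprime p := by
    rwa [Nat.card_congr (Subgroup.subgroupOfEquivOfLe hYL).toEquiv]
  have hAQ : S.subgroupOf L ≤ Subgroup.normalizer ((Y.subgroupOf L : Subgroup ↥L) : Set ↥L) := by
    intro e he
    rw [Subgroup.mem_subgroupOf] at he
    rw [Subgroup.mem_normalizer_iff]
    intro x
    rw [Subgroup.mem_subgroupOf, Subgroup.mem_subgroupOf]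
    exact Subgroup.mem_normalizer_iff.mp (hSY he) x
  have hres := Cfsg.Agent.Lib.Helper11.inv_le_pPrimeCore p hXc (S.subgroupOf L) (Y.subgroupOf L)
    hS.isPGroup.comap_subtype hQ hAQ (Or.inl ⟨hp2, by
      intro x hx hxp
      rw [Subgroup.mem_subgroupOf]
      by_contra hxS
      have hxN : (x : G) ∈ Subgroup.normalizer (S : Set G) := by
        apply Subgroup.centralizer_le_normalizer
        rw [Subgroup.mem_centralizer_iff]
        intro e he
        have := (Subgroup.mem_centralizer_iff.mp hx) ⟨e, hS.le he⟩ (by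
          rw [SetLike.mem_coe, Subgroup.mem_subgroupOf]; exact he)
        exact congrArg Subtype.val this
      have hxpow : ∃ k : ℕ, (x : G) ^ p ^ k = 1 := ⟨1, by
        rw [pow_one]
        have h3 := congrArg Subtype.val hxp
        simpa using h3⟩
      obtain ⟨h1, h2⟩ := sup_zpowers p S hS.isPGroup (x : G) hxN hxS hxpow
      have h3 : S ⊔ Subgroup.zpowers (x : G) ≤ L :=
        sup_le hS.le (by rw [Subgroup.zpowers_le]; exact x.2)
      exact h2.ne (hS.eq_of_le h3 h1 le_sup_left).symm⟩)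
  intro y hy
  exact ⟨⟨y, hYL hy⟩, hres (by rw [Subgroup.mem_subgroupOf]; exact hy), rfl⟩

/-- odd-order solvable subgroups whose Fitting subgroup has rank at most two have derived subgroup
inside the Fitting subgroup -/
theorem commutator_mem_fitting (L : Subgroup G) (hLs : Group.IsSolvable L)
    (hLodd : Odd (Nat.card L)) (hr : Cfsg.RankLE 2 ↥(Cfsg.fittingOf L)) :
    ∀ x ∈ L, ∀ y ∈ L, x * y * x⁻¹ * y⁻¹ ∈ Cfsg.fittingOf L := by
  have hr' : Cfsg.RankLE 2 ↥(Cfsg.fittingSubgroup ↥L) := by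
    intro q hq
    have h1 := hr q hq
    unfold Cfsg.fittingOf at h1
    exact (Cfsg.Agent.Lib.Helper9.pRankLE_map_iff L.subtype (Subgroup.subtype_injective L) _).mp h1
  have hnil := (Cfsg.Agent.S1451.result (G := ↥L) hLodd (Or.inr hr')).1
  have hle : commutator ↥L ≤ Cfsg.fittingSubgroup ↥L :=
    le_sSup ⟨inferInstance, hnil⟩
  intro x hx y hy
  have h1 : ⁅(⟨x, hx⟩ : ↥L), ⟨y, hy⟩⁆ ∈ commutator ↥L :=
    Subgroup.commutator_mem_commutator (Subgroup.mem_top _) (Subgroup.mem_top _)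
  refine ⟨_, hle h1, ?_⟩
  simp [commutatorElement_def]

/-- the Frattini argument in a subgroup with small Fitting subgroup -/
theorem le_of_rank2 (L : Subgroup G) (hLs : Group.IsSolvable L)
    (hLodd : Odd (Nat.card L)) (hr : Cfsg.RankLE 2 ↥(Cfsg.fittingOf L)) (p : ℕ) [Fact p.Prime]
    (R : Subgroup G) (hR : IsSylowIn p R L) (M : Subgroup G) (hFM : Cfsg.fittingOf L ≤ M)
    (hRM : R ≤ M) (hNM : L ⊓ Subgroup.normalizer (R : Set G) ≤ M) : L ≤ M := by
  have hcomm := commutator_mem_fitting L hLs hLodd hr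
  obtain ⟨W, hW⟩ : ∃ W : Subgroup G, W = Cfsg.fittingOf L ⊔ R := ⟨_, rfl⟩
  have hWL : W ≤ L := hW ▸ sup_le (fittingOf_le L) hR.le
  have hWM : W ≤ M := hW ▸ sup_le hFM hRM
  have hRW : R ≤ W := hW ▸ le_sup_right
  have hLW : L ≤ Subgroup.normalizer (W : Set G) := by
    intro x hx
    apply mem_normalizer_of_conjSub_le
    rw [hW]
    unfold Helper18.conjSub
    rw [Subgroup.map_sup]
    apply sup_le
    · have := le_normalizer_fittingOf L hx
      have e := Helper18.conjSub_eq_of_mem_normalizer this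
      unfold Helper18.conjSub at e
      rw [e]
      exact le_sup_left
    · rintro _ ⟨r, hr, rfl⟩
      have h1 := hcomm x hx r (hR.le hr)
      have e : (MulAut.conj x).toMonoidHom r = (x * r * x⁻¹ * r⁻¹) * r := by
        simp [MulAut.conj_apply]
      rw [e]
      exact Subgroup.mul_mem _ (Subgroup.mem_sup_left h1) (Subgroup.mem_sup_right hr)
  have hRSW : IsSylowIn p R W := hR.of_le hRW hWL
  intro x hx
  obtain ⟨n, hn, hnx⟩ := hRSW.frattini (hLW hx)
  have h1 : n * x ∈ M := hNM (Subgroup.mem_inf.mpr ⟨L.mul_mem (hWL hn) hx, hnx⟩)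
  have h2 : n⁻¹ * (n * x) ∈ M := M.mul_mem (M.inv_mem (hWM hn)) h1
  simpa using h2

end Cfsg.Agent.Lib.Helper11.BenderC
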