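import Mathlib
import Cfsg.Agent.Lib.Helper11.BenderC

set_option autoImplicit false
open scoped commutatorElement

namespace Cfsg.Agent.Lib.Helper11.BenderD

open Cfsg.Agent.Lib.Helper11 Cfsg.Agent.Lib.Helper11.MaxLocA Cfsg.Agent.Lib.Helper11.MaxLocB
  Cfsg.Agent.Lib.Helper11.MaxSubA Cfsg.Agent.Lib.Helper11.MaxSubB Cfsg.Agent.Lib.Helper11.MaxSubC
  Cfsg.Agent.Lib.Helper11.MaxSubD Cfsg.Agent.Lib.Helper11.MaxSubE
  Cfsg.Agent.Lib.Helper18 Cfsg.Agent.Lib.Helper1.GNPC3 Cfsg.Agent.Lib.Helper11.BenderB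
  Cfsg.Agent.Lib.Helper11.BenderC

variable {G : Type*} [Group G] [Finite G]

theorem odd_prime_of_pgroup (hG : Cfsg.IsMinSimpleOddOrder G) (p : ℕ) [hp : Fact p.Prime]
    (B : Subgroup G) (hB1 : B ≠ ⊥) (hBp : IsPGroup p B) : p ≠ 2 := by
  rintro rfl
  obtain ⟨k, hk⟩ := IsPGroup.iff_card.mp hBp
  have hk0 : k ≠ 0 := by
    rintro rfl
    rw [pow_zero] at hk
    exact hB1 (Subgroup.card_eq_one.mp hk)
  have h1 : 2 ∣ Nat.card B := by rw [hk]; exact dvd_pow_self 2 hk0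
  have h2 : 2 ∣ Nat.card G := h1.trans (Subgroup.card_subgroup_dvd_card B)
  have := hG.1
  rw [Nat.odd_iff] at this
  omega

/-- if every `B`-invariant `p'`-subgroup lies in the maximal subgroup `M`, then `M` contains the
normalizer of each of its Sylow `p`-subgroups containing `B` -/
theorem normalizer_sylow_le (hG : Cfsg.IsMinSimpleOddOrder G) (M : Subgroup G) (hM : IsCoatom M)
    (p : ℕ) [hp : Fact p.Prime] (B : Subgroup G) (hB1 : B ≠ ⊥) (hBp : IsPGroup p B)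
    (hinv : ∀ Y : Subgroup G, (Nat.card Y).Coprime p → B ≤ Subgroup.normalizer (Y : Set G) → Y ≤ M)
    (P' : Subgroup G) (hP' : IsSylowIn p P' M) (hBP' : B ≤ P') :
    Subgroup.normalizer (P' : Set G) ≤ M := by
  have hp2 := odd_prime_of_pgroup hG p B hB1 hBp
  have hP'1 : P' ≠ ⊥ := by
    intro h
    apply hB1
    rw [eq_bot_iff, ← h]
    exact hBP'
  by_cases hK : ppc p M = ⊥
  · have e1 := zj_coatom hG M hM p (fun N hNM hMN hcop => by
      rw [eq_bot_iff, ← hK]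
      exact le_ppc p M N hNM hMN hcop) P' hP' hP'1
    exact e1 ▸ normalizer_le_normalizer_ZE p P'
  · have hKtop : ppc p M ≠ ⊤ := by
      intro h
      apply hM.1
      rw [eq_top_iff, ← h]
      exact ppc_le p M
    have hN := normalizer_eq_of_coatom hG M hM (ppc p M) hK hKtop (le_normalizer_ppc p M)
    intro x hx
    rw [← hN]
    apply mem_normalizer_of_conjSub_le
    have hP'K : P' ≤ Subgroup.normalizer (ppc p M : Set G) := hP'.le.trans (le_normalizer_ppc p M)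
    have h1 : P' ≤ Subgroup.normalizer ((Helper18.conjSub x (ppc p M) : Subgroup G) : Set G) :=
      Cfsg.Agent.Lib.Helper11.le_normalizer_conjSub_of_normalizer hP'K hx
    have h2 : (Nat.card (Helper18.conjSub x (ppc p M))).Coprime p := by
      rw [Helper18.card_conjSub]
      exact ppc_coprime p M
    have h3 : Helper18.conjSub x (ppc p M) ≤ M := hinv _ h2 (hBP'.trans h1)
    exact sylow_inv_le M (coatom_solvable hG M hM) p hp2 P' hP' _ h3 h2 h1

/-- **Bender's uniqueness criterion**: a nontrivial `p`-subgroup `B` of the maximal subgroup `M` such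
that every `B`-invariant `p'`-subgroup of `G` lies in `M` is contained in no other maximal
subgroup. -/
theorem bender_core (hG : Cfsg.IsMinSimpleOddOrder G) (M : Subgroup G) (hM : IsCoatom M)
    (p : ℕ) [hp : Fact p.Prime] (A : Subgroup G) (hA1 : A ≠ ⊥) (hAp : IsPGroup p A) (hAM : A ≤ M)
    (hinv : ∀ Y : Subgroup G, (Nat.card Y).Coprime p → A ≤ Subgroup.normalizer (Y : Set G) → Y ≤ M) :
    ∀ L : Subgroup G, IsCoatom L → A ≤ L → L = M := by
  by_contra hcon
  push Not at hcon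
  obtain ⟨L₀, hL₀, hAL₀, hL₀M⟩ := hcon
  obtain ⟨𝒮, h𝒮⟩ : ∃ 𝒮 : Set (Subgroup G), 𝒮 = {L | IsCoatom L ∧ A ≤ L ∧ L ≠ M} := ⟨_, rfl⟩
  have h𝒮ne : 𝒮.Nonempty := ⟨L₀, h𝒮 ▸ ⟨hL₀, hAL₀, hL₀M⟩⟩
  obtain ⟨L, hL𝒮, hmax⟩ := Set.exists_max_image 𝒮
    (fun L => (Nat.card (L ⊓ M : Subgroup G)).factorization p) (Set.toFinite 𝒮) h𝒮ne
  rw [h𝒮] at hL𝒮
  obtain ⟨hL, hAL, hLM⟩ := hL𝒮
  -- a Sylow subgroup of `L ⊓ M` containing `A`
  have hAp' : IsPGroup p (A.subgroupOf (L ⊓ M)) := hAp.comap_subtype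
  obtain ⟨R0, hR0⟩ := hAp'.exists_le_sylow
  obtain ⟨R, hRdef⟩ : ∃ R : Subgroup G, R = (R0 : Subgroup ↥(L ⊓ M)).map (L ⊓ M).subtype :=
    ⟨_, rfl⟩
  have hR : IsSylowIn p R (L ⊓ M) := hRdef ▸ isSylowIn_of_sylow R0
  have hAR : A ≤ R := by
    intro x hx
    rw [hRdef]
    exact ⟨⟨x, le_inf hAL hAM hx⟩, hR0 (by simpa [Subgroup.mem_subgroupOf] using hx), rfl⟩
  have hRcard : Nat.card R = p ^ (Nat.card (L ⊓ M : Subgroup G)).factorization p := by
    rw [hRdef, Subgroup.card_map_of_injective (Subgroup.subtype_injective _)]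
    exact R0.card_eq_multiplicity
  have hR1 : R ≠ ⊥ := by
    intro h
    apply hA1
    rw [eq_bot_iff, ← h]
    exact hAR
  have hRL : R ≤ L := hR.le.trans inf_le_left
  have hRM : R ≤ M := hR.le.trans inf_le_right
  have hRtop : R ≠ ⊤ := pgroup_ne_top hG p R hR.isPGroup
  have hsimple : IsSimpleGroup G := hG.2.1
  -- no `p`-element of `L ⊓ M` outside `R` normalizes `R`
  have hnoLM : ∀ y ∈ L ⊓ M, y ∈ Subgroup.normalizer (R : Set G) → (∃ k : ℕ, y ^ p ^ k = 1) →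
      y ∈ R := by
    intro y hy hyN hyp
    by_contra hyR
    obtain ⟨h1, h2⟩ := sup_zpowers p R hR.isPGroup y hyN hyR hyp
    have h3 : R ⊔ Subgroup.zpowers y ≤ L ⊓ M := sup_le hR.le (by rw [Subgroup.zpowers_le]; exact hy)
    have := hR.eq_of_le h3 h1 le_sup_left
    exact h2.ne this.symm
  -- if a `p`-element of `M` outside `R` normalizes `R` then `N_G(R) ≤ M`
  have hclaim : ∀ y ∈ M, y ∈ Subgroup.normalizer (R : Set G) → y ∉ R → (∃ k : ℕ, y ^ p ^ k = 1) →
      Subgroup.normalizer (R : Set G) ≤ M := by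
    intro y hyM hyN hyR hyp
    have hne : Subgroup.normalizer (R : Set G) ≠ ⊤ := normalizer_ne_top_of_simple hR1 hRtop
    obtain ⟨L', hL', hNL'⟩ := (eq_top_or_exists_le_coatom _).resolve_left hne
    by_cases hL'M : L' = M
    · rw [← hL'M]; exact hNL'
    · exfalso
      have hRL' : R ≤ L' := Subgroup.le_normalizer.trans hNL'
      have hL'𝒮 : L' ∈ 𝒮 := h𝒮 ▸ ⟨hL', hAR.trans hRL', hL'M⟩
      have h1 := hmax L' hL'𝒮
      obtain ⟨h2, h3⟩ := sup_zpowers p R hR.isPGroup y hyN hyR hyp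
      have h4 : R ⊔ Subgroup.zpowers y ≤ L' ⊓ M :=
        sup_le (le_inf hRL' hRM)
          (by rw [Subgroup.zpowers_le]; exact Subgroup.mem_inf.mpr ⟨hNL' hyN, hyM⟩)
      obtain ⟨j, hj⟩ := IsPGroup.iff_card.mp h2
      have h5 : p ^ j ∣ Nat.card (L' ⊓ M : Subgroup G) := hj ▸ Subgroup.card_dvd_of_le h4
      have h6 : j ≤ (Nat.card (L' ⊓ M : Subgroup G)).factorization p :=
        (hp.out.pow_dvd_iff_le_factorization Nat.card_pos.ne').mp h5
      have h7 : Nat.card R < Nat.card ↥(R ⊔ Subgroup.zpowers y) := by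
        by_contra hge
        push Not at hge
        exact h3.ne (Subgroup.eq_of_le_of_card_ge h3.le hge)
      rw [hRcard, hj] at h7
      have h8 : (Nat.card (L ⊓ M : Subgroup G)).factorization p < j :=
        (Nat.pow_lt_pow_iff_right hp.out.one_lt).mp h7
      omega
  -- a Sylow subgroup of `M` containing `R`
  have hRp' : IsPGroup p (R.subgroupOf M) := hR.isPGroup.comap_subtype
  obtain ⟨P0, hP0⟩ := hRp'.exists_le_sylow
  obtain ⟨P', hP'def⟩ : ∃ P' : Subgroup G, P' = (P0 : Subgroup ↥M).map M.subtype := ⟨_, rfl⟩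
  have hP' : IsSylowIn p P' M := hP'def ▸ isSylowIn_of_sylow P0
  have hRP' : R ≤ P' := by
    intro x hx
    rw [hP'def]
    exact ⟨⟨x, hRM hx⟩, hP0 (by simpa [Subgroup.mem_subgroupOf] using hx), rfl⟩
  have hpel : ∀ y ∈ P', ∃ k : ℕ, y ^ p ^ k = 1 := by
    intro y hy
    obtain ⟨k, hk⟩ := hP'.isPGroup ⟨y, hy⟩
    exact ⟨k, by simpa using congrArg Subtype.val hk⟩
  -- `N_G(R) ≤ M`
  have hNRM : Subgroup.normalizer (R : Set G) ≤ M := by
    by_cases hRP : R = P'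
    · rw [hRP]
      exact normalizer_sylow_le hG M hM p A hA1 hAp hinv P' hP' (hAR.trans hRP')
    · obtain ⟨x, hxP', hxR, hxN⟩ := pgroup_grow p R P' hP'.isPGroup (lt_of_le_of_ne hRP' hRP)
      exact hclaim x (hP'.le hxP') hxN hxR (hpel x hxP')
  have hRSL : IsSylowIn p R L := by
    apply sylow_of_normalizer p R L hRL hR.isPGroup
    intro y hyL hyN hyp
    exact hnoLM y (Subgroup.mem_inf.mpr ⟨hyL, hNRM hyN⟩) hyN hyp
  -- `F(L) ≤ M`
  have hfP : ∀ (q : ℕ) [Fact q.Prime], fP L q ≤ M := by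
    intro q hq
    by_cases hqp : q = p
    · subst hqp
      obtain ⟨x, hx, hle⟩ := hRSL.exists_conj_le (fP_le_self L q) (fP_isPGroup L q)
      rw [Helper18.conjSub_eq_of_mem_normalizer (le_normalizer_fP L q hx)] at hle
      exact hle.trans hRM
    · apply hinv
      · obtain ⟨k, hk⟩ := IsPGroup.iff_card.mp (fP_isPGroup L q)
        rw [hk]
        exact Nat.Coprime.pow_left k ((Nat.coprime_primes hq.out hp.out).mpr hqp)
      · exact hAL.trans (le_normalizer_fP L q)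
  have hFM : Cfsg.fittingOf L ≤ M := by
    intro g hg
    apply gl_mem M (orderOf g) g rfl (orderOf_pos g)
    intro h hh q hq _ hhq
    have : Fact q.Prime := ⟨hq⟩
    exact hfP q ⟨(Subgroup.zpowers_le.mpr hg) hh, hhq⟩
  by_cases hr : Cfsg.RankLE 2 ↥(Cfsg.fittingOf L)
  · have hLleM : L ≤ M :=
      le_of_rank2 L (coatom_solvable hG L hL) (coatom_odd hG L) hr p R hRSL M hFM hRM
        (inf_le_right.trans hNRM)
    exact hM.1 (hL.2 M (lt_of_le_of_ne hLleM hLM))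
  · exact hLM (fitting_unique hG L hL hr M hM hFM).symm

end Cfsg.Agent.Lib.Helper11.BenderD
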