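import Mathlib
import Cfsg.Agent.Lib.Helper11.BenderD
import Cfsg.Agent.S1398

set_option autoImplicit false
open scoped commutatorElement

namespace Cfsg.Agent.Lib.Helper11.BenderE

open Cfsg.Agent.Lib.Helper11 Cfsg.Agent.Lib.Helper11.MaxSubB Cfsg.Agent.Lib.Helper11.MaxSubD
  Cfsg.Agent.Lib.Helper11.BenderD

variable {G : Type*} [Group G] [Finite G]

/-- a proper subgroup lies in a maximal subgroup -/
theorem exists_coatom_ge (X : Subgroup G) (hX : X ≠ ⊤) : ∃ M : Subgroup G, IsCoatom M ∧ X ≤ M :=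
  (eq_top_or_exists_le_coatom X).resolve_left hX

/-- a proper overgroup of a uniqueness subgroup lies in the unique maximal subgroup -/
theorem le_of_unique {L M : Subgroup G} (hM : IsCoatom M) (hLM : L ≤ M)
    (huniq : ∀ M' : Subgroup G, IsCoatom M' → L ≤ M' → M' = M) (X : Subgroup G) (hX : X ≠ ⊤)
    (hLX : L ≤ X) : X ≤ M := by
  obtain ⟨M', hM', hXM'⟩ := exists_coatom_ge X hX
  rw [← huniq M' hM' (hLX.trans hXM')]
  exact hXM'

/-- proper overgroups of uniqueness subgroups are uniqueness subgroups -/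
theorem unique_mono {B K : Subgroup G} (hB : Cfsg.InUniqueMaximal B) (hBK : B ≤ K) (hK : K ≠ ⊤) :
    Cfsg.InUniqueMaximal K := by
  obtain ⟨M, ⟨hM, hBM⟩, huniq⟩ := hB
  have hKM : K ≤ M := le_of_unique hM hBM (fun M' h1 h2 => huniq M' ⟨h1, h2⟩) K hK hBK
  exact ⟨M, ⟨hM, hKM⟩, fun M' hM' => huniq M' ⟨hM'.1, hBK.trans hM'.2⟩⟩

/-- the trivial subgroup lies in more than one maximal subgroup -/
theorem bot_not_unique (hG : Cfsg.IsMinSimpleOddOrder G) :
    ¬ Cfsg.InUniqueMaximal (⊥ : Subgroup G) := by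
  rintro ⟨M, ⟨hM, -⟩, huniq⟩
  apply hM.1
  rw [eq_top_iff]
  intro x _
  have hne : Subgroup.zpowers x ≠ ⊤ := by
    intro h
    apply hG.2.2.1
    refine ⟨⟨fun a b => ?_⟩⟩
    have ha : a ∈ Subgroup.zpowers x := h ▸ Subgroup.mem_top a
    have hb : b ∈ Subgroup.zpowers x := h ▸ Subgroup.mem_top b
    obtain ⟨i, rfl⟩ := Subgroup.mem_zpowers_iff.mp ha
    obtain ⟨j, rfl⟩ := Subgroup.mem_zpowers_iff.mp hb
    exact (Commute.zpow_zpow_self x i j).eq
  obtain ⟨M', hM', hxM'⟩ := exists_coatom_ge _ hne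
  rw [← huniq M' ⟨hM', bot_le⟩]
  exact hxM' (Subgroup.mem_zpowers x)

omit [Finite G] in
/-- elementary abelian groups of order at least `p ^ 2` are not cyclic -/
theorem not_cyclic_of_elemAb (p : ℕ) [hp : Fact p.Prime] (B : Subgroup G)
    (hBe : Cfsg.IsElementaryAbelian p B) (hB2 : p ^ 2 ≤ Nat.card B) : ¬ IsCyclic B := by
  intro hc
  obtain ⟨g, hg⟩ := hc.exists_generator
  have h1 : orderOf g = Nat.card B := orderOf_eq_card_of_forall_mem_zpowers hg
  have h2 : g ^ p = 1 := Subtype.ext (by simpa using hBe.2 g g.2)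
  have h3 : orderOf g ∣ p := orderOf_dvd_of_pow_eq_one h2
  have h4 : orderOf g ≤ p := Nat.le_of_dvd hp.out.pos h3
  have h5 : p < p ^ 2 := by
    calc p = p ^ 1 := (pow_one p).symm
      _ < p ^ 2 := Nat.pow_lt_pow_right hp.out.one_lt (by norm_num)
  omega

/-- **B & G, Corollary 9.2** -/
theorem cent_unique (hG : Cfsg.IsMinSimpleOddOrder G) (L K : Subgroup G)
    (hL : Cfsg.InUniqueMaximal L) (hK : K ≤ Subgroup.centralizer (L : Set G))
    (hKr : ¬ Cfsg.RankLE 1 K) : Cfsg.InUniqueMaximal K := by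
  have hsimple : IsSimpleGroup G := hG.2.1
  have hL1 : L ≠ ⊥ := by
    rintro rfl
    exact bot_not_unique hG hL
  obtain ⟨M, ⟨hM, hLM⟩, huniq⟩ := hL
  have huniq' : ∀ M' : Subgroup G, IsCoatom M' → L ≤ M' → M' = M :=
    fun M' h1 h2 => huniq M' ⟨h1, h2⟩
  have hLtop : L ≠ ⊤ := by
    rintro rfl
    exact hM.1 (eq_top_iff.mpr hLM)
  have hNM : Subgroup.normalizer (L : Set G) ≤ M :=
    le_of_unique hM hLM huniq' _ (normalizer_ne_top_of_simple hL1 hLtop) Subgroup.le_normalizer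
  have hKM : K ≤ M := hK.trans ((Subgroup.centralizer_le_normalizer _).trans hNM)
  obtain ⟨p, hp, B, hBK, hBe, hB2⟩ := exists_elemAb_of_not_rankLE K 1 hKr
  have : Fact p.Prime := ⟨hp⟩
  have hBnc := not_cyclic_of_elemAb p B hBe hB2
  have hBU : Cfsg.InUniqueMaximal B := by
    apply Cfsg.Agent.S1398.result hG M hM p B (hBK.trans hKM) hBe hBnc
    left
    intro b hb hb1
    apply le_of_unique hM hLM huniq' _ (centralizer_singleton_ne_top hG.2.2.1 hb1)
    exact le_centralizer_singleton (hK (hBK hb))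
  have hKtop : K ≠ ⊤ := by
    rintro rfl
    exact hM.1 (eq_top_iff.mpr hKM)
  exact unique_mono hBU hBK hKtop

end Cfsg.Agent.Lib.Helper11.BenderE
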