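import Mathlib
import Cfsg.Agent.Lib.Helper11.BenderE
import Cfsg.Agent.Lib.Helper24.NormalRank

set_option autoImplicit false
open scoped commutatorElement

namespace Cfsg.Agent.Lib.Helper11.BenderF

open Cfsg.Agent.Lib.Helper11 Cfsg.Agent.Lib.Helper11.MaxSubB Cfsg.Agent.Lib.Helper11.MaxSubD
  Cfsg.Agent.Lib.Helper11.BenderD Cfsg.Agent.Lib.Helper11.BenderE Cfsg.Agent.Lib.Helper18

variable {G : Type*} [Group G]

/-- conjugation preserves maximal subgroups -/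
theorem isCoatom_conjSub (g : G) {M : Subgroup G} (hM : IsCoatom M) :
    IsCoatom (Helper18.conjSub g M) := by
  have h := (MulEquiv.mapSubgroup (MulAut.conj g)).isCoatom_iff (a := M)
  exact h.mpr hM

/-- conjugation preserves uniqueness subgroups -/
theorem unique_conj (g : G) {X : Subgroup G} (hX : Cfsg.InUniqueMaximal X) :
    Cfsg.InUniqueMaximal (Helper18.conjSub g X) := by
  obtain ⟨M, ⟨hM, hXM⟩, huniq⟩ := hX
  refine ⟨Helper18.conjSub g M, ⟨isCoatom_conjSub g hM, Helper18.conjSub_mono hXM⟩, ?_⟩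
  rintro M' ⟨hM', hXM'⟩
  have h1 : Helper18.conjSub g⁻¹ M' = M := by
    apply huniq
    refine ⟨isCoatom_conjSub g⁻¹ hM', ?_⟩
    exact Helper18.conjSub_le_iff.mp hXM'
  rw [← h1, Helper18.conjSub_mul]
  simp [Helper18.conjSub_one]

/-- conjugates of elementary abelian subgroups are elementary abelian -/
theorem elemAb_conjSub (p : ℕ) (g : G) {E : Subgroup G} (hE : Cfsg.IsElementaryAbelian p E) :
    Cfsg.IsElementaryAbelian p (Helper18.conjSub g E) := by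
  refine ⟨⟨⟨?_⟩⟩, ?_⟩
  · rintro ⟨_, a, ha, rfl⟩ ⟨_, b, hb, rfl⟩
    apply Subtype.ext
    show (MulAut.conj g).toMonoidHom a * (MulAut.conj g).toMonoidHom b =
      (MulAut.conj g).toMonoidHom b * (MulAut.conj g).toMonoidHom a
    rw [← map_mul, ← map_mul]
    congr 1
    exact congrArg Subtype.val (hE.1.is_comm.comm ⟨a, ha⟩ ⟨b, hb⟩)
  · rintro _ ⟨a, ha, rfl⟩
    rw [← map_pow, hE.2 a ha, map_one]

variable [Finite G]

/-- an elementary abelian subgroup of order more than `p ^ 2` inside a group of `p`-rank more than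
two -/
theorem exists_elemAb_of_not_pRankLE (p : ℕ) [hp : Fact p.Prime] (Z : Subgroup G)
    (h : ¬ Cfsg.PRankLE p 2 ↥Z) :
    ∃ A₀ : Subgroup G, A₀ ≤ Z ∧ Cfsg.IsElementaryAbelian p A₀ ∧ p ^ 3 ≤ Nat.card A₀ := by
  unfold Cfsg.PRankLE at h
  push Not at h
  obtain ⟨B, hBc, hBexp, hBcard⟩ := h
  have hBe' : Cfsg.IsElementaryAbelian p (B.map Z.subtype) := by
    refine ⟨⟨⟨?_⟩⟩, ?_⟩
    · rintro ⟨_, a, ha, rfl⟩ ⟨_, b, hb, rfl⟩
      apply Subtype.ext
      show Z.subtype a * Z.subtype b = Z.subtype b * Z.subtype a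
      rw [← map_mul, ← map_mul]
      congr 1
      exact congrArg Subtype.val (hBc.is_comm.comm ⟨a, ha⟩ ⟨b, hb⟩)
    · rintro _ ⟨a, ha, rfl⟩
      rw [← map_pow, hBexp a ha, map_one]
  refine ⟨B.map Z.subtype, ?_, hBe', ?_⟩
  · rintro _ ⟨x, _, rfl⟩
    exact x.2
  · have hcard : Nat.card (B.map Z.subtype) = Nat.card B :=
      Subgroup.card_map_of_injective (Subgroup.subtype_injective Z)
    have hBp : IsPGroup p (B.map Z.subtype) := by
      rintro ⟨a, ha⟩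
      exact ⟨1, Subtype.ext (by simpa using hBe'.2 a ha)⟩
    obtain ⟨k, hk⟩ := IsPGroup.iff_card.mp hBp
    rw [hk]
    rw [← hcard, hk] at hBcard
    have : 2 < k := (Nat.pow_lt_pow_iff_right hp.out.one_lt).mp hBcard
    exact Nat.pow_le_pow_right hp.out.pos this


/-- a noncyclic `p`-subgroup (`p` odd) has a normal elementary abelian subgroup of order `p ^ 2` -/
theorem exists_normal_sq (p : ℕ) [hp : Fact p.Prime] (hp2 : p ≠ 2) (P : Subgroup G)
    (hP : IsPGroup p P) (hnc : ¬ IsCyclic P) :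
    ∃ Z : Subgroup G, Z ≤ P ∧ P ≤ Subgroup.normalizer (Z : Set G) ∧
      Cfsg.IsElementaryAbelian p Z ∧ Nat.card Z = p ^ 2 := by
  obtain ⟨Z₀, hZn, hZe, hZc⟩ := Cfsg.Agent.Lib.Helper24.nr_main hp2 hP hnc
  refine ⟨Z₀.map P.subtype, ?_, ?_, ⟨⟨⟨?_⟩⟩, ?_⟩, ?_⟩
  · rintro _ ⟨x, _, rfl⟩
    exact x.2
  · intro x hx
    apply Helper18.mem_normalizer_of_conjSub_le
    rintro _ ⟨_, ⟨a, ha, rfl⟩, rfl⟩
    exact ⟨⟨x, hx⟩ * a * ⟨x, hx⟩⁻¹, hZn.conj_mem a ha ⟨x, hx⟩, by simp [MulAut.conj_apply]⟩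
  · rintro ⟨_, a, ha, rfl⟩ ⟨_, b, hb, rfl⟩
    apply Subtype.ext
    show P.subtype a * P.subtype b = P.subtype b * P.subtype a
    rw [← map_mul, ← map_mul]
    congr 1
    exact congrArg Subtype.val (hZe.1.is_comm.comm ⟨a, ha⟩ ⟨b, hb⟩)
  · rintro _ ⟨a, ha, rfl⟩
    rw [← map_pow, hZe.2 a ha, map_one]
  · rw [Subgroup.card_map_of_injective (Subgroup.subtype_injective P)]
    exact hZc

/-- inside a `p`-group, a large elementary abelian subgroup meets the centralizer of a normal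
elementary abelian subgroup of order `p ^ 2` in a subgroup of order at least `p ^ 2` -/
theorem exists_cent_sq (p : ℕ) [hp : Fact p.Prime] (P : Subgroup G) (hP : IsPGroup p P)
    (Z : Subgroup G) (hZP : Z ≤ P) (hPZ : P ≤ Subgroup.normalizer (Z : Set G))
    (hZe : Cfsg.IsElementaryAbelian p Z) (hZc : Nat.card Z = p ^ 2)
    (X : Subgroup G) (hXP : X ≤ P) (hXe : Cfsg.IsElementaryAbelian p X)
    (hX3 : p ^ 3 ≤ Nat.card X) :
    ∃ Y : Subgroup G, Y ≤ X ∧ Y ≤ Subgroup.centralizer (Z : Set G) ∧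
      Cfsg.IsElementaryAbelian p Y ∧ p ^ 2 ≤ Nat.card Y := by
  have hZn : (Z.subgroupOf P).Normal :=
    (Subgroup.normal_subgroupOf_iff_le_normalizer hZP).mpr hPZ
  have hZe' : ∀ b ∈ Z.subgroupOf P, b ^ p = 1 := by
    intro b hb
    apply Subtype.ext
    have := hZe.2 _ (Subgroup.mem_subgroupOf.mp hb)
    simpa using this
  have hZc' : Nat.card (Z.subgroupOf P) = p ^ 2 := by
    rw [Nat.card_congr (Subgroup.subgroupOfEquivOfLe hZP).toEquiv, hZc]
  have hidx := Cfsg.Agent.Lib.Helper21.OmegaCent.normal_sq_relIndex_le hP (Z.subgroupOf P) hZe' hZc'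
    (X.subgroupOf P)
  obtain ⟨C, hC⟩ : ∃ C : Subgroup ↥P, C = Subgroup.centralizer ((Z.subgroupOf P : Subgroup ↥P) : Set ↥P) :=
    ⟨_, rfl⟩
  rw [← hC] at hidx
  have hcard : Nat.card ↥(C ⊓ X.subgroupOf P) * C.relIndex (X.subgroupOf P) =
      Nat.card ↥(X.subgroupOf P) := by
    have h1 := Subgroup.relIndex_mul_relIndex (⊥ : Subgroup ↥P) (C ⊓ X.subgroupOf P)
      (X.subgroupOf P) bot_le inf_le_right
    rw [Subgroup.relIndex_bot_left, Subgroup.relIndex_bot_left, Subgroup.inf_relIndex_right] at h1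
    exact h1
  have hXc' : Nat.card ↥(X.subgroupOf P) = Nat.card X :=
    Nat.card_congr (Subgroup.subgroupOfEquivOfLe hXP).toEquiv
  have hYcard : p ^ 2 ≤ Nat.card ↥(C ⊓ X.subgroupOf P) := by
    by_contra hlt
    push Not at hlt
    have h1 : Nat.card ↥(C ⊓ X.subgroupOf P) * C.relIndex (X.subgroupOf P) < p ^ 2 * p := by
      calc Nat.card ↥(C ⊓ X.subgroupOf P) * C.relIndex (X.subgroupOf P)
          ≤ Nat.card ↥(C ⊓ X.subgroupOf P) * p := Nat.mul_le_mul_left _ hidx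
        _ < p ^ 2 * p := Nat.mul_lt_mul_of_pos_right hlt hp.out.pos
    rw [hcard, hXc'] at h1
    have : p ^ 2 * p = p ^ 3 := by ring
    omega
  refine ⟨(C ⊓ X.subgroupOf P).map P.subtype, ?_, ?_, ⟨⟨⟨?_⟩⟩, ?_⟩, ?_⟩
  · rintro _ ⟨y, hy, rfl⟩
    exact Subgroup.mem_subgroupOf.mp hy.2
  · rintro _ ⟨y, hy, rfl⟩
    rw [Subgroup.mem_centralizer_iff]
    intro z hz
    have h1 : y ∈ C := hy.1
    rw [hC, Subgroup.mem_centralizer_iff] at h1
    have := h1 ⟨z, hZP hz⟩ (by rw [SetLike.mem_coe, Subgroup.mem_subgroupOf]; exact hz)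
    exact congrArg Subtype.val this
  · rintro ⟨_, a, ha, rfl⟩ ⟨_, b, hb, rfl⟩
    apply Subtype.ext
    have haX : (a : G) ∈ X := Subgroup.mem_subgroupOf.mp ha.2
    have hbX : (b : G) ∈ X := Subgroup.mem_subgroupOf.mp hb.2
    have h' := congrArg Subtype.val (hXe.1.is_comm.comm ⟨a, haX⟩ ⟨b, hbX⟩)
    simpa using h'
  · rintro _ ⟨a, ha, rfl⟩
    exact hXe.2 _ (Subgroup.mem_subgroupOf.mp ha.2)
  · rw [Subgroup.card_map_of_injective (Subgroup.subtype_injective P)]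
    exact hYcard

end Cfsg.Agent.Lib.Helper11.BenderF
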