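import Mathlib
import Cfsg.Agent.Lib.Helper11.BenderF

set_option autoImplicit false
open scoped commutatorElement

namespace Cfsg.Agent.Lib.Helper11.BenderG

open Cfsg.Agent.Lib.Helper11 Cfsg.Agent.Lib.Helper11.MaxSubB Cfsg.Agent.Lib.Helper11.MaxSubD
  Cfsg.Agent.Lib.Helper11.BenderD Cfsg.Agent.Lib.Helper11.BenderE Cfsg.Agent.Lib.Helper18
  Cfsg.Agent.Lib.Helper11.BenderF

variable {G : Type*} [Group G] [Finite G]

omit [Finite G] in
theorem centralizer_symm {X Y : Subgroup G} (h : X ≤ Subgroup.centralizer (Y : Set G)) :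
    Y ≤ Subgroup.centralizer (X : Set G) := by
  intro y hy
  rw [Subgroup.mem_centralizer_iff]
  intro x hx
  exact ((Subgroup.mem_centralizer_iff.mp (h hx)) y hy).symm

/-- **B & G, Corollary 9.3** -/
theorem cent_rank3_unique (hG : Cfsg.IsMinSimpleOddOrder G) (p : ℕ) [hp : Fact p.Prime]
    (A B : Subgroup G) (hAp : IsPGroup p A) (hAc : IsMulCommutative A)
    (hA3 : ¬ Cfsg.PRankLE p 2 ↥A) (hAU : Cfsg.InUniqueMaximal A) (hBp : IsPGroup p B)
    (hBnc : ¬ IsCyclic B) (hB3 : ¬ Cfsg.PRankLE p 2 ↥(Subgroup.centralizer (B : Set G))) :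
    Cfsg.InUniqueMaximal B := by
  classical
  have hA1 : A ≠ ⊥ := by
    rintro rfl
    exact bot_not_unique hG hAU
  have hp2 : p ≠ 2 := odd_prime_of_pgroup hG p A hA1 hAp
  -- a large elementary abelian subgroup of `C(B)` and a Sylow subgroup containing it
  obtain ⟨E, hEC, hEe, hE3⟩ := exists_elemAb_of_not_pRankLE p _ hB3
  have hEp : IsPGroup p E := by
    rintro ⟨a, ha⟩
    exact ⟨1, Subtype.ext (by simpa using hEe.2 a ha)⟩
  obtain ⟨P, hEP⟩ := hEp.exists_le_sylow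
  have hPS : IsSylowIn p (P : Subgroup G) ⊤ := isSylowIn_top_of_sylow P
  -- conjugate `A` into `P`
  obtain ⟨x, -, hxA⟩ := hPS.exists_conj_le (le_top : A ≤ ⊤) hAp
  obtain ⟨A', hA'⟩ : ∃ A' : Subgroup G, A' = Helper18.conjSub x A := ⟨_, rfl⟩
  rw [← hA'] at hxA
  have hA'U : Cfsg.InUniqueMaximal A' := hA' ▸ unique_conj x hAU
  obtain ⟨E_A, hE_AA, hE_Ae, hE_A3⟩ := exists_elemAb_of_not_pRankLE p _ hA3
  obtain ⟨E', hE'⟩ : ∃ E' : Subgroup G, E' = Helper18.conjSub x E_A := ⟨_, rfl⟩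
  have hE'A' : E' ≤ A' := by
    rw [hE', hA']
    exact Helper18.conjSub_mono hE_AA
  have hE'e : Cfsg.IsElementaryAbelian p E' := hE' ▸ elemAb_conjSub p x hE_Ae
  have hE'3 : p ^ 3 ≤ Nat.card E' := by
    rw [hE', Helper18.card_conjSub]
    exact hE_A3
  have hA'c : A' ≤ Subgroup.centralizer (A' : Set G) := by
    rw [hA']
    rintro _ ⟨a, ha, rfl⟩
    rw [Subgroup.mem_centralizer_iff]
    rintro _ ⟨b, hb, rfl⟩
    show (MulAut.conj x).toMonoidHom b * (MulAut.conj x).toMonoidHom a =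
      (MulAut.conj x).toMonoidHom a * (MulAut.conj x).toMonoidHom b
    rw [← map_mul, ← map_mul]
    congr 1
    exact congrArg Subtype.val (hAc.is_comm.comm ⟨b, hb⟩ ⟨a, ha⟩)
  -- the normal subgroup `Z` of order `p ^ 2`
  have hPnc : ¬ IsCyclic (P : Subgroup G) := by
    intro hc
    have : IsCyclic E := Subgroup.isCyclic_of_le hEP
    have h2 : p ^ 2 ≤ Nat.card E :=
      (Nat.pow_le_pow_right hp.out.pos (by norm_num)).trans hE3
    exact not_cyclic_of_elemAb p E hEe h2 this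
  obtain ⟨Z, hZP, hPZ, hZe, hZc⟩ := exists_normal_sq p hp2 (P : Subgroup G) P.isPGroup' hPnc
  -- `A' ∩ C(Z)` is a uniqueness subgroup
  obtain ⟨Y₁, hY₁E', hY₁Z, hY₁e, hY₁2⟩ := exists_cent_sq p (P : Subgroup G) P.isPGroup' Z hZP hPZ
    hZe hZc E' (hE'A'.trans hxA) hE'e hE'3
  have hY₁U : Cfsg.InUniqueMaximal Y₁ :=
    cent_unique hG A' Y₁ hA'U ((hY₁E'.trans hE'A').trans hA'c)
      (not_rankLE_of_elemAb p 1 Y₁ Y₁ le_rfl hY₁e hY₁2)
  -- `Z` is a uniqueness subgroup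
  have hZU : Cfsg.InUniqueMaximal Z :=
    cent_unique hG Y₁ Z hY₁U (centralizer_symm hY₁Z)
      (not_rankLE_of_elemAb p 1 Z Z le_rfl hZe (le_of_eq hZc.symm))
  -- `E ∩ C(Z)` is a uniqueness subgroup
  obtain ⟨Y₂, hY₂E, hY₂Z, hY₂e, hY₂2⟩ := exists_cent_sq p (P : Subgroup G) P.isPGroup' Z hZP hPZ
    hZe hZc E hEP hEe hE3
  have hY₂U : Cfsg.InUniqueMaximal Y₂ :=
    cent_unique hG Z Y₂ hZU hY₂Z (not_rankLE_of_elemAb p 1 Y₂ Y₂ le_rfl hY₂e hY₂2)
  -- `B` is a uniqueness subgroup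
  obtain ⟨Z_B, hZ_BB, -, hZ_Be, hZ_Bc⟩ := exists_normal_sq p hp2 B hBp hBnc
  have hBY₂ : B ≤ Subgroup.centralizer (Y₂ : Set G) :=
    (centralizer_symm hEC).trans (Subgroup.centralizer_le (show (Y₂ : Set G) ⊆ E from hY₂E))
  exact cent_unique hG Y₂ B hY₂U hBY₂
    (not_rankLE_of_elemAb p 1 B Z_B hZ_BB hZ_Be (le_of_eq hZ_Bc.symm))

end Cfsg.Agent.Lib.Helper11.BenderG
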