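import Mathlib
import Cfsg.Agent.Lib.Helper11.BenderG

set_option autoImplicit false
open scoped commutatorElement

namespace Cfsg.Agent.Lib.Helper11.BenderH

open Cfsg.Agent.Lib.Helper11 Cfsg.Agent.Lib.Helper11.MaxLocA Cfsg.Agent.Lib.Helper11.MaxLocB
  Cfsg.Agent.Lib.Helper11.MaxSubA Cfsg.Agent.Lib.Helper11.MaxSubB Cfsg.Agent.Lib.Helper11.MaxSubC
  Cfsg.Agent.Lib.Helper11.MaxSubD Cfsg.Agent.Lib.Helper11.MaxSubE
  Cfsg.Agent.Lib.Helper18 Cfsg.Agent.Lib.Helper11.BenderA Cfsg.Agent.Lib.Helper11.BenderB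
  Cfsg.Agent.Lib.Helper11.BenderD Cfsg.Agent.Lib.Helper11.BenderE
  Cfsg.Agent.Lib.Helper11.BenderF Cfsg.Agent.Lib.Helper11.BenderG

variable {G : Type*} [Group G] [Finite G]

/-- if the Fitting subgroup of some maximal subgroup has `p`-rank at least three, then some abelian
`p`-subgroup of rank at least three is a uniqueness subgroup -/
theorem exists_rank3_unique (hG : Cfsg.IsMinSimpleOddOrder G) (M : Subgroup G) (hM : IsCoatom M)
    (p : ℕ) [hp : Fact p.Prime] (hF : ¬ Cfsg.PRankLE p 2 ↥(Cfsg.fittingOf M)) :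
    ∃ A : Subgroup G, IsPGroup p A ∧ IsMulCommutative A ∧ ¬ Cfsg.PRankLE p 2 ↥A ∧
      Cfsg.InUniqueMaximal A := by
  classical
  obtain ⟨A₁, hA₁F, hA₁e, hA₁3⟩ := exists_elemAb_of_not_pRankLE p _ hF
  have hfin : {B : Subgroup G | B ≤ Cfsg.fittingOf M ∧ Cfsg.IsElementaryAbelian p B}.Finite :=
    Set.toFinite _
  obtain ⟨A₀, hA₁A₀, hA₀⟩ := hfin.exists_le_maximal (a := A₁) ⟨hA₁F, hA₁e⟩
  have hA₀F : A₀ ≤ Cfsg.fittingOf M := hA₀.prop.1
  have hA₀e : Cfsg.IsElementaryAbelian p A₀ := hA₀.prop.2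
  have hA₀3 : p ^ 3 ≤ Nat.card A₀ :=
    hA₁3.trans (Nat.card_mono (Set.toFinite _) hA₁A₀)
  have hA₀max : ∀ B : Subgroup G, B ≤ Cfsg.fittingOf M → Cfsg.IsElementaryAbelian p B →
      A₀ ≤ B → B = A₀ := fun B hBF hBe hAB => le_antisymm (hA₀.le_of_ge ⟨hBF, hBe⟩ hAB) hAB
  obtain ⟨ha, hb⟩ := Cfsg.Agent.S1397.result hG M hM p A₀ hA₀F hA₀e hA₀3 hA₀max
  have hA₀p : IsPGroup p A₀ := by
    rintro ⟨a, ha⟩
    exact ⟨1, Subtype.ext (by simpa using hA₀e.2 a ha)⟩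
  by_cases hFp : IsPGroup p ↥(Cfsg.fittingOf M)
  · obtain ⟨P⟩ : Nonempty (Sylow p M) := inferInstance
    obtain ⟨-, h2⟩ := hb hFp P
    have hPS : IsSylowIn p ((P : Subgroup M).map M.subtype) M := isSylowIn_of_sylow P
    have hFP := fitting_le_sylow M p hFp _ hPS
    have hrP : ¬ Cfsg.PRankLE p 2 ↥((P : Subgroup M).map M.subtype) :=
      not_pRankLE_of_le p A₁ _ (hA₁F.trans hFP) hA₁e hA₁3
    have hA₁1 : A₁ ≠ ⊥ := by
      rintro rfl
      rw [Subgroup.card_bot] at hA₁3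
      have : 1 < p ^ 3 := Nat.one_lt_pow (by norm_num) hp.out.one_lt
      omega
    have hA₁p : IsPGroup p A₁ := by
      rintro ⟨a, ha⟩
      exact ⟨1, Subtype.ext (by simpa using hA₁e.2 a ha)⟩
    have hp2 : p ≠ 2 := odd_prime_of_pgroup hG p A₁ hA₁1 hA₁p
    obtain ⟨A, hAscn, hAr⟩ := exists_scn3 p hp2 _ hPS.isPGroup hrP
    obtain ⟨-, hAU⟩ := h2 A hAscn hAr
    refine ⟨A, hPS.isPGroup.to_le hAscn.1, ?_, hAr, hAU⟩
    refine ⟨⟨fun a b => ?_⟩⟩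
    apply Subtype.ext
    have hb' : (b : G) ∈ Subgroup.centralizer (A : Set G) := by
      have : (b : G) ∈ ((P : Subgroup M).map M.subtype) ⊓ Subgroup.centralizer (A : Set G) := by
        rw [hAscn.2.2]; exact b.2
      exact (Subgroup.mem_inf.mp this).2
    exact Subgroup.mem_centralizer_iff.mp hb' a a.2
  · have hU := ha hFp
    have hcent : A₀ ≤ Subgroup.centralizer
        ((Cfsg.fittingOf M ⊓ Subgroup.centralizer (A₀ : Set G) : Subgroup G) : Set G) :=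
      centralizer_symm inf_le_right
    have hA₀U := cent_unique hG _ A₀ hU hcent
      (not_rankLE_of_elemAb p 1 A₀ A₀ le_rfl hA₀e
        ((Nat.pow_le_pow_right hp.out.pos (by norm_num)).trans hA₀3))
    exact ⟨A₀, hA₀p, hA₀e.1, not_pRankLE_of_le p A₀ A₀ le_rfl hA₀e hA₀3, hA₀U⟩

/-- **B & G, Lemma 9.4** -/
theorem rank3_fitting_unique (hG : Cfsg.IsMinSimpleOddOrder G) (M : Subgroup G) (hM : IsCoatom M)
    (p : ℕ) [hp : Fact p.Prime] (hF : ¬ Cfsg.PRankLE p 2 ↥(Cfsg.fittingOf M))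
    (A : Subgroup G) (hAp : IsPGroup p A) (hAc : IsMulCommutative A)
    (hA3 : ¬ Cfsg.PRankLE p 2 ↥A) : Cfsg.InUniqueMaximal A := by
  obtain ⟨A', hA'p, hA'c, hA'3, hA'U⟩ := exists_rank3_unique hG M hM p hF
  obtain ⟨E, hEA, hEe, hE3⟩ := exists_elemAb_of_not_pRankLE p _ hA3
  have hE2 : p ^ 2 ≤ Nat.card E := (Nat.pow_le_pow_right hp.out.pos (by norm_num)).trans hE3
  have hAnc : ¬ IsCyclic A := by
    intro hc
    have : IsCyclic E := Subgroup.isCyclic_of_le hEA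
    exact not_cyclic_of_elemAb p E hEe hE2 this
  have hAcent : A ≤ Subgroup.centralizer (A : Set G) := by
    intro a ha
    rw [Subgroup.mem_centralizer_iff]
    intro b hb
    exact congrArg Subtype.val (hAc.is_comm.comm ⟨b, hb⟩ ⟨a, ha⟩)
  have hC3 : ¬ Cfsg.PRankLE p 2 ↥(Subgroup.centralizer (A : Set G)) :=
    not_pRankLE_of_le p E _ (hEA.trans hAcent) hEe hE3
  exact cent_rank3_unique hG p A' A hA'p hA'c hA'3 hA'U hAp hAnc hC3

end Cfsg.Agent.Lib.Helper11.BenderH
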