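import Mathlib
import Cfsg.Agent.Lib.Helper11.BenderH
import Cfsg.Agent.Lib.Helper11.ThompsonTransOdd
import Cfsg.Agent.Lib.Helper11.TransOvergroup
import Cfsg.Agent.S1451

set_option autoImplicit false
open scoped commutatorElement

namespace Cfsg.Agent.Lib.Helper11.BenderI

open Cfsg.Agent.Lib.Helper11 Cfsg.Agent.Lib.Helper11.MaxLocA Cfsg.Agent.Lib.Helper11.MaxLocB
  Cfsg.Agent.Lib.Helper11.MaxSubA Cfsg.Agent.Lib.Helper11.MaxSubB Cfsg.Agent.Lib.Helper11.MaxSubC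
  Cfsg.Agent.Lib.Helper11.MaxSubD Cfsg.Agent.Lib.Helper11.MaxSubE
  Cfsg.Agent.Lib.Helper18 Cfsg.Agent.Lib.Helper11.BenderA Cfsg.Agent.Lib.Helper11.BenderB
  Cfsg.Agent.Lib.Helper11.BenderD Cfsg.Agent.Lib.Helper11.BenderE
  Cfsg.Agent.Lib.Helper11.BenderF Cfsg.Agent.Lib.Helper11.BenderG
  Cfsg.Agent.Lib.Helper11.BenderH

variable {G : Type*} [Group G] [Finite G]

/-- the transitivity statement used below, for a fixed prime `q` -/
def TransAt (A : Subgroup G) (q : ℕ) : Prop :=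
  ∀ Q₁ Q₂ : Subgroup G, IsMaxInv A q Q₁ → IsMaxInv A q Q₂ →
    ∃ c ∈ Subgroup.centralizer (A : Set G), Q₂ = Helper11.conjSub c Q₁

omit [Finite G] in
theorem scn_comm {P A : Subgroup G} (hA : Cfsg.IsSCN P A) :
    ∀ a ∈ A, ∀ b ∈ A, a * b = b * a := by
  intro a ha b hb
  have hb' : b ∈ P ⊓ Subgroup.centralizer (A : Set G) := by rw [hA.2.2]; exact hb
  exact (Subgroup.mem_centralizer_iff.mp (Subgroup.mem_inf.mp hb').2 a ha)

/-- **Thompson transitivity** for self-centralizing normal subgroups of rank at least three of a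
Sylow subgroup of a minimal simple group of odd order -/
theorem scn_trans (hG : Cfsg.IsMinSimpleOddOrder G) (p : ℕ) [hp : Fact p.Prime] (P : Sylow p G)
    (A : Subgroup G) (hA : Cfsg.IsSCN (P : Subgroup G) A) (hA3 : ¬ Cfsg.PRankLE p 2 ↥A)
    (q : ℕ) [hq : Fact q.Prime] (hqp : q ≠ p) : TransAt A q := by
  intro Q₁ Q₂ h₁ h₂
  obtain ⟨A₀, hA₀A, hA₀e, hA₀3⟩ := exists_elemAb_of_not_pRankLE p A hA3
  have hAp : IsPGroup p A := P.isPGroup'.to_le hA.1
  have hA1 : A ≠ ⊥ := by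
    rintro rfl
    have h1 : Nat.card A₀ ≤ 1 := by
      have := Nat.card_mono (Set.toFinite _) hA₀A
      simpa using this
    have : 1 < p ^ 3 := Nat.one_lt_pow (by norm_num) hp.out.one_lt
    omega
  have hp2 : p ≠ 2 := odd_prime_of_pgroup hG p A hA1 hAp
  have hloc : ∀ T : Subgroup G, IsPGroup p T → T ≠ ⊥ →
      Cfsg.IsPConstrained p ↥(Subgroup.normalizer (T : Set G)) := by
    intro T hT hT1
    have hTtop : T ≠ ⊤ := pgroup_ne_top hG p T hT
    have hsimple : IsSimpleGroup G := hG.2.1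
    have hne : Subgroup.normalizer (T : Set G) ≠ ⊤ := normalizer_ne_top_of_simple hT1 hTtop
    have : Group.IsSolvable ↥(Subgroup.normalizer (T : Set G)) := hG.2.2.2 _ hne
    exact isPConstrained_of_isSolvable p
  obtain ⟨c, hc, hcQ⟩ := thompson_transitivity_core p hloc (fun h => absurd h hp2) A hAp
    (scn_comm hA) (scn_full p P A hA.2.1 hA.2.2) A₀ hA₀A hA₀e hA₀3 q hqp Q₁ Q₂ h₁ h₂
  refine ⟨c, ?_, hcQ⟩
  have hCE : Cfsg.piCoreOf (Cfsg.primesNotDvd p) (Subgroup.centralizer (A : Set G)) ≤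
      Subgroup.centralizer (A : Set G) := by
    unfold Cfsg.piCoreOf
    exact Subgroup.map_subtype_le _
  exact hCE hc


omit [Finite G] in
theorem conjSub_eq (c : G) (H : Subgroup G) : Helper11.conjSub c H = Helper18.conjSub c H := rfl

/-- a Sylow subgroup of `G` normalized by `A` is a maximal `A`-invariant subgroup -/
theorem maxInv_of_sylow (A : Subgroup G) (q : ℕ) [Fact q.Prime] (Q : Subgroup G)
    (hQ : IsSylowIn q Q ⊤) (hAQ : A ≤ Subgroup.normalizer (Q : Set G)) : IsMaxInv A q Q :=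
  ⟨hQ.isPGroup, hAQ, fun _ hR _ hle => hQ.eq_of_le le_top hR hle⟩

theorem sylow_top_conj (q : ℕ) (Q : Subgroup G) (hQ : IsSylowIn q Q ⊤) (y : G) :
    IsSylowIn q (Helper18.conjSub y Q) ⊤ := by
  have h := hQ.conjSub y
  have e : Helper18.conjSub y (⊤ : Subgroup G) = ⊤ := by
    rw [eq_top_iff]
    intro x _
    rw [Helper18.mem_conjSub]
    exact Subgroup.mem_top _
  rwa [e] at h

/-- if a conjugate of `Q` by `y` equals the conjugate by `c`, then `c⁻¹ * y` normalizes `Q` -/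
theorem mem_normalizer_of_conj_eq {y c : G} {Q : Subgroup G}
    (h : Helper18.conjSub y Q = Helper18.conjSub c Q) :
    c⁻¹ * y ∈ Subgroup.normalizer (Q : Set G) := by
  apply mem_normalizer_of_conjSub_le
  rw [← Helper18.conjSub_mul, h, Helper18.conjSub_mul]
  simp [Helper18.conjSub_one]

/-- the Sylow case of the normalizer lemma -/
theorem normalizer_le_of_sylow (M : Subgroup G) (A : Subgroup G)
    (hCM : Subgroup.centralizer (A : Set G) ≤ M) (q : ℕ) [Fact q.Prime] (htr : TransAt A q)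
    (Q₀ : Subgroup G) (hQ₀ : IsSylowIn q Q₀ ⊤) (hNM : Subgroup.normalizer (Q₀ : Set G) ≤ M)
    (R : Subgroup G) (hAR : A ≤ R) (hRQ : R ≤ Subgroup.normalizer (Q₀ : Set G)) :
    Subgroup.normalizer (R : Set G) ≤ M := by
  intro y hy
  have h1 : IsMaxInv A q Q₀ := maxInv_of_sylow A q Q₀ hQ₀ (hAR.trans hRQ)
  have h2 : IsMaxInv A q (Helper11.conjSub y Q₀) :=
    maxInv_of_sylow A q _ (sylow_top_conj q Q₀ hQ₀ y)
      (hAR.trans (le_normalizer_conjSub_of_normalizer hRQ hy))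
  obtain ⟨c, hc, hcQ⟩ := htr Q₀ _ h1 h2
  have h3 := mem_normalizer_of_conj_eq (y := y) (c := c) (Q := Q₀) hcQ
  have h4 : c⁻¹ * y ∈ M := hNM h3
  have h5 : c * (c⁻¹ * y) ∈ M := M.mul_mem (hCM hc) h4
  simpa using h5

/-- the uniqueness case of the normalizer lemma -/
theorem normalizer_le_of_unique (hG : Cfsg.IsMinSimpleOddOrder G) (M : Subgroup G)
    (hM : IsCoatom M) (A : Subgroup G)
    (hCM : Subgroup.centralizer (A : Set G) ≤ M) (q : ℕ) [Fact q.Prime] (htr : TransAt A q)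
    (Q₀ : Subgroup G) (hQ₀ : IsPGroup q Q₀) (E : Subgroup G) (hEQ : E ≤ Q₀) (hEM : E ≤ M)
    (hE : ∀ L : Subgroup G, IsCoatom L → E ≤ L → L = M)
    (R : Subgroup G) (hAR : A ≤ R) (hRQ : R ≤ Subgroup.normalizer (Q₀ : Set G)) :
    Subgroup.normalizer (R : Set G) ≤ M := by
  intro y hy
  obtain ⟨Q₁, hQ₁, hQ₀Q₁⟩ := exists_isMaxInv_ge A q Q₀ hQ₀ (hAR.trans hRQ)
  obtain ⟨Q₂, hQ₂, hyQ₂⟩ := exists_isMaxInv_ge A q (Helper11.conjSub y Q₀)
    (isPGroup_conjSub hQ₀ y) (hAR.trans (le_normalizer_conjSub_of_normalizer hRQ hy))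
  obtain ⟨c, hc, hcQ⟩ := htr Q₁ Q₂ hQ₁ hQ₂
  have hQ₁M : Q₁ ≤ M :=
    le_of_unique hM hEM hE Q₁ (pgroup_ne_top hG q Q₁ hQ₁.1) (hEQ.trans hQ₀Q₁)
  have hQ₂M : Q₂ ≤ M := by
    rw [hcQ]
    exact Helper18.conjSub_le_of_mem hQ₁M (hCM hc)
  have hyE : Helper18.conjSub y E ≤ M := (Helper18.conjSub_mono hEQ).trans (hyQ₂.trans hQ₂M)
  have hyM : Helper18.conjSub y M = M := by
    have h1 : E ≤ Helper18.conjSub y⁻¹ M := Helper18.conjSub_le_iff.mp hyE
    have h2 := hE _ (isCoatom_conjSub y⁻¹ hM) h1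
    have h3 : Helper18.conjSub y (Helper18.conjSub y⁻¹ M) = Helper18.conjSub y M := by rw [h2]
    rw [Helper18.conjSub_mul] at h3
    simpa [Helper18.conjSub_one] using h3.symm
  have hN : Subgroup.normalizer (M : Set G) = M := by
    have hM1 : M ≠ ⊥ := by
      rintro rfl
      exact bot_not_unique hG ⟨⊥, ⟨hM, bot_le⟩, fun L hL => by
        have := hE L hL.1 (hEM.trans bot_le); exact this⟩
    exact normalizer_eq_of_coatom hG M hM M hM1 hM.1 Subgroup.le_normalizer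
  rw [← hN]
  exact mem_normalizer_of_conjSub_le hyM.le


/-- an odd-order solvable subgroup with Fitting subgroup of rank at most two has a nontrivial
normal Sylow subgroup (for its largest prime divisor) -/
theorem exists_normal_sylow_max (M : Subgroup G) (hMs : Group.IsSolvable M)
    (hModd : Odd (Nat.card M)) (hr : Cfsg.RankLE 2 ↥(Cfsg.fittingOf M)) (hM1 : M ≠ ⊥) :
    ∃ q : ℕ, q.Prime ∧ ∃ Q₀ : Subgroup G, IsSylowIn q Q₀ M ∧ Q₀ ≠ ⊥ ∧
      M ≤ Subgroup.normalizer (Q₀ : Set G) ∧ Q₀ ≤ Cfsg.fittingOf M := by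
  classical
  have hr' : Cfsg.RankLE 2 ↥(Cfsg.fittingSubgroup ↥M) := by
    intro q hq
    have h1 := hr q hq
    unfold Cfsg.fittingOf at h1
    exact (Cfsg.Agent.Lib.Helper9.pRankLE_map_iff M.subtype (Subgroup.subtype_injective M) _).mp h1
  have htower := (Cfsg.Agent.S1451.result (G := ↥M) hModd (Or.inr hr')).2.2
  have hcard1 : 1 < Nat.card M := by
    have : Nontrivial M := (Subgroup.nontrivial_iff_ne_bot M).mpr hM1
    exact Finite.one_lt_card
  have hne : (Nat.card M).primeFactors.Nonempty := by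
    rw [Nat.nonempty_primeFactors]
    exact hcard1
  obtain ⟨q₀, hq₀def⟩ : ∃ q₀, q₀ = (Nat.card M).primeFactors.max' hne := ⟨_, rfl⟩
  have hq₀mem : q₀ ∈ (Nat.card M).primeFactors := hq₀def ▸ Finset.max'_mem _ hne
  have hq₀p : q₀.Prime := Nat.prime_of_mem_primeFactors hq₀mem
  have hq₀d : q₀ ∣ Nat.card M := Nat.dvd_of_mem_primeFactors hq₀mem
  have hq₀max : ∀ r : ℕ, r.Prime → r ∣ Nat.card M → r ≤ q₀ := by
    intro r hr hrd
    rw [hq₀def]
    apply Finset.le_max'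
    exact Nat.mem_primeFactors.mpr ⟨hr, hrd, Nat.card_pos.ne'⟩
  have : Fact q₀.Prime := ⟨hq₀p⟩
  obtain ⟨Nh, hNchar, hNhall⟩ := htower (q₀ - 1)
  have hNp : IsPGroup q₀ Nh := by
    apply IsPGroup.of_card (n := (Nat.card Nh).primeFactorsList.length)
    apply Nat.eq_prime_pow_of_unique_prime_dvd Nat.card_pos.ne'
    intro d hd hdd
    have h1 := hNhall.1 d hd hdd
    have h2 : q₀ - 1 < d := h1.2
    have h3 : d ≤ q₀ := hq₀max d hd (hdd.trans (Subgroup.card_subgroup_dvd_card Nh))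
    omega
  have hNidx : ¬ q₀ ∣ Nh.index := by
    apply hNhall.2 q₀ hq₀p
    exact ⟨hq₀p, by have := hq₀p.pos; omega⟩
  have hNnorm : Nh.Normal := inferInstance
  refine ⟨q₀, hq₀p, Nh.map M.subtype, ⟨?_, hNp.map _, ?_⟩, ?_, ?_, ?_⟩
  · rintro _ ⟨y, _, rfl⟩; exact y.2
  · have h1 : (Nh.map M.subtype).subgroupOf M = Nh := by
      ext x
      simp [Subgroup.mem_subgroupOf]
    unfold Subgroup.relIndex
    rw [h1]
    exact hNidx
  · intro h
    have h1 : Nh = ⊥ := by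
      rw [eq_bot_iff]
      intro x hx
      have : (x : G) ∈ Nh.map M.subtype := ⟨x, hx, rfl⟩
      rw [h] at this
      rw [Subgroup.mem_bot] at this ⊢
      exact Subtype.ext this
    have h2 : Nat.card M = Nat.card Nh * Nh.index := (Subgroup.card_mul_index Nh).symm
    rw [h1, Subgroup.card_bot, one_mul] at h2
    rw [h2] at hq₀d
    exact hNidx (h1 ▸ hq₀d)
  · intro m hm
    apply mem_normalizer_of_conjSub_le
    rintro _ ⟨_, ⟨y, hy, rfl⟩, rfl⟩
    refine ⟨⟨m, hm⟩ * y * ⟨m, hm⟩⁻¹, hNnorm.conj_mem y hy _, ?_⟩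
    simp [MulAut.conj_apply]
  · have hnil : Group.IsNilpotent Nh := hNp.isNilpotent
    have h1 : Nh ≤ Cfsg.fittingSubgroup ↥M := Cfsg.Agent.Lib.Helper1.le_fittingSubgroup hNnorm hnil
    unfold Cfsg.fittingOf
    exact Subgroup.map_mono h1

/-- **the normalizer lemma**: a maximal subgroup `M` containing `C_G(A)` contains the normalizer
of every subgroup of `M` containing `A` -/
theorem normalizer_le (hG : Cfsg.IsMinSimpleOddOrder G) (p : ℕ) [hp : Fact p.Prime] (P : Sylow p G)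
    (A : Subgroup G) (hA : Cfsg.IsSCN (P : Subgroup G) A) (hA3 : ¬ Cfsg.PRankLE p 2 ↥A)
    (M : Subgroup G) (hM : IsCoatom M) (hCM : Subgroup.centralizer (A : Set G) ≤ M)
    (hF : Cfsg.PRankLE p 2 ↥(Cfsg.fittingOf M))
    (R : Subgroup G) (hAR : A ≤ R) (hRM : R ≤ M) : Subgroup.normalizer (R : Set G) ≤ M := by
  obtain ⟨A₀, hA₀A, hA₀e, hA₀3⟩ := exists_elemAb_of_not_pRankLE p A hA3
  have hAp : IsPGroup p A := P.isPGroup'.to_le hA.1
  have hAcent : A ≤ Subgroup.centralizer (A : Set G) := by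
    intro a ha
    rw [Subgroup.mem_centralizer_iff]
    intro b hb
    exact scn_comm hA b hb a ha
  have hAM : A ≤ M := hAcent.trans hCM
  have hA1 : A ≠ ⊥ := by
    rintro rfl
    have h1 : Nat.card A₀ ≤ 1 := by
      have := Nat.card_mono (Set.toFinite _) hA₀A
      simpa using this
    have : 1 < p ^ 3 := Nat.one_lt_pow (by norm_num) hp.out.one_lt
    omega
  have hM1 : M ≠ ⊥ := by
    rintro rfl
    exact hA1 (eq_bot_iff.mpr hAM)
  by_cases hr : Cfsg.RankLE 2 ↥(Cfsg.fittingOf M)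
  · obtain ⟨q, hq, Q₀, hQ₀, hQ₀1, hMQ₀, hQ₀F⟩ :=
      exists_normal_sylow_max M (coatom_solvable hG M hM) (coatom_odd hG M) hr hM1
    have : Fact q.Prime := ⟨hq⟩
    have hQ₀top : Q₀ ≠ ⊤ := by
      rintro rfl
      exact hM.1 (eq_top_iff.mpr hQ₀.le)
    have hN : Subgroup.normalizer (Q₀ : Set G) = M :=
      normalizer_eq_of_coatom hG M hM Q₀ hQ₀1 hQ₀top hMQ₀
    have hqp : q ≠ p := by
      rintro rfl
      obtain ⟨x, hx, hle⟩ := hQ₀.exists_conj_le hAM hAp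
      have h1 : A ≤ Helper18.conjSub x⁻¹ Q₀ := Helper18.conjSub_le_iff.mp hle
      rw [Helper18.conjSub_eq_of_mem_normalizer (hMQ₀ (M.inv_mem hx))] at h1
      exact not_pRankLE_of_le q A₀ _ (hA₀A.trans (h1.trans hQ₀F)) hA₀e hA₀3 hF
    have hQ₀G : IsSylowIn q Q₀ ⊤ := by
      apply sylow_of_normalizer q Q₀ ⊤ le_top hQ₀.isPGroup
      intro y _ hyN hyq
      by_contra hyQ
      obtain ⟨h1, h2⟩ := sup_zpowers q Q₀ hQ₀.isPGroup y hyN hyQ hyq
      have h3 : Q₀ ⊔ Subgroup.zpowers y ≤ M :=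
        sup_le hQ₀.le (by rw [Subgroup.zpowers_le, ← hN]; exact hyN)
      exact h2.ne (hQ₀.eq_of_le h3 h1 le_sup_left).symm
    exact normalizer_le_of_sylow M A hCM q (scn_trans hG p P A hA hA3 q hqp) Q₀ hQ₀G hN.le R hAR
      (hRM.trans hMQ₀)
  · obtain ⟨q, hq, A₁, hA₁F, hA₁e, hA₁3⟩ := exists_elemAb_of_not_rankLE (Cfsg.fittingOf M) 2 hr
    have : Fact q.Prime := ⟨hq⟩
    have hqp : q ≠ p := by
      rintro rfl
      exact not_pRankLE_of_le q A₁ _ hA₁F hA₁e hA₁3 hF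
    have hA₁p : IsPGroup q A₁ := by
      rintro ⟨a, ha⟩
      exact ⟨1, Subtype.ext (by simpa using hA₁e.2 a ha)⟩
    have hA₁Q : A₁ ≤ fP M q := by
      intro a ha
      exact ⟨hA₁F ha, 1, by simpa using hA₁e.2 a ha⟩
    have hA₁U : Cfsg.InUniqueMaximal A₁ :=
      rank3_fitting_unique hG M hM q (not_pRankLE_of_le q A₁ _ hA₁F hA₁e hA₁3) A₁ hA₁p hA₁e.1
        (not_pRankLE_of_le q A₁ A₁ le_rfl hA₁e hA₁3)
    have hA₁M : A₁ ≤ M := hA₁F.trans (fittingOf_le M)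
    have hE : ∀ L : Subgroup G, IsCoatom L → A₁ ≤ L → L = M := by
      obtain ⟨M', -, huniq⟩ := hA₁U
      intro L hL hAL
      rw [huniq L ⟨hL, hAL⟩, huniq M ⟨hM, hA₁M⟩]
    exact normalizer_le_of_unique hG M hM A hCM q (scn_trans hG p P A hA hA3 q hqp) (fP M q)
      (fP_isPGroup M q) A₁ hA₁Q hA₁M hE R hAR (hRM.trans (le_normalizer_fP M q))


/-- under the hypotheses of the normalizer lemma, `M` contains the Sylow subgroup `P` and its
normalizer -/
theorem sylow_le (hG : Cfsg.IsMinSimpleOddOrder G) (p : ℕ) [hp : Fact p.Prime] (P : Sylow p G)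
    (A : Subgroup G) (hA : Cfsg.IsSCN (P : Subgroup G) A) (hA3 : ¬ Cfsg.PRankLE p 2 ↥A)
    (M : Subgroup G) (hM : IsCoatom M) (hCM : Subgroup.centralizer (A : Set G) ≤ M)
    (hF : Cfsg.PRankLE p 2 ↥(Cfsg.fittingOf M)) :
    (P : Subgroup G) ≤ M ∧ Subgroup.normalizer ((P : Subgroup G) : Set G) ≤ M := by
  have hAcent : A ≤ Subgroup.centralizer (A : Set G) := by
    intro a ha
    rw [Subgroup.mem_centralizer_iff]
    intro b hb
    exact scn_comm hA b hb a ha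
  have hAM : A ≤ M := hAcent.trans hCM
  have hPM : (P : Subgroup G) ≤ M := by
    by_contra hcon
    have hlt : (P : Subgroup G) ⊓ M < (P : Subgroup G) := by
      apply lt_of_le_of_ne inf_le_left
      intro h
      exact hcon (inf_eq_left.mp h)
    obtain ⟨y, hyP, hyR, hyN⟩ := pgroup_grow p _ _ P.isPGroup' hlt
    apply hyR
    refine Subgroup.mem_inf.mpr ⟨hyP, ?_⟩
    exact normalizer_le hG p P A hA hA3 M hM hCM hF _ (le_inf hA.1 hAM) inf_le_right hyN
  exact ⟨hPM, normalizer_le hG p P A hA hA3 M hM hCM hF _ hA.1 hPM⟩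

end Cfsg.Agent.Lib.Helper11.BenderI
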