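import Mathlib
import Cfsg.Agent.Lib.Helper11.BenderI
import Cfsg.Agent.Lib.Helper11.AutRankTwo

set_option autoImplicit false
open scoped commutatorElement

namespace Cfsg.Agent.Lib.Helper11.BenderJ

open Cfsg.Agent.Lib.Helper11 Cfsg.Agent.Lib.Helper11.MaxLocA Cfsg.Agent.Lib.Helper11.MaxLocB
  Cfsg.Agent.Lib.Helper11.MaxSubA Cfsg.Agent.Lib.Helper11.MaxSubB Cfsg.Agent.Lib.Helper11.MaxSubC
  Cfsg.Agent.Lib.Helper11.MaxSubD Cfsg.Agent.Lib.Helper11.MaxSubE
  Cfsg.Agent.Lib.Helper18 Cfsg.Agent.Lib.Helper11.BenderE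

variable {G : Type*} [Group G] [Finite G]

/-- **Burnside's transfer theorem, focal form**: in a minimal simple group of odd order a nontrivial
Sylow subgroup `P` meets the derived subgroup of its normalizer nontrivially -/
theorem focal_ne_bot (hG : Cfsg.IsMinSimpleOddOrder G) (p : ℕ) [hp : Fact p.Prime] (P : Sylow p G)
    (hP1 : (P : Subgroup G) ≠ ⊥) :
    (P : Subgroup G) ⊓ ⁅Subgroup.normalizer ((P : Subgroup G) : Set G),
      Subgroup.normalizer ((P : Subgroup G) : Set G)⁆ ≠ ⊥ := by
  intro hbot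
  have hNC : Subgroup.normalizer ((P : Subgroup G) : Set G) ≤
      Subgroup.centralizer ((P : Subgroup G) : Set G) := by
    intro n hn
    rw [Subgroup.mem_centralizer_iff]
    intro g hg
    have h1 : ⁅n, g⁆ ∈ (P : Subgroup G) := by
      rw [commutatorElement_def]
      have h2 : n * g * n⁻¹ ∈ (P : Subgroup G) := (Subgroup.mem_normalizer_iff.mp hn g).mp hg
      have h3 := (P : Subgroup G).mul_mem h2 ((P : Subgroup G).inv_mem hg)
      exact h3
    have h2 : ⁅n, g⁆ ∈ ⁅Subgroup.normalizer ((P : Subgroup G) : Set G),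
        Subgroup.normalizer ((P : Subgroup G) : Set G)⁆ :=
      Subgroup.commutator_mem_commutator hn (Subgroup.le_normalizer hg)
    have h3 : ⁅n, g⁆ ∈ (⊥ : Subgroup G) := hbot ▸ Subgroup.mem_inf.mpr ⟨h1, h2⟩
    rw [Subgroup.mem_bot, commutatorElement_eq_one_iff_mul_comm] at h3
    exact h3.symm
  have hcompl := MonoidHom.ker_transferSylow_isComplement' P hNC
  have hsimple : IsSimpleGroup G := hG.2.1
  have hnorm : (MonoidHom.transferSylow P hNC).ker.Normal := inferInstance
  rcases hnorm.eq_bot_or_eq_top with h | h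
  · rw [h] at hcompl
    have h1 : (P : Subgroup G) = ⊤ := by
      have := hcompl.card_mul_card
      rw [Subgroup.card_bot, one_mul] at this
      exact Subgroup.card_eq_iff_eq_top _ |>.mp this
    exact pgroup_ne_top hG p P P.isPGroup' h1
  · rw [h] at hcompl
    apply hP1
    have := hcompl.card_mul_card
    rw [Subgroup.card_top] at this
    have h2 : Nat.card (P : Subgroup G) = 1 := by
      have hpos : 0 < Nat.card G := Nat.card_pos
      exact Nat.eq_of_mul_eq_mul_left hpos (by rw [this, mul_one])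
    exact Subgroup.card_eq_one.mp h2


/-- elements of order prime to `s` in the derived subgroup of an odd-order solvable group `N`
normalizing an `s`-group `X` of rank at most two centralize `X` -/
theorem der_centralizes_rank2 (s : ℕ) [Fact s.Prime] (hs2 : s ≠ 2) (X N : Subgroup G)
    (hXs : IsPGroup s X) (hXr : Cfsg.PRankLE s 2 ↥X)
    (hNX : N ≤ Subgroup.normalizer (X : Set G))
    (hNs : Group.IsSolvable N) (hNodd : Odd (Nat.card N)) (g : G) (hg : g ∈ ⁅N, N⁆) (m : ℕ)
    (hgm : g ^ m = 1) (hsm : ¬ s ∣ m) : g ∈ Subgroup.centralizer (X : Set G) := by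
  rw [← Subgroup.map_subtype_commutator] at hg
  obtain ⟨g', hg', rfl⟩ := hg
  have h1 := Cfsg.Agent.Lib.Helper11.AutRankTwo.der_coprime_trivial_rank_two s hs2 hXs hXr hNodd
    (X.normalizerMonoidHom.comp (Subgroup.inclusion hNX)) g' hg' m
    (Subtype.ext (by simpa using hgm)) hsm
  rw [Subgroup.mem_centralizer_iff]
  intro x hx
  have h2 := DFunLike.congr_fun h1 (⟨x, hx⟩ : ↥X)
  have h3 := congrArg Subtype.val h2
  simp only [MonoidHom.coe_comp, Function.comp_apply, Subgroup.normalizerMonoidHom_apply_apply_coe,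
    Subgroup.coe_inclusion, MulAut.one_apply] at h3
  have h4 : (N.subtype g') * x = x * (N.subtype g') := by
    calc (N.subtype g') * x = ((N.subtype g') * x * (N.subtype g')⁻¹) * (N.subtype g') := by group
      _ = x * (N.subtype g') := by rw [Subgroup.subtype_apply, h3]
  exact h4.symm

end Cfsg.Agent.Lib.Helper11.BenderJ
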