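import Mathlib
import Cfsg.Agent.Lib.Helper11.BenderJ
import Cfsg.Agent.S1324
import Cfsg.Agent.S1398

set_option autoImplicit false
open scoped commutatorElement

namespace Cfsg.Agent.Lib.Helper11.BenderK

open Cfsg.Agent.Lib.Helper11 Cfsg.Agent.Lib.Helper11.MaxLocA Cfsg.Agent.Lib.Helper11.MaxLocB
  Cfsg.Agent.Lib.Helper11.MaxSubA Cfsg.Agent.Lib.Helper11.MaxSubB Cfsg.Agent.Lib.Helper11.MaxSubC
  Cfsg.Agent.Lib.Helper11.MaxSubD Cfsg.Agent.Lib.Helper11.MaxSubE
  Cfsg.Agent.Lib.Helper18 Cfsg.Agent.Lib.Helper11.BenderA Cfsg.Agent.Lib.Helper11.BenderB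
  Cfsg.Agent.Lib.Helper11.BenderD Cfsg.Agent.Lib.Helper11.BenderE
  Cfsg.Agent.Lib.Helper11.BenderF Cfsg.Agent.Lib.Helper11.BenderG
  Cfsg.Agent.Lib.Helper11.BenderH Cfsg.Agent.Lib.Helper11.BenderI
  Cfsg.Agent.Lib.Helper11.BenderJ

variable {G : Type*} [Group G] [Finite G]

/-- the focal subgroup `P ∩ N_G(P)'` -/
def focal (P : Subgroup G) : Subgroup G :=
  P ⊓ ⁅Subgroup.normalizer (P : Set G), Subgroup.normalizer (P : Set G)⁆

omit [Finite G] in
theorem focal_le (P : Subgroup G) : focal P ≤ P := inf_le_left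

omit [Finite G] in
theorem le_normalizer_focal (P : Subgroup G) :
    Subgroup.normalizer (P : Set G) ≤ Subgroup.normalizer (focal P : Set G) := by
  intro n hn
  rw [Subgroup.mem_normalizer_iff]
  intro g
  have hNn : (⁅Subgroup.normalizer (P : Set G), Subgroup.normalizer (P : Set G)⁆).subgroupOf
      (Subgroup.normalizer (P : Set G)) |>.Normal := by
    rw [← Subgroup.map_subtype_commutator]
    have : ((commutator ↥(Subgroup.normalizer (P : Set G))).map
        (Subgroup.normalizer (P : Set G)).subtype).subgroupOf (Subgroup.normalizer (P : Set G)) =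
        commutator ↥(Subgroup.normalizer (P : Set G)) := by
      ext x
      simp [Subgroup.mem_subgroupOf]
    rw [this]
    infer_instance
  have hle : ⁅Subgroup.normalizer (P : Set G), Subgroup.normalizer (P : Set G)⁆ ≤
      Subgroup.normalizer (P : Set G) := by
    rw [Subgroup.commutator_le]
    intro a ha b hb
    exact Subgroup.commutator_mem_commutator ha hb |> fun _ =>
      (Subgroup.normalizer (P : Set G)).mul_mem
        ((Subgroup.normalizer (P : Set G)).mul_mem ((Subgroup.normalizer (P : Set G)).mul_mem ha hb)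
          ((Subgroup.normalizer (P : Set G)).inv_mem ha))
        ((Subgroup.normalizer (P : Set G)).inv_mem hb)
  have key : ∀ m ∈ Subgroup.normalizer (P : Set G), ∀ x ∈ focal P, m * x * m⁻¹ ∈ focal P := by
    intro m hm x hx
    obtain ⟨hx1, hx2⟩ := Subgroup.mem_inf.mp hx
    refine Subgroup.mem_inf.mpr ⟨(Subgroup.mem_normalizer_iff.mp hm x).mp hx1, ?_⟩
    have := hNn.conj_mem ⟨x, hle hx2⟩ (by rw [Subgroup.mem_subgroupOf]; exact hx2) ⟨m, hm⟩
    rw [Subgroup.mem_subgroupOf] at this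
    simpa using this
  constructor
  · intro hg
    exact key n hn g hg
  · intro hg
    have := key n⁻¹ (Subgroup.inv_mem _ hn) _ hg
    simpa [mul_assoc] using this


/-- elements of the focal subgroup are `p`-elements of the derived subgroup of `N_G(P)` -/
theorem focal_centralizes (hG : Cfsg.IsMinSimpleOddOrder G) (p : ℕ) [hp : Fact p.Prime]
    (P : Sylow p G) (hP1 : (P : Subgroup G) ≠ ⊥) (s : ℕ) [hs : Fact s.Prime] (hsp : s ≠ p)
    (X : Subgroup G) (hXs : IsPGroup s X) (hXr : Cfsg.PRankLE s 2 ↥X)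
    (hNX : Subgroup.normalizer ((P : Subgroup G) : Set G) ≤ Subgroup.normalizer (X : Set G)) :
    X ≤ Subgroup.centralizer (focal (P : Subgroup G) : Set G) := by
  by_cases hX1 : X = ⊥
  · rw [hX1]; exact bot_le
  have hs2 : s ≠ 2 := odd_prime_of_pgroup hG s X hX1 hXs
  have hsimple : IsSimpleGroup G := hG.2.1
  have hNtop : Subgroup.normalizer ((P : Subgroup G) : Set G) ≠ ⊤ :=
    normalizer_ne_top_of_simple hP1 (pgroup_ne_top hG p P P.isPGroup')
  have hNs : Group.IsSolvable ↥(Subgroup.normalizer ((P : Subgroup G) : Set G)) :=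
    hG.2.2.2 _ hNtop
  have hNodd : Odd (Nat.card ↥(Subgroup.normalizer ((P : Subgroup G) : Set G))) :=
    coatom_odd hG _
  apply centralizer_symm
  intro g hg
  obtain ⟨hg1, hg2⟩ := Subgroup.mem_inf.mp hg
  obtain ⟨k, hk⟩ := P.isPGroup' ⟨g, hg1⟩
  have hgk : g ^ p ^ k = 1 := by simpa using congrArg Subtype.val hk
  have hnd : ¬ s ∣ p ^ k := by
    intro hd
    have := (Nat.prime_dvd_prime_iff_eq hs.out hp.out).mp (hs.out.dvd_of_dvd_pow hd)
    exact hsp this
  exact der_centralizes_rank2 s hs2 X _ hXs hXr hNX hNs hNodd g hg2 (p ^ k) hgk hnd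


/-- **the key step**: the focal subgroup centralizes the `p'`-part of the Fitting subgroup of every
maximal subgroup containing `C_G(A)`, unless `A` is a uniqueness subgroup -/
theorem focal_centralizes_fP (hG : Cfsg.IsMinSimpleOddOrder G) (p : ℕ) [hp : Fact p.Prime]
    (P : Sylow p G) (A : Subgroup G) (hA : Cfsg.IsSCN (P : Subgroup G) A)
    (hA3 : ¬ Cfsg.PRankLE p 2 ↥A)
    (hFall : ∀ L : Subgroup G, IsCoatom L → Cfsg.PRankLE p 2 ↥(Cfsg.fittingOf L))
    (M : Subgroup G) (hM : IsCoatom M) (hCM : Subgroup.centralizer (A : Set G) ≤ M)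
    (s : ℕ) [hs : Fact s.Prime] (hsp : s ≠ p) :
    fP M s ≤ Subgroup.centralizer (focal (P : Subgroup G) : Set G) ∨ Cfsg.InUniqueMaximal A := by
  classical
  obtain ⟨A₀, hA₀A, hA₀e, hA₀3⟩ := exists_elemAb_of_not_pRankLE p A hA3
  have hAp : IsPGroup p A := P.isPGroup'.to_le hA.1
  have hAcent : A ≤ Subgroup.centralizer (A : Set G) := by
    intro a ha
    rw [Subgroup.mem_centralizer_iff]
    intro b hb
    exact scn_comm hA b hb a ha
  have hAM : A ≤ M := hAcent.trans hCM
  have hA1 : A ≠ ⊥ := by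
    rintro rfl
    have h1 : Nat.card A₀ ≤ 1 := by
      have := Nat.card_mono (Set.toFinite _) hA₀A
      simpa using this
    have : 1 < p ^ 3 := Nat.one_lt_pow (by norm_num) hp.out.one_lt
    omega
  have hP1 : (P : Subgroup G) ≠ ⊥ := by
    intro h
    apply hA1
    rw [eq_bot_iff, ← h]
    exact hA.1
  have hAtop : A ≠ ⊤ := pgroup_ne_top hG p A hAp
  have hsimple : IsSimpleGroup G := hG.2.1
  obtain ⟨hPM, hNM⟩ := sylow_le hG p P A hA hA3 M hM hCM (hFall M hM)
  by_cases hr : Cfsg.PRankLE s 2 ↥(fP M s)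
  · left
    exact focal_centralizes hG p P hP1 s hsp (fP M s) (fP_isPGroup M s) hr
      (hNM.trans (le_normalizer_fP M s))
  by_cases hQC : fP M s ≤ Subgroup.centralizer (focal (P : Subgroup G) : Set G)
  · left; exact hQC
  right
  -- every subgroup of rank at least three of `O_s(M)` is a uniqueness subgroup
  have hU : ∀ E : Subgroup G, E ≤ fP M s → Cfsg.IsElementaryAbelian s E → s ^ 3 ≤ Nat.card E →
      ∀ L : Subgroup G, IsCoatom L → E ≤ L → L = M := by
    intro E hEQ hEe hE3 L hL hEL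
    have hEp : IsPGroup s E := by
      rintro ⟨a, ha⟩
      exact ⟨1, Subtype.ext (by simpa using hEe.2 a ha)⟩
    have hEU : Cfsg.InUniqueMaximal E :=
      rank3_fitting_unique hG M hM s (not_pRankLE_of_le s E _ (hEQ.trans (fP_le M s)) hEe hE3) E hEp
        hEe.1 (not_pRankLE_of_le s E E le_rfl hEe hE3)
    obtain ⟨M', -, huniq⟩ := hEU
    rw [huniq L ⟨hL, hEL⟩, huniq M ⟨hM, hEQ.trans (fP_le_self M s)⟩]
  -- coprime generation
  have hnd : ¬ p ∣ Nat.card ↥(fP M s) := by
    obtain ⟨k, hk⟩ := IsPGroup.iff_card.mp (fP_isPGroup M s)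
    rw [hk]
    intro hd
    exact hsp ((Nat.prime_dvd_prime_iff_eq hp.out hs.out).mp (hp.out.dvd_of_dvd_pow hd)).symm
  have hA₀2 : p ^ 2 ≤ Nat.card A₀ := (Nat.pow_le_pow_right hp.out.pos (by norm_num)).trans hA₀3
  have hgen := Cfsg.Agent.S1324.result p A₀ (fP M s) hA₀e hA₀2 hnd
    ((hA₀A.trans hAM).trans (le_normalizer_fP M s))
  have hexB : ∃ B : Subgroup G, B ≤ A₀ ∧ B.relIndex A₀ ≤ p ∧
      ¬ (fP M s ⊓ Subgroup.centralizer (B : Set G) ≤
        Subgroup.centralizer (focal (P : Subgroup G) : Set G)) := by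
    by_contra hcon
    push Not at hcon
    apply hQC
    rw [hgen]
    apply iSup_le
    rintro ⟨B, hBA, hBi⟩
    exact hcon B hBA hBi
  obtain ⟨B, hBA₀, hBi, hBC⟩ := hexB
  have hBe : Cfsg.IsElementaryAbelian p B := by
    refine ⟨⟨⟨?_⟩⟩, fun b hb => hA₀e.2 b (hBA₀ hb)⟩
    intro a b
    apply Subtype.ext
    have := hA₀e.1.is_comm.comm ⟨a.1, hBA₀ a.2⟩ ⟨b.1, hBA₀ b.2⟩
    simpa using congrArg Subtype.val this
  have hB2 : p ^ 2 ≤ Nat.card B := by
    have h1 : Nat.card B * B.relIndex A₀ = Nat.card A₀ := by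
      rw [← Subgroup.relIndex_bot_left, ← Subgroup.relIndex_bot_left,
        Subgroup.relIndex_mul_relIndex ⊥ B A₀ bot_le hBA₀]
    have h2 : Nat.card A₀ ≤ Nat.card B * p := by
      rw [← h1]
      exact Nat.mul_le_mul_left _ hBi
    have h3 : p ^ 3 = p ^ 2 * p := by ring
    rw [h3] at hA₀3
    exact Nat.le_of_mul_le_mul_right (hA₀3.trans h2) hp.out.pos
  have hBnc := not_cyclic_of_elemAb p B hBe hB2
  have hBM : B ≤ M := (hBA₀.trans hA₀A).trans hAM
  have hcent : ∀ b ∈ B, b ≠ 1 → Subgroup.centralizer ({b} : Set G) ≤ M := by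
    intro b hb hb1
    by_contra hnot
    have hne := centralizer_singleton_ne_top hG.2.2.1 hb1
    obtain ⟨L, hL, hCL⟩ := exists_coatom_ge _ hne
    have hLM : L ≠ M := by
      rintro rfl
      exact hnot hCL
    have hbA : b ∈ A := hA₀A (hBA₀ hb)
    have hCAL : Subgroup.centralizer (A : Set G) ≤ L := by
      refine le_trans ?_ hCL
      apply Subgroup.centralizer_le
      intro x hx
      rw [Set.mem_singleton_iff] at hx
      rw [hx]
      exact hbA
    obtain ⟨-, hNL⟩ := sylow_le hG p P A hA hA3 L hL hCAL (hFall L hL)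
    -- `D = O_s(M) ∩ L` has rank at most two
    have hDr : Cfsg.PRankLE s 2 ↥(fP M s ⊓ L : Subgroup G) := by
      by_contra hDr
      obtain ⟨E, hED, hEe, hE3⟩ := exists_elemAb_of_not_pRankLE s _ hDr
      exact hLM (hU E (hED.trans inf_le_left) hEe hE3 L hL (hED.trans inf_le_right))
    have hND : Subgroup.normalizer ((P : Subgroup G) : Set G) ≤
        Subgroup.normalizer ((fP M s ⊓ L : Subgroup G) : Set G) := by
      intro n hn
      have h1 := le_normalizer_fP M s (hNM hn)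
      have h2 : n ∈ Subgroup.normalizer (L : Set G) := Subgroup.le_normalizer (hNL hn)
      rw [Subgroup.mem_normalizer_iff] at h1 h2 ⊢
      intro g
      rw [Subgroup.mem_inf, Subgroup.mem_inf, ← h1 g, ← h2 g]
    have hDC := focal_centralizes hG p P hP1 s hsp _ ((fP_isPGroup M s).to_le inf_le_left) hDr hND
    apply hBC
    refine le_trans ?_ hDC
    refine le_inf inf_le_left (inf_le_right.trans (le_trans ?_ hCL))
    apply Subgroup.centralizer_le
    intro x hx
    rw [Set.mem_singleton_iff] at hx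
    rw [hx]
    exact hb
  have hBU : Cfsg.InUniqueMaximal B :=
    Cfsg.Agent.S1398.result hG M hM p B hBM hBe hBnc (Or.inl hcent)
  exact unique_mono hBU (hBA₀.trans hA₀A) hAtop


/-- **B & G, Lemma 9.5** -/
theorem scn3_unique (hG : Cfsg.IsMinSimpleOddOrder G) (p : ℕ) [hp : Fact p.Prime]
    (P : Sylow p G) (A : Subgroup G) (hA : Cfsg.IsSCN (P : Subgroup G) A)
    (hA3 : ¬ Cfsg.PRankLE p 2 ↥A) : Cfsg.InUniqueMaximal A := by
  classical
  by_contra hAU
  obtain ⟨A₀, hA₀A, hA₀e, hA₀3⟩ := exists_elemAb_of_not_pRankLE p A hA3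
  have hAp : IsPGroup p A := P.isPGroup'.to_le hA.1
  have hAcomm : IsMulCommutative A :=
    ⟨⟨fun a b => Subtype.ext (scn_comm hA a.1 a.2 b.1 b.2)⟩⟩
  have hAcent : A ≤ Subgroup.centralizer (A : Set G) := by
    intro a ha
    rw [Subgroup.mem_centralizer_iff]
    intro b hb
    exact scn_comm hA b hb a ha
  have hA1 : A ≠ ⊥ := by
    rintro rfl
    have h1 : Nat.card A₀ ≤ 1 := by
      have := Nat.card_mono (Set.toFinite _) hA₀A
      simpa using this
    have : 1 < p ^ 3 := Nat.one_lt_pow (by norm_num) hp.out.one_lt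
    omega
  have hP1 : (P : Subgroup G) ≠ ⊥ := by
    intro h
    apply hA1
    rw [eq_bot_iff, ← h]
    exact hA.1
  have hAtop : A ≠ ⊤ := pgroup_ne_top hG p A hAp
  have hsimple : IsSimpleGroup G := hG.2.1
  have hFall : ∀ L : Subgroup G, IsCoatom L → Cfsg.PRankLE p 2 ↥(Cfsg.fittingOf L) := by
    intro L hL
    by_contra hF
    exact hAU (rank3_fitting_unique hG L hL p hF A hAp hAcomm hA3)
  -- the focal subgroup and the maximal subgroup `M₀`
  have hR1 : focal (P : Subgroup G) ≠ ⊥ := focal_ne_bot hG p P hP1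
  have hRtop : focal (P : Subgroup G) ≠ ⊤ :=
    pgroup_ne_top hG p _ (P.isPGroup'.to_le (focal_le _))
  have hNRtop : Subgroup.normalizer (focal (P : Subgroup G) : Set G) ≠ ⊤ :=
    normalizer_ne_top_of_simple hR1 hRtop
  obtain ⟨M₀, hM₀, hNRM₀⟩ := exists_coatom_ge _ hNRtop
  have hNM₀ : Subgroup.normalizer ((P : Subgroup G) : Set G) ≤ M₀ :=
    (le_normalizer_focal _).trans hNRM₀
  have hPM₀ : (P : Subgroup G) ≤ M₀ := Subgroup.le_normalizer.trans hNM₀
  have hCRM₀ : Subgroup.centralizer (focal (P : Subgroup G) : Set G) ≤ M₀ :=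
    (Subgroup.centralizer_le_normalizer _).trans hNRM₀
  -- every maximal subgroup containing `C_G(A)` is `M₀`
  have hkey : ∀ M : Subgroup G, IsCoatom M → Subgroup.centralizer (A : Set G) ≤ M → M = M₀ := by
    intro M hM hCM
    obtain ⟨hPM, hNM⟩ := sylow_le hG p P A hA hA3 M hM hCM (hFall M hM)
    have hPS : IsSylowIn p (P : Subgroup G) M := isSylowIn_of_sylow_le P hPM
    have hfP : ∀ (q : ℕ) [Fact q.Prime], fP M q ≤ M₀ := by
      intro q hq
      by_cases hqp : q = p
      · subst hqp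
        obtain ⟨x, hx, hle⟩ := hPS.exists_conj_le (fP_le_self M q) (fP_isPGroup M q)
        rw [Helper18.conjSub_eq_of_mem_normalizer (le_normalizer_fP M q hx)] at hle
        exact hle.trans hPM₀
      · rcases focal_centralizes_fP hG p P A hA hA3 hFall M hM hCM q hqp with h | h
        · exact h.trans hCRM₀
        · exact absurd h hAU
    have hFM : Cfsg.fittingOf M ≤ M₀ := by
      intro g hg
      apply gl_mem M₀ (orderOf g) g rfl (orderOf_pos g)
      intro h hh q hq _ hhq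
      have : Fact q.Prime := ⟨hq⟩
      exact hfP q ⟨(Subgroup.zpowers_le.mpr hg) hh, hhq⟩
    by_cases hr : Cfsg.RankLE 2 ↥(Cfsg.fittingOf M)
    · have hle : M ≤ M₀ :=
        Cfsg.Agent.Lib.Helper11.BenderC.le_of_rank2 M (coatom_solvable hG M hM) (coatom_odd hG M) hr p (P : Subgroup G) hPS M₀ hFM
          hPM₀ (inf_le_right.trans hNM₀)
      by_contra hne
      exact hM₀.1 (hM.2 M₀ (lt_of_le_of_ne hle hne))
    · exact (fitting_unique hG M hM hr M₀ hM₀ hFM).symm
  -- hence `C_G(a) ≤ M₀` for every nonidentity `a ∈ A`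
  have hcent : ∀ a ∈ A, a ≠ 1 → Subgroup.centralizer ({a} : Set G) ≤ M₀ := by
    intro a ha ha1
    have hne := centralizer_singleton_ne_top hG.2.2.1 ha1
    obtain ⟨L, hL, hCL⟩ := exists_coatom_ge _ hne
    have hCAL : Subgroup.centralizer (A : Set G) ≤ L := by
      refine le_trans ?_ hCL
      apply Subgroup.centralizer_le
      intro x hx
      rw [Set.mem_singleton_iff] at hx
      rw [hx]
      exact ha
    rw [← hkey L hL hCAL]
    exact hCL
  have hA₀2 : p ^ 2 ≤ Nat.card A₀ := (Nat.pow_le_pow_right hp.out.pos (by norm_num)).trans hA₀3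
  have hA₀nc := not_cyclic_of_elemAb p A₀ hA₀e hA₀2
  have hA₀U : Cfsg.InUniqueMaximal A₀ :=
    Cfsg.Agent.S1398.result hG M₀ hM₀ p A₀ ((hA₀A.trans hA.1).trans hPM₀) hA₀e hA₀nc
      (Or.inl fun b hb hb1 => hcent b (hA₀A hb) hb1)
  exact hAU (unique_mono hA₀U hA₀A hAtop)

end Cfsg.Agent.Lib.Helper11.BenderK
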