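import Mathlib
import Cfsg.Agent.Lib.Helper11.BenderK

set_option autoImplicit false
open scoped commutatorElement

namespace Cfsg.Agent.Lib.Helper11.BenderL

open Cfsg.Agent.Lib.Helper11 Cfsg.Agent.Lib.Helper11.MaxLocA Cfsg.Agent.Lib.Helper11.MaxLocB
  Cfsg.Agent.Lib.Helper11.MaxSubA Cfsg.Agent.Lib.Helper11.MaxSubB Cfsg.Agent.Lib.Helper11.MaxSubC
  Cfsg.Agent.Lib.Helper11.MaxSubD Cfsg.Agent.Lib.Helper11.MaxSubE
  Cfsg.Agent.Lib.Helper18 Cfsg.Agent.Lib.Helper11.BenderA Cfsg.Agent.Lib.Helper11.BenderB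
  Cfsg.Agent.Lib.Helper11.BenderD Cfsg.Agent.Lib.Helper11.BenderE
  Cfsg.Agent.Lib.Helper11.BenderF Cfsg.Agent.Lib.Helper11.BenderG
  Cfsg.Agent.Lib.Helper11.BenderH Cfsg.Agent.Lib.Helper11.BenderI
  Cfsg.Agent.Lib.Helper11.BenderJ Cfsg.Agent.Lib.Helper11.BenderK

variable {G : Type*} [Group G] [Finite G]

/-- every elementary abelian subgroup of order at least `q ^ 3` is a uniqueness subgroup -/
theorem elemAb3_unique (hG : Cfsg.IsMinSimpleOddOrder G) (q : ℕ) [hq : Fact q.Prime]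
    (B : Subgroup G) (hBe : Cfsg.IsElementaryAbelian q B) (hB3 : q ^ 3 ≤ Nat.card B) :
    Cfsg.InUniqueMaximal B := by
  have hBp : IsPGroup q B := by
    rintro ⟨a, ha⟩
    exact ⟨1, Subtype.ext (by simpa using hBe.2 a ha)⟩
  have hB1 : B ≠ ⊥ := by
    rintro rfl
    rw [Subgroup.card_bot] at hB3
    have : 1 < q ^ 3 := Nat.one_lt_pow (by norm_num) hq.out.one_lt
    omega
  have hq2 : q ≠ 2 := odd_prime_of_pgroup hG q B hB1 hBp
  obtain ⟨Q, hBQ⟩ := hBp.exists_le_sylow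
  have hrQ : ¬ Cfsg.PRankLE q 2 ↥(Q : Subgroup G) := not_pRankLE_of_le q B _ hBQ hBe hB3
  obtain ⟨A, hAscn, hAr⟩ := exists_scn3 q hq2 (Q : Subgroup G) Q.isPGroup' hrQ
  have hAU := scn3_unique hG q Q A hAscn hAr
  have hAc : IsMulCommutative A :=
    ⟨⟨fun a b => Subtype.ext (scn_comm hAscn a.1 a.2 b.1 b.2)⟩⟩
  have hB2 : q ^ 2 ≤ Nat.card B := (Nat.pow_le_pow_right hq.out.pos (by norm_num)).trans hB3
  have hBcent : B ≤ Subgroup.centralizer (B : Set G) := by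
    intro a ha
    rw [Subgroup.mem_centralizer_iff]
    intro b hb
    exact congrArg Subtype.val (hBe.1.is_comm.comm ⟨b, hb⟩ ⟨a, ha⟩)
  exact cent_rank3_unique hG q A B (Q.isPGroup'.to_le hAscn.1) hAc hAr hAU hBp
    (not_cyclic_of_elemAb q B hBe hB2) (not_pRankLE_of_le q B _ hBcent hBe hB3)

/-- proper subgroups of rank at least three are uniqueness subgroups -/
theorem rank3_unique (hG : Cfsg.IsMinSimpleOddOrder G) (X : Subgroup G) (hX : X ≠ ⊤)
    (hX3 : ¬ Cfsg.RankLE 2 ↥X) : Cfsg.InUniqueMaximal X := by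
  obtain ⟨q, hq, B, hBX, hBe, hB3⟩ := exists_elemAb_of_not_rankLE X 2 hX3
  have : Fact q.Prime := ⟨hq⟩
  exact unique_mono (elemAb3_unique hG q B hBe hB3) hBX hX

/-- **B & G, Theorem 9.6 (the Uniqueness Theorem)** -/
theorem uniqueness_theorem (hG : Cfsg.IsMinSimpleOddOrder G) (K : Subgroup G) (hK : K ≠ ⊤)
    (hK2 : ¬ Cfsg.RankLE 1 ↥K)
    (hK3 : ¬ Cfsg.RankLE 2 ↥K ∨ ¬ Cfsg.RankLE 2 ↥(Subgroup.centralizer (K : Set G))) :
    Cfsg.InUniqueMaximal K := by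
  rcases hK3 with h | h
  · exact rank3_unique hG K hK h
  · obtain ⟨q, hq, B, hBK, hBe, hB2⟩ := exists_elemAb_of_not_rankLE K 1 hK2
    have : Fact q.Prime := ⟨hq⟩
    have hB1 : B ≠ ⊥ := by
      rintro rfl
      rw [Subgroup.card_bot] at hB2
      have : 1 < q ^ (1 + 1) := Nat.one_lt_pow (by norm_num) hq.one_lt
      omega
    obtain ⟨b, hb, hb1⟩ : ∃ b : G, b ∈ B ∧ b ≠ 1 := by
      obtain ⟨b, hb⟩ := (Subgroup.ne_bot_iff_exists_ne_one.mp hB1)
      exact ⟨(b : G), b.2, fun h0 => hb (Subtype.ext h0)⟩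
    have hsimple : IsSimpleGroup G := hG.2.1
    have hCtop : Subgroup.centralizer (K : Set G) ≠ ⊤ := by
      intro htop
      apply centralizer_singleton_ne_top hG.2.2.1 hb1
      rw [eq_top_iff, ← htop]
      apply Subgroup.centralizer_le
      intro x hx
      rw [Set.mem_singleton_iff] at hx
      rw [hx]
      exact hBK hb
    have hCU := rank3_unique hG _ hCtop h
    exact cent_unique hG _ K hCU (centralizer_symm le_rfl) hK2

end Cfsg.Agent.Lib.Helper11.BenderL
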