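import Mathlib
import Cfsg.Agent.Lib.Helper11.BenderL

set_option autoImplicit false
open scoped commutatorElement

namespace Cfsg.Agent.Lib.Helper11.BenderM

open Cfsg.Agent.Lib.Helper11 Cfsg.Agent.Lib.Helper11.MaxLocA Cfsg.Agent.Lib.Helper11.MaxLocB
  Cfsg.Agent.Lib.Helper11.MaxSubA Cfsg.Agent.Lib.Helper11.MaxSubB Cfsg.Agent.Lib.Helper11.MaxSubC
  Cfsg.Agent.Lib.Helper11.MaxSubD Cfsg.Agent.Lib.Helper11.MaxSubE
  Cfsg.Agent.Lib.Helper18 Cfsg.Agent.Lib.Helper11.BenderD Cfsg.Agent.Lib.Helper11.BenderE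
  Cfsg.Agent.Lib.Helper11.BenderF Cfsg.Agent.Lib.Helper11.BenderL

/-- an odd-order solvable group `Γ` acting on a `p`-group of rank at most two (`p` odd): the
product of a Sylow `p`-subgroup of `Γ` with the kernel of the action is normal in `Γ` -/
theorem sylow_sup_ker_normal {Γ : Type*} [Group Γ] [Finite Γ] [Group.IsSolvable Γ]
    (hodd : Odd (Nat.card Γ)) {R : Type*} [Group R] [Finite R] (p : ℕ) [hp : Fact p.Prime]
    (hp2 : p ≠ 2) (hR : IsPGroup p R) (hrk : Cfsg.PRankLE p 2 R) (φ : Γ →* MulAut R)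
    (S : Sylow p Γ) : ((S : Subgroup Γ) ⊔ φ.ker).Normal := by
  apply Subgroup.Normal.of_commutator_le
  -- the image of the derived subgroup is a `p`-group
  have hDp : ∀ g ∈ commutator Γ, ∃ k : ℕ, (φ g) ^ p ^ k = 1 := by
    intro g hg
    obtain ⟨k, m, hm, hkm⟩ := Nat.exists_eq_pow_mul_and_not_dvd (orderOf_pos g).ne' p
      hp.out.ne_one
    refine ⟨k, ?_⟩
    rw [← map_pow]
    apply Cfsg.Agent.Lib.Helper11.AutRankTwo.der_coprime_trivial_rank_two p hp2 hR hrk hodd φ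
      (g ^ p ^ k) (Subgroup.pow_mem _ hg _) m ?_ hm
    rw [← pow_mul, ← hkm, pow_orderOf_eq_one]
  obtain ⟨f, hf⟩ : ∃ f : Γ →* φ.range, f = φ.rangeRestrict := ⟨_, rfl⟩
  have hfs : Function.Surjective f := hf ▸ φ.rangeRestrict_surjective
  have hker : f.ker = φ.ker := by rw [hf]; exact φ.ker_rangeRestrict
  have hDn : ((commutator Γ).map f).Normal := Subgroup.Normal.map inferInstance f hfs
  have hDpg : IsPGroup p ((commutator Γ).map f) := by
    rintro ⟨_, g, hg, rfl⟩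
    obtain ⟨k, hk⟩ := hDp g hg
    refine ⟨k, Subtype.ext ?_⟩
    simp only [Subgroup.coe_pow, Subgroup.coe_one]
    rw [← map_pow]
    apply Subtype.ext
    have : ((f (g ^ p ^ k) : φ.range) : MulAut R) = φ (g ^ p ^ k) := by rw [hf]; rfl
    rw [this, map_pow, hk]
    rfl
  have hle : (commutator Γ).map f ≤ ((S.mapSurjective hfs : Sylow p φ.range) : Subgroup φ.range) := by
    have h1 : IsPGroup p ↥((commutator Γ).map f ⊔
        ((S.mapSurjective hfs : Sylow p φ.range) : Subgroup φ.range)) :=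
      hDpg.to_sup_of_normal_left (S.mapSurjective hfs).isPGroup'
    have h2 := (S.mapSurjective hfs).is_maximal' h1 le_sup_right
    rw [← h2]
    exact le_sup_left
  intro g hg
  have h1 : f g ∈ ((S.mapSurjective hfs : Sylow p φ.range) : Subgroup φ.range) :=
    hle ⟨g, hg, rfl⟩
  rw [Sylow.coe_mapSurjective] at h1
  obtain ⟨s, hs, hsg⟩ := h1
  have h2 : s⁻¹ * g ∈ φ.ker := by
    rw [← hker, MonoidHom.mem_ker, map_mul, map_inv, hsg, inv_mul_cancel]
  have h3 : g = s * (s⁻¹ * g) := by group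
  rw [h3]
  exact Subgroup.mul_mem _ (Subgroup.mem_sup_left hs) (Subgroup.mem_sup_right h2)


variable {G : Type*} [Group G] [Finite G]

/-- **Frattini argument for automorphisms of `p`-groups of rank at most two**: in `L = N_G(X)`,
every element is, modulo `R C_G(X)`, in the normalizer of the Sylow subgroup `R` of `L` -/
theorem frattini_aut (hG : Cfsg.IsMinSimpleOddOrder G) (p : ℕ) [hp : Fact p.Prime] (hp2 : p ≠ 2)
    (X : Subgroup G) (hXp : IsPGroup p X) (hX1 : X ≠ ⊥) (hXr : Cfsg.PRankLE p 2 ↥X)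
    (R : Subgroup G) (hR : IsSylowIn p R (Subgroup.normalizer (X : Set G))) :
    ∀ n ∈ Subgroup.normalizer (X : Set G), ∃ r ∈ R, ∃ c ∈ Subgroup.centralizer (X : Set G),
      r * c * n ∈ Subgroup.normalizer (R : Set G) := by
  have hsimple : IsSimpleGroup G := hG.2.1
  have hLtop : Subgroup.normalizer (X : Set G) ≠ ⊤ :=
    normalizer_ne_top_of_simple hX1 (pgroup_ne_top hG p X hXp)
  have hLs : Group.IsSolvable ↥(Subgroup.normalizer (X : Set G)) := hG.2.2.2 _ hLtop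
  have hLodd : Odd (Nat.card ↥(Subgroup.normalizer (X : Set G))) := coatom_odd hG _
  obtain ⟨S, hS⟩ := hR.exists_sylow
  have hnorm := sylow_sup_ker_normal hLodd p hp2 hXp hXr X.normalizerMonoidHom S
  obtain ⟨W, hW⟩ : ∃ W : Subgroup G, W = ((S : Subgroup ↥(Subgroup.normalizer (X : Set G))) ⊔
      X.normalizerMonoidHom.ker).map (Subgroup.normalizer (X : Set G)).subtype := ⟨_, rfl⟩
  have hRW : R ≤ W := by
    intro r hr
    rw [hW]
    refine ⟨⟨r, hR.le hr⟩, Subgroup.mem_sup_left ?_, rfl⟩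
    rw [hS, Subgroup.mem_subgroupOf]
    exact hr
  have hWL : W ≤ Subgroup.normalizer (X : Set G) := hW ▸ Subgroup.map_subtype_le _
  have hRSW : IsSylowIn p R W := hR.of_le hRW hWL
  intro n hn
  have hnW : n ∈ Subgroup.normalizer (W : Set G) := by
    apply mem_normalizer_of_conjSub_le
    rintro _ ⟨w, hw, rfl⟩
    rw [hW] at hw ⊢
    obtain ⟨w', hw', rfl⟩ := hw
    refine ⟨⟨n, hn⟩ * w' * ⟨n, hn⟩⁻¹, hnorm.conj_mem w' hw' _, ?_⟩
    simp [MulAut.conj_apply]
  obtain ⟨w, hw, hwn⟩ := hRSW.frattini hnW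
  rw [hW] at hw
  obtain ⟨w', hw', rfl⟩ := hw
  have hmul := Subgroup.mul_normal (S : Subgroup ↥(Subgroup.normalizer (X : Set G)))
    X.normalizerMonoidHom.ker
  have hw'' : w' ∈ ((↑((S : Subgroup ↥(Subgroup.normalizer (X : Set G))) ⊔
      X.normalizerMonoidHom.ker) : Set ↥(Subgroup.normalizer (X : Set G)))) := hw'
  rw [hmul] at hw''
  obtain ⟨r', hr', c', hc', rfl⟩ := hw''
  refine ⟨(r' : G), ?_, (c' : G), ?_, ?_⟩
  · have : r' ∈ R.subgroupOf (Subgroup.normalizer (X : Set G)) := hS ▸ hr'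
    exact Subgroup.mem_subgroupOf.mp this
  · have : c' ∈ (Subgroup.centralizer (X : Set G)).subgroupOf (Subgroup.normalizer (X : Set G)) := by
      rw [← Subgroup.normalizerMonoidHom_ker]
      exact hc'
    exact Subgroup.mem_subgroupOf.mp this
  · simpa using hwn


/-- a Sylow `p`-subgroup of `M` whose normalizer lies in `M` (and which is then Sylow in `G`) -/
def Good (M : Subgroup G) (p : ℕ) (S : Subgroup G) : Prop :=
  IsSylowIn p S M ∧ Subgroup.normalizer (S : Set G) ≤ M ∧ IsSylowIn p S ⊤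

omit [Finite G] in
theorem mem_normalizer_conj {y m : G} {S : Subgroup G}
    (h : y ∈ Subgroup.normalizer ((Helper18.conjSub m S : Subgroup G) : Set G)) :
    m⁻¹ * y * m ∈ Subgroup.normalizer (S : Set G) := by
  rw [Subgroup.mem_normalizer_iff] at h ⊢
  intro s
  have h1 := h (m * s * m⁻¹)
  rw [Helper18.mem_conjSub, Helper18.mem_conjSub] at h1
  have e1 : m⁻¹ * (m * s * m⁻¹) * m = s := by group
  have e2 : m⁻¹ * (y * (m * s * m⁻¹) * y⁻¹) * m = m⁻¹ * y * m * s * (m⁻¹ * y * m)⁻¹ := by group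
  rw [e1, e2] at h1
  exact h1

theorem good_conj {M : Subgroup G} {p : ℕ} {S : Subgroup G} (hS : Good M p S) {m : G}
    (hm : m ∈ M) : Good M p (Helper18.conjSub m S) := by
  refine ⟨?_, ?_, Cfsg.Agent.Lib.Helper11.BenderI.sylow_top_conj p S hS.2.2 m⟩
  · have h := hS.1.conjSub m
    have e : Helper18.conjSub m M = M :=
      Helper18.conjSub_eq_of_mem_normalizer (Subgroup.le_normalizer hm)
    rwa [e] at h
  · intro y hy
    have h1 := hS.2.1 (mem_normalizer_conj hy)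
    have h2 := M.mul_mem (M.mul_mem hm h1) (M.inv_mem hm)
    have e : m * (m⁻¹ * y * m) * m⁻¹ = y := by group
    rwa [e] at h2

theorem exists_good_ge {M : Subgroup G} {p : ℕ} [Fact p.Prime] {S : Subgroup G} (hS : Good M p S)
    (Y : Subgroup G) (hYM : Y ≤ M) (hYp : IsPGroup p Y) : ∃ S' : Subgroup G, Good M p S' ∧ Y ≤ S' := by
  obtain ⟨x, hx, hle⟩ := hS.1.exists_conj_le hYM hYp
  exact ⟨Helper18.conjSub x⁻¹ S, good_conj hS (M.inv_mem hx), Helper18.conjSub_le_iff.mp hle⟩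

/-- a Sylow subgroup of `M` with normalizer in `M` is a Sylow subgroup of `G` -/
theorem good_of_sigma (M : Subgroup G) (p : ℕ) [Fact p.Prime] (S : Subgroup G)
    (hS : IsSylowIn p S M) (hN : Subgroup.normalizer (S : Set G) ≤ M) : Good M p S := by
  refine ⟨hS, hN, ?_⟩
  apply sylow_of_normalizer p S ⊤ le_top hS.isPGroup
  intro y _ hyN hyq
  by_contra hyS
  obtain ⟨h1, h2⟩ := sup_zpowers p S hS.isPGroup y hyN hyS hyq
  have h3 : S ⊔ Subgroup.zpowers y ≤ M :=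
    sup_le hS.le (by rw [Subgroup.zpowers_le]; exact hN hyN)
  exact h2.ne (hS.eq_of_le h3 h1 le_sup_left).symm


omit [Finite G] in
theorem centralizer_conj {g c : G} {X : Subgroup G}
    (hc : c ∈ Subgroup.centralizer ((Helper18.conjSub g X : Subgroup G) : Set G)) :
    g⁻¹ * c * g ∈ Subgroup.centralizer (X : Set G) := by
  rw [Subgroup.mem_centralizer_iff] at hc ⊢
  intro x hx
  have h1 := hc (g * x * g⁻¹) (Helper18.conj_mem_conjSub hx)
  calc x * (g⁻¹ * c * g) = g⁻¹ * ((g * x * g⁻¹) * c) * g := by group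
    _ = g⁻¹ * (c * (g * x * g⁻¹)) * g := by rw [h1]
    _ = g⁻¹ * c * g * x := by group

/-- **B & G, Theorem 10.1(a)**, by induction on the index of `X` -/
theorem sigma_fusion_aux (hG : Cfsg.IsMinSimpleOddOrder G) (M : Subgroup G) (hM : IsCoatom M)
    (p : ℕ) [hp : Fact p.Prime] (S₀ : Subgroup G) (hS₀ : Good M p S₀) :
    ∀ (k : ℕ) (X : Subgroup G), Nat.card G - Nat.card X = k → IsPGroup p X → X ≠ ⊥ → X ≤ M →
      ∀ g : G, Helper18.conjSub g X ≤ M →
        ∃ m ∈ M, ∃ c ∈ Subgroup.centralizer (X : Set G), g = m * c := by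
  intro k
  induction k using Nat.strong_induction_on with
  | _ k ih =>
  intro X hk hXp hX1 hXM g hgX
  have hsimple : IsSimpleGroup G := hG.2.1
  have hp2 : p ≠ 2 := odd_prime_of_pgroup hG p X hX1 hXp
  have hXtop : X ≠ ⊤ := pgroup_ne_top hG p X hXp
  have hM1 : M ≠ ⊥ := by
    rintro rfl
    exact hX1 (eq_bot_iff.mpr hXM)
  have hNM : Subgroup.normalizer (M : Set G) = M :=
    normalizer_eq_of_coatom hG M hM M hM1 hM.1 Subgroup.le_normalizer
  have hcardle : ∀ Y : Subgroup G, Nat.card Y ≤ Nat.card G := fun Y => Subgroup.card_le_card_group Y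
  -- the induction hypothesis in a convenient form
  have IH : ∀ Y : Subgroup G, Nat.card X < Nat.card Y → IsPGroup p Y → Y ≤ M →
      ∀ y : G, Helper18.conjSub y Y ≤ M →
        ∃ m ∈ M, ∃ c ∈ Subgroup.centralizer (Y : Set G), y = m * c := by
    intro Y hlt hYp hYM y hy
    have hY1 : Y ≠ ⊥ := by
      rintro rfl
      rw [Subgroup.card_bot] at hlt
      have : 0 < Nat.card X := Nat.card_pos
      omega
    have := hcardle Y
    exact ih (Nat.card G - Nat.card Y) (by omega) Y rfl hYp hY1 hYM y hy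
  by_cases hXr : Cfsg.PRankLE p 2 ↥X
  swap
  · -- `X` is a uniqueness subgroup
    obtain ⟨M', ⟨hM', hXM'⟩, huniq⟩ := rank3_unique hG X hXtop (fun h => hXr (h p hp.out))
    have e1 : M = M' := huniq M ⟨hM, hXM⟩
    have h1 : X ≤ Helper18.conjSub g⁻¹ M := Helper18.conjSub_le_iff.mp hgX
    have e2 : Helper18.conjSub g⁻¹ M = M' := huniq _ ⟨isCoatom_conjSub g⁻¹ hM, h1⟩
    have h2 : g⁻¹ ∈ Subgroup.normalizer (M : Set G) := by
      apply mem_normalizer_of_conjSub_le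
      rw [e2, ← e1]
    rw [hNM] at h2
    exact ⟨g, by simpa using M.inv_mem h2, 1, Subgroup.one_mem _, by simp⟩
  obtain ⟨S₁, hS₁, hXS₁⟩ := exists_good_ge hS₀ X hXM hXp
  by_cases hXS : X = S₁
  · -- `X` is a Sylow subgroup of `M`
    obtain ⟨m, hm, hle⟩ := hS₁.1.exists_conj_le hgX (Helper18.conjSub_isPGroup hXp)
    rw [Helper18.conjSub_mul, ← hXS] at hle
    have h1 : m * g ∈ Subgroup.normalizer (X : Set G) := mem_normalizer_of_conjSub_le hle
    have h2 : m * g ∈ M := hS₁.2.1 (hXS ▸ h1)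
    have h3 : m⁻¹ * (m * g) ∈ M := M.mul_mem (M.inv_mem hm) h2
    exact ⟨g, by simpa using h3, 1, Subgroup.one_mem _, by simp⟩
  -- the main case
  have hXltS₁ : X < S₁ := lt_of_le_of_ne hXS₁ hXS
  have hcardS : ∀ S' : Subgroup G, Good M p S' → Nat.card X < Nat.card S' := by
    intro S' hS'
    rw [hS'.1.card_eq hS₁.1]
    by_contra hge
    push Not at hge
    exact hXS (Subgroup.eq_of_le_of_card_ge hXS₁ hge)
  -- normalizers grow
  have hgrow : ∀ (Y S' : Subgroup G), Good M p S' → Y ≤ S' → Nat.card Y = Nat.card X →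
      Nat.card X < Nat.card (S' ⊓ Subgroup.normalizer (Y : Set G) : Subgroup G) := by
    intro Y S' hS' hYS' hYc
    have hlt : Y < S' := by
      apply lt_of_le_of_ne hYS'
      rintro rfl
      have := hcardS Y hS'
      omega
    obtain ⟨y, hyS, hyY, hyN⟩ := pgroup_grow p Y S' hS'.1.isPGroup hlt
    rw [← hYc]
    by_contra hge
    push Not at hge
    have hle : Y ≤ S' ⊓ Subgroup.normalizer (Y : Set G) := le_inf hYS' Subgroup.le_normalizer
    have := Subgroup.eq_of_le_of_card_ge hle hge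
    exact hyY (this ▸ Subgroup.mem_inf.mpr ⟨hyS, hyN⟩)
  obtain ⟨T, hTdef⟩ : ∃ T : Subgroup G, T = S₁ ⊓ Subgroup.normalizer (X : Set G) := ⟨_, rfl⟩
  have hXT : X ≤ T := hTdef ▸ le_inf hXS₁ Subgroup.le_normalizer
  have hTS₁ : T ≤ S₁ := hTdef ▸ inf_le_left
  have hTL : T ≤ Subgroup.normalizer (X : Set G) := hTdef ▸ inf_le_right
  have hTp : IsPGroup p T := hS₁.1.isPGroup.to_le hTS₁
  have hTM : T ≤ M := hTS₁.trans hS₁.1.le
  have hTcard : Nat.card X < Nat.card T := hTdef ▸ hgrow X S₁ hS₁ hXS₁ rfl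
  have hCTX : Subgroup.centralizer (T : Set G) ≤ Subgroup.centralizer (X : Set G) :=
    Subgroup.centralizer_le hXT
  have hCL : Subgroup.centralizer (X : Set G) ≤ Subgroup.normalizer (X : Set G) :=
    Subgroup.centralizer_le_normalizer _
  -- (i) a Sylow subgroup `R` of `N_G(X)` inside `M`
  obtain ⟨R, hR, hRM, hRcard⟩ : ∃ R : Subgroup G,
      IsSylowIn p R (Subgroup.normalizer (X : Set G)) ∧ R ≤ M ∧ Nat.card X < Nat.card R := by
    have hTp' : IsPGroup p (T.subgroupOf (Subgroup.normalizer (X : Set G))) := hTp.comap_subtype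
    obtain ⟨R0, hR0⟩ := hTp'.exists_le_sylow
    obtain ⟨R₀, hR₀def⟩ : ∃ R₀ : Subgroup G, R₀ = (R0 : Subgroup ↥(Subgroup.normalizer
      (X : Set G))).map (Subgroup.normalizer (X : Set G)).subtype := ⟨_, rfl⟩
    have hR₀ : IsSylowIn p R₀ (Subgroup.normalizer (X : Set G)) := hR₀def ▸ isSylowIn_of_sylow R0
    have hTR₀ : T ≤ R₀ := by
      intro x hx
      rw [hR₀def]
      exact ⟨⟨x, hTL hx⟩, hR0 (by simpa [Subgroup.mem_subgroupOf] using hx), rfl⟩
    obtain ⟨y, -, hy⟩ := hS₁.2.2.exists_conj_le (le_top : R₀ ≤ ⊤) hR₀.isPGroup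
    have hyT : Helper18.conjSub y T ≤ M :=
      (Helper18.conjSub_mono hTR₀).trans (hy.trans hS₁.1.le)
    obtain ⟨m, hm, c, hc, rfl⟩ := IH T hTcard hTp hTM y hyT
    have hcL : c ∈ Subgroup.normalizer (X : Set G) := hCL (hCTX hc)
    refine ⟨Helper18.conjSub c R₀, ?_, ?_, ?_⟩
    · have h := hR₀.conjSub c
      rwa [Helper18.conjSub_eq_of_mem_normalizer (Subgroup.le_normalizer hcL)] at h
    · rw [← Helper18.conjSub_mul] at hy
      have h1 : Helper18.conjSub c R₀ ≤ Helper18.conjSub m⁻¹ S₁ := Helper18.conjSub_le_iff.mp hy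
      exact h1.trans (Helper18.conjSub_le_of_mem hS₁.1.le (M.inv_mem hm))
    · rw [Helper18.card_conjSub]
      exact lt_of_lt_of_le hTcard (Nat.card_mono (Set.toFinite _) hTR₀)
  have hXR : X ≤ R := by
    obtain ⟨x, hx, hle⟩ := hR.exists_conj_le (Subgroup.le_normalizer : X ≤ _) hXp
    rwa [Helper18.conjSub_eq_of_mem_normalizer hx] at hle
  have hCRX : Subgroup.centralizer (R : Set G) ≤ Subgroup.centralizer (X : Set G) :=
    Subgroup.centralizer_le hXR
  -- (ii) `N_G(X) = N_M(X) C_G(X)`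
  have hdecomp : ∀ n ∈ Subgroup.normalizer (X : Set G),
      ∃ m ∈ M, ∃ c ∈ Subgroup.centralizer (X : Set G), n = m * c := by
    intro n hn
    obtain ⟨r, hr, c₁, hc₁, hu⟩ := frattini_aut hG p hp2 X hXp hX1 hXr R hR n hn
    have huR : Helper18.conjSub (r * c₁ * n) R ≤ M := by
      rw [Helper18.conjSub_eq_of_mem_normalizer hu]; exact hRM
    obtain ⟨m₂, hm₂, c₂, hc₂, hmc⟩ := IH R hRcard hR.isPGroup hRM _ huR
    have hm₃L : r⁻¹ * m₂ ∈ Subgroup.normalizer (X : Set G) := by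
      have e : r⁻¹ * m₂ = c₁ * n * c₂⁻¹ := by
        have : m₂ = r * c₁ * n * c₂⁻¹ := by rw [hmc]; group
        rw [this]; group
      rw [e]
      exact Subgroup.mul_mem _ (Subgroup.mul_mem _ (hCL hc₁) hn)
        (Subgroup.inv_mem _ (hCL (hCRX hc₂)))
    have hm₃N := normalizer_le_normalizer_centralizer X hm₃L
    have h1 : (r⁻¹ * m₂)⁻¹ * c₁⁻¹ * (r⁻¹ * m₂) ∈ Subgroup.centralizer (X : Set G) := by
      have := (Subgroup.mem_normalizer_iff.mp (Subgroup.inv_mem _ hm₃N) c₁⁻¹).mp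
        (Subgroup.inv_mem _ hc₁)
      simpa using this
    refine ⟨r⁻¹ * m₂, M.mul_mem (M.inv_mem (hRM hr)) hm₂,
      (r⁻¹ * m₂)⁻¹ * c₁⁻¹ * (r⁻¹ * m₂) * c₂, Subgroup.mul_mem _ h1 (hCRX hc₂), ?_⟩
    have : n = c₁⁻¹ * r⁻¹ * (m₂ * c₂) := by rw [← hmc]; group
    rw [this]; group
  -- (iii) the conjugate `X' = gXg⁻¹`
  obtain ⟨S₂, hS₂, hX'S₂⟩ := exists_good_ge hS₀ _ hgX (Helper18.conjSub_isPGroup hXp)
  obtain ⟨T', hT'def⟩ : ∃ T' : Subgroup G,
      T' = S₂ ⊓ Subgroup.normalizer ((Helper18.conjSub g X : Subgroup G) : Set G) := ⟨_, rfl⟩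
  have hX'T' : Helper18.conjSub g X ≤ T' := hT'def ▸ le_inf hX'S₂ Subgroup.le_normalizer
  have hT'S₂ : T' ≤ S₂ := hT'def ▸ inf_le_left
  have hT'p : IsPGroup p T' := hS₂.1.isPGroup.to_le hT'S₂
  have hT'M : T' ≤ M := hT'S₂.trans hS₂.1.le
  have hT'card : Nat.card X < Nat.card T' :=
    hT'def ▸ hgrow _ S₂ hS₂ hX'S₂ (Helper18.card_conjSub g X)
  have hT'L : Helper18.conjSub g⁻¹ T' ≤ Subgroup.normalizer (X : Set G) := by
    rintro _ ⟨t, ht, rfl⟩
    have ht' : t ∈ Subgroup.normalizer ((Helper18.conjSub g X : Subgroup G) : Set G) :=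
      (hT'def ▸ ht : t ∈ S₂ ⊓ _).2
    have := mem_normalizer_conj ht'
    simpa [MulAut.conj_apply] using this
  obtain ⟨l, hl, hlT'⟩ := hR.exists_conj_le hT'L (Helper18.conjSub_isPGroup hT'p)
  rw [Helper18.conjSub_mul] at hlT'
  obtain ⟨m₁, hm₁, c₁, hc₁, hlg⟩ := IH T' hT'card hT'p hT'M _ (hlT'.trans hRM)
  have hc₁X' : c₁ ∈ Subgroup.centralizer ((Helper18.conjSub g X : Subgroup G) : Set G) :=
    Subgroup.centralizer_le hX'T' hc₁
  have hc₃ := centralizer_conj hc₁X'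
  obtain ⟨m₂, hm₂, c₂, hc₂, hl2⟩ := hdecomp l hl
  refine ⟨m₁⁻¹ * m₂, M.mul_mem (M.inv_mem hm₁) hm₂, c₂ * (g⁻¹ * c₁ * g)⁻¹,
    Subgroup.mul_mem _ hc₂ (Subgroup.inv_mem _ hc₃), ?_⟩
  have e1 : l = m₁ * c₁ * g := by
    have : l * g⁻¹ * g = m₁ * c₁ * g := by rw [hlg]
    simpa using this
  have e2 : m₂ * c₂ = m₁ * c₁ * g := by rw [← hl2, e1]
  have e3 : m₁⁻¹ * m₂ * (c₂ * (g⁻¹ * c₁ * g)⁻¹) = m₁⁻¹ * (m₂ * c₂) * (g⁻¹ * c₁ * g)⁻¹ := by group
  rw [e3, e2]
  group


/-- a good Sylow subgroup from `p ∈ σ(M)` -/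
theorem exists_good_of_sigma (M : Subgroup G) (p : ℕ) [Fact p.Prime] (hp : p ∈ Cfsg.sigma M) :
    ∃ S : Subgroup G, Good M p S := by
  obtain ⟨-, -, P, hP⟩ := hp
  exact ⟨_, good_of_sigma M p _ (isSylowIn_of_sylow P) hP⟩

/-- **B & G, Theorem 10.1** -/
theorem sigma_fusion (hG : Cfsg.IsMinSimpleOddOrder G) (M : Subgroup G) (hM : IsCoatom M)
    (p : ℕ) [hp : Fact p.Prime] (hpσ : p ∈ Cfsg.sigma M) (X : Subgroup G) (hXp : IsPGroup p X)
    (hX1 : X ≠ ⊥) (hXM : X ≤ M) :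
    (∀ g : G, Helper18.conjSub g X ≤ M →
      ∃ m ∈ M, ∃ c ∈ Subgroup.centralizer (X : Set G), g = m * c) ∧
    Subgroup.normalizer (X : Set G) =
      (M ⊓ Subgroup.normalizer (X : Set G)) ⊔ Subgroup.centralizer (X : Set G) := by
  obtain ⟨S₀, hS₀⟩ := exists_good_of_sigma M p hpσ
  have ha : ∀ g : G, Helper18.conjSub g X ≤ M →
      ∃ m ∈ M, ∃ c ∈ Subgroup.centralizer (X : Set G), g = m * c :=
    sigma_fusion_aux hG M hM p S₀ hS₀ _ X rfl hXp hX1 hXM
  refine ⟨ha, le_antisymm ?_ ?_⟩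
  · intro n hn
    have h1 : Helper18.conjSub n X ≤ M := by
      rw [Helper18.conjSub_eq_of_mem_normalizer hn]; exact hXM
    obtain ⟨m, hm, c, hc, rfl⟩ := ha n h1
    have hcN : c ∈ Subgroup.normalizer (X : Set G) := Subgroup.centralizer_le_normalizer _ hc
    have hmN : m ∈ Subgroup.normalizer (X : Set G) := by
      have := Subgroup.mul_mem _ hn (Subgroup.inv_mem _ hcN)
      simpa using this
    exact Subgroup.mul_mem _ (Subgroup.mem_sup_left (Subgroup.mem_inf.mpr ⟨hm, hmN⟩))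
      (Subgroup.mem_sup_right hc)
  · exact sup_le inf_le_right (Subgroup.centralizer_le_normalizer _)

end Cfsg.Agent.Lib.Helper11.BenderM
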