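import Mathlib

set_option autoImplicit false

namespace Cfsg.Agent.Lib.Helper11

open scoped Pointwise commutatorElement

/-- Transfer into a normal subgroup `H` computed along a complement `K`. -/
theorem transfer_complement {G : Type*} [Group G] {H : Subgroup G} [H.Normal] [H.FiniteIndex]
    {A : Type*} [CommGroup A] (ϕ : H →* A) (K : Subgroup G)
    (hK : Subgroup.IsComplement' K H) (h : H) :
    ∃ (s : Finset (G ⧸ H)) (f : G ⧸ H → G), s.card = H.index ∧ (∀ q, f q ∈ K) ∧
      ∃ hm : ∀ q, ⁅(h : G)⁻¹, (f q)⁻¹⁆ ∈ H,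
        MonoidHom.transfer ϕ (h : G) = ϕ h ^ H.index * ∏ q ∈ s, ϕ ⟨_, hm q⟩ := by
  classical
  let T : H.LeftTransversal := ⟨(K : Set G), hK⟩
  let _ := H.fintypeQuotientOfFiniteIndex
  have hm : ∀ q : G ⧸ H, ⁅(h : G)⁻¹, ((T.2.leftQuotientEquiv q : G))⁻¹⁆ ∈ H := by
    intro q
    rw [commutatorElement_def]
    have h1 : (T.2.leftQuotientEquiv q : G)⁻¹ * (h : G) * (T.2.leftQuotientEquiv q : G) ∈ H :=
      Subgroup.Normal.conj_mem' inferInstance _ h.2 _
    have h2 := H.mul_mem (H.inv_mem h.2) h1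
    convert h2 using 1
    group
  have hfix : ∀ q : G ⧸ H, (h : G)⁻¹ • q = q := by
    intro q
    induction q using Quotient.inductionOn' with
    | h g =>
      change (((h : G)⁻¹ * g : G) : G ⧸ H) = (g : G ⧸ H)
      rw [QuotientGroup.eq]
      have h1 : g⁻¹ * (h : G) * g ∈ H := Subgroup.Normal.conj_mem' inferInstance _ h.2 _
      convert h1 using 1
      group
  refine ⟨Finset.univ, fun q => (T.2.leftQuotientEquiv q : G), ?_, ?_, hm, ?_⟩
  · rw [Finset.card_univ, Subgroup.index_eq_card, Nat.card_eq_fintype_card]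
  · intro q
    exact (T.2.leftQuotientEquiv q).2
  · rw [MonoidHom.transfer_def ϕ T]
    unfold Subgroup.leftTransversals.diff
    have hc : H.index = (Finset.univ : Finset (G ⧸ H)).card := by
      rw [Finset.card_univ, Subgroup.index_eq_card, Nat.card_eq_fintype_card]
    rw [hc, ← Finset.prod_const, ← Finset.prod_mul_distrib]
    apply Finset.prod_congr rfl
    intro q _
    rw [← map_mul]
    congr 1
    apply Subtype.ext
    simp only [Subgroup.smul_apply_eq_smul_apply_inv_smul, hfix, Subgroup.coe_mul, smul_eq_mul,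
      commutatorElement_def]
    group

/-- If the transfer formula holds and `h` centralises `K`, the transfer is a power. -/
theorem transfer_complement_of_commute {G : Type*} [Group G] {H : Subgroup G} [H.Normal]
    [H.FiniteIndex] {A : Type*} [CommGroup A] (ϕ : H →* A) (K : Subgroup G)
    (hK : Subgroup.IsComplement' K H) (h : H) (hc : ∀ k ∈ K, k * (h : G) = (h : G) * k) :
    MonoidHom.transfer ϕ (h : G) = ϕ h ^ H.index := by
  obtain ⟨s, f, -, hf, hm, heq⟩ := transfer_complement ϕ K hK h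
  rw [heq]
  have : ∀ q ∈ s, ϕ ⟨_, hm q⟩ = 1 := by
    intro q _
    have h1 : (⟨_, hm q⟩ : H) = 1 := by
      apply Subtype.ext
      change ⁅(h : G)⁻¹, (f q)⁻¹⁆ = 1
      rw [commutatorElement_eq_one_iff_commute]
      have h2 : Commute (f q) (h : G) := hc _ (hf q)
      exact (h2.inv_left.inv_right).symm
    rw [h1, map_one]
  rw [Finset.prod_eq_one this, mul_one]

theorem transfer_complement_mem {G : Type*} [Group G] {H : Subgroup G} [H.Normal]
    [H.FiniteIndex] {A : Type*} [CommGroup A] (ϕ : H →* A) (K : Subgroup G)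
    (hK : Subgroup.IsComplement' K H) (h : H) :
    ∃ c ∈ (⁅H, K⁆.subgroupOf H).map ϕ, MonoidHom.transfer ϕ (h : G) = ϕ h ^ H.index * c := by
  obtain ⟨s, f, -, hf, hm, heq⟩ := transfer_complement ϕ K hK h
  refine ⟨_, ?_, heq⟩
  apply Subgroup.prod_mem
  intro q _
  refine Subgroup.mem_map_of_mem _ ?_
  rw [Subgroup.mem_subgroupOf]
  exact Subgroup.commutator_mem_commutator (H.inv_mem h.2) (K.inv_mem (hf q))

/-- An element whose `n`-th and `m`-th powers lie in a subgroup, `n, m` coprime, lies in it. -/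
theorem mem_of_pow_mem_of_coprime {A : Type*} [Group A] (B : Subgroup A) {a : A} {n m : ℕ}
    (hnm : n.Coprime m) (hn : a ^ n ∈ B) (hm : a ^ m ∈ B) : a ∈ B := by
  have h1 : a ^ (n.gcd m : ℤ) ∈ B := by
    rw [Nat.gcd_eq_gcd_ab, zpow_add, zpow_mul, zpow_mul, zpow_natCast, zpow_natCast]
    exact B.mul_mem (B.zpow_mem hn _) (B.zpow_mem hm _)
  rw [hnm] at h1
  simpa using h1

end Cfsg.Agent.Lib.Helper11
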