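import Mathlib
import Cfsg.Agent.Lib.Helper11.TransferCompl
import Cfsg.Agent.Lib.Helper18.PPrimeCore

set_option autoImplicit false

namespace Cfsg.Agent.Lib.Helper11

open scoped commutatorElement

variable {G : Type*} [Group G]

theorem commutator_le_comap_conj_left (H K : Subgroup G) {a : G} (ha : a ∈ H) :
    ⁅H, K⁆ ≤ (⁅H, K⁆).comap (MulAut.conj a).toMonoidHom := by
  rw [Subgroup.commutator_le]
  intro h hh k hk
  rw [Subgroup.mem_comap]
  change a * ⁅h, k⁆ * a⁻¹ ∈ _
  have h1 : a * ⁅h, k⁆ * a⁻¹ = ⁅a * h, k⁆ * ⁅a, k⁆⁻¹ := by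
    simp only [commutatorElement_def]
    group
  rw [h1]
  exact Subgroup.mul_mem _ (Subgroup.commutator_mem_commutator (H.mul_mem ha hh) hk)
    (Subgroup.inv_mem _ (Subgroup.commutator_mem_commutator ha hk))

theorem le_normalizer_commutator_left (H K : Subgroup G) :
    H ≤ Subgroup.normalizer ((⁅H, K⁆ : Subgroup G) : Set G) := by
  intro a ha
  rw [Subgroup.mem_normalizer_iff]
  intro x
  constructor
  · intro hx
    exact commutator_le_comap_conj_left H K ha hx
  · intro hx
    have h1 := commutator_le_comap_conj_left H K (H.inv_mem ha) hx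
    rw [Subgroup.mem_comap] at h1
    change a⁻¹ * (a * x * a⁻¹) * a⁻¹⁻¹ ∈ _ at h1
    convert h1 using 1
    group

/-- A solvable group that is generated by a normal subgroup and its derived subgroup equals that
normal subgroup. -/
theorem eq_top_of_sup_commutator_eq_top {H : Type*} [Group H] [Group.IsSolvable H] (N : Subgroup H)
    [N.Normal] (h : N ⊔ commutator H = ⊤) : N = ⊤ := by
  by_contra hN
  have hnt : Nontrivial (H ⧸ N) := QuotientGroup.nontrivial_iff.mpr hN
  have hlt := Group.IsSolvable.commutator_lt_top_of_nontrivial (H ⧸ N)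
  apply hlt.ne
  have h1 : (commutator H).map (QuotientGroup.mk' N) = commutator (H ⧸ N) := by
    rw [commutator_def, Subgroup.map_commutator,
      Subgroup.map_top_of_surjective _ (QuotientGroup.mk'_surjective N), commutator_def]
  rw [← h1]
  have h2 : (N ⊔ commutator H).map (QuotientGroup.mk' N) = ⊤ := by
    rw [h, Subgroup.map_top_of_surjective _ (QuotientGroup.mk'_surjective N)]
  rw [Subgroup.map_sup] at h2
  have h3 : N.map (QuotientGroup.mk' N) = ⊥ := by
    rw [Subgroup.map_eq_bot_iff, QuotientGroup.ker_mk']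
  rw [h3, bot_sup_eq] at h2
  exact h2

theorem hall_inf_centralizer_le [Finite G] (H K : Subgroup G) [H.Normal]
    (hcop : (Nat.card H).Coprime H.index) (hc : Subgroup.IsComplement' H K) :
    H ⊓ Subgroup.centralizer (K : Set G) ⊓ commutator G ≤ ⁅H, H⁆ := by
  rintro x ⟨⟨hxH, hxC⟩, hxG⟩
  let ϕ : H →* Abelianization H := Abelianization.of
  have ht : MonoidHom.transfer ϕ x = 1 :=
    MonoidHom.mem_ker.mp (Abelianization.commutator_subset_ker (MonoidHom.transfer ϕ) hxG)
  have h1 := transfer_complement_of_commute ϕ K hc.symm ⟨x, hxH⟩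
    (fun k hk => (Subgroup.mem_centralizer_iff.mp hxC) k hk)
  rw [ht] at h1
  have h2 : ϕ ⟨x, hxH⟩ ^ Nat.card H = 1 := by
    rw [← map_pow, pow_card_eq_one', map_one]
  have h3 : ϕ ⟨x, hxH⟩ ∈ (⊥ : Subgroup (Abelianization H)) :=
    mem_of_pow_mem_of_coprime ⊥ hcop (by rw [h2]; exact Subgroup.one_mem _)
      (by rw [← h1]; exact Subgroup.one_mem _)
  rw [Subgroup.mem_bot] at h3
  have h4 : (⟨x, hxH⟩ : H) ∈ commutator H := by
    rw [← Abelianization.ker_of, MonoidHom.mem_ker]
    exact h3
  rw [← Subgroup.map_subtype_commutator]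
  exact ⟨⟨x, hxH⟩, h4, rfl⟩

theorem hall_commutator_sup_eq_top [Finite G] (H K : Subgroup G) [H.Normal]
    (hcop : (Nat.card H).Coprime H.index) (hc : Subgroup.IsComplement' H K)
    (hle : H ≤ commutator G) :
    (⁅H, K⁆.subgroupOf H) ⊔ commutator H = ⊤ := by
  rw [eq_top_iff]
  intro x _
  let ϕ : H →* Abelianization H := Abelianization.of
  have ht : MonoidHom.transfer ϕ (x : G) = 1 :=
    MonoidHom.mem_ker.mp (Abelianization.commutator_subset_ker (MonoidHom.transfer ϕ) (hle x.2))
  obtain ⟨c, hcB, heq⟩ := transfer_complement_mem ϕ K hc.symm x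
  rw [ht] at heq
  have h1 : ϕ x ^ H.index ∈ (⁅H, K⁆.subgroupOf H).map ϕ := by
    have : ϕ x ^ H.index = c⁻¹ := eq_inv_of_mul_eq_one_left heq.symm
    rw [this]
    exact Subgroup.inv_mem _ hcB
  have h2 : ϕ x ^ Nat.card H ∈ (⁅H, K⁆.subgroupOf H).map ϕ := by
    rw [← map_pow, pow_card_eq_one', map_one]
    exact Subgroup.one_mem _
  obtain ⟨y, hy, hyx⟩ := mem_of_pow_mem_of_coprime _ hcop h2 h1
  have h3 : y⁻¹ * x ∈ commutator H := by
    rw [← Abelianization.ker_of, MonoidHom.mem_ker, map_mul, map_inv]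
    change (ϕ y)⁻¹ * ϕ x = 1
    rw [hyx, inv_mul_cancel]
  have h4 : x = y * (y⁻¹ * x) := by group
  rw [h4]
  exact Subgroup.mul_mem_sup hy h3

theorem hall_eq_commutator [Finite G] [Group.IsSolvable G] (H K : Subgroup G) [H.Normal]
    (hcop : (Nat.card H).Coprime H.index) (hc : Subgroup.IsComplement' H K)
    (hle : H ≤ commutator G) : H = ⁅H, K⁆ := by
  apply le_antisymm _ (Subgroup.commutator_le_left H K)
  have hn : (⁅H, K⁆.subgroupOf H).Normal :=
    (Subgroup.normal_subgroupOf_iff_le_normalizer (Subgroup.commutator_le_left H K)).mpr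
      (le_normalizer_commutator_left H K)
  have h1 := eq_top_of_sup_commutator_eq_top _ (hall_commutator_sup_eq_top H K hcop hc hle)
  exact Subgroup.subgroupOf_eq_top.mp h1

theorem commutator_le_of_cyclic_quotient (N : Subgroup G) [N.Normal] [IsCyclic (G ⧸ N)] :
    commutator G ≤ ⁅N, (⊤ : Subgroup G)⁆ := by
  have hLN : ⁅N, (⊤ : Subgroup G)⁆ ≤ N := Subgroup.commutator_le_left N ⊤
  let f : G ⧸ ⁅N, (⊤ : Subgroup G)⁆ →* G ⧸ N :=
    QuotientGroup.map _ N (MonoidHom.id G) (by simpa using hLN)
  have hker : f.ker ≤ Subgroup.center (G ⧸ ⁅N, (⊤ : Subgroup G)⁆) := by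
    intro x hx
    induction x using QuotientGroup.induction_on with
    | H g =>
      rw [MonoidHom.mem_ker] at hx
      have hg : g ∈ N := by
        have : ((g : G) : G ⧸ N) = 1 := hx
        rwa [QuotientGroup.eq_one_iff] at this
      rw [Subgroup.mem_center_iff]
      intro y
      induction y using QuotientGroup.induction_on with
      | H y =>
        rw [← QuotientGroup.mk_mul, ← QuotientGroup.mk_mul, QuotientGroup.eq]
        have h1 : (y * g)⁻¹ * (g * y) = ⁅g⁻¹, y⁻¹⁆ := by
          rw [commutatorElement_def]; group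
        rw [h1]
        exact Subgroup.commutator_mem_commutator (N.inv_mem hg) (Subgroup.mem_top _)
  have hcomm := isMulCommutative_iff.mp (MonoidHom.isMulCommutative_of_isCyclic_of_ker_le_center f hker)
  rw [commutator_def, Subgroup.commutator_le]
  intro a _ b _
  rw [← QuotientGroup.eq_one_iff, commutatorElement_def]
  have h1 := hcomm (a : G ⧸ ⁅N, (⊤ : Subgroup G)⁆) (b : G ⧸ ⁅N, (⊤ : Subgroup G)⁆)
  rw [QuotientGroup.mk_mul, QuotientGroup.mk_mul, QuotientGroup.mk_mul, QuotientGroup.mk_inv,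
    QuotientGroup.mk_inv, h1]
  group

theorem le_lowerCentralSeries_of_le (N : Subgroup G) (h : N ≤ ⁅N, (⊤ : Subgroup G)⁆) (n : ℕ) :
    N ≤ Subgroup.lowerCentralSeries (⊤ : Subgroup G) n := by
  induction n with
  | zero => simp
  | succ n ih =>
    rw [Subgroup.lowerCentralSeries_succ]
    exact h.trans (Subgroup.commutator_mono ih le_rfl)

theorem pPrimeCore_characteristic' {X : Type*} [Group X] (p : ℕ) :
    (Cfsg.pPrimeCore p X).Characteristic := by
  rw [Subgroup.characteristic_iff_map_le]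
  intro φ
  rw [Subgroup.map_le_iff_le_comap]
  apply sSup_le
  rintro K ⟨hKn, hKc⟩
  rw [← Subgroup.map_le_iff_le_comap]
  apply le_sSup
  refine ⟨hKn.map φ.toMonoidHom φ.surjective, ?_⟩
  rw [Subgroup.card_map_of_injective φ.injective]
  exact hKc

theorem index_pPrimeCore_of_nilpotent {X : Type*} [Group X] [Finite X] [Group.IsNilpotent X]
    (p : ℕ) [Fact p.Prime] : ∃ k : ℕ, (Cfsg.pPrimeCore p X).index = p ^ k := by
  refine ⟨_, Nat.eq_prime_pow_of_unique_prime_dvd Subgroup.index_ne_zero_of_finite ?_⟩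
  intro q hq hqd
  by_contra hne
  have : Fact q.Prime := ⟨hq⟩
  obtain ⟨Q⟩ : Nonempty (Sylow q X) := inferInstance
  have hQn : (Q : Subgroup X).Normal := inferInstance
  have hcard : (Nat.card (Q : Subgroup X)).Coprime p := by
    rw [Sylow.card_eq_multiplicity]
    apply Nat.Coprime.pow_left
    exact (Nat.coprime_primes hq (Fact.out : p.Prime)).mpr hne
  have hle : (Q : Subgroup X) ≤ Cfsg.pPrimeCore p X :=
    Cfsg.Agent.Lib.Helper18.le_pPrimeCore_h18 hQn hcard
  have h1 : (Cfsg.pPrimeCore p X).index ∣ (Q : Subgroup X).index := Subgroup.index_dvd_of_le hle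
  exact Q.not_dvd_index (dvd_trans hqd h1)

/-- If `G'` is nilpotent of prime index, then its order is coprime to its index. -/
theorem card_commutator_coprime_index [Finite G] (hnil : Group.IsNilpotent ↥(commutator G))
    (hp : (commutator G).index.Prime) :
    (Nat.card ↥(commutator G)).Coprime (commutator G).index := by
  set r := (commutator G).index with hr
  have : Fact r.Prime := ⟨hp⟩
  set N : Subgroup G := commutator G with hN
  have hchar : (Cfsg.pPrimeCore r ↥N).Characteristic := pPrimeCore_characteristic' r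
  set M : Subgroup G := (Cfsg.pPrimeCore r ↥N).map N.subtype with hM
  have hMn : M.Normal := ConjAct.normal_of_characteristic_of_normal
  have hMN : M ≤ N := Subgroup.map_subtype_le _
  have hMc : (Nat.card M).Coprime r := by
    rw [hM, Subgroup.card_map_of_injective N.subtype_injective]
    exact Cfsg.Agent.Lib.Helper18.pPrimeCore_card_coprime_h18 r
  obtain ⟨k, hk⟩ := index_pPrimeCore_of_nilpotent (X := ↥N) r
  have hMi : M.index = r ^ (k + 1) := by
    rw [← Subgroup.relIndex_mul_index hMN, ← hr, Subgroup.relIndex, ← Subgroup.comap_subtype, hM,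
      Subgroup.comap_map_eq_self_of_injective N.subtype_injective, hk, pow_succ]
  have hPG : IsPGroup r (G ⧸ M) := by
    apply IsPGroup.of_card (n := k + 1)
    rw [← Subgroup.index_eq_card, hMi]
  have hnilQ : Group.IsNilpotent (G ⧸ M) := hPG.isNilpotent
  obtain ⟨n, hn⟩ := Subgroup.nilpotent_iff_lowerCentralSeries.mp hnilQ
  have hcyc : IsCyclic (G ⧸ N) := by
    apply isCyclic_of_prime_card (p := r)
    rw [← Subgroup.index_eq_card]
  have h1 : N ≤ ⁅N, (⊤ : Subgroup G)⁆ := commutator_le_of_cyclic_quotient N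
  have h2 := le_lowerCentralSeries_of_le N h1 n
  have h3 : Subgroup.lowerCentralSeries (⊤ : Subgroup G) n ≤ M := by
    have h4 := Subgroup.map_lowerCentralSeries (⊤ : Subgroup G) (QuotientGroup.mk' M) n
    rw [Subgroup.map_top_of_surjective _ (QuotientGroup.mk'_surjective M), hn,
      Subgroup.map_eq_bot_iff, QuotientGroup.ker_mk'] at h4
    exact h4
  have h5 : Nat.card N ∣ Nat.card M := Subgroup.card_dvd_of_le (h2.trans h3)
  exact Nat.Coprime.coprime_dvd_left h5 hMc

end Cfsg.Agent.Lib.Helper11
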