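import Mathlib
import Cfsg.Agent.Lib.Helper11.BenderM
import Cfsg.Agent.Lib.Helper11.HallCommutator
import Cfsg.Agent.Lib.Helper11.RankTwoSolvable
import Cfsg.Agent.S1450

set_option autoImplicit false
open scoped commutatorElement

namespace Cfsg.Agent.Lib.Helper11.BenderN

open Cfsg.Agent.Lib.Helper11 Cfsg.Agent.Lib.Helper11.MaxLocA Cfsg.Agent.Lib.Helper11.MaxLocB
  Cfsg.Agent.Lib.Helper11.MaxSubA Cfsg.Agent.Lib.Helper11.MaxSubB Cfsg.Agent.Lib.Helper11.MaxSubC
  Cfsg.Agent.Lib.Helper11.MaxSubD Cfsg.Agent.Lib.Helper11.MaxSubE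
  Cfsg.Agent.Lib.Helper18 Cfsg.Agent.Lib.Helper11.BenderD Cfsg.Agent.Lib.Helper11.BenderE
  Cfsg.Agent.Lib.Helper11.BenderF Cfsg.Agent.Lib.Helper11.BenderL Cfsg.Agent.Lib.Helper11.BenderM

/-- **normal Hall subgroups from small ranks**: if `Γ` is solvable of odd order, has `q`-rank at
most two for every prime `q` outside `π`, and its Sylow `p`-subgroups for `p ∈ π` lie in the
derived subgroup, then `O_π(Γ)` contains every Sylow `p`-subgroup for `p ∈ π` -/
theorem sylow_le_piCore {Γ : Type*} [Group Γ] [Finite Γ] [Group.IsSolvable Γ]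
    (hodd : Odd (Nat.card Γ)) (π : Set ℕ)
    (h1 : ∀ q : ℕ, q.Prime → q ∉ π → Cfsg.PRankLE q 2 Γ)
    (p : ℕ) [hp : Fact p.Prime] (hpπ : p ∈ π) (P : Sylow p Γ)
    (h2 : (P : Subgroup Γ) ≤ commutator Γ) : (P : Subgroup Γ) ≤ Cfsg.piCore π Γ := by
  classical
  -- subgroups of the derived subgroup of order prime to `q` lie in its `q'`-core
  have hcore : ∀ q : ℕ, q.Prime → q ∉ π → ∀ L : Subgroup ↥(commutator Γ),
      (Nat.card L).Coprime q → L ≤ Cfsg.pPrimeCore q ↥(commutator Γ) := by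
    intro q hq hqπ L hL
    have : Fact q.Prime := ⟨hq⟩
    by_cases hqd : q ∣ Nat.card Γ
    · exact (Cfsg.Agent.S1450.result hodd q hqd (h1 q hq hqπ)).2.2.2.1 L hL
    · have htop : (⊤ : Subgroup ↥(commutator Γ)) ≤ Cfsg.pPrimeCore q ↥(commutator Γ) := by
        apply Cfsg.Agent.Lib.Helper18.le_pPrimeCore_h18 inferInstance
        rw [Subgroup.card_top]
        apply Nat.Coprime.symm
        rw [Nat.Prime.coprime_iff_not_dvd hq]
        intro hd
        exact hqd (hd.trans (Subgroup.card_subgroup_dvd_card _))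
      exact le_top.trans htop
  obtain ⟨H, hH⟩ : ∃ H : Subgroup ↥(commutator Γ),
      H = ⨅ q : {q : ℕ // q.Prime ∧ q ∉ π}, Cfsg.pPrimeCore q.1 ↥(commutator Γ) := ⟨_, rfl⟩
  have hHchar : H.Characteristic := by
    rw [Subgroup.characteristic_iff_map_le]
    intro φ
    rintro _ ⟨x, hx, rfl⟩
    have hx : x ∈ H := hx
    rw [hH, Subgroup.mem_iInf] at hx ⊢
    intro q
    have hc : (Cfsg.pPrimeCore q.1 ↥(commutator Γ)).Characteristic :=
      Cfsg.Agent.Lib.Helper11.pPrimeCore_characteristic' q.1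
    have := (Subgroup.characteristic_iff_map_le.mp hc) φ
    exact this ⟨x, hx q, rfl⟩
  have hHn : (H.map (commutator Γ).subtype).Normal :=
    ConjAct.normal_of_characteristic_of_normal
  have hHπ : ∀ r : ℕ, r.Prime → r ∣ Nat.card (H.map (commutator Γ).subtype) → r ∈ π := by
    intro r hr hrd
    by_contra hrπ
    rw [Subgroup.card_map_of_injective (Subgroup.subtype_injective _)] at hrd
    have hle : H ≤ Cfsg.pPrimeCore r ↥(commutator Γ) := by
      rw [hH]
      exact iInf_le _ (⟨r, hr, hrπ⟩ : {q : ℕ // q.Prime ∧ q ∉ π})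
    have hcop := Cfsg.Agent.Lib.Helper18.pPrimeCore_card_coprime_h18
      (G := ↥(commutator Γ)) r
    have h3 : r ∣ Nat.card (Cfsg.pPrimeCore r ↥(commutator Γ)) :=
      hrd.trans (Subgroup.card_dvd_of_le hle)
    have := Nat.Coprime.eq_one_of_dvd hcop.symm h3
    exact hr.one_lt.ne' this
  have hHle : H.map (commutator Γ).subtype ≤ Cfsg.piCore π Γ := le_sSup ⟨hHn, hHπ⟩
  refine le_trans ?_ hHle
  intro x hx
  refine ⟨⟨x, h2 hx⟩, ?_, rfl⟩
  show (⟨x, h2 hx⟩ : ↥(commutator Γ)) ∈ H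
  rw [hH, Subgroup.mem_iInf]
  intro q
  have hq : q.1.Prime := q.2.1
  have hLc : (Nat.card ((P : Subgroup Γ).subgroupOf (commutator Γ))).Coprime q.1 := by
    rw [Nat.card_congr (Subgroup.subgroupOfEquivOfLe h2).toEquiv, P.card_eq_multiplicity]
    apply Nat.Coprime.pow_left
    rw [Nat.coprime_primes hp.out hq]
    rintro rfl
    exact q.2.2 hpπ
  exact hcore q.1 hq q.2.2 _ hLc (Subgroup.mem_subgroupOf.mpr hx)


variable {G : Type*} [Group G] [Finite G]

omit [Finite G] in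
/-- a minimal simple group is perfect -/
theorem commutator_eq_top (hG : Cfsg.IsMinSimpleOddOrder G) : commutator G = ⊤ := by
  have hsimple : IsSimpleGroup G := hG.2.1
  rcases (inferInstance : (commutator G).Normal).eq_bot_or_eq_top with h | h
  · exfalso
    apply hG.2.2.1
    refine ⟨⟨fun a b => ?_⟩⟩
    have h1 : ⁅a, b⁆ ∈ commutator G :=
      Subgroup.commutator_mem_commutator (Subgroup.mem_top a) (Subgroup.mem_top b)
    rw [h, Subgroup.mem_bot, commutatorElement_eq_one_iff_mul_comm] at h1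
    exact h1
  · exact h

/-- **the Sylow `p`-subgroups of `M` for `p ∈ σ(M)` lie in `M'`** (focal subgroup theorem and
Theorem 10.1) -/
theorem sylow_le_derived (hG : Cfsg.IsMinSimpleOddOrder G) (M : Subgroup G) (hM : IsCoatom M)
    (p : ℕ) [hp : Fact p.Prime] (S : Subgroup G) (hS : Good M p S) : S ≤ ⁅M, M⁆ := by
  have hidx : ¬ p ∣ S.index := by
    have := hS.2.2.not_dvd
    rwa [Subgroup.relIndex_top_right] at this
  obtain ⟨P, hP⟩ : ∃ P : Sylow p G, (P : Subgroup G) = S := ⟨hS.1.isPGroup.toSylow hidx, rfl⟩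
  have hfoc := Subgroup.commutator_inf_eq_focalSubgroup P
  rw [commutator_eq_top hG, top_inf_eq, hP] at hfoc
  rw [hfoc, Subgroup.focalSubgroup_def, Subgroup.closure_le]
  rintro g ⟨hgS, x, hxS, u, rfl⟩
  by_cases hx1 : x = 1
  · rw [hx1]
    simp
  -- `u x u⁻¹ ∈ S`
  have hconj : u * x * u⁻¹ ∈ S := by
    have h1 : x⁻¹ * ⁅x, u⁆ ∈ S := S.mul_mem (S.inv_mem hxS) hgS
    have e : x⁻¹ * ⁅x, u⁆ = (u * x * u⁻¹)⁻¹ := by
      rw [commutatorElement_def]; group
    rw [e] at h1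
    simpa using S.inv_mem h1
  have hXp : IsPGroup p (Subgroup.zpowers x) :=
    hS.1.isPGroup.to_le (Subgroup.zpowers_le.mpr hxS)
  have hX1 : Subgroup.zpowers x ≠ ⊥ := by
    intro h
    exact hx1 (Subgroup.zpowers_eq_bot.mp h)
  have hXM : Subgroup.zpowers x ≤ M := (Subgroup.zpowers_le.mpr hxS).trans hS.1.le
  have hgX : Helper18.conjSub u (Subgroup.zpowers x) ≤ M := by
    rintro _ ⟨y, hy, rfl⟩
    obtain ⟨i, rfl⟩ := Subgroup.mem_zpowers_iff.mp hy
    have : (MulAut.conj u).toMonoidHom (x ^ i) = (u * x * u⁻¹) ^ i := by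
      simp [MulAut.conj_apply, conj_zpow]
    rw [this]
    exact hS.1.le (S.zpow_mem hconj i)
  obtain ⟨m, hm, c, hc, rfl⟩ := sigma_fusion_aux hG M hM p S hS _ _ rfl hXp hX1 hXM u hgX
  have hcx : c * x = x * c :=
    ((Subgroup.mem_centralizer_iff.mp hc) x (Subgroup.mem_zpowers x)).symm
  have e : ⁅x, m * c⁆ = ⁅x, m⁆ := by
    rw [commutatorElement_def, commutatorElement_def]
    have h1 : x * (m * c) * x⁻¹ * (m * c)⁻¹ = x * m * (c * x⁻¹ * c⁻¹) * m⁻¹ := by group
    have h2 : c * x⁻¹ * c⁻¹ = x⁻¹ := by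
      have : c * x⁻¹ = x⁻¹ * c := by
        have := congrArg (fun t => x⁻¹ * t * x⁻¹) hcx
        simpa [mul_assoc] using this.symm
      rw [this]; group
    rw [h1, h2]
  rw [e]
  exact Subgroup.commutator_mem_commutator (hS.1.le hxS) hm


/-- Sylow `p`-subgroups of `M` for `p ∈ α(M)` are good: uniqueness subgroups with normalizer in `M` -/
theorem good_of_alpha (hG : Cfsg.IsMinSimpleOddOrder G) (M : Subgroup G) (hM : IsCoatom M)
    (p : ℕ) [hp : Fact p.Prime] (hpα : p ∈ Cfsg.alpha M) (P : Sylow p ↥M) :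
    Good M p ((P : Subgroup ↥M).map M.subtype) ∧ (P : Subgroup ↥M).map M.subtype ≠ ⊥ := by
  have hsimple : IsSimpleGroup G := hG.2.1
  have hS : IsSylowIn p ((P : Subgroup ↥M).map M.subtype) M := isSylowIn_of_sylow P
  obtain ⟨A₀, hA₀M, hA₀e, hA₀3⟩ :=
    Cfsg.Agent.Lib.Helper11.BenderF.exists_elemAb_of_not_pRankLE p M hpα.2
  have hA₀p : IsPGroup p A₀ := by
    rintro ⟨a, ha⟩
    exact ⟨1, Subtype.ext (by simpa using hA₀e.2 a ha)⟩
  obtain ⟨x, hx, hle⟩ := hS.exists_conj_le hA₀M hA₀p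
  have hr : ¬ Cfsg.PRankLE p 2 ↥((P : Subgroup ↥M).map M.subtype) :=
    Cfsg.Agent.Lib.Helper11.BenderB.not_pRankLE_of_le p _ _ hle (elemAb_conjSub p x hA₀e)
      (by rw [Helper18.card_conjSub]; exact hA₀3)
  have hS1 : (P : Subgroup ↥M).map M.subtype ≠ ⊥ := by
    intro h
    apply hr
    rw [h]
    intro A _ _
    have : Nat.card A = 1 := by
      have : Subsingleton ↥(⊥ : Subgroup G) := inferInstance
      have : Subsingleton A := ⟨fun a b => Subtype.ext (Subsingleton.elim _ _)⟩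
      exact Nat.card_eq_one_iff_unique.mpr ⟨this, ⟨1⟩⟩
    rw [this]
    exact Nat.one_le_pow _ _ hp.out.pos
  have hStop := pgroup_ne_top hG p _ hS.isPGroup
  obtain ⟨M', ⟨hM', hSM'⟩, huniq⟩ := rank3_unique hG _ hStop (fun h => hr (h p hp.out))
  have e : M = M' := huniq M ⟨hM, hS.le⟩
  have hN : Subgroup.normalizer (((P : Subgroup ↥M).map M.subtype : Subgroup G) : Set G) ≤ M :=
    le_of_unique hM hS.le (fun L hL hSL => by rw [huniq L ⟨hL, hSL⟩, ← e]) _
      (normalizer_ne_top_of_simple hS1 hStop) Subgroup.le_normalizer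
  exact ⟨good_of_sigma M p _ hS hN, hS1⟩

/-- `α(M) ⊆ σ(M)` -/
theorem alpha_sub_sigma (hG : Cfsg.IsMinSimpleOddOrder G) (M : Subgroup G) (hM : IsCoatom M)
    (p : ℕ) (hpα : p ∈ Cfsg.alpha M) : p ∈ Cfsg.sigma M := by
  have : Fact p.Prime := ⟨hpα.1⟩
  obtain ⟨P⟩ : Nonempty (Sylow p ↥M) := inferInstance
  obtain ⟨hgood, hS1⟩ := good_of_alpha hG M hM p hpα P
  refine ⟨hpα.1, ?_, P, hgood.2.1⟩
  obtain ⟨k, hk⟩ := IsPGroup.iff_card.mp hgood.1.isPGroup
  have hk0 : k ≠ 0 := by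
    rintro rfl
    rw [pow_zero] at hk
    exact hS1 (Subgroup.card_eq_one.mp hk)
  have h1 : p ∣ Nat.card ((P : Subgroup ↥M).map M.subtype) := by
    rw [hk]; exact dvd_pow_self p hk0
  exact h1.trans (Subgroup.card_dvd_of_le hgood.1.le)


/-- Sylow `p`-subgroups of `M` for `p ∈ α(M)` lie in `O_{α(M)}(M)` -/
theorem sylow_le_alphaCore (hG : Cfsg.IsMinSimpleOddOrder G) (M : Subgroup G) (hM : IsCoatom M)
    (p : ℕ) [hp : Fact p.Prime] (hpα : p ∈ Cfsg.alpha M) (P : Sylow p ↥M) :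
    (P : Subgroup ↥M) ≤ Cfsg.piCore (Cfsg.alpha M) ↥M := by
  have hMs : Group.IsSolvable ↥M := coatom_solvable hG M hM
  have hModd : Odd (Nat.card ↥M) := coatom_odd hG M
  apply sylow_le_piCore hModd (Cfsg.alpha M) ?_ p hpα P ?_
  · intro q hq hqα
    by_contra h
    exact hqα ⟨hq, h⟩
  · obtain ⟨hgood, -⟩ := good_of_alpha hG M hM p hpα P
    have h1 := sylow_le_derived hG M hM p _ hgood
    rw [← Subgroup.map_subtype_commutator] at h1
    intro x hx
    obtain ⟨y, hy, hxy⟩ := h1 ⟨x, hx, rfl⟩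
    have : y = x := Subtype.ext hxy
    rwa [this] at hy

/-- **B & G, Theorem 10.2(a)–(c)** -/
theorem alpha_hall (hG : Cfsg.IsMinSimpleOddOrder G) (M : Subgroup G) (hM : IsCoatom M) :
    Cfsg.IsPiHallOf (Cfsg.alpha M) (Cfsg.alphaCore M) M ∧
      Cfsg.IsPiHall (Cfsg.alpha M) (Cfsg.alphaCore M) ∧
      Cfsg.alphaCore M ≤ Cfsg.sigmaCore M ∧
      Cfsg.RankLE 2 (↥M ⧸ Cfsg.piCore (Cfsg.alpha M) ↥M) ∧
      Group.IsNilpotent ↥((commutator ↥M).map
        (QuotientGroup.mk' (Cfsg.piCore (Cfsg.alpha M) ↥M))) := by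
  have hMs : Group.IsSolvable ↥M := coatom_solvable hG M hM
  have hModd : Odd (Nat.card ↥M) := coatom_odd hG M
  have hpi := Cfsg.Agent.Lib.Helper11.piCore_piNum (G := ↥M) (Cfsg.alpha M)
  have hcardmap : Nat.card (Cfsg.alphaCore M) = Nat.card (Cfsg.piCore (Cfsg.alpha M) ↥M) := by
    unfold Cfsg.alphaCore
    exact Subgroup.card_map_of_injective (Subgroup.subtype_injective _)
  have hleM : Cfsg.alphaCore M ≤ M := by
    unfold Cfsg.alphaCore
    exact Subgroup.map_subtype_le _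
  have hrel : (Cfsg.alphaCore M).relIndex M = (Cfsg.piCore (Cfsg.alpha M) ↥M).index := by
    unfold Cfsg.alphaCore Subgroup.relIndex
    congr 1
    ext x
    simp [Subgroup.mem_subgroupOf]
  have hidx : ∀ p : ℕ, p.Prime → p ∈ Cfsg.alpha M →
      ¬ p ∣ (Cfsg.piCore (Cfsg.alpha M) ↥M).index := by
    intro p hp hpα hd
    have : Fact p.Prime := ⟨hp⟩
    obtain ⟨P⟩ : Nonempty (Sylow p ↥M) := inferInstance
    have hle := sylow_le_alphaCore hG M hM p hpα P
    exact P.not_dvd_index (hd.trans (Subgroup.index_dvd_of_le hle))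
  have hprimes : ∀ p : ℕ, p.Prime → p ∣ Nat.card (Cfsg.alphaCore M) → p ∈ Cfsg.alpha M := by
    intro p hp hd
    rw [hcardmap] at hd
    exact hpi p hp hd
  have h4 : Cfsg.RankLE 2 (↥M ⧸ Cfsg.piCore (Cfsg.alpha M) ↥M) := by
    intro q hq
    have : Fact q.Prime := ⟨hq⟩
    by_cases hqα : q ∈ Cfsg.alpha M
    · intro A hAc hAexp
      have hAp : IsPGroup q ↥A := fun a => ⟨1, by
        rw [pow_one]
        exact Subtype.ext (by simpa using hAexp a.1 a.2)⟩
      obtain ⟨k, hk⟩ := IsPGroup.iff_card.mp hAp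
      have hk0 : k = 0 := by
        by_contra hk0
        have h1 : q ∣ Nat.card A := by rw [hk]; exact dvd_pow_self q hk0
        have h2 : Nat.card A ∣ Nat.card (↥M ⧸ Cfsg.piCore (Cfsg.alpha M) ↥M) :=
          Subgroup.card_subgroup_dvd_card A
        rw [← Subgroup.index_eq_card] at h2
        exact hidx q hq hqα (h1.trans h2)
      rw [hk, hk0, pow_zero]
      exact Nat.one_le_pow _ _ hq.pos
    · have hr : Cfsg.PRankLE q 2 ↥M := by
        by_contra h
        exact hqα ⟨hq, h⟩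
      apply Cfsg.Agent.Lib.Helper11.RankTwoSolvable.prank_quotient q 2 hr
      apply Nat.Coprime.symm
      rw [Nat.Prime.coprime_iff_not_dvd hq]
      intro hd
      exact hqα (hpi q hq hd)
  refine ⟨⟨hleM, hprimes, ?_⟩, ⟨hprimes, ?_⟩, ?_, h4, ?_⟩
  · intro p hp hpα
    rw [hrel]
    exact hidx p hp hpα
  · intro p hp hpα hd
    have : Fact p.Prime := ⟨hp⟩
    rw [← Subgroup.relIndex_mul_index hleM, hrel] at hd
    rcases (Nat.Prime.dvd_mul hp).mp hd with h | h
    · exact hidx p hp hpα h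
    · obtain ⟨P⟩ : Nonempty (Sylow p ↥M) := inferInstance
      obtain ⟨hgood, -⟩ := good_of_alpha hG M hM p hpα P
      have h1 := hgood.2.2.not_dvd
      rw [Subgroup.relIndex_top_right] at h1
      exact h1 (h.trans (Subgroup.index_dvd_of_le hgood.1.le))
  · unfold Cfsg.alphaCore Cfsg.sigmaCore
    apply Subgroup.map_mono
    apply Cfsg.Agent.Lib.Helper11.le_piCore inferInstance
    intro r hr hrd
    exact alpha_sub_sigma hG M hM r (hpi r hr hrd)
  · have hsurj := QuotientGroup.mk'_surjective (Cfsg.piCore (Cfsg.alpha M) ↥M)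
    have e : (commutator ↥M).map (QuotientGroup.mk' (Cfsg.piCore (Cfsg.alpha M) ↥M)) =
        commutator (↥M ⧸ Cfsg.piCore (Cfsg.alpha M) ↥M) := by
      rw [commutator_def, commutator_def, Subgroup.map_commutator]
      congr 1
      all_goals
        rw [← MonoidHom.range_eq_map, MonoidHom.range_eq_top.mpr hsurj]
    rw [e]
    have hQodd : Odd (Nat.card (↥M ⧸ Cfsg.piCore (Cfsg.alpha M) ↥M)) := by
      rw [← Subgroup.index_eq_card]
      exact Odd.of_dvd_nat hModd (Subgroup.index_dvd_card _)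
    exact (Cfsg.Agent.S1451.result (G := ↥M ⧸ Cfsg.piCore (Cfsg.alpha M) ↥M) hQodd (Or.inl h4)).1

end Cfsg.Agent.Lib.Helper11.BenderN
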