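import Mathlib
import Cfsg.Agent.Lib.Helper11.BenderN

set_option autoImplicit false
open scoped commutatorElement

namespace Cfsg.Agent.Lib.Helper11.BenderO

open Cfsg.Agent.Lib.Helper11 Cfsg.Agent.Lib.Helper11.MaxLocA Cfsg.Agent.Lib.Helper11.MaxLocB
  Cfsg.Agent.Lib.Helper11.MaxSubA Cfsg.Agent.Lib.Helper11.MaxSubB Cfsg.Agent.Lib.Helper11.MaxSubC
  Cfsg.Agent.Lib.Helper11.MaxSubD Cfsg.Agent.Lib.Helper11.MaxSubE
  Cfsg.Agent.Lib.Helper18 Cfsg.Agent.Lib.Helper11.BenderD Cfsg.Agent.Lib.Helper11.BenderE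
  Cfsg.Agent.Lib.Helper11.BenderF Cfsg.Agent.Lib.Helper11.BenderL Cfsg.Agent.Lib.Helper11.BenderM
  Cfsg.Agent.Lib.Helper11.BenderN

variable {G : Type*} [Group G] [Finite G]

/-- for `p ∈ σ(M)` some Sylow `p`-subgroup of `M` is good and lies in `O_{σ(M)}(M)` -/
theorem exists_sylow_le_sigmaCore (hG : Cfsg.IsMinSimpleOddOrder G) (M : Subgroup G)
    (hM : IsCoatom M) (p : ℕ) [hp : Fact p.Prime] (hpσ : p ∈ Cfsg.sigma M) :
    ∃ P : Sylow p ↥M, Good M p ((P : Subgroup ↥M).map M.subtype) ∧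
      (P : Subgroup ↥M) ≤ Cfsg.piCore (Cfsg.sigma M) ↥M := by
  have hMs : Group.IsSolvable ↥M := coatom_solvable hG M hM
  have hModd : Odd (Nat.card ↥M) := coatom_odd hG M
  obtain ⟨-, hpd, P, hP⟩ := hpσ
  have hgood : Good M p ((P : Subgroup ↥M).map M.subtype) :=
    good_of_sigma M p _ (isSylowIn_of_sylow P) hP
  refine ⟨P, hgood, ?_⟩
  apply sylow_le_piCore hModd (Cfsg.sigma M) ?_ p ⟨hp.out, hpd, P, hP⟩ P ?_
  · intro q hq hqσ
    by_contra h
    exact hqσ (alpha_sub_sigma hG M hM q ⟨hq, h⟩)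
  · have h1 := sylow_le_derived hG M hM p _ hgood
    rw [← Subgroup.map_subtype_commutator] at h1
    intro x hx
    obtain ⟨y, hy, hxy⟩ := h1 ⟨x, hx, rfl⟩
    have : y = x := Subtype.ext hxy
    rwa [this] at hy

/-- **B & G, Theorem 10.2(b)**: `M_σ` is a Hall `σ(M)`-subgroup of `M` and of `G`, and the only
normal Hall `σ(M)`-subgroup of `M` -/
theorem sigma_hall (hG : Cfsg.IsMinSimpleOddOrder G) (M : Subgroup G) (hM : IsCoatom M) :
    Cfsg.IsPiHallOf (Cfsg.sigma M) (Cfsg.sigmaCore M) M ∧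
      Cfsg.IsPiHall (Cfsg.sigma M) (Cfsg.sigmaCore M) ∧
      ∀ N : Subgroup G, M ≤ Subgroup.normalizer (N : Set G) →
        Cfsg.IsPiHallOf (Cfsg.sigma M) N M → N = Cfsg.sigmaCore M := by
  have hpi := Cfsg.Agent.Lib.Helper11.piCore_piNum (G := ↥M) (Cfsg.sigma M)
  have hcardmap : Nat.card (Cfsg.sigmaCore M) = Nat.card (Cfsg.piCore (Cfsg.sigma M) ↥M) := by
    unfold Cfsg.sigmaCore
    exact Subgroup.card_map_of_injective (Subgroup.subtype_injective _)
  have hleM : Cfsg.sigmaCore M ≤ M := by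
    unfold Cfsg.sigmaCore
    exact Subgroup.map_subtype_le _
  have hrel : (Cfsg.sigmaCore M).relIndex M = (Cfsg.piCore (Cfsg.sigma M) ↥M).index := by
    unfold Cfsg.sigmaCore Subgroup.relIndex
    congr 1
    ext x
    simp [Subgroup.mem_subgroupOf]
  have hidx : ∀ p : ℕ, p.Prime → p ∈ Cfsg.sigma M →
      ¬ p ∣ (Cfsg.piCore (Cfsg.sigma M) ↥M).index := by
    intro p hp hpσ hd
    have : Fact p.Prime := ⟨hp⟩
    obtain ⟨P, -, hle⟩ := exists_sylow_le_sigmaCore hG M hM p hpσ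
    exact P.not_dvd_index (hd.trans (Subgroup.index_dvd_of_le hle))
  have hprimes : ∀ p : ℕ, p.Prime → p ∣ Nat.card (Cfsg.sigmaCore M) → p ∈ Cfsg.sigma M := by
    intro p hp hd
    rw [hcardmap] at hd
    exact hpi p hp hd
  have hH1 : Cfsg.IsPiHallOf (Cfsg.sigma M) (Cfsg.sigmaCore M) M := by
    refine ⟨hleM, hprimes, ?_⟩
    intro p hp hpσ
    rw [hrel]
    exact hidx p hp hpσ
  refine ⟨hH1, ⟨hprimes, ?_⟩, ?_⟩
  · intro p hp hpσ hd
    have : Fact p.Prime := ⟨hp⟩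
    rw [← Subgroup.relIndex_mul_index hleM, hrel] at hd
    rcases (Nat.Prime.dvd_mul hp).mp hd with h | h
    · exact hidx p hp hpσ h
    · obtain ⟨P, hgood, -⟩ := exists_sylow_le_sigmaCore hG M hM p hpσ
      have h1 := hgood.2.2.not_dvd
      rw [Subgroup.relIndex_top_right] at h1
      exact h1 (h.trans (Subgroup.index_dvd_of_le hgood.1.le))
  · intro N hMN hN
    -- `N ≤ M_σ`
    have hNn : (N.subgroupOf M).Normal :=
      (Subgroup.normal_subgroupOf_iff_le_normalizer hN.1).mpr hMN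
    have hNle : N.subgroupOf M ≤ Cfsg.piCore (Cfsg.sigma M) ↥M := by
      apply Cfsg.Agent.Lib.Helper11.le_piCore hNn
      intro r hr hrd
      rw [Nat.card_congr (Subgroup.subgroupOfEquivOfLe hN.1).toEquiv] at hrd
      exact hN.2.1 r hr hrd
    have hNle' : N ≤ Cfsg.sigmaCore M := by
      intro x hx
      exact ⟨⟨x, hN.1 hx⟩, hNle (Subgroup.mem_subgroupOf.mpr hx), rfl⟩
    -- index of `N` in `M_σ` is `1`
    have hdvd1 : N.relIndex (Cfsg.sigmaCore M) ∣ Nat.card (Cfsg.sigmaCore M) := by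
      unfold Subgroup.relIndex
      exact Subgroup.index_dvd_card _
    have hdvd2 : N.relIndex (Cfsg.sigmaCore M) ∣ N.relIndex M :=
      Subgroup.relIndex_dvd_of_le_left N hleM |> fun _ => by
        rw [← Subgroup.relIndex_mul_relIndex N (Cfsg.sigmaCore M) M hNle' hleM]
        exact Dvd.intro _ rfl
    have hone : N.relIndex (Cfsg.sigmaCore M) = 1 := by
      by_contra h
      obtain ⟨r, hr, hrd⟩ := Nat.exists_prime_and_dvd h
      exact hN.2.2 r hr (hprimes r hr (hrd.trans hdvd1)) (hrd.trans hdvd2)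
    exact le_antisymm hNle' (Subgroup.relIndex_eq_one.mp hone)

end Cfsg.Agent.Lib.Helper11.BenderO
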