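import Mathlib
import Cfsg.Agent.Lib.Helper11.BenderO
import Cfsg.Agent.Lib.Helper5.InvSylow
import Cfsg.Agent.Lib.Helper22.AxB
import Cfsg.Agent.Lib.Helper11.PKClaim

set_option autoImplicit false
open scoped commutatorElement

namespace Cfsg.Agent.Lib.Helper11.BenderP

open Cfsg.Agent.Lib.Helper11 Cfsg.Agent.Lib.Helper11.MaxLocA Cfsg.Agent.Lib.Helper11.MaxLocB
  Cfsg.Agent.Lib.Helper11.MaxSubA Cfsg.Agent.Lib.Helper11.MaxSubB Cfsg.Agent.Lib.Helper11.MaxSubC
  Cfsg.Agent.Lib.Helper11.MaxSubD Cfsg.Agent.Lib.Helper11.MaxSubE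
  Cfsg.Agent.Lib.Helper18 Cfsg.Agent.Lib.Helper11.BenderD Cfsg.Agent.Lib.Helper11.BenderE
  Cfsg.Agent.Lib.Helper11.BenderF Cfsg.Agent.Lib.Helper11.BenderL Cfsg.Agent.Lib.Helper11.BenderM
  Cfsg.Agent.Lib.Helper11.BenderN Cfsg.Agent.Lib.Helper11.BenderO Cfsg.Agent.Lib.Helper11.BenderG

variable {G : Type*} [Group G] [Finite G]

omit [Finite G] in
/-- a subgroup normalizing two subgroups normalizes their join -/
theorem le_normalizer_sup {X P Q : Subgroup G} (hP : X ≤ Subgroup.normalizer (P : Set G))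
    (hQ : X ≤ Subgroup.normalizer (Q : Set G)) : X ≤ Subgroup.normalizer ((P ⊔ Q : Subgroup G) : Set G) := by
  intro h hh
  rw [Subgroup.mem_normalizer_iff_map_conj_eq, Subgroup.map_sup,
    Subgroup.mem_normalizer_iff_map_conj_eq.mp (hP hh),
    Subgroup.mem_normalizer_iff_map_conj_eq.mp (hQ hh)]

/-- **coprime action**: an invariant Sylow subgroup containing a given invariant `p`-subgroup -/
theorem exists_inv_sylow_ge (X K : Subgroup G) (hXK : X ≤ Subgroup.normalizer (K : Set G))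
    (hcop : (Nat.card X).Coprime (Nat.card K)) (hXs : Group.IsSolvable X)
    (p : ℕ) [hp : Fact p.Prime] (E : Subgroup G) (hEK : E ≤ K) (hEp : IsPGroup p E)
    (hXE : X ≤ Subgroup.normalizer (E : Set G)) :
    ∃ P : Subgroup G, IsSylowIn p P K ∧ X ≤ Subgroup.normalizer (P : Set G) ∧ E ≤ P := by
  obtain ⟨𝒮, h𝒮⟩ : ∃ 𝒮 : Set (Subgroup G), 𝒮 = {P | P ≤ K ∧ IsPGroup p P ∧
      X ≤ Subgroup.normalizer (P : Set G) ∧ E ≤ P} := ⟨_, rfl⟩
  have hne : 𝒮.Nonempty := ⟨E, by rw [h𝒮]; exact ⟨hEK, hEp, hXE, le_refl _⟩⟩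
  obtain ⟨P, hP𝒮, hPmax⟩ := (Set.toFinite 𝒮).exists_maximal hne
  have hP : P ≤ K ∧ IsPGroup p P ∧ X ≤ Subgroup.normalizer (P : Set G) ∧ E ≤ P := by
    have := hP𝒮
    rw [h𝒮] at this
    exact this
  obtain ⟨hPK, hPp, hXP, hEP⟩ := hP
  refine ⟨P, ?_, hXP, hEP⟩
  obtain ⟨N, hN⟩ : ∃ N : Subgroup G, N = K ⊓ Subgroup.normalizer (P : Set G) := ⟨_, rfl⟩
  have hXN : X ≤ Subgroup.normalizer (N : Set G) := by
    rw [Subgroup.le_normalizer_iff]
    intro h hh n hn
    rw [hN] at hn ⊢
    refine ⟨?_, ?_⟩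
    · exact (Subgroup.le_normalizer_iff.mp hXK) h hh n hn.1
    · exact Subgroup.mul_mem _ (Subgroup.mul_mem _ (hXP hh) hn.2) (Subgroup.inv_mem _ (hXP hh))
  have hNK : N ≤ K := by rw [hN]; exact inf_le_left
  have hcopN : (Nat.card X).Coprime (Nat.card N) :=
    Nat.Coprime.coprime_dvd_right (Subgroup.card_dvd_of_le hNK) hcop
  obtain ⟨Q, hQN, hQp, hXQ, hQcard⟩ :=
    Cfsg.Agent.Lib.Helper5.exists_invariant_sylow_sub X N hXN hcopN hXs p
  have hQP : Q ≤ P := by
    have hmem : P ⊔ Q ∈ 𝒮 := by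
      rw [h𝒮]
      refine ⟨sup_le hPK (hQN.trans hNK), ?_, le_normalizer_sup hXP hXQ, hEP.trans le_sup_left⟩
      apply hPp.to_sup_of_normal_left' hQp
      intro x hx
      have := hQN hx
      rw [hN] at this
      exact this.2
    exact le_sup_right.trans (hPmax hmem le_sup_left)
  apply sylow_of_normalizer p P K hPK hPp
  intro y hyK hyN hy
  by_contra hyP
  obtain ⟨h1, h2⟩ := sup_zpowers p P hPp y hyN hyP hy
  have hle : P ⊔ Subgroup.zpowers y ≤ N := by
    rw [hN]
    refine sup_le (le_inf hPK Subgroup.le_normalizer) ?_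
    rw [Subgroup.zpowers_le]
    exact ⟨hyK, hyN⟩
  obtain ⟨k, hk⟩ := IsPGroup.iff_card.mp h1
  have hdvd : p ^ k ∣ Nat.card N := by
    rw [← hk]
    exact Subgroup.card_dvd_of_le hle
  have hk' : k ≤ (Nat.card N).factorization p :=
    (Nat.Prime.pow_dvd_iff_le_factorization hp.out Nat.card_pos.ne').mp hdvd
  have h3 : Nat.card ↥(P ⊔ Subgroup.zpowers y) ≤ Nat.card Q := by
    rw [hk, hQcard]
    exact Nat.pow_le_pow_right hp.out.pos hk'
  have h4 : Nat.card Q ≤ Nat.card P := Subgroup.card_le_of_le hQP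
  have h5 : Nat.card P < Nat.card ↥(P ⊔ Subgroup.zpowers y) :=
    Cfsg.Agent.Lib.Lead.card_lt_card_of_lt h2
  omega

omit [Finite G] in
/-- an element of order dividing `p` commuting with an elementary abelian `p`-group `E` whose
centralizer has `p`-rank at most two, where `|E| = p ^ 2`, lies in `E` -/
theorem mem_of_centralizer_rank2 (p : ℕ) [hp : Fact p.Prime] [Finite G] (E : Subgroup G)
    (hEe : Cfsg.IsElementaryAbelian p E) (hcard : Nat.card E = p ^ 2)
    (hr : Cfsg.PRankLE p 2 ↥(Subgroup.centralizer (E : Set G))) (x : G)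
    (hx : ∀ e ∈ E, x * e = e * x) (hxp : x ^ p = 1) : x ∈ E := by
  have hEcomm : ∀ a ∈ E, ∀ b ∈ E, a * b = b * a := by
    intro a ha b hb
    have := hEe.1.is_comm.comm ⟨a, ha⟩ ⟨b, hb⟩
    exact congrArg Subtype.val this
  obtain ⟨D, hD⟩ : ∃ D : Subgroup G, D = Subgroup.centralizer ((E : Set G) ∪ {x}) := ⟨_, rfl⟩
  have hDE : ∀ d ∈ D, ∀ e ∈ E, e * d = d * e := by
    intro d hd e he
    rw [hD] at hd
    exact Subgroup.mem_centralizer_iff.mp hd e (Or.inl he)
  have hDx : ∀ d ∈ D, x * d = d * x := by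
    intro d hd
    rw [hD] at hd
    exact Subgroup.mem_centralizer_iff.mp hd x (Or.inr rfl)
  let T : Subgroup G :=
    { carrier := {y | y ∈ D ∧ y ∈ Subgroup.centralizer (D : Set G) ∧ y ^ p = 1}
      mul_mem' := by
        rintro a b ⟨ha1, ha2, ha3⟩ ⟨hb1, hb2, hb3⟩
        refine ⟨D.mul_mem ha1 hb1, Subgroup.mul_mem _ ha2 hb2, ?_⟩
        have hc : Commute a b := (Subgroup.mem_centralizer_iff.mp hb2 a ha1)
        rw [hc.mul_pow, ha3, hb3, one_mul]
      one_mem' := ⟨D.one_mem, Subgroup.one_mem _, one_pow _⟩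
      inv_mem' := by
        rintro a ⟨ha1, ha2, ha3⟩
        exact ⟨D.inv_mem ha1, Subgroup.inv_mem _ ha2, by rw [inv_pow, ha3, inv_one]⟩ }
  have hmemT : ∀ y, y ∈ T ↔ y ∈ D ∧ y ∈ Subgroup.centralizer (D : Set G) ∧ y ^ p = 1 :=
    fun y => Iff.rfl
  have hET : E ≤ T := by
    intro e he
    rw [hmemT]
    refine ⟨?_, ?_, hEe.2 e he⟩
    · rw [hD, Subgroup.mem_centralizer_iff]
      rintro y (hy | hy)
      · exact hEcomm y hy e he
      · rw [Set.mem_singleton_iff] at hy
        rw [hy]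
        exact hx e he
    · rw [Subgroup.mem_centralizer_iff]
      intro d hd
      exact (hDE d hd e he).symm
  have hxT : x ∈ T := by
    rw [hmemT]
    refine ⟨?_, ?_, hxp⟩
    · rw [hD, Subgroup.mem_centralizer_iff]
      rintro y (hy | hy)
      · exact (hx y hy).symm
      · rw [Set.mem_singleton_iff] at hy
        rw [hy]
    · rw [Subgroup.mem_centralizer_iff]
      intro d hd
      exact (hDx d hd).symm
  have hTC : T ≤ Subgroup.centralizer (E : Set G) := by
    intro y hy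
    rw [Subgroup.mem_centralizer_iff]
    intro e he
    exact hDE y ((hmemT y).mp hy).1 e he
  have hTcard : Nat.card T ≤ p ^ 2 := by
    have h1 := hr (T.subgroupOf (Subgroup.centralizer (E : Set G))) ?_ ?_
    · rwa [Nat.card_congr (Subgroup.subgroupOfEquivOfLe hTC).toEquiv] at h1
    · refine ⟨⟨?_⟩⟩
      rintro ⟨a, ha⟩ ⟨b, hb⟩
      rw [Subgroup.mem_subgroupOf] at ha hb
      apply Subtype.ext
      apply Subtype.ext
      have ha' := (hmemT _).mp ha
      have hb' := (hmemT _).mp hb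
      exact (Subgroup.mem_centralizer_iff.mp hb'.2.1 _ ha'.1)
    · intro a ha
      rw [Subgroup.mem_subgroupOf] at ha
      apply Subtype.ext
      have ha' := (hmemT _).mp ha
      simpa using ha'.2.2
  have hEq : E = T := Subgroup.eq_of_le_of_card_ge hET (by rw [hcard]; exact hTcard)
  rw [hEq]
  exact hxT

/-- an elementary abelian group of order `p ^ 2` is generated by two elements -/
theorem exists_gen_two (p : ℕ) [hp : Fact p.Prime] (E : Subgroup G)
    (hEe : Cfsg.IsElementaryAbelian p E) (hcard : Nat.card E = p ^ 2) :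
    ∃ a ∈ E, ∃ b ∈ E, E = Subgroup.closure {a, b} := by
  have hE1 : E ≠ ⊥ := by
    rintro rfl
    rw [Subgroup.card_bot] at hcard
    have : 1 < p ^ 2 := Nat.one_lt_pow (by norm_num) hp.out.one_lt
    omega
  obtain ⟨a, ha, ha1⟩ : ∃ a : G, a ∈ E ∧ a ≠ 1 := by
    obtain ⟨b, hb⟩ := (Subgroup.ne_bot_iff_exists_ne_one.mp hE1)
    exact ⟨(b : G), b.2, fun h0 => hb (Subtype.ext h0)⟩
  have hoa : orderOf a = p := orderOf_eq_prime (hEe.2 a ha) ha1
  have hza : Nat.card (Subgroup.zpowers a) = p := by rw [Nat.card_zpowers, hoa]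
  have hlt : Subgroup.zpowers a < E := by
    apply lt_of_le_of_ne (Subgroup.zpowers_le.mpr ha)
    intro h
    rw [h, hcard] at hza
    have : p < p ^ 2 := by
      calc p = p ^ 1 := (pow_one p).symm
        _ < p ^ 2 := Nat.pow_lt_pow_right hp.out.one_lt (by norm_num)
    omega
  obtain ⟨b, hbE, hbz⟩ := SetLike.exists_of_lt hlt
  refine ⟨a, ha, b, hbE, ?_⟩
  have hle : Subgroup.closure {a, b} ≤ E := by
    rw [Subgroup.closure_le]
    rintro y (hy | hy)
    · rw [hy]; exact ha
    · rw [Set.mem_singleton_iff] at hy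
      rw [hy]; exact hbE
  have hlt2 : Subgroup.zpowers a < Subgroup.closure {a, b} := by
    apply lt_of_le_of_ne
    · rw [Subgroup.zpowers_le]
      exact Subgroup.subset_closure (Or.inl rfl)
    · intro h
      apply hbz
      rw [h]
      exact Subgroup.subset_closure (Or.inr rfl)
  have hEp : IsPGroup p E := IsPGroup.of_card hcard
  obtain ⟨k, hk⟩ := IsPGroup.iff_card.mp (hEp.to_le hle)
  have h1 := Cfsg.Agent.Lib.Lead.card_lt_card_of_lt hlt2
  rw [hza, hk] at h1
  have hk2 : 2 ≤ k := by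
    by_contra hk2
    have : k ≤ 1 := by omega
    have := Nat.pow_le_pow_right hp.out.pos this
    rw [pow_one] at this
    omega
  symm
  apply Subgroup.eq_of_le_of_card_ge hle
  rw [hk, hcard]
  exact Nat.pow_le_pow_right hp.out.pos hk2

/-- **Thompson's `A × B` lemma** for an elementary abelian `A` of order `p ^ 2` -/
theorem axb_rank2 (p : ℕ) [hp : Fact p.Prime] (N : Subgroup G) (hN : IsPGroup p N)
    (E : Subgroup G) (hEN : E ≤ N) (hEe : Cfsg.IsElementaryAbelian p E)
    (hcard : Nat.card E = p ^ 2) (h : G) (hnorm : ∀ n ∈ N, h * n * h⁻¹ ∈ N)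
    (hE : ∀ e ∈ E, h * e = e * h) (hord : (orderOf h).Coprime p)
    (hcent : ∀ n ∈ N, (∀ e ∈ E, n * e = e * n) → h * n = n * h) :
    ∀ n ∈ N, h * n = n * h := by
  obtain ⟨a, ha, b, hb, hab⟩ := exists_gen_two p E hEe hcard
  have hEcomm : ∀ a ∈ E, ∀ b ∈ E, a * b = b * a := by
    intro a ha b hb
    have := hEe.1.is_comm.comm ⟨a, ha⟩ ⟨b, hb⟩
    exact congrArg Subtype.val this
  obtain ⟨N₁, hN₁⟩ : ∃ N₁ : Subgroup G, N₁ = N ⊓ Subgroup.centralizer {a} := ⟨_, rfl⟩
  have hmem : ∀ n, n ∈ N₁ ↔ n ∈ N ∧ a * n = n * a := by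
    intro n
    rw [hN₁, Subgroup.mem_inf, Subgroup.mem_centralizer_iff]
    simp
  have hN₁p : IsPGroup p N₁ := hN.to_le (by rw [hN₁]; exact inf_le_left)
  have step1 : ∀ n ∈ N₁, h * n = n * h := by
    apply Cfsg.Agent.Lib.Helper22.thompson_axb p N₁ hN₁p b
      ((hmem b).mpr ⟨hEN hb, hEcomm a ha b hb⟩) h ?_ (hE b hb) hord ?_
    · intro n hn
      rw [hmem] at hn ⊢
      refine ⟨hnorm n hn.1, ?_⟩
      have h1 := hE a ha
      have h2 := hn.2
      calc a * (h * n * h⁻¹) = (a * h) * n * h⁻¹ := by group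
        _ = (h * a) * n * h⁻¹ := by rw [h1]
        _ = h * (a * n) * h⁻¹ := by group
        _ = h * (n * a) * h⁻¹ := by rw [h2]
        _ = h * n * (a * h⁻¹) := by group
        _ = h * n * (h⁻¹ * a) := by
            congr 1
            have : h⁻¹ * a = a * h⁻¹ := by
              have := congrArg (fun t => h⁻¹ * t * h⁻¹) h1
              simpa [mul_assoc] using this.symm
            exact this.symm
        _ = h * n * h⁻¹ * a := by group
    · intro n hn hnb
      rw [hmem] at hn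
      apply hcent n hn.1
      have hle : E ≤ Subgroup.centralizer {n} := by
        rw [hab, Subgroup.closure_le]
        rintro y (hy | hy)
        · rw [hy]
          show a ∈ Subgroup.centralizer {n}
          rw [Subgroup.mem_centralizer_iff]
          intro z hz
          rw [Set.mem_singleton_iff] at hz
          rw [hz]
          exact hn.2.symm
        · rw [Set.mem_singleton_iff] at hy
          rw [hy]
          show b ∈ Subgroup.centralizer {n}
          rw [Subgroup.mem_centralizer_iff]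
          intro z hz
          rw [Set.mem_singleton_iff] at hz
          rw [hz]
          exact hnb
      intro e he
      exact Subgroup.mem_centralizer_iff.mp (hle he) n rfl
  apply Cfsg.Agent.Lib.Helper22.thompson_axb p N hN a (hEN ha) h hnorm (hE a ha) hord
  intro n hn hna
  exact step1 n ((hmem n).mpr ⟨hn, hna.symm⟩)

/-- an elementary abelian `p`-group of order at least `p ^ 2` has a subgroup of order `p ^ 2` -/
theorem exists_sq_le (p : ℕ) [hp : Fact p.Prime] (A : Subgroup G)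
    (hAe : Cfsg.IsElementaryAbelian p A) (hcard : p ^ 2 ≤ Nat.card A) :
    ∃ E : Subgroup G, E ≤ A ∧ Cfsg.IsElementaryAbelian p E ∧ Nat.card E = p ^ 2 := by
  have hAp : IsPGroup p A := by
    rintro ⟨a, ha⟩
    exact ⟨1, Subtype.ext (by simpa using hAe.2 a ha)⟩
  obtain ⟨k, hk⟩ := IsPGroup.iff_card.mp hAp
  have hk2 : 2 ≤ k := by
    by_contra hk2
    have h1 : k ≤ 1 := by omega
    have h2 := Nat.pow_le_pow_right hp.out.pos h1
    have h3 : p ^ 1 < p ^ 2 := Nat.pow_lt_pow_right hp.out.one_lt (by norm_num)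
    omega
  have hdvd : p ^ 2 ∣ Nat.card A := by
    rw [hk]
    exact pow_dvd_pow p hk2
  obtain ⟨K, hK⟩ := Sylow.exists_subgroup_card_pow_prime p hdvd
  refine ⟨K.map A.subtype, Subgroup.map_subtype_le K, ⟨⟨⟨?_⟩⟩, ?_⟩, ?_⟩
  · rintro ⟨_, x, hx, rfl⟩ ⟨_, y, hy, rfl⟩
    apply Subtype.ext
    have := hAe.1.is_comm.comm x y
    show (x : G) * y = y * x
    exact congrArg Subtype.val this
  · rintro _ ⟨x, hx, rfl⟩
    exact hAe.2 x x.2
  · rw [Subgroup.card_map_of_injective A.subtype_injective, hK]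

/-- **B & G, Lemma 10.4** -/
theorem cent_alpha_unique (hG : Cfsg.IsMinSimpleOddOrder G) (M : Subgroup G) (hM : IsCoatom M)
    (X : Subgroup G) (hXM : X ≤ M)
    (hXα : ∀ p : ℕ, p.Prime → p ∣ Nat.card X → p ∉ Cfsg.alpha M)
    (hr : ¬ Cfsg.RankLE 1 ↥(Cfsg.alphaCore M ⊓ Subgroup.centralizer (X : Set G))) :
    Cfsg.InUniqueMaximal (M ⊓ Subgroup.centralizer (X : Set G)) := by
  have hMs : Group.IsSolvable ↥M := coatom_solvable hG M hM
  have hMtop : M ≠ ⊤ := hM.1
  have hCtop : M ⊓ Subgroup.centralizer (X : Set G) ≠ ⊤ := by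
    intro h
    apply hMtop
    rw [eq_top_iff, ← h]
    exact inf_le_left
  obtain ⟨hα1, hα2, -, -, -⟩ := alpha_hall hG M hM
  obtain ⟨p, hp, A₀, hA₀le, hA₀e, hA₀2⟩ := exists_elemAb_of_not_rankLE _ 1 hr
  have : Fact p.Prime := ⟨hp⟩
  obtain ⟨E, hEA₀, hEe, hEcard⟩ := exists_sq_le p A₀ hA₀e hA₀2
  have hEle := hEA₀.trans hA₀le
  have hEK : E ≤ Cfsg.alphaCore M := hEle.trans inf_le_left
  have hEX : E ≤ Subgroup.centralizer (X : Set G) := hEle.trans inf_le_right
  have hEp : IsPGroup p E := IsPGroup.of_card hEcard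
  have hKM : Cfsg.alphaCore M ≤ M := hα1.1
  have hEM : E ≤ M := hEK.trans hKM
  -- `p ∈ α(M)`
  have hpα : p ∈ Cfsg.alpha M := by
    apply hα1.2.1 p hp
    have h1 : p ∣ Nat.card E := by rw [hEcard]; exact dvd_pow_self p (by norm_num)
    exact h1.trans (Subgroup.card_dvd_of_le hEK)
  have hpX : ¬ p ∣ Nat.card X := fun hd => hXα p hp hd hpα
  have hE2 : ¬ Cfsg.RankLE 1 ↥E := by
    intro h
    have h1 := h p hp ⊤ ?_ ?_
    · rw [Subgroup.card_top, hEcard] at h1
      have : p ^ 1 < p ^ 2 := Nat.pow_lt_pow_right hp.one_lt (by norm_num)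
      omega
    · refine ⟨⟨?_⟩⟩
      rintro ⟨x, -⟩ ⟨y, -⟩
      apply Subtype.ext
      exact hEe.1.is_comm.comm x y
    · rintro x -
      apply Subtype.ext
      simpa using hEe.2 x x.2
  have hEtop : E ≠ ⊤ := pgroup_ne_top hG p E hEp
  by_cases hcr : Cfsg.PRankLE p 2 ↥(Subgroup.centralizer (E : Set G))
  swap
  · -- `E` is not maximal: the Uniqueness Theorem
    have hEU := uniqueness_theorem hG E hEtop hE2 (Or.inr (fun h => hcr (h p hp)))
    exact unique_mono hEU (le_inf hEM hEX) hCtop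
  -- `X` centralizes an invariant Sylow subgroup
  have hXK : X ≤ Subgroup.normalizer ((Cfsg.alphaCore M : Subgroup G) : Set G) :=
    hXM.trans (le_normalizer_piCoreOf (Cfsg.alpha M) M)
  have hcop : (Nat.card X).Coprime (Nat.card (Cfsg.alphaCore M)) := by
    apply Nat.coprime_of_dvd
    intro k hk hkX hkK
    exact hXα k hk hkX (hα1.2.1 k hk hkK)
  have hXs : Group.IsSolvable X := Cfsg.Agent.Lib.Lead.solvable_of_le hXM
  have hXE : X ≤ Subgroup.normalizer (E : Set G) := by
    refine le_trans ?_ (Subgroup.centralizer_le_normalizer _)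
    exact centralizer_symm hEX
  obtain ⟨P, hPsyl, hXP, hEP⟩ :=
    exists_inv_sylow_ge X (Cfsg.alphaCore M) hXK hcop hXs p E hEK hEp hXE
  have hPM : IsSylowIn p P M := by
    refine ⟨hPsyl.le.trans hKM, hPsyl.isPGroup, ?_⟩
    rw [← Subgroup.relIndex_mul_relIndex P (Cfsg.alphaCore M) M hPsyl.le hKM]
    intro hd
    rcases (Nat.Prime.dvd_mul hp).mp hd with h | h
    · exact hPsyl.not_dvd h
    · exact hα1.2.2 p hp hpα h
  -- `P` has rank at least three
  obtain ⟨A₁, hA₁M, hA₁e, hA₁3⟩ :=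
    Cfsg.Agent.Lib.Helper11.BenderF.exists_elemAb_of_not_pRankLE p M hpα.2
  have hA₁p : IsPGroup p A₁ := by
    rintro ⟨a, ha⟩
    exact ⟨1, Subtype.ext (by simpa using hA₁e.2 a ha)⟩
  obtain ⟨x, hx, hle⟩ := hPM.exists_conj_le hA₁M hA₁p
  -- `X` centralizes `P`
  have hXcP : P ≤ Subgroup.centralizer (X : Set G) := by
    apply centralizer_symm
    intro h hh
    have hord : (orderOf h).Coprime p := by
      apply Nat.Coprime.coprime_dvd_left (Subgroup.orderOf_dvd_natCard X hh)
      exact (Nat.Prime.coprime_iff_not_dvd hp).mpr hpX |>.symm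
    have hhE : ∀ e ∈ E, h * e = e * h := by
      intro e he
      exact (Subgroup.mem_centralizer_iff.mp (hEX he) h hh)
    have hnorm : ∀ n ∈ P, h * n * h⁻¹ ∈ P :=
      fun n hn => (Subgroup.le_normalizer_iff.mp hXP) h hh n hn
    have key := axb_rank2 p P hPsyl.isPGroup E hEP hEe hEcard h hnorm hhE hord ?_
    · rw [Subgroup.mem_centralizer_iff]
      intro n hn
      exact (key n hn).symm
    · -- `h` centralizes `C_P(E)`
      obtain ⟨R, hR⟩ : ∃ R : Subgroup G, R = P ⊓ Subgroup.centralizer (E : Set G) := ⟨_, rfl⟩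
      have hRp : IsPGroup p R := hPsyl.isPGroup.to_le (by rw [hR]; exact inf_le_left)
      have hhR : h ∈ Subgroup.normalizer (R : Set G) := by
        have : Subgroup.zpowers h ≤ Subgroup.normalizer (R : Set G) := by
          rw [Subgroup.le_normalizer_iff]
          intro g hg n hn
          rw [hR] at hn ⊢
          have hgX : g ∈ X := (Subgroup.zpowers_le.mpr hh) hg
          refine ⟨(Subgroup.le_normalizer_iff.mp hXP) g hgX n hn.1, ?_⟩
          have hgc : g ∈ Subgroup.centralizer (E : Set G) := (centralizer_symm hEX) hgX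
          exact Subgroup.mul_mem _ (Subgroup.mul_mem _ hgc hn.2) (Subgroup.inv_mem _ hgc)
        exact this (Subgroup.mem_zpowers h)
      have hp2 : p ≠ 2 := by
        rintro rfl
        have h1 : 2 ∣ Nat.card E := by rw [hEcard]; exact dvd_pow_self 2 (by norm_num)
        have h2 : 2 ∣ Nat.card G := h1.trans (Subgroup.card_subgroup_dvd_card E)
        have := hG.1
        exact (Nat.not_even_iff_odd.mpr this) (even_iff_two_dvd.mpr h2)
      have hcen := centralizes_of_centralizes_omega p hp2 R hRp h hhR hord ?_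
      · intro n hn hne
        apply hcen n
        rw [hR]
        refine ⟨hn, ?_⟩
        show n ∈ Subgroup.centralizer (E : Set G)
        rw [Subgroup.mem_centralizer_iff]
        intro e he
        exact (hne e he).symm
      · intro y hy hyp
        rw [hR] at hy
        have hyE : y ∈ E := by
          apply mem_of_centralizer_rank2 p E hEe hEcard hcr y ?_ hyp
          intro e he
          exact (Subgroup.mem_centralizer_iff.mp hy.2 e he).symm
        exact hhE y hyE
  have hr3 : ¬ Cfsg.PRankLE p 2 ↥(M ⊓ Subgroup.centralizer (X : Set G)) :=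
    Cfsg.Agent.Lib.Helper11.BenderB.not_pRankLE_of_le p _ _
      (hle.trans (le_inf hPM.le hXcP)) (elemAb_conjSub p x hA₁e)
      (by rw [Helper18.card_conjSub]; exact hA₁3)
  exact rank3_unique hG _ hCtop (fun h => hr3 (h p hp))

end Cfsg.Agent.Lib.Helper11.BenderP
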