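import Mathlib
import Cfsg.Agent.Lib.Helper11.BenderP
import Cfsg.Agent.Lib.Helper11.RankTwoTower
import Cfsg.Agent.Lib.Helper29.OddCyclic
import Cfsg.Agent.S1398

set_option autoImplicit false
open scoped commutatorElement

namespace Cfsg.Agent.Lib.Helper11.BenderQ

open Cfsg.Agent.Lib.Helper11 Cfsg.Agent.Lib.Helper11.MaxLocA Cfsg.Agent.Lib.Helper11.MaxLocB
  Cfsg.Agent.Lib.Helper11.MaxSubA Cfsg.Agent.Lib.Helper11.MaxSubB Cfsg.Agent.Lib.Helper11.MaxSubC
  Cfsg.Agent.Lib.Helper11.MaxSubD Cfsg.Agent.Lib.Helper11.MaxSubE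
  Cfsg.Agent.Lib.Helper18 Cfsg.Agent.Lib.Helper11.BenderD Cfsg.Agent.Lib.Helper11.BenderE
  Cfsg.Agent.Lib.Helper11.BenderF Cfsg.Agent.Lib.Helper11.BenderL Cfsg.Agent.Lib.Helper11.BenderM
  Cfsg.Agent.Lib.Helper11.BenderN Cfsg.Agent.Lib.Helper11.BenderO Cfsg.Agent.Lib.Helper11.BenderG
  Cfsg.Agent.Lib.Helper11.BenderP

section General

variable {P : Type*} [Group P]

/-- an elementary abelian subgroup together with a commuting element of order dividing `p` lies
in an elementary abelian subgroup -/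
theorem exists_elemAb_ge (p : ℕ) (E : Subgroup P) (hEe : Cfsg.IsElementaryAbelian p E) (x : P)
    (hx : ∀ e ∈ E, x * e = e * x) (hxp : x ^ p = 1) :
    ∃ T : Subgroup P, Cfsg.IsElementaryAbelian p T ∧ E ≤ T ∧ x ∈ T := by
  have hEcomm : ∀ a ∈ E, ∀ b ∈ E, a * b = b * a := by
    intro a ha b hb
    have := hEe.1.is_comm.comm ⟨a, ha⟩ ⟨b, hb⟩
    exact congrArg Subtype.val this
  obtain ⟨D, hD⟩ : ∃ D : Subgroup P, D = Subgroup.centralizer ((E : Set P) ∪ {x}) := ⟨_, rfl⟩
  have hDE : ∀ d ∈ D, ∀ e ∈ E, e * d = d * e := by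
    intro d hd e he
    rw [hD] at hd
    exact Subgroup.mem_centralizer_iff.mp hd e (Or.inl he)
  have hDx : ∀ d ∈ D, x * d = d * x := by
    intro d hd
    rw [hD] at hd
    exact Subgroup.mem_centralizer_iff.mp hd x (Or.inr rfl)
  let T : Subgroup P :=
    { carrier := {y | y ∈ D ∧ y ∈ Subgroup.centralizer (D : Set P) ∧ y ^ p = 1}
      mul_mem' := by
        rintro a b ⟨ha1, ha2, ha3⟩ ⟨hb1, hb2, hb3⟩
        refine ⟨D.mul_mem ha1 hb1, Subgroup.mul_mem _ ha2 hb2, ?_⟩
        have hc : Commute a b := (Subgroup.mem_centralizer_iff.mp hb2 a ha1)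
        rw [hc.mul_pow, ha3, hb3, one_mul]
      one_mem' := ⟨D.one_mem, Subgroup.one_mem _, one_pow _⟩
      inv_mem' := by
        rintro a ⟨ha1, ha2, ha3⟩
        exact ⟨D.inv_mem ha1, Subgroup.inv_mem _ ha2, by rw [inv_pow, ha3, inv_one]⟩ }
  have hmemT : ∀ y, y ∈ T ↔ y ∈ D ∧ y ∈ Subgroup.centralizer (D : Set P) ∧ y ^ p = 1 :=
    fun y => Iff.rfl
  refine ⟨T, ⟨⟨⟨?_⟩⟩, ?_⟩, ?_, ?_⟩
  · rintro ⟨a, ha⟩ ⟨b, hb⟩
    apply Subtype.ext
    have ha' := (hmemT _).mp ha
    have hb' := (hmemT _).mp hb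
    exact (Subgroup.mem_centralizer_iff.mp hb'.2.1 _ ha'.1)
  · intro a ha
    exact ((hmemT _).mp ha).2.2
  · intro e he
    rw [hmemT]
    refine ⟨?_, ?_, hEe.2 e he⟩
    · rw [hD, Subgroup.mem_centralizer_iff]
      rintro y (hy | hy)
      · exact hEcomm y hy e he
      · rw [Set.mem_singleton_iff] at hy
        rw [hy]
        exact hx e he
    · rw [Subgroup.mem_centralizer_iff]
      intro d hd
      exact (hDE d hd e he).symm
  · rw [hmemT]
    refine ⟨?_, ?_, hxp⟩
    · rw [hD, Subgroup.mem_centralizer_iff]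
      rintro y (hy | hy)
      · exact (hx y hy).symm
      · rw [Set.mem_singleton_iff] at hy
        rw [hy]
    · rw [Subgroup.mem_centralizer_iff]
      intro d hd
      exact (hDx d hd).symm

/-- a finite `p`-group of `p`-rank one, `p` odd, is cyclic -/
theorem isCyclic_of_pRankLE_one [Finite P] (p : ℕ) [hp : Fact p.Prime] (hp2 : p ≠ 2)
    (hP : IsPGroup p P) (hr : Cfsg.PRankLE p 1 P) : IsCyclic P := by
  apply Cfsg.Agent.Lib.Helper29.isCyclic_of_unique_subgroup_odd p hp2 hP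
  -- a central subgroup of order `p`
  have key : ∀ H : Subgroup P, Nat.card H = p →
      ∀ Z₀ : Subgroup P, Nat.card Z₀ = p → Z₀ ≤ Subgroup.center P → H = Z₀ := by
    intro H hH Z₀ hZ₀ hZ₀c
    have hHcyc : IsCyclic H := isCyclic_of_prime_card hH
    obtain ⟨⟨h, hhH⟩, hgen⟩ := hHcyc.exists_generator
    have hZ₀e : Cfsg.IsElementaryAbelian p Z₀ := by
      refine ⟨⟨⟨?_⟩⟩, ?_⟩
      · rintro ⟨a, ha⟩ ⟨b, hb⟩
        apply Subtype.ext
        exact (Subgroup.mem_center_iff.mp (hZ₀c hb) a)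
      · intro a ha
        have := pow_card_eq_one' (G := Z₀) (x := ⟨a, ha⟩)
        rw [hZ₀] at this
        simpa using congrArg Subtype.val this
    have hhp : h ^ p = 1 := by
      have := pow_card_eq_one' (G := H) (x := ⟨h, hhH⟩)
      rw [hH] at this
      simpa using congrArg Subtype.val this
    obtain ⟨T, hTe, hZT, hhT⟩ := exists_elemAb_ge p Z₀ hZ₀e h
      (fun e he => (Subgroup.mem_center_iff.mp (hZ₀c he) h)) hhp
    have hTcard : Nat.card T ≤ p := by
      have := hr T hTe.1 hTe.2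
      rwa [pow_one] at this
    have hHT : H ≤ T := by
      intro y hy
      obtain ⟨k, hk⟩ := Subgroup.mem_zpowers_iff.mp (hgen ⟨y, hy⟩)
      have : y = h ^ k := by
        have := congrArg Subtype.val hk
        simpa using this.symm
      rw [this]
      exact T.zpow_mem hhT k
    have e1 : H = T := Subgroup.eq_of_le_of_card_ge hHT (by rw [hH]; exact hTcard)
    have e2 : Z₀ = T := Subgroup.eq_of_le_of_card_ge hZT (by rw [hZ₀]; exact hTcard)
    rw [e1, e2]
  intro H K hH hK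
  have hnt : Nontrivial P := by
    by_contra hnt
    rw [not_nontrivial_iff_subsingleton] at hnt
    have : Nat.card H = 1 := by
      have : Subsingleton H := inferInstance
      exact Nat.card_unique
    rw [hH] at this
    exact hp.out.one_lt.ne' this
  have hc1 : Subgroup.center P ≠ ⊥ := by
    have := hP.center_nontrivial
    exact (Subgroup.nontrivial_iff_ne_bot _).mp this
  have hdvd : p ^ 1 ∣ Nat.card (Subgroup.center P) := by
    rw [pow_one]
    obtain ⟨k, hk⟩ := IsPGroup.iff_card.mp (hP.to_subgroup (Subgroup.center P))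
    rw [hk]
    apply dvd_pow_self
    rintro rfl
    rw [pow_zero] at hk
    exact hc1 (Subgroup.card_eq_one.mp hk)
  obtain ⟨Z', hZ'⟩ := Sylow.exists_subgroup_card_pow_prime p hdvd
  rw [pow_one] at hZ'
  have hZ₀ : Nat.card (Z'.map (Subgroup.center P).subtype) = p := by
    rw [Subgroup.card_map_of_injective (Subgroup.subtype_injective _), hZ']
  have hZ₀c : Z'.map (Subgroup.center P).subtype ≤ Subgroup.center P := Subgroup.map_subtype_le _
  rw [key H hH _ hZ₀ hZ₀c, key K hK _ hZ₀ hZ₀c]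

end General

variable {G : Type*} [Group G] [Finite G]

/-- in a group of odd order a subgroup of rank at most one has all Sylow subgroups cyclic -/
theorem isZGroup_of_rankLE_one (hodd : Odd (Nat.card G)) (K : Subgroup G)
    (h : Cfsg.RankLE 1 ↥K) : IsZGroup ↥K := by
  constructor
  intro q hq Q
  have : Fact q.Prime := ⟨hq⟩
  have hq2 : q ≠ 2 ∨ q = 2 := (em (q = 2)).symm.imp id id
  rcases hq2 with hq2 | rfl
  · apply isCyclic_of_pRankLE_one q hq2 Q.isPGroup'
    exact Cfsg.Agent.Lib.Helper11.RankTwoTower.prank_of_injective (Q : Subgroup ↥K).subtype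
      (Subgroup.subtype_injective _) (h q hq)
  · have hcard : Nat.card (Q : Subgroup ↥K) = 1 := by
      obtain ⟨k, hk⟩ := IsPGroup.iff_card.mp Q.isPGroup'
      have hdvd : Nat.card (Q : Subgroup ↥K) ∣ Nat.card G :=
        (Subgroup.card_subgroup_dvd_card _).trans (Subgroup.card_subgroup_dvd_card K)
      have hodd' : Odd (Nat.card (Q : Subgroup ↥K)) := Odd.of_dvd_nat hodd hdvd
      rw [hk] at hodd' ⊢
      rcases Nat.eq_zero_or_pos k with h0 | hpos
      · rw [h0, pow_zero]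
      · exfalso
        have h2 : Even (2 ^ k) := (Nat.even_pow.mpr ⟨even_two, hpos.ne'⟩)
        exact (Nat.not_even_iff_odd.mpr hodd') h2
    have : Subsingleton (Q : Subgroup ↥K) := (Nat.card_eq_one_iff_unique.mp hcard).1
    exact isCyclic_of_subsingleton

omit [Finite G] in
/-- `Ω₁(Z(S))` of a subgroup `S`, as a subgroup of the ambient group -/
def omZ (p : ℕ) (S : Subgroup G) : Subgroup G where
  carrier := {y | y ∈ S ∧ y ∈ Subgroup.centralizer (S : Set G) ∧ y ^ p = 1}
  mul_mem' := by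
    rintro a b ⟨ha1, ha2, ha3⟩ ⟨hb1, hb2, hb3⟩
    refine ⟨S.mul_mem ha1 hb1, Subgroup.mul_mem _ ha2 hb2, ?_⟩
    have hc : Commute a b := (Subgroup.mem_centralizer_iff.mp hb2 a ha1)
    rw [hc.mul_pow, ha3, hb3, one_mul]
  one_mem' := ⟨S.one_mem, Subgroup.one_mem _, one_pow _⟩
  inv_mem' := by
    rintro a ⟨ha1, ha2, ha3⟩
    exact ⟨S.inv_mem ha1, Subgroup.inv_mem _ ha2, by rw [inv_pow, ha3, inv_one]⟩

omit [Finite G] in
theorem mem_omZ {p : ℕ} {S : Subgroup G} {y : G} :
    y ∈ omZ p S ↔ y ∈ S ∧ y ∈ Subgroup.centralizer (S : Set G) ∧ y ^ p = 1 := Iff.rfl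

omit [Finite G] in
theorem omZ_le (p : ℕ) (S : Subgroup G) : omZ p S ≤ S := fun _ hy => (mem_omZ.mp hy).1

omit [Finite G] in
theorem omZ_elemAb (p : ℕ) (S : Subgroup G) : Cfsg.IsElementaryAbelian p (omZ p S) := by
  refine ⟨⟨⟨?_⟩⟩, ?_⟩
  · rintro ⟨a, ha⟩ ⟨b, hb⟩
    apply Subtype.ext
    exact (Subgroup.mem_centralizer_iff.mp (mem_omZ.mp hb).2.1 a (mem_omZ.mp ha).1)
  · intro a ha
    exact (mem_omZ.mp ha).2.2

omit [Finite G] in
theorem normalizer_le_normalizer_omZ (p : ℕ) (S : Subgroup G) :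
    Subgroup.normalizer (S : Set G) ≤ Subgroup.normalizer ((omZ p S : Subgroup G) : Set G) := by
  rw [Subgroup.le_normalizer_iff]
  intro g hg y hy
  rw [mem_omZ] at hy ⊢
  have hgS : ∀ s, s ∈ S → g * s * g⁻¹ ∈ S := fun s hs =>
    (Subgroup.mem_normalizer_iff.mp hg s).mp hs
  have hgS' : ∀ s, s ∈ S → g⁻¹ * s * g ∈ S := fun s hs => by
    have := (Subgroup.mem_normalizer_iff.mp (Subgroup.inv_mem _ hg) s).mp hs
    simpa using this
  refine ⟨hgS y hy.1, ?_, ?_⟩
  · rw [Subgroup.mem_centralizer_iff]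
    intro s hs
    have h1 := Subgroup.mem_centralizer_iff.mp hy.2.1 _ (hgS' s hs)
    calc s * (g * y * g⁻¹) = g * ((g⁻¹ * s * g) * y) * g⁻¹ := by group
      _ = g * (y * (g⁻¹ * s * g)) * g⁻¹ := by rw [h1]
      _ = g * y * g⁻¹ * s := by group
  · rw [conj_pow, hy.2.2, mul_one, mul_inv_cancel]

/-- `Ω₁(Z(S)) ≠ 1` for a nontrivial `p`-group `S` -/
theorem omZ_ne_bot (p : ℕ) [hp : Fact p.Prime] (S : Subgroup G) (hS : IsPGroup p S)
    (hS1 : S ≠ ⊥) : omZ p S ≠ ⊥ := by
  have hnt : Nontrivial S := (Subgroup.nontrivial_iff_ne_bot S).mpr hS1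
  have := hS.center_nontrivial
  obtain ⟨z, hz1⟩ := exists_ne (1 : Subgroup.center S)
  have hz1' : (z : S) ≠ 1 := fun h => hz1 (Subtype.ext h)
  have hzp : IsPGroup p (Subgroup.zpowers (z : S)) := hS.to_subgroup _
  have hzne : Subgroup.zpowers (z : S) ≠ ⊥ := fun h => hz1' (Subgroup.zpowers_eq_bot.mp h)
  obtain ⟨k, hk⟩ := IsPGroup.iff_card.mp hzp
  have hdvd : p ^ 1 ∣ Nat.card (Subgroup.zpowers (z : S)) := by
    rw [pow_one, hk]
    apply dvd_pow_self
    rintro rfl
    rw [pow_zero] at hk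
    exact hzne (Subgroup.card_eq_one.mp hk)
  obtain ⟨Z', hZ'⟩ := Sylow.exists_subgroup_card_pow_prime p hdvd
  rw [pow_one] at hZ'
  have hZ'ne : Z' ≠ ⊥ := by
    rintro rfl
    rw [Subgroup.card_bot] at hZ'
    exact hp.out.one_lt.ne hZ'
  obtain ⟨⟨⟨w, hwz⟩, hwZ⟩, hw1⟩ := Subgroup.ne_bot_iff_exists_ne_one.mp hZ'ne
  have hwne : (w : G) ≠ 1 := by
    intro h
    apply hw1
    apply Subtype.ext
    apply Subtype.ext
    apply Subtype.ext
    exact h
  have hwp : w ^ p = 1 := by
    have := pow_card_eq_one' (G := Z') (x := ⟨⟨w, hwz⟩, hwZ⟩)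
    rw [hZ'] at this
    have h2 := congrArg Subtype.val this
    simpa using h2
  -- `w` is central in `S`
  obtain ⟨i, hi⟩ := Subgroup.mem_zpowers_iff.mp hwz
  have hwc : ∀ s : S, s * w = w * s := by
    intro s
    rw [← hi]
    have hzc : ∀ t : S, t * (z : S) = (z : S) * t := fun t => Subgroup.mem_center_iff.mp z.2 t
    exact ((show Commute s (z : S) from hzc s).zpow_right i)
  intro hbot
  apply hwne
  have hmem : (w : G) ∈ omZ p S := by
    rw [mem_omZ]
    refine ⟨w.2, ?_, ?_⟩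
    · rw [Subgroup.mem_centralizer_iff]
      intro s hs
      exact congrArg Subtype.val (hwc ⟨s, hs⟩)
    · have := congrArg Subtype.val hwp
      simpa using this
  rw [hbot, Subgroup.mem_bot] at hmem
  exact hmem

/-- **B & G, Lemma 10.5** -/
theorem exists_center_zgroup (hG : Cfsg.IsMinSimpleOddOrder G) (M : Subgroup G) (hM : IsCoatom M)
    (p : ℕ) [hp : Fact p.Prime] (hpM : p ∣ Nat.card M) (hpσ : p ∉ Cfsg.sigma M) (P : Sylow p ↥M) :
    ∃ x : G, x ∈ ((Subgroup.center ↥(P : Subgroup ↥M)).map (P : Subgroup ↥M).subtype).map M.subtype ∧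
      orderOf x = p ∧
      IsZGroup ↥(Cfsg.alphaCore M ⊓ Subgroup.centralizer ({x} : Set G)) ∧
      ¬ (Subgroup.centralizer ({x} : Set G) ≤ M ∧
        ∀ L : Subgroup G, IsCoatom L → Subgroup.centralizer ({x} : Set G) ≤ L → L = M) := by
  have hsimple : IsSimpleGroup G := hG.2.1
  by_contra hcon
  push Not at hcon
  obtain ⟨S, hS⟩ : ∃ S : Subgroup G, S = (P : Subgroup ↥M).map M.subtype := ⟨_, rfl⟩
  have hSsyl : IsSylowIn p S M := by rw [hS]; exact isSylowIn_of_sylow P
  have hSM : S ≤ M := hSsyl.le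
  have hSp : IsPGroup p S := hSsyl.isPGroup
  have hS1 : S ≠ ⊥ := by
    intro h
    have h1 := hSsyl.not_dvd
    rw [h, Subgroup.relIndex_bot_left] at h1
    exact h1 hpM
  -- elements of `Ω₁(Z(S))` lie in the image of the centre
  have hcenter : ∀ x ∈ omZ p S,
      x ∈ ((Subgroup.center ↥(P : Subgroup ↥M)).map (P : Subgroup ↥M).subtype).map M.subtype := by
    intro x hx
    rw [mem_omZ, hS] at hx
    obtain ⟨⟨m, hm, rfl⟩, hxc, -⟩ := hx
    refine ⟨m, ⟨⟨m, hm⟩, ?_, rfl⟩, rfl⟩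
    show (⟨m, hm⟩ : ↥(P : Subgroup ↥M)) ∈ Subgroup.center ↥(P : Subgroup ↥M)
    rw [Subgroup.mem_center_iff]
    intro w
    apply Subtype.ext
    apply Subtype.ext
    exact Subgroup.mem_centralizer_iff.mp hxc _ ⟨(w : ↥M), w.2, rfl⟩
  -- Step 1
  have step1 : ∀ x ∈ omZ p S, x ≠ 1 → (Subgroup.centralizer ({x} : Set G) ≤ M ∧
      ∀ L : Subgroup G, IsCoatom L → Subgroup.centralizer ({x} : Set G) ≤ L → L = M) := by
    intro x hx hx1
    have hxo : orderOf x = p := orderOf_eq_prime (mem_omZ.mp hx).2.2 hx1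
    by_cases hz : IsZGroup ↥(Cfsg.alphaCore M ⊓ Subgroup.centralizer ({x} : Set G))
    · exact hcon x (hcenter x hx) hxo hz
    · have hcz : Subgroup.centralizer ((Subgroup.zpowers x : Subgroup G) : Set G) =
          Subgroup.centralizer ({x} : Set G) := by
        apply le_antisymm
        · apply Subgroup.centralizer_le
          intro y hy
          rw [Set.mem_singleton_iff] at hy
          rw [hy]
          exact Subgroup.mem_zpowers x
        · intro c hc
          rw [Subgroup.mem_centralizer_iff]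
          intro y hy
          obtain ⟨i, rfl⟩ := Subgroup.mem_zpowers_iff.mp hy
          have hcx : Commute x c := Subgroup.mem_centralizer_iff.mp hc x rfl
          exact (hcx.zpow_left i).eq
      have hr : ¬ Cfsg.RankLE 1 ↥(Cfsg.alphaCore M ⊓
          Subgroup.centralizer ((Subgroup.zpowers x : Subgroup G) : Set G)) := by
        rw [hcz]
        intro h
        exact hz (isZGroup_of_rankLE_one hG.1 _ h)
      have hxM : Subgroup.zpowers x ≤ M := by
        rw [Subgroup.zpowers_le]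
        exact hSM (omZ_le p S hx)
      have hU := cent_alpha_unique hG M hM (Subgroup.zpowers x) hxM ?_ hr
      · rw [hcz] at hU
        obtain ⟨M', ⟨hM', hle'⟩, huniq⟩ := hU
        have e : M = M' := huniq M ⟨hM, inf_le_left⟩
        have hCtop : Subgroup.centralizer ({x} : Set G) ≠ ⊤ :=
          centralizer_singleton_ne_top hG.2.2.1 hx1
        have key : ∀ L : Subgroup G, IsCoatom L → Subgroup.centralizer ({x} : Set G) ≤ L →
            L = M := by
          intro L hL hCL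
          rw [e]
          exact huniq L ⟨hL, inf_le_right.trans hCL⟩
        obtain ⟨L, hL, hCL⟩ := exists_coatom_ge _ hCtop
        refine ⟨?_, key⟩
        rw [← key L hL hCL]
        exact hCL
      · intro q hq hqd hqα
        rw [Nat.card_zpowers, hxo] at hqd
        have : q = p := (Nat.prime_dvd_prime_iff_eq hq hp.out).mp hqd
        rw [this] at hqα
        exact hpσ (alpha_sub_sigma hG M hM p hqα)
  -- Step 2
  have hB1 : omZ p S ≠ ⊥ := omZ_ne_bot p S hSp hS1
  have hBe := omZ_elemAb p S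
  have hBp : IsPGroup p (omZ p S) := hSp.to_le (omZ_le p S)
  have hBtop : omZ p S ≠ ⊤ := pgroup_ne_top hG p _ hBp
  have hNtop : Subgroup.normalizer ((omZ p S : Subgroup G) : Set G) ≠ ⊤ :=
    normalizer_ne_top_of_simple hB1 hBtop
  have hNB : Subgroup.normalizer ((omZ p S : Subgroup G) : Set G) ≤ M := by
    by_cases hcyc : IsCyclic (omZ p S)
    · obtain ⟨x, hx, hx1⟩ : ∃ x : G, x ∈ omZ p S ∧ x ≠ 1 := by
        obtain ⟨b, hb⟩ := (Subgroup.ne_bot_iff_exists_ne_one.mp hB1)
        exact ⟨(b : G), b.2, fun h0 => hb (Subtype.ext h0)⟩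
      obtain ⟨h1, h2⟩ := step1 x hx hx1
      obtain ⟨L, hL, hNL⟩ := exists_coatom_ge _ hNtop
      have hCN : Subgroup.centralizer ({x} : Set G) ≤
          Subgroup.normalizer ((omZ p S : Subgroup G) : Set G) := by
        -- `Ω₁(Z(S))` is generated by `x`
        obtain ⟨⟨g, hgB⟩, hgen⟩ := hcyc.exists_generator
        have hcard : Nat.card (omZ p S) = p := by
          have h3 : orderOf (⟨g, hgB⟩ : omZ p S) = Nat.card (omZ p S) :=
            orderOf_eq_card_of_forall_mem_zpowers hgen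
          have h4 : (⟨g, hgB⟩ : omZ p S) ^ p = 1 := Subtype.ext (by simpa using hBe.2 g hgB)
          have h5 : orderOf (⟨g, hgB⟩ : omZ p S) ∣ p := orderOf_dvd_of_pow_eq_one h4
          rw [h3] at h5
          rcases (Nat.dvd_prime hp.out).mp h5 with h6 | h6
          · exact absurd (Subgroup.card_eq_one.mp h6) hB1
          · exact h6
        have hzx : Subgroup.zpowers x = omZ p S := by
          apply Subgroup.eq_of_le_of_card_ge (Subgroup.zpowers_le.mpr hx)
          rw [hcard, Nat.card_zpowers, orderOf_eq_prime (mem_omZ.mp hx).2.2 hx1]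
        refine le_trans ?_ (Subgroup.centralizer_le_normalizer _)
        intro c hc
        rw [Subgroup.mem_centralizer_iff]
        intro y hy
        have hy' : y ∈ Subgroup.zpowers x := by rw [hzx]; exact hy
        obtain ⟨i, rfl⟩ := Subgroup.mem_zpowers_iff.mp hy'
        have hcx : Commute x c := Subgroup.mem_centralizer_iff.mp hc x rfl
        exact (hcx.zpow_left i).eq
      rw [← h2 L hL (hCN.trans hNL)]
      exact hNL
    · have hBM : omZ p S ≤ M := (omZ_le p S).trans hSM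
      have hBU := Cfsg.Agent.S1398.result hG M hM p (omZ p S) hBM hBe hcyc
        (Or.inl (fun b hb hb1 => (step1 b hb hb1).1))
      obtain ⟨M', ⟨hM', hle'⟩, huniq⟩ := hBU
      have e : M = M' := huniq M ⟨hM, hBM⟩
      obtain ⟨L, hL, hNL⟩ := exists_coatom_ge _ hNtop
      have : L = M := by
        rw [e]
        exact huniq L ⟨hL, Subgroup.le_normalizer.trans hNL⟩
      rw [← this]
      exact hNL
  apply hpσ
  refine ⟨hp.out, hpM, P, ?_⟩
  rw [← hS]
  exact (normalizer_le_normalizer_omZ p S).trans hNB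

end Cfsg.Agent.Lib.Helper11.BenderQ
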