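import Mathlib
import Cfsg.Agent.Lib.Helper11.BenderQ
import Cfsg.Agent.S1453

set_option autoImplicit false
open scoped commutatorElement Pointwise

namespace Cfsg.Agent.Lib.Helper11.BenderR

open Cfsg.Agent.Lib.Helper11.BenderQ

section Narrow

variable {R : Type*} [Group R]

/-- narrowness is invariant under isomorphism -/
theorem isNarrow_of_equiv {R' : Type*} [Group R'] (p : ℕ) (e : R ≃* R')
    (h : Cfsg.IsNarrow p R) : Cfsg.IsNarrow p R' := by
  rcases h with h | ⟨R₀, R₁, h0, h1, h2, h3, h4⟩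
  · left
    exact Cfsg.Agent.Lib.Helper11.RankTwoTower.prank_of_injective e.symm.toMonoidHom
      e.symm.injective h
  · right
    refine ⟨R₀.map e.toMonoidHom, R₁.map e.toMonoidHom, ?_, ?_, ?_, ?_, ?_⟩
    · rw [Subgroup.card_map_of_injective e.injective, h0]
    · have : IsCyclic ↥R₁ := h1
      exact isCyclic_of_surjective (e.toMonoidHom.subgroupMap R₁)
        (e.toMonoidHom.subgroupMap_surjective R₁)
    · rw [← Subgroup.map_inf _ _ _ e.injective, h2, Subgroup.map_bot]
    · rintro _ ⟨a, ha, rfl⟩ _ ⟨b, hb, rfl⟩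
      show e a * e b = e b * e a
      rw [← map_mul, ← map_mul, h3 a ha b hb]
    · rw [← Subgroup.map_sup, h4]
      ext y
      constructor
      · rintro ⟨c, hc, rfl⟩
        rw [Subgroup.mem_centralizer_iff]
        rintro _ ⟨a, ha, rfl⟩
        show e a * e c = e c * e a
        rw [← map_mul, ← map_mul, Subgroup.mem_centralizer_iff.mp hc a ha]
      · intro hy
        refine ⟨e.symm y, ?_, by simp⟩
        show e.symm y ∈ Subgroup.centralizer (R₀ : Set R)
        rw [Subgroup.mem_centralizer_iff]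
        intro a ha
        apply e.injective
        rw [map_mul, map_mul]
        simp only [MulEquiv.apply_symm_apply]
        exact Subgroup.mem_centralizer_iff.mp hy (e a) ⟨a, ha, rfl⟩

/-- **B & G, Theorem 5.3(d)**: a `p`-group of rank at least three with a maximal elementary
abelian subgroup of order `p ^ 2` is narrow -/
theorem narrow_of_max_sq [Finite R] (p : ℕ) [hp : Fact p.Prime] (hp2 : p ≠ 2) (hR : IsPGroup p R)
    (hr : ¬ Cfsg.PRankLE p 2 R) (E : Subgroup R) (hE : Cfsg.IsElementaryAbelian p E)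
    (hE2 : Nat.card E = p ^ 2)
    (hEmax : ∀ B : Subgroup R, Cfsg.IsElementaryAbelian p B → E ≤ B → B = E) :
    Cfsg.IsNarrow p R := by
  obtain ⟨hET, -, -, hTchar, hTidx⟩ := Cfsg.Agent.S1453.result p hp2 hR hr E hE hE2 hEmax
  obtain ⟨T, hT⟩ : ∃ T : Subgroup R, T = Subgroup.centralizer ((Subgroup.closure
      {x : R | x ∈ Subgroup.upperCentralSeries R 2 ∧ x ^ p = 1} : Subgroup R) : Set R) := ⟨_, rfl⟩
  rw [← hT] at hET hTchar hTidx
  have hTn : T.Normal := inferInstance
  have hcenT : Subgroup.center R ≤ T := by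
    rw [hT]
    exact Subgroup.center_le_centralizer _
  obtain ⟨x, hxE, hxT⟩ := SetLike.not_le_iff_exists.mp hET
  have hx1 : x ≠ 1 := fun h => hxT (h ▸ T.one_mem)
  have hxp : x ^ p = 1 := hE.2 x hxE
  have hxo : orderOf x = p := orderOf_eq_prime hxp hx1
  have hR₀card : Nat.card (Subgroup.zpowers x) = p := by rw [Nat.card_zpowers, hxo]
  -- the centralizer of `⟨x⟩`
  have hcz : Subgroup.centralizer ((Subgroup.zpowers x : Subgroup R) : Set R) =
      Subgroup.centralizer ({x} : Set R) := by
    apply le_antisymm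
    · apply Subgroup.centralizer_le
      intro y hy
      rw [Set.mem_singleton_iff] at hy
      rw [hy]
      exact Subgroup.mem_zpowers x
    · intro c hc
      rw [Subgroup.mem_centralizer_iff]
      intro y hy
      obtain ⟨i, rfl⟩ := Subgroup.mem_zpowers_iff.mp hy
      have hcx : Commute x c := Subgroup.mem_centralizer_iff.mp hc x rfl
      exact (hcx.zpow_left i).eq
  -- `⟨x⟩ ∩ T = 1`
  have hinf : Subgroup.zpowers x ⊓ T = ⊥ := by
    by_contra hne
    have hle : Subgroup.zpowers x ⊓ T ≤ Subgroup.zpowers x := inf_le_left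
    have hdvd : Nat.card ↥(Subgroup.zpowers x ⊓ T) ∣ p := by
      rw [← hR₀card]
      exact Subgroup.card_dvd_of_le hle
    rcases (Nat.dvd_prime hp.out).mp hdvd with h | h
    · exact hne (Subgroup.card_eq_one.mp h)
    · have : Subgroup.zpowers x ⊓ T = Subgroup.zpowers x :=
        Subgroup.eq_of_le_of_card_ge hle (by rw [h, hR₀card])
      apply hxT
      have h2 : Subgroup.zpowers x ≤ T := by
        rw [← this]
        exact inf_le_right
      exact h2 (Subgroup.mem_zpowers x)
  -- `R = ⟨x⟩ T`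
  have hsup : Subgroup.zpowers x ⊔ T = ⊤ := by
    have h1 : (Subgroup.zpowers x ⊔ T).index ∣ p := by
      rw [← hTidx]
      exact Subgroup.index_dvd_of_le le_sup_right
    rcases (Nat.dvd_prime hp.out).mp h1 with h | h
    · exact Subgroup.index_eq_one.mp h
    · exfalso
      have h2 := Subgroup.relIndex_mul_index (le_sup_right : T ≤ Subgroup.zpowers x ⊔ T)
      rw [h, hTidx] at h2
      have h3 : T.relIndex (Subgroup.zpowers x ⊔ T) = 1 := by
        have hp0 : 0 < p := hp.out.pos
        exact Nat.eq_of_mul_eq_mul_right hp0 (by rw [h2, one_mul])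
      have h4 : Subgroup.zpowers x ⊔ T ≤ T := Subgroup.relIndex_eq_one.mp h3
      exact hxT (h4 (le_sup_left (a := Subgroup.zpowers x) (Subgroup.mem_zpowers x)))
  -- a central element of order `p`
  have hnt : Nontrivial R := ⟨⟨x, 1, hx1⟩⟩
  obtain ⟨z, hzc, hz1, hzp⟩ : ∃ z : R, z ∈ Subgroup.center R ∧ z ≠ 1 ∧ z ^ p = 1 := by
    have hcn := hR.center_nontrivial
    have hc1 : Subgroup.center R ≠ ⊥ := (Subgroup.nontrivial_iff_ne_bot _).mp hcn
    have hdvd : p ^ 1 ∣ Nat.card (Subgroup.center R) := by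
      rw [pow_one]
      obtain ⟨k, hk⟩ := IsPGroup.iff_card.mp (hR.to_subgroup (Subgroup.center R))
      rw [hk]
      apply dvd_pow_self
      rintro rfl
      rw [pow_zero] at hk
      exact hc1 (Subgroup.card_eq_one.mp hk)
    obtain ⟨Z', hZ'⟩ := Sylow.exists_subgroup_card_pow_prime p hdvd
    rw [pow_one] at hZ'
    have hZ'ne : Z' ≠ ⊥ := by
      rintro rfl
      rw [Subgroup.card_bot] at hZ'
      exact hp.out.one_lt.ne hZ'
    obtain ⟨⟨⟨w, hwc⟩, hwZ⟩, hw1⟩ := Subgroup.ne_bot_iff_exists_ne_one.mp hZ'ne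
    refine ⟨w, hwc, ?_, ?_⟩
    · intro h
      apply hw1
      apply Subtype.ext
      apply Subtype.ext
      exact h
    · have := pow_card_eq_one' (G := Z') (x := ⟨⟨w, hwc⟩, hwZ⟩)
      rw [hZ'] at this
      have h2 := congrArg Subtype.val (congrArg Subtype.val this)
      simpa using h2
  have hzcomm : ∀ y : R, z * y = y * z := fun y => (Subgroup.mem_center_iff.mp hzc y).symm
  -- `z ∈ E`
  have hzE : z ∈ E := by
    obtain ⟨T', hT'e, hET', hzT'⟩ := exists_elemAb_ge p E hE z (fun e _ => hzcomm e) hzp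
    rw [← hEmax T' hT'e hET']
    exact hzT'
  have hzT : z ∈ T := hcenT hzc
  -- `E` is generated by `x` and `z`
  have hEgen : E = Subgroup.closure {x, z} := by
    have hle : Subgroup.closure {x, z} ≤ E := by
      rw [Subgroup.closure_le]
      rintro y (hy | hy)
      · rw [hy]; exact hxE
      · rw [Set.mem_singleton_iff] at hy
        rw [hy]; exact hzE
    have hlt2 : Subgroup.zpowers x < Subgroup.closure {x, z} := by
      apply lt_of_le_of_ne
      · rw [Subgroup.zpowers_le]
        exact Subgroup.subset_closure (Or.inl rfl)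
      · intro h
        have hz' : z ∈ Subgroup.zpowers x := by
          rw [h]
          exact Subgroup.subset_closure (Or.inr rfl)
        have : z ∈ Subgroup.zpowers x ⊓ T := ⟨hz', hzT⟩
        rw [hinf, Subgroup.mem_bot] at this
        exact hz1 this
    have hEp : IsPGroup p E := IsPGroup.of_card hE2
    obtain ⟨k, hk⟩ := IsPGroup.iff_card.mp (hEp.to_le hle)
    have h1 := Cfsg.Agent.Lib.Lead.card_lt_card_of_lt hlt2
    rw [hR₀card, hk] at h1
    have hk2 : 2 ≤ k := by
      by_contra hk2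
      have : k ≤ 1 := by omega
      have := Nat.pow_le_pow_right hp.out.pos this
      rw [pow_one] at this
      omega
    symm
    apply Subgroup.eq_of_le_of_card_ge hle
    rw [hk, hE2]
    exact Nat.pow_le_pow_right hp.out.pos hk2
  -- elements of order `p` of `C_T(x)` lie in `E ∩ T`
  have hET1 : ∀ a : R, a ∈ T → a * x = x * a → a ^ p = 1 → a ∈ E ⊓ T := by
    intro a haT hax hap
    refine ⟨?_, haT⟩
    have hle : E ≤ Subgroup.centralizer {a} := by
      rw [hEgen, Subgroup.closure_le]
      rintro y (hy | hy)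
      · rw [hy]
        show x ∈ Subgroup.centralizer {a}
        rw [Subgroup.mem_centralizer_iff]
        intro w hw
        rw [Set.mem_singleton_iff] at hw
        rw [hw]
        exact hax
      · rw [Set.mem_singleton_iff] at hy
        rw [hy]
        show z ∈ Subgroup.centralizer {a}
        rw [Subgroup.mem_centralizer_iff]
        intro w hw
        rw [Set.mem_singleton_iff] at hw
        rw [hw]
        exact (hzcomm a).symm
    have hcomm : ∀ e ∈ E, a * e = e * a := by
      intro e he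
      exact Subgroup.mem_centralizer_iff.mp (hle he) a rfl
    obtain ⟨T', hT'e, hET', haT'⟩ := exists_elemAb_ge p E hE a hcomm hap
    rw [← hEmax T' hT'e hET']
    exact haT'
  have hETcard : Nat.card ↥(E ⊓ T) ≤ p := by
    have hlt : E ⊓ T < E := by
      apply lt_of_le_of_ne inf_le_left
      intro h
      apply hxT
      have : E ≤ T := by rw [← h]; exact inf_le_right
      exact this hxE
    have hEp : IsPGroup p E := IsPGroup.of_card hE2
    obtain ⟨k, hk⟩ := IsPGroup.iff_card.mp (hEp.to_le (inf_le_left : E ⊓ T ≤ E))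
    have h1 := Cfsg.Agent.Lib.Lead.card_lt_card_of_lt hlt
    rw [hk, hE2] at h1
    have hk1 : k ≤ 1 := by
      by_contra hk1
      have : 2 ≤ k := by omega
      have := Nat.pow_le_pow_right hp.out.pos this
      omega
    rw [hk]
    calc p ^ k ≤ p ^ 1 := Nat.pow_le_pow_right hp.out.pos hk1
      _ = p := pow_one p
  right
  refine ⟨Subgroup.zpowers x, T ⊓ Subgroup.centralizer {x}, hR₀card, ?_, ?_, ?_, ?_⟩
  · -- cyclic
    apply isCyclic_of_pRankLE_one p hp2 (hR.to_subgroup _)
    intro A hAc hAexp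
    rw [pow_one]
    have hAle : A.map (T ⊓ Subgroup.centralizer {x}).subtype ≤ E ⊓ T := by
      rintro _ ⟨a, ha, rfl⟩
      apply hET1 _ a.2.1
      · exact (Subgroup.mem_centralizer_iff.mp a.2.2 x rfl).symm
      · have := hAexp a ha
        have h2 := congrArg Subtype.val this
        simpa using h2
    calc Nat.card A = Nat.card (A.map (T ⊓ Subgroup.centralizer {x}).subtype) :=
          (Subgroup.card_map_of_injective (Subgroup.subtype_injective _)).symm
      _ ≤ Nat.card ↥(E ⊓ T) := Subgroup.card_le_of_le hAle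
      _ ≤ p := hETcard
  · rw [← inf_assoc, hinf, bot_inf_eq]
  · intro a ha b hb
    obtain ⟨i, rfl⟩ := Subgroup.mem_zpowers_iff.mp ha
    have hcx : Commute x b := Subgroup.mem_centralizer_iff.mp hb.2 x rfl
    exact (hcx.zpow_left i).eq
  · rw [hcz]
    apply le_antisymm
    · apply sup_le
      · rw [Subgroup.zpowers_le, Subgroup.mem_centralizer_iff]
        intro y hy
        rw [Set.mem_singleton_iff] at hy
        rw [hy]
      · exact inf_le_right
    · intro c hc
      have hcmem : c ∈ Subgroup.zpowers x ⊔ T := by rw [hsup]; exact Subgroup.mem_top c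
      have hset : (↑(Subgroup.zpowers x ⊔ T) : Set R) =
          ((Subgroup.zpowers x : Subgroup R) : Set R) * (T : Set R) :=
        Subgroup.mul_normal _ _
      have hcmem' : c ∈ ((Subgroup.zpowers x : Subgroup R) : Set R) * (T : Set R) := by
        rw [← hset]
        exact hcmem
      obtain ⟨a, ha, t, ht, rfl⟩ := Set.mem_mul.mp hcmem'
      apply Subgroup.mul_mem
      · exact le_sup_left (a := Subgroup.zpowers x) ha
      · apply le_sup_right (a := Subgroup.zpowers x)
        refine ⟨ht, ?_⟩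
        have ha' : a ∈ Subgroup.centralizer ({x} : Set R) := by
          obtain ⟨i, rfl⟩ := Subgroup.mem_zpowers_iff.mp ha
          rw [Subgroup.mem_centralizer_iff]
          intro y hy
          rw [Set.mem_singleton_iff] at hy
          rw [hy]
          exact ((Commute.refl x).zpow_right i).eq
        have : t = a⁻¹ * (a * t) := by group
        rw [this]
        exact Subgroup.mul_mem _ (Subgroup.inv_mem _ ha') hc

end Narrow

section InG

open Cfsg.Agent.Lib.Helper11 Cfsg.Agent.Lib.Helper11.MaxLocA Cfsg.Agent.Lib.Helper11.MaxLocB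
  Cfsg.Agent.Lib.Helper11.MaxSubA Cfsg.Agent.Lib.Helper11.MaxSubB Cfsg.Agent.Lib.Helper11.MaxSubC
  Cfsg.Agent.Lib.Helper11.MaxSubD Cfsg.Agent.Lib.Helper11.MaxSubE
  Cfsg.Agent.Lib.Helper18 Cfsg.Agent.Lib.Helper11.BenderD Cfsg.Agent.Lib.Helper11.BenderE
  Cfsg.Agent.Lib.Helper11.BenderF Cfsg.Agent.Lib.Helper11.BenderL Cfsg.Agent.Lib.Helper11.BenderM
  Cfsg.Agent.Lib.Helper11.BenderN Cfsg.Agent.Lib.Helper11.BenderO Cfsg.Agent.Lib.Helper11.BenderG
  Cfsg.Agent.Lib.Helper11.BenderP

variable {G : Type*} [Group G] [Finite G]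

/-- a `p`-subgroup `S` of `G` of rank at least three with a maximal elementary abelian subgroup of
order `p ^ 2` is narrow -/
theorem narrow_of_max_sq_sub (p : ℕ) [hp : Fact p.Prime] (hp2 : p ≠ 2) (S : Subgroup G)
    (hS : IsPGroup p S) (A : Subgroup G) (hAS : A ≤ S) (hAe : Cfsg.IsElementaryAbelian p A)
    (hA2 : Nat.card A = p ^ 2)
    (hmax : ∀ B : Subgroup G, B ≤ S → Cfsg.IsElementaryAbelian p B → A ≤ B → B = A) :
    Cfsg.IsNarrow p ↥S := by
  by_cases hr : Cfsg.PRankLE p 2 ↥S
  · exact Or.inl hr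
  apply narrow_of_max_sq p hp2 hS hr (A.subgroupOf S)
  · refine ⟨⟨⟨?_⟩⟩, ?_⟩
    · rintro ⟨a, ha⟩ ⟨b, hb⟩
      rw [Subgroup.mem_subgroupOf] at ha hb
      apply Subtype.ext
      apply Subtype.ext
      have := hAe.1.is_comm.comm ⟨a, ha⟩ ⟨b, hb⟩
      show (a : G) * b = b * a
      exact congrArg Subtype.val this
    · intro a ha
      rw [Subgroup.mem_subgroupOf] at ha
      apply Subtype.ext
      simpa using hAe.2 a ha
  · rw [Nat.card_congr (Subgroup.subgroupOfEquivOfLe hAS).toEquiv, hA2]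
  · intro B hBe hAB
    have hB' : B.map S.subtype = A := by
      apply hmax _ (Subgroup.map_subtype_le B)
      · refine ⟨⟨⟨?_⟩⟩, ?_⟩
        · rintro ⟨_, a, ha, rfl⟩ ⟨_, b, hb, rfl⟩
          apply Subtype.ext
          have := hBe.1.is_comm.comm ⟨a, ha⟩ ⟨b, hb⟩
          have h2 := congrArg Subtype.val this
          show ((a : ↥S) : G) * b = b * a
          exact congrArg Subtype.val h2
        · rintro _ ⟨a, ha, rfl⟩
          have := hBe.2 a ha
          have h2 := congrArg Subtype.val this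
          simpa using h2
      · intro a ha
        exact ⟨⟨a, hAS ha⟩, hAB (Subgroup.mem_subgroupOf.mpr ha), rfl⟩
    ext b
    rw [Subgroup.mem_subgroupOf, ← hB']
    constructor
    · intro hb
      exact ⟨b, hb, rfl⟩
    · rintro ⟨b', hb', hbb'⟩
      have : b' = b := Subtype.ext hbb'
      rwa [this] at hb'

/-- the Sylow `p`-subgroups of `M` are narrow for `p ∉ β(M)` -/
theorem sylow_narrow (hG : Cfsg.IsMinSimpleOddOrder G) (M : Subgroup G) (hM : IsCoatom M)
    (p : ℕ) [hp : Fact p.Prime] (hpβ : p ∉ Cfsg.beta M) (S : Sylow p ↥M) :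
    Cfsg.IsNarrow p ↥(S : Subgroup ↥M) := by
  by_cases hpα : p ∈ Cfsg.alpha M
  swap
  · left
    have hrM : Cfsg.PRankLE p 2 ↥M := by
      by_contra h
      exact hpα ⟨hp.out, h⟩
    exact Cfsg.Agent.Lib.Helper11.RankTwoTower.prank_of_injective (S : Subgroup ↥M).subtype
      (Subgroup.subtype_injective _) hrM
  have hp2 : p ≠ 2 := by
    rintro rfl
    obtain ⟨hgood, hS1⟩ := good_of_alpha hG M hM 2 hpα S
    obtain ⟨k, hk⟩ := IsPGroup.iff_card.mp hgood.1.isPGroup
    have hk0 : k ≠ 0 := by
      rintro rfl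
      rw [pow_zero] at hk
      exact hS1 (Subgroup.card_eq_one.mp hk)
    have h1 : 2 ∣ Nat.card ((S : Subgroup ↥M).map M.subtype) := by
      rw [hk]; exact dvd_pow_self 2 hk0
    have h2 : 2 ∣ Nat.card G := h1.trans (Subgroup.card_subgroup_dvd_card _)
    exact (Nat.not_even_iff_odd.mpr hG.1) (even_iff_two_dvd.mpr h2)
  have hrG : ¬ Cfsg.PRankLE p 2 G := by
    intro h
    exact hpα.2 (Cfsg.Agent.Lib.Helper11.RankTwoTower.prank_of_injective M.subtype
      (Subgroup.subtype_injective _) h)
  have hni : ¬ Cfsg.IsIdealPrime p G := fun h => hpβ ⟨hpα, h⟩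
  unfold Cfsg.IsIdealPrime at hni
  push Not at hni
  obtain ⟨P, A, hAP, hAe, hA2, hAmax⟩ := hni hp.out hrG
  obtain ⟨hgood, -⟩ := good_of_alpha hG M hM p hpα S
  obtain ⟨S', hS'⟩ : ∃ S' : Subgroup G, S' = (S : Subgroup ↥M).map M.subtype := ⟨_, rfl⟩
  rw [← hS'] at hgood
  have hStop : IsSylowIn p S' ⊤ := hgood.2.2
  obtain ⟨x, -, hle⟩ := hStop.exists_conj_le (le_top : (P : Subgroup G) ≤ ⊤) P.isPGroup'
  have hPtop : IsSylowIn p (Helper18.conjSub x (P : Subgroup G)) ⊤ :=
    Cfsg.Agent.Lib.Helper11.BenderI.sylow_top_conj p _ (isSylowIn_top_of_sylow P) x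
  have hSeq : S' = Helper18.conjSub x (P : Subgroup G) :=
    hPtop.eq_of_le le_top hStop.isPGroup hle
  have hnar : Cfsg.IsNarrow p ↥S' := by
    apply narrow_of_max_sq_sub p hp2 S' hStop.isPGroup (Helper18.conjSub x A)
      (by rw [hSeq]; exact Helper18.conjSub_mono hAP) (elemAb_conjSub p x hAe)
      (by rw [Helper18.card_conjSub, hA2])
    intro B hBS hBe hAB
    have hB1 : Helper18.conjSub x⁻¹ B ≤ (P : Subgroup G) := by
      rw [Helper18.conjSub_le_iff, inv_inv, ← hSeq]
      exact hBS
    have hB2 : A ≤ Helper18.conjSub x⁻¹ B := Helper18.conjSub_le_iff.mp hAB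
    have hB3 : ¬ A < Helper18.conjSub x⁻¹ B := hAmax _ hB1 (elemAb_conjSub p x⁻¹ hBe)
    have hB4 : Helper18.conjSub x⁻¹ B = A := by
      by_contra hne
      exact hB3 (lt_of_le_of_ne hB2 (Ne.symm hne))
    rw [← hB4, Helper18.conjSub_mul, mul_inv_cancel, Helper18.conjSub_one]
  rw [hS'] at hnar
  exact isNarrow_of_equiv p
    ((S : Subgroup ↥M).equivMapOfInjective M.subtype (Subgroup.subtype_injective _)).symm hnar

end InG

end Cfsg.Agent.Lib.Helper11.BenderR
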