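import Mathlib
import Cfsg.Agent.Lib.Helper11.BenderR
import Cfsg.Agent.Lib.Helper21.PSeries
import Cfsg.Agent.S1459
import Cfsg.Agent.S1455

set_option autoImplicit false
open scoped commutatorElement

namespace Cfsg.Agent.Lib.Helper11.BenderS

open Cfsg.Agent.Lib.Helper11 Cfsg.Agent.Lib.Helper11.MaxLocA Cfsg.Agent.Lib.Helper11.MaxLocB
  Cfsg.Agent.Lib.Helper11.MaxSubA Cfsg.Agent.Lib.Helper11.MaxSubB Cfsg.Agent.Lib.Helper11.MaxSubC
  Cfsg.Agent.Lib.Helper11.MaxSubD Cfsg.Agent.Lib.Helper11.MaxSubE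
  Cfsg.Agent.Lib.Helper18 Cfsg.Agent.Lib.Helper11.BenderD Cfsg.Agent.Lib.Helper11.BenderE
  Cfsg.Agent.Lib.Helper11.BenderF Cfsg.Agent.Lib.Helper11.BenderL Cfsg.Agent.Lib.Helper11.BenderM
  Cfsg.Agent.Lib.Helper11.BenderN Cfsg.Agent.Lib.Helper11.BenderO Cfsg.Agent.Lib.Helper11.BenderG
  Cfsg.Agent.Lib.Helper11.BenderP Cfsg.Agent.Lib.Helper11.BenderQ Cfsg.Agent.Lib.Helper11.BenderR

universe u

/-- the statement of B & G, Theorem 3.6 for the group `Γ` -/
def Thm36 (Γ : Type u) [Group Γ] [Finite Γ] : Prop :=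
  Group.IsSolvable Γ → Odd (Nat.card Γ) → ∀ (H R R₀ : Subgroup Γ), H.Normal →
    (Nat.card H).Coprime H.index → Subgroup.IsComplement' H R → R₀ ≤ R → (Nat.card R₀).Prime →
    IsZGroup ↥(H ⊓ Subgroup.centralizer (R₀ : Set Γ)) →
    ∀ (p : ℕ), p.Prime → Cfsg.PLengthLE p 1 ↥⁅H, R⁆

variable {G : Type u} [Group G] [Finite G]

/-- a maximal subgroup of a minimal simple group is nontrivial -/
theorem coatom_ne_bot (hG : Cfsg.IsMinSimpleOddOrder G) (M : Subgroup G) (hM : IsCoatom M) :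
    M ≠ ⊥ := by
  rintro rfl
  apply bot_not_unique hG
  refine ⟨⊥, ⟨hM, le_refl _⟩, ?_⟩
  rintro L ⟨hL, -⟩
  by_contra hne
  have hlt : (⊥ : Subgroup G) < L := bot_lt_iff_ne_bot.mpr hne
  exact hL.1 (hM.2 L hlt)

/-- Sylow `p`-subgroups of `M` for `p ∈ σ(M)` lie in `M'` -/
theorem sylow_le_commutator (hG : Cfsg.IsMinSimpleOddOrder G) (M : Subgroup G) (hM : IsCoatom M)
    (p : ℕ) [hp : Fact p.Prime] (hpσ : p ∈ Cfsg.sigma M) (P : Sylow p ↥M) :
    (P : Subgroup ↥M) ≤ commutator ↥M := by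
  obtain ⟨P₀, hgood, -⟩ := exists_sylow_le_sigmaCore hG M hM p hpσ
  have h1 := sylow_le_derived hG M hM p _ hgood
  rw [← Subgroup.map_subtype_commutator] at h1
  have h0 : (P₀ : Subgroup ↥M) ≤ commutator ↥M := by
    intro x hx
    obtain ⟨y, hy, hxy⟩ := h1 ⟨x, hx, rfl⟩
    have : y = x := Subtype.ext hxy
    rwa [this] at hy
  obtain ⟨g, hg⟩ := MulAction.exists_smul_eq ↥M P₀ P
  rw [← hg]
  intro x hx
  rw [Sylow.coe_subgroup_smul, Subgroup.mem_pointwise_smul_iff_inv_smul_mem] at hx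
  have h2 := h0 hx
  have hn : (commutator ↥M).Normal := inferInstance
  have h3 := hn.conj_mem _ h2 g
  have e : g * ((MulAut.conj g)⁻¹ • x) * g⁻¹ = x := by
    rw [MulAut.smul_def, MulAut.conj_inv_apply]
    group
  rwa [e] at h3

/-- some prime divisor of `|M|` lies outside `σ(M)` -/
theorem exists_prime_not_sigma (hG : Cfsg.IsMinSimpleOddOrder G) (M : Subgroup G)
    (hM : IsCoatom M) : ∃ r : ℕ, r.Prime ∧ r ∣ Nat.card M ∧ r ∉ Cfsg.sigma M := by
  by_contra hcon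
  push Not at hcon
  have hMs : Group.IsSolvable ↥M := coatom_solvable hG M hM
  have hnt : Nontrivial ↥M := (Subgroup.nontrivial_iff_ne_bot M).mpr (coatom_ne_bot hG M hM)
  have hlt := IsSolvable.commutator_lt_top_of_nontrivial (G := ↥M)
  apply hlt.ne
  apply Subgroup.index_eq_one.mp
  by_contra hne
  obtain ⟨r, hr, hrd⟩ := Nat.exists_prime_and_dvd hne
  have : Fact r.Prime := ⟨hr⟩
  have hrM : r ∣ Nat.card ↥M := hrd.trans (Subgroup.index_dvd_card _)
  have hrσ := hcon r hr hrM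
  obtain ⟨P⟩ : Nonempty (Sylow r ↥M) := inferInstance
  have hle := sylow_le_commutator hG M hM r hrσ P
  exact P.not_dvd_index (hrd.trans (Subgroup.index_dvd_of_le hle))

/-- `O_{α(M)}(M)` has order coprime to its index -/
theorem alphaCore_coprime (hG : Cfsg.IsMinSimpleOddOrder G) (M : Subgroup G) (hM : IsCoatom M) :
    (Nat.card (Cfsg.piCore (Cfsg.alpha M) ↥M)).Coprime (Cfsg.piCore (Cfsg.alpha M) ↥M).index := by
  obtain ⟨hα1, -, -, -, -⟩ := alpha_hall hG M hM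
  have hpi := Cfsg.Agent.Lib.Helper11.piCore_piNum (G := ↥M) (Cfsg.alpha M)
  have hrel : (Cfsg.alphaCore M).relIndex M = (Cfsg.piCore (Cfsg.alpha M) ↥M).index := by
    unfold Cfsg.alphaCore Subgroup.relIndex
    congr 1
    ext x
    simp [Subgroup.mem_subgroupOf]
  apply Nat.coprime_of_dvd
  intro k hk hk1 hk2
  rw [← hrel] at hk2
  exact hα1.2.2 k hk (hpi k hk hk1) hk2

/-- `O_π(M) ≤ M'` when it contains, for each `r ∈ π`, a Sylow `r`-subgroup of `M` lying in `M'` -/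
theorem piCore_le_commutator (M : Subgroup G) (π : Set ℕ)
    (h : ∀ r : ℕ, r.Prime → r ∈ π → ∃ P : Sylow r ↥M,
      (P : Subgroup ↥M) ≤ Cfsg.piCore π ↥M ∧ (P : Subgroup ↥M) ≤ commutator ↥M) :
    Cfsg.piCore π ↥M ≤ commutator ↥M := by
  have hpi := Cfsg.Agent.Lib.Helper11.piCore_piNum (G := ↥M) π
  obtain ⟨H, hH⟩ : ∃ H : Subgroup ↥M, H = Cfsg.piCore π ↥M := ⟨_, rfl⟩
  rw [← hH]
  have hone : (commutator ↥M).relIndex H = 1 := by
    by_contra hne
    obtain ⟨r, hr, hrd⟩ := Nat.exists_prime_and_dvd hne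
    have : Fact r.Prime := ⟨hr⟩
    have hrH : r ∣ Nat.card H := by
      refine hrd.trans ?_
      unfold Subgroup.relIndex
      exact Subgroup.index_dvd_card _
    have hrπ : r ∈ π := hpi r hr (hH ▸ hrH)
    obtain ⟨P, h1', h2⟩ := h r hr hrπ
    have h1 : (P : Subgroup ↥M) ≤ H := hH ▸ h1'
    have h3 : (P : Subgroup ↥M) ≤ commutator ↥M ⊓ H := le_inf h2 h1
    have h4 : (commutator ↥M).relIndex H ∣ (commutator ↥M ⊓ H).index := by
      rw [← Subgroup.inf_relIndex_right]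
      exact Subgroup.relIndex_dvd_index_of_le inf_le_right
    exact P.not_dvd_index ((hrd.trans h4).trans (Subgroup.index_dvd_of_le h3))
  exact Subgroup.relIndex_eq_one.mp hone

/-- `O_{α(M)}(M) ≤ M'` -/
theorem alphaCore_le_commutator (hG : Cfsg.IsMinSimpleOddOrder G) (M : Subgroup G)
    (hM : IsCoatom M) : Cfsg.piCore (Cfsg.alpha M) ↥M ≤ commutator ↥M := by
  apply piCore_le_commutator
  intro r hr hrα
  have : Fact r.Prime := ⟨hr⟩
  obtain ⟨P⟩ : Nonempty (Sylow r ↥M) := inferInstance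
  exact ⟨P, sylow_le_alphaCore hG M hM r hrα P,
    sylow_le_commutator hG M hM r (alpha_sub_sigma hG M hM r hrα) P⟩

/-- `O_{σ(M)}(M) ≤ M'` -/
theorem sigmaCore_le_commutator (hG : Cfsg.IsMinSimpleOddOrder G) (M : Subgroup G)
    (hM : IsCoatom M) : Cfsg.piCore (Cfsg.sigma M) ↥M ≤ commutator ↥M := by
  apply piCore_le_commutator
  intro r hr hrσ
  have : Fact r.Prime := ⟨hr⟩
  obtain ⟨P, -, hP⟩ := exists_sylow_le_sigmaCore hG M hM r hrσ
  exact ⟨P, hP, sylow_le_commutator hG M hM r hrσ P⟩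

/-- **`M_α` has `p`-length one for every prime `p`** (given B & G, Theorem 3.6) -/
theorem alphaCore_plength (hG : Cfsg.IsMinSimpleOddOrder G) (M : Subgroup G) (hM : IsCoatom M)
    (h36 : Thm36 ↥M) (p : ℕ) [hp : Fact p.Prime] :
    Cfsg.PLengthLE p 1 ↥(Cfsg.piCore (Cfsg.alpha M) ↥M) := by
  have hMs : Group.IsSolvable ↥M := coatom_solvable hG M hM
  have hModd : Odd (Nat.card ↥M) := coatom_odd hG M
  have hpi := Cfsg.Agent.Lib.Helper11.piCore_piNum (G := ↥M) (Cfsg.alpha M)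
  obtain ⟨H, hH⟩ : ∃ H : Subgroup ↥M, H = Cfsg.piCore (Cfsg.alpha M) ↥M := ⟨_, rfl⟩
  have hHn : H.Normal := by rw [hH]; infer_instance
  have hcop : (Nat.card H).Coprime H.index := by rw [hH]; exact alphaCore_coprime hG M hM
  have hHc : H ≤ commutator ↥M := by rw [hH]; exact alphaCore_le_commutator hG M hM
  obtain ⟨R, hR⟩ := Subgroup.exists_right_complement'_of_coprime hcop
  obtain ⟨r, hr, hrM, hrσ⟩ := exists_prime_not_sigma hG M hM
  have : Fact r.Prime := ⟨hr⟩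
  have hrH : ¬ r ∣ Nat.card H := by
    intro hd
    exact hrσ (alpha_sub_sigma hG M hM r (hpi r hr (hH ▸ hd)))
  -- a Sylow `r`-subgroup of `M` inside `R`
  obtain ⟨QR⟩ : Nonempty (Sylow r ↥R) := inferInstance
  have hcardM : Nat.card ↥M = Nat.card H * Nat.card R := hR.card_mul.symm
  have hfact : (Nat.card ↥M).factorization r = (Nat.card R).factorization r := by
    rw [hcardM, Nat.factorization_mul Nat.card_pos.ne' Nat.card_pos.ne']
    simp [Nat.factorization_eq_zero_of_not_dvd hrH]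
  have hQcard : Nat.card ((QR : Subgroup ↥R).map R.subtype) =
      r ^ (Nat.card ↥M).factorization r := by
    rw [Subgroup.card_map_of_injective (Subgroup.subtype_injective _), QR.card_eq_multiplicity,
      hfact]
  obtain ⟨Q, hQ⟩ : ∃ Q : Sylow r ↥M, (Q : Subgroup ↥M) = (QR : Subgroup ↥R).map R.subtype :=
    ⟨Sylow.ofCard _ hQcard, rfl⟩
  have hQR : (Q : Subgroup ↥M) ≤ R := by
    rw [hQ]
    exact Subgroup.map_subtype_le _
  obtain ⟨x, hxc, hxo, hxZ, -⟩ := exists_center_zgroup hG M hM r hrM hrσ Q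
  obtain ⟨m, ⟨z, -, rfl⟩, rfl⟩ := hxc
  -- `m = z` lies in `Q ≤ R`
  obtain ⟨y, hy⟩ : ∃ y : ↥M, y = ((Q : Subgroup ↥M).subtype z) := ⟨_, rfl⟩
  have hyQ : y ∈ (Q : Subgroup ↥M) := by rw [hy]; exact z.2
  have hyo : orderOf y = r := by
    rw [← hxo, hy]
    exact (Subgroup.orderOf_coe _).symm
  have hR₀R : Subgroup.zpowers y ≤ R := by
    rw [Subgroup.zpowers_le]
    exact hQR hyQ
  have hR₀p : (Nat.card (Subgroup.zpowers y)).Prime := by
    rw [Nat.card_zpowers, hyo]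
    exact hr
  have hZ : IsZGroup ↥(H ⊓ Subgroup.centralizer ((Subgroup.zpowers y : Subgroup ↥M) : Set ↥M)) := by
    have hmem : ∀ w : ↥(H ⊓ Subgroup.centralizer ((Subgroup.zpowers y : Subgroup ↥M) : Set ↥M)),
        ((w : ↥M) : G) ∈ Cfsg.alphaCore M ⊓
          Subgroup.centralizer ({M.subtype ((Q : Subgroup ↥M).subtype z)} : Set G) := by
      intro w
      refine ⟨?_, ?_⟩
      · unfold Cfsg.alphaCore
        exact ⟨(w : ↥M), hH ▸ w.2.1, rfl⟩
      · show ((w : ↥M) : G) ∈ Subgroup.centralizer _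
        rw [Subgroup.mem_centralizer_iff]
        intro t ht
        rw [Set.mem_singleton_iff] at ht
        rw [ht]
        have := Subgroup.mem_centralizer_iff.mp w.2.2 y (Subgroup.mem_zpowers y)
        have h2 := congrArg Subtype.val this
        rw [← hy]
        exact h2
    let φ : ↥(H ⊓ Subgroup.centralizer ((Subgroup.zpowers y : Subgroup ↥M) : Set ↥M)) →*
        ↥(Cfsg.alphaCore M ⊓
          Subgroup.centralizer ({M.subtype ((Q : Subgroup ↥M).subtype z)} : Set G)) :=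
      { toFun := fun w => ⟨((w : ↥M) : G), hmem w⟩
        map_one' := rfl
        map_mul' := fun _ _ => rfl }
    have hφ : Function.Injective φ := by
      intro a b hab
      apply Subtype.ext
      apply Subtype.ext
      have h2 := congrArg Subtype.val hab
      exact h2
    exact IsZGroup.of_injective hφ
  have key := h36 hMs hModd H R (Subgroup.zpowers y) hHn hcop hR hR₀R hR₀p hZ p hp.out
  have heq : H = ⁅H, R⁆ :=
    ((Cfsg.Agent.S1459.result (G := ↥M)).1 H R hHn hcop hR hHc).1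
  rw [← heq, hH] at key
  exact key

/-- `M` has `p`-length one for `p ∈ α(M)` (given B & G, Theorem 3.6) -/
theorem plength_of_alpha (hG : Cfsg.IsMinSimpleOddOrder G) (M : Subgroup G) (hM : IsCoatom M)
    (h36 : Thm36 ↥M) (p : ℕ) [hp : Fact p.Prime] (hpα : p ∈ Cfsg.alpha M) :
    Cfsg.PLengthLE p 1 ↥M := by
  have h1 := alphaCore_plength hG M hM h36 p
  have hcop := alphaCore_coprime hG M hM
  have hidx : ¬ p ∣ (Cfsg.piCore (Cfsg.alpha M) ↥M).index := by
    intro hd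
    obtain ⟨P⟩ : Nonempty (Sylow p ↥M) := inferInstance
    have hle := sylow_le_alphaCore hG M hM p hpα P
    exact P.not_dvd_index (hd.trans (Subgroup.index_dvd_of_le hle))
  have h0 : Cfsg.PLengthLE p 0 (↥M ⧸ Cfsg.piCore (Cfsg.alpha M) ↥M) := by
    apply Cfsg.Agent.Lib.Helper21.plength_zero_of_coprime
    rw [← Subgroup.index_eq_card]
    exact ((Nat.Prime.coprime_iff_not_dvd hp.out).mpr hidx).symm
  exact Cfsg.Agent.Lib.Helper21.plength_add _ h1 h0

/-- the consequences of B & G, Theorem 5.6 for `p ∈ π(M) ∖ β(M)` -/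
theorem narrow_data (hG : Cfsg.IsMinSimpleOddOrder G) (M : Subgroup G) (hM : IsCoatom M)
    (h36 : Thm36 ↥M) (p : ℕ) [hp : Fact p.Prime] (hpM : p ∣ Nat.card M) (hpβ : p ∉ Cfsg.beta M) :
    (∀ q : ℕ, q.Prime → q ∣ (Cfsg.pPrimeCore p ↥M).index → q ≤ p) ∧
      Cfsg.HasNormalPComplement p ↥(commutator ↥M) ∧
      (∀ L : Subgroup ↥(commutator ↥M), (Nat.card L).Coprime p →
        L ≤ Cfsg.pPrimeCore p ↥(commutator ↥M)) := by
  have hMs : Group.IsSolvable ↥M := coatom_solvable hG M hM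
  have hModd : Odd (Nat.card ↥M) := coatom_odd hG M
  obtain ⟨S⟩ : Nonempty (Sylow p ↥M) := inferInstance
  have hS := sylow_narrow hG M hM p hpβ S
  have hpl : ¬ Cfsg.PRankLE p 2 ↥(S : Subgroup ↥M) → Cfsg.PLengthLE p 1 ↥M := by
    intro hr
    apply plength_of_alpha hG M hM h36 p
    refine ⟨hp.out, ?_⟩
    intro h
    exact hr (Cfsg.Agent.Lib.Helper11.RankTwoTower.prank_of_injective (S : Subgroup ↥M).subtype
      (Subgroup.subtype_injective _) h)
  obtain ⟨h1, -, h3, h4, -, -⟩ := Cfsg.Agent.S1455.result hModd p hpM S hS hpl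
  exact ⟨h1, h3, h4⟩

end Cfsg.Agent.Lib.Helper11.BenderS
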