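import Mathlib

set_option autoImplicit false

namespace Cfsg.Agent.Lib.Helper11.FrobLinEig

open Module Polynomial

variable {K : Type*} [Field K] {W : Type*} [AddCommGroup W] [Module K W]
variable {Γ : Type*} [Group Γ]

/-- joint eigenspace of the `ρ z`, `z ∈ Z`, for the family of eigenvalues `χ` -/
def jointEig (ρ : Γ →* End K W) (Z : Subgroup Γ) (χ : Z → K) : Submodule K W :=
  ⨅ z : Z, End.eigenspace (ρ (z : Γ)) (χ z)

theorem mem_jointEig (ρ : Γ →* End K W) (Z : Subgroup Γ) (χ : Z → K) (w : W) :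
    w ∈ jointEig ρ Z χ ↔ ∀ z : Z, ρ (z : Γ) w = χ z • w := by
  unfold jointEig
  rw [Submodule.mem_iInf]
  exact forall_congr' fun z => End.mem_eigenspace_iff

theorem semisimple_of_pow (f : End K W) (n : ℕ) (hn : (n : K) ≠ 0) (hf : f ^ n = 1) :
    f.IsSemisimple := by
  apply End.isSemisimple_of_squarefree_aeval_eq_zero
    (separable_X_pow_sub_C (1 : K) hn one_ne_zero).squarefree
  simp [hf]

theorem jointEig_indep (ρ : Γ →* End K W) (Z : Subgroup Γ)
    (hcomm : ∀ z ∈ Z, ∀ z' ∈ Z, Commute (ρ z) (ρ z')) : iSupIndep (jointEig ρ Z) := by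
  have h1 : iSupIndep fun χ : Z → K => ⨅ z : Z, (ρ (z : Γ)).maxGenEigenspace (χ z) := by
    apply End.independent_iInf_maxGenEigenspace_of_forall_mapsTo (fun z : Z => ρ (z : Γ))
    intro i j φ
    exact End.mapsTo_maxGenEigenspace_of_comm (hcomm j j.2 i i.2) φ
  apply h1.mono
  intro χ
  exact iInf_mono fun z => End.eigenspace_le_maxGenEigenspace

theorem jointEig_iSup [IsAlgClosed K] [FiniteDimensional K W] (ρ : Γ →* End K W) (Z : Subgroup Γ)
    [Finite Z] (hcomm : ∀ z ∈ Z, ∀ z' ∈ Z, Commute (ρ z) (ρ z'))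
    (hZK : ((Nat.card Z : ℕ) : K) ≠ 0) : ⨆ χ : Z → K, jointEig ρ Z χ = ⊤ := by
  have hss : ∀ z : Z, (ρ (z : Γ)).IsFinitelySemisimple := by
    intro z
    rw [End.isFinitelySemisimple_iff_isSemisimple]
    apply semisimple_of_pow _ (Nat.card Z) hZK
    rw [← map_pow]
    have h1 : (z : Γ) ^ Nat.card Z = 1 := by
      have := pow_card_eq_one' (G := Z) (x := z)
      exact_mod_cast congrArg Subtype.val this
    rw [h1, map_one]
  have h1 : ⨆ χ : Z → K, ⨅ z : Z, (ρ (z : Γ)).maxGenEigenspace (χ z) = ⊤ := by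
    apply End.iSup_iInf_maxGenEigenspace_eq_top_of_iSup_maxGenEigenspace_eq_top_of_commute
      (fun z : Z => ρ (z : Γ))
    · intro i j _
      exact hcomm i i.2 j j.2
    · intro i
      exact End.iSup_maxGenEigenspace_eq_top _
  rw [← h1]
  apply iSup_congr
  intro χ
  unfold jointEig
  apply iInf_congr
  intro z
  exact ((hss z).maxGenEigenspace_eq_eigenspace (χ z)).symm

end Cfsg.Agent.Lib.Helper11.FrobLinEig
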