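import Mathlib

set_option autoImplicit false

namespace Cfsg.Agent.Lib.Helper11.FrobLinFree

open Module

variable {K : Type*} [Field K] {W : Type*} [AddCommGroup W] [Module K W]

/-- the submodule of vectors fixed by every `σ r` -/
def fixedSub {R : Type*} [Monoid R] (σ : R →* End K W) : Submodule K W where
  carrier := {w | ∀ r, σ r w = w}
  add_mem' := by
    intro a b ha hb r
    rw [map_add, ha r, hb r]
  zero_mem' := by
    intro r
    exact map_zero _
  smul_mem' := by
    intro c a ha r
    rw [map_smul, ha r]

theorem mem_fixedSub {R : Type*} [Monoid R] (σ : R →* End K W) (w : W) :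
    w ∈ fixedSub σ ↔ ∀ r, σ r w = w := Iff.rfl

/-- the "sum of translates" map -/
noncomputable def sumMap {R : Type*} [Group R] [Fintype R] (σ : R →* End K W) (U : Submodule K W) :
    (R → U) →ₗ[K] W :=
  ∑ r : R, (σ r).comp (U.subtype.comp (LinearMap.proj r))

theorem sumMap_apply {R : Type*} [Group R] [Fintype R] (σ : R →* End K W) (U : Submodule K W)
    (u : R → U) : sumMap σ U u = ∑ r : R, σ r (u r : W) := by
  unfold sumMap
  rw [LinearMap.sum_apply]
  rfl

theorem sumMap_translate {R : Type*} [Group R] [Fintype R] (σ : R →* End K W) (U : Submodule K W)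
    (u : R → U) (s : R) : σ s (sumMap σ U u) = sumMap σ U (fun r => u (s⁻¹ * r)) := by
  rw [sumMap_apply, sumMap_apply, map_sum]
  rw [← Equiv.sum_comp (Equiv.mulLeft s) (fun r => σ r ((u (s⁻¹ * r) : U) : W))]
  apply Finset.sum_congr rfl
  intro r _
  simp only [Equiv.coe_mulLeft, inv_mul_cancel_left, map_mul, Module.End.mul_apply]

theorem free_count {R : Type*} [Group R] [Fintype R] [FiniteDimensional K W]
    (σ : R →* End K W) (U : Submodule K W) (hbij : Function.Bijective (sumMap σ U)) :
    finrank K W = Fintype.card R * finrank K U ∧ finrank K (fixedSub σ) = finrank K U := by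
  constructor
  · have e := LinearEquiv.ofBijective (sumMap σ U) hbij
    rw [← e.finrank_eq, Module.finrank_pi_fintype]
    simp
  · -- the map U → fixedSub
    have hfix : ∀ u : U, sumMap σ U (fun _ => u) ∈ fixedSub σ := by
      intro u s
      rw [sumMap_translate]
    obtain ⟨Ψ, hΨ⟩ : ∃ Ψ : U →ₗ[K] fixedSub σ, ∀ u : U, (Ψ u : W) = sumMap σ U (fun _ => u) := by
      refine ⟨LinearMap.codRestrict (fixedSub σ)
        ((sumMap σ U).comp (LinearMap.pi (fun _ => LinearMap.id))) ?_, ?_⟩
      · intro u
        exact hfix u
      · intro u
        rfl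
    have hΨbij : Function.Bijective Ψ := by
      constructor
      · rw [injective_iff_map_eq_zero]
        intro u hu
        have h1 : sumMap σ U (fun _ => u) = 0 := by
          rw [← hΨ, hu]
          rfl
        have h2 : (fun _ : R => u) = 0 := by
          apply hbij.1
          rw [h1, map_zero]
        exact congrFun h2 1
      · intro w
        obtain ⟨u, hu⟩ := hbij.2 (w : W)
        have hconst : ∀ s : R, (fun r => u (s⁻¹ * r)) = u := by
          intro s
          apply hbij.1
          rw [← sumMap_translate, hu]
          exact w.2 s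
        have h1 : ∀ r : R, u r = u 1 := by
          intro r
          have := congrFun (hconst r) r
          simp only [inv_mul_cancel] at this
          exact this.symm
        refine ⟨u 1, ?_⟩
        apply Subtype.ext
        rw [hΨ, ← hu]
        congr 1
        funext r
        exact (h1 r).symm
    exact ((LinearEquiv.ofBijective Ψ hΨbij).finrank_eq).symm

end Cfsg.Agent.Lib.Helper11.FrobLinFree
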