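import Mathlib
import Cfsg.Agent.Lib.Helper11.FrobLinFree
import Cfsg.Agent.Lib.Helper11.FrobLinEig

set_option autoImplicit false

namespace Cfsg.Agent.Lib.Helper11.FrobLinOrbit

open Module Cfsg.Agent.Lib.Helper11.FrobLinFree Cfsg.Agent.Lib.Helper11.FrobLinEig

variable {K : Type*} [Field K] {W : Type*} [AddCommGroup W] [Module K W]
variable {Γ : Type*} [Group Γ]

theorem sum_zero_of_indep {ι : Type*} [Fintype ι] (M : ι → Submodule K W)
    (hM : iSupIndep M) (m : ι → W) (hm : ∀ i, m i ∈ M i) (hsum : ∑ i, m i = 0) :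
    ∀ i, m i = 0 := by
  classical
  intro i
  have h1 : m i + ∑ j ∈ Finset.univ.erase i, m j = 0 := by
    rw [Finset.add_sum_erase _ _ (Finset.mem_univ i), hsum]
  have h2 : m i = - ∑ j ∈ Finset.univ.erase i, m j := eq_neg_of_add_eq_zero_left h1
  have h3 : ∑ j ∈ Finset.univ.erase i, m j ∈ ⨆ (j) (_ : j ≠ i), M j := by
    apply Submodule.sum_mem
    intro j hj
    exact Submodule.mem_iSup_of_mem j
      (Submodule.mem_iSup_of_mem (Finset.ne_of_mem_erase hj) (hm j))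
  have h4 : m i ∈ ⨆ (j) (_ : j ≠ i), M j := by
    rw [h2]
    exact neg_mem h3
  exact Submodule.disjoint_def.mp (hM i) (m i) (hm i) h4

variable (ρ : Γ →* End K W) (Z R : Subgroup Γ)

/-- the action of `R` on families of eigenvalues -/
def act (hn : ∀ r ∈ R, ∀ z ∈ Z, r⁻¹ * z * r ∈ Z) (r : R) (χ : Z → K) : Z → K :=
  fun z => χ ⟨(r : Γ)⁻¹ * z * r, hn r r.2 z z.2⟩

theorem act_one (hn : ∀ r ∈ R, ∀ z ∈ Z, r⁻¹ * z * r ∈ Z) (χ : Z → K) : act Z R hn 1 χ = χ := by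
  funext z
  unfold act
  congr 1
  apply Subtype.ext
  simp

theorem act_mul (hn : ∀ r ∈ R, ∀ z ∈ Z, r⁻¹ * z * r ∈ Z) (r s : R) (χ : Z → K) :
    act Z R hn (r * s) χ = act Z R hn r (act Z R hn s χ) := by
  funext z
  unfold act
  congr 1
  apply Subtype.ext
  simp only [Subgroup.coe_mul, mul_inv_rev]
  group

theorem map_mem (hn : ∀ r ∈ R, ∀ z ∈ Z, r⁻¹ * z * r ∈ Z) (r : R) (χ : Z → K) (w : W)
    (hw : w ∈ jointEig ρ Z χ) : ρ (r : Γ) w ∈ jointEig ρ Z (act Z R hn r χ) := by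
  rw [mem_jointEig] at hw ⊢
  intro z
  have h1 : (z : Γ) * (r : Γ) = (r : Γ) * ((r : Γ)⁻¹ * z * r) := by group
  have h2 := hw ⟨(r : Γ)⁻¹ * z * r, hn r r.2 z z.2⟩
  rw [← Module.End.mul_apply, ← map_mul, h1, map_mul, Module.End.mul_apply]
  simp only at h2
  rw [h2, map_smul]
  rfl

theorem map_jointEig (hn : ∀ r ∈ R, ∀ z ∈ Z, r⁻¹ * z * r ∈ Z) (r : R) (χ : Z → K) :
    (jointEig ρ Z χ).map (ρ (r : Γ)) = jointEig ρ Z (act Z R hn r χ) := by
  apply le_antisymm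
  · rintro _ ⟨w, hw, rfl⟩
    exact map_mem ρ Z R hn r χ w hw
  · intro w hw
    have h1 := map_mem ρ Z R hn r⁻¹ _ w hw
    rw [← act_mul, inv_mul_cancel, act_one] at h1
    refine ⟨_, h1, ?_⟩
    rw [← Module.End.mul_apply, ← map_mul]
    simp

/-- the orbit equivalence relation -/
def orbSetoid (hn : ∀ r ∈ R, ∀ z ∈ Z, r⁻¹ * z * r ∈ Z) : Setoid (Z → K) where
  r χ χ' := ∃ r : R, act Z R hn r χ = χ'
  iseqv := by
    refine ⟨fun χ => ⟨1, act_one Z R hn χ⟩, ?_, ?_⟩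
    · rintro χ χ' ⟨r, h⟩
      refine ⟨r⁻¹, ?_⟩
      rw [← h, ← act_mul, inv_mul_cancel, act_one]
    · rintro χ χ' χ'' ⟨r, h⟩ ⟨s, h'⟩
      refine ⟨s * r, ?_⟩
      rw [act_mul, h, h']

/-- orbit representatives in the support -/
def reps (hn : ∀ r ∈ R, ∀ z ∈ Z, r⁻¹ * z * r ∈ Z) : Set (Z → K) :=
  {χ | jointEig ρ Z χ ≠ ⊥ ∧ (Quotient.mk (orbSetoid Z R hn) χ).out = χ}

/-- the span of the eigenspaces of the representatives -/
def repSpace (hn : ∀ r ∈ R, ∀ z ∈ Z, r⁻¹ * z * r ∈ Z) : Submodule K W :=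
  ⨆ χ ∈ reps ρ Z R hn, jointEig ρ Z χ

theorem map_repSpace (hn : ∀ r ∈ R, ∀ z ∈ Z, r⁻¹ * z * r ∈ Z) (r : R) :
    (repSpace ρ Z R hn).map (ρ (r : Γ)) =
      ⨆ χ' ∈ (act Z R hn r) '' (reps ρ Z R hn), jointEig ρ Z χ' := by
  unfold repSpace
  rw [Submodule.map_iSup, iSup_image]
  apply iSup_congr
  intro χ
  rw [Submodule.map_iSup]
  apply iSup_congr
  intro _
  exact map_jointEig ρ Z R hn r χ

theorem blocks_disjoint (hn : ∀ r ∈ R, ∀ z ∈ Z, r⁻¹ * z * r ∈ Z)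
    (hfree : ∀ r : R, r ≠ 1 → ∀ χ : Z → K, act Z R hn r χ = χ → jointEig ρ Z χ = ⊥)
    (r s : R) (hrs : r ≠ s) (χ' : Z → K)
    (h1 : χ' ∈ (act Z R hn r) '' (reps ρ Z R hn)) (h2 : χ' ∈ (act Z R hn s) '' (reps ρ Z R hn)) :
    False := by
  obtain ⟨χ₁, ⟨hne₁, hout₁⟩, e₁⟩ := h1
  obtain ⟨χ₂, ⟨_, hout₂⟩, e₂⟩ := h2
  have hrel : (orbSetoid Z R hn).r χ₁ χ₂ := by
    refine ⟨s⁻¹ * r, ?_⟩
    rw [act_mul, e₁, ← e₂, ← act_mul, inv_mul_cancel, act_one]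
  have hq : Quotient.mk (orbSetoid Z R hn) χ₁ = Quotient.mk (orbSetoid Z R hn) χ₂ :=
    Quotient.sound hrel
  have h12 : χ₁ = χ₂ := by
    rw [← hout₁, ← hout₂, hq]
  subst h12
  have h3 : act Z R hn (s⁻¹ * r) χ₁ = χ₁ := by
    rw [act_mul, e₁, ← e₂, ← act_mul, inv_mul_cancel, act_one]
  have h4 : s⁻¹ * r ≠ 1 := by
    intro h
    apply hrs
    have := eq_of_inv_mul_eq_one h
    exact this.symm
  exact hne₁ (hfree _ h4 χ₁ h3)

theorem indep_translates (hn : ∀ r ∈ R, ∀ z ∈ Z, r⁻¹ * z * r ∈ Z)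
    (hind : iSupIndep (jointEig ρ Z))
    (hfree : ∀ r : R, r ≠ 1 → ∀ χ : Z → K, act Z R hn r χ = χ → jointEig ρ Z χ = ⊥) :
    iSupIndep (fun r : R => (repSpace ρ Z R hn).map (ρ (r : Γ))) := by
  intro r
  simp only [map_repSpace]
  have h1 : (⨆ (s : R) (_ : s ≠ r), ⨆ χ' ∈ (act Z R hn s) '' (reps ρ Z R hn), jointEig ρ Z χ') ≤
      ⨆ χ' ∈ (⋃ (s : R) (_ : s ≠ r), (act Z R hn s) '' (reps ρ Z R hn)), jointEig ρ Z χ' := by
    apply iSup_le
    intro s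
    apply iSup_le
    intro hs
    apply iSup_le
    intro χ'
    apply iSup_le
    intro hχ'
    have hmem : χ' ∈ (⋃ (s : R) (_ : s ≠ r), (act Z R hn s) '' (reps ρ Z R hn)) := by
      simp only [Set.mem_iUnion]
      exact ⟨s, hs, hχ'⟩
    exact le_iSup₂ (f := fun χ' (_ : χ' ∈ (⋃ (s : R) (_ : s ≠ r),
      (act Z R hn s) '' (reps ρ Z R hn))) => jointEig ρ Z χ') χ' hmem
  refine Disjoint.mono_right h1 ?_
  apply hind.disjoint_biSup_biSup
  rw [Set.disjoint_left]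
  intro χ' h2 h3
  simp only [Set.mem_iUnion] at h3
  obtain ⟨s, hs, h3⟩ := h3
  exact blocks_disjoint ρ Z R hn hfree r s (Ne.symm hs) χ' h2 h3

theorem iSup_translates (hn : ∀ r ∈ R, ∀ z ∈ Z, r⁻¹ * z * r ∈ Z)
    (htop : ⨆ χ : Z → K, jointEig ρ Z χ = ⊤) :
    ⨆ r : R, (repSpace ρ Z R hn).map (ρ (r : Γ)) = ⊤ := by
  rw [eq_top_iff, ← htop]
  apply iSup_le
  intro χ'
  by_cases hbot : jointEig ρ Z χ' = ⊥
  · rw [hbot]
    exact bot_le
  · -- representative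
    obtain ⟨χ₀, hχ₀⟩ : ∃ χ₀, χ₀ = (Quotient.mk (orbSetoid Z R hn) χ').out := ⟨_, rfl⟩
    have hrel : (orbSetoid Z R hn).r χ₀ χ' := by
      rw [hχ₀]
      exact Quotient.exact (Quotient.out_eq (Quotient.mk (orbSetoid Z R hn) χ'))
    obtain ⟨r, hr⟩ := hrel
    have hq : Quotient.mk (orbSetoid Z R hn) χ₀ = Quotient.mk (orbSetoid Z R hn) χ' :=
      Quotient.sound ⟨r, hr⟩
    have hne : jointEig ρ Z χ₀ ≠ ⊥ := by
      intro h
      apply hbot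
      rw [← hr, ← map_jointEig, h, Submodule.map_bot]
    have hmem : χ₀ ∈ reps ρ Z R hn := ⟨hne, by rw [hq, ← hχ₀]⟩
    refine le_trans ?_ (le_iSup _ r)
    rw [map_repSpace]
    have hmem' : χ' ∈ (act Z R hn r) '' (reps ρ Z R hn) := ⟨χ₀, hmem, hr⟩
    exact le_iSup₂ (f := fun χ' (_ : χ' ∈ (act Z R hn r) '' (reps ρ Z R hn)) =>
      jointEig ρ Z χ') χ' hmem'

theorem sumMap_bijective [Fintype R] (hn : ∀ r ∈ R, ∀ z ∈ Z, r⁻¹ * z * r ∈ Z)
    (hind : iSupIndep (jointEig ρ Z)) (htop : ⨆ χ : Z → K, jointEig ρ Z χ = ⊤)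
    (hfree : ∀ r : R, r ≠ 1 → ∀ χ : Z → K, act Z R hn r χ = χ → jointEig ρ Z χ = ⊥) :
    Function.Bijective (sumMap (ρ.comp R.subtype) (repSpace ρ Z R hn)) := by
  classical
  have hinv : ∀ r : R, Function.Injective (ρ (r : Γ)) := by
    intro r
    apply Function.LeftInverse.injective (g := ρ ((r : Γ)⁻¹))
    intro w
    rw [← Module.End.mul_apply, ← map_mul]
    simp
  constructor
  · rw [injective_iff_map_eq_zero]
    intro u hu
    rw [sumMap_apply] at hu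
    have h1 := sum_zero_of_indep _ (indep_translates ρ Z R hn hind hfree)
      (fun r : R => ρ (r : Γ) (u r : W)) (fun r => Submodule.mem_map_of_mem (u r).2) hu
    funext r
    apply Subtype.ext
    apply hinv r
    rw [h1 r]
    simp
  · rw [← LinearMap.range_eq_top, eq_top_iff, ← iSup_translates ρ Z R hn htop]
    apply iSup_le
    intro r
    rintro _ ⟨w, hw, rfl⟩
    refine ⟨Pi.single r ⟨w, hw⟩, ?_⟩
    rw [sumMap_apply, Finset.sum_eq_single r]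
    · simp
    · intro s _ hs
      rw [Pi.single_eq_of_ne hs]
      simp
    · intro h
      exact absurd (Finset.mem_univ r) h

end Cfsg.Agent.Lib.Helper11.FrobLinOrbit
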