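import Mathlib
import Cfsg.Agent.Lib.Helper11.FrobLinOrbit

set_option autoImplicit false

namespace Cfsg.Agent.Lib.Helper11.FrobLinCore

open Module Cfsg.Agent.Lib.Helper11.FrobLinFree Cfsg.Agent.Lib.Helper11.FrobLinEig
  Cfsg.Agent.Lib.Helper11.FrobLinOrbit

variable {K : Type*} [Field K] {W : Type*} [AddCommGroup W] [Module K W]
variable {Γ : Type*} [Group Γ]

theorem inv_norm (Z R : Subgroup Γ) (hnorm : ∀ r ∈ R, ∀ z ∈ Z, r * z * r⁻¹ ∈ Z) :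
    ∀ r ∈ R, ∀ z ∈ Z, r⁻¹ * z * r ∈ Z := by
  intro r hr z hz
  have := hnorm r⁻¹ (R.inv_mem hr) z hz
  rwa [inv_inv] at this

theorem free_of (ρ : Γ →* End K W) (Z R : Subgroup Γ)
    (hnorm : ∀ r ∈ R, ∀ z ∈ Z, r * z * r⁻¹ ∈ Z)
    (hF : ∀ r ∈ R, r ≠ 1 → ∀ z ∈ Z, ∃ b ∈ Z, z = r * b * r⁻¹ * b⁻¹)
    (hfix : ∀ w : W, (∀ z ∈ Z, ρ z w = w) → w = 0) :
    ∀ r : R, r ≠ 1 → ∀ χ : Z → K, act Z R (inv_norm Z R hnorm) r χ = χ →
      jointEig ρ Z χ = ⊥ := by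
  intro r hr χ hχ
  rw [eq_bot_iff]
  intro w hw
  rw [Submodule.mem_bot]
  apply hfix
  intro z hz
  have hr' : (r : Γ) ≠ 1 := by
    intro h
    apply hr
    exact Subtype.ext h
  obtain ⟨b, hb, hzb⟩ := hF r r.2 hr' z hz
  rw [mem_jointEig] at hw
  have h1 := hw ⟨b⁻¹, Z.inv_mem hb⟩
  have h2 := hw ⟨(r : Γ) * b * (r : Γ)⁻¹, hnorm r r.2 b hb⟩
  have h3 := hw ⟨b, hb⟩
  have h4 : χ ⟨(r : Γ) * b * (r : Γ)⁻¹, hnorm r r.2 b hb⟩ = χ ⟨b, hb⟩ := by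
    have := congrFun hχ ⟨(r : Γ) * b * (r : Γ)⁻¹, hnorm r r.2 b hb⟩
    rw [← this]
    unfold act
    congr 1
    apply Subtype.ext
    simp only
    group
  simp only at h1 h2 h3
  have e1 : z = ((r : Γ) * b * (r : Γ)⁻¹) * b⁻¹ := hzb
  rw [e1, map_mul, Module.End.mul_apply, h1, map_smul, h2, h4]
  rw [← h3, ← map_smul, ← h1, ← Module.End.mul_apply, ← map_mul]
  simp

theorem lin_core_aux [IsAlgClosed K] [FiniteDimensional K W] (ρ : Γ →* End K W)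
    (Z R : Subgroup Γ) [Finite Z] [Finite R]
    (hnorm : ∀ r ∈ R, ∀ z ∈ Z, r * z * r⁻¹ ∈ Z)
    (hcomm : ∀ z ∈ Z, ∀ z' ∈ Z, Commute (ρ z) (ρ z'))
    (hZK : ((Nat.card Z : ℕ) : K) ≠ 0)
    (hF : ∀ r ∈ R, r ≠ 1 → ∀ z ∈ Z, ∃ b ∈ Z, z = r * b * r⁻¹ * b⁻¹)
    (hfix : ∀ w : W, (∀ z ∈ Z, ρ z w = w) → w = 0) :
    finrank K W = Nat.card R * finrank K (repSpace ρ Z R (inv_norm Z R hnorm)) ∧
      finrank K (fixedSub (ρ.comp R.subtype)) =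
        finrank K (repSpace ρ Z R (inv_norm Z R hnorm)) := by
  have : Fintype R := Fintype.ofFinite R
  have hbij := sumMap_bijective ρ Z R (inv_norm Z R hnorm) (jointEig_indep ρ Z hcomm)
    (jointEig_iSup ρ Z hcomm hZK) (free_of ρ Z R hnorm hF hfix)
  have h := free_count (ρ.comp R.subtype) _ hbij
  rw [Nat.card_eq_fintype_card]
  exact h

theorem lin_core [IsAlgClosed K] [FiniteDimensional K W] (ρ : Γ →* End K W)
    (Z R : Subgroup Γ) [Finite Z] [Finite R]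
    (hnorm : ∀ r ∈ R, ∀ z ∈ Z, r * z * r⁻¹ ∈ Z)
    (hcomm : ∀ z ∈ Z, ∀ z' ∈ Z, Commute (ρ z) (ρ z'))
    (hZK : ((Nat.card Z : ℕ) : K) ≠ 0)
    (hF : ∀ r ∈ R, r ≠ 1 → ∀ z ∈ Z, ∃ b ∈ Z, z = r * b * r⁻¹ * b⁻¹)
    (hfix : ∀ w : W, (∀ z ∈ Z, ρ z w = w) → w = 0) :
    finrank K W = Nat.card R * finrank K (fixedSub (ρ.comp R.subtype)) := by
  obtain ⟨h1, h2⟩ := lin_core_aux ρ Z R hnorm hcomm hZK hF hfix
  rw [h2]
  exact h1

/-- if `dim W = |R|` then every joint eigenspace has dimension at most one -/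
theorem eig_small [IsAlgClosed K] [FiniteDimensional K W] (ρ : Γ →* End K W)
    (Z R : Subgroup Γ) [Finite Z] [Finite R]
    (hnorm : ∀ r ∈ R, ∀ z ∈ Z, r * z * r⁻¹ ∈ Z)
    (hcomm : ∀ z ∈ Z, ∀ z' ∈ Z, Commute (ρ z) (ρ z'))
    (hZK : ((Nat.card Z : ℕ) : K) ≠ 0)
    (hF : ∀ r ∈ R, r ≠ 1 → ∀ z ∈ Z, ∃ b ∈ Z, z = r * b * r⁻¹ * b⁻¹)
    (hfix : ∀ w : W, (∀ z ∈ Z, ρ z w = w) → w = 0)
    (hdim : finrank K W = Nat.card R) (χ' : Z → K) : finrank K (jointEig ρ Z χ') ≤ 1 := by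
  obtain ⟨h1, _⟩ := lin_core_aux ρ Z R hnorm hcomm hZK hF hfix
  have hRpos : 0 < Nat.card R := Nat.card_pos
  have hU : finrank K (repSpace ρ Z R (inv_norm Z R hnorm)) = 1 := by
    rw [hdim] at h1
    have : Nat.card R * 1 = Nat.card R * finrank K (repSpace ρ Z R (inv_norm Z R hnorm)) := by
      rw [mul_one]
      exact h1
    exact (Nat.eq_of_mul_eq_mul_left hRpos this).symm
  by_cases hbot : jointEig ρ Z χ' = ⊥
  · rw [hbot]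
    simp
  · obtain ⟨χ₀, hχ₀⟩ : ∃ χ₀, χ₀ = (Quotient.mk (orbSetoid Z R (inv_norm Z R hnorm)) χ').out :=
      ⟨_, rfl⟩
    have hrel : (orbSetoid Z R (inv_norm Z R hnorm)).r χ₀ χ' := by
      rw [hχ₀]
      exact Quotient.exact (Quotient.out_eq (Quotient.mk (orbSetoid Z R (inv_norm Z R hnorm)) χ'))
    obtain ⟨r, hr⟩ := hrel
    have hq : Quotient.mk (orbSetoid Z R (inv_norm Z R hnorm)) χ₀ =
        Quotient.mk (orbSetoid Z R (inv_norm Z R hnorm)) χ' := Quotient.sound ⟨r, hr⟩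
    have hne : jointEig ρ Z χ₀ ≠ ⊥ := by
      intro h
      apply hbot
      rw [← hr, ← map_jointEig, h, Submodule.map_bot]
    have hmem : χ₀ ∈ reps ρ Z R (inv_norm Z R hnorm) := ⟨hne, by rw [hq, ← hχ₀]⟩
    have hle : jointEig ρ Z χ₀ ≤ repSpace ρ Z R (inv_norm Z R hnorm) :=
      le_iSup₂ (f := fun χ (_ : χ ∈ reps ρ Z R (inv_norm Z R hnorm)) => jointEig ρ Z χ) χ₀ hmem
    have h3 : finrank K (jointEig ρ Z χ₀) ≤ 1 := by
      rw [← hU]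
      exact Submodule.finrank_mono hle
    rw [← hr, ← map_jointEig ρ Z R (inv_norm Z R hnorm) r χ₀]
    exact le_trans (Submodule.finrank_map_le _ _) h3

theorem comm_of_small [FiniteDimensional K W] {ι : Type*} (N : ι → Submodule K W)
    (htop : ⨆ i, N i = ⊤) (hsmall : ∀ i, finrank K (N i) ≤ 1) (a b : End K W)
    (ha : ∀ i, ∀ w ∈ N i, a w ∈ N i) (hb : ∀ i, ∀ w ∈ N i, b w ∈ N i) : a * b = b * a := by
  apply LinearMap.ext
  intro w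
  have hw : w ∈ ⨆ i, N i := by
    rw [htop]
    trivial
  simp only [Module.End.mul_apply]
  refine Submodule.iSup_induction N (motive := fun w => a (b w) = b (a w)) hw ?_ ?_ ?_
  · intro i x hx
    obtain ⟨v, hv⟩ := finrank_le_one_iff.mp (hsmall i)
    obtain ⟨α, hα⟩ := hv ⟨a v, ha i v v.2⟩
    obtain ⟨β, hβ⟩ := hv ⟨b v, hb i v v.2⟩
    obtain ⟨c, hc⟩ := hv ⟨x, hx⟩
    have hα' : a (v : W) = α • (v : W) := (congrArg Subtype.val hα).symm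
    have hβ' : b (v : W) = β • (v : W) := (congrArg Subtype.val hβ).symm
    have hx' : x = c • (v : W) := (congrArg Subtype.val hc).symm
    have e1 : a (b (c • (v : W))) = (c * β * α) • (v : W) := by
      rw [map_smul, hβ', map_smul, map_smul, hα', smul_smul, smul_smul]
    have e2 : b (a (c • (v : W))) = (c * α * β) • (v : W) := by
      rw [map_smul, hα', map_smul, map_smul, hβ', smul_smul, smul_smul]
    rw [hx', e1, e2]
    congr 1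
    ring
  · simp
  · intro x y hx hy
    rw [map_add, map_add, map_add, map_add, hx, hy]

theorem lin_core_ab [IsAlgClosed K] [FiniteDimensional K W] (ρ : Γ →* End K W)
    (Z R Kk : Subgroup Γ) [Finite Z] [Finite R]
    (hnorm : ∀ r ∈ R, ∀ z ∈ Z, r * z * r⁻¹ ∈ Z)
    (hcomm : ∀ z ∈ Z, ∀ z' ∈ Z, Commute (ρ z) (ρ z'))
    (hZK : ((Nat.card Z : ℕ) : K) ≠ 0)
    (hF : ∀ r ∈ R, r ≠ 1 → ∀ z ∈ Z, ∃ b ∈ Z, z = r * b * r⁻¹ * b⁻¹)
    (hfix : ∀ w : W, (∀ z ∈ Z, ρ z w = w) → w = 0)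
    (hKZ : ∀ k ∈ Kk, ∀ z ∈ Z, Commute (ρ k) (ρ z))
    (hdim : finrank K W = Nat.card R) :
    ∀ k ∈ Kk, ∀ k' ∈ Kk, Commute (ρ k) (ρ k') := by
  have hpres : ∀ k ∈ Kk, ∀ χ : Z → K, ∀ w ∈ jointEig ρ Z χ, ρ k w ∈ jointEig ρ Z χ := by
    intro k hk χ w hw
    rw [mem_jointEig] at hw ⊢
    intro z
    have h1 : ρ (z : Γ) (ρ k w) = ρ k (ρ (z : Γ) w) := by
      rw [← Module.End.mul_apply, ← Module.End.mul_apply, (hKZ k hk z z.2).eq]
    rw [h1, hw z, map_smul]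
  intro k hk k' hk'
  exact comm_of_small (jointEig ρ Z) (jointEig_iSup ρ Z hcomm hZK)
    (eig_small ρ Z R hnorm hcomm hZK hF hfix hdim) (ρ k) (ρ k')
    (fun χ w hw => hpres k hk χ w hw) (fun χ w hw => hpres k' hk' χ w hw)

end Cfsg.Agent.Lib.Helper11.FrobLinCore
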