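import Mathlib
import Cfsg.Agent.Lib.Helper11.FrobLinCore

set_option autoImplicit false

namespace Cfsg.Agent.Lib.Helper11.FrobLinBC

open Module TensorProduct Cfsg.Agent.Lib.Helper11.FrobLinFree Cfsg.Agent.Lib.Helper11.FrobLinCore

variable {k : Type*} [Field k] {V : Type*} [AddCommGroup V] [Module k V]
variable {Γ : Type*} [Group Γ]

theorem range_baseChange (K : Type*) [Field K] [Algebra k K] {V' : Type*} [AddCommGroup V']
    [Module k V'] (f : V →ₗ[k] V') :
    LinearMap.range (f.baseChange K) = (LinearMap.range f).baseChange K := by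
  have h1 : f = (LinearMap.range f).subtype ∘ₗ f.rangeRestrict := rfl
  have h2 : LinearMap.range (f.rangeRestrict.baseChange K) = ⊤ := by
    rw [LinearMap.range_eq_top, LinearMap.baseChange_eq_ltensor]
    exact LinearMap.lTensor_surjective K (LinearMap.surjective_rangeRestrict f)
  conv_lhs => rw [h1, LinearMap.baseChange_comp]
  rw [LinearMap.range_comp_of_range_eq_top _ h2]
  rfl

theorem finrank_range_baseChange (K : Type*) [Field K] [Algebra k K] {V' : Type*}
    [AddCommGroup V'] [Module k V'] (f : V →ₗ[k] V') :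
    finrank K (LinearMap.range (f.baseChange K)) = finrank k (LinearMap.range f) := by
  rw [range_baseChange]
  rw [← (Submodule.toBaseChange.toLinearEquiv K (LinearMap.range f)).finrank_eq]
  exact Module.finrank_baseChange

/-- the fixed points of a finite group of invertible order are the range of the norm map -/
theorem fixedSub_eq_range {F : Type*} [Field F] {U : Type*} [AddCommGroup U] [Module F U]
    {R : Type*} [Group R] [Fintype R] (σ : R →* End F U) (hR : ((Fintype.card R : ℕ) : F) ≠ 0) :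
    fixedSub σ = LinearMap.range (∑ r : R, σ r) := by
  apply le_antisymm
  · intro v hv
    refine ⟨((Fintype.card R : ℕ) : F)⁻¹ • v, ?_⟩
    rw [map_smul, LinearMap.sum_apply]
    have : ∑ r : R, σ r v = ((Fintype.card R : ℕ) : F) • v := by
      rw [Finset.sum_congr rfl (fun r _ => hv r)]
      simp [Nat.cast_smul_eq_nsmul]
    rw [this, smul_smul, inv_mul_cancel₀ hR, one_smul]
  · rintro _ ⟨v, rfl⟩ s
    rw [LinearMap.sum_apply, map_sum]
    rw [← Equiv.sum_comp (Equiv.mulLeft s) (fun r => σ r v)]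
    apply Finset.sum_congr rfl
    intro r _
    simp only [Equiv.coe_mulLeft, map_mul, Module.End.mul_apply]

theorem core_field [FiniteDimensional k V] (ρ₀ : Γ →* End k V) (Z R : Subgroup Γ) [Finite Z]
    [Finite R] (hnorm : ∀ r ∈ R, ∀ z ∈ Z, r * z * r⁻¹ ∈ Z)
    (hcomm : ∀ z ∈ Z, ∀ z' ∈ Z, Commute (ρ₀ z) (ρ₀ z'))
    (hZk : ((Nat.card Z : ℕ) : k) ≠ 0) (hRk : ((Nat.card R : ℕ) : k) ≠ 0)
    (hF : ∀ r ∈ R, r ≠ 1 → ∀ z ∈ Z, ∃ b ∈ Z, z = r * b * r⁻¹ * b⁻¹)
    (hfix : ∀ v : V, (∀ z ∈ Z, ρ₀ z v = v) → v = 0) :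
    finrank k V = Nat.card R * finrank k (fixedSub (ρ₀.comp R.subtype)) := by
  classical
  have : Fintype R := Fintype.ofFinite R
  have : Fintype Z := Fintype.ofFinite Z
  obtain ⟨bc, hbc⟩ : ∃ bc : End k V →ₐ[k] End (AlgebraicClosure k) (AlgebraicClosure k ⊗[k] V),
      bc = Module.End.baseChangeHom k (AlgebraicClosure k) V := ⟨_, rfl⟩
  have hbca : ∀ f : End k V, bc f = f.baseChange (AlgebraicClosure k) := by
    intro f
    rw [hbc]
    rfl
  obtain ⟨ρ, hρ⟩ : ∃ ρ : Γ →* End (AlgebraicClosure k) (AlgebraicClosure k ⊗[k] V),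
      ρ = (bc : End k V →* _).comp ρ₀ := ⟨_, rfl⟩
  have hρa : ∀ g : Γ, ρ g = bc (ρ₀ g) := by
    intro g
    rw [hρ]
    rfl
  have hcast : ∀ n : ℕ, ((n : ℕ) : k) ≠ 0 → ((n : ℕ) : AlgebraicClosure k) ≠ 0 := by
    intro n hn h
    apply hn
    apply (algebraMap k (AlgebraicClosure k)).injective
    rw [map_natCast, h, map_zero]
  -- the sum over Z vanishes
  have hSZ : ∑ z : Z, ρ₀ (z : Γ) = 0 := by
    apply LinearMap.ext
    intro v
    rw [LinearMap.zero_apply]
    apply hfix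
    intro z' hz'
    rw [LinearMap.sum_apply, map_sum]
    rw [← Equiv.sum_comp (Equiv.mulLeft (⟨z', hz'⟩ : Z)) (fun z : Z => ρ₀ (z : Γ) v)]
    apply Finset.sum_congr rfl
    intro z _
    simp only [Equiv.coe_mulLeft, Subgroup.coe_mul, map_mul, Module.End.mul_apply]
  have hfix' : ∀ w : AlgebraicClosure k ⊗[k] V, (∀ z ∈ Z, ρ z w = w) → w = 0 := by
    intro w hw
    have h1 : ∑ z : Z, ρ (z : Γ) = 0 := by
      have : ∑ z : Z, ρ (z : Γ) = bc (∑ z : Z, ρ₀ (z : Γ)) := by
        rw [map_sum]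
        exact Finset.sum_congr rfl (fun z _ => hρa z)
      rw [this, hSZ, map_zero]
    have h2 : (∑ z : Z, ρ (z : Γ)) w = ((Fintype.card Z : ℕ) : AlgebraicClosure k) • w := by
      rw [LinearMap.sum_apply, Finset.sum_congr rfl (fun (z : Z) _ => hw z z.2)]
      simp [Nat.cast_smul_eq_nsmul]
    rw [h1, LinearMap.zero_apply] at h2
    have h3 := hcast _ hZk
    rw [Nat.card_eq_fintype_card] at h3
    rcases smul_eq_zero.mp h2.symm with h | h
    · exact absurd h h3
    · exact h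
  have hmain := lin_core ρ Z R hnorm
    (fun z hz z' hz' => by
      rw [hρa, hρa]
      exact (hcomm z hz z' hz').map bc)
    (hcast _ hZk) hF hfix'
  rw [Module.finrank_baseChange] at hmain
  rw [hmain]
  congr 1
  -- compare fixed points
  have hRk' : ((Fintype.card R : ℕ) : k) ≠ 0 := by
    rw [← Nat.card_eq_fintype_card]
    exact hRk
  have hRK' : ((Fintype.card R : ℕ) : AlgebraicClosure k) ≠ 0 := hcast _ hRk'
  rw [fixedSub_eq_range (ρ.comp R.subtype) hRK', fixedSub_eq_range (ρ₀.comp R.subtype) hRk']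
  have h4 : ∑ r : R, (ρ.comp R.subtype) r =
      (∑ r : R, (ρ₀.comp R.subtype) r).baseChange (AlgebraicClosure k) := by
    rw [← hbca, map_sum]
    exact Finset.sum_congr rfl (fun r _ => hρa r)
  rw [h4]
  exact finrank_range_baseChange (AlgebraicClosure k) _

theorem core_field_ab [FiniteDimensional k V] (ρ₀ : Γ →* End k V) (Z R Kk : Subgroup Γ) [Finite Z]
    [Finite R] (hnorm : ∀ r ∈ R, ∀ z ∈ Z, r * z * r⁻¹ ∈ Z)
    (hcomm : ∀ z ∈ Z, ∀ z' ∈ Z, Commute (ρ₀ z) (ρ₀ z'))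
    (hZk : ((Nat.card Z : ℕ) : k) ≠ 0)
    (hF : ∀ r ∈ R, r ≠ 1 → ∀ z ∈ Z, ∃ b ∈ Z, z = r * b * r⁻¹ * b⁻¹)
    (hfix : ∀ v : V, (∀ z ∈ Z, ρ₀ z v = v) → v = 0)
    (hKZ : ∀ x ∈ Kk, ∀ z ∈ Z, Commute (ρ₀ x) (ρ₀ z))
    (hdim : finrank k V = Nat.card R) :
    ∀ x ∈ Kk, ∀ x' ∈ Kk, Commute (ρ₀ x) (ρ₀ x') := by
  classical
  have : Fintype Z := Fintype.ofFinite Z
  obtain ⟨bc, hbc⟩ : ∃ bc : End k V →ₐ[k] End (AlgebraicClosure k) (AlgebraicClosure k ⊗[k] V),
      bc = Module.End.baseChangeHom k (AlgebraicClosure k) V := ⟨_, rfl⟩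
  have hbcinj : Function.Injective bc := by
    rw [hbc]
    exact LinearMap.baseChangeHom_injective k V (AlgebraicClosure k)
  obtain ⟨ρ, hρ⟩ : ∃ ρ : Γ →* End (AlgebraicClosure k) (AlgebraicClosure k ⊗[k] V),
      ρ = (bc : End k V →* _).comp ρ₀ := ⟨_, rfl⟩
  have hρa : ∀ g : Γ, ρ g = bc (ρ₀ g) := by
    intro g
    rw [hρ]
    rfl
  have hcast : ∀ n : ℕ, ((n : ℕ) : k) ≠ 0 → ((n : ℕ) : AlgebraicClosure k) ≠ 0 := by
    intro n hn h
    apply hn
    apply (algebraMap k (AlgebraicClosure k)).injective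
    rw [map_natCast, h, map_zero]
  have hSZ : ∑ z : Z, ρ₀ (z : Γ) = 0 := by
    apply LinearMap.ext
    intro v
    rw [LinearMap.zero_apply]
    apply hfix
    intro z' hz'
    rw [LinearMap.sum_apply, map_sum]
    rw [← Equiv.sum_comp (Equiv.mulLeft (⟨z', hz'⟩ : Z)) (fun z : Z => ρ₀ (z : Γ) v)]
    apply Finset.sum_congr rfl
    intro z _
    simp only [Equiv.coe_mulLeft, Subgroup.coe_mul, map_mul, Module.End.mul_apply]
  have hfix' : ∀ w : AlgebraicClosure k ⊗[k] V, (∀ z ∈ Z, ρ z w = w) → w = 0 := by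
    intro w hw
    have h1 : ∑ z : Z, ρ (z : Γ) = 0 := by
      have : ∑ z : Z, ρ (z : Γ) = bc (∑ z : Z, ρ₀ (z : Γ)) := by
        rw [map_sum]
        exact Finset.sum_congr rfl (fun z _ => hρa z)
      rw [this, hSZ, map_zero]
    have h2 : (∑ z : Z, ρ (z : Γ)) w = ((Fintype.card Z : ℕ) : AlgebraicClosure k) • w := by
      rw [LinearMap.sum_apply, Finset.sum_congr rfl (fun (z : Z) _ => hw z z.2)]
      simp [Nat.cast_smul_eq_nsmul]
    rw [h1, LinearMap.zero_apply] at h2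
    have h3 := hcast _ hZk
    rw [Nat.card_eq_fintype_card] at h3
    rcases smul_eq_zero.mp h2.symm with h | h
    · exact absurd h h3
    · exact h
  have hmain := lin_core_ab ρ Z R Kk hnorm
    (fun z hz z' hz' => by
      rw [hρa, hρa]
      exact (hcomm z hz z' hz').map bc)
    (hcast _ hZk) hF hfix'
    (fun x hx z hz => by
      rw [hρa, hρa]
      exact (hKZ x hx z hz).map bc)
    (by rw [Module.finrank_baseChange]; exact hdim)
  intro x hx x' hx'
  have h5 := hmain x hx x' hx'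
  rw [hρa, hρa] at h5
  apply hbcinj
  rw [map_mul, map_mul]
  exact h5

end Cfsg.Agent.Lib.Helper11.FrobLinBC
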