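import Mathlib
import Cfsg.Agent.Lib.Helper11.FrobLinBC

set_option autoImplicit false

namespace Cfsg.Agent.Lib.Helper11.FrobGrpCore

open Module Cfsg.Agent.Lib.Helper11.FrobLinFree Cfsg.Agent.Lib.Helper11.FrobLinBC

/-- the `ZMod p`-linear action on `Additive V` attached to an action by automorphisms -/
def linRep (p : ℕ) {V : Type*} [CommGroup V] [Module (ZMod p) (Additive V)] {Γ : Type*}
    [Group Γ] (φ : Γ →* MulAut V) : Γ →* End (ZMod p) (Additive V) where
  toFun g := (MulEquiv.toAdditive (φ g)).toAddMonoidHom.toZModLinearMap p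
  map_one' := by
    apply LinearMap.ext
    intro a
    simp only [map_one]
    rfl
  map_mul' := by
    intro a b
    apply LinearMap.ext
    intro v
    simp only [map_mul]
    rfl

theorem linRep_apply (p : ℕ) {V : Type*} [CommGroup V] [Module (ZMod p) (Additive V)]
    {Γ : Type*} [Group Γ] (φ : Γ →* MulAut V) (g : Γ) (a : Additive V) :
    linRep p φ g a = Additive.ofMul (φ g (Additive.toMul a)) := rfl

theorem core_grp_aux (p : ℕ) [hp : Fact p.Prime] {V : Type*} [CommGroup V] [Finite V]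
    [Module (ZMod p) (Additive V)]
    {Γ : Type*} [Group Γ] (φ : Γ →* MulAut V) (Z R : Subgroup Γ) [Finite Z] [Finite R]
    (hnorm : ∀ r ∈ R, ∀ z ∈ Z, r * z * r⁻¹ ∈ Z)
    (hcomm : ∀ z ∈ Z, ∀ z' ∈ Z, φ z * φ z' = φ z' * φ z)
    (hZp : ¬ p ∣ Nat.card Z) (hRp : ¬ p ∣ Nat.card R)
    (hF : ∀ r ∈ R, r ≠ 1 → ∀ z ∈ Z, ∃ b ∈ Z, z = r * b * r⁻¹ * b⁻¹)
    (hfix : ∀ v : V, (∀ z ∈ Z, φ z v = v) → v = 1) :
    Nat.card V = Nat.card {v : V // ∀ r ∈ R, φ r v = v} ^ Nat.card R := by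
  have hfin : Module.Finite (ZMod p) (Additive V) := Module.Finite.of_finite
  have hmain := core_field (linRep p φ) Z R hnorm
    (fun z hz z' hz' => by
      show linRep p φ z * linRep p φ z' = linRep p φ z' * linRep p φ z
      rw [← map_mul, ← map_mul]
      apply LinearMap.ext
      intro a
      rw [linRep_apply, linRep_apply, map_mul, map_mul, hcomm z hz z' hz'])
    (by rw [Ne, ZMod.natCast_eq_zero_iff]; exact hZp)
    (by rw [Ne, ZMod.natCast_eq_zero_iff]; exact hRp) hF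
    (fun v hv => by
      have h1 : Additive.toMul v = 1 := by
        apply hfix
        intro z hz
        have := hv z hz
        rw [linRep_apply] at this
        exact congrArg Additive.toMul this
      exact congrArg Additive.ofMul h1)
  have hV : Nat.card V = p ^ finrank (ZMod p) (Additive V) := by
    have := Module.natCard_eq_pow_finrank (K := ZMod p) (V := Additive V)
    rw [Nat.card_zmod] at this
    exact this
  have hfixcard : Nat.card {v : V // ∀ r ∈ R, φ r v = v} =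
      p ^ finrank (ZMod p) (fixedSub ((linRep p φ).comp R.subtype)) := by
    have h1 := Module.natCard_eq_pow_finrank (K := ZMod p)
      (V := fixedSub ((linRep p φ).comp R.subtype))
    rw [Nat.card_zmod] at h1
    rw [← h1]
    apply Nat.card_congr
    refine ⟨fun v => ⟨Additive.ofMul v.1, ?_⟩, fun a => ⟨Additive.toMul a.1, ?_⟩, ?_, ?_⟩
    · intro r
      show linRep p φ (r : Γ) (Additive.ofMul v.1) = Additive.ofMul v.1
      rw [linRep_apply]
      exact congrArg Additive.ofMul (v.2 r r.2)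
    · intro r hr
      have := a.2 ⟨r, hr⟩
      have h2 : linRep p φ r a.1 = a.1 := this
      rw [linRep_apply] at h2
      exact congrArg Additive.toMul h2
    · intro v
      rfl
    · intro a
      rfl
  rw [hV, hfixcard, hmain, ← pow_mul, mul_comm]

theorem core_grp (p : ℕ) [hp : Fact p.Prime] {V : Type*} [CommGroup V] [Finite V]
    (hV : ∀ v : V, v ^ p = 1)
    {Γ : Type*} [Group Γ] (φ : Γ →* MulAut V) (Z R : Subgroup Γ) [Finite Z] [Finite R]
    (hnorm : ∀ r ∈ R, ∀ z ∈ Z, r * z * r⁻¹ ∈ Z)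
    (hcomm : ∀ z ∈ Z, ∀ z' ∈ Z, φ z * φ z' = φ z' * φ z)
    (hZp : ¬ p ∣ Nat.card Z) (hRp : ¬ p ∣ Nat.card R)
    (hF : ∀ r ∈ R, r ≠ 1 → ∀ z ∈ Z, ∃ b ∈ Z, z = r * b * r⁻¹ * b⁻¹)
    (hfix : ∀ v : V, (∀ z ∈ Z, φ z v = v) → v = 1) :
    Nat.card V = Nat.card {v : V // ∀ r ∈ R, φ r v = v} ^ Nat.card R := by
  have hA : ∀ a : Additive V, p • a = 0 := by
    intro a
    have := hV (Additive.toMul a)
    exact congrArg Additive.ofMul this
  exact @core_grp_aux p _ V _ _ (AddCommGroup.zmodModule hA) Γ _ φ Z R _ _ hnorm hcomm hZp hRp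
    hF hfix

theorem core_grp_ab_aux (p : ℕ) [hp : Fact p.Prime] {V : Type*} [CommGroup V] [Finite V]
    [Module (ZMod p) (Additive V)]
    {Γ : Type*} [Group Γ] (φ : Γ →* MulAut V) (Z R Kk : Subgroup Γ) [Finite Z] [Finite R]
    (hnorm : ∀ r ∈ R, ∀ z ∈ Z, r * z * r⁻¹ ∈ Z)
    (hcomm : ∀ z ∈ Z, ∀ z' ∈ Z, φ z * φ z' = φ z' * φ z)
    (hZp : ¬ p ∣ Nat.card Z)
    (hF : ∀ r ∈ R, r ≠ 1 → ∀ z ∈ Z, ∃ b ∈ Z, z = r * b * r⁻¹ * b⁻¹)
    (hfix : ∀ v : V, (∀ z ∈ Z, φ z v = v) → v = 1)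
    (hKZ : ∀ x ∈ Kk, ∀ z ∈ Z, φ x * φ z = φ z * φ x)
    (hcard : Nat.card V = p ^ Nat.card R) :
    ∀ x ∈ Kk, ∀ x' ∈ Kk, φ x * φ x' = φ x' * φ x := by
  have hfin : Module.Finite (ZMod p) (Additive V) := Module.Finite.of_finite
  have hV : Nat.card V = p ^ finrank (ZMod p) (Additive V) := by
    have := Module.natCard_eq_pow_finrank (K := ZMod p) (V := Additive V)
    rw [Nat.card_zmod] at this
    exact this
  have hdim : finrank (ZMod p) (Additive V) = Nat.card R := by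
    rw [hV] at hcard
    exact Nat.pow_right_injective hp.out.two_le hcard
  have hcm : ∀ a b : Γ, φ a * φ b = φ b * φ a → Commute (linRep p φ a) (linRep p φ b) := by
    intro a b hab
    show linRep p φ a * linRep p φ b = linRep p φ b * linRep p φ a
    rw [← map_mul, ← map_mul]
    apply LinearMap.ext
    intro v
    rw [linRep_apply, linRep_apply, map_mul, map_mul, hab]
  have hmain := core_field_ab (linRep p φ) Z R Kk hnorm
    (fun z hz z' hz' => hcm z z' (hcomm z hz z' hz'))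
    (by rw [Ne, ZMod.natCast_eq_zero_iff]; exact hZp) hF
    (fun v hv => by
      have h1 : Additive.toMul v = 1 := by
        apply hfix
        intro z hz
        have := hv z hz
        rw [linRep_apply] at this
        exact congrArg Additive.toMul this
      exact congrArg Additive.ofMul h1)
    (fun x hx z hz => hcm x z (hKZ x hx z hz)) hdim
  intro x hx x' hx'
  have h1 := hmain x hx x' hx'
  apply MulEquiv.ext
  intro v
  have h2 : (linRep p φ x * linRep p φ x') (Additive.ofMul v) =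
      (linRep p φ x' * linRep p φ x) (Additive.ofMul v) := by
    rw [h1.eq]
  rw [Module.End.mul_apply, Module.End.mul_apply, linRep_apply, linRep_apply, linRep_apply,
    linRep_apply] at h2
  exact congrArg Additive.toMul h2

theorem core_grp_ab (p : ℕ) [hp : Fact p.Prime] {V : Type*} [CommGroup V] [Finite V]
    (hV : ∀ v : V, v ^ p = 1)
    {Γ : Type*} [Group Γ] (φ : Γ →* MulAut V) (Z R Kk : Subgroup Γ) [Finite Z] [Finite R]
    (hnorm : ∀ r ∈ R, ∀ z ∈ Z, r * z * r⁻¹ ∈ Z)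
    (hcomm : ∀ z ∈ Z, ∀ z' ∈ Z, φ z * φ z' = φ z' * φ z)
    (hZp : ¬ p ∣ Nat.card Z)
    (hF : ∀ r ∈ R, r ≠ 1 → ∀ z ∈ Z, ∃ b ∈ Z, z = r * b * r⁻¹ * b⁻¹)
    (hfix : ∀ v : V, (∀ z ∈ Z, φ z v = v) → v = 1)
    (hKZ : ∀ x ∈ Kk, ∀ z ∈ Z, φ x * φ z = φ z * φ x)
    (hcard : Nat.card V = p ^ Nat.card R) :
    ∀ x ∈ Kk, ∀ x' ∈ Kk, φ x * φ x' = φ x' * φ x := by
  have hA : ∀ a : Additive V, p • a = 0 := by
    intro a
    have := hV (Additive.toMul a)
    exact congrArg Additive.ofMul this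
  exact @core_grp_ab_aux p _ V _ _ (AddCommGroup.zmodModule hA) Γ _ φ Z R Kk _ _ hnorm hcomm hZp
    hF hfix hKZ hcard

end Cfsg.Agent.Lib.Helper11.FrobGrpCore
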