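import Mathlib
import Cfsg.Agent.Lib.Helper11.FrobGrpCore

set_option autoImplicit false

namespace Cfsg.Agent.Lib.Helper11.FrobConcCore

open Cfsg.Agent.Lib.Helper11.FrobGrpCore
open scoped commutatorElement IsMulCommutative

variable {X : Type*} [Group X]

/-- a fixed-point-free element realises every element as a commutator -/
theorem exists_comm_of_fpf [Finite X] (A : Subgroup X) (r : X)
    (hr : r ∈ Subgroup.normalizer (A : Set X))
    (hfpf : A ⊓ Subgroup.centralizer ({r} : Set X) = ⊥) :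
    ∀ z ∈ A, ∃ b ∈ A, z = r * b * r⁻¹ * b⁻¹ := by
  have hmem : ∀ b ∈ A, r * b * r⁻¹ * b⁻¹ ∈ A :=
    fun b hb => A.mul_mem ((hr b).mp hb) (A.inv_mem hb)
  obtain ⟨f, hf⟩ : ∃ f : A → A, ∀ b : A, (f b : X) = r * b * r⁻¹ * (b : X)⁻¹ :=
    ⟨fun b => ⟨r * b * r⁻¹ * (b : X)⁻¹, hmem b b.2⟩, fun b => rfl⟩
  have hinj : Function.Injective f := by
    intro b b' h
    have h1 : r * b * r⁻¹ * (b : X)⁻¹ = r * b' * r⁻¹ * (b' : X)⁻¹ := by
      rw [← hf, ← hf, h]
    have h3 : (b' : X)⁻¹ * b * r⁻¹ = r⁻¹ * ((b' : X)⁻¹ * b) := by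
      have e1 : (b' : X)⁻¹ * b * r⁻¹ = (b' : X)⁻¹ * r⁻¹ * (r * b * r⁻¹ * (b : X)⁻¹) * b := by group
      rw [e1, h1]
      group
    have h4 : r * ((b' : X)⁻¹ * b) = (b' : X)⁻¹ * b * r := by
      calc r * ((b' : X)⁻¹ * b) = r * ((b' : X)⁻¹ * b * r⁻¹) * r := by group
        _ = r * (r⁻¹ * ((b' : X)⁻¹ * b)) * r := by rw [h3]
        _ = (b' : X)⁻¹ * b * r := by group
    have h2c : (b' : X)⁻¹ * b ∈ Subgroup.centralizer ({r} : Set X) := by
      rw [Subgroup.mem_centralizer_iff]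
      intro y hy
      rw [Set.mem_singleton_iff] at hy
      rw [hy]
      exact h4
    have h2 : (b' : X)⁻¹ * b ∈ A ⊓ Subgroup.centralizer ({r} : Set X) :=
      Subgroup.mem_inf.mpr ⟨A.mul_mem (A.inv_mem b'.2) b.2, h2c⟩
    rw [hfpf, Subgroup.mem_bot] at h2
    apply Subtype.ext
    have := eq_of_inv_mul_eq_one h2
    exact this.symm
  have hsurj := Finite.injective_iff_surjective.mp hinj
  intro z hz
  obtain ⟨b, hb⟩ := hsurj ⟨z, hz⟩
  refine ⟨b, b.2, ?_⟩
  rw [← hf, hb]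

theorem card_subgroupOf_eq {H N : Subgroup X} (h : H ≤ N) :
    Nat.card (H.subgroupOf N) = Nat.card H :=
  Nat.card_congr (Subgroup.subgroupOfEquivOfLe h).toEquiv

theorem core_conc [Finite X] (p : ℕ) [Fact p.Prime] (A R V : Subgroup X)
    (hVcomm : ∀ x ∈ V, ∀ y ∈ V, x * y = y * x) (hVexp : ∀ x ∈ V, x ^ p = 1)
    (hRA : R ≤ Subgroup.normalizer (A : Set X)) (hAV : A ≤ Subgroup.normalizer (V : Set X))
    (hRV : R ≤ Subgroup.normalizer (V : Set X))
    (hAp : ¬ p ∣ Nat.card A) (hRp : ¬ p ∣ Nat.card R)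
    (hAab : ⁅A, A⁆ ≤ Subgroup.centralizer (V : Set X))
    (hfpf : ∀ r ∈ R, r ≠ 1 → A ⊓ Subgroup.centralizer ({r} : Set X) = ⊥)
    (hCA : V ⊓ Subgroup.centralizer (A : Set X) = ⊥) :
    Nat.card V = Nat.card ↥(V ⊓ Subgroup.centralizer (R : Set X)) ^ Nat.card R := by
  have : IsMulCommutative V := isMulCommutative_iff.mpr
    (fun a b => Subtype.ext (hVcomm a a.2 b b.2))
  obtain ⟨φ, hφ⟩ : ∃ φ : ↥(Subgroup.normalizer (V : Set X)) →* MulAut ↥V,
      ∀ g v, ((φ g v : ↥V) : X) = g * v * (g : X)⁻¹ := ⟨V.normalizerMonoidHom, fun g v => rfl⟩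
  have key := core_grp p (V := ↥V)
    (fun v => Subtype.ext (by rw [Subgroup.coe_pow]; exact hVexp v v.2)) φ
    (A.subgroupOf (Subgroup.normalizer (V : Set X)))
    (R.subgroupOf (Subgroup.normalizer (V : Set X)))
    (by
      intro r hr z hz
      rw [Subgroup.mem_subgroupOf] at hr hz ⊢
      simp only [Subgroup.coe_mul, InvMemClass.coe_inv]
      exact (hRA hr _).mp hz)
    (by
      intro z hz z' hz'
      rw [Subgroup.mem_subgroupOf] at hz hz'
      apply MulEquiv.ext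
      intro v
      apply Subtype.ext
      rw [MulAut.mul_apply, MulAut.mul_apply, hφ, hφ, hφ, hφ]
      have hc : ⁅(z : X), (z' : X)⁆ ∈ Subgroup.centralizer (V : Set X) :=
        hAab (Subgroup.commutator_mem_commutator hz hz')
      have hw : (z' : X) * (z * v * (z : X)⁻¹) * (z' : X)⁻¹ ∈ V := by
        have h1 : (z : X) * v * (z : X)⁻¹ ∈ V := (z.2 _).mp v.2
        exact (z'.2 _).mp h1
      have h2 := (Subgroup.mem_centralizer_iff.mp hc) _ hw
      rw [commutatorElement_def] at h2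
      have e1 : (z : X) * (z' * v * (z' : X)⁻¹) * (z : X)⁻¹ =
          (z * z' * (z : X)⁻¹ * (z' : X)⁻¹) * ((z' : X) * (z * v * (z : X)⁻¹) * (z' : X)⁻¹) *
            (z * z' * (z : X)⁻¹ * (z' : X)⁻¹)⁻¹ := by group
      rw [e1, ← h2]
      group)
    (by rw [card_subgroupOf_eq hAV]; exact hAp)
    (by rw [card_subgroupOf_eq hRV]; exact hRp)
    (by
      intro r hr hr1 z hz
      rw [Subgroup.mem_subgroupOf] at hr hz
      have hr1' : (r : X) ≠ 1 := by
        intro h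
        apply hr1
        exact Subtype.ext h
      obtain ⟨b, hb, hzb⟩ := exists_comm_of_fpf A (r : X) (hRA hr) (hfpf r hr hr1') z hz
      refine ⟨⟨b, hAV hb⟩, ?_, ?_⟩
      · rw [Subgroup.mem_subgroupOf]
        exact hb
      · apply Subtype.ext
        simp only [Subgroup.coe_mul, InvMemClass.coe_inv]
        exact hzb)
    (by
      intro v hv
      have h1c : (v : X) ∈ Subgroup.centralizer (A : Set X) := by
        rw [Subgroup.mem_centralizer_iff]
        intro a ha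
        have h2 := hv ⟨a, hAV ha⟩ (by rw [Subgroup.mem_subgroupOf]; exact ha)
        have h3 := congrArg Subtype.val h2
        rw [hφ] at h3
        simp only at h3
        calc a * (v : X) = a * v * a⁻¹ * a := by group
          _ = v * a := by rw [h3]
      have h1 : (v : X) ∈ V ⊓ Subgroup.centralizer (A : Set X) :=
        Subgroup.mem_inf.mpr ⟨v.2, h1c⟩
      rw [hCA, Subgroup.mem_bot] at h1
      exact Subtype.ext h1)
  rw [card_subgroupOf_eq hRV] at key
  rw [key]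
  congr 1
  apply Nat.card_congr
  refine ⟨fun v => ⟨v.1.1, Subgroup.mem_inf.mpr ⟨v.1.2, ?_⟩⟩,
    fun w => ⟨⟨w.1, (Subgroup.mem_inf.mp w.2).1⟩, ?_⟩, ?_, ?_⟩
  · rw [Subgroup.mem_centralizer_iff]
    intro r hr
    have h2 := v.2 ⟨r, hRV hr⟩ (by rw [Subgroup.mem_subgroupOf]; exact hr)
    have h3 := congrArg Subtype.val h2
    rw [hφ] at h3
    simp only at h3
    calc r * (v.1 : X) = r * v.1 * r⁻¹ * r := by group
      _ = v.1 * r := by rw [h3]
  · intro r hr
    rw [Subgroup.mem_subgroupOf] at hr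
    apply Subtype.ext
    rw [hφ]
    have h2 := (Subgroup.mem_centralizer_iff.mp (Subgroup.mem_inf.mp w.2).2) r hr
    simp only
    calc (r : X) * w.1 * (r : X)⁻¹ = (r * w.1) * (r : X)⁻¹ := by group
      _ = w.1 := by rw [h2]; group
  · intro v
    rfl
  · intro w
    rfl

theorem conj_comm_of_commutator_mem (V : Subgroup X) (a b : X)
    (ha : a ∈ Subgroup.normalizer (V : Set X)) (hb : b ∈ Subgroup.normalizer (V : Set X))
    (hc : ⁅a, b⁆ ∈ Subgroup.centralizer (V : Set X)) (v : X) (hv : v ∈ V) :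
    a * (b * v * b⁻¹) * a⁻¹ = b * (a * v * a⁻¹) * b⁻¹ := by
  have hw : b * (a * v * a⁻¹) * b⁻¹ ∈ V := (hb _).mp ((ha _).mp hv)
  have h2 := (Subgroup.mem_centralizer_iff.mp hc) _ hw
  rw [commutatorElement_def] at h2
  have e1 : a * (b * v * b⁻¹) * a⁻¹ =
      (a * b * a⁻¹ * b⁻¹) * (b * (a * v * a⁻¹) * b⁻¹) * (a * b * a⁻¹ * b⁻¹)⁻¹ := by group
  rw [e1, ← h2]
  group

theorem commutator_mem_of_conj_comm (V : Subgroup X) (a b : X)
    (ha : a ∈ Subgroup.normalizer (V : Set X)) (hb : b ∈ Subgroup.normalizer (V : Set X))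
    (h : ∀ v ∈ V, a * (b * v * b⁻¹) * a⁻¹ = b * (a * v * a⁻¹) * b⁻¹) :
    ⁅a, b⁆ ∈ Subgroup.centralizer (V : Set X) := by
  rw [Subgroup.mem_centralizer_iff]
  intro v hv
  have ha' : a⁻¹ ∈ Subgroup.normalizer (V : Set X) := Subgroup.inv_mem _ ha
  have hb' : b⁻¹ ∈ Subgroup.normalizer (V : Set X) := Subgroup.inv_mem _ hb
  have hw : a⁻¹ * (b⁻¹ * v * b⁻¹⁻¹) * a⁻¹⁻¹ ∈ V := (ha' _).mp ((hb' _).mp hv)
  have h1 := h _ hw
  rw [commutatorElement_def]
  have e1 : b * (a * (a⁻¹ * (b⁻¹ * v * b⁻¹⁻¹) * a⁻¹⁻¹) * a⁻¹) * b⁻¹ = v := by group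
  have e2 : a * (b * (a⁻¹ * (b⁻¹ * v * b⁻¹⁻¹) * a⁻¹⁻¹) * b⁻¹) * a⁻¹ =
      (a * b * a⁻¹ * b⁻¹) * v * (a * b * a⁻¹ * b⁻¹)⁻¹ := by group
  rw [e1, e2] at h1
  calc v * (a * b * a⁻¹ * b⁻¹) = ((a * b * a⁻¹ * b⁻¹) * v * (a * b * a⁻¹ * b⁻¹)⁻¹) *
        (a * b * a⁻¹ * b⁻¹) := by rw [h1]
    _ = (a * b * a⁻¹ * b⁻¹) * v := by group

theorem core_conc_ab [Finite X] (p : ℕ) [Fact p.Prime] (A R K V : Subgroup X)
    (hVcomm : ∀ x ∈ V, ∀ y ∈ V, x * y = y * x) (hVexp : ∀ x ∈ V, x ^ p = 1)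
    (hRA : R ≤ Subgroup.normalizer (A : Set X)) (hAV : A ≤ Subgroup.normalizer (V : Set X))
    (hRV : R ≤ Subgroup.normalizer (V : Set X)) (hKV : K ≤ Subgroup.normalizer (V : Set X))
    (hAp : ¬ p ∣ Nat.card A)
    (hAab : ⁅A, A⁆ ≤ Subgroup.centralizer (V : Set X))
    (hfpf : ∀ r ∈ R, r ≠ 1 → A ⊓ Subgroup.centralizer ({r} : Set X) = ⊥)
    (hCA : V ⊓ Subgroup.centralizer (A : Set X) = ⊥)
    (hAK : ⁅K, A⁆ ≤ Subgroup.centralizer (V : Set X))
    (hcard : Nat.card V = p ^ Nat.card R) :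
    ⁅K, K⁆ ≤ Subgroup.centralizer (V : Set X) := by
  have : IsMulCommutative V := isMulCommutative_iff.mpr
    (fun a b => Subtype.ext (hVcomm a a.2 b b.2))
  obtain ⟨φ, hφ⟩ : ∃ φ : ↥(Subgroup.normalizer (V : Set X)) →* MulAut ↥V,
      ∀ g v, ((φ g v : ↥V) : X) = g * v * (g : X)⁻¹ := ⟨V.normalizerMonoidHom, fun g v => rfl⟩
  have hcm : ∀ a b : ↥(Subgroup.normalizer (V : Set X)),
      ⁅(a : X), (b : X)⁆ ∈ Subgroup.centralizer (V : Set X) → φ a * φ b = φ b * φ a := by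
    intro a b hc
    apply MulEquiv.ext
    intro v
    apply Subtype.ext
    rw [MulAut.mul_apply, MulAut.mul_apply, hφ, hφ, hφ, hφ]
    exact conj_comm_of_commutator_mem V a b a.2 b.2 hc v v.2
  have key := core_grp_ab p (V := ↥V)
    (fun v => Subtype.ext (by rw [Subgroup.coe_pow]; exact hVexp v v.2)) φ
    (A.subgroupOf (Subgroup.normalizer (V : Set X)))
    (R.subgroupOf (Subgroup.normalizer (V : Set X)))
    (K.subgroupOf (Subgroup.normalizer (V : Set X)))
    (by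
      intro r hr z hz
      rw [Subgroup.mem_subgroupOf] at hr hz ⊢
      simp only [Subgroup.coe_mul, InvMemClass.coe_inv]
      exact (hRA hr _).mp hz)
    (by
      intro z hz z' hz'
      rw [Subgroup.mem_subgroupOf] at hz hz'
      exact hcm z z' (hAab (Subgroup.commutator_mem_commutator hz hz')))
    (by rw [card_subgroupOf_eq hAV]; exact hAp)
    (by
      intro r hr hr1 z hz
      rw [Subgroup.mem_subgroupOf] at hr hz
      have hr1' : (r : X) ≠ 1 := by
        intro h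
        apply hr1
        exact Subtype.ext h
      obtain ⟨b, hb, hzb⟩ := exists_comm_of_fpf A (r : X) (hRA hr) (hfpf r hr hr1') z hz
      refine ⟨⟨b, hAV hb⟩, ?_, ?_⟩
      · rw [Subgroup.mem_subgroupOf]
        exact hb
      · apply Subtype.ext
        simp only [Subgroup.coe_mul, InvMemClass.coe_inv]
        exact hzb)
    (by
      intro v hv
      have h1c : (v : X) ∈ Subgroup.centralizer (A : Set X) := by
        rw [Subgroup.mem_centralizer_iff]
        intro a ha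
        have h2 := hv ⟨a, hAV ha⟩ (by rw [Subgroup.mem_subgroupOf]; exact ha)
        have h3 := congrArg Subtype.val h2
        rw [hφ] at h3
        simp only at h3
        calc a * (v : X) = a * v * a⁻¹ * a := by group
          _ = v * a := by rw [h3]
      have h1 : (v : X) ∈ V ⊓ Subgroup.centralizer (A : Set X) :=
        Subgroup.mem_inf.mpr ⟨v.2, h1c⟩
      rw [hCA, Subgroup.mem_bot] at h1
      exact Subtype.ext h1)
    (by
      intro x hx z hz
      rw [Subgroup.mem_subgroupOf] at hx hz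
      exact hcm x z (hAK (Subgroup.commutator_mem_commutator hx hz)))
    (by rw [card_subgroupOf_eq hRV]; exact hcard)
  rw [Subgroup.commutator_le]
  intro x hx x' hx'
  apply commutator_mem_of_conj_comm V x x' (hKV hx) (hKV hx')
  intro v hv
  have h1 := key ⟨x, hKV hx⟩ (by rw [Subgroup.mem_subgroupOf]; exact hx) ⟨x', hKV hx'⟩
    (by rw [Subgroup.mem_subgroupOf]; exact hx')
  have h2 := congrArg (fun f : MulAut ↥V => ((f ⟨v, hv⟩ : ↥V) : X)) h1
  simp only [MulAut.mul_apply, hφ] at h2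
  exact h2

end Cfsg.Agent.Lib.Helper11.FrobConcCore
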