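import Mathlib
import Cfsg.Agent.Lib.Helper11.FrobConcCore
import Cfsg.Agent.Lib.Helper1.CoprimeAbelian
import Cfsg.Agent.Lib.Lead.Coprime

set_option autoImplicit false

namespace Cfsg.Agent.Lib.Helper11.FrobFormula

open Cfsg.Agent.Lib.Helper11.FrobConcCore
open scoped commutatorElement IsMulCommutative Pointwise

variable {X : Type*} [Group X]

theorem card_inf_split (V₁ V₂ S : Subgroup X)
    (hn : V₁ ≤ Subgroup.normalizer (V₂ : Set X)) (hdisj : V₁ ⊓ V₂ = ⊥)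
    (hS : ∀ a ∈ V₁, ∀ b ∈ V₂, a * b ∈ S → a ∈ S ∧ b ∈ S) :
    Nat.card ↥((V₁ ⊔ V₂) ⊓ S) = Nat.card ↥(V₁ ⊓ S) * Nat.card ↥(V₂ ⊓ S) := by
  rw [← Nat.card_prod]
  symm
  obtain ⟨f, hf⟩ : ∃ f : ↥(V₁ ⊓ S) × ↥(V₂ ⊓ S) → ↥((V₁ ⊔ V₂) ⊓ S),
      ∀ x, ((f x : ↥((V₁ ⊔ V₂) ⊓ S)) : X) = x.1 * x.2 := by
    refine ⟨fun x => ⟨x.1 * x.2, Subgroup.mem_inf.mpr ⟨?_, ?_⟩⟩, fun x => rfl⟩
    · exact Subgroup.mul_mem _ (Subgroup.mem_sup_left (Subgroup.mem_inf.mp x.1.2).1)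
        (Subgroup.mem_sup_right (Subgroup.mem_inf.mp x.2.2).1)
    · exact S.mul_mem (Subgroup.mem_inf.mp x.1.2).2 (Subgroup.mem_inf.mp x.2.2).2
  apply Nat.card_congr
  apply Equiv.ofBijective f
  constructor
  · rintro ⟨a, b⟩ ⟨a', b'⟩ h
    have h1 : (a : X) * b = a' * b' := by
      have := congrArg Subtype.val h
      rw [hf, hf] at this
      exact this
    have h2 : (a' : X)⁻¹ * a = b' * (b : X)⁻¹ := by
      calc (a' : X)⁻¹ * a = (a' : X)⁻¹ * (a * b) * (b : X)⁻¹ := by group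
        _ = (a' : X)⁻¹ * (a' * b') * (b : X)⁻¹ := by rw [h1]
        _ = b' * (b : X)⁻¹ := by group
    have h3 : (a' : X)⁻¹ * a ∈ V₁ ⊓ V₂ := by
      refine Subgroup.mem_inf.mpr ⟨V₁.mul_mem (V₁.inv_mem (Subgroup.mem_inf.mp a'.2).1)
        (Subgroup.mem_inf.mp a.2).1, ?_⟩
      rw [h2]
      exact V₂.mul_mem (Subgroup.mem_inf.mp b'.2).1 (V₂.inv_mem (Subgroup.mem_inf.mp b.2).1)
    rw [hdisj, Subgroup.mem_bot] at h3
    have h4 : (a : X) = a' := (eq_of_inv_mul_eq_one h3).symm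
    have h5 : (b : X) = b' := by
      rw [h4] at h1
      exact mul_left_cancel h1
    exact Prod.ext (Subtype.ext h4) (Subtype.ext h5)
  · intro v
    have hv1 : (v : X) ∈ ((V₁ ⊔ V₂ : Subgroup X) : Set X) := (Subgroup.mem_inf.mp v.2).1
    rw [Subgroup.coe_mul_of_left_le_normalizer_right V₁ V₂ hn] at hv1
    obtain ⟨a, ha, b, hb, hab⟩ := Set.mem_mul.mp hv1
    have hvS : a * b ∈ S := by
      rw [hab]
      exact (Subgroup.mem_inf.mp v.2).2
    obtain ⟨haS, hbS⟩ := hS a ha b hb hvS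
    refine ⟨(⟨a, Subgroup.mem_inf.mpr ⟨ha, haS⟩⟩, ⟨b, Subgroup.mem_inf.mpr ⟨hb, hbS⟩⟩), ?_⟩
    apply Subtype.ext
    rw [hf]
    exact hab

theorem card_sup_split (V₁ V₂ : Subgroup X)
    (hn : V₁ ≤ Subgroup.normalizer (V₂ : Set X)) (hdisj : V₁ ⊓ V₂ = ⊥) :
    Nat.card ↥(V₁ ⊔ V₂) = Nat.card V₁ * Nat.card V₂ := by
  have h := card_inf_split V₁ V₂ ⊤ hn hdisj (fun a _ b _ _ => ⟨Subgroup.mem_top a, Subgroup.mem_top b⟩)
  rw [inf_top_eq, inf_top_eq, inf_top_eq] at h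
  exact h

theorem card_fixed_split (V₁ V₂ R : Subgroup X)
    (hn : V₁ ≤ Subgroup.normalizer (V₂ : Set X)) (hdisj : V₁ ⊓ V₂ = ⊥)
    (hR1 : R ≤ Subgroup.normalizer (V₁ : Set X)) (hR2 : R ≤ Subgroup.normalizer (V₂ : Set X)) :
    Nat.card ↥((V₁ ⊔ V₂) ⊓ Subgroup.centralizer (R : Set X)) =
      Nat.card ↥(V₁ ⊓ Subgroup.centralizer (R : Set X)) *
        Nat.card ↥(V₂ ⊓ Subgroup.centralizer (R : Set X)) := by
  apply card_inf_split V₁ V₂ _ hn hdisj
  intro a ha b hb hab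
  have key : ∀ r ∈ R, r * a * r⁻¹ = a ∧ r * b * r⁻¹ = b := by
    intro r hr
    have h1 := (Subgroup.mem_centralizer_iff.mp hab) r hr
    have h2 : (r * a * r⁻¹) * (r * b * r⁻¹) = a * b := by
      calc (r * a * r⁻¹) * (r * b * r⁻¹) = (r * (a * b)) * r⁻¹ := by group
        _ = ((a * b) * r) * r⁻¹ := by rw [h1]
        _ = a * b := by group
    have ha' : r * a * r⁻¹ ∈ V₁ := (hR1 hr a).mp ha
    have hb' : r * b * r⁻¹ ∈ V₂ := (hR2 hr b).mp hb
    have h3 : a⁻¹ * (r * a * r⁻¹) = b * (r * b * r⁻¹)⁻¹ := by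
      calc a⁻¹ * (r * a * r⁻¹) = a⁻¹ * ((r * a * r⁻¹) * (r * b * r⁻¹)) * (r * b * r⁻¹)⁻¹ := by
            group
        _ = a⁻¹ * (a * b) * (r * b * r⁻¹)⁻¹ := by rw [h2]
        _ = b * (r * b * r⁻¹)⁻¹ := by group
    have h4 : a⁻¹ * (r * a * r⁻¹) ∈ V₁ ⊓ V₂ := by
      refine Subgroup.mem_inf.mpr ⟨V₁.mul_mem (V₁.inv_mem ha) ha', ?_⟩
      rw [h3]
      exact V₂.mul_mem hb (V₂.inv_mem hb')
    rw [hdisj, Subgroup.mem_bot] at h4
    have h5 : r * a * r⁻¹ = a := (eq_of_inv_mul_eq_one h4).symm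
    refine ⟨h5, ?_⟩
    rw [h5] at h2
    exact mul_left_cancel h2
  constructor
  · rw [Subgroup.mem_centralizer_iff]
    intro r hr
    have := (key r hr).1
    calc r * a = (r * a * r⁻¹) * r := by group
      _ = a * r := by rw [this]
  · rw [Subgroup.mem_centralizer_iff]
    intro r hr
    have := (key r hr).2
    calc r * b = (r * b * r⁻¹) * r := by group
      _ = b * r := by rw [this]

theorem le_normalizer_inf_centralizer (G V A : Subgroup X)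
    (hGV : G ≤ Subgroup.normalizer (V : Set X)) (hGA : G ≤ Subgroup.normalizer (A : Set X)) :
    G ≤ Subgroup.normalizer ((V ⊓ Subgroup.centralizer (A : Set X) : Subgroup X) : Set X) := by
  rw [Subgroup.le_normalizer_iff]
  intro g hg x hx
  obtain ⟨hxV, hxC⟩ := Subgroup.mem_inf.mp hx
  refine Subgroup.mem_inf.mpr ⟨(Subgroup.le_normalizer_iff.mp hGV) g hg x hxV, ?_⟩
  rw [Subgroup.mem_centralizer_iff]
  intro a ha
  have h0 : g⁻¹ * a * g ∈ A := by
    have := (Subgroup.le_normalizer_iff.mp hGA) g⁻¹ (G.inv_mem hg) a ha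
    rwa [inv_inv] at this
  have h1 := (Subgroup.mem_centralizer_iff.mp hxC) _ h0
  calc a * (g * x * g⁻¹) = g * ((g⁻¹ * a * g) * x) * g⁻¹ := by group
    _ = g * (x * (g⁻¹ * a * g)) * g⁻¹ := by rw [h1]
    _ = g * x * g⁻¹ * a := by group

theorem centralizer_inf_le (V W A : Subgroup X) (hWV : W ≤ V)
    (h : V ⊓ Subgroup.centralizer (A : Set X) = ⊥) :
    W ⊓ Subgroup.centralizer (A : Set X) = ⊥ := by
  rw [eq_bot_iff, ← h]
  exact inf_le_inf_right _ hWV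

/-- **Fixed point formula**, elementary abelian case with fixed-point-free kernel. -/
theorem frob_formula [Finite X] (p : ℕ) [hp : Fact p.Prime] (K R : Subgroup X)
    (hRK : R ≤ Subgroup.normalizer (K : Set X)) (hKnil : Group.IsNilpotent K)
    (hfpf : ∀ r ∈ R, r ≠ 1 → K ⊓ Subgroup.centralizer ({r} : Set X) = ⊥)
    (hKp : ¬ p ∣ Nat.card K) (hRp : ¬ p ∣ Nat.card R) :
    ∀ (n : ℕ) (V : Subgroup X), Nat.card V = n → (∀ x ∈ V, ∀ y ∈ V, x * y = y * x) →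
      (∀ x ∈ V, x ^ p = 1) → K ≤ Subgroup.normalizer (V : Set X) →
      R ≤ Subgroup.normalizer (V : Set X) → V ⊓ Subgroup.centralizer (K : Set X) = ⊥ →
      Nat.card V = Nat.card ↥(V ⊓ Subgroup.centralizer (R : Set X)) ^ Nat.card R := by
  intro n
  induction n using Nat.strong_induction_on with
  | _ n ih =>
  intro V hn hVc hVe hKV hRV hCK
  by_cases hV : V = ⊥
  · subst hV
    rw [bot_inf_eq, Subgroup.card_bot, one_pow]
  have hKC : ¬ K ≤ Subgroup.centralizer (V : Set X) := by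
    intro h
    apply hV
    rw [eq_bot_iff, ← hCK]
    intro v hv
    refine Subgroup.mem_inf.mpr ⟨hv, ?_⟩
    rw [Subgroup.mem_centralizer_iff]
    intro k hk
    exact ((Subgroup.mem_centralizer_iff.mp (h hk)) v hv).symm
  obtain ⟨𝒮, h𝒮⟩ : ∃ 𝒮 : Set (Subgroup X), 𝒮 = {A | A ≤ K ∧ K ≤ Subgroup.normalizer (A : Set X) ∧
      R ≤ Subgroup.normalizer (A : Set X) ∧ ¬ A ≤ Subgroup.centralizer (V : Set X)} := ⟨_, rfl⟩
  have hfin : 𝒮.Finite := Set.toFinite _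
  have hne : 𝒮.Nonempty := ⟨K, by rw [h𝒮]; exact ⟨le_rfl, Subgroup.le_normalizer, hRK, hKC⟩⟩
  obtain ⟨A, hA⟩ := hfin.exists_minimal hne
  have hA1 := hA.1
  rw [h𝒮] at hA1
  obtain ⟨hAK, hKA, hRA, hAC⟩ := hA1
  have hA0 : A ≠ ⊥ := by
    intro h
    apply hAC
    rw [h]
    exact bot_le
  have hAKc : ⁅A, K⁆ ≤ Subgroup.centralizer (V : Set X) := by
    by_contra hcon
    have hlt := Cfsg.Agent.Lib.Lead.commutator_lt_of_nilpotent A K hAK hKA hKnil hA0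
    have hmem : ⁅A, K⁆ ∈ 𝒮 := by
      rw [h𝒮]
      exact ⟨hlt.le.trans hAK,
        Cfsg.Agent.Lib.Lead.le_normalizer_commutator K A K hKA Subgroup.le_normalizer,
        Cfsg.Agent.Lib.Lead.le_normalizer_commutator R A K hRA hRK, hcon⟩
    exact absurd (hA.2 hmem hlt.le) (not_le_of_gt hlt)
  have hAab : ⁅A, A⁆ ≤ Subgroup.centralizer (V : Set X) :=
    (Subgroup.commutator_mono le_rfl hAK).trans hAKc
  have hAp : ¬ p ∣ Nat.card A := fun h => hKp (h.trans (Subgroup.card_dvd_of_le hAK))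
  have hVp : IsPGroup p V := by
    intro v
    refine ⟨1, ?_⟩
    rw [pow_one]
    apply Subtype.ext
    rw [Subgroup.coe_pow]
    exact hVe v v.2
  obtain ⟨k, hk⟩ := hVp.exists_card_eq
  have hcopA : (Nat.card A).Coprime (Nat.card V) := by
    rw [hk]
    apply Nat.Coprime.pow_right
    exact ((Nat.Prime.coprime_iff_not_dvd hp.out).mpr hAp).symm
  have : IsMulCommutative V := isMulCommutative_iff.mpr
    (fun a b => Subtype.ext (hVc a a.2 b b.2))
  have hAV : A ≤ Subgroup.normalizer (V : Set X) := hAK.trans hKV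
  obtain ⟨hd1, hd2⟩ := Cfsg.Agent.Lib.Helper1.coprime_abelian_decomposition A V hAV hcopA
  -- the two pieces
  have hV1le : V ⊓ Subgroup.centralizer (A : Set X) ≤ V := inf_le_left
  have hV2le : ⁅V, A⁆ ≤ V :=
    Cfsg.Agent.Lib.Lead.commutator_le_left_of_le_normalizer V A hAV
  have hV1lt : V ⊓ Subgroup.centralizer (A : Set X) < V := by
    refine lt_of_le_of_ne hV1le ?_
    intro h
    apply hAC
    rw [← Subgroup.le_centralizer_iff]
    intro v hv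
    rw [← h] at hv
    exact (Subgroup.mem_inf.mp hv).2
  have hK1 := le_normalizer_inf_centralizer K V A hKV hKA
  have hR1 := le_normalizer_inf_centralizer R V A hRV hRA
  have hK2 : K ≤ Subgroup.normalizer ((⁅V, A⁆ : Subgroup X) : Set X) :=
    Cfsg.Agent.Lib.Lead.le_normalizer_commutator K V A hKV hKA
  have hR2 : R ≤ Subgroup.normalizer ((⁅V, A⁆ : Subgroup X) : Set X) :=
    Cfsg.Agent.Lib.Lead.le_normalizer_commutator R V A hRV hRA
  -- induction on the first piece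
  have e1 := ih _ (hn ▸ Cfsg.Agent.Lib.Lead.card_lt_card_of_lt hV1lt)
    (V ⊓ Subgroup.centralizer (A : Set X)) rfl
    (fun x hx y hy => hVc x (hV1le hx) y (hV1le hy))
    (fun x hx => hVe x (hV1le hx)) hK1 hR1 (centralizer_inf_le V _ K hV1le hCK)
  -- the core on the second piece
  have hCA2 : ⁅V, A⁆ ⊓ Subgroup.centralizer (A : Set X) = ⊥ := by
    rw [eq_bot_iff, ← hd1]
    intro x hx
    obtain ⟨hx1, hx2⟩ := Subgroup.mem_inf.mp hx
    exact Subgroup.mem_inf.mpr ⟨Subgroup.mem_inf.mpr ⟨hV2le hx1, hx2⟩, hx1⟩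
  have e2 := core_conc p A R ⁅V, A⁆
    (fun x hx y hy => hVc x (hV2le hx) y (hV2le hy))
    (fun x hx => hVe x (hV2le hx)) hRA (hAK.trans hK2) hR2 hAp hRp
    (hAab.trans (Subgroup.centralizer_le hV2le))
    (fun r hr hr1 => by
      rw [eq_bot_iff, ← hfpf r hr hr1]
      exact inf_le_inf_right _ hAK)
    hCA2
  -- combine
  have hn12 : (V ⊓ Subgroup.centralizer (A : Set X)) ≤
      Subgroup.normalizer ((⁅V, A⁆ : Subgroup X) : Set X) := by
    rw [Subgroup.le_normalizer_iff]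
    intro a ha b hb
    have h1 := hVc a (hV1le ha) b (hV2le hb)
    rw [h1, mul_assoc, mul_inv_cancel, mul_one]
    exact hb
  have c1 := card_sup_split _ _ hn12 hd1
  have c2 := card_fixed_split _ _ R hn12 hd1 hR1 hR2
  rw [hd2] at c1 c2
  rw [c1, c2, e1, e2, mul_pow]

end Cfsg.Agent.Lib.Helper11.FrobFormula
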