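import Mathlib
import Cfsg.Agent.Lib.Helper11.FrobFormula

set_option autoImplicit false

namespace Cfsg.Agent.Lib.Helper11.FrobFormula2

open Cfsg.Agent.Lib.Helper11.FrobConcCore Cfsg.Agent.Lib.Helper11.FrobFormula
open scoped commutatorElement IsMulCommutative Pointwise

variable {X : Type*} [Group X]

/-- a minimal invariant subgroup of the kernel acting nontrivially; it acts as an abelian group
commuting with the kernel -/
theorem exists_min_acting [Finite X] (K R V : Subgroup X)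
    (hRK : R ≤ Subgroup.normalizer (K : Set X)) (hKnil : Group.IsNilpotent K)
    (hKC : ¬ K ≤ Subgroup.centralizer (V : Set X)) :
    ∃ A : Subgroup X, A ≤ K ∧ K ≤ Subgroup.normalizer (A : Set X) ∧
      R ≤ Subgroup.normalizer (A : Set X) ∧ ¬ A ≤ Subgroup.centralizer (V : Set X) ∧
      ⁅A, K⁆ ≤ Subgroup.centralizer (V : Set X) := by
  obtain ⟨𝒮, h𝒮⟩ : ∃ 𝒮 : Set (Subgroup X), 𝒮 = {A | A ≤ K ∧ K ≤ Subgroup.normalizer (A : Set X) ∧
      R ≤ Subgroup.normalizer (A : Set X) ∧ ¬ A ≤ Subgroup.centralizer (V : Set X)} := ⟨_, rfl⟩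
  have hfin : 𝒮.Finite := Set.toFinite _
  have hne : 𝒮.Nonempty := ⟨K, by rw [h𝒮]; exact ⟨le_rfl, Subgroup.le_normalizer, hRK, hKC⟩⟩
  obtain ⟨A, hA⟩ := hfin.exists_minimal hne
  have hA1 := hA.1
  rw [h𝒮] at hA1
  obtain ⟨hAK, hKA, hRA, hAC⟩ := hA1
  have hA0 : A ≠ ⊥ := by
    intro h
    apply hAC
    rw [h]
    exact bot_le
  refine ⟨A, hAK, hKA, hRA, hAC, ?_⟩
  by_contra hcon
  have hlt := Cfsg.Agent.Lib.Lead.commutator_lt_of_nilpotent A K hAK hKA hKnil hA0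
  have hmem : ⁅A, K⁆ ∈ 𝒮 := by
    rw [h𝒮]
    exact ⟨hlt.le.trans hAK,
      Cfsg.Agent.Lib.Lead.le_normalizer_commutator K A K hKA Subgroup.le_normalizer,
      Cfsg.Agent.Lib.Lead.le_normalizer_commutator R A K hRA hRK, hcon⟩
  exact absurd (hA.2 hmem hlt.le) (not_le_of_gt hlt)

theorem isPGroup_of_exp (p : ℕ) (V : Subgroup X) (hVe : ∀ x ∈ V, x ^ p = 1) : IsPGroup p V := by
  intro v
  refine ⟨1, ?_⟩
  rw [pow_one]
  apply Subtype.ext
  rw [Subgroup.coe_pow]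
  exact hVe v v.2

theorem coprime_of_exp [Finite X] (p : ℕ) [hp : Fact p.Prime] (A V : Subgroup X)
    (hVe : ∀ x ∈ V, x ^ p = 1) (hAp : ¬ p ∣ Nat.card A) :
    (Nat.card A).Coprime (Nat.card V) := by
  obtain ⟨k, hk⟩ := (isPGroup_of_exp p V hVe).exists_card_eq
  rw [hk]
  apply Nat.Coprime.pow_right
  exact ((Nat.Prime.coprime_iff_not_dvd hp.out).mpr hAp).symm

/-- if `|V| = p ^ |R|` then the kernel acts on `V` as an abelian group -/
theorem frob_ab [Finite X] (p : ℕ) [hp : Fact p.Prime] (K R V : Subgroup X)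
    (hRK : R ≤ Subgroup.normalizer (K : Set X)) (hKnil : Group.IsNilpotent K)
    (hfpf : ∀ r ∈ R, r ≠ 1 → K ⊓ Subgroup.centralizer ({r} : Set X) = ⊥)
    (hKp : ¬ p ∣ Nat.card K) (hRp : ¬ p ∣ Nat.card R)
    (hVc : ∀ x ∈ V, ∀ y ∈ V, x * y = y * x) (hVe : ∀ x ∈ V, x ^ p = 1)
    (hKV : K ≤ Subgroup.normalizer (V : Set X)) (hRV : R ≤ Subgroup.normalizer (V : Set X))
    (hCK : V ⊓ Subgroup.centralizer (K : Set X) = ⊥)
    (hcard : Nat.card V = p ^ Nat.card R) :
    ⁅K, K⁆ ≤ Subgroup.centralizer (V : Set X) := by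
  have hV : V ≠ ⊥ := by
    intro h
    rw [h, Subgroup.card_bot] at hcard
    have h1 : 0 < Nat.card R := Nat.card_pos
    have h2 : 1 < p ^ Nat.card R := Nat.one_lt_pow h1.ne' hp.out.one_lt
    omega
  have hKC : ¬ K ≤ Subgroup.centralizer (V : Set X) := by
    intro h
    apply hV
    rw [eq_bot_iff, ← hCK]
    intro v hv
    refine Subgroup.mem_inf.mpr ⟨hv, ?_⟩
    rw [Subgroup.mem_centralizer_iff]
    intro k hk
    exact ((Subgroup.mem_centralizer_iff.mp (h hk)) v hv).symm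
  obtain ⟨A, hAK, hKA, hRA, hAC, hAKc⟩ := exists_min_acting K R V hRK hKnil hKC
  have hAab : ⁅A, A⁆ ≤ Subgroup.centralizer (V : Set X) :=
    (Subgroup.commutator_mono le_rfl hAK).trans hAKc
  have hAp : ¬ p ∣ Nat.card A := fun h => hKp (h.trans (Subgroup.card_dvd_of_le hAK))
  have hcopA := coprime_of_exp p A V hVe hAp
  have : IsMulCommutative V := isMulCommutative_iff.mpr
    (fun a b => Subtype.ext (hVc a a.2 b b.2))
  have hAV : A ≤ Subgroup.normalizer (V : Set X) := hAK.trans hKV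
  obtain ⟨hd1, hd2⟩ := Cfsg.Agent.Lib.Helper1.coprime_abelian_decomposition A V hAV hcopA
  have hV2le : ⁅V, A⁆ ≤ V :=
    Cfsg.Agent.Lib.Lead.commutator_le_left_of_le_normalizer V A hAV
  have hK2 : K ≤ Subgroup.normalizer ((⁅V, A⁆ : Subgroup X) : Set X) :=
    Cfsg.Agent.Lib.Lead.le_normalizer_commutator K V A hKV hKA
  have hR2 : R ≤ Subgroup.normalizer ((⁅V, A⁆ : Subgroup X) : Set X) :=
    Cfsg.Agent.Lib.Lead.le_normalizer_commutator R V A hRV hRA
  have hCA2 : ⁅V, A⁆ ⊓ Subgroup.centralizer (A : Set X) = ⊥ := by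
    rw [eq_bot_iff, ← hd1]
    intro x hx
    obtain ⟨hx1, hx2⟩ := Subgroup.mem_inf.mp hx
    exact Subgroup.mem_inf.mpr ⟨Subgroup.mem_inf.mpr ⟨hV2le hx1, hx2⟩, hx1⟩
  have hfpfA : ∀ r ∈ R, r ≠ 1 → A ⊓ Subgroup.centralizer ({r} : Set X) = ⊥ := by
    intro r hr hr1
    rw [eq_bot_iff, ← hfpf r hr hr1]
    exact inf_le_inf_right _ hAK
  have e2 := core_conc p A R ⁅V, A⁆
    (fun x hx y hy => hVc x (hV2le hx) y (hV2le hy))
    (fun x hx => hVe x (hV2le hx)) hRA (hAK.trans hK2) hR2 hAp hRp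
    (hAab.trans (Subgroup.centralizer_le hV2le)) hfpfA hCA2
  -- `⁅V, A⁆` is nontrivial
  have hV2 : ⁅V, A⁆ ≠ ⊥ := by
    intro h
    apply hAC
    rw [← Subgroup.le_centralizer_iff]
    intro v hv
    have h1 : v ∈ (V ⊓ Subgroup.centralizer (A : Set X)) ⊔ ⁅V, A⁆ := by
      rw [hd2]
      exact hv
    rw [h, sup_bot_eq] at h1
    exact (Subgroup.mem_inf.mp h1).2
  -- hence its fixed points are nontrivial and it has order at least `p ^ |R|`
  have hfix2 : (⁅V, A⁆ ⊓ Subgroup.centralizer (R : Set X) : Subgroup X) ≠ ⊥ := by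
    intro h
    rw [h, Subgroup.card_bot, one_pow] at e2
    exact hV2 (Subgroup.card_eq_one.mp e2)
  have hpdvd : p ∣ Nat.card ↥(⁅V, A⁆ ⊓ Subgroup.centralizer (R : Set X)) := by
    have hPG : IsPGroup p ↥(⁅V, A⁆ ⊓ Subgroup.centralizer (R : Set X)) :=
      isPGroup_of_exp p _ (fun x hx => hVe x (hV2le (Subgroup.mem_inf.mp hx).1))
    obtain ⟨k, hk⟩ := hPG.exists_card_eq
    rw [hk]
    rcases Nat.eq_zero_or_pos k with h0 | h0
    · rw [h0, pow_zero] at hk
      exact absurd (Subgroup.card_eq_one.mp hk) hfix2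
    · exact dvd_pow_self p h0.ne'
  have hge : Nat.card V ≤ Nat.card ↥(⁅V, A⁆ : Subgroup X) := by
    rw [e2, hcard]
    exact Nat.pow_le_pow_left (Nat.le_of_dvd Nat.card_pos hpdvd) _
  have hV2eq : ⁅V, A⁆ = V := Subgroup.eq_of_le_of_card_ge hV2le hge
  have hCA : V ⊓ Subgroup.centralizer (A : Set X) = ⊥ := by
    rw [← hV2eq]
    exact hCA2
  have hKAc : ⁅K, A⁆ ≤ Subgroup.centralizer (V : Set X) := by
    rw [Subgroup.commutator_comm]
    exact hAKc
  exact core_conc_ab p A R K V hVc hVe hRA hAV hRV hKV hAp hAab hfpfA hCA hKAc hcard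

/-- centraliser of a join -/
theorem inf_centralizer_sup (V K R : Subgroup X) :
    V ⊓ Subgroup.centralizer ((K ⊔ R : Subgroup X) : Set X) =
      (V ⊓ Subgroup.centralizer (K : Set X)) ⊓ Subgroup.centralizer (R : Set X) := by
  ext x
  simp only [Subgroup.mem_inf]
  constructor
  · rintro ⟨hV, hC⟩
    exact ⟨⟨hV, Subgroup.centralizer_le (SetLike.coe_subset_coe.mpr le_sup_left) hC⟩,
      Subgroup.centralizer_le (SetLike.coe_subset_coe.mpr le_sup_right) hC⟩
  · rintro ⟨⟨hV, hK⟩, hR⟩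
    refine ⟨hV, ?_⟩
    have h1 : K ⊔ R ≤ Subgroup.centralizer ({x} : Set X) := by
      apply sup_le
      · intro k hk
        rw [Subgroup.mem_centralizer_iff]
        intro y hy
        rw [Set.mem_singleton_iff] at hy
        rw [hy]
        exact (Subgroup.mem_centralizer_iff.mp hK k hk).symm
      · intro r hr
        rw [Subgroup.mem_centralizer_iff]
        intro y hy
        rw [Set.mem_singleton_iff] at hy
        rw [hy]
        exact (Subgroup.mem_centralizer_iff.mp hR r hr).symm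
    rw [Subgroup.mem_centralizer_iff]
    intro g hg
    exact ((Subgroup.mem_centralizer_iff.mp (h1 hg)) x rfl).symm

/-- **Four term formula**, elementary abelian case. -/
theorem four_term_elemAb [Finite X] (p : ℕ) [hp : Fact p.Prime] (K R V : Subgroup X)
    (hRK : R ≤ Subgroup.normalizer (K : Set X)) (hKnil : Group.IsNilpotent K)
    (hfpf : ∀ r ∈ R, r ≠ 1 → K ⊓ Subgroup.centralizer ({r} : Set X) = ⊥)
    (hKp : ¬ p ∣ Nat.card K) (hRp : ¬ p ∣ Nat.card R)
    (hVc : ∀ x ∈ V, ∀ y ∈ V, x * y = y * x) (hVe : ∀ x ∈ V, x ^ p = 1)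
    (hKV : K ≤ Subgroup.normalizer (V : Set X)) (hRV : R ≤ Subgroup.normalizer (V : Set X)) :
    Nat.card ↥(V ⊓ Subgroup.centralizer ((K ⊔ R : Subgroup X) : Set X)) ^ Nat.card R * Nat.card V =
      Nat.card ↥(V ⊓ Subgroup.centralizer (R : Set X)) ^ Nat.card R *
        Nat.card ↥(V ⊓ Subgroup.centralizer (K : Set X)) := by
  have hcopK := coprime_of_exp p K V hVe hKp
  have : IsMulCommutative V := isMulCommutative_iff.mpr
    (fun a b => Subtype.ext (hVc a a.2 b b.2))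
  obtain ⟨hd1, hd2⟩ := Cfsg.Agent.Lib.Helper1.coprime_abelian_decomposition K V hKV hcopK
  have hV1le : V ⊓ Subgroup.centralizer (K : Set X) ≤ V := inf_le_left
  have hV2le : ⁅V, K⁆ ≤ V :=
    Cfsg.Agent.Lib.Lead.commutator_le_left_of_le_normalizer V K hKV
  have hR1 := le_normalizer_inf_centralizer R V K hRV hRK
  have hK2 : K ≤ Subgroup.normalizer ((⁅V, K⁆ : Subgroup X) : Set X) :=
    Cfsg.Agent.Lib.Lead.le_normalizer_commutator K V K hKV Subgroup.le_normalizer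
  have hR2 : R ≤ Subgroup.normalizer ((⁅V, K⁆ : Subgroup X) : Set X) :=
    Cfsg.Agent.Lib.Lead.le_normalizer_commutator R V K hRV hRK
  have hCK2 : ⁅V, K⁆ ⊓ Subgroup.centralizer (K : Set X) = ⊥ := by
    rw [eq_bot_iff, ← hd1]
    intro x hx
    obtain ⟨hx1, hx2⟩ := Subgroup.mem_inf.mp hx
    exact Subgroup.mem_inf.mpr ⟨Subgroup.mem_inf.mpr ⟨hV2le hx1, hx2⟩, hx1⟩
  have e2 := frob_formula p K R hRK hKnil hfpf hKp hRp _ ⁅V, K⁆ rfl
    (fun x hx y hy => hVc x (hV2le hx) y (hV2le hy))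
    (fun x hx => hVe x (hV2le hx)) hK2 hR2 hCK2
  have hn12 : (V ⊓ Subgroup.centralizer (K : Set X)) ≤
      Subgroup.normalizer ((⁅V, K⁆ : Subgroup X) : Set X) := by
    rw [Subgroup.le_normalizer_iff]
    intro a ha b hb
    have h1 := hVc a (hV1le ha) b (hV2le hb)
    rw [h1, mul_assoc, mul_inv_cancel, mul_one]
    exact hb
  have c1 := card_sup_split _ _ hn12 hd1
  have c2 := card_fixed_split _ _ R hn12 hd1 hR1 hR2
  rw [hd2] at c1 c2
  rw [inf_centralizer_sup, c1, c2, e2, mul_pow]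
  ring

end Cfsg.Agent.Lib.Helper11.FrobFormula2
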