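import Mathlib
import Cfsg.Agent.Lib.Helper11.FrobFormula2
import Cfsg.Agent.S0022

set_option autoImplicit false

namespace Cfsg.Agent.Lib.Helper11.FrobSolv

open Cfsg.Agent.Lib.Helper11.FrobConcCore Cfsg.Agent.Lib.Helper11.FrobFormula
  Cfsg.Agent.Lib.Helper11.FrobFormula2
open scoped commutatorElement Pointwise

universe u

variable {X : Type*} [Group X]

theorem card_sup_dvd [Finite X] (H N : Subgroup X)
    (hLE : H ≤ Subgroup.normalizer (N : Set X)) :
    Nat.card (H ⊔ N : Subgroup X) ∣ Nat.card H * Nat.card N := by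
  have h0 : N.relIndex (H ⊔ N) = N.relIndex H := by
    have := Subgroup.normal_subgroupOf_of_le_normalizer hLE
    have := Subgroup.normal_subgroupOf_sup_of_le_normalizer hLE
    exact (Nat.card_congr
      (QuotientGroup.quotientInfEquivProdNormalizerQuotient H N hLE).toEquiv).symm
  have h1 : (N.subgroupOf (H ⊔ N)).index * Nat.card (N.subgroupOf (H ⊔ N)) =
      Nat.card (H ⊔ N : Subgroup X) := Subgroup.index_mul_card _
  have h2 : Nat.card (N.subgroupOf (H ⊔ N)) = Nat.card N :=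
    Nat.card_congr (Subgroup.subgroupOfEquivOfLe (le_sup_right : N ≤ H ⊔ N)).toEquiv
  have h3 : (N.subgroupOf (H ⊔ N)).index = N.relIndex H := h0
  rw [← h1, h2, h3]
  exact Nat.mul_dvd_mul_right (Subgroup.relIndex_dvd_card N H) _

theorem card_map_mul {Y : Type*} [Group Y] (S : Subgroup X) (f : X →* Y) :
    Nat.card (S.map f) * Nat.card ↥(S ⊓ f.ker) = Nat.card S := by
  have h0 : f.ker.relIndex S = Nat.card (S.map f) := Subgroup.relIndex_ker (K := S) f
  rw [← h0]
  have h1 : Nat.card ↥(S ⊓ f.ker) = Nat.card (f.ker.subgroupOf S) := by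
    have e1 : (f.ker ⊓ S).subgroupOf S = f.ker.subgroupOf S :=
      Subgroup.inf_subgroupOf_right f.ker S
    rw [← e1, card_subgroupOf_eq (inf_le_right : f.ker ⊓ S ≤ S), inf_comm]
  rw [h1, Subgroup.relIndex, mul_comm]
  exact Subgroup.card_mul_index _

/-- fixed points in a quotient by an invariant normal subgroup, coprime action -/
theorem card_quot_fixed [Finite X] (N H B : Subgroup X) [N.Normal] (hNH : N ≤ H)
    (hBH : B ≤ Subgroup.normalizer (H : Set X))
    (hcop : (Nat.card B).Coprime (Nat.card H)) (hsolv : Group.IsSolvable H) :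
    Nat.card ↥(H.map (QuotientGroup.mk' N) ⊓
        Subgroup.centralizer ((B.map (QuotientGroup.mk' N) : Subgroup (X ⧸ N)) : Set (X ⧸ N))) *
      Nat.card ↥(N ⊓ Subgroup.centralizer (B : Set X)) =
      Nat.card ↥(H ⊓ Subgroup.centralizer (B : Set X)) := by
  have hmap : (H ⊓ Subgroup.centralizer (B : Set X)).map (QuotientGroup.mk' N) =
      H.map (QuotientGroup.mk' N) ⊓
        Subgroup.centralizer ((B.map (QuotientGroup.mk' N) : Subgroup (X ⧸ N)) : Set (X ⧸ N)) := by
    apply le_antisymm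
    · rintro _ ⟨x, hx, rfl⟩
      obtain ⟨hxH, hxC⟩ := Subgroup.mem_inf.mp hx
      refine Subgroup.mem_inf.mpr ⟨Subgroup.mem_map_of_mem _ hxH, ?_⟩
      rw [Subgroup.mem_centralizer_iff]
      rintro _ ⟨b, hb, rfl⟩
      rw [← map_mul, ← map_mul, (Subgroup.mem_centralizer_iff.mp hxC) b hb]
    · intro y hy
      obtain ⟨hyH, hyC⟩ := Subgroup.mem_inf.mp hy
      obtain ⟨h, hh, rfl⟩ := hyH
      have hfix : ∀ a ∈ B, a * h * a⁻¹ * h⁻¹ ∈ N := by
        intro a ha
        have h1 := (Subgroup.mem_centralizer_iff.mp hyC) _ (Subgroup.mem_map_of_mem _ ha)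
        rw [← QuotientGroup.eq_one_iff]
        have e : ((a * h * a⁻¹ * h⁻¹ : X) : X ⧸ N) =
            (QuotientGroup.mk' N a * QuotientGroup.mk' N h) * (QuotientGroup.mk' N a)⁻¹ *
              (QuotientGroup.mk' N h)⁻¹ := by
          simp
        rw [e, h1]
        group
      obtain ⟨c, hc, hcN⟩ := Cfsg.Agent.S0022.result B H hBH hcop (Or.inr hsolv) N hNH
        (le_trans le_top (by rw [Subgroup.normalizer_eq_top]))
        (le_trans le_top (by rw [Subgroup.normalizer_eq_top])) h hh hfix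
      refine ⟨c, hc, ?_⟩
      have h2 : ((h⁻¹ * c : X) : X ⧸ N) = 1 := (QuotientGroup.eq_one_iff _).mpr hcN
      have h3 : (QuotientGroup.mk' N c) = (QuotientGroup.mk' N h) := by
        have e : (QuotientGroup.mk' N c) = (QuotientGroup.mk' N h) * ((h⁻¹ * c : X) : X ⧸ N) := by
          simp
        rw [e, h2, mul_one]
      exact h3
  rw [← hmap]
  have h1 := card_map_mul (H ⊓ Subgroup.centralizer (B : Set X)) (QuotientGroup.mk' N)
  rw [QuotientGroup.ker_mk'] at h1
  have h2 : H ⊓ Subgroup.centralizer (B : Set X) ⊓ N = N ⊓ Subgroup.centralizer (B : Set X) := by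
    rw [inf_comm, ← inf_assoc, inf_eq_left.mpr hNH]
  rw [h2] at h1
  exact h1

/-- a nontrivial solvable normal subgroup contains a nontrivial normal elementary abelian
subgroup of the ambient group -/
theorem exists_elemAb_normal [Finite X] (H : Subgroup X) [hHn : H.Normal]
    (hsolv : Group.IsSolvable H) (hH : H ≠ ⊥) :
    ∃ N : Subgroup X, N.Normal ∧ N ≤ H ∧ N ≠ ⊥ ∧ (∀ x ∈ N, ∀ y ∈ N, x * y = y * x) ∧
      ∃ p : ℕ, p.Prime ∧ ∀ x ∈ N, x ^ p = 1 := by
  obtain ⟨𝒮, h𝒮⟩ : ∃ 𝒮 : Set (Subgroup X), 𝒮 = {N | N.Normal ∧ N ≤ H ∧ N ≠ ⊥} := ⟨_, rfl⟩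
  have hfin : 𝒮.Finite := Set.toFinite _
  have hne : 𝒮.Nonempty := ⟨H, by rw [h𝒮]; exact ⟨hHn, le_rfl, hH⟩⟩
  obtain ⟨N, hN⟩ := hfin.exists_minimal hne
  have hN1 := hN.1
  rw [h𝒮] at hN1
  obtain ⟨hNn, hNH, hN0⟩ := hN1
  have hmin : ∀ M : Subgroup X, M.Normal → M ≤ N → M = ⊥ ∨ M = N := by
    intro M hMn hMN
    by_cases hM0 : M = ⊥
    · exact Or.inl hM0
    · right
      have hmem : M ∈ 𝒮 := by
        rw [h𝒮]
        exact ⟨hMn, hMN.trans hNH, hM0⟩
      exact le_antisymm hMN (hN.2 hmem hMN)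
  have hNsolv : Group.IsSolvable N := @Cfsg.Agent.Lib.Lead.solvable_of_le X _ N H hNH hsolv
  have hcn : (⁅N, N⁆ : Subgroup X).Normal := Subgroup.commutator_normal N N
  have hcle : ⁅N, N⁆ ≤ N := Subgroup.commutator_le_left N N
  have hc : ⁅N, N⁆ = ⊥ := by
    rcases hmin _ hcn hcle with h | h
    · exact h
    · exfalso
      have hnt : Nontrivial N := by
        rw [Subgroup.nontrivial_iff_ne_bot]
        exact hN0
      have hlt := Group.IsSolvable.commutator_lt_top_of_nontrivial N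
      have h1 : (⁅(⊤ : Subgroup N), (⊤ : Subgroup N)⁆ : Subgroup N).map N.subtype = ⁅N, N⁆ := by
        rw [Subgroup.map_commutator, ← MonoidHom.range_eq_map, Subgroup.range_subtype]
      have h2 : (⊤ : Subgroup N).map N.subtype = N := by
        rw [← MonoidHom.range_eq_map, Subgroup.range_subtype]
      have h3 : (⁅(⊤ : Subgroup N), (⊤ : Subgroup N)⁆ : Subgroup N).map N.subtype =
          (⊤ : Subgroup N).map N.subtype := by
        rw [h1, h2, h]
      have h4 := Subgroup.map_injective N.subtype_injective h3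
      rw [commutator_def] at hlt
      exact hlt.ne h4
  have hcomm : ∀ x ∈ N, ∀ y ∈ N, x * y = y * x := by
    intro a ha b hb
    have h1 : ⁅a, b⁆ ∈ ⁅N, N⁆ := Subgroup.commutator_mem_commutator ha hb
    rw [hc, Subgroup.mem_bot, commutatorElement_eq_one_iff_mul_comm] at h1
    exact h1
  refine ⟨N, hNn, hNH, hN0, hcomm, ?_⟩
  have hcard : Nat.card N ≠ 1 := by
    intro h
    exact hN0 ((Subgroup.card_eq_one).mp h)
  obtain ⟨p, hp, hpd⟩ := Nat.exists_prime_and_dvd hcard
  have : Fact p.Prime := ⟨hp⟩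
  refine ⟨p, hp, ?_⟩
  let Ω : Subgroup X :=
    { carrier := {x | x ∈ N ∧ x ^ p = 1}
      one_mem' := ⟨N.one_mem, one_pow p⟩
      mul_mem' := by
        rintro a b ⟨ha, ha'⟩ ⟨hb, hb'⟩
        refine ⟨N.mul_mem ha hb, ?_⟩
        have : Commute a b := hcomm a ha b hb
        rw [this.mul_pow, ha', hb', one_mul]
      inv_mem' := by
        rintro a ⟨ha, ha'⟩
        exact ⟨N.inv_mem ha, by rw [inv_pow, ha', inv_one]⟩ }
  have hΩn : Ω.Normal := by
    constructor
    rintro x ⟨hx, hx'⟩ g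
    refine ⟨hNn.conj_mem x hx g, ?_⟩
    rw [conj_pow, hx']
    group
  have hΩle : Ω ≤ N := fun x hx => hx.1
  obtain ⟨x, hx⟩ := exists_prime_orderOf_dvd_card' (G := N) p hpd
  have hΩne : Ω ≠ ⊥ := by
    intro h
    have hxΩ : (x : X) ∈ Ω := by
      refine ⟨x.2, ?_⟩
      have := pow_orderOf_eq_one x
      rw [hx] at this
      exact_mod_cast congrArg Subtype.val this
    rw [h, Subgroup.mem_bot] at hxΩ
    have : x = 1 := Subtype.ext hxΩ
    rw [this, orderOf_one] at hx
    exact hp.one_lt.ne hx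
  rcases hmin Ω hΩn hΩle with h | h
  · exact absurd h hΩne
  · intro y hy
    rw [← h] at hy
    exact hy.2

end Cfsg.Agent.Lib.Helper11.FrobSolv
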