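import Mathlib
import Cfsg.Agent.Lib.Helper11.FrobSolv

set_option autoImplicit false

namespace Cfsg.Agent.Lib.Helper11.FrobFourTerm

open Cfsg.Agent.Lib.Helper11.FrobConcCore Cfsg.Agent.Lib.Helper11.FrobFormula
  Cfsg.Agent.Lib.Helper11.FrobFormula2 Cfsg.Agent.Lib.Helper11.FrobSolv
open scoped commutatorElement Pointwise

universe u

/-- the fixed-point-free condition passes to a quotient by a normal subgroup of coprime order -/
theorem fpf_quotient {X : Type*} [Group X] [Finite X] (N U E : Subgroup X) [N.Normal]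
    (hEU : E ≤ Subgroup.normalizer (U : Set X))
    (hfpf : ∀ e ∈ E, e ≠ 1 → U ⊓ Subgroup.centralizer ({e} : Set X) = ⊥)
    (hcop : (Nat.card N).Coprime (Nat.card U)) :
    ∀ e' ∈ E.map (QuotientGroup.mk' N), e' ≠ 1 →
      U.map (QuotientGroup.mk' N) ⊓ Subgroup.centralizer ({e'} : Set (X ⧸ N)) = ⊥ := by
  rintro _ ⟨e, he, rfl⟩ he1
  rw [eq_bot_iff]
  intro x hx
  obtain ⟨hxU, hxC⟩ := Subgroup.mem_inf.mp hx
  obtain ⟨u, hu, rfl⟩ := hxU
  rw [Subgroup.mem_bot]
  have h1 := (Subgroup.mem_centralizer_iff.mp hxC) _ (Set.mem_singleton _)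
  have h2 : e * u * e⁻¹ * u⁻¹ ∈ N := by
    rw [← QuotientGroup.eq_one_iff]
    have e1 : ((e * u * e⁻¹ * u⁻¹ : X) : X ⧸ N) =
        (QuotientGroup.mk' N e * QuotientGroup.mk' N u) * (QuotientGroup.mk' N e)⁻¹ *
          (QuotientGroup.mk' N u)⁻¹ := by
      simp
    rw [e1, h1]
    group
  have h3 : e * u * e⁻¹ * u⁻¹ ∈ U :=
    U.mul_mem ((Subgroup.le_normalizer_iff.mp hEU) e he u hu) (U.inv_mem hu)
  have h4 : e * u * e⁻¹ * u⁻¹ = 1 :=
    Subgroup.disjoint_def.mp (Subgroup.disjoint_of_coprime_natCard hcop) h2 h3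
  have he1' : e ≠ 1 := by
    intro h
    apply he1
    rw [h, map_one]
  have h5 : u ∈ U ⊓ Subgroup.centralizer ({e} : Set X) := by
    refine Subgroup.mem_inf.mpr ⟨hu, ?_⟩
    rw [Subgroup.mem_centralizer_iff]
    intro y hy
    rw [Set.mem_singleton_iff] at hy
    rw [hy]
    calc e * u = (e * u * e⁻¹ * u⁻¹) * u * e := by group
      _ = u * e := by rw [h4, one_mul]
  rw [hfpf e he he1', Subgroup.mem_bot] at h5
  rw [h5, map_one]

theorem four_term_aux : ∀ (n : ℕ) (X : Type u) [Group X] [Finite X] (H U E : Subgroup X),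
    H.Normal → E ≤ Subgroup.normalizer (U : Set X) → Group.IsNilpotent U →
    (∀ e ∈ E, e ≠ 1 → U ⊓ Subgroup.centralizer ({e} : Set X) = ⊥) → Group.IsSolvable H →
    (Nat.card H).Coprime (Nat.card U) → (Nat.card H).Coprime (Nat.card E) → Nat.card H = n →
    Nat.card ↥(H ⊓ Subgroup.centralizer ((U ⊔ E : Subgroup X) : Set X)) ^ Nat.card E * Nat.card H =
      Nat.card ↥(H ⊓ Subgroup.centralizer (E : Set X)) ^ Nat.card E *
        Nat.card ↥(H ⊓ Subgroup.centralizer (U : Set X)) := by
  intro n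
  induction n using Nat.strong_induction_on with
  | _ n ih =>
  intro X _ _ H U E hHn hEU hUnil hfpf hsolv hcopU hcopE hn
  by_cases hH : H = ⊥
  · subst hH
    simp only [bot_inf_eq, Subgroup.card_bot, one_pow, mul_one]
  obtain ⟨N, hNn, hNH, hN0, hNc, p, hp, hNe⟩ := exists_elemAb_normal H hsolv hH
  have : Fact p.Prime := ⟨hp⟩
  have hpN : p ∣ Nat.card N := by
    obtain ⟨k, hk⟩ := (isPGroup_of_exp p N hNe).exists_card_eq
    rw [hk]
    rcases Nat.eq_zero_or_pos k with h0 | h0
    · rw [h0, pow_zero] at hk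
      exact absurd (Subgroup.card_eq_one.mp hk) hN0
    · exact dvd_pow_self p h0.ne'
  have hpH : p ∣ Nat.card H := hpN.trans (Subgroup.card_dvd_of_le hNH)
  have hUp : ¬ p ∣ Nat.card U := by
    intro h
    have := Nat.dvd_gcd hpH h
    rw [hcopU] at this
    exact hp.one_lt.ne' (Nat.dvd_one.mp this)
  have hEp : ¬ p ∣ Nat.card E := by
    intro h
    have := Nat.dvd_gcd hpH h
    rw [hcopE] at this
    exact hp.one_lt.ne' (Nat.dvd_one.mp this)
  have hnormN : ∀ S : Subgroup X, S ≤ Subgroup.normalizer (N : Set X) := by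
    intro S
    rw [Subgroup.normalizer_eq_top]
    exact le_top
  have hnormH : ∀ S : Subgroup X, S ≤ Subgroup.normalizer (H : Set X) := by
    intro S
    rw [Subgroup.normalizer_eq_top]
    exact le_top
  -- the formula for `N`
  have eN := four_term_elemAb p U E N hEU hUnil hfpf hUp hEp hNc hNe (hnormN U) (hnormN E)
  -- the quotient
  have hcopNU : (Nat.card N).Coprime (Nat.card U) :=
    Nat.Coprime.coprime_dvd_left (Subgroup.card_dvd_of_le hNH) hcopU
  have hcopNE : (Nat.card N).Coprime (Nat.card E) :=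
    Nat.Coprime.coprime_dvd_left (Subgroup.card_dvd_of_le hNH) hcopE
  have hHcard : Nat.card (H.map (QuotientGroup.mk' N)) * Nat.card N = Nat.card H := by
    have h1 := card_map_mul H (QuotientGroup.mk' N)
    rw [QuotientGroup.ker_mk', inf_eq_right.mpr hNH] at h1
    exact h1
  have hEcard : Nat.card (E.map (QuotientGroup.mk' N)) = Nat.card E := by
    have h1 := card_map_mul E (QuotientGroup.mk' N)
    rw [QuotientGroup.ker_mk'] at h1
    have h2 : E ⊓ N = ⊥ := by
      rw [← disjoint_iff]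
      exact Subgroup.disjoint_of_coprime_natCard hcopNE.symm
    rw [h2, Subgroup.card_bot, mul_one] at h1
    exact h1
  have hNcard : 1 < Nat.card N := by
    rcases Nat.lt_or_ge 1 (Nat.card N) with h | h
    · exact h
    · exfalso
      have h1 : Nat.card N = 1 := le_antisymm h Nat.card_pos
      exact hN0 (Subgroup.card_eq_one.mp h1)
  have hlt : Nat.card (H.map (QuotientGroup.mk' N)) < n := by
    rw [← hn, ← hHcard]
    have hpos : 0 < Nat.card (H.map (QuotientGroup.mk' N)) := Nat.card_pos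
    nlinarith
  have hdvdH : Nat.card (H.map (QuotientGroup.mk' N)) ∣ Nat.card H := Subgroup.card_map_dvd _ _
  have eQ := ih _ hlt (X ⧸ N) (H.map (QuotientGroup.mk' N)) (U.map (QuotientGroup.mk' N))
    (E.map (QuotientGroup.mk' N))
    (Subgroup.Normal.map hHn _ (QuotientGroup.mk'_surjective N))
    ((Subgroup.map_mono hEU).trans (Subgroup.le_normalizer_map _))
    (Group.nilpotent_of_surjective ((QuotientGroup.mk' N).subgroupMap U)
      ((QuotientGroup.mk' N).subgroupMap_surjective U))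
    (fpf_quotient N U E hEU hfpf hcopNU)
    (Group.isSolvable_of_surjective ((QuotientGroup.mk' N).subgroupMap_surjective H))
    (Nat.Coprime.coprime_dvd_left hdvdH
      (Nat.Coprime.coprime_dvd_right (Subgroup.card_map_dvd _ _) hcopU))
    (Nat.Coprime.coprime_dvd_left hdvdH
      (Nat.Coprime.coprime_dvd_right (Subgroup.card_map_dvd _ _) hcopE))
    rfl
  -- transfer
  have hcopUE : (Nat.card ↥(U ⊔ E)).Coprime (Nat.card H) := by
    have h1 : Nat.card ↥(E ⊔ U) ∣ Nat.card E * Nat.card U := card_sup_dvd E U hEU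
    rw [sup_comm]
    exact Nat.Coprime.coprime_dvd_left h1 (Nat.Coprime.mul_left hcopE.symm hcopU.symm)
  have tU := card_quot_fixed N H U hNH (hnormH U) hcopU.symm hsolv
  have tE := card_quot_fixed N H E hNH (hnormH E) hcopE.symm hsolv
  have tUE := card_quot_fixed N H (U ⊔ E) hNH (hnormH _) hcopUE hsolv
  rw [Subgroup.map_sup] at tUE
  rw [hEcard] at eQ
  rw [← tU, ← tE, ← tUE, ← hHcard, mul_pow, mul_pow]
  calc _ = (Nat.card ↥(Subgroup.map (QuotientGroup.mk' N) H ⊓
          Subgroup.centralizer ((Subgroup.map (QuotientGroup.mk' N) U ⊔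
            Subgroup.map (QuotientGroup.mk' N) E : Subgroup (X ⧸ N)) : Set (X ⧸ N))) ^ Nat.card E *
        Nat.card (H.map (QuotientGroup.mk' N))) *
      (Nat.card ↥(N ⊓ Subgroup.centralizer ((U ⊔ E : Subgroup X) : Set X)) ^ Nat.card E *
        Nat.card N) := by ring
    _ = _ := by
      rw [eQ, eN]
      ring

/-- **Frobenius–Wielandt fixed point formula**: a Frobenius-like group `U ⋊ E` (with `U`
nilpotent) acting coprimely on a solvable normal subgroup `H`. -/
theorem four_term {X : Type u} [Group X] [Finite X] (H U E : Subgroup X) (hHn : H.Normal)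
    (hEU : E ≤ Subgroup.normalizer (U : Set X)) (hUnil : Group.IsNilpotent U)
    (hfpf : ∀ e ∈ E, e ≠ 1 → U ⊓ Subgroup.centralizer ({e} : Set X) = ⊥)
    (hsolv : Group.IsSolvable H) (hcopU : (Nat.card H).Coprime (Nat.card U))
    (hcopE : (Nat.card H).Coprime (Nat.card E)) :
    Nat.card ↥(H ⊓ Subgroup.centralizer ((U ⊔ E : Subgroup X) : Set X)) ^ Nat.card E * Nat.card H =
      Nat.card ↥(H ⊓ Subgroup.centralizer (E : Set X)) ^ Nat.card E *
        Nat.card ↥(H ⊓ Subgroup.centralizer (U : Set X)) :=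
  four_term_aux _ X H U E hHn hEU hUnil hfpf hsolv hcopU hcopE rfl

end Cfsg.Agent.Lib.Helper11.FrobFourTerm
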