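import Mathlib
import Cfsg.Agent.Lib.Helper11.FrobFourTerm

set_option autoImplicit false

namespace Cfsg.Agent.Lib.Helper11.FrobFourTerm2

open Cfsg.Agent.Lib.Helper11.FrobConcCore Cfsg.Agent.Lib.Helper11.FrobFourTerm
open scoped commutatorElement Pointwise

universe u

variable {X : Type u} [Group X]

/-- centralisers computed in a subgroup -/
theorem inf_centralizer_subgroupOf (G H B : Subgroup X) (hBG : B ≤ G) :
    H.subgroupOf G ⊓ Subgroup.centralizer ((B.subgroupOf G : Subgroup G) : Set G) =
      (H ⊓ Subgroup.centralizer (B : Set X)).subgroupOf G := by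
  ext x
  rw [Subgroup.mem_inf, Subgroup.mem_subgroupOf, Subgroup.mem_subgroupOf, Subgroup.mem_inf,
    Subgroup.mem_centralizer_iff, Subgroup.mem_centralizer_iff]
  constructor
  · rintro ⟨h1, h2⟩
    refine ⟨h1, ?_⟩
    intro b hb
    have := h2 ⟨b, hBG hb⟩ (by rw [SetLike.mem_coe, Subgroup.mem_subgroupOf]; exact hb)
    exact congrArg Subtype.val this
  · rintro ⟨h1, h2⟩
    refine ⟨h1, ?_⟩
    intro b hb
    rw [SetLike.mem_coe, Subgroup.mem_subgroupOf] at hb
    exact Subtype.ext (h2 b hb)

theorem card_inf_centralizer_subgroupOf (G H B : Subgroup X) (hHG : H ≤ G) (hBG : B ≤ G) :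
    Nat.card ↥(H.subgroupOf G ⊓ Subgroup.centralizer ((B.subgroupOf G : Subgroup G) : Set G)) =
      Nat.card ↥(H ⊓ Subgroup.centralizer (B : Set X)) := by
  rw [inf_centralizer_subgroupOf G H B hBG]
  exact card_subgroupOf_eq (inf_le_left.trans hHG)

/-- the four term formula without normality of `H` in the ambient group -/
theorem four_term_conc [Finite X] (H U E : Subgroup X)
    (hUH : U ≤ Subgroup.normalizer (H : Set X)) (hEH : E ≤ Subgroup.normalizer (H : Set X))
    (hEU : E ≤ Subgroup.normalizer (U : Set X)) (hUnil : Group.IsNilpotent U)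
    (hfpf : ∀ e ∈ E, e ≠ 1 → U ⊓ Subgroup.centralizer ({e} : Set X) = ⊥)
    (hsolv : Group.IsSolvable H) (hcopU : (Nat.card H).Coprime (Nat.card U))
    (hcopE : (Nat.card H).Coprime (Nat.card E)) :
    Nat.card ↥(H ⊓ Subgroup.centralizer ((U ⊔ E : Subgroup X) : Set X)) ^ Nat.card E * Nat.card H =
      Nat.card ↥(H ⊓ Subgroup.centralizer (E : Set X)) ^ Nat.card E *
        Nat.card ↥(H ⊓ Subgroup.centralizer (U : Set X)) := by
  obtain ⟨G, hG⟩ : ∃ G : Subgroup X, G = H ⊔ (U ⊔ E) := ⟨_, rfl⟩
  have hHG : H ≤ G := hG ▸ le_sup_left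
  have hUG : U ≤ G := hG ▸ (le_sup_left.trans le_sup_right)
  have hEG : E ≤ G := hG ▸ (le_sup_right.trans le_sup_right)
  have hGH : G ≤ Subgroup.normalizer (H : Set X) := by
    rw [hG]
    exact sup_le Subgroup.le_normalizer (sup_le hUH hEH)
  have hHn : (H.subgroupOf G).Normal := Subgroup.normal_subgroupOf_of_le_normalizer hGH
  have key := four_term (H.subgroupOf G) (U.subgroupOf G) (E.subgroupOf G) hHn
    (by
      rw [Subgroup.le_normalizer_iff]
      intro e he u hu
      rw [Subgroup.mem_subgroupOf] at he hu ⊢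
      simp only [Subgroup.coe_mul, InvMemClass.coe_inv]
      exact (Subgroup.le_normalizer_iff.mp hEU) _ he _ hu)
    ((Group.isNilpotent_congr (Subgroup.subgroupOfEquivOfLe hUG)).mpr hUnil)
    (by
      intro e he he1
      rw [Subgroup.mem_subgroupOf] at he
      have he1' : (e : X) ≠ 1 := by
        intro h
        apply he1
        exact Subtype.ext h
      rw [eq_bot_iff]
      intro u hu
      obtain ⟨hu1, hu2⟩ := Subgroup.mem_inf.mp hu
      rw [Subgroup.mem_subgroupOf] at hu1
      have h1 : (u : X) ∈ U ⊓ Subgroup.centralizer ({(e : X)} : Set X) := by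
        refine Subgroup.mem_inf.mpr ⟨hu1, ?_⟩
        rw [Subgroup.mem_centralizer_iff]
        intro y hy
        rw [Set.mem_singleton_iff] at hy
        rw [hy]
        have := (Subgroup.mem_centralizer_iff.mp hu2) e (Set.mem_singleton _)
        exact congrArg Subtype.val this
      rw [hfpf e he he1', Subgroup.mem_bot] at h1
      rw [Subgroup.mem_bot]
      exact Subtype.ext h1)
    (by
      have : Group.IsSolvable H := hsolv
      exact Group.isSolvable_of_isSolvable_injective
        (f := (Subgroup.subgroupOfEquivOfLe hHG).toMonoidHom)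
        (Subgroup.subgroupOfEquivOfLe hHG).injective)
    (by rw [card_subgroupOf_eq hHG, card_subgroupOf_eq hUG]; exact hcopU)
    (by rw [card_subgroupOf_eq hHG, card_subgroupOf_eq hEG]; exact hcopE)
  rw [← Subgroup.subgroupOf_sup hUG hEG,
    card_inf_centralizer_subgroupOf G H (U ⊔ E) hHG (sup_le hUG hEG),
    card_inf_centralizer_subgroupOf G H E hHG hEG,
    card_inf_centralizer_subgroupOf G H U hHG hUG,
    card_subgroupOf_eq hHG, card_subgroupOf_eq hEG] at key
  exact key

end Cfsg.Agent.Lib.Helper11.FrobFourTerm2
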