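import Mathlib
import Cfsg.Agent.Lib.Helper11.FrobFourTerm2
import Cfsg.Agent.Lib.Helper1.Frat
import Cfsg.Agent.Lib.Helper1.Fitting
import Cfsg.Agent.S0029

set_option autoImplicit false

namespace Cfsg.Agent.Lib.Helper11.FrobDerived

open Cfsg.Agent.Lib.Helper11.FrobConcCore Cfsg.Agent.Lib.Helper11.FrobFormula
  Cfsg.Agent.Lib.Helper11.FrobFormula2 Cfsg.Agent.Lib.Helper11.FrobSolv
  Cfsg.Agent.Lib.Helper11.FrobFourTerm
open scoped commutatorElement Pointwise

variable {X : Type*} [Group X]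

/-- fixed points in a quotient by an invariant normal subgroup, coprime action: the fixed
points of the quotient are the images of fixed points -/
theorem map_fixed_quot [Finite X] (N H B : Subgroup X) [N.Normal] (hNH : N ≤ H)
    (hBH : B ≤ Subgroup.normalizer (H : Set X))
    (hcop : (Nat.card B).Coprime (Nat.card H)) (hsolv : Group.IsSolvable H) :
    (H ⊓ Subgroup.centralizer (B : Set X)).map (QuotientGroup.mk' N) =
      H.map (QuotientGroup.mk' N) ⊓
        Subgroup.centralizer ((B.map (QuotientGroup.mk' N) : Subgroup (X ⧸ N)) : Set (X ⧸ N)) := by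
  apply le_antisymm
  · rintro _ ⟨x, hx, rfl⟩
    obtain ⟨hxH, hxC⟩ := Subgroup.mem_inf.mp hx
    refine Subgroup.mem_inf.mpr ⟨Subgroup.mem_map_of_mem _ hxH, ?_⟩
    rw [Subgroup.mem_centralizer_iff]
    rintro _ ⟨b, hb, rfl⟩
    rw [← map_mul, ← map_mul, (Subgroup.mem_centralizer_iff.mp hxC) b hb]
  · intro y hy
    obtain ⟨hyH, hyC⟩ := Subgroup.mem_inf.mp hy
    obtain ⟨h, hh, rfl⟩ := hyH
    have hfix : ∀ a ∈ B, a * h * a⁻¹ * h⁻¹ ∈ N := by
      intro a ha
      have h1 := (Subgroup.mem_centralizer_iff.mp hyC) _ (Subgroup.mem_map_of_mem _ ha)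
      rw [← QuotientGroup.eq_one_iff]
      have e : ((a * h * a⁻¹ * h⁻¹ : X) : X ⧸ N) =
          (QuotientGroup.mk' N a * QuotientGroup.mk' N h) * (QuotientGroup.mk' N a)⁻¹ *
            (QuotientGroup.mk' N h)⁻¹ := by
        simp
      rw [e, h1]
      group
    obtain ⟨c, hc, hcN⟩ := Cfsg.Agent.S0022.result B H hBH hcop (Or.inr hsolv) N hNH
      (le_trans le_top (by rw [Subgroup.normalizer_eq_top]))
      (le_trans le_top (by rw [Subgroup.normalizer_eq_top])) h hh hfix
    refine ⟨c, hc, ?_⟩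
    have h2 : ((h⁻¹ * c : X) : X ⧸ N) = 1 := (QuotientGroup.eq_one_iff _).mpr hcN
    have h3 : (QuotientGroup.mk' N c) = (QuotientGroup.mk' N h) := by
      have e : (QuotientGroup.mk' N c) = (QuotientGroup.mk' N h) * ((h⁻¹ * c : X) : X ⧸ N) := by
        simp
      rw [e, h2, mul_one]
    exact h3

/-- a cyclic group of prime exponent has order `1` or `p` -/
theorem card_cyclic_exp {C : Type*} [Group C] [Finite C] [IsCyclic C] (p : ℕ) (hp : p.Prime)
    (hexp : ∀ x : C, x ^ p = 1) : Nat.card C = 1 ∨ Nat.card C = p := by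
  have h1 : Monoid.exponent C = Nat.card C := IsCyclic.exponent_eq_card
  have h2 : Monoid.exponent C ∣ p := Monoid.exponent_dvd_of_forall_pow_eq_one hexp
  rw [h1] at h2
  exact (Nat.dvd_prime hp).mp h2

/-- the kernel of a Frobenius-like group acting coprimely on a normal `s`-group with trivial
kernel fixed points and cyclic complement fixed points acts as an abelian group -/
theorem derived_normal [Finite X] (s : ℕ) [hs : Fact s.Prime] (K R S : Subgroup X) [hSn : S.Normal]
    (hRK : R ≤ Subgroup.normalizer (K : Set X)) (hKnil : Group.IsNilpotent K)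
    (hfpf : ∀ r ∈ R, r ≠ 1 → K ⊓ Subgroup.centralizer ({r} : Set X) = ⊥)
    (hKs : ¬ s ∣ Nat.card K) (hRs : ¬ s ∣ Nat.card R) (hS : IsPGroup s S)
    (hCK : S ⊓ Subgroup.centralizer (K : Set X) = ⊥)
    (hcyc : IsCyclic ↥(S ⊓ Subgroup.centralizer (R : Set X))) :
    ⁅K, K⁆ ≤ Subgroup.centralizer (S : Set X) := by
  obtain ⟨N, hN⟩ : ∃ N : Subgroup X, N = (frattini S).map S.subtype := ⟨_, rfl⟩
  have hNn : N.Normal := by
    rw [hN]
    exact ConjAct.normal_of_characteristic_of_normal
  have hNS : N ≤ S := by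
    rw [hN]
    exact Subgroup.map_subtype_le _
  have hNp : IsPGroup s N := hS.to_le hNS
  have hcopS : ∀ A : Subgroup X, ¬ s ∣ Nat.card A → ∀ T : Subgroup X, IsPGroup s T →
      (Nat.card A).Coprime (Nat.card T) := by
    intro A hA T hT
    obtain ⟨k, hk⟩ := hT.exists_card_eq
    rw [hk]
    apply Nat.Coprime.pow_right
    exact ((Nat.Prime.coprime_iff_not_dvd hs.out).mpr hA).symm
  have hSsolv : Group.IsSolvable S := by
    have := hS.isNilpotent
    infer_instance
  -- the quotient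
  obtain ⟨π, hπ⟩ : ∃ π : X →* X ⧸ N, π = QuotientGroup.mk' N := ⟨_, rfl⟩
  have hπ1 : ∀ x : X, π x = 1 ↔ x ∈ N := by
    intro x
    rw [hπ]
    exact QuotientGroup.eq_one_iff x
  have hVn : (S.map π).Normal := by
    rw [hπ]
    exact Subgroup.Normal.map hSn _ (QuotientGroup.mk'_surjective N)
  have hnormV : ∀ T : Subgroup (X ⧸ N), T ≤ Subgroup.normalizer ((S.map π : Subgroup (X ⧸ N)) : Set (X ⧸ N)) := by
    intro T
    rw [Subgroup.normalizer_eq_top]
    exact le_top
  have hVc : ∀ x ∈ S.map π, ∀ y ∈ S.map π, x * y = y * x := by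
    rintro _ ⟨x, hx, rfl⟩ _ ⟨y, hy, rfl⟩
    have h1 : (⟨x, hx⟩ : S) * ⟨y, hy⟩ * (⟨x, hx⟩ : S)⁻¹ * (⟨y, hy⟩ : S)⁻¹ ∈ frattini S := by
      apply Cfsg.Agent.Lib.Helper1.pgroup_commutator_le_frattini hS
      rw [commutator_def]
      have := Subgroup.commutator_mem_commutator (Subgroup.mem_top (⟨x, hx⟩ : S))
        (Subgroup.mem_top (⟨y, hy⟩ : S))
      rw [commutatorElement_def] at this
      exact this
    have h2 : x * y * x⁻¹ * y⁻¹ ∈ N := by
      rw [hN]
      exact ⟨_, h1, rfl⟩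
    have h3 := (hπ1 _).mpr h2
    rw [map_mul, map_mul, map_mul, map_inv, map_inv] at h3
    calc π x * π y = (π x * π y * (π x)⁻¹ * (π y)⁻¹) * (π y * π x) := by group
      _ = π y * π x := by rw [h3, one_mul]
  have hVe : ∀ x ∈ S.map π, x ^ s = 1 := by
    rintro _ ⟨x, hx, rfl⟩
    have h1 : (⟨x, hx⟩ : S) ^ s ∈ frattini S :=
      Cfsg.Agent.Lib.Helper1.pgroup_pow_mem_frattini hS _
    have h2 : x ^ s ∈ N := by
      rw [hN]
      exact ⟨_, h1, rfl⟩
    rw [← map_pow]
    exact (hπ1 _).mpr h2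
  have hRK' : R.map π ≤ Subgroup.normalizer ((K.map π : Subgroup (X ⧸ N)) : Set (X ⧸ N)) :=
    (Subgroup.map_mono hRK).trans (Subgroup.le_normalizer_map _)
  have hKnil' : Group.IsNilpotent (K.map π) :=
    Group.nilpotent_of_surjective (π.subgroupMap K) (π.subgroupMap_surjective K)
  have hfpf' : ∀ r ∈ R.map π, r ≠ 1 →
      K.map π ⊓ Subgroup.centralizer ({r} : Set (X ⧸ N)) = ⊥ := by
    rw [hπ]
    exact fpf_quotient N K R hRK hfpf (hcopS K hKs N hNp).symm
  have hKs' : ¬ s ∣ Nat.card (K.map π) := fun h => hKs (h.trans (Subgroup.card_map_dvd _ _))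
  have hRs' : ¬ s ∣ Nat.card (R.map π) := fun h => hRs (h.trans (Subgroup.card_map_dvd _ _))
  have hCK' : S.map π ⊓ Subgroup.centralizer ((K.map π : Subgroup (X ⧸ N)) : Set (X ⧸ N)) = ⊥ := by
    rw [hπ, ← map_fixed_quot N S K hNS (by rw [Subgroup.normalizer_eq_top]; exact le_top)
      (hcopS K hKs S hS) hSsolv, hCK, Subgroup.map_bot]
  have hCR' : S.map π ⊓ Subgroup.centralizer ((R.map π : Subgroup (X ⧸ N)) : Set (X ⧸ N)) =
      (S ⊓ Subgroup.centralizer (R : Set X)).map π := by
    rw [hπ, ← map_fixed_quot N S R hNS (by rw [Subgroup.normalizer_eq_top]; exact le_top)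
      (hcopS R hRs S hS) hSsolv]
  have hcard := frob_formula s (K.map π) (R.map π) hRK' hKnil' hfpf' hKs' hRs' _ (S.map π) rfl
    hVc hVe (hnormV _) (hnormV _) hCK'
  -- the fixed points of the complement in the quotient
  have hcyc' : IsCyclic ↥((S ⊓ Subgroup.centralizer (R : Set X)).map π) :=
    isCyclic_of_surjective (π.subgroupMap _) (π.subgroupMap_surjective _)
  have hexp' : ∀ x : ↥((S ⊓ Subgroup.centralizer (R : Set X)).map π), x ^ s = 1 := by
    intro x
    apply Subtype.ext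
    rw [Subgroup.coe_pow, Subgroup.coe_one]
    apply hVe
    obtain ⟨y, hy, hxy⟩ := x.2
    rw [← hxy]
    exact Subgroup.mem_map_of_mem _ (Subgroup.mem_inf.mp hy).1
  have hder : ⁅K.map π, K.map π⁆ ≤
      Subgroup.centralizer ((S.map π : Subgroup (X ⧸ N)) : Set (X ⧸ N)) := by
    rcases card_cyclic_exp s hs.out hexp' with h1 | h1
    · rw [hCR', h1, one_pow] at hcard
      rw [Subgroup.card_eq_one.mp hcard, Subgroup.coe_bot, Subgroup.centralizer_eq_top_iff_subset.mpr]
      · exact le_top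
      · intro x hx
        rw [Set.mem_singleton_iff.mp hx]
        exact Subgroup.one_mem _
    · rw [hCR', h1] at hcard
      exact frob_ab s (K.map π) (R.map π) (S.map π) hRK' hKnil' hfpf' hKs' hRs' hVc hVe
        (hnormV _) (hnormV _) hCK' hcard
  -- back to the group
  apply Cfsg.Agent.S0029.result ⁅K, K⁆ S (by rw [Subgroup.normalizer_eq_top]; exact le_top)
  · have h1 : Nat.card ↥⁅K, K⁆ ∣ Nat.card K :=
      Subgroup.card_dvd_of_le (Subgroup.commutator_le.mpr (fun a ha b hb =>
        K.mul_mem (K.mul_mem (K.mul_mem ha hb) (K.inv_mem ha)) (K.inv_mem hb)))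
    have h2 : ¬ s ∣ Nat.card ↥⁅K, K⁆ := fun h => hKs (h.trans h1)
    have h3 : Nat.card ↥(frattini ↥S) = Nat.card N := by
      rw [hN]
      exact (Subgroup.card_map_of_injective S.subtype_injective).symm
    rw [h3]
    exact hcopS _ h2 N hNp
  · intro a ha k hk
    rw [← hN, ← hπ1]
    have h1 : π a ∈ ⁅K.map π, K.map π⁆ := by
      rw [← Subgroup.map_commutator]
      exact Subgroup.mem_map_of_mem _ ha
    have h2 := (Subgroup.mem_centralizer_iff.mp (hder h1)) _ (Subgroup.mem_map_of_mem π hk)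
    rw [map_mul, map_mul, map_mul, map_inv, map_inv, ← h2]
    group

/-- the same without normality of `S` in the ambient group -/
theorem derived_conc [Finite X] (s : ℕ) [hs : Fact s.Prime] (K R S : Subgroup X)
    (hRK : R ≤ Subgroup.normalizer (K : Set X)) (hKnil : Group.IsNilpotent K)
    (hfpf : ∀ r ∈ R, r ≠ 1 → K ⊓ Subgroup.centralizer ({r} : Set X) = ⊥)
    (hKS : K ≤ Subgroup.normalizer (S : Set X)) (hRS : R ≤ Subgroup.normalizer (S : Set X))
    (hKs : ¬ s ∣ Nat.card K) (hRs : ¬ s ∣ Nat.card R) (hS : IsPGroup s S)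
    (hCK : S ⊓ Subgroup.centralizer (K : Set X) = ⊥)
    (hcyc : IsCyclic ↥(S ⊓ Subgroup.centralizer (R : Set X))) :
    ⁅K, K⁆ ≤ Subgroup.centralizer (S : Set X) := by
  obtain ⟨G, hG⟩ : ∃ G : Subgroup X, G = Subgroup.normalizer (S : Set X) := ⟨_, rfl⟩
  have hSG : S ≤ G := hG ▸ Subgroup.le_normalizer
  have hKG : K ≤ G := hG ▸ hKS
  have hRG : R ≤ G := hG ▸ hRS
  have hSn : (S.subgroupOf G).Normal :=
    Subgroup.normal_subgroupOf_of_le_normalizer (hG ▸ le_rfl)
  have key := derived_normal s (K.subgroupOf G) (R.subgroupOf G) (S.subgroupOf G)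
    (by
      rw [Subgroup.le_normalizer_iff]
      intro e he u hu
      rw [Subgroup.mem_subgroupOf] at he hu ⊢
      simp only [Subgroup.coe_mul, InvMemClass.coe_inv]
      exact (Subgroup.le_normalizer_iff.mp hRK) _ he _ hu)
    ((Group.isNilpotent_congr (Subgroup.subgroupOfEquivOfLe hKG)).mpr hKnil)
    (by
      intro e he he1
      rw [Subgroup.mem_subgroupOf] at he
      have he1' : (e : X) ≠ 1 := by
        intro h
        apply he1
        exact Subtype.ext h
      rw [eq_bot_iff]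
      intro u hu
      obtain ⟨hu1, hu2⟩ := Subgroup.mem_inf.mp hu
      rw [Subgroup.mem_subgroupOf] at hu1
      have h1 : (u : X) ∈ K ⊓ Subgroup.centralizer ({(e : X)} : Set X) := by
        refine Subgroup.mem_inf.mpr ⟨hu1, ?_⟩
        rw [Subgroup.mem_centralizer_iff]
        intro y hy
        rw [Set.mem_singleton_iff] at hy
        rw [hy]
        have := (Subgroup.mem_centralizer_iff.mp hu2) e (Set.mem_singleton _)
        exact congrArg Subtype.val this
      rw [hfpf e he he1', Subgroup.mem_bot] at h1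
      rw [Subgroup.mem_bot]
      exact Subtype.ext h1)
    (by rw [card_subgroupOf_eq hKG]; exact hKs)
    (by rw [card_subgroupOf_eq hRG]; exact hRs)
    (hS.of_equiv (Subgroup.subgroupOfEquivOfLe hSG).symm)
    (by
      rw [Cfsg.Agent.Lib.Helper11.FrobFourTerm2.inf_centralizer_subgroupOf G S K hKG, hCK,
        Subgroup.bot_subgroupOf])
    (by
      rw [Cfsg.Agent.Lib.Helper11.FrobFourTerm2.inf_centralizer_subgroupOf G S R hRG]
      have e := (Subgroup.subgroupOfEquivOfLe
        ((inf_le_left : S ⊓ Subgroup.centralizer (R : Set X) ≤ S).trans hSG)).symm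
      exact isCyclic_of_surjective e.toMonoidHom e.surjective)
  rw [Subgroup.commutator_le]
  intro a ha b hb
  have h1 : ⁅(⟨a, hKG ha⟩ : G), (⟨b, hKG hb⟩ : G)⁆ ∈ ⁅K.subgroupOf G, K.subgroupOf G⁆ :=
    Subgroup.commutator_mem_commutator (Subgroup.mem_subgroupOf.mpr ha)
      (Subgroup.mem_subgroupOf.mpr hb)
  have h2 := key h1
  rw [Subgroup.mem_centralizer_iff] at h2 ⊢
  intro x hx
  have h3 := h2 (⟨x, hSG hx⟩ : G) (Subgroup.mem_subgroupOf.mpr hx)
  exact congrArg Subtype.val h3

/-- nilpotent version: the kernel of a Frobenius-like group acting coprimely on a nilpotent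
group with trivial kernel fixed points and cyclic complement fixed points acts as an abelian
group -/
theorem derived_nilpotent [Finite X] (K R M : Subgroup X)
    (hRK : R ≤ Subgroup.normalizer (K : Set X)) (hKnil : Group.IsNilpotent K)
    (hfpf : ∀ r ∈ R, r ≠ 1 → K ⊓ Subgroup.centralizer ({r} : Set X) = ⊥)
    (hMn : Group.IsNilpotent M)
    (hKM : K ≤ Subgroup.normalizer (M : Set X)) (hRM : R ≤ Subgroup.normalizer (M : Set X))
    (hcopK : (Nat.card K).Coprime (Nat.card M)) (hcopR : (Nat.card R).Coprime (Nat.card M))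
    (hCK : M ⊓ Subgroup.centralizer (K : Set X) = ⊥)
    (hcyc : IsCyclic ↥(M ⊓ Subgroup.centralizer (R : Set X))) :
    ⁅K, K⁆ ≤ Subgroup.centralizer (M : Set X) := by
  rw [Subgroup.le_centralizer_iff]
  have h1 : M = (⊤ : Subgroup M).map M.subtype := by
    rw [← MonoidHom.range_eq_map, Subgroup.range_subtype]
  rw [h1, ← Cfsg.Agent.Lib.Helper1.iSup_sylow_eq_top, Subgroup.map_iSup]
  apply iSup_le
  intro p
  rw [Subgroup.map_iSup]
  apply iSup_le
  intro P
  have hpF : Fact (p : ℕ).Prime := ⟨p.2⟩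
  obtain ⟨k, hk⟩ := P.isPGroup'.exists_card_eq
  rcases Nat.eq_zero_or_pos k with h0 | h0
  · rw [h0, pow_zero] at hk
    rw [Subgroup.card_eq_one.mp hk, Subgroup.map_bot]
    exact bot_le
  have hpM : (p : ℕ) ∣ Nat.card M := by
    have h2 : (p : ℕ) ∣ Nat.card (P : Subgroup M) := by
      rw [hk]
      exact dvd_pow_self _ h0.ne'
    exact h2.trans (Subgroup.card_subgroup_dvd_card _)
  have hKp : ¬ (p : ℕ) ∣ Nat.card K := by
    intro h
    have := Nat.dvd_gcd h hpM
    rw [hcopK] at this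
    exact p.2.one_lt.ne' (Nat.dvd_one.mp this)
  have hRp : ¬ (p : ℕ) ∣ Nat.card R := by
    intro h
    have := Nat.dvd_gcd h hpM
    rw [hcopR] at this
    exact p.2.one_lt.ne' (Nat.dvd_one.mp this)
  have hPn : (P : Subgroup M).Normal := by
    have q := (Group.isNilpotent_of_finite_tfae (G := M)).out 0 3
    exact (q.mp hMn) (p : ℕ) hpF P
  have hPc : (P : Subgroup M).Characteristic := Sylow.characteristic_of_normal P hPn
  have hSM : (P : Subgroup M).map M.subtype ≤ M := Subgroup.map_subtype_le _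
  rw [← Subgroup.le_centralizer_iff]
  exact derived_conc (p : ℕ) K R ((P : Subgroup M).map M.subtype) hRK hKnil hfpf
    (Cfsg.Agent.Lib.Lead.le_normalizer_map_characteristic M K hKM (P : Subgroup M))
    (Cfsg.Agent.Lib.Lead.le_normalizer_map_characteristic M R hRM (P : Subgroup M))
    hKp hRp (P.isPGroup'.map _)
    (centralizer_inf_le M _ K hSM hCK)
    (Subgroup.isCyclic_of_le (inf_le_inf_right _ hSM))

end Cfsg.Agent.Lib.Helper11.FrobDerived
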