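import Mathlib
import Cfsg.Prelude.Def_OddOrderLocal
import Cfsg.Agent.Lib.Helper1.BG12.TwelveFourMain
import Cfsg.Agent.Lib.Helper1.BG10.TenNine
import Cfsg.Agent.S1392
import Cfsg.Agent.S1408
import Cfsg.Agent.S1409

set_option autoImplicit false
open scoped commutatorElement

/-! B & G section 11 (exceptional maximal subgroups), part A: Lemmas 11.1 and 11.2 -/

namespace Cfsg.Agent.Lib.Helper11.ExcA

open Cfsg Cfsg.Agent.Lib Cfsg.Agent.Lib.Helper18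
open Cfsg.Agent.Lib.Helper11.BenderM Cfsg.Agent.Lib.Helper11.BenderN
  Cfsg.Agent.Lib.Helper11.BenderO Cfsg.Agent.Lib.Helper11.BenderE
  Cfsg.Agent.Lib.Helper11.BenderF Cfsg.Agent.Lib.Helper11.BenderL
  Cfsg.Agent.Lib.Helper11.BenderS Cfsg.Agent.Lib.Helper11.MaxSubB
  Cfsg.Agent.Lib.Helper11.MaxSubD Cfsg.Agent.Lib.Helper11.BenderQ
  Cfsg.Agent.Lib.Helper11.BenderI Cfsg.Agent.Lib.Helper11.BenderP
  Cfsg.Agent.Lib.Helper1.BG12

universe u

variable {G : Type u} [Group G] [Finite G]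

theorem exc_card_ne_one {M : Subgroup G} {p : ℕ} {A₀ A : Subgroup G} (hp : p.Prime)
    (h : Exc M p A₀ A) : A₀ ≠ ⊥ := by
  rintro rfl
  have := h.2.2.2.2.2.2.1
  rw [Subgroup.card_bot] at this
  exact hp.one_lt.ne this

/-- `M` has `p`-rank two and `p` is not ideal -/
theorem exc_rank (hG : Cfsg.IsMinSimpleOddOrder G) {M : Subgroup G} {p : ℕ} {A₀ A : Subgroup G}
    (hp : p.Prime) (h : Exc M p A₀ A) :
    (Cfsg.PRankLE p 2 M ∧ ¬ Cfsg.PRankLE p 1 M) ∧ ¬ Cfsg.IsIdealPrime p G := by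
  haveI : Fact p.Prime := ⟨hp⟩
  obtain ⟨hM, hpσ, -, -, -, -, hA₀c, hN⟩ := h
  obtain ⟨h1, h2, -⟩ := Cfsg.Agent.S1409.result hG M hM p hpσ A₀ hA₀c hN
  exact ⟨h1, h2⟩

/-- `A` is a maximal elementary abelian subgroup of `G` -/
theorem exc_max (hG : Cfsg.IsMinSimpleOddOrder G) {M : Subgroup G} {p : ℕ} {A₀ A : Subgroup G}
    (hp : p.Prime) (h : Exc M p A₀ A) :
    ∀ B : Subgroup G, Cfsg.IsElementaryAbelian p B → A ≤ B → B = A := by
  haveI : Fact p.Prime := ⟨hp⟩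
  obtain ⟨⟨hr2, hr1⟩, -⟩ := exc_rank hG hp h
  obtain ⟨hM, hpσ, hAM, hAe, hAc, -, -, -⟩ := h
  exact (Cfsg.Agent.S1408.result hG M hM p hpσ hr2 hr1).2 A hAM hAe hAc

theorem exc_ne_bot {M : Subgroup G} {p : ℕ} {A₀ A : Subgroup G} (hp : p.Prime)
    (h : Exc M p A₀ A) : A ≠ ⊥ := by
  rintro rfl
  have := h.2.2.2.2.1
  rw [Subgroup.card_bot] at this
  have h2 : 1 < p ^ 2 := Nat.one_lt_pow (by norm_num) hp.one_lt
  omega

/-- the transitivity hypothesis for `A` -/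
theorem exc_trans (hG : Cfsg.IsMinSimpleOddOrder G)
    (h36 : ∀ M : Subgroup G, IsCoatom M → Thm36 ↥M) {M : Subgroup G} {p : ℕ}
    {A₀ A : Subgroup G} (hp : p.Prime) (h : Exc M p A₀ A) : Cfsg.TransitivityHypothesis A := by
  haveI : Fact p.Prime := ⟨hp⟩
  exact Cfsg.Agent.Lib.Helper1.BG10.transHyp_of_max_sq hG h36 p A h.2.2.2.1 (exc_ne_bot hp h)
    (exc_max hG hp h)

theorem exc_cent_le {M : Subgroup G} {p : ℕ} {A₀ A : Subgroup G} (h : Exc M p A₀ A) :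
    Subgroup.centralizer (A : Set G) ≤ M :=
  ((Subgroup.centralizer_le h.2.2.2.2.2.1).trans (Subgroup.centralizer_le_normalizer _)).trans
    h.2.2.2.2.2.2.2

/-- a Sylow subgroup of `M` for a prime of `σ(M)` is good -/
theorem good_of_sylow_sigma {M : Subgroup G} {q : ℕ} [hq : Fact q.Prime] (hqσ : q ∈ Cfsg.sigma M)
    {Q : Subgroup G} (hQ : IsSylowIn q Q M) : Good M q Q := by
  obtain ⟨S, hS⟩ := exists_good_of_sigma M q hqσ
  obtain ⟨S', hS', hle⟩ := exists_good_ge hS Q hQ.le hQ.isPGroup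
  have e : S' = Q := hQ.eq_of_le hS'.1.le hS'.1.isPGroup hle
  rwa [e] at hS'

omit [Finite G] in
theorem cjInvCj (g : G) (Q : Subgroup G) : Helper18.conjSub g⁻¹ (Helper18.conjSub g Q) = Q := by
  rw [Helper18.conjSub_mul, inv_mul_cancel, Helper18.conjSub_one]

omit [Finite G] in
theorem cjCjInv (g : G) (Q : Subgroup G) : Helper18.conjSub g (Helper18.conjSub g⁻¹ Q) = Q := by
  rw [Helper18.conjSub_mul, mul_inv_cancel, Helper18.conjSub_one]

/-- **B & G, Lemma 11.1** in a uniform shape: no proper subgroup containing `A` meets both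
`Q₁` and `Q₂` -/
theorem eleven_one (hG : Cfsg.IsMinSimpleOddOrder G)
    (h36 : ∀ M : Subgroup G, IsCoatom M → Thm36 ↥M) {M : Subgroup G} {p : ℕ}
    {A₀ A : Subgroup G} (hp : p.Prime) (h : Exc M p A₀ A) (g : G) (hg : g ∉ M)
    (q : ℕ) [hq : Fact q.Prime] (hqσ : q ∈ Cfsg.sigma M)
    (Q₁ Q₂ : Subgroup G) (hQ₁ : IsSylowIn q Q₁ M) (hQ₂ : IsSylowIn q Q₂ (Helper18.conjSub g M))
    (hA₁ : A ≤ Subgroup.normalizer (Q₁ : Set G)) (hA₂ : A ≤ Subgroup.normalizer (Q₂ : Set G))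
    (H : Subgroup G) (hH : H ≠ ⊤) (hAH : A ≤ H) (h₁ : H ⊓ Q₁ ≠ ⊥) (h₂ : H ⊓ Q₂ ≠ ⊥) : False := by
  have hqp : q ≠ p := by
    rintro rfl
    exact h.2.1 hqσ
  have hqA : ¬ q ∣ Nat.card A := by
    rw [h.2.2.2.2.1]
    intro hd
    exact hqp ((Nat.prime_dvd_prime_iff_eq hq.out hp).mp (hq.out.dvd_of_dvd_pow hd))
  have hgood₁ : Good M q Q₁ := good_of_sylow_sigma hqσ hQ₁
  have hQ₂' : IsSylowIn q (Helper18.conjSub g⁻¹ Q₂) M := by
    have := hQ₂.conjSub g⁻¹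
    rwa [cjInvCj] at this
  have hgood₂ : Good M q (Helper18.conjSub g⁻¹ Q₂) := good_of_sylow_sigma hqσ hQ₂'
  have hQ₂top : IsSylowIn q Q₂ ⊤ := by
    have := sylow_top_conj q _ hgood₂.2.2 g
    rwa [cjCjInv] at this
  have hm₁ : Q₁ ∈ Cfsg.maxInvSubgroups ⊤ A {q} :=
    (Cfsg.Agent.Lib.Helper11.mem_maxInvSubgroups_iff A q Q₁).mpr
      (maxInv_of_sylow A q Q₁ hgood₁.2.2 hA₁)
  have hm₂ : Q₂ ∈ Cfsg.maxInvSubgroups ⊤ A {q} :=
    (Cfsg.Agent.Lib.Helper11.mem_maxInvSubgroups_iff A q Q₂).mpr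
      (maxInv_of_sylow A q Q₂ hQ₂top hA₂)
  obtain ⟨k, hk, hkQ⟩ := Cfsg.Agent.S1392.result hG A (exc_trans hG h36 hp h) q hq.out hqA Q₁ Q₂
    hm₁ hm₂ H hH hAH h₁ h₂
  have hkM : k ∈ M := by
    apply exc_cent_le h
    unfold Cfsg.piCoreOf at hk
    exact Subgroup.map_subtype_le _ hk
  have hkQ' : Q₂ = Helper18.conjSub k Q₁ := hkQ
  obtain ⟨m, hm, hle⟩ := hgood₁.1.exists_conj_le hQ₂'.le hQ₂'.isPGroup
  have hmS : IsSylowIn q (Helper18.conjSub m (Helper18.conjSub g⁻¹ Q₂)) M := by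
    have := hQ₂'.conjSub m
    rwa [Helper18.conjSub_eq_of_mem_normalizer (Subgroup.le_normalizer hm)] at this
  have e : Q₁ = Helper18.conjSub m (Helper18.conjSub g⁻¹ Q₂) := hmS.eq_of_le hQ₁.le hQ₁.isPGroup hle
  rw [hkQ', Helper18.conjSub_mul, Helper18.conjSub_mul] at e
  have hn : m * g⁻¹ * k ∈ Subgroup.normalizer (Q₁ : Set G) :=
    Helper18.mem_normalizer_of_conjSub_le e.ge
  have hn' : m * g⁻¹ * k ∈ M := hgood₁.2.1 hn
  apply hg
  have e2 : g = k * (m * g⁻¹ * k)⁻¹ * m := by group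
  rw [e2]
  exact M.mul_mem (M.mul_mem hkM (M.inv_mem hn')) hm

theorem pgroup_coprime_sigmaCore (hG : Cfsg.IsMinSimpleOddOrder G) (M : Subgroup G)
    (hM : IsCoatom M) (p : ℕ) [hp : Fact p.Prime] (hpσ : p ∉ Cfsg.sigma M) (X : Subgroup G)
    (hXp : IsPGroup p X) : (Nat.card X).Coprime (Nat.card (Cfsg.sigmaCore M)) := by
  obtain ⟨k, hk⟩ := IsPGroup.iff_card.mp hXp
  rw [hk]
  apply Nat.Coprime.pow_left
  rw [Nat.Prime.coprime_iff_not_dvd hp.out]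
  intro hd
  exact hpσ (sigmaCore_primes hG M hM p hp.out hd)

theorem pgroup_solvable (p : ℕ) [hp : Fact p.Prime] (X : Subgroup G) (hXp : IsPGroup p X) :
    Group.IsSolvable X := by
  haveI := hXp.isNilpotent
  infer_instance

theorem sylowIn_of_sigmaCore (hG : Cfsg.IsMinSimpleOddOrder G) (M : Subgroup G)
    (hM : IsCoatom M) (q : ℕ) [hq : Fact q.Prime] (hqσ : q ∈ Cfsg.sigma M) (Q : Subgroup G)
    (hQ : IsSylowIn q Q (Cfsg.sigmaCore M)) : IsSylowIn q Q M := by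
  refine ⟨hQ.le.trans (sigmaCore_le M), hQ.isPGroup, ?_⟩
  rw [← Subgroup.relIndex_mul_relIndex Q (Cfsg.sigmaCore M) M hQ.le (sigmaCore_le M)]
  intro hd
  rcases (Nat.Prime.dvd_mul hq.out).mp hd with h | h
  · exact hQ.not_dvd h
  · exact (sigma_hall hG M hM).1.2.2 q hq.out hqσ h

/-- invariant Sylow subgroups of `M` for the primes of `σ(M)` -/
theorem exists_inv_sylow_sigma (hG : Cfsg.IsMinSimpleOddOrder G) (M : Subgroup G)
    (hM : IsCoatom M) (p : ℕ) [hp : Fact p.Prime] (hpσ : p ∉ Cfsg.sigma M) (X : Subgroup G)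
    (hXM : X ≤ M) (hXp : IsPGroup p X) (q : ℕ) [hq : Fact q.Prime] (hqσ : q ∈ Cfsg.sigma M)
    (Y : Subgroup G) (hYM : Y ≤ M) (hYq : IsPGroup q Y)
    (hXY : X ≤ Subgroup.normalizer (Y : Set G)) :
    ∃ Q : Subgroup G, IsSylowIn q Q M ∧ X ≤ Subgroup.normalizer (Q : Set G) ∧ Y ≤ Q ∧
      Q ≤ Cfsg.sigmaCore M := by
  have hYσ : Y ≤ Cfsg.sigmaCore M := pgroup_le_sigmaCore hG M hM q hqσ Y hYM hYq
  obtain ⟨Q, hQ, hXQ, hYQ⟩ := exists_inv_sylow_ge X (Cfsg.sigmaCore M)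
    (hXM.trans (le_normalizer_sigmaCore M)) (pgroup_coprime_sigmaCore hG M hM p hpσ X hXp)
    (pgroup_solvable p X hXp) q Y hYσ hYq hXY
  exact ⟨Q, sylowIn_of_sigmaCore hG M hM q hqσ Q hQ, hXQ, hYQ, hQ.le⟩

theorem not_sigma_conjSub (M : Subgroup G) (p : ℕ) (hpσ : p ∉ Cfsg.sigma M) (g : G) :
    p ∉ Cfsg.sigma (Helper18.conjSub g M) := by
  intro h
  apply hpσ
  have := sigma_conjSub _ p h g⁻¹
  rwa [cjInvCj] at this

/-- **B & G, Lemma 11.2 (a)** -/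
theorem eleven_two_a (hG : Cfsg.IsMinSimpleOddOrder G)
    (h36 : ∀ M : Subgroup G, IsCoatom M → Thm36 ↥M) {M : Subgroup G} {p : ℕ}
    {A₀ A : Subgroup G} (hp : p.Prime) (h : Exc M p A₀ A) (g : G) (hg : g ∉ M)
    (hAg : A ≤ Helper18.conjSub g M) : Cfsg.sigmaCore M ⊓ Helper18.conjSub g M = ⊥ := by
  haveI : Fact p.Prime := ⟨hp⟩
  have hM : IsCoatom M := h.1
  have hpσ : p ∉ Cfsg.sigma M := h.2.1
  have hAM : A ≤ M := h.2.2.1
  have hAp : IsPGroup p A := Cfsg.Agent.Lib.Helper1.BG10.elemAb_isPGroup h.2.2.2.1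
  by_contra hne
  obtain ⟨D, hD⟩ : ∃ D : Subgroup G, D = Cfsg.sigmaCore M ⊓ Helper18.conjSub g M := ⟨_, rfl⟩
  rw [← hD] at hne
  have hDσ : D ≤ Cfsg.sigmaCore M := hD ▸ inf_le_left
  have hDg : D ≤ Helper18.conjSub g M := hD ▸ inf_le_right
  obtain ⟨q, hq, hqD⟩ := exists_prime_dvd_of_ne_bot hne
  haveI : Fact q.Prime := ⟨hq⟩
  have hqσ : q ∈ Cfsg.sigma M :=
    sigmaCore_primes hG M hM q hq (hqD.trans (Subgroup.card_dvd_of_le hDσ))
  have hAD : A ≤ Subgroup.normalizer (D : Set G) := by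
    rw [hD]
    exact le_normalizer_inf_of_le (hAM.trans (le_normalizer_sigmaCore M))
      (hAg.trans Subgroup.le_normalizer)
  have hcop : (Nat.card A).Coprime (Nat.card D) :=
    Nat.Coprime.coprime_dvd_right (Subgroup.card_dvd_of_le hDσ)
      (pgroup_coprime_sigmaCore hG M hM p hpσ A hAp)
  obtain ⟨Y, hYD, hYq, hAY, hYc⟩ := Cfsg.Agent.Lib.Helper5.exists_invariant_sylow_sub A D hAD hcop
    (pgroup_solvable p A hAp) q
  have hY1 : Y ≠ ⊥ := by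
    rintro rfl
    rw [Subgroup.card_bot] at hYc
    have h0 : (Nat.card D).factorization q = 0 := by
      by_contra h0
      have : 1 < q ^ (Nat.card D).factorization q := Nat.one_lt_pow h0 hq.one_lt
      omega
    rcases (Nat.factorization_eq_zero_iff _ _).mp h0 with h1 | h1 | h1
    · exact h1 hq
    · exact h1 hqD
    · exact Nat.card_pos.ne' h1
  have hYM : Y ≤ M := (hYD.trans hDσ).trans (sigmaCore_le M)
  obtain ⟨Q₁, hQ₁, hAQ₁, hYQ₁, -⟩ := exists_inv_sylow_sigma hG M hM p hpσ A hAM hAp q hqσ Y hYM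
    hYq hAY
  obtain ⟨Q₂, hQ₂, hAQ₂, hYQ₂, -⟩ := exists_inv_sylow_sigma hG (Helper18.conjSub g M)
    (isCoatom_conjSub g hM) p (not_sigma_conjSub M p hpσ g) A hAg hAp q (sigma_conjSub M q hqσ g) Y
    (hYD.trans hDg) hYq hAY
  apply eleven_one hG h36 hp h g hg q hqσ Q₁ Q₂ hQ₁ hQ₂ hAQ₁ hAQ₂ M hM.1 hAM
  · intro hb
    apply hY1
    rw [eq_bot_iff, ← hb]
    exact le_inf hYM hYQ₁
  · intro hb
    apply hY1
    rw [eq_bot_iff, ← hb]
    exact le_inf hYM hYQ₂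

omit [Finite G] in
theorem normalizer_conjSub (g : G) (X : Subgroup G) :
    Subgroup.normalizer ((Helper18.conjSub g X : Subgroup G) : Set G) =
      Helper18.conjSub g (Subgroup.normalizer (X : Set G)) := by
  ext y
  rw [Helper18.mem_conjSub, Subgroup.mem_normalizer_iff, Subgroup.mem_normalizer_iff]
  constructor
  · intro hy x
    have := hy (g * x * g⁻¹)
    rw [Helper18.mem_conjSub, Helper18.mem_conjSub] at this
    have e1 : g⁻¹ * (g * x * g⁻¹) * g = x := by group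
    have e2 : g⁻¹ * (y * (g * x * g⁻¹) * y⁻¹) * g = g⁻¹ * y * g * x * (g⁻¹ * y * g)⁻¹ := by group
    rw [e1, e2] at this
    exact this
  · intro hy x
    rw [Helper18.mem_conjSub, Helper18.mem_conjSub]
    have := hy (g⁻¹ * x * g)
    have e2 : g⁻¹ * y * g * (g⁻¹ * x * g) * (g⁻¹ * y * g)⁻¹ = g⁻¹ * (y * x * y⁻¹) * g := by group
    rw [e2] at this
    exact this

/-- **B & G, Lemma 11.2 (b)** -/
theorem eleven_two_b (hG : Cfsg.IsMinSimpleOddOrder G)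
    (h36 : ∀ M : Subgroup G, IsCoatom M → Thm36 ↥M) {M : Subgroup G} {p : ℕ}
    {A₀ A : Subgroup G} (hp : p.Prime) (h : Exc M p A₀ A) (g : G) (hg : g ∉ M)
    (hAg : A ≤ Helper18.conjSub g M) :
    Cfsg.sigmaCore M ⊓ Subgroup.centralizer ((Helper18.conjSub g A₀ : Subgroup G) : Set G) = ⊥ := by
  rw [eq_bot_iff, ← eleven_two_a hG h36 hp h g hg hAg]
  apply inf_le_inf_left
  refine (Subgroup.centralizer_le_normalizer _).trans ?_
  rw [normalizer_conjSub]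
  exact Helper18.conjSub_mono h.2.2.2.2.2.2.2

end Cfsg.Agent.Lib.Helper11.ExcA
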