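import Mathlib
import Cfsg.Prelude.Def_OddOrderLocal
import Cfsg.Agent.Lib.Helper11.ExcA
import Cfsg.Agent.Lib.Helper20.HHExtG
import Cfsg.Agent.S0033

set_option autoImplicit false
open scoped commutatorElement

/-! B & G section 11, part B: Theorem 11.3 and Corollary 11.4 -/

namespace Cfsg.Agent.Lib.Helper11.ExcB

open Cfsg Cfsg.Agent.Lib Cfsg.Agent.Lib.Helper18
open Cfsg.Agent.Lib.Helper11.BenderM Cfsg.Agent.Lib.Helper11.BenderN
  Cfsg.Agent.Lib.Helper11.BenderO Cfsg.Agent.Lib.Helper11.BenderE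
  Cfsg.Agent.Lib.Helper11.BenderF Cfsg.Agent.Lib.Helper11.BenderL
  Cfsg.Agent.Lib.Helper11.BenderS Cfsg.Agent.Lib.Helper11.MaxSubB
  Cfsg.Agent.Lib.Helper11.MaxSubD Cfsg.Agent.Lib.Helper11.BenderQ
  Cfsg.Agent.Lib.Helper11.BenderI Cfsg.Agent.Lib.Helper11.BenderP
  Cfsg.Agent.Lib.Helper1.BG12 Cfsg.Agent.Lib.Helper11.ExcA

universe u

variable {G : Type u} [Group G] [Finite G]

/-- Thompson's theorem for a subgroup with a fixed-point-free element of prime order -/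
theorem nilpotent_of_fpf (N : Subgroup G) (a : G) (ha : a ∈ Subgroup.normalizer (N : Set G))
    (p : ℕ) (hp : p.Prime) (hap : a ^ p = 1) (hfpf : ∀ n ∈ N, a * n = n * a → n = 1) :
    Group.IsNilpotent N := by
  by_cases hN1 : N = ⊥
  · subst hN1
    infer_instance
  obtain ⟨φ, hφ⟩ : ∃ φ : MulAut ↥N, φ = N.normalizerMonoidHom ⟨a, ha⟩ := ⟨_, rfl⟩
  have hφv : ∀ x : ↥N, ((φ x : ↥N) : G) = a * x * a⁻¹ := by
    intro x
    rw [hφ]
    rfl
  have hφp : φ ^ p = 1 := by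
    rw [hφ, ← map_pow]
    have : (⟨a, ha⟩ : ↥(Subgroup.normalizer (N : Set G))) ^ p = 1 := Subtype.ext hap
    rw [this, map_one]
  have hff : ∀ x : ↥N, φ x = x → x = 1 := by
    intro x hx
    apply Subtype.ext
    apply hfpf x.1 x.2
    have := congrArg Subtype.val hx
    rw [hφv] at this
    calc a * (x : G) = a * x * a⁻¹ * a := by group
      _ = x * a := by rw [this]
  have hφ1 : φ ≠ 1 := by
    intro h1
    obtain ⟨n, hn1⟩ := (Subgroup.ne_bot_iff_exists_ne_one.mp hN1)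
    apply hn1
    apply hff
    rw [h1]
    rfl
  haveI : Fact p.Prime := ⟨hp⟩
  have hord : orderOf φ = p := orderOf_eq_prime hφp hφ1
  exact Cfsg.Agent.S0033.result φ hff p hp hord

/-- a Sylow `p`-subgroup of `M` containing `A`, and an element of its normalizer outside `M` -/
theorem exists_sylow_normalizer {M : Subgroup G} {p : ℕ} {A₀ A : Subgroup G} (hp : p.Prime)
    (h : Exc M p A₀ A) :
    ∃ P : Subgroup G, IsSylowIn p P M ∧ A ≤ P ∧
      ∃ g ∈ Subgroup.normalizer (P : Set G), g ∉ M := by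
  haveI : Fact p.Prime := ⟨hp⟩
  obtain ⟨hM, hpσ, hAM, hAe, hAc, -, -, -⟩ := h
  have hAp : IsPGroup p A := Cfsg.Agent.Lib.Helper1.BG10.elemAb_isPGroup hAe
  have hAp' : IsPGroup p (A.subgroupOf M) := hAp.comap_subtype
  obtain ⟨P₀, hP₀⟩ := hAp'.exists_le_sylow
  have hAP : A ≤ (P₀ : Subgroup ↥M).map M.subtype := by
    intro a ha
    exact ⟨⟨a, hAM ha⟩, hP₀ (Subgroup.mem_subgroupOf.mpr ha), rfl⟩
  refine ⟨_, isSylowIn_of_sylow P₀, hAP, ?_⟩
  have hpM : p ∣ Nat.card M := by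
    have h1 : Nat.card A ∣ Nat.card M := Subgroup.card_dvd_of_le hAM
    rw [hAc] at h1
    exact (dvd_pow_self p (by norm_num)).trans h1
  have hnot : ¬ Subgroup.normalizer ((((P₀ : Subgroup ↥M).map M.subtype : Subgroup G)) : Set G) ≤ M :=
    fun hle => hpσ ⟨hp, hpM, P₀, hle⟩
  obtain ⟨g, hg, hgM⟩ := SetLike.not_le_iff_exists.mp hnot
  exact ⟨g, hg, hgM⟩

/-- a conjugate of `A₀` by an element outside `M` that keeps `A` inside the conjugate of `M`
acts without fixed points on `M_σ`; stated with an element -/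
theorem exists_fpf_gen (hG : Cfsg.IsMinSimpleOddOrder G)
    (h36 : ∀ M : Subgroup G, IsCoatom M → Thm36 ↥M) {M : Subgroup G} {p : ℕ}
    {A₀ A : Subgroup G} (hp : p.Prime) (h : Exc M p A₀ A) (g : G) (hg : g ∉ M)
    (hAg : A ≤ Helper18.conjSub g M) :
    ∃ a : G, a ∈ Helper18.conjSub g A₀ ∧ a ≠ 1 ∧ a ^ p = 1 ∧
      (∀ y ∈ Helper18.conjSub g A₀, ∃ n : ℕ, y = a ^ n) ∧
      ∀ n ∈ Cfsg.sigmaCore M, a * n = n * a → n = 1 := by
  have hc : Nat.card (Helper18.conjSub g A₀) = p := by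
    rw [Helper18.card_conjSub]
    exact h.2.2.2.2.2.2.1
  obtain ⟨a, haX, ha1, hap, hgen⟩ := Cfsg.Agent.Lib.Helper20.HHExt.exists_generator _ hp hc
  refine ⟨a, haX, ha1, hap, hgen, ?_⟩
  intro n hn hcomm
  have h1 := Cfsg.Agent.Lib.Helper20.HHExt.mem_centralizer_of_generator _ a hgen n hcomm
  have h2 : n ∈ Cfsg.sigmaCore M ⊓
      Subgroup.centralizer ((Helper18.conjSub g A₀ : Subgroup G) : Set G) := ⟨hn, h1⟩
  rw [eleven_two_b hG h36 hp h g hg hAg, Subgroup.mem_bot] at h2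
  exact h2

/-- **B & G, Theorem 11.3**: `M_σ` is nilpotent -/
theorem eleven_three (hG : Cfsg.IsMinSimpleOddOrder G)
    (h36 : ∀ M : Subgroup G, IsCoatom M → Thm36 ↥M) {M : Subgroup G} {p : ℕ}
    {A₀ A : Subgroup G} (hp : p.Prime) (h : Exc M p A₀ A) :
    Group.IsNilpotent (Cfsg.sigmaCore M) := by
  obtain ⟨P, hP, hAP, g, hgP, hgM⟩ := exists_sylow_normalizer hp h
  have hPg : Helper18.conjSub g P = P := Helper18.conjSub_eq_of_mem_normalizer hgP
  have hAg : A ≤ Helper18.conjSub g M := by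
    refine hAP.trans ?_
    rw [← hPg]
    exact Helper18.conjSub_mono hP.le
  obtain ⟨a, haX, -, hap, -, hfpf⟩ := exists_fpf_gen hG h36 hp h g hgM hAg
  have haM : a ∈ M := by
    apply hP.le
    rw [← hPg]
    exact Helper18.conjSub_mono (h.2.2.2.2.2.1.trans hAP) haX
  exact nilpotent_of_fpf _ a (le_normalizer_sigmaCore M haM) p hp hap hfpf

/-- **B & G, Corollary 11.4** -/
theorem hyp114 (hG : Cfsg.IsMinSimpleOddOrder G)
    (h36 : ∀ M : Subgroup G, IsCoatom M → Thm36 ↥M) : Hyp114 G := by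
  intro H M p A₀ A hp h hM hAM hne
  obtain ⟨q, hq, hqd⟩ := exists_prime_dvd_of_ne_bot hne
  have hqM : q ∈ Cfsg.sigma M :=
    sigmaCore_primes hG M hM q hq (hqd.trans (Subgroup.card_dvd_of_le inf_le_left))
  have hqH : q ∈ Cfsg.sigma H :=
    sigmaCore_primes hG H h.1 q hq (hqd.trans (Subgroup.card_dvd_of_le inf_le_right))
  obtain ⟨g, hg⟩ := conj_of_sigma_sigma_nilp hG H M h.1 hM (eleven_three hG h36 hp h) q hqH hqM
  by_cases hgH : g ∈ H
  · rw [hg, Helper18.conjSub_eq_of_mem_normalizer (Subgroup.le_normalizer hgH)]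
  · exfalso
    have hAg : A ≤ Helper18.conjSub g H := hg ▸ hAM
    have h1 := eleven_two_a hG h36 hp h g hgH hAg
    apply hne
    rw [eq_bot_iff, ← h1, ← hg]
    exact le_inf inf_le_right (inf_le_left.trans (sigmaCore_le M))

end Cfsg.Agent.Lib.Helper11.ExcB
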