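import Mathlib
import Cfsg.Agent.Lib.Helper11.BenderS
import Cfsg.Agent.Lib.Helper1.TNPC.Basic

set_option autoImplicit false
open scoped commutatorElement

namespace Cfsg.Agent.Lib.Helper11.BenderT

section General

variable {Γ : Type*} [Group Γ] [Finite Γ]

/-- a normal Hall `π`-subgroup `B` has a nilpotent complement if for each prime `q ∉ π` some normal
subgroup of order prime to `q` contains all subgroups of order prime to `q` -/
theorem exists_nilpotent_compl (π : Set ℕ) (B : Subgroup Γ) [hBn : B.Normal]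
    (hBπ : ∀ p : ℕ, p.Prime → p ∣ Nat.card B → p ∈ π)
    (hBidx : ∀ p : ℕ, p.Prime → p ∈ π → ¬ p ∣ B.index)
    (hN : ∀ q : ℕ, q.Prime → q ∉ π → ∃ N : Subgroup Γ, N.Normal ∧ (Nat.card N).Coprime q ∧
      ∀ L : Subgroup Γ, (Nat.card L).Coprime q → L ≤ N) :
    ∃ H : Subgroup Γ, Subgroup.IsComplement' B H ∧ Group.IsNilpotent H := by
  classical
  have hcop : (Nat.card B).Coprime B.index := by
    apply Nat.coprime_of_dvd
    intro k hk hk1 hk2
    exact hBidx k hk (hBπ k hk hk1) hk2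
  obtain ⟨H, hH⟩ := Subgroup.exists_right_complement'_of_coprime hcop
  refine ⟨H, hH, ?_⟩
  have hHcard : B.index = Nat.card H := hH.symm.index_eq_card
  apply ((Group.isNilpotent_of_finite_tfae (G := ↥H)).out 0 3 rfl rfl).mpr
  intro r hr T
  choose N hNn hNc hNabs using hN
  obtain ⟨K, hK⟩ : ∃ K : Subgroup Γ, K = ⨅ q : {q : ℕ // q.Prime ∧ q ∉ π ∧ q ≠ r},
      N q.1 q.2.1 q.2.2.1 := ⟨_, rfl⟩
  have hspec : ∀ q : {q : ℕ // q.Prime ∧ q ∉ π ∧ q ≠ r},
      (N q.1 q.2.1 q.2.2.1).Normal ∧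
      (Nat.card (N q.1 q.2.1 q.2.2.1)).Coprime q.1 ∧
      ∀ L : Subgroup Γ, (Nat.card L).Coprime q.1 → L ≤ N q.1 q.2.1 q.2.2.1 :=
    fun q => ⟨hNn q.1 q.2.1 q.2.2.1, hNc q.1 q.2.1 q.2.2.1, hNabs q.1 q.2.1 q.2.2.1⟩
  have hKn : K.Normal := by
    rw [hK]
    exact Subgroup.normal_iInf_normal (fun q => (hspec q).1)
  have hXn : (K.subgroupOf H).Normal := hKn.subgroupOf H
  -- `T ≤ K`
  have hTK : (T : Subgroup ↥H) ≤ K.subgroupOf H := by
    intro t ht
    rw [Subgroup.mem_subgroupOf, hK, Subgroup.mem_iInf]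
    intro q
    have hq : q.1.Prime := q.2.1
    have hLc : (Nat.card ((T : Subgroup ↥H).map H.subtype)).Coprime q.1 := by
      rw [Subgroup.card_map_of_injective (Subgroup.subtype_injective _), T.card_eq_multiplicity]
      apply Nat.Coprime.pow_left
      rw [Nat.coprime_primes hr.out hq]
      exact fun h => q.2.2.2 h.symm
    exact (hspec q).2.2 _ hLc ⟨t, ht, rfl⟩
  -- `K ∩ H` is an `r`-group
  have hXp : IsPGroup r (K.subgroupOf H) := by
    have hX0 : Nat.card (K.subgroupOf H) ≠ 0 := Nat.card_pos.ne'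
    have hprime : ∀ {d : ℕ}, d.Prime → d ∣ Nat.card (K.subgroupOf H) → d = r := by
      intro d hd hdX
      by_contra hne
      have hdH : d ∣ Nat.card H := hdX.trans (Subgroup.card_subgroup_dvd_card _)
      have hdπ : d ∉ π := by
        intro hdπ
        apply hBidx d hd hdπ
        rw [hHcard]
        exact hdH
      have hle : (K.subgroupOf H).map H.subtype ≤ N d hd hdπ := by
        rintro _ ⟨x, hx, rfl⟩
        have hx : x ∈ K.subgroupOf H := hx
        rw [Subgroup.mem_subgroupOf, hK, Subgroup.mem_iInf] at hx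
        exact hx ⟨d, hd, hdπ, hne⟩
      have h1 : d ∣ Nat.card (N d hd hdπ) := by
        refine dvd_trans ?_ (Subgroup.card_dvd_of_le hle)
        rw [Subgroup.card_map_of_injective (Subgroup.subtype_injective _)]
        exact hdX
      have h2 := (hspec ⟨d, hd, hdπ, hne⟩).2.1
      have := Nat.Coprime.eq_one_of_dvd h2.symm h1
      exact hd.one_lt.ne' this
    exact IsPGroup.of_card (Nat.eq_prime_pow_of_unique_prime_dvd hX0 hprime)
  have heq := T.is_maximal' hXp hTK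
  rw [← heq]
  exact hXn

/-- **normal Hall subgroups from `q'`-cores of the derived subgroup** -/
theorem sylow_le_piCore' (π : Set ℕ)
    (hcore : ∀ q : ℕ, q.Prime → q ∉ π → ∀ L : Subgroup ↥(commutator Γ),
      (Nat.card L).Coprime q → L ≤ Cfsg.pPrimeCore q ↥(commutator Γ))
    (p : ℕ) [hp : Fact p.Prime] (hpπ : p ∈ π) (P : Sylow p Γ)
    (h2 : (P : Subgroup Γ) ≤ commutator Γ) : (P : Subgroup Γ) ≤ Cfsg.piCore π Γ := by
  classical
  obtain ⟨H, hH⟩ : ∃ H : Subgroup ↥(commutator Γ),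
      H = ⨅ q : {q : ℕ // q.Prime ∧ q ∉ π}, Cfsg.pPrimeCore q.1 ↥(commutator Γ) := ⟨_, rfl⟩
  have hHchar : H.Characteristic := by
    rw [Subgroup.characteristic_iff_map_le]
    intro φ
    rintro _ ⟨x, hx, rfl⟩
    have hx : x ∈ H := hx
    rw [hH, Subgroup.mem_iInf] at hx ⊢
    intro q
    have hc : (Cfsg.pPrimeCore q.1 ↥(commutator Γ)).Characteristic :=
      Cfsg.Agent.Lib.Helper11.pPrimeCore_characteristic' q.1
    have := (Subgroup.characteristic_iff_map_le.mp hc) φ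
    exact this ⟨x, hx q, rfl⟩
  have hHn : (H.map (commutator Γ).subtype).Normal :=
    ConjAct.normal_of_characteristic_of_normal
  have hHπ : ∀ r : ℕ, r.Prime → r ∣ Nat.card (H.map (commutator Γ).subtype) → r ∈ π := by
    intro r hr hrd
    by_contra hrπ
    rw [Subgroup.card_map_of_injective (Subgroup.subtype_injective _)] at hrd
    have hle : H ≤ Cfsg.pPrimeCore r ↥(commutator Γ) := by
      rw [hH]
      exact iInf_le _ (⟨r, hr, hrπ⟩ : {q : ℕ // q.Prime ∧ q ∉ π})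
    have hcop := Cfsg.Agent.Lib.Helper18.pPrimeCore_card_coprime_h18
      (G := ↥(commutator Γ)) r
    have h3 : r ∣ Nat.card (Cfsg.pPrimeCore r ↥(commutator Γ)) :=
      hrd.trans (Subgroup.card_dvd_of_le hle)
    have := Nat.Coprime.eq_one_of_dvd hcop.symm h3
    exact hr.one_lt.ne' this
  have hHle : H.map (commutator Γ).subtype ≤ Cfsg.piCore π Γ := le_sSup ⟨hHn, hHπ⟩
  refine le_trans ?_ hHle
  intro x hx
  refine ⟨⟨x, h2 hx⟩, ?_, rfl⟩
  show (⟨x, h2 hx⟩ : ↥(commutator Γ)) ∈ H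
  rw [hH, Subgroup.mem_iInf]
  intro q
  have hq : q.1.Prime := q.2.1
  have hLc : (Nat.card ((P : Subgroup Γ).subgroupOf (commutator Γ))).Coprime q.1 := by
    rw [Nat.card_congr (Subgroup.subgroupOfEquivOfLe h2).toEquiv, P.card_eq_multiplicity]
    apply Nat.Coprime.pow_left
    rw [Nat.coprime_primes hp.out hq]
    rintro rfl
    exact q.2.2 hpπ
  exact hcore q.1 hq q.2.2 _ hLc (Subgroup.mem_subgroupOf.mpr hx)

end General

section InG

variable {G : Type*} [Group G] [Finite G]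

/-- subgroup version of `exists_nilpotent_compl` -/
theorem exists_nilpotent_hall (K : Subgroup G) (π : Set ℕ) (B : Subgroup G) (hBK : B ≤ K)
    (hKB : K ≤ Subgroup.normalizer (B : Set G))
    (hBπ : ∀ p : ℕ, p.Prime → p ∣ Nat.card B → p ∈ π)
    (hBidx : ∀ p : ℕ, p.Prime → p ∈ π → ¬ p ∣ B.relIndex K)
    (hN : ∀ q : ℕ, q.Prime → q ∉ π → ∃ N : Subgroup G, K ≤ Subgroup.normalizer (N : Set G) ∧
      (Nat.card N).Coprime q ∧ ∀ L : Subgroup G, L ≤ K → (Nat.card L).Coprime q → L ≤ N) :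
    ∃ H : Subgroup G, Cfsg.IsPiHallOf {q | q.Prime ∧ q ∉ π} H K ∧ Group.IsNilpotent H := by
  have hBn : (B.subgroupOf K).Normal := Subgroup.normal_subgroupOf_of_le_normalizer hKB
  have hBcard : Nat.card (B.subgroupOf K) = Nat.card B :=
    Nat.card_congr (Subgroup.subgroupOfEquivOfLe hBK).toEquiv
  have hN' : ∀ q : ℕ, q.Prime → q ∉ π → ∃ N : Subgroup ↥K, N.Normal ∧ (Nat.card N).Coprime q ∧
      ∀ L : Subgroup ↥K, (Nat.card L).Coprime q → L ≤ N := by
    intro q hq hqπ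
    obtain ⟨N, hNn, hNc, hNabs⟩ := hN q hq hqπ
    refine ⟨N.subgroupOf K, Subgroup.normal_subgroupOf_of_le_normalizer hNn, ?_, ?_⟩
    · have h1 : Nat.card (N.subgroupOf K) ∣ Nat.card N := by
        have e : Nat.card (N.subgroupOf K) = Nat.card ((N.subgroupOf K).map K.subtype) :=
          (Subgroup.card_map_of_injective (Subgroup.subtype_injective _)).symm
        rw [e, Subgroup.subgroupOf_map_subtype]
        exact Subgroup.card_dvd_of_le inf_le_left
      exact Nat.Coprime.coprime_dvd_left h1 hNc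
    · intro L hL
      have hLc : (Nat.card (L.map K.subtype)).Coprime q := by
        rwa [Subgroup.card_map_of_injective (Subgroup.subtype_injective _)]
      have := hNabs _ (Subgroup.map_subtype_le L) hLc
      intro x hx
      rw [Subgroup.mem_subgroupOf]
      exact this ⟨x, hx, rfl⟩
  obtain ⟨H', hH', hnil⟩ := exists_nilpotent_compl (Γ := ↥K) π (B.subgroupOf K)
    (fun p hp hd => hBπ p hp (hBcard ▸ hd)) (fun p hp hpπ hd => hBidx p hp hpπ hd) hN'
  refine ⟨H'.map K.subtype, ⟨Subgroup.map_subtype_le H', ?_, ?_⟩, ?_⟩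
  · intro p hp hd
    refine ⟨hp, fun hpπ => ?_⟩
    rw [Subgroup.card_map_of_injective (Subgroup.subtype_injective _)] at hd
    apply hBidx p hp hpπ
    have : (B.subgroupOf K).index = Nat.card H' := hH'.symm.index_eq_card
    show p ∣ (B.subgroupOf K).index
    rw [this]
    exact hd
  · rintro p hp ⟨-, hpπ⟩ hd
    apply hpπ
    apply hBπ p hp
    have h1 : (H'.map K.subtype).relIndex K = H'.index := by
      unfold Subgroup.relIndex Subgroup.subgroupOf
      rw [Subgroup.comap_map_eq_self_of_injective (Subgroup.subtype_injective _)]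
    have h2 : H'.index = Nat.card (B.subgroupOf K) := hH'.index_eq_card
    rw [h1, h2, hBcard] at hd
    exact hd
  · have : Group.IsNilpotent ↥H' := hnil
    exact nilpotent_of_mulEquiv (H'.equivMapOfInjective K.subtype (Subgroup.subtype_injective _))

open Cfsg.Agent.Lib.Helper11 Cfsg.Agent.Lib.Helper11.MaxLocA Cfsg.Agent.Lib.Helper11.MaxLocB
  Cfsg.Agent.Lib.Helper11.MaxSubA Cfsg.Agent.Lib.Helper11.MaxSubB Cfsg.Agent.Lib.Helper11.MaxSubC
  Cfsg.Agent.Lib.Helper11.MaxSubD Cfsg.Agent.Lib.Helper11.MaxSubE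
  Cfsg.Agent.Lib.Helper18 Cfsg.Agent.Lib.Helper11.BenderD Cfsg.Agent.Lib.Helper11.BenderE
  Cfsg.Agent.Lib.Helper11.BenderF Cfsg.Agent.Lib.Helper11.BenderL Cfsg.Agent.Lib.Helper11.BenderM
  Cfsg.Agent.Lib.Helper11.BenderN Cfsg.Agent.Lib.Helper11.BenderO Cfsg.Agent.Lib.Helper11.BenderG
  Cfsg.Agent.Lib.Helper11.BenderP Cfsg.Agent.Lib.Helper11.BenderQ Cfsg.Agent.Lib.Helper11.BenderR
  Cfsg.Agent.Lib.Helper11.BenderS

/-- `β(M) ⊆ α(M)` -/
theorem beta_sub_alpha (M : Subgroup G) (p : ℕ) (h : p ∈ Cfsg.beta M) : p ∈ Cfsg.alpha M := h.1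

/-- the `q'`-cores of `M'` absorb `q'`-subgroups of `M'` for `q ∉ β(M)` -/
theorem core_absorbs (hG : Cfsg.IsMinSimpleOddOrder G) (M : Subgroup G) (hM : IsCoatom M)
    (h36 : Thm36 ↥M) (q : ℕ) (hq : q.Prime) (hqβ : q ∉ Cfsg.beta M)
    (L : Subgroup ↥(commutator ↥M)) (hL : (Nat.card L).Coprime q) :
    L ≤ Cfsg.pPrimeCore q ↥(commutator ↥M) := by
  have : Fact q.Prime := ⟨hq⟩
  by_cases hqd : q ∣ Nat.card ↥M
  · exact (narrow_data hG M hM h36 q hqd hqβ).2.2 L hL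
  · have htop : (⊤ : Subgroup ↥(commutator ↥M)) ≤ Cfsg.pPrimeCore q ↥(commutator ↥M) := by
      apply Cfsg.Agent.Lib.Helper18.le_pPrimeCore_h18 inferInstance
      rw [Subgroup.card_top]
      apply Nat.Coprime.symm
      rw [Nat.Prime.coprime_iff_not_dvd hq]
      intro hd
      exact hqd (hd.trans (Subgroup.card_subgroup_dvd_card _))
    exact le_top.trans htop

/-- Sylow `p`-subgroups of `M` for `p ∈ β(M)` lie in `O_{β(M)}(M)` -/
theorem sylow_le_betaCore (hG : Cfsg.IsMinSimpleOddOrder G) (M : Subgroup G) (hM : IsCoatom M)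
    (h36 : Thm36 ↥M) (p : ℕ) [hp : Fact p.Prime] (hpβ : p ∈ Cfsg.beta M) (P : Sylow p ↥M) :
    (P : Subgroup ↥M) ≤ Cfsg.piCore (Cfsg.beta M) ↥M := by
  apply sylow_le_piCore' (Cfsg.beta M) (core_absorbs hG M hM h36) p hpβ P
  exact sylow_le_commutator hG M hM p (alpha_sub_sigma hG M hM p hpβ.1) P

/-- the image in `G` of `O_{q'}(M')` -/
theorem exists_core_image (hG : Cfsg.IsMinSimpleOddOrder G) (M : Subgroup G) (hM : IsCoatom M)
    (h36 : Thm36 ↥M) (q : ℕ) (hq : q.Prime) (hqβ : q ∉ Cfsg.beta M) :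
    ∃ N : Subgroup G, ⁅M, M⁆ ≤ Subgroup.normalizer (N : Set G) ∧ (Nat.card N).Coprime q ∧
      ∀ L : Subgroup G, L ≤ ⁅M, M⁆ → (Nat.card L).Coprime q → L ≤ N := by
  obtain ⟨φ, hφ⟩ : ∃ φ : ↥(commutator ↥M) →* G, φ = M.subtype.comp (commutator ↥M).subtype :=
    ⟨_, rfl⟩
  have hφi : Function.Injective φ := by
    rw [hφ]
    exact (Subgroup.subtype_injective _).comp (Subgroup.subtype_injective _)
  have hφr : φ.range = ⁅M, M⁆ := by
    rw [hφ, MonoidHom.range_comp, Subgroup.range_subtype, Subgroup.map_subtype_commutator]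
  have hn : (Cfsg.pPrimeCore q ↥(commutator ↥M)).Normal := inferInstance
  refine ⟨(Cfsg.pPrimeCore q ↥(commutator ↥M)).map φ, ?_, ?_, ?_⟩
  · rw [Subgroup.le_normalizer_iff]
    intro k hk n hn'
    rw [← hφr] at hk
    obtain ⟨k', rfl⟩ := hk
    obtain ⟨n', hn'', rfl⟩ := hn'
    refine ⟨k' * n' * k'⁻¹, hn.conj_mem n' hn'' k', ?_⟩
    simp
  · rw [Subgroup.card_map_of_injective hφi]
    exact Cfsg.Agent.Lib.Helper18.pPrimeCore_card_coprime_h18 q
  · intro L hL hLc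
    have hLr : L ≤ φ.range := by rw [hφr]; exact hL
    have e : (L.comap φ).map φ = L := Subgroup.map_comap_eq_self hLr
    have hcard : Nat.card (L.comap φ) = Nat.card L := by
      rw [← Subgroup.card_map_of_injective hφi, e]
    have := core_absorbs hG M hM h36 q hq hqβ (L.comap φ) (by rw [hcard]; exact hLc)
    rw [← e]
    exact Subgroup.map_mono this

/-- **B & G, Theorem 10.6/10.7** (given B & G, Theorem 3.6) -/
theorem beta_hall (hG : Cfsg.IsMinSimpleOddOrder G) (M : Subgroup G) (hM : IsCoatom M)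
    (h36 : Thm36 ↥M) :
    Cfsg.IsPiHallOf (Cfsg.beta M) (Cfsg.piCoreOf (Cfsg.beta M) M) M ∧
      Cfsg.IsPiHall (Cfsg.beta M) (Cfsg.piCoreOf (Cfsg.beta M) M) ∧
      (∃ H : Subgroup G, Cfsg.IsPiHallOf {q | q.Prime ∧ q ∉ Cfsg.beta M} H ⁅M, M⁆ ∧
        Group.IsNilpotent H) ∧
      (∃ H : Subgroup G, Cfsg.IsPiHallOf {q | q.Prime ∧ q ∉ Cfsg.beta M} H (Cfsg.sigmaCore M) ∧
        Group.IsNilpotent H) ∧
      ∀ p : ℕ, p.Prime → p ∣ Nat.card M → p ∉ Cfsg.beta M →
        Cfsg.HasNormalPComplement p ↥⁅M, M⁆ ∧ Cfsg.HasNormalPComplement p ↥(Cfsg.sigmaCore M) ∧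
        ∀ q : ℕ, q.Prime → q ∣ (Cfsg.pPrimeCore p ↥M).index → q ≤ p := by
  have hpi := Cfsg.Agent.Lib.Helper11.piCore_piNum (G := ↥M) (Cfsg.beta M)
  have hcardmap : Nat.card (Cfsg.piCoreOf (Cfsg.beta M) M) =
      Nat.card (Cfsg.piCore (Cfsg.beta M) ↥M) := by
    unfold Cfsg.piCoreOf
    exact Subgroup.card_map_of_injective (Subgroup.subtype_injective _)
  have hleM : Cfsg.piCoreOf (Cfsg.beta M) M ≤ M := piCoreOf_le _ _
  have hrel : (Cfsg.piCoreOf (Cfsg.beta M) M).relIndex M =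
      (Cfsg.piCore (Cfsg.beta M) ↥M).index := by
    unfold Cfsg.piCoreOf Subgroup.relIndex
    congr 1
    ext x
    simp [Subgroup.mem_subgroupOf]
  have hidx : ∀ p : ℕ, p.Prime → p ∈ Cfsg.beta M →
      ¬ p ∣ (Cfsg.piCore (Cfsg.beta M) ↥M).index := by
    intro p hp hpβ hd
    have : Fact p.Prime := ⟨hp⟩
    obtain ⟨P⟩ : Nonempty (Sylow p ↥M) := inferInstance
    have hle := sylow_le_betaCore hG M hM h36 p hpβ P
    exact P.not_dvd_index (hd.trans (Subgroup.index_dvd_of_le hle))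
  have hprimes : ∀ p : ℕ, p.Prime → p ∣ Nat.card (Cfsg.piCoreOf (Cfsg.beta M) M) →
      p ∈ Cfsg.beta M := by
    intro p hp hd
    rw [hcardmap] at hd
    exact hpi p hp hd
  have hH1 : Cfsg.IsPiHallOf (Cfsg.beta M) (Cfsg.piCoreOf (Cfsg.beta M) M) M := by
    refine ⟨hleM, hprimes, ?_⟩
    intro p hp hpβ
    rw [hrel]
    exact hidx p hp hpβ
  have hder : (commutator ↥M).map M.subtype = ⁅M, M⁆ := Subgroup.map_subtype_commutator M
  have hσder : Cfsg.sigmaCore M ≤ ⁅M, M⁆ := by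
    rw [← hder]
    unfold Cfsg.sigmaCore
    exact Subgroup.map_mono (sigmaCore_le_commutator hG M hM)
  have hderM : ⁅M, M⁆ ≤ M := by
    rw [← hder]
    exact Subgroup.map_subtype_le _
  have hβder : Cfsg.piCoreOf (Cfsg.beta M) M ≤ ⁅M, M⁆ := by
    rw [← hder]
    unfold Cfsg.piCoreOf
    apply Subgroup.map_mono
    apply piCore_le_commutator
    intro r hr hrβ
    have : Fact r.Prime := ⟨hr⟩
    obtain ⟨P⟩ : Nonempty (Sylow r ↥M) := inferInstance
    exact ⟨P, sylow_le_betaCore hG M hM h36 r hrβ P,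
      sylow_le_commutator hG M hM r (alpha_sub_sigma hG M hM r hrβ.1) P⟩
  have hβσ : Cfsg.piCoreOf (Cfsg.beta M) M ≤ Cfsg.sigmaCore M := by
    unfold Cfsg.piCoreOf Cfsg.sigmaCore
    apply Subgroup.map_mono
    apply Cfsg.Agent.Lib.Helper11.le_piCore inferInstance
    intro r hr hrd
    exact alpha_sub_sigma hG M hM r (hpi r hr hrd).1
  have hMB : M ≤ Subgroup.normalizer ((Cfsg.piCoreOf (Cfsg.beta M) M : Subgroup G) : Set G) :=
    le_normalizer_piCoreOf _ _
  have hσM : Cfsg.sigmaCore M ≤ M := by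
    unfold Cfsg.sigmaCore
    exact Subgroup.map_subtype_le _
  have hBidx : ∀ K : Subgroup G, Cfsg.piCoreOf (Cfsg.beta M) M ≤ K → K ≤ M →
      ∀ p : ℕ, p.Prime → p ∈ Cfsg.beta M → ¬ p ∣ (Cfsg.piCoreOf (Cfsg.beta M) M).relIndex K := by
    intro K hBK hKM p hp hpβ hd
    apply hH1.2.2 p hp hpβ
    rw [← Subgroup.relIndex_mul_relIndex _ K M hBK hKM]
    exact Dvd.dvd.mul_right hd _
  refine ⟨hH1, ⟨hprimes, ?_⟩, ?_, ?_, ?_⟩
  · intro p hp hpβ hd
    have : Fact p.Prime := ⟨hp⟩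
    rw [← Subgroup.relIndex_mul_index hleM, hrel] at hd
    rcases (Nat.Prime.dvd_mul hp).mp hd with h | h
    · exact hidx p hp hpβ h
    · obtain ⟨P⟩ : Nonempty (Sylow p ↥M) := inferInstance
      obtain ⟨hgood, -⟩ := good_of_alpha hG M hM p hpβ.1 P
      have h1 := hgood.2.2.not_dvd
      rw [Subgroup.relIndex_top_right] at h1
      exact h1 (h.trans (Subgroup.index_dvd_of_le hgood.1.le))
  · exact exists_nilpotent_hall ⁅M, M⁆ (Cfsg.beta M) (Cfsg.piCoreOf (Cfsg.beta M) M) hβder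
      (hderM.trans hMB) hprimes (hBidx _ hβder hderM)
      (fun q hq hqβ => exists_core_image hG M hM h36 q hq hqβ)
  · apply exists_nilpotent_hall (Cfsg.sigmaCore M) (Cfsg.beta M) (Cfsg.piCoreOf (Cfsg.beta M) M) hβσ
      (hσM.trans hMB) hprimes (hBidx _ hβσ hσM)
    intro q hq hqβ
    obtain ⟨N, h1, h2, h3⟩ := exists_core_image hG M hM h36 q hq hqβ
    exact ⟨N, hσder.trans h1, h2, fun L hL hLc => h3 L (hL.trans hσder) hLc⟩
  · intro p hp hpM hpβ
    have : Fact p.Prime := ⟨hp⟩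
    obtain ⟨h1, h2, -⟩ := narrow_data hG M hM h36 p hpM hpβ
    have h3 : Cfsg.HasNormalPComplement p ↥⁅M, M⁆ := by
      have := Cfsg.Agent.Lib.Helper1.TNPC.npc_map (p := p) M.subtype (commutator ↥M) h2
      rwa [hder] at this
    exact ⟨h3, Cfsg.Agent.Lib.Helper1.TNPC.npc_of_le hσder h3, h1⟩

end InG

end Cfsg.Agent.Lib.Helper11.BenderT
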