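import Mathlib
import Cfsg.Prelude.Def_OddOrderLocal
import Cfsg.Agent.Lib.Helper11.BenderQ
import Cfsg.Agent.Lib.Helper11.MaxSubD
import Cfsg.Agent.Lib.Helper1.CoprimeGen
import Cfsg.Agent.Lib.Helper18.SylowIn

set_option autoImplicit false
open scoped commutatorElement

/-! `p`-group lemmas for B & G section 11 -/

namespace Cfsg.Agent.Lib.Helper11.ExcC

open Cfsg Cfsg.Agent.Lib

variable {G : Type*} [Group G]

/-- an element of order dividing `p` centralizing a maximal elementary abelian subgroup lies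
in it -/
theorem mem_of_max (p : ℕ) (A : Subgroup G) (hAe : Cfsg.IsElementaryAbelian p A)
    (hmax : ∀ B : Subgroup G, Cfsg.IsElementaryAbelian p B → A ≤ B → B = A)
    (x : G) (hx : ∀ a ∈ A, x * a = a * x) (hxp : x ^ p = 1) : x ∈ A := by
  obtain ⟨T, hTe, hAT, hxT⟩ := Cfsg.Agent.Lib.Helper11.BenderQ.exists_elemAb_ge p A hAe x hx hxp
  rw [← hmax T hTe hAT]
  exact hxT

/-- a `p`-element normalizing a subgroup of order `p` centralizes it -/
theorem centralizes_of_normalizes [Finite G] (p : ℕ) [hp : Fact p.Prime] (X : Subgroup G)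
    (hX : Nat.card X = p) (y : G) (k : ℕ) (hy : y ^ p ^ k = 1)
    (hyX : y ∈ Subgroup.normalizer (X : Set G)) : y ∈ Subgroup.centralizer (X : Set G) := by
  haveI : IsCyclic X := isCyclic_of_prime_card hX
  obtain ⟨φ, hφ⟩ : ∃ φ : MulAut ↥X, φ = X.normalizerMonoidHom ⟨y, hyX⟩ := ⟨_, rfl⟩
  have hφv : ∀ x : ↥X, ((φ x : ↥X) : G) = y * x * y⁻¹ := by
    intro x
    rw [hφ]
    rfl
  have h1 : φ ^ p ^ k = 1 := by
    rw [hφ, ← map_pow]
    have : (⟨y, hyX⟩ : ↥(Subgroup.normalizer (X : Set G))) ^ p ^ k = 1 := Subtype.ext hy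
    rw [this, map_one]
  have h2 : orderOf φ ∣ p ^ k := orderOf_dvd_of_pow_eq_one h1
  have h3 : orderOf φ ∣ p - 1 := by
    have := orderOf_dvd_natCard φ
    rwa [IsCyclic.card_mulAut, hX, Nat.totient_prime hp.out] at this
  have h4 : orderOf φ = 1 := by
    have hcop : (p ^ k).Coprime (p - 1) := by
      apply Nat.Coprime.pow_left
      rw [Nat.Prime.coprime_iff_not_dvd hp.out]
      intro hd
      have := Nat.le_of_dvd (Nat.sub_pos_of_lt hp.out.one_lt) hd
      have := hp.out.one_lt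
      omega
    exact Nat.eq_one_of_dvd_coprimes hcop h2 h3
  have h5 : φ = 1 := orderOf_eq_one_iff.mp h4
  rw [Subgroup.mem_centralizer_iff]
  intro x hx
  have := hφv ⟨x, hx⟩
  rw [h5] at this
  have h6 : x = y * x * y⁻¹ := this
  calc x * y = y * x * y⁻¹ * y := by rw [← h6]
    _ = y * x := by group

/-- if `A` is not central in the `p`-group `P`, some element of `P` normalizes `A` without
centralizing it -/
theorem exists_normalizing [Finite G] (p : ℕ) [hp : Fact p.Prime] (P A : Subgroup G)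
    (hP : IsPGroup p P) (hAP : A ≤ P) (hAe : Cfsg.IsElementaryAbelian p A)
    (hmax : ∀ B : Subgroup G, Cfsg.IsElementaryAbelian p B → A ≤ B → B = A)
    (hne : ¬ P ≤ Subgroup.centralizer (A : Set G)) :
    ∃ y ∈ P, y ∈ Subgroup.normalizer (A : Set G) ∧ y ∉ Subgroup.centralizer (A : Set G) := by
  have hlt : P ⊓ Subgroup.centralizer (A : Set G) < P := by
    apply lt_of_le_of_ne inf_le_left
    intro h
    apply hne
    rw [← h]
    exact inf_le_right
  obtain ⟨y, hyP, hyC, hyN⟩ := Cfsg.Agent.Lib.Helper11.MaxSubD.pgroup_grow p _ P hP hlt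
  refine ⟨y, hyP, ?_, fun h => hyC ⟨hyP, h⟩⟩
  apply Helper18.mem_normalizer_of_conjSub_le
  rintro _ ⟨a, ha, rfl⟩
  have haC : a ∈ P ⊓ Subgroup.centralizer (A : Set G) := by
    refine ⟨hAP ha, ?_⟩
    show a ∈ Subgroup.centralizer (A : Set G)
    rw [Subgroup.mem_centralizer_iff]
    intro b hb
    have := hAe.1.is_comm.comm ⟨b, hb⟩ ⟨a, ha⟩
    exact congrArg Subtype.val this
  have h1 : y * a * y⁻¹ ∈ P ⊓ Subgroup.centralizer (A : Set G) :=
    (Subgroup.mem_normalizer_iff.mp hyN a).mp haC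
  show y * a * y⁻¹ ∈ A
  apply mem_of_max p A hAe hmax
  · intro b hb
    exact (Subgroup.mem_centralizer_iff.mp h1.2 b hb).symm
  · rw [conj_pow, hAe.2 a ha]
    group

/-- `Ω₁(Z(P))` -/
def omegaZ (p : ℕ) (P : Subgroup G) : Subgroup G where
  carrier := {z | z ∈ P ∧ (∀ x ∈ P, x * z = z * x) ∧ z ^ p = 1}
  one_mem' := ⟨P.one_mem, fun x _ => by rw [mul_one, one_mul], one_pow p⟩
  mul_mem' := by
    rintro a b ⟨ha, hac, hap⟩ ⟨hb, hbc, hbp⟩
    refine ⟨P.mul_mem ha hb, ?_, ?_⟩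
    · intro x hx
      rw [← mul_assoc, hac x hx, mul_assoc, hbc x hx, mul_assoc]
    · have hc : Commute a b := hbc a ha
      rw [hc.mul_pow, hap, hbp, one_mul]
  inv_mem' := by
    rintro a ⟨ha, hac, hap⟩
    refine ⟨P.inv_mem ha, ?_, ?_⟩
    · intro x hx
      have := hac x hx
      calc x * a⁻¹ = a⁻¹ * (a * x) * a⁻¹ := by group
        _ = a⁻¹ * (x * a) * a⁻¹ := by rw [this]
        _ = a⁻¹ * x := by group
    · rw [inv_pow, hap, inv_one]

theorem mem_omegaZ {p : ℕ} {P : Subgroup G} {z : G} :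
    z ∈ omegaZ p P ↔ z ∈ P ∧ (∀ x ∈ P, x * z = z * x) ∧ z ^ p = 1 := Iff.rfl

theorem omegaZ_le (p : ℕ) (P : Subgroup G) : omegaZ p P ≤ P := fun _ hz => hz.1

theorem omegaZ_le_of_max (p : ℕ) (P A : Subgroup G) (hAP : A ≤ P)
    (hAe : Cfsg.IsElementaryAbelian p A)
    (hmax : ∀ B : Subgroup G, Cfsg.IsElementaryAbelian p B → A ≤ B → B = A) :
    omegaZ p P ≤ A := by
  intro z hz
  apply mem_of_max p A hAe hmax z _ hz.2.2
  intro a ha
  exact (hz.2.1 a (hAP ha)).symm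

theorem le_centralizer_omegaZ (p : ℕ) (P : Subgroup G) :
    P ≤ Subgroup.centralizer ((omegaZ p P : Subgroup G) : Set G) := by
  intro x hx
  rw [Subgroup.mem_centralizer_iff]
  intro z hz
  exact (hz.2.1 x hx).symm

theorem conjSub_omegaZ [Finite G] (p : ℕ) (P : Subgroup G) (g : G)
    (hg : g ∈ Subgroup.normalizer (P : Set G)) :
    Helper18.conjSub g (omegaZ p P) = omegaZ p P := by
  apply Helper18.conjSub_eq_of_le
  rintro _ ⟨z, hz, rfl⟩
  show g * z * g⁻¹ ∈ omegaZ p P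
  refine ⟨(Subgroup.mem_normalizer_iff.mp hg z).mp hz.1, ?_, ?_⟩
  · intro x hx
    have hx' : g⁻¹ * x * g ∈ P := by
      have := (Subgroup.mem_normalizer_iff.mp (Subgroup.inv_mem _ hg) x).mp hx
      simpa using this
    have := hz.2.1 _ hx'
    calc x * (g * z * g⁻¹) = g * (g⁻¹ * x * g * z) * g⁻¹ := by group
      _ = g * (z * (g⁻¹ * x * g)) * g⁻¹ := by rw [this]
      _ = g * z * g⁻¹ * x := by group
  · rw [conj_pow, hz.2.2]
    group

theorem omegaZ_ne_bot [Finite G] (p : ℕ) [hp : Fact p.Prime] (P : Subgroup G)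
    (hP : IsPGroup p P) (hP1 : P ≠ ⊥) : omegaZ p P ≠ ⊥ := by
  have hnt : Nontrivial P := (Subgroup.nontrivial_iff_ne_bot _).mpr hP1
  have hcn := hP.center_nontrivial
  have hc1 : Subgroup.center P ≠ ⊥ := (Subgroup.nontrivial_iff_ne_bot _).mp hcn
  have hdvd : p ∣ Nat.card (Subgroup.center P) := by
    obtain ⟨k, hk⟩ := IsPGroup.iff_card.mp (hP.to_subgroup (Subgroup.center P))
    rw [hk]
    apply dvd_pow_self
    rintro rfl
    rw [pow_zero] at hk
    exact hc1 (Subgroup.card_eq_one.mp hk)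
  obtain ⟨w, hw⟩ := exists_prime_orderOf_dvd_card' p hdvd
  intro hbot
  have hmem : ((w : P) : G) ∈ omegaZ p P := by
    refine ⟨(w : P).2, ?_, ?_⟩
    · intro x hx
      have := Subgroup.mem_center_iff.mp w.2 ⟨x, hx⟩
      exact congrArg Subtype.val this
    · have h1 : w ^ p = 1 := by rw [← hw]; exact pow_orderOf_eq_one w
      have := congrArg Subtype.val (congrArg Subtype.val h1)
      simpa using this
  rw [hbot, Subgroup.mem_bot] at hmem
  have hw1 : w = 1 := by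
    apply Subtype.ext
    apply Subtype.ext
    exact hmem
  rw [hw1, orderOf_one] at hw
  exact hp.out.one_lt.ne hw

/-- the transvection computation: a `p`-element `y` normalizing but not centralizing the
elementary abelian group `A` of order `p ^ 2` and centralizing `Z₀ < A` moves `a₀ ∉ Z₀` to all
of `a₀ Z₀` -/
theorem conj_pow_mul [Finite G] (p : ℕ) [hp : Fact p.Prime] (A Z₀ : Subgroup G)
    (hAe : Cfsg.IsElementaryAbelian p A) (hAc : Nat.card A = p ^ 2) (hZA : Z₀ ≤ A)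
    (hZc : Nat.card Z₀ = p) (y : G) (k : ℕ) (hy : y ^ p ^ k = 1)
    (hyA : y ∈ Subgroup.normalizer (A : Set G)) (hyZ : y ∈ Subgroup.centralizer (Z₀ : Set G))
    (hyn : y ∉ Subgroup.centralizer (A : Set G)) (a₀ : G) (ha₀ : a₀ ∈ A) (ha₀Z : a₀ ∉ Z₀) :
    ∀ w ∈ Z₀, ∃ i : ℕ, y ^ i * a₀ * (y ^ i)⁻¹ = a₀ * w := by
  have hcomm : ∀ a ∈ A, ∀ b ∈ A, a * b = b * a := by
    intro a ha b hb
    have := hAe.1.is_comm.comm ⟨a, ha⟩ ⟨b, hb⟩
    exact congrArg Subtype.val this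
  have hyconj : ∀ a ∈ A, y * a * y⁻¹ ∈ A := fun a ha =>
    (Subgroup.mem_normalizer_iff.mp hyA a).mp ha
  obtain ⟨C, hC⟩ : ∃ C : Subgroup G, C = A ⊓ Subgroup.centralizer ({y} : Set G) := ⟨_, rfl⟩
  have hCmem : ∀ a, a ∈ C ↔ a ∈ A ∧ y * a = a * y := by
    intro a
    rw [hC, Subgroup.mem_inf, Subgroup.mem_centralizer_iff]
    constructor
    · rintro ⟨h1, h2⟩
      exact ⟨h1, h2 y rfl⟩
    · rintro ⟨h1, h2⟩
      refine ⟨h1, ?_⟩
      intro h hh
      rw [Set.mem_singleton_iff] at hh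
      rw [hh]
      exact h2
  have hCA : C ≤ A := hC ▸ inf_le_left
  have hZC : Z₀ ≤ C := by
    intro z hz
    rw [hCmem]
    exact ⟨hZA hz, (Subgroup.mem_centralizer_iff.mp hyZ z hz).symm⟩
  have hCne : C ≠ A := by
    intro h
    apply hyn
    rw [Subgroup.mem_centralizer_iff]
    intro a ha
    have : a ∈ C := h ▸ ha
    exact (((hCmem a).mp this).2).symm
  have hCZ : C = Z₀ := by
    symm
    apply Subgroup.eq_of_le_of_card_ge hZC
    have hd : Nat.card C ∣ p ^ 2 := hAc ▸ Subgroup.card_dvd_of_le hCA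
    obtain ⟨j, hj, hjc⟩ := (Nat.dvd_prime_pow hp.out).mp hd
    have hj2 : j ≠ 2 := by
      rintro rfl
      apply hCne
      exact Subgroup.eq_of_le_of_card_ge hCA (by rw [hjc, hAc])
    have hj1 : j ≤ 1 := by omega
    rw [hjc, hZc]
    calc p ^ j ≤ p ^ 1 := Nat.pow_le_pow_right hp.out.pos hj1
      _ = p := pow_one p
  -- the commutator homomorphism
  let δ : ↥A →* ↥A :=
    { toFun := fun w => ⟨y * w * y⁻¹ * (w : G)⁻¹, A.mul_mem (hyconj w w.2) (A.inv_mem w.2)⟩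
      map_one' := by
        apply Subtype.ext
        simp
      map_mul' := by
        intro a b
        apply Subtype.ext
        show y * ((a : G) * b) * y⁻¹ * ((a : G) * b)⁻¹ =
          (y * a * y⁻¹ * (a : G)⁻¹) * (y * b * y⁻¹ * (b : G)⁻¹)
        have hc : y * b * y⁻¹ * (b : G)⁻¹ ∈ A := A.mul_mem (hyconj b b.2) (A.inv_mem b.2)
        have h1 := hcomm _ hc _ (A.inv_mem a.2)
        calc y * ((a : G) * b) * y⁻¹ * ((a : G) * b)⁻¹
            = y * a * y⁻¹ * ((y * b * y⁻¹ * (b : G)⁻¹) * (a : G)⁻¹) := by group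
          _ = y * a * y⁻¹ * ((a : G)⁻¹ * (y * b * y⁻¹ * (b : G)⁻¹)) := by rw [h1]
          _ = (y * a * y⁻¹ * (a : G)⁻¹) * (y * b * y⁻¹ * (b : G)⁻¹) := by group }
  have hδv : ∀ w : ↥A, ((δ w : ↥A) : G) = y * w * y⁻¹ * (w : G)⁻¹ := fun _ => rfl
  have hker : δ.ker = C.subgroupOf A := by
    ext w
    rw [MonoidHom.mem_ker, Subgroup.mem_subgroupOf, hCmem]
    constructor
    · intro h
      have := congrArg Subtype.val h
      rw [hδv] at this
      refine ⟨w.2, ?_⟩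
      have h2 : y * (w : G) * y⁻¹ * (w : G)⁻¹ = 1 := this
      calc y * (w : G) = y * w * y⁻¹ * (w : G)⁻¹ * (w * y) := by group
        _ = w * y := by rw [h2, one_mul]
    · rintro ⟨-, h⟩
      apply Subtype.ext
      rw [hδv, h]
      simp
  have hkc : Nat.card δ.ker = p := by
    rw [hker, Nat.card_congr (Subgroup.subgroupOfEquivOfLe hCA).toEquiv, hCZ, hZc]
  have hrc : Nat.card δ.range = p := by
    have h1 := Subgroup.card_mul_index δ.ker
    rw [Subgroup.index_ker, hkc, hAc, pow_two] at h1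
    exact Nat.eq_of_mul_eq_mul_left hp.out.pos h1
  obtain ⟨U, hU⟩ : ∃ U : Subgroup G, U = δ.range.map A.subtype := ⟨_, rfl⟩
  have hUc : Nat.card U = p := by
    rw [hU, Subgroup.card_map_of_injective A.subtype_injective, hrc]
  have hUmem : ∀ w (hw : w ∈ A), y * w * y⁻¹ * w⁻¹ ∈ U := by
    intro w hw
    rw [hU]
    exact ⟨δ ⟨w, hw⟩, ⟨⟨w, hw⟩, rfl⟩, rfl⟩
  have hyU : y ∈ Subgroup.normalizer (U : Set G) := by
    apply Helper18.mem_normalizer_of_conjSub_le
    rintro _ ⟨v, hv, rfl⟩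
    rw [hU] at hv
    obtain ⟨v', ⟨w, rfl⟩, rfl⟩ := hv
    show y * ((δ w : ↥A) : G) * y⁻¹ ∈ U
    rw [hδv]
    have := hUmem _ (hyconj w w.2)
    have e : y * (y * w * y⁻¹ * (w : G)⁻¹) * y⁻¹ = y * (y * w * y⁻¹) * y⁻¹ * (y * w * y⁻¹)⁻¹ := by
      group
    rw [e]
    exact this
  have hyUc := centralizes_of_normalizes p U hUc y k hy hyU
  obtain ⟨u, hu⟩ : ∃ u : G, u = y * a₀ * y⁻¹ * a₀⁻¹ := ⟨_, rfl⟩
  have huU : u ∈ U := hu ▸ hUmem a₀ ha₀
  have huA : u ∈ A := hu ▸ A.mul_mem (hyconj a₀ ha₀) (A.inv_mem ha₀)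
  have huy : u * y = y * u := Subgroup.mem_centralizer_iff.mp hyUc u huU
  have huZ : u ∈ Z₀ := by
    rw [← hCZ, hCmem]
    exact ⟨huA, huy.symm⟩
  have hu1 : u ≠ 1 := by
    intro h1
    apply ha₀Z
    rw [← hCZ, hCmem]
    refine ⟨ha₀, ?_⟩
    rw [h1] at hu
    calc y * a₀ = y * a₀ * y⁻¹ * a₀⁻¹ * (a₀ * y) := by group
      _ = a₀ * y := by rw [← hu, one_mul]
  have hconj : ∀ i : ℕ, y ^ i * a₀ * (y ^ i)⁻¹ = a₀ * u ^ i := by
    intro i
    induction i with
    | zero => simp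
    | succ i ih =>
      have h1 : y * u ^ i * y⁻¹ = u ^ i := by
        have hc : Commute y u := huy.symm
        have := (hc.pow_right i).eq
        calc y * u ^ i * y⁻¹ = u ^ i * y * y⁻¹ := by rw [this]
          _ = u ^ i := by group
      have h2 : y * a₀ * y⁻¹ = u * a₀ := by
        rw [hu]; group
      have h3 : u * a₀ = a₀ * u := hcomm u huA a₀ ha₀
      calc y ^ (i + 1) * a₀ * (y ^ (i + 1))⁻¹
          = y * (y ^ i * a₀ * (y ^ i)⁻¹) * y⁻¹ := by rw [pow_succ']; group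
        _ = y * (a₀ * u ^ i) * y⁻¹ := by rw [ih]
        _ = (y * a₀ * y⁻¹) * (y * u ^ i * y⁻¹) := by group
        _ = u * a₀ * u ^ i := by rw [h1, h2]
        _ = a₀ * u * u ^ i := by rw [h3]
        _ = a₀ * u ^ (i + 1) := by rw [pow_succ', mul_assoc]
  intro w hw
  have hu1' : (⟨u, huZ⟩ : ↥Z₀) ≠ 1 := fun h => hu1 (congrArg Subtype.val h)
  have hmem := mem_powers_of_prime_card (g' := (⟨w, hw⟩ : ↥Z₀)) hZc hu1'
  obtain ⟨i, hi⟩ := hmem
  refine ⟨i, ?_⟩
  rw [hconj i]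
  have := congrArg Subtype.val hi
  simp only [Subgroup.coe_pow] at this
  rw [this]

end Cfsg.Agent.Lib.Helper11.ExcC
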