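import Mathlib
import Cfsg.Prelude.Def_OddOrderLocal
import Cfsg.Agent.Lib.Helper11.ExcB
import Cfsg.Agent.Lib.Helper11.ExcC

set_option autoImplicit false
open scoped commutatorElement

/-! B & G section 11, part D: `A` is central in a Sylow `p`-subgroup of `M` -/

namespace Cfsg.Agent.Lib.Helper11.ExcD

open Cfsg Cfsg.Agent.Lib Cfsg.Agent.Lib.Helper18
open Cfsg.Agent.Lib.Helper11.BenderM Cfsg.Agent.Lib.Helper11.BenderN
  Cfsg.Agent.Lib.Helper11.BenderO Cfsg.Agent.Lib.Helper11.BenderE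
  Cfsg.Agent.Lib.Helper11.BenderF Cfsg.Agent.Lib.Helper11.BenderL
  Cfsg.Agent.Lib.Helper11.BenderS Cfsg.Agent.Lib.Helper11.MaxSubB
  Cfsg.Agent.Lib.Helper11.MaxSubD Cfsg.Agent.Lib.Helper11.BenderQ
  Cfsg.Agent.Lib.Helper11.BenderI Cfsg.Agent.Lib.Helper11.BenderP
  Cfsg.Agent.Lib.Helper1.BG12 Cfsg.Agent.Lib.Helper11.ExcA Cfsg.Agent.Lib.Helper11.ExcB
  Cfsg.Agent.Lib.Helper11.ExcC

universe u

variable {G : Type u} [Group G] [Finite G]

omit [Finite G] in
theorem centralizer_singleton_le_zpowers (t : G) :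
    Subgroup.centralizer ({t} : Set G) ≤
      Subgroup.centralizer ((Subgroup.zpowers t : Subgroup G) : Set G) := by
  intro c hc
  rw [Subgroup.mem_centralizer_iff]
  intro y hy
  obtain ⟨i, rfl⟩ := Subgroup.mem_zpowers_iff.mp hy
  have hcx : Commute t c := Subgroup.mem_centralizer_iff.mp hc t rfl
  exact (hcx.zpow_left i).eq

omit [Finite G] in
theorem conjSub_zpowers (g c : G) :
    Helper18.conjSub g (Subgroup.zpowers c) = Subgroup.zpowers (g * c * g⁻¹) := by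
  unfold Helper18.conjSub
  rw [MonoidHom.map_zpowers]
  rfl

omit [Finite G] in
theorem conjSub_centralizer_le (g : G) (Z : Subgroup G) :
    Helper18.conjSub g (Subgroup.centralizer (Z : Set G)) ≤
      Subgroup.centralizer ((Helper18.conjSub g Z : Subgroup G) : Set G) := by
  rintro _ ⟨c, hc, rfl⟩
  rw [Subgroup.mem_centralizer_iff]
  rintro _ ⟨z, hz, rfl⟩
  have := Subgroup.mem_centralizer_iff.mp hc z hz
  show g * z * g⁻¹ * (g * c * g⁻¹) = g * c * g⁻¹ * (g * z * g⁻¹)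
  calc g * z * g⁻¹ * (g * c * g⁻¹) = g * (z * c) * g⁻¹ := by group
    _ = g * (c * z) * g⁻¹ := by rw [this]
    _ = g * c * g⁻¹ * (g * z * g⁻¹) := by group

/-- the exceptional hypothesis is invariant under conjugation by `M` -/
theorem exc_conj {M : Subgroup G} {p : ℕ} {A₀ A : Subgroup G} (h : Exc M p A₀ A) (m : G)
    (hm : m ∈ M) : Exc M p (Helper18.conjSub m A₀) (Helper18.conjSub m A) := by
  obtain ⟨hM, hpσ, hAM, hAe, hAc, hA₀A, hA₀c, hN⟩ := h
  refine ⟨hM, hpσ, Helper18.conjSub_le_of_mem hAM hm, Cfsg.Agent.Lib.Helper5.elemAb_map _ hAe, ?_,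
    Helper18.conjSub_mono hA₀A, ?_, ?_⟩
  · rw [Helper18.card_conjSub, hAc]
  · rw [Helper18.card_conjSub, hA₀c]
  · rw [normalizer_conjSub]
    exact Helper18.conjSub_le_of_mem hN hm

theorem elemAb_comm {p : ℕ} {A : Subgroup G} (hAe : Cfsg.IsElementaryAbelian p A) :
    ∀ a ∈ A, ∀ b ∈ A, a * b = b * a := by
  intro a ha b hb
  have := hAe.1.is_comm.comm ⟨a, ha⟩ ⟨b, hb⟩
  exact congrArg Subtype.val this

/-- a `g`-invariant subgroup of `A` centralized by the Sylow subgroup `P` acts without fixed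
points on `M_σ` -/
theorem fpf_of_invariant (hG : Cfsg.IsMinSimpleOddOrder G)
    (h36 : ∀ M : Subgroup G, IsCoatom M → Thm36 ↥M) {M : Subgroup G} {p : ℕ}
    {A₀ A : Subgroup G} (hp : p.Prime) (h : Exc M p A₀ A) (P : Subgroup G)
    (hP : IsSylowIn p P M) (hAP : A ≤ P) (g : G)
    (hgP : g ∈ Subgroup.normalizer (P : Set G)) (hgM : g ∉ M) (Z : Subgroup G) (hZA : Z ≤ A)
    (hZ1 : Z ≠ ⊥) (hZP : P ≤ Subgroup.centralizer (Z : Set G))
    (hgZ : Helper18.conjSub g Z = Z) :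
    Cfsg.sigmaCore M ⊓ Subgroup.centralizer (Z : Set G) = ⊥ := by
  haveI : Fact p.Prime := ⟨hp⟩
  have hsimple : IsSimpleGroup G := hG.2.1
  have hM : IsCoatom M := h.1
  have hpσ : p ∉ Cfsg.sigma M := h.2.1
  have hAM : A ≤ M := h.2.2.1
  have hPp : IsPGroup p P := hP.isPGroup
  have hPM : P ≤ M := hP.le
  have hPg : Helper18.conjSub g P = P := Helper18.conjSub_eq_of_mem_normalizer hgP
  by_contra hne
  obtain ⟨D, hD⟩ : ∃ D : Subgroup G, D = Cfsg.sigmaCore M ⊓ Subgroup.centralizer (Z : Set G) :=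
    ⟨_, rfl⟩
  rw [← hD] at hne
  have hDσ : D ≤ Cfsg.sigmaCore M := hD ▸ inf_le_left
  have hDZ : D ≤ Subgroup.centralizer (Z : Set G) := hD ▸ inf_le_right
  obtain ⟨q, hq, hqD⟩ := exists_prime_dvd_of_ne_bot hne
  haveI : Fact q.Prime := ⟨hq⟩
  have hqσ : q ∈ Cfsg.sigma M :=
    sigmaCore_primes hG M hM q hq (hqD.trans (Subgroup.card_dvd_of_le hDσ))
  have hPD : P ≤ Subgroup.normalizer (D : Set G) := by
    rw [hD]
    exact le_normalizer_inf_of_le (hPM.trans (le_normalizer_sigmaCore M))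
      (hZP.trans Subgroup.le_normalizer)
  have hcop : (Nat.card P).Coprime (Nat.card D) :=
    Nat.Coprime.coprime_dvd_right (Subgroup.card_dvd_of_le hDσ)
      (pgroup_coprime_sigmaCore hG M hM p hpσ P hPp)
  obtain ⟨Y, hYD, hYq, hPY, hYc⟩ := Cfsg.Agent.Lib.Helper5.exists_invariant_sylow_sub P D hPD hcop
    (pgroup_solvable p P hPp) q
  have hY1 : Y ≠ ⊥ := by
    rintro rfl
    rw [Subgroup.card_bot] at hYc
    have h0 : (Nat.card D).factorization q = 0 := by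
      by_contra h0
      have : 1 < q ^ (Nat.card D).factorization q := Nat.one_lt_pow h0 hq.one_lt
      omega
    rcases (Nat.factorization_eq_zero_iff _ _).mp h0 with h1 | h1 | h1
    · exact h1 hq
    · exact h1 hqD
    · exact Nat.card_pos.ne' h1
  have hYM : Y ≤ M := (hYD.trans hDσ).trans (sigmaCore_le M)
  obtain ⟨Q₁, hQ₁, hPQ₁, hYQ₁, -⟩ := exists_inv_sylow_sigma hG M hM p hpσ P hPM hPp q hqσ Y hYM
    hYq hPY
  have hQ₂ : IsSylowIn q (Helper18.conjSub g Q₁) (Helper18.conjSub g M) := hQ₁.conjSub g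
  have hAQ₂ : A ≤ Subgroup.normalizer ((Helper18.conjSub g Q₁ : Subgroup G) : Set G) := by
    rw [normalizer_conjSub]
    refine hAP.trans ?_
    rw [← hPg]
    exact Helper18.conjSub_mono hPQ₁
  have hZtop : Z ≠ ⊤ := by
    rintro rfl
    exact hM.1 (top_le_iff.mp (hZA.trans hAM))
  have hH : Subgroup.normalizer (Z : Set G) ≠ ⊤ := normalizer_ne_top_of_simple hZ1 hZtop
  have hAH : A ≤ Subgroup.normalizer (Z : Set G) := by
    refine le_trans ?_ (Subgroup.centralizer_le_normalizer _)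
    intro a ha
    rw [Subgroup.mem_centralizer_iff]
    intro z hz
    exact elemAb_comm h.2.2.2.1 z (hZA hz) a ha
  apply eleven_one hG h36 hp h g hgM q hqσ Q₁ (Helper18.conjSub g Q₁) hQ₁ hQ₂
    (hAP.trans hPQ₁) hAQ₂ _ hH hAH
  · intro hb
    apply hY1
    rw [eq_bot_iff, ← hb]
    exact le_inf ((hYD.trans hDZ).trans (Subgroup.centralizer_le_normalizer _)) hYQ₁
  · intro hb
    have h1 : Helper18.conjSub g Y ≤ Subgroup.normalizer (Z : Set G) ⊓ Helper18.conjSub g Q₁ := by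
      refine le_inf ?_ (Helper18.conjSub_mono hYQ₁)
      refine le_trans ?_ (Subgroup.centralizer_le_normalizer _)
      have h2 := (Helper18.conjSub_mono (g := g) (hYD.trans hDZ)).trans
        (conjSub_centralizer_le g Z)
      rwa [hgZ] at h2
    rw [hb, le_bot_iff] at h1
    apply hY1
    rw [← Subgroup.card_eq_one] at h1 ⊢
    rwa [Helper18.card_conjSub] at h1

theorem card_of_lt_sq (p : ℕ) [hp : Fact p.Prime] (A Z : Subgroup G) (hAc : Nat.card A = p ^ 2)
    (hZA : Z ≤ A) (hZ1 : Z ≠ ⊥) (hZne : Z ≠ A) : Nat.card Z = p := by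
  have hd : Nat.card Z ∣ p ^ 2 := hAc ▸ Subgroup.card_dvd_of_le hZA
  obtain ⟨j, hj, hjc⟩ := (Nat.dvd_prime_pow hp.out).mp hd
  have hj2 : j ≠ 2 := by
    rintro rfl
    apply hZne
    exact Subgroup.eq_of_le_of_card_ge hZA (by rw [hjc, hAc])
  have hj0 : j ≠ 0 := by
    rintro rfl
    rw [pow_zero] at hjc
    exact hZ1 (Subgroup.card_eq_one.mp hjc)
  have hj1 : j = 1 := by omega
  rw [hjc, hj1, pow_one]

/-- **first half of B & G 11.5**: `A` is central in every Sylow `p`-subgroup of `M` containing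
it -/
theorem le_center (hG : Cfsg.IsMinSimpleOddOrder G)
    (h36 : ∀ M : Subgroup G, IsCoatom M → Thm36 ↥M) {M : Subgroup G} {p : ℕ}
    {A₀ A : Subgroup G} (hp : p.Prime) (h : Exc M p A₀ A) (P : Subgroup G)
    (hP : IsSylowIn p P M) (hAP : A ≤ P) (g : G)
    (hgP : g ∈ Subgroup.normalizer (P : Set G)) (hgM : g ∉ M) :
    P ≤ Subgroup.centralizer (A : Set G) := by
  haveI : Fact p.Prime := ⟨hp⟩
  have hM : IsCoatom M := h.1
  have hpσ : p ∉ Cfsg.sigma M := h.2.1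
  have hAM : A ≤ M := h.2.2.1
  have hAe : Cfsg.IsElementaryAbelian p A := h.2.2.2.1
  have hAc : Nat.card A = p ^ 2 := h.2.2.2.2.1
  have hA₀A : A₀ ≤ A := h.2.2.2.2.2.1
  have hA₀c : Nat.card A₀ = p := h.2.2.2.2.2.2.1
  have hN : Subgroup.normalizer (A₀ : Set G) ≤ M := h.2.2.2.2.2.2.2
  have hPp : IsPGroup p P := hP.isPGroup
  have hPM : P ≤ M := hP.le
  have hPg : Helper18.conjSub g P = P := Helper18.conjSub_eq_of_mem_normalizer hgP
  have hmax := exc_max hG hp h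
  have hcomm := elemAb_comm hAe
  have hAg : A ≤ Helper18.conjSub g M := by
    refine hAP.trans ?_
    rw [← hPg]
    exact Helper18.conjSub_mono hPM
  by_contra hne
  obtain ⟨y, hyP, hyA, hyn⟩ := exists_normalizing p P A hPp hAP hAe hmax hne
  obtain ⟨Z₀, hZ₀⟩ : ∃ Z₀ : Subgroup G, Z₀ = omegaZ p P := ⟨_, rfl⟩
  have hZA : Z₀ ≤ A := hZ₀ ▸ omegaZ_le_of_max p P A hAP hAe hmax
  have hP1 : P ≠ ⊥ := by
    rintro rfl
    exact exc_ne_bot hp h (le_bot_iff.mp hAP)
  have hZ1 : Z₀ ≠ ⊥ := hZ₀ ▸ omegaZ_ne_bot p P hPp hP1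
  have hZP : P ≤ Subgroup.centralizer (Z₀ : Set G) := hZ₀ ▸ le_centralizer_omegaZ p P
  have hZne : Z₀ ≠ A := by
    intro he
    apply hne
    rw [← he]
    exact hZP
  have hZc : Nat.card Z₀ = p := card_of_lt_sq p A Z₀ hAc hZA hZ1 hZne
  have hgZ : Helper18.conjSub g Z₀ = Z₀ := hZ₀ ▸ conjSub_omegaZ p P g hgP
  obtain ⟨k, hk⟩ := hPp ⟨y, hyP⟩
  have hy : y ^ p ^ k = 1 := by
    have := congrArg Subtype.val hk
    simpa using this
  have hyZ : y ∈ Subgroup.centralizer (Z₀ : Set G) := hZP hyP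
  obtain ⟨a₀, ha₀, ha₀1, ha₀p, ha₀gen⟩ :=
    Cfsg.Agent.Lib.Helper20.HHExt.exists_generator A₀ hp hA₀c
  have hA₀z : A₀ = Subgroup.zpowers a₀ := by
    apply le_antisymm
    · intro x hx
      obtain ⟨n, rfl⟩ := ha₀gen x hx
      exact Subgroup.pow_mem _ (Subgroup.mem_zpowers a₀) n
    · rw [Subgroup.zpowers_le]
      exact ha₀
  have ha₀Z : a₀ ∉ Z₀ := by
    intro hmem
    have hle : A₀ ≤ Z₀ := by
      rw [hA₀z, Subgroup.zpowers_le]
      exact hmem
    have he : A₀ = Z₀ := Subgroup.eq_of_le_of_card_ge hle (by rw [hZc, hA₀c])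
    apply hgM
    apply hN
    rw [he]
    exact Helper18.mem_normalizer_of_conjSub_le hgZ.le
  have hLA := conj_pow_mul p A Z₀ hAe hAc hZA hZc y k hy hyA hyZ hyn a₀ (hA₀A ha₀) ha₀Z
  obtain ⟨z, hz, hz1, hzp, hzgen⟩ := Cfsg.Agent.Lib.Helper20.HHExt.exists_generator Z₀ hp hZc
  -- all the subgroups `⟨a₀ w⟩` are exceptional
  have hExc : ∀ w ∈ Z₀, Exc M p (Subgroup.zpowers (a₀ * w)) A := by
    intro w hw
    obtain ⟨i, hi⟩ := hLA w hw
    have hmP : y ^ i ∈ P := P.pow_mem hyP i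
    have hmA : y ^ i ∈ Subgroup.normalizer (A : Set G) := Subgroup.pow_mem _ hyA i
    have h1 := exc_conj h (y ^ i) (hPM hmP)
    rw [Helper18.conjSub_eq_of_mem_normalizer hmA, hA₀z, conjSub_zpowers, hi] at h1
    exact h1
  -- the conjugate of `A`
  have hV1 := sigmaCore_ne_bot hG M hM
  apply hV1
  rw [eq_bot_iff]
  have hgAP : Helper18.conjSub g A ≤ P := by
    rw [← hPg]
    exact Helper18.conjSub_mono hAP
  have hx' : g * z * g⁻¹ ∈ Helper18.conjSub g A := Helper18.conj_mem_conjSub (hZA hz)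
  have hy' : g * a₀ * g⁻¹ ∈ Helper18.conjSub g A := Helper18.conj_mem_conjSub (hA₀A ha₀)
  have hxy : Commute (g * a₀ * g⁻¹) (g * z * g⁻¹) := by
    have := hcomm a₀ (hA₀A ha₀) z (hZA hz)
    show g * a₀ * g⁻¹ * (g * z * g⁻¹) = g * z * g⁻¹ * (g * a₀ * g⁻¹)
    calc g * a₀ * g⁻¹ * (g * z * g⁻¹) = g * (a₀ * z) * g⁻¹ := by group
      _ = g * (z * a₀) * g⁻¹ := by rw [this]
      _ = g * z * g⁻¹ * (g * a₀ * g⁻¹) := by group
  have hBp : IsPGroup p (Helper18.conjSub g A) := hPp.to_le hgAP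
  have hcopB := pgroup_coprime_sigmaCore hG M hM p hpσ _ hBp
  have hpV : p.Coprime (Nat.card (Cfsg.sigmaCore M)) := by
    rw [Nat.Prime.coprime_iff_not_dvd hp]
    intro hd
    exact hpσ (sigmaCore_primes hG M hM p hp hd)
  have hVs : Group.IsSolvable (Cfsg.sigmaCore M) := by
    haveI := coatom_solvable hG M hM
    exact Group.isSolvable_of_isSolvable_injective (f := Subgroup.inclusion (sigmaCore_le M))
      (Subgroup.inclusion_injective _)
  refine Cfsg.Agent.Lib.Helper1.core_solvable (Helper18.conjSub g A) p (g * z * g⁻¹)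
    (g * a₀ * g⁻¹) hx' hy' hxy (by rw [conj_pow, hzp]; group) (by rw [conj_pow, ha₀p]; group)
    ⊥ _ (Cfsg.sigmaCore M) rfl hVs ((hgAP.trans hPM).trans (le_normalizer_sigmaCore M)) hcopB hpV
    ?_ ?_
  · intro j
    have hw : z ^ j.val ∈ Z₀ := Z₀.pow_mem hz _
    have h1 := eleven_two_b hG h36 hp (hExc _ hw) g hgM hAg
    rw [conjSub_zpowers] at h1
    rw [← h1]
    apply inf_le_inf_left
    have e : g * a₀ * g⁻¹ * (g * z * g⁻¹) ^ j.val = g * (a₀ * z ^ j.val) * g⁻¹ := by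
      rw [conj_pow]; group
    rw [e]
    exact centralizer_singleton_le_zpowers _
  · have h1 := fpf_of_invariant hG h36 hp h P hP hAP g hgP hgM Z₀ hZA hZ1 hZP hgZ
    rw [← h1]
    apply inf_le_inf_left
    have hmem : g * z * g⁻¹ ∈ Z₀ := by
      rw [← hgZ]
      exact Helper18.conj_mem_conjSub hz
    have hne1 : g * z * g⁻¹ ≠ 1 := by
      intro h1
      apply hz1
      have : z = g⁻¹ * (g * z * g⁻¹) * g := by group
      rw [this, h1]; group
    have hzp' : Subgroup.zpowers (g * z * g⁻¹) = Z₀ := by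
      apply Subgroup.eq_of_le_of_card_ge
      · rw [Subgroup.zpowers_le]; exact hmem
      · rw [hZc, Nat.card_zpowers]
        have : orderOf (g * z * g⁻¹) = p := by
          apply orderOf_eq_prime _ hne1
          rw [conj_pow, hzp]; group
        rw [this]
    rw [← hzp']
    exact centralizer_singleton_le_zpowers _

end Cfsg.Agent.Lib.Helper11.ExcD
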