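import Mathlib
import Cfsg.Prelude.Def_OddOrderLocal
import Cfsg.Agent.Lib.Helper1.Frat
import Cfsg.Agent.Lib.Helper24.MetaNPC
import Cfsg.Agent.Lib.Helper20.HHExtK
import Cfsg.Agent.Lib.Helper18.SylowIn
import Cfsg.Agent.S0032

set_option autoImplicit false
open scoped commutatorElement

/-! commutators with a fixed-point-free element of prime order centralize -/

namespace Cfsg.Agent.Lib.Helper11.ExcE

open Cfsg Cfsg.Agent.Lib

section Quot

variable {R : Type*} [Group R]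

/-- the automorphism induced on the quotient by a characteristic subgroup -/
noncomputable def charQuot (N : Subgroup R) [hN : N.Characteristic] :
    MulAut R →* MulAut (R ⧸ N) where
  toFun α := QuotientGroup.congr N N α (Subgroup.characteristic_iff_map_eq.mp hN α)
  map_one' := by
    ext q
    induction q using QuotientGroup.induction_on with
    | H v => rfl
  map_mul' := by
    intro a b
    ext q
    induction q using QuotientGroup.induction_on with
    | H v => rfl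

theorem charQuot_mk (N : Subgroup R) [N.Characteristic] (α : MulAut R) (v : R) :
    charQuot N α (QuotientGroup.mk v) = QuotientGroup.mk (α v) := rfl

end Quot

variable {G : Type*} [Group G] [Finite G]

/-- the Frattini quotient of a `p`-group is commutative -/
theorem frattini_quot_comm {R : Type*} [Group R] [Finite R] (p : ℕ) [Fact p.Prime]
    (hR : IsPGroup p R) (a b : R ⧸ frattini R) : a * b = b * a := by
  induction a using QuotientGroup.induction_on with
  | H a =>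
    induction b using QuotientGroup.induction_on with
    | H b =>
      rw [← QuotientGroup.mk_mul, ← QuotientGroup.mk_mul, QuotientGroup.eq]
      apply Cfsg.Agent.Lib.Helper1.pgroup_commutator_le_frattini hR
      have e : (a * b)⁻¹ * (b * a) = ⁅b⁻¹, a⁻¹⁆ := by
        rw [commutatorElement_def]; group
      rw [e]
      exact Subgroup.commutator_mem_commutator (Subgroup.mem_top _) (Subgroup.mem_top _)

theorem frattini_quot_pow {R : Type*} [Group R] [Finite R] (p : ℕ) [Fact p.Prime]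
    (hR : IsPGroup p R) (a : R ⧸ frattini R) : a ^ p = 1 := by
  induction a using QuotientGroup.induction_on with
  | H a =>
    rw [← QuotientGroup.mk_pow, QuotientGroup.eq_one_iff]
    exact Cfsg.Agent.Lib.Helper1.pgroup_pow_mem_frattini hR a

/-- for `x` of prime order `r` acting without fixed points on the `ℓ`-group `L` and a `q`-group
`Q` normalized by `x`, the commutators `[x, g]`, `g ∈ Q`, centralize `L` -/
theorem comm_centralizes_pgroup (ℓ q r : ℕ) (hℓ : ℓ.Prime) (hq : q.Prime) (hr : r.Prime)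
    (hℓq : ℓ ≠ q) (hℓr : ℓ ≠ r) (hqr : q ≠ r) (hq2 : q ≠ 2)
    (L : Subgroup G) (hL : IsPGroup ℓ L) (x : G) (hxL : x ∈ Subgroup.normalizer (L : Set G))
    (hxr : x ^ r = 1) (hfpf : ∀ n ∈ L, x * n = n * x → n = 1)
    (Q : Subgroup G) (hQ : IsPGroup q Q) (hQL : Q ≤ Subgroup.normalizer (L : Set G))
    (hxQ : x ∈ Subgroup.normalizer (Q : Set G)) :
    ∀ g ∈ Q, x * g * x⁻¹ * g⁻¹ ∈ Subgroup.centralizer (L : Set G) := by
  classical
  haveI : Fact ℓ.Prime := ⟨hℓ⟩
  letI : CommGroup (↥L ⧸ frattini ↥L) :=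
    { (inferInstance : Group (↥L ⧸ frattini ↥L)) with
      mul_comm := frattini_quot_comm ℓ hL }
  obtain ⟨ψ, hψ⟩ : ∃ ψ : ↥(Subgroup.normalizer (L : Set G)) →* MulAut (↥L ⧸ frattini ↥L),
      ψ = (charQuot (frattini ↥L)).comp L.normalizerMonoidHom := ⟨_, rfl⟩
  have hψv : ∀ (g : ↥(Subgroup.normalizer (L : Set G))) (n : ↥L),
      ψ g (QuotientGroup.mk n) = QuotientGroup.mk (L.normalizerMonoidHom g n) := by
    intro g n
    rw [hψ]
    rfl
  have hnv : ∀ (g : ↥(Subgroup.normalizer (L : Set G))) (n : ↥L),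
      ((L.normalizerMonoidHom g n : ↥L) : G) = (g : G) * n * (g : G)⁻¹ := fun _ _ => rfl
  obtain ⟨xb, hxb⟩ : ∃ xb : MulAut (↥L ⧸ frattini ↥L), xb = ψ ⟨x, hxL⟩ := ⟨_, rfl⟩
  have hxbr : xb ^ r = 1 := by
    rw [hxb, ← map_pow]
    have : (⟨x, hxL⟩ : ↥(Subgroup.normalizer (L : Set G))) ^ r = 1 := Subtype.ext hxr
    rw [this, map_one]
  -- `xb` has no fixed points
  have hxbf : ∀ v : ↥L ⧸ frattini ↥L, xb v = v → v = 1 := by
    intro v hv
    induction v using QuotientGroup.induction_on with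
    | H n =>
      rw [hxb, hψv] at hv
      rw [QuotientGroup.eq_one_iff]
      obtain ⟨φ, hφ⟩ : ∃ φ : ↥L ≃* ↥L, φ = L.normalizerMonoidHom ⟨x, hxL⟩ := ⟨_, rfl⟩
      have hff : MonoidHom.FixedPointFree (φ : ↥L →* ↥L) := by
        intro y hy
        apply Subtype.ext
        apply hfpf y.1 y.2
        have h1 : φ y = y := hy
        have := congrArg Subtype.val h1
        rw [hφ, hnv] at this
        calc x * (y : G) = x * y * x⁻¹ * x := by group
          _ = y * x := by rw [this]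
      apply Cfsg.Agent.S0032.result φ hff (frattini ↥L)
      · intro m hm
        have := Subgroup.characteristic_iff_map_le.mp (inferInstance : (frattini ↥L).Characteristic) φ
        exact this ⟨m, hm, rfl⟩
      · rw [hφ]
        exact QuotientGroup.eq.mp hv
  have hQN : ∀ g ∈ Q, g ∈ Subgroup.normalizer (L : Set G) := fun g hg => hQL hg
  obtain ⟨Qb, hQb⟩ : ∃ Qb : Subgroup (MulAut (↥L ⧸ frattini ↥L)),
      Qb = (Q.subgroupOf (Subgroup.normalizer (L : Set G))).map ψ := ⟨_, rfl⟩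
  have hQbmem : ∀ a, a ∈ Qb ↔ ∃ g, ∃ hg : g ∈ Q, ψ ⟨g, hQN g hg⟩ = a := by
    intro a
    rw [hQb]
    constructor
    · rintro ⟨g, hg, rfl⟩
      exact ⟨g.1, hg, rfl⟩
    · rintro ⟨g, hg, rfl⟩
      exact ⟨⟨g, hQN g hg⟩, hg, rfl⟩
  have hQbq : IsPGroup q Qb := by
    rw [hQb]
    exact (hQ.comap_subtype).map ψ
  have hconjQ : ∀ g ∈ Q, x * g * x⁻¹ ∈ Q := fun g hg =>
    (Subgroup.mem_normalizer_iff.mp hxQ g).mp hg
  have hconjQ' : ∀ g ∈ Q, x⁻¹ * g * x ∈ Q := by
    intro g hg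
    have := (Subgroup.mem_normalizer_iff.mp (Subgroup.inv_mem _ hxQ) g).mp hg
    simpa using this
  have hxbQ : xb ∈ Subgroup.normalizer (Qb : Set (MulAut (↥L ⧸ frattini ↥L))) := by
    rw [Subgroup.mem_normalizer_iff]
    intro a
    constructor
    · intro ha
      obtain ⟨g, hg, rfl⟩ := (hQbmem a).mp ha
      rw [hQbmem]
      refine ⟨x * g * x⁻¹, hconjQ g hg, ?_⟩
      rw [hxb, ← map_inv, ← map_mul, ← map_mul]
      rfl
    · intro ha
      obtain ⟨g, hg, hge⟩ := (hQbmem _).mp ha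
      rw [hQbmem]
      refine ⟨x⁻¹ * g * x, hconjQ' g hg, ?_⟩
      have e : (⟨x⁻¹ * g * x, hQN _ (hconjQ' g hg)⟩ : ↥(Subgroup.normalizer (L : Set G))) =
          (⟨x, hxL⟩ : ↥(Subgroup.normalizer (L : Set G)))⁻¹ * ⟨g, hQN g hg⟩ * ⟨x, hxL⟩ := rfl
      rw [e, map_mul, map_mul, map_inv, ← hxb, hge]
      group
  -- `xb` commutes with the image of `Q`
  have hcommb : ∀ g (hg : g ∈ Q), xb * ψ ⟨g, hQN g hg⟩ = ψ ⟨g, hQN g hg⟩ * xb := by
    intro g hg
    by_contra hne
    obtain ⟨v, hv1, hvx⟩ := Cfsg.Agent.Lib.Helper20.HHExt.exists_fixed_aut hℓ hq hr hℓq hℓr hqr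
      (V := ↥L ⧸ frattini ↥L) (frattini_quot_pow ℓ hL)
      (MonoidHom.id (MulAut (↥L ⧸ frattini ↥L))) xb Qb hxbr hQbq hxbQ
      ⟨ψ ⟨g, hQN g hg⟩, (hQbmem _).mpr ⟨g, hg, rfl⟩, hne⟩
      (fun d _ hd => hd)
      (fun h _ => absurd h hq2)
    exact hv1 (hxbf v hvx)
  intro g hg
  have hcQ : x * g * x⁻¹ * g⁻¹ ∈ Q := Q.mul_mem (hconjQ g hg) (Q.inv_mem hg)
  have hcN : x * g * x⁻¹ * g⁻¹ ∈ Subgroup.normalizer (L : Set G) := hQN _ hcQ
  have hψc : ψ ⟨x * g * x⁻¹ * g⁻¹, hcN⟩ = 1 := by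
    have e : (⟨x * g * x⁻¹ * g⁻¹, hcN⟩ : ↥(Subgroup.normalizer (L : Set G))) =
        (⟨x, hxL⟩ : ↥(Subgroup.normalizer (L : Set G))) * ⟨g, hQN g hg⟩ *
          (⟨x, hxL⟩ : ↥(Subgroup.normalizer (L : Set G)))⁻¹ *
          (⟨g, hQN g hg⟩ : ↥(Subgroup.normalizer (L : Set G)))⁻¹ := rfl
    rw [e, map_mul, map_mul, map_mul, map_inv, map_inv, ← hxb, hcommb g hg]
    group
  apply Cfsg.Agent.Lib.Helper24.mn_burnside L hL _ hcN
  · obtain ⟨k, hk⟩ := hQ ⟨_, hcQ⟩
    have hk' : (x * g * x⁻¹ * g⁻¹) ^ q ^ k = 1 := by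
      have := congrArg Subtype.val hk
      simpa using this
    have h1 : orderOf (x * g * x⁻¹ * g⁻¹) ∣ q ^ k := orderOf_dvd_of_pow_eq_one hk'
    apply Nat.Coprime.coprime_dvd_left h1
    apply Nat.Coprime.pow_left
    exact (Nat.coprime_primes hq hℓ).mpr (Ne.symm hℓq)
  · intro n hn
    have h1 := congrArg (fun β : MulAut (↥L ⧸ frattini ↥L) => β (QuotientGroup.mk ⟨n, hn⟩)) hψc
    simp only [MulAut.one_apply] at h1
    rw [hψv] at h1
    have h2 := QuotientGroup.eq.mp h1.symm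
    refine ⟨_, h2, ?_⟩
    simp only [Subgroup.coe_subtype, Subgroup.coe_mul, Subgroup.coe_inv]
    rw [hnv]

end Cfsg.Agent.Lib.Helper11.ExcE
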