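import Mathlib
import Cfsg.Prelude.Def_OddOrderLocal
import Cfsg.Agent.Lib.Helper11.ExcD
import Cfsg.Agent.Lib.Helper11.ExcE
import Cfsg.Agent.Lib.Helper21.NarrowF
import Cfsg.Agent.Lib.Helper21.ZGA
import Cfsg.Agent.Lib.Helper1.Fitting
import Cfsg.Agent.S1450

set_option autoImplicit false
open scoped commutatorElement

/-! B & G section 11, part F: tools for Theorem 11.7 -/

namespace Cfsg.Agent.Lib.Helper11.ExcF

open Cfsg Cfsg.Agent.Lib Cfsg.Agent.Lib.Helper18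
open Cfsg.Agent.Lib.Helper11.BenderM Cfsg.Agent.Lib.Helper11.BenderN
  Cfsg.Agent.Lib.Helper11.BenderO Cfsg.Agent.Lib.Helper11.BenderE
  Cfsg.Agent.Lib.Helper11.BenderF Cfsg.Agent.Lib.Helper11.BenderL
  Cfsg.Agent.Lib.Helper11.BenderS Cfsg.Agent.Lib.Helper11.MaxSubB
  Cfsg.Agent.Lib.Helper11.MaxSubD Cfsg.Agent.Lib.Helper11.BenderQ
  Cfsg.Agent.Lib.Helper11.BenderI Cfsg.Agent.Lib.Helper11.BenderP
  Cfsg.Agent.Lib.Helper1.BG12 Cfsg.Agent.Lib.Helper11.ExcA Cfsg.Agent.Lib.Helper11.ExcB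
  Cfsg.Agent.Lib.Helper11.ExcC Cfsg.Agent.Lib.Helper11.ExcD Cfsg.Agent.Lib.Helper11.ExcE

universe u

variable {G : Type u} [Group G] [Finite G]

/-- the nilpotent version of `comm_centralizes_pgroup` -/
theorem comm_centralizes_nilpotent (q r : ℕ) (hq : q.Prime) (hr : r.Prime) (hqr : q ≠ r)
    (hq2 : q ≠ 2) (V : Subgroup G) (hVn : Group.IsNilpotent V) (x : G)
    (hxV : x ∈ Subgroup.normalizer (V : Set G)) (hxr : x ^ r = 1)
    (hfpf : ∀ n ∈ V, x * n = n * x → n = 1) (hqV : ¬ q ∣ Nat.card V) (hrV : ¬ r ∣ Nat.card V)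
    (Q : Subgroup G) (hQ : IsPGroup q Q) (hQV : Q ≤ Subgroup.normalizer (V : Set G))
    (hxQ : x ∈ Subgroup.normalizer (Q : Set G)) :
    ∀ g ∈ Q, x * g * x⁻¹ * g⁻¹ ∈ Subgroup.centralizer (V : Set G) := by
  intro g hg
  obtain ⟨c, hc⟩ : ∃ c : G, c = x * g * x⁻¹ * g⁻¹ := ⟨_, rfl⟩
  rw [← hc]
  have hle : V ≤ Subgroup.centralizer ({c} : Set G) := by
    apply Cfsg.Agent.Lib.Helper1.sylow_le_imp_le
    intro ℓ hℓ
    obtain ⟨P⟩ : Nonempty (Sylow ℓ ↥V) := inferInstance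
    refine ⟨P, ?_⟩
    obtain ⟨L, hL⟩ : ∃ L : Subgroup G, L = (P : Subgroup ↥V).map V.subtype := ⟨_, rfl⟩
    rw [← hL]
    have hSyl : IsSylowIn ℓ L V := hL ▸ isSylowIn_of_sylow P
    have hNL : Subgroup.normalizer (V : Set G) ≤ Subgroup.normalizer (L : Set G) :=
      sylow_normal_of_nilpotent V L ℓ hVn hSyl _ le_rfl
    by_cases hd : ℓ ∣ Nat.card V
    · have hℓq : ℓ ≠ q := by
        rintro rfl
        exact hqV hd
      have hℓr : ℓ ≠ r := by
        rintro rfl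
        exact hrV hd
      have h1 := comm_centralizes_pgroup ℓ q r hℓ.out hq hr hℓq hℓr hqr hq2 L hSyl.isPGroup x
        (hNL hxV) hxr (fun n hn => hfpf n (hSyl.le hn)) Q hQ (hQV.trans hNL) hxQ g hg
      rw [← hc] at h1
      intro n hn
      rw [Subgroup.mem_centralizer_iff]
      intro h hh
      rw [Set.mem_singleton_iff] at hh
      rw [hh]
      exact (Subgroup.mem_centralizer_iff.mp h1 n hn).symm
    · have hL1 : L = ⊥ := by
        rw [← Subgroup.card_eq_one]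
        obtain ⟨k, hk⟩ := IsPGroup.iff_card.mp hSyl.isPGroup
        rw [hk]
        have hk0 : k = 0 := by
          by_contra hk0
          apply hd
          have h1 : Nat.card L ∣ Nat.card V := Subgroup.card_dvd_of_le hSyl.le
          rw [hk] at h1
          exact (dvd_pow_self ℓ hk0).trans h1
        rw [hk0, pow_zero]
      rw [hL1]
      exact bot_le
  rw [Subgroup.mem_centralizer_iff]
  intro n hn
  exact (Subgroup.mem_centralizer_iff.mp (hle hn) c rfl).symm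

/-- **B & G, Lemma 10.9 (c)** -/
theorem ten_nine_c (hG : Cfsg.IsMinSimpleOddOrder G)
    (h36 : ∀ M : Subgroup G, IsCoatom M → Thm36 ↥M) (p : ℕ) [hp : Fact p.Prime]
    (A : Subgroup G) (hAe : Cfsg.IsElementaryAbelian p A) (hAc : Nat.card A = p ^ 2)
    (hmax : ∀ B : Subgroup G, Cfsg.IsElementaryAbelian p B → A ≤ B → B = A)
    (q : ℕ) (hq : q.Prime) (hqp : q ≠ p)
    (hqC : q ∣ Nat.card (Subgroup.centralizer (A : Set G)))
    (Q : Subgroup G) (hQ : Q ∈ Cfsg.maxInvSubgroups ⊤ A {q}) (hQn : Cfsg.IsNarrow q ↥Q) :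
    A ≤ Subgroup.centralizer (Q : Set G) := by
  haveI : Fact q.Prime := ⟨hq⟩
  have hsimple : IsSimpleGroup G := hG.2.1
  by_cases hQ1 : Q = ⊥
  · subst hQ1
    intro a _
    rw [Subgroup.mem_centralizer_iff]
    intro h hh
    rw [SetLike.mem_coe, Subgroup.mem_bot] at hh
    rw [hh, one_mul, mul_one]
  obtain ⟨P, hAP, hPN, hPN'⟩ := Cfsg.Agent.Lib.Helper1.BG10.ten_nine hG h36 p A hAe hAc hmax q hq
    hqp hqC Q hQ
  have hQq : IsPGroup q Q := ((Cfsg.Agent.Lib.Helper11.mem_maxInvSubgroups_iff A q Q).mp hQ).1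
  have hQtop : Q ≠ ⊤ := pgroup_ne_top hG q Q hQq
  have hNtop : Subgroup.normalizer (Q : Set G) ≠ ⊤ := normalizer_ne_top_of_simple hQ1 hQtop
  haveI hNs : Group.IsSolvable ↥(Subgroup.normalizer (Q : Set G)) := hG.2.2.2 _ hNtop
  have hNodd : Odd (Nat.card ↥(Subgroup.normalizer (Q : Set G))) := coatom_odd hG _
  have hq2 : q ≠ 2 := by
    rintro rfl
    have h1 : 2 ∣ Nat.card G := hqC.trans (Subgroup.card_subgroup_dvd_card _)
    exact (Nat.not_even_iff_odd.mpr hG.1) (even_iff_two_dvd.mpr h1)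
  intro a ha
  have haN : a ∈ Subgroup.normalizer (Q : Set G) := hPN (hAP ha)
  have hamem : (⟨a, haN⟩ : ↥(Subgroup.normalizer (Q : Set G))) ∈
      commutator ↥(Subgroup.normalizer (Q : Set G)) := by
    have h1 := hPN' (hAP ha)
    rw [← Subgroup.map_subtype_commutator] at h1
    obtain ⟨y, hy, hya⟩ := h1
    have : y = ⟨a, haN⟩ := Subtype.ext hya
    rwa [← this]
  have hap : (⟨a, haN⟩ : ↥(Subgroup.normalizer (Q : Set G))) ^ p = 1 :=
    Subtype.ext (hAe.2 a ha)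
  have hqp' : ¬ q ∣ p := fun hd => hqp ((Nat.prime_dvd_prime_iff_eq hq hp.out).mp hd)
  have h1 := Cfsg.Agent.Lib.Helper21.Narrow.narrow_der_trivial q hq2 hQq hQn hNodd
    Q.normalizerMonoidHom ⟨a, haN⟩ hamem p hap hqp'
  rw [Subgroup.mem_centralizer_iff]
  intro x hx
  have h2 := congrArg (fun β : MulAut ↥Q => ((β ⟨x, hx⟩ : ↥Q) : G)) h1
  simp only [MulAut.one_apply] at h2
  have h3 : a * x * a⁻¹ = x := h2
  calc x * a = a * x * a⁻¹ * a := by rw [h3]
    _ = a * x := by group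

section Core

/-- `O_{p'}(M)` as a subgroup of `G` -/
def pPrimeCoreOf (p : ℕ) (M : Subgroup G) : Subgroup G := (Cfsg.pPrimeCore p ↥M).map M.subtype

omit [Finite G] in
theorem pPrimeCoreOf_le (p : ℕ) (M : Subgroup G) : pPrimeCoreOf p M ≤ M :=
  Subgroup.map_subtype_le _

theorem le_normalizer_pPrimeCoreOf (p : ℕ) (M : Subgroup G) :
    M ≤ Subgroup.normalizer ((pPrimeCoreOf p M : Subgroup G) : Set G) := by
  haveI := Cfsg.Agent.Lib.Helper1.pPrimeCore_normal (G := ↥M) p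
  exact map_normal_le_normalizer M _

theorem pPrimeCoreOf_coprime (p : ℕ) (M : Subgroup G) :
    (Nat.card (pPrimeCoreOf p M)).Coprime p := by
  unfold pPrimeCoreOf
  rw [Subgroup.card_map_of_injective M.subtype_injective]
  exact Cfsg.Agent.Lib.Helper1.pPrimeCore_card_coprime p

theorem le_pPrimeCoreOf (p : ℕ) (M N : Subgroup G) (hNM : N ≤ M)
    (hMN : M ≤ Subgroup.normalizer (N : Set G)) (hcop : (Nat.card N).Coprime p) :
    N ≤ pPrimeCoreOf p M := by
  have hn : (N.subgroupOf M).Normal := Subgroup.normal_subgroupOf_of_le_normalizer hMN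
  have hc : (Nat.card (N.subgroupOf M)).Coprime p := by
    rwa [Nat.card_congr (Subgroup.subgroupOfEquivOfLe hNM).toEquiv]
  have h1 := Cfsg.Agent.Lib.Helper1.le_pPrimeCore hn hc
  intro x hx
  exact ⟨⟨x, hNM hx⟩, h1 (Subgroup.mem_subgroupOf.mpr hx), rfl⟩

theorem pPrimeCoreOf_relIndex (p : ℕ) (M : Subgroup G) :
    (pPrimeCoreOf p M).relIndex M = (Cfsg.pPrimeCore p ↥M).index := by
  unfold pPrimeCoreOf Subgroup.relIndex
  congr 1
  ext x
  rw [Subgroup.mem_subgroupOf]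
  constructor
  · rintro ⟨y, hy, hyx⟩
    have : y = x := Subtype.ext hyx
    rwa [← this]
  · intro hx
    exact ⟨x, hx, rfl⟩

omit [Finite G] in
/-- elements of `K ⊔ P` are products when `P` normalizes `K` -/
theorem exists_mul_of_mem_sup (K P : Subgroup G) (hPK : P ≤ Subgroup.normalizer (K : Set G)) :
    ∀ x ∈ K ⊔ P, ∃ k ∈ K, ∃ π ∈ P, x = k * π := by
  intro x hx
  rw [← Subgroup.closure_eq K, ← Subgroup.closure_eq P, ← Subgroup.closure_union] at hx
  induction hx using Subgroup.closure_induction with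
  | mem y hy =>
    rcases hy with hy | hy
    · exact ⟨y, hy, 1, P.one_mem, (mul_one y).symm⟩
    · exact ⟨1, K.one_mem, y, hy, (one_mul y).symm⟩
  | one => exact ⟨1, K.one_mem, 1, P.one_mem, (mul_one 1).symm⟩
  | mul y z _ _ hy hz =>
    obtain ⟨k, hk, π, hπ, rfl⟩ := hy
    obtain ⟨k', hk', π', hπ', rfl⟩ := hz
    refine ⟨k * (π * k' * π⁻¹), K.mul_mem hk ?_, π * π', P.mul_mem hπ hπ', by group⟩
    exact (Subgroup.mem_normalizer_iff.mp (hPK hπ) k').mp hk'
  | inv y _ hy =>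
    obtain ⟨k, hk, π, hπ, rfl⟩ := hy
    refine ⟨π⁻¹ * k⁻¹ * π⁻¹⁻¹, ?_, π⁻¹, P.inv_mem hπ, by group⟩
    exact (Subgroup.mem_normalizer_iff.mp (hPK (P.inv_mem hπ)) k⁻¹).mp (K.inv_mem hk)

theorem sylow_sup_pPrimeCore_normal' {X : Type*} [Group X] [Finite X] (p : ℕ) [Fact p.Prime]
    (P : Sylow p X) (hidx : (Cfsg.pPrimePCore p X).index.Coprime p) :
    ((P : Subgroup X) ⊔ Cfsg.pPrimeCore p X).Normal := by
  have hn := Cfsg.Agent.Lib.Helper1.pPrimeCore_normal (G := X) p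
  let π := QuotientGroup.mk' (Cfsg.pPrimeCore p X)
  have hπ : Function.Surjective π := QuotientGroup.mk'_surjective _
  have hQn : (Cfsg.pCore p (X ⧸ Cfsg.pPrimeCore p X)).Normal :=
    Cfsg.Agent.Lib.Helper1.pCore_normal p
  have h2 : Cfsg.pCore p (X ⧸ Cfsg.pPrimeCore p X) ≤ (P : Subgroup X).map π := by
    have := Cfsg.Agent.Lib.Helper1.pCore_le_sylow p (P.mapSurjective hπ)
    rwa [Sylow.coe_mapSurjective] at this
  have hNn : (Cfsg.pPrimePCore p X).Normal := by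
    unfold Cfsg.pPrimePCore
    infer_instance
  have h3 : (P : Subgroup X).map π ≤ Cfsg.pCore p (X ⧸ Cfsg.pPrimeCore p X) := by
    rw [Subgroup.map_le_iff_le_comap]
    exact Cfsg.Agent.Lib.Helper21.ZG.le_of_index_coprime (Cfsg.pPrimePCore p X) hidx P P.isPGroup'
  have h4 : (P : Subgroup X).map π = Cfsg.pCore p (X ⧸ Cfsg.pPrimeCore p X) := le_antisymm h3 h2
  have h5 : ((P : Subgroup X).map π).Normal := by rw [h4]; exact hQn
  have h6 := h5.comap π
  rwa [Subgroup.comap_map_eq, QuotientGroup.ker_mk'] at h6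

/-- the Frattini factorization `M = O_{p'}(M) N_M(P)` when `M` has `p`-rank at most two -/
theorem frattini_factor (hG : Cfsg.IsMinSimpleOddOrder G) (M : Subgroup G) (hM : IsCoatom M)
    (p : ℕ) [hp : Fact p.Prime] (hpM : p ∣ Nat.card M) (hr : Cfsg.PRankLE p 2 M)
    (P : Subgroup G) (hP : IsSylowIn p P M) :
    ∀ m ∈ M, ∃ k ∈ pPrimeCoreOf p M, ∃ n ∈ M ⊓ Subgroup.normalizer (P : Set G), m = k * n := by
  have hMs : Group.IsSolvable ↥M := coatom_solvable hG M hM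
  have hModd : Odd (Nat.card ↥M) := coatom_odd hG M
  obtain ⟨P₀, hP₀⟩ := hP.exists_sylow
  have hidx := (Cfsg.Agent.S1450.result hModd p hpM hr).2.2.2.2.2
  haveI hnorm := sylow_sup_pPrimeCore_normal' p P₀ hidx
  have hmap : ((P₀ : Subgroup ↥M) ⊔ Cfsg.pPrimeCore p ↥M).map M.subtype =
      P ⊔ pPrimeCoreOf p M := by
    rw [Subgroup.map_sup, hP₀, Subgroup.map_subgroupOf_eq_of_le hP.le]
    rfl
  have hMn : M ≤ Subgroup.normalizer ((P ⊔ pPrimeCoreOf p M : Subgroup G) : Set G) := by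
    rw [← hmap]
    exact map_normal_le_normalizer M _
  have hSyl : IsSylowIn p P (P ⊔ pPrimeCoreOf p M) :=
    hP.of_le le_sup_left (sup_le hP.le (pPrimeCoreOf_le p M))
  intro m hm
  obtain ⟨n, hn, hnm⟩ := hSyl.frattini (hMn hm)
  have hPK : P ≤ Subgroup.normalizer ((pPrimeCoreOf p M : Subgroup G) : Set G) :=
    hP.le.trans (le_normalizer_pPrimeCoreOf p M)
  have hn' : n⁻¹ ∈ pPrimeCoreOf p M ⊔ P := by
    rw [sup_comm]
    exact Subgroup.inv_mem _ hn
  obtain ⟨k, hk, π, hπ, hkπ⟩ := exists_mul_of_mem_sup _ _ hPK _ hn'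
  refine ⟨k, hk, π * (n * m), ⟨?_, ?_⟩, ?_⟩
  · have hnM : n ∈ M := (sup_le hP.le (pPrimeCoreOf_le p M)) hn
    exact M.mul_mem (hP.le hπ) (M.mul_mem hnM hm)
  · exact Subgroup.mul_mem _ (Subgroup.le_normalizer hπ) hnm
  · calc m = n⁻¹ * (n * m) := by group
      _ = k * π * (n * m) := by rw [hkπ]
      _ = k * (π * (n * m)) := by group

end Core

end Cfsg.Agent.Lib.Helper11.ExcF
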