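import Mathlib
import Cfsg.Prelude.Def_OddOrderLocal
import Cfsg.Agent.Lib.Helper11.ExcF
import Cfsg.Agent.Lib.Helper11.BenderR
import Cfsg.Agent.Lib.Helper1.CoprimeAbelian
import Cfsg.Agent.S0026

set_option autoImplicit false
open scoped commutatorElement

/-! B & G section 11, part G: auxiliary lemmas for Theorem 11.7 -/

namespace Cfsg.Agent.Lib.Helper11.ExcG

open Cfsg Cfsg.Agent.Lib Cfsg.Agent.Lib.Helper18
open Cfsg.Agent.Lib.Helper11.BenderM Cfsg.Agent.Lib.Helper11.BenderN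
  Cfsg.Agent.Lib.Helper11.BenderO Cfsg.Agent.Lib.Helper11.BenderE
  Cfsg.Agent.Lib.Helper11.BenderF Cfsg.Agent.Lib.Helper11.BenderL
  Cfsg.Agent.Lib.Helper11.BenderS Cfsg.Agent.Lib.Helper11.MaxSubB
  Cfsg.Agent.Lib.Helper11.MaxSubD Cfsg.Agent.Lib.Helper11.BenderQ
  Cfsg.Agent.Lib.Helper11.BenderI Cfsg.Agent.Lib.Helper11.BenderP
  Cfsg.Agent.Lib.Helper1.BG12 Cfsg.Agent.Lib.Helper11.ExcA Cfsg.Agent.Lib.Helper11.ExcB
  Cfsg.Agent.Lib.Helper11.ExcC Cfsg.Agent.Lib.Helper11.ExcD Cfsg.Agent.Lib.Helper11.ExcE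
  Cfsg.Agent.Lib.Helper11.ExcF

universe u

variable {G : Type u} [Group G] [Finite G]

/-- two subgroups of a cyclic group whose orders are divisible by the prime `q` meet
non-trivially -/
theorem cyclic_inf_ne_bot (Q : Subgroup G) (hQc : IsCyclic Q) (q : ℕ) [hq : Fact q.Prime]
    (X Y : Subgroup G) (hXQ : X ≤ Q) (hYQ : Y ≤ Q) (hX : q ∣ Nat.card X) (hY : q ∣ Nat.card Y) :
    X ⊓ Y ≠ ⊥ := by
  classical
  obtain ⟨x, hx⟩ := exists_prime_orderOf_dvd_card' q hX
  obtain ⟨y, hy⟩ := exists_prime_orderOf_dvd_card' q hY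
  -- the elements of `Q` of order dividing `q`
  let _ : Fintype ↥Q := Fintype.ofFinite _
  have hle := IsCyclic.card_pow_eq_one_le (α := ↥Q) hq.out.pos
  obtain ⟨x', hx'⟩ : ∃ x' : ↥Q, x' = ⟨x.1, hXQ x.2⟩ := ⟨_, rfl⟩
  obtain ⟨y', hy'⟩ : ∃ y' : ↥Q, y' = ⟨y.1, hYQ y.2⟩ := ⟨_, rfl⟩
  have hox : orderOf x' = q := by
    rw [hx', ← hx]
    have h1 : orderOf (⟨x.1, hXQ x.2⟩ : ↥Q) = orderOf (x.1 : G) := Subgroup.orderOf_mk _ _
    rw [h1, Subgroup.orderOf_coe]
  have hoy : orderOf y' = q := by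
    rw [hy', ← hy]
    have h1 : orderOf (⟨y.1, hYQ y.2⟩ : ↥Q) = orderOf (y.1 : G) := Subgroup.orderOf_mk _ _
    rw [h1, Subgroup.orderOf_coe]
  have hsub : (Finset.univ.filter fun a : ↥Q => a ∈ Subgroup.zpowers x') ⊆
      Finset.univ.filter fun a : ↥Q => a ^ q = 1 := by
    intro a ha
    rw [Finset.mem_filter] at ha ⊢
    refine ⟨ha.1, ?_⟩
    obtain ⟨i, rfl⟩ := Subgroup.mem_zpowers_iff.mp ha.2
    rw [← zpow_natCast, ← zpow_mul, mul_comm, zpow_mul, zpow_natCast, ← hox, pow_orderOf_eq_one,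
      one_zpow]
  have hcardz : (Finset.univ.filter fun a : ↥Q => a ∈ Subgroup.zpowers x').card = q := by
    rw [← hox, ← Nat.card_zpowers, Nat.card_eq_fintype_card, Fintype.card_subtype]
  have heq : (Finset.univ.filter fun a : ↥Q => a ∈ Subgroup.zpowers x') =
      Finset.univ.filter fun a : ↥Q => a ^ q = 1 := by
    apply Finset.eq_of_subset_of_card_le hsub
    rw [hcardz]
    exact hle
  have hymem : y' ∈ Subgroup.zpowers x' := by
    have : y' ∈ Finset.univ.filter fun a : ↥Q => a ^ q = 1 := by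
      rw [Finset.mem_filter]
      refine ⟨Finset.mem_univ _, ?_⟩
      rw [← hoy]
      exact pow_orderOf_eq_one y'
    rw [← heq, Finset.mem_filter] at this
    exact this.2
  obtain ⟨i, hi⟩ := Subgroup.mem_zpowers_iff.mp hymem
  have hyX : (y.1 : G) ∈ X := by
    have h1 := congrArg (fun z : ↥Q => (z : G)) hi
    simp only [hx', hy', Subgroup.coe_zpow] at h1
    rw [← h1]
    exact X.zpow_mem x.2 i
  intro hbot
  have hmem : (y.1 : G) ∈ X ⊓ Y := ⟨hyX, y.2⟩
  rw [hbot, Subgroup.mem_bot] at hmem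
  have hy1 : y = 1 := Subtype.ext hmem
  rw [hy1, orderOf_one] at hy
  exact hq.out.one_lt.ne hy

omit [Finite G] in
theorem normalizer_le_normalizer_centralizer (V : Subgroup G) :
    Subgroup.normalizer (V : Set G) ≤
      Subgroup.normalizer ((Subgroup.centralizer (V : Set G) : Subgroup G) : Set G) := by
  intro a ha
  rw [Subgroup.mem_normalizer_iff]
  intro c
  rw [Subgroup.mem_centralizer_iff, Subgroup.mem_centralizer_iff]
  constructor
  · intro hc v hv
    have hv' : a⁻¹ * v * a ∈ V := by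
      have := (Subgroup.mem_normalizer_iff.mp (Subgroup.inv_mem _ ha) v).mp hv
      simpa using this
    have := hc _ hv'
    calc v * (a * c * a⁻¹) = a * (a⁻¹ * v * a * c) * a⁻¹ := by group
      _ = a * (c * (a⁻¹ * v * a)) * a⁻¹ := by rw [this]
      _ = a * c * a⁻¹ * v := by group
  · intro hc v hv
    have hv' : a * v * a⁻¹ ∈ V := (Subgroup.mem_normalizer_iff.mp ha v).mp hv
    have := hc _ hv'
    calc v * c = a⁻¹ * (a * v * a⁻¹ * (a * c * a⁻¹)) * a := by group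
      _ = a⁻¹ * (a * c * a⁻¹ * (a * v * a⁻¹)) * a := by rw [this]
      _ = c * v := by group

omit [Finite G] in
/-- if generators of `A` have all their commutators with `Q` in `C(V)`, then `[Q, A] ≤ C(V)` -/
theorem comm_le_centralizer_of_gens (V Q A : Subgroup G)
    (hAV : A ≤ Subgroup.normalizer (V : Set G)) (hAQ : A ≤ Subgroup.normalizer (Q : Set G))
    (S : Set G) (hS : A = Subgroup.closure S)
    (h : ∀ a ∈ S, ∀ x ∈ Q, a * x * a⁻¹ * x⁻¹ ∈ Subgroup.centralizer (V : Set G)) :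
    ⁅Q, A⁆ ≤ Subgroup.centralizer (V : Set G) := by
  let T : Subgroup G :=
    { carrier := {a | a ∈ Subgroup.normalizer (V : Set G) ∧ a ∈ Subgroup.normalizer (Q : Set G) ∧
        ∀ x ∈ Q, a * x * a⁻¹ * x⁻¹ ∈ Subgroup.centralizer (V : Set G)}
      one_mem' := by
        refine ⟨Subgroup.one_mem _, Subgroup.one_mem _, ?_⟩
        intro x _
        have e : (1 : G) * x * 1⁻¹ * x⁻¹ = 1 := by group
        rw [e]
        exact Subgroup.one_mem _
      mul_mem' := by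
        rintro a b ⟨haV, haQ, ha⟩ ⟨hbV, hbQ, hb⟩
        refine ⟨Subgroup.mul_mem _ haV hbV, Subgroup.mul_mem _ haQ hbQ, ?_⟩
        intro x hx
        have e : a * b * x * (a * b)⁻¹ * x⁻¹ = a * (b * x * b⁻¹ * x⁻¹) * a⁻¹ * (a * x * a⁻¹ * x⁻¹) := by
          group
        rw [e]
        apply Subgroup.mul_mem _ _ (ha x hx)
        exact (Subgroup.mem_normalizer_iff.mp (normalizer_le_normalizer_centralizer V haV) _).mp
          (hb x hx)
      inv_mem' := by
        rintro a ⟨haV, haQ, ha⟩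
        refine ⟨Subgroup.inv_mem _ haV, Subgroup.inv_mem _ haQ, ?_⟩
        intro x hx
        have hx' : a⁻¹ * x * a ∈ Q := by
          have := (Subgroup.mem_normalizer_iff.mp (Subgroup.inv_mem _ haQ) x).mp hx
          simpa using this
        have e : a⁻¹ * x * a⁻¹⁻¹ * x⁻¹ = (a * (a⁻¹ * x * a) * a⁻¹ * (a⁻¹ * x * a)⁻¹)⁻¹ := by group
        rw [e]
        exact Subgroup.inv_mem _ (ha _ hx') }
  have hAT : A ≤ T := by
    rw [hS, Subgroup.closure_le]
    intro a ha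
    have haA : a ∈ A := hS ▸ Subgroup.subset_closure ha
    exact ⟨hAV haA, hAQ haA, h a ha⟩
  rw [Subgroup.commutator_le]
  intro x hx a ha
  have h1 := (hAT ha).2.2 x hx
  have e : ⁅x, a⁆ = (a * x * a⁻¹ * x⁻¹)⁻¹ := by
    rw [commutatorElement_def]; group
  rw [e]
  exact Subgroup.inv_mem _ h1

/-- `M' ∩ C(M_σ)` is nilpotent -/
theorem nilpotent_inf_centralizer (hG : Cfsg.IsMinSimpleOddOrder G) (M : Subgroup G)
    (hM : IsCoatom M) :
    Group.IsNilpotent ↥(⁅M, M⁆ ⊓ Subgroup.centralizer ((Cfsg.sigmaCore M : Subgroup G) : Set G)) := by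
  obtain ⟨N, hN⟩ : ∃ N : Subgroup G, N = ⁅M, M⁆ ⊓
      Subgroup.centralizer ((Cfsg.sigmaCore M : Subgroup G) : Set G) := ⟨_, rfl⟩
  rw [← hN]
  have hNM : N ≤ M := by
    rw [hN]
    exact inf_le_left.trans (Subgroup.commutator_le_self M)
  have hNd : N ≤ ⁅M, M⁆ := hN ▸ inf_le_left
  have hNz : N ≤ Subgroup.centralizer ((Cfsg.sigmaCore M : Subgroup G) : Set G) :=
    hN ▸ inf_le_right
  have hNc : ∀ n : ↥N, (⟨(n : G), hNM n.2⟩ : ↥M) ∈ commutator ↥M := by
    intro n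
    have h1 : (n : G) ∈ ⁅M, M⁆ := hNd n.2
    rw [← Subgroup.map_subtype_commutator] at h1
    obtain ⟨y, hy, hyn⟩ := h1
    have : y = ⟨(n : G), hNM n.2⟩ := Subtype.ext hyn
    rwa [← this]
  have hnil := (alpha_hall hG M hM).2.2.2.2
  let π := QuotientGroup.mk' (Cfsg.piCore (Cfsg.alpha M) ↥M)
  let f : ↥N →* ↥((commutator ↥M).map π) :=
    { toFun := fun n => ⟨π ⟨(n : G), hNM n.2⟩, Subgroup.mem_map_of_mem _ (hNc n)⟩
      map_one' := by
        apply Subtype.ext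
        exact map_one π
      map_mul' := by
        intro a b
        apply Subtype.ext
        exact map_mul π ⟨(a : G), hNM a.2⟩ ⟨(b : G), hNM b.2⟩ }
  refine isNilpotent_of_ker_le_center f ?_
  intro n hn
  rw [MonoidHom.mem_ker] at hn
  have h1 : π ⟨(n : G), hNM n.2⟩ = 1 := congrArg Subtype.val hn
  rw [QuotientGroup.mk'_apply, QuotientGroup.eq_one_iff] at h1
  have h2 : (n : G) ∈ Cfsg.alphaCore M := by
    unfold Cfsg.alphaCore
    exact ⟨_, h1, rfl⟩
  have h3 : (n : G) ∈ Cfsg.sigmaCore M := (alpha_hall hG M hM).2.2.1 h2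
  rw [Subgroup.mem_center_iff]
  intro m
  apply Subtype.ext
  have hm : (m : G) ∈ Subgroup.centralizer ((Cfsg.sigmaCore M : Subgroup G) : Set G) :=
    hNz m.2
  exact (Subgroup.mem_centralizer_iff.mp hm _ h3).symm

end Cfsg.Agent.Lib.Helper11.ExcG
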