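import Mathlib
import Cfsg.Prelude.Def_OddOrderLocal
import Cfsg.Agent.Lib.Helper11.ExcG

set_option autoImplicit false
open scoped commutatorElement

/-! B & G section 11, part H: the structure of the Sylow `p`-subgroup and two fixed-point-free
subgroups -/

namespace Cfsg.Agent.Lib.Helper11.ExcH

open Cfsg Cfsg.Agent.Lib Cfsg.Agent.Lib.Helper18
open Cfsg.Agent.Lib.Helper11.BenderM Cfsg.Agent.Lib.Helper11.BenderN
  Cfsg.Agent.Lib.Helper11.BenderO Cfsg.Agent.Lib.Helper11.BenderE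
  Cfsg.Agent.Lib.Helper11.BenderF Cfsg.Agent.Lib.Helper11.BenderL
  Cfsg.Agent.Lib.Helper11.BenderS Cfsg.Agent.Lib.Helper11.MaxSubB
  Cfsg.Agent.Lib.Helper11.MaxSubD Cfsg.Agent.Lib.Helper11.BenderQ
  Cfsg.Agent.Lib.Helper11.BenderI Cfsg.Agent.Lib.Helper11.BenderP
  Cfsg.Agent.Lib.Helper1.BG12 Cfsg.Agent.Lib.Helper11.ExcA Cfsg.Agent.Lib.Helper11.ExcB
  Cfsg.Agent.Lib.Helper11.ExcC Cfsg.Agent.Lib.Helper11.ExcD Cfsg.Agent.Lib.Helper11.ExcE
  Cfsg.Agent.Lib.Helper11.ExcF Cfsg.Agent.Lib.Helper11.ExcG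

universe u

variable {G : Type u} [Group G] [Finite G]

/-- the elements of order dividing `p` of a Sylow `p`-subgroup `P ≥ A` of `M` are those of `A`,
and `N(P) ≤ N(A)` -/
theorem omega_eq (hG : Cfsg.IsMinSimpleOddOrder G)
    (h36 : ∀ M : Subgroup G, IsCoatom M → Thm36 ↥M) {M : Subgroup G} {p : ℕ}
    {A₀ A : Subgroup G} (hp : p.Prime) (h : Exc M p A₀ A) (P : Subgroup G)
    (hP : IsSylowIn p P M) (hAP : A ≤ P) (g : G)
    (hgP : g ∈ Subgroup.normalizer (P : Set G)) (hgM : g ∉ M) :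
    (∀ x ∈ P, x ^ p = 1 → x ∈ A) ∧
      Subgroup.normalizer (P : Set G) ≤ Subgroup.normalizer (A : Set G) := by
  have hAe : Cfsg.IsElementaryAbelian p A := h.2.2.2.1
  have hmax := exc_max hG hp h
  have hPA := le_center hG h36 hp h P hP hAP g hgP hgM
  have hΩ : ∀ x ∈ P, x ^ p = 1 → x ∈ A := by
    intro x hx hxp
    apply mem_of_max p A hAe hmax x _ hxp
    intro a ha
    exact (Subgroup.mem_centralizer_iff.mp (hPA hx) a ha).symm
  refine ⟨hΩ, ?_⟩
  intro n hn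
  apply Helper18.mem_normalizer_of_conjSub_le
  rintro _ ⟨a, ha, rfl⟩
  show n * a * n⁻¹ ∈ A
  apply hΩ
  · exact (Subgroup.mem_normalizer_iff.mp hn a).mp (hAP ha)
  · rw [conj_pow, hAe.2 a ha]
    group

/-- two generators of `A` acting without fixed points on `M_σ` -/
theorem exists_two_fpf (hG : Cfsg.IsMinSimpleOddOrder G)
    (h36 : ∀ M : Subgroup G, IsCoatom M → Thm36 ↥M) {M : Subgroup G} {p : ℕ}
    {A₀ A : Subgroup G} (hp : p.Prime) (h : Exc M p A₀ A) :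
    ∃ a₁ a₂ : G, a₁ ∈ A ∧ a₂ ∈ A ∧ a₁ ^ p = 1 ∧ a₂ ^ p = 1 ∧ A = Subgroup.closure {a₁, a₂} ∧
      (∀ n ∈ Cfsg.sigmaCore M, a₁ * n = n * a₁ → n = 1) ∧
      (∀ n ∈ Cfsg.sigmaCore M, a₂ * n = n * a₂ → n = 1) := by
  haveI : Fact p.Prime := ⟨hp⟩
  obtain ⟨P, hP, hAP, g, hgP, hgM⟩ := exists_sylow_normalizer hp h
  have hAc : Nat.card A = p ^ 2 := h.2.2.2.2.1
  have hA₀A : A₀ ≤ A := h.2.2.2.2.2.1
  have hA₀c : Nat.card A₀ = p := h.2.2.2.2.2.2.1
  have hN : Subgroup.normalizer (A₀ : Set G) ≤ M := h.2.2.2.2.2.2.2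
  obtain ⟨-, hNPA⟩ := omega_eq hG h36 hp h P hP hAP g hgP hgM
  have hgA : Helper18.conjSub g A = A := Helper18.conjSub_eq_of_mem_normalizer (hNPA hgP)
  have hg'P : g⁻¹ ∈ Subgroup.normalizer (P : Set G) := Subgroup.inv_mem _ hgP
  have hg'A : Helper18.conjSub g⁻¹ A = A :=
    Helper18.conjSub_eq_of_mem_normalizer (hNPA hg'P)
  have hg'M : g⁻¹ ∉ M := fun hm => hgM (by simpa using M.inv_mem hm)
  have hAM : A ≤ M := h.2.2.1
  have hAg : A ≤ Helper18.conjSub g M := by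
    rw [← hgA]
    exact Helper18.conjSub_mono hAM
  have hAg' : A ≤ Helper18.conjSub g⁻¹ M := by
    rw [← hg'A]
    exact Helper18.conjSub_mono hAM
  obtain ⟨a₁, ha₁X, ha₁1, ha₁p, ha₁gen, hfpf₁⟩ := exists_fpf_gen hG h36 hp h g hgM hAg
  obtain ⟨a₂, ha₂X, ha₂1, ha₂p, ha₂gen, hfpf₂⟩ := exists_fpf_gen hG h36 hp h g⁻¹ hg'M hAg'
  have ha₁A : a₁ ∈ A := by
    rw [← hgA]
    exact Helper18.conjSub_mono hA₀A ha₁X
  have ha₂A : a₂ ∈ A := by
    rw [← hg'A]
    exact Helper18.conjSub_mono hA₀A ha₂X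
  refine ⟨a₁, a₂, ha₁A, ha₂A, ha₁p, ha₂p, ?_, hfpf₁, hfpf₂⟩
  -- the two conjugates of `A₀` are different
  have hne : Helper18.conjSub g A₀ ≠ Helper18.conjSub g⁻¹ A₀ := by
    intro he
    have h1 : Helper18.conjSub (g * g) A₀ = A₀ := by
      rw [← Helper18.conjSub_mul, he, cjCjInv]
    have h2 : g * g ∈ M := hN (Helper18.mem_normalizer_of_conjSub_le h1.le)
    apply hgM
    have hodd : Odd (orderOf g) := Odd.of_dvd_nat hG.1 (orderOf_dvd_natCard g)
    obtain ⟨k, hk⟩ := hodd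
    have h3 : g = (g * g) ^ (k + 1) := by
      rw [← pow_two, ← pow_mul]
      have : 2 * (k + 1) = orderOf g + 1 := by omega
      rw [this, pow_succ, pow_orderOf_eq_one, one_mul]
    rw [h3]
    exact M.pow_mem h2 _
  have hz₁ : Helper18.conjSub g A₀ = Subgroup.zpowers a₁ := by
    apply le_antisymm
    · intro x hx
      obtain ⟨n, rfl⟩ := ha₁gen x hx
      exact Subgroup.pow_mem _ (Subgroup.mem_zpowers a₁) n
    · rw [Subgroup.zpowers_le]
      exact ha₁X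
  have hz₂ : Helper18.conjSub g⁻¹ A₀ = Subgroup.zpowers a₂ := by
    apply le_antisymm
    · intro x hx
      obtain ⟨n, rfl⟩ := ha₂gen x hx
      exact Subgroup.pow_mem _ (Subgroup.mem_zpowers a₂) n
    · rw [Subgroup.zpowers_le]
      exact ha₂X
  have hc₁ : Nat.card (Subgroup.zpowers a₁) = p := by
    rw [← hz₁, Helper18.card_conjSub, hA₀c]
  have hc₂ : Nat.card (Subgroup.zpowers a₂) = p := by
    rw [← hz₂, Helper18.card_conjSub, hA₀c]
  have hle : Subgroup.closure {a₁, a₂} ≤ A := by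
    rw [Subgroup.closure_le]
    rintro y (hy | hy)
    · rw [hy]; exact ha₁A
    · rw [Set.mem_singleton_iff] at hy
      rw [hy]; exact ha₂A
  have hlt : Subgroup.zpowers a₁ < Subgroup.closure {a₁, a₂} := by
    apply lt_of_le_of_ne
    · rw [Subgroup.zpowers_le]
      exact Subgroup.subset_closure (Or.inl rfl)
    · intro he
      have h1 : a₂ ∈ Subgroup.zpowers a₁ := by
        rw [he]
        exact Subgroup.subset_closure (Or.inr rfl)
      have h2 : Subgroup.zpowers a₂ ≤ Subgroup.zpowers a₁ := by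
        rw [Subgroup.zpowers_le]; exact h1
      have h3 : Subgroup.zpowers a₂ = Subgroup.zpowers a₁ :=
        Subgroup.eq_of_le_of_card_ge h2 (by rw [hc₁, hc₂])
      apply hne
      rw [hz₁, hz₂, h3]
  have hAp : IsPGroup p A := IsPGroup.of_card hAc
  obtain ⟨k, hk⟩ := IsPGroup.iff_card.mp (hAp.to_le hle)
  have h1 := Cfsg.Agent.Lib.Lead.card_lt_card_of_lt hlt
  rw [hc₁, hk] at h1
  have hk2 : 2 ≤ k := by
    by_contra hk2
    have : k ≤ 1 := by omega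
    have := Nat.pow_le_pow_right hp.pos this
    rw [pow_one] at this
    omega
  symm
  apply Subgroup.eq_of_le_of_card_ge hle
  rw [hk, hAc]
  exact Nat.pow_le_pow_right hp.pos hk2

end Cfsg.Agent.Lib.Helper11.ExcH
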