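import Mathlib
import Cfsg.Prelude.Def_OddOrderLocal
import Cfsg.Agent.Lib.Helper11.ExcH

set_option autoImplicit false
open scoped commutatorElement

/-! B & G section 11, part I: Theorem 11.7 -/

namespace Cfsg.Agent.Lib.Helper11.ExcI

open Cfsg Cfsg.Agent.Lib Cfsg.Agent.Lib.Helper18
open Cfsg.Agent.Lib.Helper11.BenderM Cfsg.Agent.Lib.Helper11.BenderN
  Cfsg.Agent.Lib.Helper11.BenderO Cfsg.Agent.Lib.Helper11.BenderE
  Cfsg.Agent.Lib.Helper11.BenderF Cfsg.Agent.Lib.Helper11.BenderL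
  Cfsg.Agent.Lib.Helper11.BenderS Cfsg.Agent.Lib.Helper11.MaxSubB
  Cfsg.Agent.Lib.Helper11.MaxSubD Cfsg.Agent.Lib.Helper11.BenderQ
  Cfsg.Agent.Lib.Helper11.BenderI Cfsg.Agent.Lib.Helper11.BenderP
  Cfsg.Agent.Lib.Helper1.BG12 Cfsg.Agent.Lib.Helper11.ExcA Cfsg.Agent.Lib.Helper11.ExcB
  Cfsg.Agent.Lib.Helper11.ExcC Cfsg.Agent.Lib.Helper11.ExcD Cfsg.Agent.Lib.Helper11.ExcE
  Cfsg.Agent.Lib.Helper11.ExcF Cfsg.Agent.Lib.Helper11.ExcG Cfsg.Agent.Lib.Helper11.ExcH

universe u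

variable {G : Type u} [Group G] [Finite G]

omit [Finite G] in
theorem le_centralizer_symm {A Q : Subgroup G} (h : A ≤ Subgroup.centralizer (Q : Set G)) :
    Q ≤ Subgroup.centralizer (A : Set G) := by
  intro x hx
  rw [Subgroup.mem_centralizer_iff]
  intro a ha
  exact (Subgroup.mem_centralizer_iff.mp (h ha) x hx).symm

omit [Finite G] in
theorem commutator_le_left_of_normalizes {Q A : Subgroup G}
    (hAQ : A ≤ Subgroup.normalizer (Q : Set G)) : ⁅Q, A⁆ ≤ Q := by
  rw [Subgroup.commutator_le]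
  intro x hx a ha
  have h1 : a * x⁻¹ * a⁻¹ ∈ Q :=
    (Subgroup.mem_normalizer_iff.mp (hAQ ha) x⁻¹).mp (Q.inv_mem hx)
  have e : ⁅x, a⁆ = x * (a * x⁻¹ * a⁻¹) := by
    rw [commutatorElement_def]; group
  rw [e]
  exact Q.mul_mem hx h1

theorem pgroup_ne_bot_dvd {q : ℕ} [hq : Fact q.Prime] {X : Subgroup G} (hX : IsPGroup q X)
    (hX1 : X ≠ ⊥) : q ∣ Nat.card X := by
  obtain ⟨k, hk⟩ := IsPGroup.iff_card.mp hX
  rw [hk]
  apply dvd_pow_self
  rintro rfl
  rw [pow_zero] at hk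
  exact hX1 (Subgroup.card_eq_one.mp hk)

/-- the key claim for Theorem 11.7: `A` centralizes every `A`-invariant Sylow `q`-subgroup of
`O_{p'}(M)` for `q ∉ σ(M)` -/
theorem centralizes_sylow (hG : Cfsg.IsMinSimpleOddOrder G)
    (h36 : ∀ M : Subgroup G, IsCoatom M → Thm36 ↥M) {M : Subgroup G} {p : ℕ}
    {A₀ A : Subgroup G} (hp : p.Prime) (h : Exc M p A₀ A)
    (q : ℕ) [hq : Fact q.Prime] (hqp : q ≠ p) (hqσ : q ∉ Cfsg.sigma M) (Q : Subgroup G)
    (hQK : IsSylowIn q Q (pPrimeCoreOf p M)) (hAQ : A ≤ Subgroup.normalizer (Q : Set G)) :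
    A ≤ Subgroup.centralizer (Q : Set G) := by
  haveI : Fact p.Prime := ⟨hp⟩
  have hsimple : IsSimpleGroup G := hG.2.1
  have hM : IsCoatom M := h.1
  have hpσ : p ∉ Cfsg.sigma M := h.2.1
  have hAM : A ≤ M := h.2.2.1
  have hAe : Cfsg.IsElementaryAbelian p A := h.2.2.2.1
  have hAc : Nat.card A = p ^ 2 := h.2.2.2.2.1
  have hmax := exc_max hG hp h
  have hMs : Group.IsSolvable ↥M := coatom_solvable hG M hM
  have hModd : Odd (Nat.card ↥M) := coatom_odd hG M
  have hAp : IsPGroup p A := IsPGroup.of_card hAc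
  have hQq : IsPGroup q Q := hQK.isPGroup
  have hQM : Q ≤ M := hQK.le.trans (pPrimeCoreOf_le p M)
  by_contra hnc
  have hQ1 : Q ≠ ⊥ := by
    rintro rfl
    apply hnc
    intro a _
    rw [Subgroup.mem_centralizer_iff]
    intro x hx
    rw [SetLike.mem_coe, Subgroup.mem_bot] at hx
    rw [hx, one_mul, mul_one]
  have hqQ : q ∣ Nat.card Q := pgroup_ne_bot_dvd hQq hQ1
  have hqM : q ∣ Nat.card M := hqQ.trans (Subgroup.card_dvd_of_le hQM)
  have hq2 : q ≠ 2 := by
    rintro rfl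
    have h1 : 2 ∣ Nat.card G := hqM.trans (Subgroup.card_subgroup_dvd_card _)
    exact (Nat.not_even_iff_odd.mpr hG.1) (even_iff_two_dvd.mpr h1)
  have hpM : p ∣ Nat.card M := by
    have h1 : Nat.card A ∣ Nat.card M := Subgroup.card_dvd_of_le hAM
    rw [hAc] at h1
    exact (dvd_pow_self p (by norm_num)).trans h1
  have hr2p : Cfsg.PRankLE p 2 M := (exc_rank hG hp h).1.1
  have hr2q : Cfsg.PRankLE q 2 M := by
    by_contra hr
    exact hqσ (alpha_sub_sigma hG M hM q ⟨hq.out, hr⟩)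
  have hcopAQ : (Nat.card A).Coprime (Nat.card Q) := by
    obtain ⟨k, hk⟩ := IsPGroup.iff_card.mp hQq
    rw [hAc, hk]
    apply Nat.Coprime.pow
    exact (Nat.coprime_primes hp hq.out).mpr (Ne.symm hqp)
  have hAs : Group.IsSolvable A := pgroup_solvable p A hAp
  -- (0a) `p < q`
  have hpq : p < q := by
    by_contra hlt
    have hqlt : q < p := by omega
    have h1 := (Cfsg.Agent.S1450.result hModd q hqM hr2q).1
    have h2 : ¬ p ∣ (pPrimeCoreOf q M).relIndex M := by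
      rw [pPrimeCoreOf_relIndex]
      intro hd
      have := h1 p hp hd
      omega
    have hAKq : A ≤ pPrimeCoreOf q M := by
      apply le_of_normal_coprime M _ A (pPrimeCoreOf_le q M) (le_normalizer_pPrimeCoreOf q M) hAM
      rw [hAc]
      apply Nat.Coprime.pow_left
      exact (Nat.Prime.coprime_iff_not_dvd hp).mpr h2
    have hdisj : Q ⊓ pPrimeCoreOf q M = ⊥ := by
      rw [← disjoint_iff]
      apply Subgroup.disjoint_of_coprime_natCard
      obtain ⟨k, hk⟩ := IsPGroup.iff_card.mp hQq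
      rw [hk]
      exact Nat.Coprime.pow_left _ (pPrimeCoreOf_coprime q M).symm
    apply hnc
    intro a ha
    rw [Subgroup.mem_centralizer_iff]
    intro x hx
    have h3 : a * x * a⁻¹ * x⁻¹ ∈ Q ⊓ pPrimeCoreOf q M := by
      refine ⟨Q.mul_mem ((Subgroup.mem_normalizer_iff.mp (hAQ ha) x).mp hx) (Q.inv_mem hx), ?_⟩
      have h4 : x * a⁻¹ * x⁻¹ ∈ pPrimeCoreOf q M :=
        (Subgroup.mem_normalizer_iff.mp (le_normalizer_pPrimeCoreOf q M (hQM hx)) a⁻¹).mp
          (Subgroup.inv_mem _ (hAKq ha))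
      have e : a * x * a⁻¹ * x⁻¹ = a * (x * a⁻¹ * x⁻¹) := by group
      rw [e]
      exact Subgroup.mul_mem _ (hAKq ha) h4
    rw [hdisj, Subgroup.mem_bot] at h3
    calc x * a = (a * x * a⁻¹ * x⁻¹)⁻¹ * (a * x) := by group
      _ = a * x := by rw [h3, inv_one, one_mul]
  -- (0b) `Q` is a Sylow subgroup of `M`
  have hQSyl : IsSylowIn q Q M := by
    refine ⟨hQM, hQq, ?_⟩
    rw [← Subgroup.relIndex_mul_relIndex Q (pPrimeCoreOf p M) M hQK.le (pPrimeCoreOf_le p M)]
    intro hd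
    rcases (Nat.Prime.dvd_mul hq.out).mp hd with h1 | h1
    · exact hQK.not_dvd h1
    · rw [pPrimeCoreOf_relIndex] at h1
      have := (Cfsg.Agent.S1450.result hModd p hpM hr2p).1 q hq.out h1
      omega
  have hQtop : Q ≠ ⊤ := pgroup_ne_top hG q Q hQq
  by_cases hC : Q ⊓ Subgroup.centralizer (A : Set G) = ⊥
  · -- case (2)
    have hQA : ⁅Q, A⁆ = Q := by
      have := Cfsg.Agent.S0026.result A Q hAQ hcopAQ (Or.inl hAs)
      rwa [hC, sup_bot_eq] at this
    obtain ⟨a₁, a₂, ha₁A, ha₂A, ha₁p, ha₂p, hgen, hfpf₁, hfpf₂⟩ := exists_two_fpf hG h36 hp h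
    have hVnil := eleven_three hG h36 hp h
    have hqV : ¬ q ∣ Nat.card (Cfsg.sigmaCore M) := fun hd =>
      hqσ (sigmaCore_primes hG M hM q hq.out hd)
    have hpV : ¬ p ∣ Nat.card (Cfsg.sigmaCore M) := fun hd =>
      hpσ (sigmaCore_primes hG M hM p hp hd)
    have hMV := le_normalizer_sigmaCore M
    have h1 : ∀ a ∈ ({a₁, a₂} : Set G), ∀ x ∈ Q,
        a * x * a⁻¹ * x⁻¹ ∈ Subgroup.centralizer ((Cfsg.sigmaCore M : Subgroup G) : Set G) := by
      rintro a (ha | ha) x hx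
      · rw [ha]
        exact comm_centralizes_nilpotent q p hq.out hp hqp hq2 _ hVnil a₁ (hMV (hAM ha₁A)) ha₁p
          hfpf₁ hqV hpV Q hQq (hQM.trans hMV) (hAQ ha₁A) x hx
      · rw [Set.mem_singleton_iff] at ha
        rw [ha]
        exact comm_centralizes_nilpotent q p hq.out hp hqp hq2 _ hVnil a₂ (hMV (hAM ha₂A)) ha₂p
          hfpf₂ hqV hpV Q hQq (hQM.trans hMV) (hAQ ha₂A) x hx
    have hQV : Q ≤ Subgroup.centralizer ((Cfsg.sigmaCore M : Subgroup G) : Set G) := by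
      have := comm_le_centralizer_of_gens (Cfsg.sigmaCore M) Q A (hAM.trans hMV) hAQ {a₁, a₂} hgen
        h1
      rwa [hQA] at this
    have hQd : Q ≤ ⁅M, M⁆ := by
      rw [← hQA]
      exact Subgroup.commutator_mono hQM hAM
    have hNnil := nilpotent_inf_centralizer hG M hM
    have hMN : M ≤ Subgroup.normalizer ((⁅M, M⁆ ⊓
        Subgroup.centralizer ((Cfsg.sigmaCore M : Subgroup G) : Set G) : Subgroup G) : Set G) := by
      apply le_normalizer_inf_of_le
      · exact Subgroup.le_normalizer.trans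
          (Cfsg.Agent.Lib.Helper1.le_normalizer_commutator_self M)
      · exact hMV.trans (normalizer_le_normalizer_centralizer _)
    have hSylN : IsSylowIn q Q (⁅M, M⁆ ⊓
        Subgroup.centralizer ((Cfsg.sigmaCore M : Subgroup G) : Set G)) :=
      hQSyl.of_le (le_inf hQd hQV) (inf_le_left.trans (Subgroup.commutator_le_self M))
    have hMQ : M ≤ Subgroup.normalizer (Q : Set G) :=
      sylow_normal_of_nilpotent _ Q q hNnil hSylN M hMN
    have hNQ := normalizer_eq_of_coatom hG M hM Q hQ1 hQtop hMQ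
    have hgood := good_of_sigma M q Q hQSyl hNQ.le
    exact hqσ (sigma_of_good M q Q hgood hQ1)
  · -- case (1)
    have hXq : IsPGroup q ↥(Q ⊓ Subgroup.centralizer (A : Set G)) := hQq.to_le inf_le_left
    have hqX : q ∣ Nat.card ↥(Q ⊓ Subgroup.centralizer (A : Set G)) := pgroup_ne_bot_dvd hXq hC
    have hr1Q : ¬ Cfsg.PRankLE q 1 ↥Q := by
      intro hr1
      have hcyc : IsCyclic ↥Q := isCyclic_of_pRankLE_one q hq2 hQq hr1
      haveI : IsMulCommutative ↥Q := by
        letI := IsCyclic.commGroup (α := ↥Q)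
        exact ⟨⟨fun a b => mul_comm a b⟩⟩
      obtain ⟨hdisj, -⟩ := Cfsg.Agent.Lib.Helper1.coprime_abelian_decomposition A Q hAQ hcopAQ
      have hY : ¬ q ∣ Nat.card ↥⁅Q, A⁆ := by
        intro hd
        exact cyclic_inf_ne_bot Q hcyc q _ _ inf_le_left
          (commutator_le_left_of_normalizes hAQ) hqX hd hdisj
      have hYq : IsPGroup q ↥⁅Q, A⁆ :=
        hQq.to_le (commutator_le_left_of_normalizes hAQ)
      have hY1 : ⁅Q, A⁆ = ⊥ := by
        by_contra hne
        exact hY (pgroup_ne_bot_dvd hYq hne)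
      apply hnc
      apply le_centralizer_symm
      exact Subgroup.commutator_eq_bot_iff_le_centralizer.mp hY1
    obtain ⟨B, hBQ, hBe, hBc⟩ :=
      Cfsg.Agent.Lib.Helper1.BG10.exists_elemAb_sq_of_not_pRankLE_one q Q hr1Q
    have hBM : B ≤ M := hBQ.trans hQM
    have hr1M : ¬ Cfsg.PRankLE q 1 M := by
      intro hr
      have := Cfsg.Agent.Lib.Helper1.BG10.pRankLE_card_le hr hBM hBe
      rw [hBc, pow_one] at this
      have h2 : q < q ^ 2 := by
        have := hq.out.one_lt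
        nlinarith
      omega
    have hBmax := (Cfsg.Agent.S1408.result hG M hM q hqσ hr2q hr1M).2 B hBM hBe hBc
    have hQinv : Q ∈ Cfsg.invSubgroups ⊤ A {q} :=
      (Cfsg.Agent.Lib.Helper11.mem_invSubgroups_iff A q Q).mpr ⟨hQq, hAQ⟩
    obtain ⟨Qs, hQs, hQQs⟩ := Cfsg.Agent.Lib.Helper1.BG10.exists_maxInv_ge A q Q hQinv
    have hQsq : IsPGroup q Qs :=
      ((Cfsg.Agent.Lib.Helper11.mem_maxInvSubgroups_iff A q Qs).mp hQs).1
    have hQsn : Cfsg.IsNarrow q ↥Qs :=
      Cfsg.Agent.Lib.Helper11.BenderR.narrow_of_max_sq_sub q hq2 Qs hQsq B (hBQ.trans hQQs) hBe hBc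
        (fun B' _ hB'e hBB' => hBmax B' hB'e hBB')
    have hqC : q ∣ Nat.card (Subgroup.centralizer (A : Set G)) :=
      hqX.trans (Subgroup.card_dvd_of_le inf_le_right)
    have h1 := ten_nine_c hG h36 p A hAe hAc hmax q hq.out hqp hqC Qs hQs hQsn
    exact hnc (h1.trans (Subgroup.centralizer_le hQQs))

/-- **B & G, Theorem 11.7** -/
theorem hyp117 (hG : Cfsg.IsMinSimpleOddOrder G)
    (h36 : ∀ M : Subgroup G, IsCoatom M → Thm36 ↥M) : Hyp117 G := by
  intro M p A₀ A hp h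
  haveI : Fact p.Prime := ⟨hp⟩
  have hM : IsCoatom M := h.1
  have hpσ : p ∉ Cfsg.sigma M := h.2.1
  have hAM : A ≤ M := h.2.2.1
  have hAc : Nat.card A = p ^ 2 := h.2.2.2.2.1
  have hAp : IsPGroup p A := IsPGroup.of_card hAc
  have hAs : Group.IsSolvable A := pgroup_solvable p A hAp
  obtain ⟨P, hP, hAP, g, hgP, hgM⟩ := exists_sylow_normalizer hp h
  obtain ⟨-, hNPA⟩ := omega_eq hG h36 hp h P hP hAP g hgP hgM
  have hPA := le_center hG h36 hp h P hP hAP g hgP hgM
  have hMV := le_normalizer_sigmaCore M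
  have hpM : p ∣ Nat.card M := by
    have h1 : Nat.card A ∣ Nat.card M := Subgroup.card_dvd_of_le hAM
    rw [hAc] at h1
    exact (dvd_pow_self p (by norm_num)).trans h1
  have hr2p : Cfsg.PRankLE p 2 M := (exc_rank hG hp h).1.1
  obtain ⟨K, hK⟩ : ∃ K : Subgroup G, K = pPrimeCoreOf p M := ⟨_, rfl⟩
  have hKM : K ≤ M := hK ▸ pPrimeCoreOf_le p M
  have hAK : A ≤ Subgroup.normalizer (K : Set G) := hK ▸ hAM.trans (le_normalizer_pPrimeCoreOf p M)
  have hcopAK : (Nat.card A).Coprime (Nat.card K) := by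
    rw [hAc, hK]
    exact Nat.Coprime.pow_left _ (pPrimeCoreOf_coprime p M).symm
  -- `K` normalizes `M_σ A`
  have hKL : K ≤ Subgroup.normalizer ((Cfsg.sigmaCore M ⊔ A : Subgroup G) : Set G) := by
    apply Cfsg.Agent.Lib.Helper1.sylow_le_imp_le
    intro q hq
    by_cases hqp : q = p
    · subst hqp
      obtain ⟨S⟩ : Nonempty (Sylow q ↥K) := inferInstance
      refine ⟨S, ?_⟩
      have hS1 : (S : Subgroup ↥K) = ⊥ := by
        rw [← Subgroup.card_eq_one]
        obtain ⟨k, hk⟩ := IsPGroup.iff_card.mp S.isPGroup'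
        have hd : Nat.card (S : Subgroup ↥K) ∣ Nat.card K := Subgroup.card_subgroup_dvd_card _
        rw [hk] at hd ⊢
        have hk0 : k = 0 := by
          by_contra hk0
          have h1 : q ∣ Nat.card K := (dvd_pow_self q hk0).trans hd
          have h2 : (Nat.card K).Coprime q := by
            rw [hK]
            exact pPrimeCoreOf_coprime q M
          exact (Nat.Prime.coprime_iff_not_dvd hp).mp h2.symm h1
        rw [hk0, pow_zero]
      rw [hS1, Subgroup.map_bot]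
      exact bot_le
    · obtain ⟨Q, hQK, hQq, hAQ, hQc⟩ :=
        Cfsg.Agent.Lib.Helper5.exists_invariant_sylow_sub A K hAK hcopAK hAs q
      have hcard : Nat.card (Q.subgroupOf K) = q ^ (Nat.card ↥K).factorization q := by
        rw [Nat.card_congr (Subgroup.subgroupOfEquivOfLe hQK).toEquiv, hQc]
      obtain ⟨S, hS⟩ : ∃ S : Sylow q ↥K, (S : Subgroup ↥K) = Q.subgroupOf K :=
        ⟨Sylow.ofCard (Q.subgroupOf K) hcard, rfl⟩
      refine ⟨S, ?_⟩
      have hSQ : (S : Subgroup ↥K).map K.subtype = Q := by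
        rw [hS, Subgroup.map_subgroupOf_eq_of_le hQK]
      rw [hSQ]
      have hQSyl : IsSylowIn q Q K := hSQ ▸ isSylowIn_of_sylow S
      have hQM : Q ≤ M := hQK.trans hKM
      by_cases hqσ : q ∈ Cfsg.sigma M
      · refine le_trans ?_ Subgroup.le_normalizer
        exact (pgroup_le_sigmaCore hG M hM q hqσ Q hQM hQq).trans le_sup_left
      · have h1 := centralizes_sylow hG h36 hp h q hqp hqσ Q (hK ▸ hQSyl) hAQ
        apply le_normalizer_sup (hQM.trans hMV)
        exact (le_centralizer_symm h1).trans (Subgroup.centralizer_le_normalizer _)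
  intro m hm
  obtain ⟨k, hk, n, hn, rfl⟩ := frattini_factor hG M hM p hpM hr2p P hP m hm
  apply Subgroup.mul_mem _ (hKL (hK ▸ hk))
  have hnL : M ⊓ Subgroup.normalizer (P : Set G) ≤
      Subgroup.normalizer ((Cfsg.sigmaCore M ⊔ A : Subgroup G) : Set G) :=
    le_normalizer_sup (inf_le_left.trans hMV) (inf_le_right.trans hNPA)
  exact hnL hn

end Cfsg.Agent.Lib.Helper11.ExcI
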