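import Mathlib
import Cfsg.Prelude.Def_OddOrderLocal
import Cfsg.Agent.Lib.Helper11.ExcI
import Cfsg.Agent.S1412

set_option autoImplicit false
open scoped commutatorElement Pointwise

/-! B & G section 11, part J: the Sylow `p`-subgroups of `M` are abelian (11.5, 11.6) -/

namespace Cfsg.Agent.Lib.Helper11.ExcJ

open Cfsg.Agent.Lib.Helper11.BenderQ

section Narrow

variable {R : Type*} [Group R]

/-- the structure behind `narrow_of_max_sq`, keeping track of the element of `E` -/
theorem narrow_struct [Finite R] (p : ℕ) [hp : Fact p.Prime] (hp2 : p ≠ 2) (hR : IsPGroup p R)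
    (hr : ¬ Cfsg.PRankLE p 2 R) (E : Subgroup R) (hE : Cfsg.IsElementaryAbelian p E)
    (hE2 : Nat.card E = p ^ 2)
    (hEmax : ∀ B : Subgroup R, Cfsg.IsElementaryAbelian p B → E ≤ B → B = E) :
    ∃ x ∈ E, ∃ R₁ : Subgroup R, IsCyclic R₁ ∧ (∀ b ∈ R₁, x * b = b * x) ∧
      Subgroup.centralizer ({x} : Set R) ≤ Subgroup.zpowers x ⊔ R₁ := by
  obtain ⟨hET, -, -, hTchar, hTidx⟩ := Cfsg.Agent.S1453.result p hp2 hR hr E hE hE2 hEmax
  obtain ⟨T, hT⟩ : ∃ T : Subgroup R, T = Subgroup.centralizer ((Subgroup.closure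
      {x : R | x ∈ Subgroup.upperCentralSeries R 2 ∧ x ^ p = 1} : Subgroup R) : Set R) := ⟨_, rfl⟩
  rw [← hT] at hET hTchar hTidx
  have hTn : T.Normal := inferInstance
  have hcenT : Subgroup.center R ≤ T := by
    rw [hT]
    exact Subgroup.center_le_centralizer _
  obtain ⟨x, hxE, hxT⟩ := SetLike.not_le_iff_exists.mp hET
  have hx1 : x ≠ 1 := fun h => hxT (h ▸ T.one_mem)
  have hxp : x ^ p = 1 := hE.2 x hxE
  have hxo : orderOf x = p := orderOf_eq_prime hxp hx1
  have hR₀card : Nat.card (Subgroup.zpowers x) = p := by rw [Nat.card_zpowers, hxo]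
  -- the centralizer of `⟨x⟩`
  have hcz : Subgroup.centralizer ((Subgroup.zpowers x : Subgroup R) : Set R) =
      Subgroup.centralizer ({x} : Set R) := by
    apply le_antisymm
    · apply Subgroup.centralizer_le
      intro y hy
      rw [Set.mem_singleton_iff] at hy
      rw [hy]
      exact Subgroup.mem_zpowers x
    · intro c hc
      rw [Subgroup.mem_centralizer_iff]
      intro y hy
      obtain ⟨i, rfl⟩ := Subgroup.mem_zpowers_iff.mp hy
      have hcx : Commute x c := Subgroup.mem_centralizer_iff.mp hc x rfl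
      exact (hcx.zpow_left i).eq
  -- `⟨x⟩ ∩ T = 1`
  have hinf : Subgroup.zpowers x ⊓ T = ⊥ := by
    by_contra hne
    have hle : Subgroup.zpowers x ⊓ T ≤ Subgroup.zpowers x := inf_le_left
    have hdvd : Nat.card ↥(Subgroup.zpowers x ⊓ T) ∣ p := by
      rw [← hR₀card]
      exact Subgroup.card_dvd_of_le hle
    rcases (Nat.dvd_prime hp.out).mp hdvd with h | h
    · exact hne (Subgroup.card_eq_one.mp h)
    · have : Subgroup.zpowers x ⊓ T = Subgroup.zpowers x :=
        Subgroup.eq_of_le_of_card_ge hle (by rw [h, hR₀card])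
      apply hxT
      have h2 : Subgroup.zpowers x ≤ T := by
        rw [← this]
        exact inf_le_right
      exact h2 (Subgroup.mem_zpowers x)
  -- `R = ⟨x⟩ T`
  have hsup : Subgroup.zpowers x ⊔ T = ⊤ := by
    have h1 : (Subgroup.zpowers x ⊔ T).index ∣ p := by
      rw [← hTidx]
      exact Subgroup.index_dvd_of_le le_sup_right
    rcases (Nat.dvd_prime hp.out).mp h1 with h | h
    · exact Subgroup.index_eq_one.mp h
    · exfalso
      have h2 := Subgroup.relIndex_mul_index (le_sup_right : T ≤ Subgroup.zpowers x ⊔ T)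
      rw [h, hTidx] at h2
      have h3 : T.relIndex (Subgroup.zpowers x ⊔ T) = 1 := by
        have hp0 : 0 < p := hp.out.pos
        exact Nat.eq_of_mul_eq_mul_right hp0 (by rw [h2, one_mul])
      have h4 : Subgroup.zpowers x ⊔ T ≤ T := Subgroup.relIndex_eq_one.mp h3
      exact hxT (h4 (le_sup_left (a := Subgroup.zpowers x) (Subgroup.mem_zpowers x)))
  -- a central element of order `p`
  have hnt : Nontrivial R := ⟨⟨x, 1, hx1⟩⟩
  obtain ⟨z, hzc, hz1, hzp⟩ : ∃ z : R, z ∈ Subgroup.center R ∧ z ≠ 1 ∧ z ^ p = 1 := by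
    have hcn := hR.center_nontrivial
    have hc1 : Subgroup.center R ≠ ⊥ := (Subgroup.nontrivial_iff_ne_bot _).mp hcn
    have hdvd : p ^ 1 ∣ Nat.card (Subgroup.center R) := by
      rw [pow_one]
      obtain ⟨k, hk⟩ := IsPGroup.iff_card.mp (hR.to_subgroup (Subgroup.center R))
      rw [hk]
      apply dvd_pow_self
      rintro rfl
      rw [pow_zero] at hk
      exact hc1 (Subgroup.card_eq_one.mp hk)
    obtain ⟨Z', hZ'⟩ := Sylow.exists_subgroup_card_pow_prime p hdvd
    rw [pow_one] at hZ'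
    have hZ'ne : Z' ≠ ⊥ := by
      rintro rfl
      rw [Subgroup.card_bot] at hZ'
      exact hp.out.one_lt.ne hZ'
    obtain ⟨⟨⟨w, hwc⟩, hwZ⟩, hw1⟩ := Subgroup.ne_bot_iff_exists_ne_one.mp hZ'ne
    refine ⟨w, hwc, ?_, ?_⟩
    · intro h
      apply hw1
      apply Subtype.ext
      apply Subtype.ext
      exact h
    · have := pow_card_eq_one' (G := Z') (x := ⟨⟨w, hwc⟩, hwZ⟩)
      rw [hZ'] at this
      have h2 := congrArg Subtype.val (congrArg Subtype.val this)
      simpa using h2
  have hzcomm : ∀ y : R, z * y = y * z := fun y => (Subgroup.mem_center_iff.mp hzc y).symm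
  -- `z ∈ E`
  have hzE : z ∈ E := by
    obtain ⟨T', hT'e, hET', hzT'⟩ := exists_elemAb_ge p E hE z (fun e _ => hzcomm e) hzp
    rw [← hEmax T' hT'e hET']
    exact hzT'
  have hzT : z ∈ T := hcenT hzc
  -- `E` is generated by `x` and `z`
  have hEgen : E = Subgroup.closure {x, z} := by
    have hle : Subgroup.closure {x, z} ≤ E := by
      rw [Subgroup.closure_le]
      rintro y (hy | hy)
      · rw [hy]; exact hxE
      · rw [Set.mem_singleton_iff] at hy
        rw [hy]; exact hzE
    have hlt2 : Subgroup.zpowers x < Subgroup.closure {x, z} := by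
      apply lt_of_le_of_ne
      · rw [Subgroup.zpowers_le]
        exact Subgroup.subset_closure (Or.inl rfl)
      · intro h
        have hz' : z ∈ Subgroup.zpowers x := by
          rw [h]
          exact Subgroup.subset_closure (Or.inr rfl)
        have : z ∈ Subgroup.zpowers x ⊓ T := ⟨hz', hzT⟩
        rw [hinf, Subgroup.mem_bot] at this
        exact hz1 this
    have hEp : IsPGroup p E := IsPGroup.of_card hE2
    obtain ⟨k, hk⟩ := IsPGroup.iff_card.mp (hEp.to_le hle)
    have h1 := Cfsg.Agent.Lib.Lead.card_lt_card_of_lt hlt2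
    rw [hR₀card, hk] at h1
    have hk2 : 2 ≤ k := by
      by_contra hk2
      have : k ≤ 1 := by omega
      have := Nat.pow_le_pow_right hp.out.pos this
      rw [pow_one] at this
      omega
    symm
    apply Subgroup.eq_of_le_of_card_ge hle
    rw [hk, hE2]
    exact Nat.pow_le_pow_right hp.out.pos hk2
  -- elements of order `p` of `C_T(x)` lie in `E ∩ T`
  have hET1 : ∀ a : R, a ∈ T → a * x = x * a → a ^ p = 1 → a ∈ E ⊓ T := by
    intro a haT hax hap
    refine ⟨?_, haT⟩
    have hle : E ≤ Subgroup.centralizer {a} := by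
      rw [hEgen, Subgroup.closure_le]
      rintro y (hy | hy)
      · rw [hy]
        show x ∈ Subgroup.centralizer {a}
        rw [Subgroup.mem_centralizer_iff]
        intro w hw
        rw [Set.mem_singleton_iff] at hw
        rw [hw]
        exact hax
      · rw [Set.mem_singleton_iff] at hy
        rw [hy]
        show z ∈ Subgroup.centralizer {a}
        rw [Subgroup.mem_centralizer_iff]
        intro w hw
        rw [Set.mem_singleton_iff] at hw
        rw [hw]
        exact (hzcomm a).symm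
    have hcomm : ∀ e ∈ E, a * e = e * a := by
      intro e he
      exact Subgroup.mem_centralizer_iff.mp (hle he) a rfl
    obtain ⟨T', hT'e, hET', haT'⟩ := exists_elemAb_ge p E hE a hcomm hap
    rw [← hEmax T' hT'e hET']
    exact haT'
  have hETcard : Nat.card ↥(E ⊓ T) ≤ p := by
    have hlt : E ⊓ T < E := by
      apply lt_of_le_of_ne inf_le_left
      intro h
      apply hxT
      have : E ≤ T := by rw [← h]; exact inf_le_right
      exact this hxE
    have hEp : IsPGroup p E := IsPGroup.of_card hE2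
    obtain ⟨k, hk⟩ := IsPGroup.iff_card.mp (hEp.to_le (inf_le_left : E ⊓ T ≤ E))
    have h1 := Cfsg.Agent.Lib.Lead.card_lt_card_of_lt hlt
    rw [hk, hE2] at h1
    have hk1 : k ≤ 1 := by
      by_contra hk1
      have : 2 ≤ k := by omega
      have := Nat.pow_le_pow_right hp.out.pos this
      omega
    rw [hk]
    calc p ^ k ≤ p ^ 1 := Nat.pow_le_pow_right hp.out.pos hk1
      _ = p := pow_one p
  refine ⟨x, hxE, T ⊓ Subgroup.centralizer {x}, ?_, ?_, ?_⟩
  · -- cyclic
    apply isCyclic_of_pRankLE_one p hp2 (hR.to_subgroup _)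
    intro A hAc hAexp
    rw [pow_one]
    have hAle : A.map (T ⊓ Subgroup.centralizer {x}).subtype ≤ E ⊓ T := by
      rintro _ ⟨a, ha, rfl⟩
      apply hET1 _ a.2.1
      · exact (Subgroup.mem_centralizer_iff.mp a.2.2 x rfl).symm
      · have := hAexp a ha
        have h2 := congrArg Subtype.val this
        simpa using h2
    calc Nat.card A = Nat.card (A.map (T ⊓ Subgroup.centralizer {x}).subtype) :=
          (Subgroup.card_map_of_injective (Subgroup.subtype_injective _)).symm
      _ ≤ Nat.card ↥(E ⊓ T) := Subgroup.card_le_of_le hAle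
      _ ≤ p := hETcard
  · intro b hb
    exact Subgroup.mem_centralizer_iff.mp hb.2 x rfl
  · intro c hc
    have hcmem : c ∈ Subgroup.zpowers x ⊔ T := by rw [hsup]; exact Subgroup.mem_top c
    have hset : (↑(Subgroup.zpowers x ⊔ T) : Set R) =
        ((Subgroup.zpowers x : Subgroup R) : Set R) * (T : Set R) :=
      Subgroup.mul_normal _ _
    have hcmem' : c ∈ ((Subgroup.zpowers x : Subgroup R) : Set R) * (T : Set R) := by
      rw [← hset]
      exact hcmem
    obtain ⟨a, ha, t, ht, rfl⟩ := Set.mem_mul.mp hcmem'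
    apply Subgroup.mul_mem
    · exact le_sup_left (a := Subgroup.zpowers x) ha
    · apply le_sup_right (a := Subgroup.zpowers x)
      refine ⟨ht, ?_⟩
      have ha' : a ∈ Subgroup.centralizer ({x} : Set R) := by
        obtain ⟨i, rfl⟩ := Subgroup.mem_zpowers_iff.mp ha
        rw [Subgroup.mem_centralizer_iff]
        intro y hy
        rw [Set.mem_singleton_iff] at hy
        rw [hy]
        exact ((Commute.refl x).zpow_right i).eq
      have : t = a⁻¹ * (a * t) := by group
      rw [this]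
      exact Subgroup.mul_mem _ (Subgroup.inv_mem _ ha') hc

/-- in a `p`-group of rank at least three the centralizer of a maximal elementary abelian subgroup
of order `p ^ 2` is abelian -/
theorem cent_comm_of_max_sq [Finite R] (p : ℕ) [hp : Fact p.Prime] (hp2 : p ≠ 2)
    (hR : IsPGroup p R) (hr : ¬ Cfsg.PRankLE p 2 R) (E : Subgroup R)
    (hE : Cfsg.IsElementaryAbelian p E) (hE2 : Nat.card E = p ^ 2)
    (hEmax : ∀ B : Subgroup R, Cfsg.IsElementaryAbelian p B → E ≤ B → B = E) :
    ∀ a ∈ Subgroup.centralizer (E : Set R), ∀ b ∈ Subgroup.centralizer (E : Set R),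
      a * b = b * a := by
  obtain ⟨x, hxE, R₁, hcyc, hxR₁, hcent⟩ := narrow_struct p hp2 hR hr E hE hE2 hEmax
  have hnorm : R₁ ≤ Subgroup.normalizer ((Subgroup.zpowers x : Subgroup R) : Set R) := by
    intro b hb
    apply Subgroup.centralizer_le_normalizer
    rw [Subgroup.mem_centralizer_iff]
    intro y hy
    obtain ⟨i, rfl⟩ := Subgroup.mem_zpowers_iff.mp hy
    have hc : Commute x b := hxR₁ b hb
    exact (hc.zpow_left i).eq
  have hdec : ∀ a ∈ Subgroup.centralizer (E : Set R), ∃ i : ℤ, ∃ r ∈ R₁, a = x ^ i * r := by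
    intro a ha
    have h1 : a ∈ Subgroup.centralizer ({x} : Set R) := by
      rw [Subgroup.mem_centralizer_iff]
      intro y hy
      rw [Set.mem_singleton_iff] at hy
      rw [hy]
      exact Subgroup.mem_centralizer_iff.mp ha x hxE
    obtain ⟨k, hk, r, hr, hkr⟩ :=
      Cfsg.Agent.Lib.Helper11.ExcF.exists_mul_of_mem_sup _ _ hnorm a (hcent h1)
    obtain ⟨i, rfl⟩ := Subgroup.mem_zpowers_iff.mp hk
    exact ⟨i, r, hr, hkr⟩
  have hR₁comm : ∀ r ∈ R₁, ∀ s ∈ R₁, r * s = s * r := by
    intro r hr s hs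
    letI := IsCyclic.commGroup (α := ↥R₁)
    have := mul_comm (⟨r, hr⟩ : ↥R₁) ⟨s, hs⟩
    exact congrArg Subtype.val this
  intro a ha b hb
  obtain ⟨i, r, hr, rfl⟩ := hdec a ha
  obtain ⟨j, s, hs, rfl⟩ := hdec b hb
  have h1 : Commute (x ^ i) s := (show Commute x s from hxR₁ s hs).zpow_left i
  have h2 : Commute (x ^ j) r := (show Commute x r from hxR₁ r hr).zpow_left j
  have h3 : Commute (x ^ i) (x ^ j) := (Commute.refl x).zpow_zpow i j
  calc x ^ i * r * (x ^ j * s) = x ^ i * (r * x ^ j) * s := by group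
    _ = x ^ i * (x ^ j * r) * s := by rw [h2.eq]
    _ = x ^ i * x ^ j * (r * s) := by group
    _ = x ^ j * x ^ i * (s * r) := by rw [h3.eq, hR₁comm r hr s hs]
    _ = x ^ j * (x ^ i * s) * r := by group
    _ = x ^ j * (s * x ^ i) * r := by rw [h1.eq]
    _ = x ^ j * s * (x ^ i * r) := by group

end Narrow

section InG

open Cfsg Cfsg.Agent.Lib Cfsg.Agent.Lib.Helper18
open Cfsg.Agent.Lib.Helper11.BenderM Cfsg.Agent.Lib.Helper11.BenderN
  Cfsg.Agent.Lib.Helper11.BenderO Cfsg.Agent.Lib.Helper11.BenderE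
  Cfsg.Agent.Lib.Helper11.BenderF Cfsg.Agent.Lib.Helper11.BenderL
  Cfsg.Agent.Lib.Helper11.BenderS Cfsg.Agent.Lib.Helper11.MaxSubB
  Cfsg.Agent.Lib.Helper11.MaxSubD
  Cfsg.Agent.Lib.Helper11.BenderI Cfsg.Agent.Lib.Helper11.BenderP
  Cfsg.Agent.Lib.Helper1.BG12 Cfsg.Agent.Lib.Helper11.ExcA Cfsg.Agent.Lib.Helper11.ExcB
  Cfsg.Agent.Lib.Helper11.ExcC Cfsg.Agent.Lib.Helper11.ExcD Cfsg.Agent.Lib.Helper11.ExcE
  Cfsg.Agent.Lib.Helper11.ExcF Cfsg.Agent.Lib.Helper11.ExcG Cfsg.Agent.Lib.Helper11.ExcH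
  Cfsg.Agent.Lib.Helper11.ExcI

universe u

variable {G : Type u} [Group G] [Finite G]

/-- the rank two case: in a Sylow `p`-subgroup `S` of `G` of rank at most two, the centralizer of
a maximal elementary abelian subgroup of order `p ^ 2` is abelian -/
theorem rank_two_cent_comm (hG : Cfsg.IsMinSimpleOddOrder G) (p : ℕ) [hp : Fact p.Prime]
    (S : Sylow p G) (hr : Cfsg.PRankLE p 2 (S : Subgroup G)) (A : Subgroup G)
    (hAS : A ≤ (S : Subgroup G)) (hAe : Cfsg.IsElementaryAbelian p A)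
    (hmax : ∀ B : Subgroup G, Cfsg.IsElementaryAbelian p B → A ≤ B → B = A) :
    ∀ a ∈ (S : Subgroup G) ⊓ Subgroup.centralizer (A : Set G),
      ∀ b ∈ (S : Subgroup G) ⊓ Subgroup.centralizer (A : Set G), a * b = b * a := by
  rcases Cfsg.Agent.S1412.result hG p S hr with hab | ⟨P₁, P₂, hsup, hcomm, -, -, hexp, hcyc, hcl⟩
  · intro a ha b hb
    have := hab.is_comm.comm (⟨a, ha.1⟩ : ↥(S : Subgroup G)) ⟨b, hb.1⟩
    exact congrArg Subtype.val this
  · have hP₁exp : ∀ u ∈ P₁, u ^ p = 1 := by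
      intro u hu
      have := Monoid.pow_exponent_eq_one (⟨u, hu⟩ : ↥P₁)
      rw [hexp] at this
      exact congrArg Subtype.val this
    have hnorm : P₂ ≤ Subgroup.normalizer (P₁ : Set G) := by
      intro v hv
      apply Subgroup.centralizer_le_normalizer
      rw [Subgroup.mem_centralizer_iff]
      intro u hu
      exact hcomm u hu v hv
    have hdec : ∀ s ∈ (S : Subgroup G), ∃ u ∈ P₁, ∃ v ∈ P₂, s = u * v := by
      intro s hs
      rw [← hsup] at hs
      exact exists_mul_of_mem_sup P₁ P₂ hnorm s hs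
    -- elements of order `p` of `S` lie in `P₁`
    have hord : ∀ s ∈ (S : Subgroup G), s ^ p = 1 → s ∈ P₁ := by
      intro s hs hsp
      obtain ⟨u, hu, v, hv, rfl⟩ := hdec s hs
      have hc : Commute u v := hcomm u hu v hv
      rw [hc.mul_pow, hP₁exp u hu, one_mul] at hsp
      have hv' : v ∈ P₁ ⊓ Subgroup.centralizer (P₁ : Set G) := by
        rw [← hcl]
        exact Subgroup.subset_closure ⟨hv, hsp⟩
      exact P₁.mul_mem hu hv'.1
    have hAP₁ : A ≤ P₁ := fun a ha => hord a (hAS ha) (hAe.2 a ha)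
    -- the centralizer of `A` in `P₁` is `A`
    have hC₁ : ∀ u ∈ P₁, (∀ a ∈ A, u * a = a * u) → u ∈ A := fun u hu hua =>
      mem_of_max p A hAe hmax u hua (hP₁exp u hu)
    have hdec' : ∀ s ∈ (S : Subgroup G) ⊓ Subgroup.centralizer (A : Set G),
        ∃ a ∈ A, ∃ v ∈ P₂, s = a * v := by
      intro s hs
      obtain ⟨u, hu, v, hv, rfl⟩ := hdec s hs.1
      refine ⟨u, hC₁ u hu ?_, v, hv, rfl⟩
      intro a ha
      have h1 : a * (u * v) = u * v * a := Subgroup.mem_centralizer_iff.mp hs.2 a ha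
      have h2 : a * v = v * a := hcomm a (hAP₁ ha) v hv
      calc u * a = u * (a * v) * v⁻¹ := by group
        _ = u * (v * a) * v⁻¹ := by rw [h2]
        _ = (u * v * a) * v⁻¹ := by group
        _ = a * (u * v) * v⁻¹ := by rw [h1]
        _ = a * u := by group
    have hP₂comm : ∀ r ∈ P₂, ∀ t ∈ P₂, r * t = t * r := by
      intro r hr t ht
      letI := IsCyclic.commGroup (α := ↥P₂)
      have := mul_comm (⟨r, hr⟩ : ↥P₂) ⟨t, ht⟩
      exact congrArg Subtype.val this
    have hAcomm := elemAb_comm hAe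
    intro s hs t ht
    obtain ⟨a, ha, v, hv, rfl⟩ := hdec' s hs
    obtain ⟨b, hb, w, hw, rfl⟩ := hdec' t ht
    have h1 : v * b = b * v := (hcomm b (hAP₁ hb) v hv).symm
    have h2 : w * a = a * w := (hcomm a (hAP₁ ha) w hw).symm
    calc a * v * (b * w) = a * (v * b) * w := by group
      _ = a * (b * v) * w := by rw [h1]
      _ = a * b * (v * w) := by group
      _ = b * a * (w * v) := by rw [hAcomm a ha b hb, hP₂comm v hv w hw]
      _ = b * (a * w) * v := by group
      _ = b * (w * a) * v := by rw [h2]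
      _ = b * w * (a * v) := by group

/-- for every Sylow `p`-subgroup of `M` some element of its normalizer lies outside `M` -/
theorem exists_normalizer_not_mem {M : Subgroup G} {p : ℕ} {A₀ A : Subgroup G} (hp : p.Prime)
    (h : Exc M p A₀ A) (P : Subgroup G) (hP : IsSylowIn p P M) :
    ∃ g ∈ Subgroup.normalizer (P : Set G), g ∉ M := by
  haveI : Fact p.Prime := ⟨hp⟩
  obtain ⟨hM, hpσ, hAM, hAe, hAc, -, -, -⟩ := h
  obtain ⟨P₀, hP₀⟩ := hP.exists_sylow
  have hmap : (P₀ : Subgroup ↥M).map M.subtype = P := by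
    rw [hP₀, Subgroup.map_subgroupOf_eq_of_le hP.le]
  have hpM : p ∣ Nat.card M := by
    have h1 : Nat.card A ∣ Nat.card M := Subgroup.card_dvd_of_le hAM
    rw [hAc] at h1
    exact (dvd_pow_self p (by norm_num)).trans h1
  have hnot : ¬ Subgroup.normalizer (P : Set G) ≤ M := by
    intro hle
    apply hpσ
    refine ⟨hp, hpM, P₀, ?_⟩
    rw [hmap]
    exact hle
  obtain ⟨g, hg, hgM⟩ := SetLike.not_le_iff_exists.mp hnot
  exact ⟨g, hg, hgM⟩

/-- **B & G, Lemma 11.6 (a)** -/
theorem hyp116 (hG : Cfsg.IsMinSimpleOddOrder G)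
    (h36 : ∀ M : Subgroup G, IsCoatom M → Thm36 ↥M) {M : Subgroup G} {p : ℕ}
    {A₀ A : Subgroup G} (hp : p.Prime) (h : Exc M p A₀ A) (P : Subgroup G)
    (hP : IsSylowIn p P M) (hAP : A ≤ P) : ∀ x ∈ P, x ^ p = 1 → x ∈ A := by
  obtain ⟨g, hgP, hgM⟩ := exists_normalizer_not_mem hp h P hP
  exact (omega_eq hG h36 hp h P hP hAP g hgP hgM).1

/-- a Sylow `p`-subgroup of `M` containing `A` is abelian -/
theorem sylow_comm_of_le (hG : Cfsg.IsMinSimpleOddOrder G)
    (h36 : ∀ M : Subgroup G, IsCoatom M → Thm36 ↥M) {M : Subgroup G} {p : ℕ}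
    {A₀ A : Subgroup G} (hp : p.Prime) (h : Exc M p A₀ A) (P : Subgroup G)
    (hP : IsSylowIn p P M) (hAP : A ≤ P) : ∀ a ∈ P, ∀ b ∈ P, a * b = b * a := by
  haveI : Fact p.Prime := ⟨hp⟩
  have hAe : Cfsg.IsElementaryAbelian p A := h.2.2.2.1
  have hAc : Nat.card A = p ^ 2 := h.2.2.2.2.1
  have hmax := exc_max hG hp h
  obtain ⟨g, hgP, hgM⟩ := exists_normalizer_not_mem hp h P hP
  have hPA := le_center hG h36 hp h P hP hAP g hgP hgM
  obtain ⟨S, hPS⟩ := hP.isPGroup.exists_le_sylow
  have hp2 : p ≠ 2 := by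
    rintro rfl
    have h1 : Nat.card A ∣ Nat.card G := Subgroup.card_subgroup_dvd_card _
    rw [hAc] at h1
    have h2 : 2 ∣ Nat.card G := (dvd_pow_self 2 (by norm_num)).trans h1
    exact (Nat.not_even_iff_odd.mpr hG.1) (even_iff_two_dvd.mpr h2)
  by_cases hr : Cfsg.PRankLE p 2 (S : Subgroup G)
  · have key := rank_two_cent_comm hG p S hr A (hAP.trans hPS) hAe hmax
    intro a ha b hb
    exact key a ⟨hPS ha, hPA ha⟩ b ⟨hPS hb, hPA hb⟩
  · have hAS : A ≤ (S : Subgroup G) := hAP.trans hPS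
    have hE : Cfsg.IsElementaryAbelian p (A.subgroupOf (S : Subgroup G)) :=
      Cfsg.Agent.Lib.Helper5.elemAb_comap_of_injective _ (Subgroup.subtype_injective _) hAe
    have hE2 : Nat.card (A.subgroupOf (S : Subgroup G)) = p ^ 2 := by
      rw [Nat.card_congr (Subgroup.subgroupOfEquivOfLe hAS).toEquiv, hAc]
    have hEmax : ∀ B : Subgroup ↥(S : Subgroup G), Cfsg.IsElementaryAbelian p B →
        A.subgroupOf (S : Subgroup G) ≤ B → B = A.subgroupOf (S : Subgroup G) := by
      intro B hBe hAB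
      have h1 : Cfsg.IsElementaryAbelian p (B.map (S : Subgroup G).subtype) :=
        Cfsg.Agent.Lib.Helper5.elemAb_map _ hBe
      have h2 : A ≤ B.map (S : Subgroup G).subtype := by
        intro a ha
        exact ⟨⟨a, hAS ha⟩, hAB (Subgroup.mem_subgroupOf.mpr ha), rfl⟩
      have h3 := hmax _ h1 h2
      ext y
      rw [Subgroup.mem_subgroupOf, ← h3]
      constructor
      · intro hy
        exact ⟨y, hy, rfl⟩
      · rintro ⟨z, hz, hzy⟩
        have : z = y := Subtype.ext hzy
        rwa [← this]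
    have key := cent_comm_of_max_sq p hp2 S.isPGroup' hr _ hE hE2 hEmax
    have hcent : ∀ a (ha : a ∈ P), (⟨a, hPS ha⟩ : ↥(S : Subgroup G)) ∈
        Subgroup.centralizer ((A.subgroupOf (S : Subgroup G) : Subgroup ↥(S : Subgroup G)) :
          Set ↥(S : Subgroup G)) := by
      intro a ha
      rw [Subgroup.mem_centralizer_iff]
      intro e he
      apply Subtype.ext
      exact Subgroup.mem_centralizer_iff.mp (hPA ha) e (Subgroup.mem_subgroupOf.mp he)
    intro a ha b hb
    have := key _ (hcent a ha) _ (hcent b hb)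
    exact congrArg Subtype.val this

/-- **B & G, Lemma 11.5**: every Sylow `p`-subgroup of `M` is abelian -/
theorem hyp115 (hG : Cfsg.IsMinSimpleOddOrder G)
    (h36 : ∀ M : Subgroup G, IsCoatom M → Thm36 ↥M) {M : Subgroup G} {p : ℕ}
    {A₀ A : Subgroup G} (hp : p.Prime) (h : Exc M p A₀ A) (P : Subgroup G)
    (hP : IsSylowIn p P M) : IsMulCommutative P := by
  haveI : Fact p.Prime := ⟨hp⟩
  have hAp : IsPGroup p A := IsPGroup.of_card h.2.2.2.2.1
  obtain ⟨x, hx, hle⟩ := hP.exists_conj_le h.2.2.1 hAp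
  have h' := exc_conj h x hx
  have key := sylow_comm_of_le hG h36 hp h' P hP hle
  exact ⟨⟨fun a b => Subtype.ext (key a a.2 b b.2)⟩⟩

end InG

end Cfsg.Agent.Lib.Helper11.ExcJ
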