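import Mathlib
import Cfsg.Agent.Lib.Helper18.SylowIn
import Cfsg.Agent.Lib.Helper1.BG10.TenSix
import Cfsg.Agent.Lib.Helper11.BenderF

set_option autoImplicit false

namespace Cfsg.Agent.Lib.Helper11.JsubA

open Cfsg Cfsg.Agent.Lib.Helper18

variable {G : Type*} [Group G] [Finite G]

/-- a Sylow `p`-subgroup of `K` is Sylow in `L = N K` when `p ∤ |N|` -/
theorem sylow_of_factor {p : ℕ} [hp : Fact p.Prime] {L N K P : Subgroup G} (hNL : N ≤ L)
    (hKL : K ≤ L) (hN : L ≤ Subgroup.normalizer (N : Set G)) (hpN : ¬ p ∣ Nat.card N)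
    (hL : L ≤ N ⊔ K) (hP : IsSylowIn p P K) : IsSylowIn p P L := by
  refine ⟨hP.le.trans hKL, hP.isPGroup, ?_⟩
  have hLeq : L = K ⊔ N := le_antisymm (hL.trans (by rw [sup_comm])) (sup_le hKL hNL)
  have h1 : K.relIndex L = K.relIndex N := by
    rw [hLeq]
    exact relIndex_sup_of_le_normalizer K N (hKL.trans hN)
  rw [← Subgroup.relIndex_mul_relIndex P K L hP.le hKL, h1]
  intro hd
  rcases (Nat.Prime.dvd_mul hp.out).mp hd with h | h
  · exact hP.not_dvd h
  · exact hpN (h.trans (Subgroup.relIndex_dvd_card K N))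

/-- the `p`-rank of `L = N K` is at most one if that of `K` is and `p ∤ |N|` -/
theorem pRankLE_one_of_factor {p : ℕ} [hp : Fact p.Prime] {L N K : Subgroup G} (hNL : N ≤ L)
    (hKL : K ≤ L) (hN : L ≤ Subgroup.normalizer (N : Set G)) (hpN : ¬ p ∣ Nat.card N)
    (hL : L ≤ N ⊔ K) (hK : Cfsg.PRankLE p 1 ↥K) : Cfsg.PRankLE p 1 ↥L := by
  obtain ⟨P₀⟩ : Nonempty (Sylow p ↥K) := inferInstance
  have hP : IsSylowIn p ((P₀ : Subgroup ↥K).map K.subtype) K := isSylowIn_of_sylow P₀
  have hPL := sylow_of_factor hNL hKL hN hpN hL hP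
  intro A hAc hAe
  have hA1 : Cfsg.IsElementaryAbelian p (A.map L.subtype) := by
    refine ⟨⟨⟨?_⟩⟩, ?_⟩
    · rintro ⟨_, a, ha, rfl⟩ ⟨_, b, hb, rfl⟩
      apply Subtype.ext
      have := hAc.is_comm.comm (⟨a, ha⟩ : A) ⟨b, hb⟩
      have h2 := congrArg Subtype.val this
      simp only [Subgroup.coe_mul] at h2
      simp only [Subgroup.coe_mul, Subgroup.coe_subtype]
      exact_mod_cast congrArg Subtype.val h2
    · rintro _ ⟨a, ha, rfl⟩
      have := hAe a ha
      have h2 := congrArg Subtype.val this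
      simpa using h2
  have hAL : A.map L.subtype ≤ L := Subgroup.map_subtype_le _
  have hAp : IsPGroup p (A.map L.subtype) := by
    intro x
    refine ⟨1, ?_⟩
    apply Subtype.ext
    rw [pow_one, Subgroup.coe_pow]
    exact hA1.2 x x.2
  obtain ⟨x, -, hle⟩ := hPL.exists_conj_le hAL hAp
  have hle' : conjSub x (A.map L.subtype) ≤ K := hle.trans hP.le
  have h3 := Cfsg.Agent.Lib.Helper1.BG10.pRankLE_card_le hK hle'
    (Cfsg.Agent.Lib.Helper11.BenderF.elemAb_conjSub p x hA1)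
  rw [card_conjSub, Subgroup.card_map_of_injective L.subtype_injective] at h3
  exact h3

end Cfsg.Agent.Lib.Helper11.JsubA
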