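import Mathlib
import Cfsg.Agent.S1414
import Cfsg.Agent.Lib.Helper11.JsubA
import Cfsg.Agent.Lib.Helper1.BG12.SigmaDisjoint

set_option autoImplicit false

namespace Cfsg.Agent.Lib.Helper11.JsubB

open Cfsg Cfsg.Agent.Lib.Helper18

variable {G : Type*} [Group G] [Finite G]

/-- a normal `p'`-subgroup `N` of `K`, normalized by `L`, containing every subgroup of `K` of order prime
to `p`, when `K` has a normal `p`-complement -/
theorem exists_pcompl_of (K L : Subgroup G) (hKn : L ≤ Subgroup.normalizer (K : Set G))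
    {p : ℕ} [hp : Fact p.Prime] (h : Cfsg.HasNormalPComplement p ↥K) :
    ∃ N : Subgroup G, N ≤ K ∧ L ≤ Subgroup.normalizer (N : Set G) ∧
      ¬ p ∣ Nat.card N ∧
      ∀ X : Subgroup G, X ≤ K → (Nat.card X).Coprime p → X ≤ N := by
  obtain ⟨P, Nc, hNn, hNc⟩ := h
  have hidx : Nc.index = Nat.card (P : Subgroup ↥K) := hNc.symm.index_eq_card
  have hcardN : Nat.card Nc = (P : Subgroup ↥K).index := hNc.index_eq_card.symm
  obtain ⟨k, hk⟩ := IsPGroup.iff_card.mp P.isPGroup'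
  obtain ⟨N, hN⟩ : ∃ N : Subgroup G, N = Nc.map K.subtype := ⟨_, rfl⟩
  have hNle : N ≤ K := by rw [hN]; exact Subgroup.map_subtype_le _
  have hNcard : Nat.card N = Nat.card Nc := by
    rw [hN]; exact Subgroup.card_map_of_injective K.subtype_injective
  have hpN : ¬ p ∣ Nat.card N := by
    rw [hNcard, hcardN]
    exact P.not_dvd_index
  have hNK : K ≤ Subgroup.normalizer (N : Set G) := by
    rw [hN]; exact Cfsg.Agent.Lib.Helper1.BG12.map_normal_le_normalizer K Nc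
  have hrel : N.relIndex K = Nc.index := by
    unfold Subgroup.relIndex
    congr 1
    rw [hN]
    ext x
    simp [Subgroup.mem_subgroupOf]
  have hmax : ∀ X : Subgroup G, X ≤ K → (Nat.card X).Coprime p → X ≤ N := by
    intro X hX hcop
    apply Cfsg.Agent.Lib.Helper1.BG12.le_of_normal_coprime K N X hNle hNK hX
    rw [hrel, hidx, hk]
    exact Nat.Coprime.pow_right k hcop
  refine ⟨N, hNle, ?_, hpN, hmax⟩
  intro g hg
  apply Helper18.mem_normalizer_of_conjSub_le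
  apply hmax
  · intro x hx
    rw [Helper18.mem_conjSub] at hx
    have h1 := hNle hx
    have h2 := (Subgroup.mem_normalizer_iff.mp (hKn hg) (g⁻¹ * x * g)).mp h1
    have e : g * (g⁻¹ * x * g) * g⁻¹ = x := by group
    rwa [e] at h2
  · rw [Helper18.card_conjSub]
    exact ((Nat.Prime.coprime_iff_not_dvd hp.out).mpr hpN).symm

/-- the case `K = L_σ` (for `p ∣ |L|`, `p ∉ β(L)`) -/
theorem exists_sigma_pcompl (hG : Cfsg.IsMinSimpleOddOrder G) {L : Subgroup G} (hL : IsCoatom L)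
    {p : ℕ} [hp : Fact p.Prime] (hpL : p ∣ Nat.card L) (hpβ : p ∉ Cfsg.beta L) :
    ∃ N : Subgroup G, N ≤ Cfsg.sigmaCore L ∧ L ≤ Subgroup.normalizer (N : Set G) ∧
      ¬ p ∣ Nat.card N ∧
      ∀ X : Subgroup G, X ≤ Cfsg.sigmaCore L → (Nat.card X).Coprime p → X ≤ N :=
  exists_pcompl_of (Cfsg.sigmaCore L) L (Cfsg.Agent.Lib.Helper1.BG12.le_normalizer_sigmaCore L)
    ((Cfsg.Agent.S1414.result hG L hL).2.2.2.2 p hp.out hpL hpβ).2.1

/-- covering `L` by a normal `p'`-subgroup and `M ⊓ L` when a Sylow `q`-subgroup `S` of `L`, `q ∈ σ(L)`,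
has its normalizer in `M` -/
theorem cover_of_sigma (hG : Cfsg.IsMinSimpleOddOrder G) {L M : Subgroup G} (hL : IsCoatom L)
    {q p : ℕ} [hq : Fact q.Prime] [hp : Fact p.Prime] (hqL : q ∈ Cfsg.sigma L) (hpq : p ≠ q)
    (hpβ : p ∉ Cfsg.beta L) {S : Subgroup G} (hS : IsSylowIn q S L)
    (hNS : Subgroup.normalizer (S : Set G) ≤ M) :
    ∃ N : Subgroup G, N ≤ L ∧ L ≤ Subgroup.normalizer (N : Set G) ∧ ¬ p ∣ Nat.card N ∧
      L ≤ N ⊔ (M ⊓ L) := by
  by_cases hpL : p ∣ Nat.card L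
  · obtain ⟨N, hNσ, hNn, hpN, hmax⟩ := exists_sigma_pcompl hG hL hpL hpβ
    have hSσ : S ≤ Cfsg.sigmaCore L :=
      Cfsg.Agent.Lib.Helper1.BG12.pgroup_le_sigmaCore hG L hL q hqL S hS.le hS.isPGroup
    have hSN : S ≤ N := by
      apply hmax S hSσ
      obtain ⟨k, hk⟩ := IsPGroup.iff_card.mp hS.isPGroup
      rw [hk]
      exact Nat.Coprime.pow_left k ((Nat.coprime_primes hq.out hp.out).mpr (Ne.symm hpq))
    have hNL : N ≤ L := hNσ.trans (Cfsg.Agent.Lib.Helper1.BG12.sigmaCore_le L)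
    have hSylN : IsSylowIn q S N := hS.of_le hSN hNL
    refine ⟨N, hNL, hNn, hpN, ?_⟩
    intro g hg
    obtain ⟨n, hn, hng⟩ := hSylN.frattini (hNn hg)
    have h1 : n * g ∈ M ⊓ L := ⟨hNS hng, L.mul_mem (hNL hn) hg⟩
    have e : g = n⁻¹ * (n * g) := by group
    rw [e]
    exact Subgroup.mul_mem _ (Subgroup.mem_sup_left (N.inv_mem hn)) (Subgroup.mem_sup_right h1)
  · refine ⟨L, le_refl L, Subgroup.le_normalizer, hpL, le_sup_left⟩

end Cfsg.Agent.Lib.Helper11.JsubB
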