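import Mathlib
import Cfsg.Agent.S1414
import Cfsg.Agent.S1416
import Cfsg.Agent.S1417
import Cfsg.Agent.Lib.Helper11.JsubB
import Cfsg.Agent.Lib.Helper11.ExcG
import Cfsg.Agent.Lib.Helper28.BGtH
import Cfsg.Agent.Lib.Helper11.ExcF
import Cfsg.Agent.Lib.Helper18.BGTwelveA

set_option autoImplicit false

namespace Cfsg.Agent.Lib.Helper11.JsubC

open Cfsg Cfsg.Agent.Lib.Helper18 Cfsg.Agent.Lib.Helper28.BGt

variable {G : Type*} [Group G] [Finite G]

theorem t1416 (hG : Cfsg.IsMinSimpleOddOrder G) : T1416 G :=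
  fun M hM p _ A hA => Cfsg.Agent.S1416.result hG M hM p A hA

theorem t1417 (hG : Cfsg.IsMinSimpleOddOrder G) : T1417 G :=
  fun M hM p _ hp A hA => Cfsg.Agent.S1417.result hG M hM p hp A hA

/-- `q ∈ τ₂(L)` when a nontrivial `q`-subgroup has its normalizer in `L` and `q ∉ σ(L)` -/
theorem tau2_of_normalizer_le (hG : Cfsg.IsMinSimpleOddOrder G) {L : Subgroup G} (hL : IsCoatom L)
    {q : ℕ} [hq : Fact q.Prime] (hqL : q ∉ Cfsg.sigma L) {Y S : Subgroup G} (hY1 : Y ≠ ⊥)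
    (hNY : Subgroup.normalizer (Y : Set G) ≤ L) (hYS : Y ≤ S) (hS : IsSylowIn q S L) :
    q ∈ Cfsg.tau2 L := by
  have hS1 : S ≠ ⊥ := fun h => hY1 (le_bot_iff.mp (h ▸ hYS))
  have hq2 : q ≠ 2 := Cfsg.Agent.Lib.Helper11.BenderD.odd_prime_of_pgroup hG q S hS1 hS.isPGroup
  refine ⟨hq.out, hqL, ?_, ?_⟩
  · by_contra h
    exact hqL (Cfsg.Agent.Lib.Helper11.BenderN.alpha_sub_sigma hG L hL q ⟨hq.out, h⟩)
  · intro h
    have hSr : Cfsg.PRankLE q 1 ↥S := Cfsg.Agent.Lib.Helper11.RankTwoTower.prank_of_le hS.le h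
    have hcyc : IsCyclic ↥S :=
      Cfsg.Agent.Lib.Helper11.BenderQ.isCyclic_of_pRankLE_one q hq2 hS.isPGroup hSr
    have hNS : Subgroup.normalizer (S : Set G) ≤ L :=
      (Cfsg.Agent.Lib.Helper18.BGTwelveA.normalizer_le_of_isCyclic S Y hcyc hYS).trans hNY
    exact hqL (Cfsg.Agent.Lib.Helper1.BG12.sigma_of_good L q S
      (Cfsg.Agent.Lib.Helper11.BenderM.good_of_sigma L q S hS hNS) hS1)

/-- a complement `E` of `L_σ` in `L` and an `E_{q²}` subgroup `A ≤ E ⊓ S`, for `q ∈ τ₂(L)` and `S` a Sylow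
`q`-subgroup of `L` -/
theorem exists_ctx (hG : Cfsg.IsMinSimpleOddOrder G) {L : Subgroup G} (hL : IsCoatom L)
    {q : ℕ} [hq : Fact q.Prime] (hτ : q ∈ Cfsg.tau2 L) {S : Subgroup G} (hS : IsSylowIn q S L) :
    ∃ E A : Subgroup G, Tau2Ctx L E q A ∧ A ≤ S := by
  obtain ⟨E₀, hE₀⟩ := Cfsg.Agent.Lib.Helper18.BGTwelveA.exists_complIn_sigmaCore hG L hL
  obtain ⟨B, hBE, hBe, hB2⟩ := exists_sq_le_compl hG hL hE₀ hτ
  have hBq : IsPGroup q B := IsPGroup.of_card hB2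
  obtain ⟨x, hx, hle⟩ := hS.exists_conj_le (hBE.trans hE₀.1) hBq
  refine ⟨Helper18.conjSub x E₀, Helper18.conjSub x B, ⟨hG, t1416 hG, t1417 hG, hL, compl_conj hE₀ hx, hτ,
    Helper18.conjSub_mono hBE, Cfsg.Agent.Lib.Helper11.BenderF.elemAb_conjSub q x hBe, ?_⟩, hle⟩
  rw [Helper18.card_conjSub, hB2]

/-- **B & G, Lemma 12.16(e)**, first half: `L_σ (M ⊓ L) = L` -/
theorem compl_le (hG : Cfsg.IsMinSimpleOddOrder G) {M L : Subgroup G} (hM : IsCoatom M)
    {q : ℕ} [hq : Fact q.Prime] {E A S : Subgroup G} (c : Tau2Ctx L E q A) (hAS : A ≤ S)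
    (hSM : S ≤ M) (hS : IsSylowIn q S L) (hNS : Subgroup.normalizer (S : Set G) ≤ M) : E ≤ M := by
  have hAM : A ≤ M := hAS.trans hSM
  have hCM : Subgroup.centralizer (A : Set G) ≤ M :=
    (Cfsg.Agent.S1416.result hG M hM q A ⟨hAM, c.hAe, c.hA2⟩).1
  have hCL : Subgroup.centralizer (A : Set G) ≤ L := c.cent_le
  obtain ⟨hcomm, -, -⟩ := c.sylow_data hAS hS
  have hSC : S ≤ Subgroup.centralizer (A : Set G) := by
    intro s hs
    rw [Subgroup.mem_centralizer_iff]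
    intro a ha
    exact hcomm a (hAS ha) s hs
  have hSyl : IsSylowIn q S (Subgroup.centralizer (A : Set G)) := hS.of_le hSC hCL
  intro g hg
  have hgN : g ∈ Subgroup.normalizer ((Subgroup.centralizer (A : Set G) : Subgroup G) : Set G) :=
    Cfsg.Agent.Lib.Helper11.ExcG.normalizer_le_normalizer_centralizer A (c.E_le_normalizer hg)
  obtain ⟨n, hn, hng⟩ := hSyl.frattini hgN
  have e : g = n⁻¹ * (n * g) := by group
  rw [e]
  exact M.mul_mem (M.inv_mem (hCM hn)) (hNS hng)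

omit [Finite G] in
/-- a `p`-subgroup meets a subgroup of order prime to `p` trivially -/
theorem inf_eq_bot_of_coprime {p : ℕ} {H K : Subgroup G} (hH : IsPGroup p H)
    (hK : (Nat.card K).Coprime p) : H ⊓ K = ⊥ := by
  rw [eq_bot_iff]
  rintro x ⟨hxH, hxK⟩
  rw [Subgroup.mem_bot]
  obtain ⟨k, hk⟩ := hH ⟨x, hxH⟩
  have hk' : x ^ p ^ k = 1 := by simpa using congrArg Subtype.val hk
  have h1 : orderOf x ∣ p ^ k := orderOf_dvd_of_pow_eq_one hk'
  have h2 : orderOf x ∣ Nat.card K := by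
    have := orderOf_dvd_natCard (⟨x, hxK⟩ : K)
    rwa [← Subgroup.orderOf_coe] at this
  have h3 : orderOf x = 1 := Nat.eq_one_of_dvd_coprimes (Nat.Coprime.pow_right k hK) h2 h1
  exact orderOf_eq_one_iff.mp h3

/-- **B & G, Lemma 12.16(e)**, second half (for the prime needed): a prime `p ∈ π(M) ∖ σ(M)` which is not
ideal does not lie in `σ(L)` -/
theorem not_sigma_over (hG : Cfsg.IsMinSimpleOddOrder G) {M L : Subgroup G} (hM : IsCoatom M)
    {q p : ℕ} [hq : Fact q.Prime] [hp : Fact p.Prime] {E A : Subgroup G} (c : Tau2Ctx L E q A)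
    (hqM : q ∈ Cfsg.sigma M) (hAM : A ≤ M) (hpM : p ∣ Nat.card M) (hpσ : p ∉ Cfsg.sigma M)
    (hpi : ¬ Cfsg.IsIdealPrime p G) : p ∉ Cfsg.sigma L := by
  intro hpL
  have hL := c.hM
  have hAL : A ≤ L := c.hAM
  have hAq : IsPGroup q A := c.isPGroup_A
  -- the Sylow `p`-subgroup `T` of `L_σ`
  obtain ⟨T, hT⟩ := Cfsg.Agent.Lib.Helper11.BenderM.exists_good_of_sigma L p hpL
  have hT1 : T ≠ ⊥ := Cfsg.Agent.Lib.Helper1.BG12.good_ne_bot hT hpL.2.1
  have hTσ : T ≤ Cfsg.sigmaCore L :=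
    Cfsg.Agent.Lib.Helper1.BG12.pgroup_le_sigmaCore hG L hL p hpL T hT.1.le hT.1.isPGroup
  have hnil : Group.IsNilpotent ↥(Cfsg.sigmaCore L) := c.t17.1
  have hTn : L ≤ Subgroup.normalizer (T : Set G) :=
    Cfsg.Agent.Lib.Helper1.BG12.sylow_normal_of_nilpotent (Cfsg.sigmaCore L) T p hnil
      (hT.1.of_le hTσ (Cfsg.Agent.Lib.Helper1.BG12.sigmaCore_le L)) L
      (Cfsg.Agent.Lib.Helper1.BG12.le_normalizer_sigmaCore L)
  -- `K = O_{p'}(L)` centralizes `T`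
  obtain ⟨K, hKdef⟩ : ∃ K : Subgroup G, K = Cfsg.Agent.Lib.Helper11.ExcF.pPrimeCoreOf p L := ⟨_, rfl⟩
  have hKL : K ≤ L := by rw [hKdef]; exact Cfsg.Agent.Lib.Helper11.ExcF.pPrimeCoreOf_le p L
  have hKn : L ≤ Subgroup.normalizer (K : Set G) := by
    rw [hKdef]; exact Cfsg.Agent.Lib.Helper11.ExcF.le_normalizer_pPrimeCoreOf p L
  have hKc : (Nat.card K).Coprime p := by
    rw [hKdef]; exact Cfsg.Agent.Lib.Helper11.ExcF.pPrimeCoreOf_coprime p L
  have hTK : T ⊓ K = ⊥ := inf_eq_bot_of_coprime hT.1.isPGroup hKc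
  -- `q < p`
  have hpβ : p ∉ Cfsg.beta L := fun h => hpi h.2
  have h14 := ((Cfsg.Agent.S1414.result hG L hL).2.2.2.2 p hp.out hpL.2.1 hpβ).2.2
  have hqp : q < p := by
    have hne : q ≠ p := by
      rintro rfl
      exact c.hp.2.1 hpL
    have hle : q ≤ p := by
      by_cases hqd : q ∣ K.relIndex L
      · rw [hKdef, Cfsg.Agent.Lib.Helper11.ExcF.pPrimeCoreOf_relIndex] at hqd
        exact h14 q hq.out hqd
      · exfalso
        have hAK : A ≤ K := by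
          apply Cfsg.Agent.Lib.Helper1.BG12.le_of_normal_coprime L K A hKL hKn hAL
          rw [c.hA2]
          exact Nat.Coprime.pow_left 2 ((Nat.Prime.coprime_iff_not_dvd hq.out).mpr hqd)
        apply hT1
        rw [eq_bot_iff]
        intro t ht
        have h1 : t ∈ Cfsg.sigmaCore L ⊓ Subgroup.centralizer (A : Set G) := by
          refine ⟨hTσ ht, ?_⟩
          show t ∈ Subgroup.centralizer (A : Set G)
          rw [Subgroup.mem_centralizer_iff]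
          intro a ha
          exact (commute_of_normalize_of_inf_eq_bot (hT.1.le.trans hKn) (hKL.trans hTn) hTK ht
            (hAK ha)).symm
        rw [c.t17.2.2.2.1] at h1
        exact h1
    omega
  -- Sylow `p`-subgroups of `M` lie in `O_{q'}(M)`
  have hqβ : q ∉ Cfsg.beta M := not_beta_of_tau2 hG hL c.hp M
  have h14M := ((Cfsg.Agent.S1414.result hG M hM).2.2.2.2 q hq.out hqM.2.1 hqβ).2.2
  obtain ⟨Kq, hKqdef⟩ : ∃ Kq : Subgroup G, Kq = Cfsg.Agent.Lib.Helper11.ExcF.pPrimeCoreOf q M :=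
    ⟨_, rfl⟩
  have hKqM : Kq ≤ M := by rw [hKqdef]; exact Cfsg.Agent.Lib.Helper11.ExcF.pPrimeCoreOf_le q M
  have hKqn : M ≤ Subgroup.normalizer (Kq : Set G) := by
    rw [hKqdef]; exact Cfsg.Agent.Lib.Helper11.ExcF.le_normalizer_pPrimeCoreOf q M
  have hKqc : (Nat.card Kq).Coprime q := by
    rw [hKqdef]; exact Cfsg.Agent.Lib.Helper11.ExcF.pPrimeCoreOf_coprime q M
  have hpidx : ¬ p ∣ Kq.relIndex M := by
    intro hd
    rw [hKqdef, Cfsg.Agent.Lib.Helper11.ExcF.pPrimeCoreOf_relIndex] at hd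
    have := h14M p hp.out hd
    omega
  have hAs : Group.IsSolvable ↥A := by
    exact isSolvable_of_comm (fun a b => c.hAe.1.is_comm.comm a b)
  have hcop : (Nat.card A).Coprime (Nat.card Kq) := by
    rw [c.hA2]
    exact Nat.Coprime.pow_left 2 hKqc.symm
  obtain ⟨R, hR, hAR, -⟩ := Cfsg.Agent.Lib.Helper11.BenderP.exists_inv_sylow_ge A Kq
    (hAM.trans hKqn) hcop hAs p ⊥ bot_le IsPGroup.of_bot (by
      intro a _
      rw [Subgroup.mem_normalizer_iff]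
      intro x
      simp [Subgroup.mem_bot])
  have hRM : IsSylowIn p R M := by
    refine ⟨hR.le.trans hKqM, hR.isPGroup, ?_⟩
    rw [← Subgroup.relIndex_mul_relIndex R Kq M hR.le hKqM]
    intro hd
    rcases (Nat.Prime.dvd_mul hp.out).mp hd with h | h
    · exact hR.not_dvd h
    · exact hpidx h
  have hR1 : R ≠ ⊥ := by
    rintro rfl
    apply hRM.not_dvd
    rw [Subgroup.relIndex_bot_left]
    exact hpM
  -- `A` centralizes `R`
  have hAσ : A ≤ Cfsg.sigmaCore M :=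
    Cfsg.Agent.Lib.Helper1.BG12.pgroup_le_sigmaCore hG M hM q hqM A hAM hAq
  have hσc : (Nat.card (Cfsg.sigmaCore M)).Coprime p := by
    apply Nat.Coprime.symm
    rw [Nat.Prime.coprime_iff_not_dvd hp.out]
    intro hd
    exact hpσ (prime_sigmaCore hG hM hp.out hd)
  have hRσ : R ⊓ Cfsg.sigmaCore M = ⊥ := inf_eq_bot_of_coprime hR.isPGroup hσc
  have hRC : R ≤ Subgroup.centralizer (A : Set G) := by
    intro x hx
    rw [Subgroup.mem_centralizer_iff]
    intro a ha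
    have h1 : a * x * a⁻¹ * x⁻¹ ∈ R :=
      R.mul_mem (conj_mem_of_le_normalizer hAR ha hx) (R.inv_mem hx)
    have h2 : a * x * a⁻¹ * x⁻¹ ∈ Cfsg.sigmaCore M := by
      have h3 := conj_mem_of_le_normalizer (Cfsg.Agent.Lib.Helper1.BG12.le_normalizer_sigmaCore M)
        (hRM.le hx) ((Cfsg.sigmaCore M).inv_mem (hAσ ha))
      have e : a * x * a⁻¹ * x⁻¹ = a * (x * a⁻¹ * x⁻¹) := by group
      rw [e]
      exact (Cfsg.sigmaCore M).mul_mem (hAσ ha) h3
    have h4 : a * x * a⁻¹ * x⁻¹ ∈ R ⊓ Cfsg.sigmaCore M := ⟨h1, h2⟩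
    rw [hRσ, Subgroup.mem_bot] at h4
    have : a * x = (a * x * a⁻¹ * x⁻¹) * (x * a) := by group
    rw [this, h4, one_mul]
  -- hence `R ≤ E ⊓ L_σ = 1`
  have hCE : Subgroup.centralizer (A : Set G) ≤ E := by
    intro y hy
    rw [← c.inf_normalizer]
    exact ⟨c.cent_le hy, Subgroup.centralizer_le_normalizer _ hy⟩
  have hRE : R ≤ E := hRC.trans hCE
  have hRL : R ≤ Cfsg.sigmaCore L :=
    Cfsg.Agent.Lib.Helper1.BG12.pgroup_le_sigmaCore hG L hL p hpL R (hRE.trans c.hEM) hR.isPGroup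
  apply hR1
  rw [eq_bot_iff, ← c.hE.2.2.1]
  exact le_inf hRE hRL

end Cfsg.Agent.Lib.Helper11.JsubC
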