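import Mathlib
import Cfsg.Agent.Lib.Helper11.JsubC
import Cfsg.Agent.Lib.Helper11.ExcA

set_option autoImplicit false

namespace Cfsg.Agent.Lib.Helper11.JsubD

open Cfsg Cfsg.Agent.Lib.Helper18 Cfsg.Agent.Lib.Helper28.BGt Cfsg.Agent.Lib.Helper11.JsubA
  Cfsg.Agent.Lib.Helper11.JsubB Cfsg.Agent.Lib.Helper11.JsubC

variable {G : Type*} [Group G] [Finite G]

/-- **B & G, Lemma 12.16(e)** in the form used below -/
theorem cover_of_not_sigma (hG : Cfsg.IsMinSimpleOddOrder G) {M L : Subgroup G} (hM : IsCoatom M)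
    (hL : IsCoatom L) {q p : ℕ} [hq : Fact q.Prime] [hp : Fact p.Prime] (hqM : q ∈ Cfsg.sigma M)
    (hqL : q ∉ Cfsg.sigma L) {Y S : Subgroup G} (hY1 : Y ≠ ⊥)
    (hNY : Subgroup.normalizer (Y : Set G) ≤ L) (hYS : Y ≤ S) (hSM : S ≤ M)
    (hS : IsSylowIn q S L) (hNS : Subgroup.normalizer (S : Set G) ≤ M)
    (hpM : p ∣ Nat.card M) (hpσ : p ∉ Cfsg.sigma M) (hpi : ¬ Cfsg.IsIdealPrime p G) :
    ∃ N : Subgroup G, N ≤ L ∧ L ≤ Subgroup.normalizer (N : Set G) ∧ ¬ p ∣ Nat.card N ∧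
      L ≤ N ⊔ (M ⊓ L) := by
  have hτ := tau2_of_normalizer_le hG hL hqL hY1 hNY hYS hS
  obtain ⟨E, A, c, hAS⟩ := exists_ctx hG hL hτ hS
  have hEM := compl_le hG hM c hAS hSM hS hNS
  have hpL := not_sigma_over hG hM c hqM (hAS.trans hSM) hpM hpσ hpi
  refine ⟨Cfsg.sigmaCore L, Cfsg.Agent.Lib.Helper1.BG12.sigmaCore_le L,
    Cfsg.Agent.Lib.Helper1.BG12.le_normalizer_sigmaCore L,
    fun hd => hpL (prime_sigmaCore hG hL hp.out hd), ?_⟩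
  intro l hl
  obtain ⟨a, ha, b, hb, rfl⟩ := c.hE.2.2.2 l hl
  exact Subgroup.mul_mem _ (Subgroup.mem_sup_right ⟨hEM ha, c.hEM ha⟩) (Subgroup.mem_sup_left hb)

/-- **B & G, Theorem 12.17**, second half, part (a), for a `q`-group `Y ≤ M` -/
theorem jsub_two_a_aux (hG : Cfsg.IsMinSimpleOddOrder G) (M : Subgroup G) (hM : IsCoatom M)
    (q : ℕ) [hq : Fact q.Prime] (hqM : q ∈ Cfsg.sigma M) (Y : Subgroup G) (hYq : IsPGroup q Y)
    (hY1 : Y ≠ ⊥) (hYM : Y ≤ M) (H : Subgroup G) (hH : IsCoatom H) (hYH : Y ≤ H) (hne : H ≠ M)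
    (p : ℕ) [hp : Fact p.Prime] (hpM : p ∣ Nat.card M) (hpσ : p ∉ Cfsg.sigma M)
    (hpi : ¬ Cfsg.IsIdealPrime p G) :
    Cfsg.PRankLE p 1 ↥(H ⊓ Subgroup.normalizer (Y : Set G)) := by
  have hYσ : Y ≤ Cfsg.sigmaCore M :=
    Cfsg.Agent.Lib.Helper1.BG12.pgroup_le_sigmaCore hG M hM q hqM Y hYM hYq
  have hpq : p ≠ q := by
    rintro rfl
    exact hpσ hqM
  -- the preliminary bound
  have PRE : ∀ K : Subgroup G, IsCoatom K → K ≠ M → Y ≤ K → Cfsg.PRankLE p 1 ↥(K ⊓ M) := by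
    intro K hK hKne hYK
    by_contra hr
    obtain ⟨A, hAKM, hAe, hA2⟩ :=
      Cfsg.Agent.Lib.Helper1.BG10.exists_elemAb_sq_of_not_pRankLE_one p (K ⊓ M) hr
    have hτ : p ∈ Cfsg.tau2 M := tau2_of_not_sigma hG hM hpσ (hAKM.trans inf_le_right) hAe hA2
    have h1 := (Cfsg.Agent.S1417.result hG M hM p hτ A
      ⟨hAKM.trans inf_le_right, hAe, hA2⟩).2.2.2.2.1 K hK hKne (hAKM.trans inf_le_left)
    apply hY1
    rw [eq_bot_iff, ← h1]
    exact le_inf hYσ hYK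
  by_cases hN : Subgroup.normalizer (Y : Set G) ≤ M
  · have hle : H ⊓ Subgroup.normalizer (Y : Set G) ≤ H ⊓ M := inf_le_inf_left H hN
    exact Cfsg.Agent.Lib.Helper11.RankTwoTower.prank_of_le hle (PRE H hH hne hYH)
  · have hYtop : Y ≠ ⊤ := Cfsg.Agent.Lib.Helper11.MaxSubD.pgroup_ne_top hG q Y hYq
    obtain ⟨L, hL, hNYL⟩ := Cfsg.Agent.Lib.Helper11.BenderE.exists_coatom_ge _
      (Cfsg.Agent.Lib.Helper1.BG10.normalizer_ne_top hG hY1 hYtop)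
    have hLM : L ≠ M := by
      rintro rfl
      exact hN hNYL
    have hYL : Y ≤ L := Subgroup.le_normalizer.trans hNYL
    obtain ⟨S₀, hS₀⟩ := Cfsg.Agent.Lib.Helper1.BG10.exists_sylow_map_ge q (M ⊓ L) Y
      (le_inf hYM hYL) hYq
    obtain ⟨S, hSdef⟩ : ∃ S : Subgroup G, S = (S₀ : Subgroup ↥(M ⊓ L)).map (M ⊓ L).subtype :=
      ⟨_, rfl⟩
    have hSyl : IsSylowIn q S (M ⊓ L) := by rw [hSdef]; exact isSylowIn_of_sylow S₀
    have hYS : Y ≤ S := by rw [hSdef]; exact hS₀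
    have h1420c : ∀ (p : ℕ) (P : Subgroup G), p ∈ Cfsg.sigma M → IsPGroup p P → P ≤ M →
        ¬ IsCyclic P → Subgroup.normalizer (P : Set G) ≤ M :=
      fun p P hp hP hPM hnc => normalizer_noncyclic_sigma hG (t1416 hG) hM hp hP hPM hnc
    obtain ⟨-, hNS, hSL⟩ := Cfsg.Agent.Lib.Helper18.BGTwelveA.twelve_sixteen hG M hM h1420c q hqM Y
      hYq hY1 hYM L hLM hNYL S hSyl hYS
    have hSM : S ≤ M := hSyl.le.trans inf_le_left
    -- the cover of `L`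
    have hcover : ∃ N : Subgroup G, N ≤ L ∧ L ≤ Subgroup.normalizer (N : Set G) ∧
        ¬ p ∣ Nat.card N ∧ L ≤ N ⊔ (M ⊓ L) := by
      by_cases hqL : q ∈ Cfsg.sigma L
      · exact cover_of_sigma hG hL hqL hpq (fun h => hpi h.2) hSL hNS
      · exact cover_of_not_sigma hG hM hL hqM hqL hY1 hNYL hYS hSM hSL hNS hpM hpσ hpi
    obtain ⟨N, hNL, hNn, hpN, hcov⟩ := hcover
    have hPRE : Cfsg.PRankLE p 1 ↥(M ⊓ L) := by
      have := PRE L hL hLM hYL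
      rwa [inf_comm] at this
    have hLr : Cfsg.PRankLE p 1 ↥L :=
      pRankLE_one_of_factor hNL inf_le_right hNn hpN hcov hPRE
    exact Cfsg.Agent.Lib.Helper11.RankTwoTower.prank_of_le (inf_le_right.trans hNYL) hLr

/-- **B & G, Theorem 12.17**, second half, part (a), for `q`-groups `Y`, `q ∈ σ(M)`: if `H ≥ Y` is a
maximal subgroup not conjugate to `M`, and `p ∈ π(M) ∖ σ(M)` is not an ideal prime, then `N_H(Y)` has
`p`-rank at most one -/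
theorem jsub_two_a (hG : Cfsg.IsMinSimpleOddOrder G) (M : Subgroup G) (hM : IsCoatom M)
    (q : ℕ) [hq : Fact q.Prime] (hqM : q ∈ Cfsg.sigma M) (Y : Subgroup G) (hYq : IsPGroup q Y)
    (hY1 : Y ≠ ⊥) (H : Subgroup G) (hH : IsCoatom H) (hYH : Y ≤ H)
    (hnc : ∀ g : G, H ≠ M.map (MulAut.conj g).toMonoidHom)
    (p : ℕ) [hp : Fact p.Prime] (hpM : p ∣ Nat.card M) (hpσ : p ∉ Cfsg.sigma M)
    (hpi : ¬ Cfsg.IsIdealPrime p G) :
    Cfsg.PRankLE p 1 ↥(H ⊓ Subgroup.normalizer (Y : Set G)) := by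
  obtain ⟨S, hS⟩ := Cfsg.Agent.Lib.Helper11.BenderM.exists_good_of_sigma M q hqM
  obtain ⟨x, -, hle⟩ := hS.2.2.exists_conj_le (le_top : Y ≤ ⊤) hYq
  have hYM1 : Y ≤ Helper18.conjSub x⁻¹ M :=
    (Helper18.conjSub_le_iff.mp hle).trans (Helper18.conjSub_mono hS.1.le)
  exact jsub_two_a_aux hG (Helper18.conjSub x⁻¹ M)
    (Cfsg.Agent.Lib.Helper11.BenderF.isCoatom_conjSub x⁻¹ hM) q
    (Cfsg.Agent.Lib.Helper1.BG12.sigma_conjSub M q hqM x⁻¹) Y hYq hY1 hYM1 H hH hYH (hnc x⁻¹) p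
    (by rw [Helper18.card_conjSub]; exact hpM)
    (Cfsg.Agent.Lib.Helper11.ExcA.not_sigma_conjSub M p hpσ x⁻¹) hpi

end Cfsg.Agent.Lib.Helper11.JsubD
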