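import Mathlib
import Cfsg.Agent.S1444
import Cfsg.Agent.Lib.Helper11.BenderT
import Cfsg.Agent.Lib.Helper11.JsubD
import Cfsg.Agent.Lib.Helper10.SigmaJsubE
import Cfsg.Agent.Lib.Helper1.BG12.TwelveOneMain

set_option autoImplicit false
open scoped commutatorElement

namespace Cfsg.Agent.Lib.Helper11.ThirteenA

open Cfsg Cfsg.Agent.Lib.Helper18 Cfsg.Agent.Lib.Helper28.BGt

variable {G : Type*} [Group G] [Finite G]

/-- `O_{t'}(H')` as a subgroup of `G`, for `t ∉ β(H)`: normal in `H`, of order prime to `t`, absorbing all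
`t'`-subgroups of `H'` -/
theorem exists_core (hG : Cfsg.IsMinSimpleOddOrder G) {H : Subgroup G} (hH : IsCoatom H)
    {t : ℕ} (ht : t.Prime) (htβ : t ∉ Cfsg.beta H) :
    ∃ N : Subgroup G, N ≤ ⁅H, H⁆ ∧ H ≤ Subgroup.normalizer (N : Set G) ∧ (Nat.card N).Coprime t ∧
      ∀ L : Subgroup G, L ≤ ⁅H, H⁆ → (Nat.card L).Coprime t → L ≤ N := by
  obtain ⟨N₀, -, hc₀, habs₀⟩ := Cfsg.Agent.Lib.Helper11.BenderT.exists_core_image hG H hH
    (fun hs hodd H R R₀ hHn hcop hR hR₀ hR₀p hZ p hp => by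
      haveI := hs
      haveI := hHn
      haveI : Fact p.Prime := ⟨hp⟩
      exact Cfsg.Agent.S1444.result hodd H R R₀ hcop hR hR₀ hR₀p hZ p) t ht htβ
  have hcop : (Nat.card ↥(N₀ ⊓ ⁅H, H⁆)).Coprime t :=
    Nat.Coprime.coprime_dvd_left (Subgroup.card_dvd_of_le inf_le_left) hc₀
  have habs : ∀ L : Subgroup G, L ≤ ⁅H, H⁆ → (Nat.card L).Coprime t → L ≤ N₀ ⊓ ⁅H, H⁆ :=
    fun L hL hLc => le_inf (habs₀ L hL hLc) hL
  refine ⟨N₀ ⊓ ⁅H, H⁆, inf_le_right, ?_, hcop, habs⟩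
  intro d hd
  apply Helper18.mem_normalizer_of_conjSub_le
  apply habs
  · intro y hy
    rw [Helper18.mem_conjSub] at hy
    have h1 : d⁻¹ * y * d ∈ ⁅H, H⁆ := hy.2
    have h2 := (Subgroup.mem_normalizer_iff.mp
      (Cfsg.Agent.Lib.Helper10.SigmaJsubB.le_normalizer_derived H hd) (d⁻¹ * y * d)).mp h1
    have e : d * (d⁻¹ * y * d) * d⁻¹ = y := by group
    rwa [e] at h2
  · rw [Helper18.card_conjSub]
    exact hcop

/-- the primes dividing the order of `[x, d]`, `x ∈ H'` a `p`-element and `d ∈ H`, lie in `β(H)` as soon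
as this order is prime to `p` -/
theorem comm_primes_beta (hG : Cfsg.IsMinSimpleOddOrder G) {H : Subgroup G} (hH : IsCoatom H)
    {p : ℕ} [hp : Fact p.Prime] {x d : G} (hxH : x ∈ ⁅H, H⁆) {k : ℕ} (hxk : x ^ p ^ k = 1)
    (hd : d ∈ H) (hcop : (orderOf (x * d * x⁻¹ * d⁻¹)).Coprime p) :
    ∀ r : ℕ, r.Prime → r ∣ orderOf (x * d * x⁻¹ * d⁻¹) → r ∈ Cfsg.beta H := by
  intro r hr hrd
  by_contra hrβ
  obtain ⟨N, -, hNn, hNc, habs⟩ := exists_core hG hH hr hrβ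
  have hrp : r ≠ p := by
    rintro rfl
    have := Nat.eq_one_of_dvd_coprimes hcop hrd (dvd_refl r)
    exact hr.one_lt.ne' this
  have hxN : x ∈ N := by
    apply habs (Subgroup.zpowers x) (by rw [Subgroup.zpowers_le]; exact hxH) ?_ (Subgroup.mem_zpowers x)
    rw [Nat.card_zpowers]
    apply Nat.Coprime.coprime_dvd_left (orderOf_dvd_of_pow_eq_one hxk)
    exact Nat.Coprime.pow_left k ((Nat.coprime_primes hp.out hr).mpr (Ne.symm hrp))
  have h1 : d * x⁻¹ * d⁻¹ ∈ N := (Subgroup.mem_normalizer_iff.mp (hNn hd) x⁻¹).mp (N.inv_mem hxN)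
  have hcN : x * d * x⁻¹ * d⁻¹ ∈ N := by
    have e : x * d * x⁻¹ * d⁻¹ = x * (d * x⁻¹ * d⁻¹) := by group
    rw [e]
    exact N.mul_mem hxN h1
  have h2 : orderOf (x * d * x⁻¹ * d⁻¹) ∣ Nat.card N := by
    have := orderOf_dvd_natCard (⟨_, hcN⟩ : N)
    rwa [← Subgroup.orderOf_coe] at this
  have := Nat.eq_one_of_dvd_coprimes hNc (hrd.trans h2) (dvd_refl r)
  exact hr.one_lt.ne' this

/-- **B & G, Lemma 13.1(a)**, core step: a `p`-element `x ∈ M ⊓ H'` (`p ∉ σ(M)`) centralizes `M_σ ⊓ H` when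
`H` is not conjugate to `M` -/
theorem centralizes_of_mem_derived (hG : Cfsg.IsMinSimpleOddOrder G) {M H : Subgroup G}
    (hM : IsCoatom M) (hH : IsCoatom H) (hnc : ∀ g : G, H ≠ Helper18.conjSub g M)
    {p : ℕ} [hp : Fact p.Prime] (hpσ : p ∉ Cfsg.sigma M) {x : G} (hxM : x ∈ M)
    (hxH : x ∈ ⁅H, H⁆) {k : ℕ} (hxk : x ^ p ^ k = 1) {d : G} (hdσ : d ∈ Cfsg.sigmaCore M)
    (hdH : d ∈ H) : x * d = d * x := by
  obtain ⟨c, hc⟩ : ∃ c : G, c = x * d * x⁻¹ * d⁻¹ := ⟨_, rfl⟩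
  have hcσ : c ∈ Cfsg.sigmaCore M := by
    rw [hc]
    exact (Cfsg.sigmaCore M).mul_mem
      (conj_mem_of_le_normalizer (Cfsg.Agent.Lib.Helper1.BG12.le_normalizer_sigmaCore M) hxM hdσ)
      ((Cfsg.sigmaCore M).inv_mem hdσ)
  have hord : orderOf c ∣ Nat.card (Cfsg.sigmaCore M) := by
    have := orderOf_dvd_natCard (⟨c, hcσ⟩ : Cfsg.sigmaCore M)
    rwa [← Subgroup.orderOf_coe] at this
  have hcop : (orderOf c).Coprime p := by
    apply Nat.Coprime.coprime_dvd_left hord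
    apply Nat.Coprime.symm
    rw [Nat.Prime.coprime_iff_not_dvd hp.out]
    intro hd
    exact hpσ (prime_sigmaCore hG hM hp.out hd)
  have hc1 : c = 1 := by
    by_contra hne
    have ho : orderOf c ≠ 1 := fun h => hne (orderOf_eq_one_iff.mp h)
    obtain ⟨r, hr, hrd⟩ := Nat.exists_prime_and_dvd ho
    have hrβ : r ∈ Cfsg.beta H := by
      rw [hc] at hcop hrd
      exact comm_primes_beta hG hH hxH hxk hdH hcop r hr hrd
    have hrσ : r ∈ Cfsg.sigma M := prime_sigmaCore hG hM hr (hrd.trans hord)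
    obtain ⟨g, hg⟩ := Cfsg.Agent.Lib.Helper1.BG12.conj_of_alpha_sigma hG H M hH hM r hrβ.1 hrσ
    apply hnc g⁻¹
    rw [hg, Helper18.conjSub_mul, inv_mul_cancel, Helper18.conjSub_one]
  have : x * d = (x * d * x⁻¹ * d⁻¹) * (d * x) := by group
  rw [this, ← hc, hc1, one_mul]

/-- for `p ∈ τ₃(H)`, a Sylow `p`-subgroup of a complement `E` of `H_σ` lies in `E'` -/
theorem sylow_tau3_le_derived (hG : Cfsg.IsMinSimpleOddOrder G) {H E : Subgroup G}
    (hH : IsCoatom H) (hE : Cfsg.IsComplIn E (Cfsg.sigmaCore H) H) {p : ℕ} [hp : Fact p.Prime]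
    (hpτ : p ∈ Cfsg.tau3 H) {P : Subgroup G} (hP : IsSylowIn p P E) : P ≤ ⁅E, E⁆ := by
  have hEH : E ≤ H := hE.1
  have hodd := Cfsg.Agent.Lib.Helper1.BG12.odd_card_subgroup hG E
  have hc : Nat.card (P.subgroupOf E) = Nat.card P :=
    Cfsg.Agent.Lib.Helper5.card_subgroupOf_of_le hP.le
  haveI := Cfsg.Agent.Lib.Helper1.BG12.nilpotent_commutator_compl hG H hH E hE
  obtain ⟨k, hk⟩ := IsPGroup.iff_card.mp hP.isPGroup
  have hHall : (Nat.card (P.subgroupOf E)).Coprime (P.subgroupOf E).index := by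
    rw [hc, hk]
    apply Nat.Coprime.pow_left
    rw [Nat.Prime.coprime_iff_not_dvd hp.out]
    exact hP.not_dvd
  obtain ⟨-, h2, -⟩ := Cfsg.Agent.Lib.Helper1.BG12.hall_tau3 hodd (P.subgroupOf E) hHall (by
    intro r hr hrd
    rw [hc, hk] at hrd
    have hrp : r = p := (Nat.prime_dvd_prime_iff_eq hr hp.out).mp (hr.dvd_of_dvd_pow hrd)
    subst hrp
    obtain ⟨-, hpσ, hd, hrk⟩ := hpτ
    refine ⟨?_, Cfsg.Agent.Lib.Helper1.BG12.pRankLE_of_le hEH hrk⟩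
    rw [Cfsg.Agent.Lib.Helper1.BG12.card_commutator_subgroup]
    exact Cfsg.Agent.Lib.Helper1.BG12.dvd_card_derived_compl hG H hH E hE r hr hpσ hd)
  intro x hx
  have hx' : (⟨x, hP.le hx⟩ : E) ∈ P.subgroupOf E := Subgroup.mem_subgroupOf.mpr hx
  have := h2 hx'
  rw [← Subgroup.map_subtype_commutator E]
  exact ⟨_, this, rfl⟩

/-- a `p`-element of `H` lies in `H'` when `p ∈ σ(H) ∪ τ₃(H)` -/
theorem pelem_mem_derived (hG : Cfsg.IsMinSimpleOddOrder G) {H : Subgroup G} (hH : IsCoatom H)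
    {p : ℕ} [hp : Fact p.Prime] (hpH : p ∈ Cfsg.sigma H ∨ p ∈ Cfsg.tau3 H) {x : G} (hx : x ∈ H)
    {k : ℕ} (hxk : x ^ p ^ k = 1) : x ∈ ⁅H, H⁆ := by
  rcases hpH with hσ | hτ
  · exact sigmaCore_le_derived hG hH (pelem_mem_sigmaCore hG hH hσ hx hxk)
  · obtain ⟨E, hE⟩ := Cfsg.Agent.Lib.Helper18.BGTwelveA.exists_complIn_sigmaCore hG H hH
    obtain ⟨P₀⟩ : Nonempty (Sylow p ↥E) := inferInstance
    have hP : IsSylowIn p ((P₀ : Subgroup ↥E).map E.subtype) E := isSylowIn_of_sylow P₀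
    have hPH : IsSylowIn p ((P₀ : Subgroup ↥E).map E.subtype) H := sylow_compl hG hH hE hτ.2.1 hP
    have hxp : IsPGroup p (Subgroup.zpowers x) := by
      rw [IsPGroup.iff_card, Nat.card_zpowers]
      exact (Nat.dvd_prime_pow hp.out).mp (orderOf_dvd_of_pow_eq_one hxk) |>.imp fun j hj => hj.2
    obtain ⟨h, hh, hle⟩ := hPH.exists_conj_le (by rw [Subgroup.zpowers_le]; exact hx) hxp
    have h1 : h * x * h⁻¹ ∈ ⁅E, E⁆ :=
      sylow_tau3_le_derived hG hH hE hτ hP (hle (Helper18.conj_mem_conjSub (Subgroup.mem_zpowers x)))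
    have h2 : h * x * h⁻¹ ∈ ⁅H, H⁆ := Subgroup.commutator_mono hE.1 hE.1 h1
    have h3 := (Subgroup.mem_normalizer_iff.mp
      (Cfsg.Agent.Lib.Helper10.SigmaJsubB.le_normalizer_derived H (H.inv_mem hh)) (h * x * h⁻¹)).mp h2
    have e : h⁻¹ * (h * x * h⁻¹) * h⁻¹⁻¹ = x := by group
    rwa [e] at h3

end Cfsg.Agent.Lib.Helper11.ThirteenA
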