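import Mathlib
import Cfsg.Agent.Lib.Helper11.ThirteenA

set_option autoImplicit false
open scoped commutatorElement

namespace Cfsg.Agent.Lib.Helper11.ThirteenB

open Cfsg Cfsg.Agent.Lib.Helper18 Cfsg.Agent.Lib.Helper28.BGt Cfsg.Agent.Lib.Helper11.ThirteenA

variable {G : Type*} [Group G] [Finite G]

/-- `|K D|` divides `|K| |D|` when `D` normalizes `K` -/
theorem card_sup_dvd (K D : Subgroup G) (h : D ≤ Subgroup.normalizer (K : Set G)) :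
    Nat.card ↥(K ⊔ D) ∣ Nat.card K * Nat.card D := by
  have h1 : Nat.card D * D.relIndex (D ⊔ K) = Nat.card ↥(D ⊔ K) :=
    Cfsg.Agent.Lib.Helper1.BG12.card_mul_relIndex_of_le le_sup_left
  rw [relIndex_sup_of_le_normalizer D K h] at h1
  rw [sup_comm, ← h1, mul_comm]
  exact Nat.mul_dvd_mul_right (Subgroup.relIndex_dvd_card D K) _

/-- the Frattini data in the proof of Lemma 13.1 -/
theorem exists_frattini (hG : Cfsg.IsMinSimpleOddOrder G) {M H : Subgroup G} (hM : IsCoatom M)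
    (hH : IsCoatom H) {p : ℕ} [hp : Fact p.Prime] (hpσ : p ∉ Cfsg.sigma M)
    (hpβ : p ∉ Cfsg.beta H)
    (hR : ∃ d ∈ Cfsg.sigmaCore M ⊓ H, ∃ m ∈ M ⊓ H, m * d ≠ d * m) :
    ∃ (q : ℕ) (Y K : Subgroup G), q.Prime ∧ q ∈ Cfsg.sigma M ∧ IsPGroup q Y ∧ Y ≠ ⊥ ∧ Y ≤ H ∧
      K ≤ H ∧ H ≤ Subgroup.normalizer (K : Set G) ∧ ¬ p ∣ Nat.card K ∧
      H ≤ K ⊔ (H ⊓ Subgroup.normalizer (Y : Set G)) := by
  obtain ⟨d, hd, m, hm, hne⟩ := hR
  obtain ⟨c, hc⟩ : ∃ c : G, c = m * d * m⁻¹ * d⁻¹ := ⟨_, rfl⟩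
  have hc1 : c ≠ 1 := by
    intro h
    apply hne
    have : m * d = (m * d * m⁻¹ * d⁻¹) * (d * m) := by group
    rw [this, ← hc, h, one_mul]
  have hcσ : c ∈ Cfsg.sigmaCore M := by
    rw [hc]
    exact (Cfsg.sigmaCore M).mul_mem
      (conj_mem_of_le_normalizer (Cfsg.Agent.Lib.Helper1.BG12.le_normalizer_sigmaCore M) hm.1 hd.1)
      ((Cfsg.sigmaCore M).inv_mem hd.1)
  have hcH : c ∈ ⁅H, H⁆ := by
    rw [hc, ← commutatorElement_def]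
    exact Subgroup.commutator_mem_commutator hm.2 hd.2
  have hord : orderOf c ∣ Nat.card (Cfsg.sigmaCore M) := by
    have := orderOf_dvd_natCard (⟨c, hcσ⟩ : Cfsg.sigmaCore M)
    rwa [← Subgroup.orderOf_coe] at this
  have hσp : (Nat.card (Cfsg.sigmaCore M)).Coprime p := by
    apply Nat.Coprime.symm
    rw [Nat.Prime.coprime_iff_not_dvd hp.out]
    intro hd
    exact hpσ (prime_sigmaCore hG hM hp.out hd)
  obtain ⟨K, hKH', hKn, hKc, habs⟩ := exists_core hG hH hp.out hpβ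
  have hKH : K ≤ H := hKH'.trans (Cfsg.Agent.Lib.Helper1.BG12.derived_le H)
  have hcK : c ∈ K := by
    apply habs (Subgroup.zpowers c) (by rw [Subgroup.zpowers_le]; exact hcH) ?_
      (Subgroup.mem_zpowers c)
    rw [Nat.card_zpowers]
    exact Nat.Coprime.coprime_dvd_left hord hσp
  have ho : orderOf c ≠ 1 := fun h => hc1 (orderOf_eq_one_iff.mp h)
  obtain ⟨q, hq, hqd⟩ := Nat.exists_prime_and_dvd ho
  haveI : Fact q.Prime := ⟨hq⟩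
  have hqσ : q ∈ Cfsg.sigma M := prime_sigmaCore hG hM hq (hqd.trans hord)
  have hqK : q ∣ Nat.card K := by
    have := orderOf_dvd_natCard (⟨c, hcK⟩ : K)
    rw [← Subgroup.orderOf_coe] at this
    exact hqd.trans this
  obtain ⟨Y₀⟩ : Nonempty (Sylow q ↥K) := inferInstance
  have hY : IsSylowIn q ((Y₀ : Subgroup ↥K).map K.subtype) K := isSylowIn_of_sylow Y₀
  obtain ⟨Y, hYdef⟩ : ∃ Y : Subgroup G, Y = (Y₀ : Subgroup ↥K).map K.subtype := ⟨_, rfl⟩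
  rw [← hYdef] at hY
  have hY1 : Y ≠ ⊥ := by
    rintro rfl
    apply hY.not_dvd
    rw [Subgroup.relIndex_bot_left]
    exact hqK
  refine ⟨q, Y, K, hq, hqσ, hY.isPGroup, hY1, hY.le.trans hKH, hKH, hKn, ?_, ?_⟩
  · intro hd
    have := (Nat.Prime.coprime_iff_not_dvd hp.out).mp hKc.symm
    exact this hd
  · intro g hg
    obtain ⟨n, hn, hng⟩ := hY.frattini (hKn hg)
    have e : g = n⁻¹ * (n * g) := by group
    rw [e]
    exact Subgroup.mul_mem _ (Subgroup.mem_sup_left (K.inv_mem hn))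
      (Subgroup.mem_sup_right ⟨H.mul_mem (hKH hn) hg, hng⟩)

/-- the primes dividing the order of a `q`-group -/
theorem prime_of_dvd_pgroup {q : ℕ} [hq : Fact q.Prime] {Y : Subgroup G} (hY : IsPGroup q Y)
    {r : ℕ} (hr : r.Prime) (hrd : r ∣ Nat.card Y) : r = q := by
  obtain ⟨k, hk⟩ := IsPGroup.iff_card.mp hY
  rw [hk] at hrd
  exact (Nat.prime_dvd_prime_iff_eq hr hq.out).mp (hr.dvd_of_dvd_pow hrd)

/-- **B & G, Lemma 13.1(b)** -/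
theorem thirteen_one_b (hG : Cfsg.IsMinSimpleOddOrder G) {M H : Subgroup G} (hM : IsCoatom M)
    (hH : IsCoatom H) (hnc : ∀ g : G, H ≠ Helper18.conjSub g M) {p : ℕ} [hp : Fact p.Prime]
    (hpM : p ∣ Nat.card M) (hpσ : p ∉ Cfsg.sigma M)
    (hR : ∃ d ∈ Cfsg.sigmaCore M ⊓ H, ∃ m ∈ M ⊓ H, m * d ≠ d * m) : p ∉ Cfsg.tau2 H := by
  intro hτ
  have hpβ : p ∉ Cfsg.beta H := not_beta_of_tau2 hG hH hτ H
  have hpi : ¬ Cfsg.IsIdealPrime p G :=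
    Cfsg.Agent.Lib.Helper1.BG10.not_ideal_of_nonsigma hG H hH p hτ.2.1 hτ.2.2.2
  obtain ⟨q, Y, K, hq, hqσ, hYq, hY1, hYH, hKH, hKn, hpK, hcov⟩ :=
    exists_frattini hG hM hH hpσ hpβ hR
  haveI : Fact q.Prime := ⟨hq⟩
  have hY : ∀ r : ℕ, r.Prime → r ∣ Nat.card Y → r ∈ Cfsg.sigma M := by
    intro r hr hrd
    rw [prime_of_dvd_pgroup hYq hr hrd]
    exact hqσ
  have h1 := (Cfsg.Agent.Lib.Helper10.SigmaJsubE.jsub_b hG M hM Y hY1 hY H hH hYH hnc p hpM hpσ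
    hpi).1
  exact hτ.2.2.2 (Cfsg.Agent.Lib.Helper11.JsubA.pRankLE_one_of_factor hKH inf_le_left hKn hpK hcov h1)

/-- **B & G, Lemma 13.1(c)** -/
theorem thirteen_one_c (hG : Cfsg.IsMinSimpleOddOrder G) {M H : Subgroup G} (hM : IsCoatom M)
    (hH : IsCoatom H) (hnc : ∀ g : G, H ≠ Helper18.conjSub g M) {p : ℕ} [hp : Fact p.Prime]
    (hpM : p ∣ Nat.card M) (hpσ : p ∉ Cfsg.sigma M) (hpH : p ∣ Nat.card H)
    (hpτ : p ∉ Cfsg.tau1 H)
    (hR : ∃ d ∈ Cfsg.sigmaCore M ⊓ H, ∃ m ∈ M ⊓ H, m * d ≠ d * m) :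
    p ∈ Cfsg.tau1 M → Cfsg.IsIdealPrime p G := by
  intro h1
  by_contra hpi
  have hpβ : p ∉ Cfsg.beta H := fun h => hpi h.2
  obtain ⟨q, Y, K, hq, hqσ, hYq, hY1, hYH, hKH, hKn, hpK, hcov⟩ :=
    exists_frattini hG hM hH hpσ hpβ hR
  haveI : Fact q.Prime := ⟨hq⟩
  have hY : ∀ r : ℕ, r.Prime → r ∣ Nat.card Y → r ∈ Cfsg.sigma M := by
    intro r hr hrd
    rw [prime_of_dvd_pgroup hYq hr hrd]
    exact hqσ
  obtain ⟨hr1, hd1⟩ := Cfsg.Agent.Lib.Helper10.SigmaJsubE.jsub_b hG M hM Y hY1 hY H hH hYH hnc p hpM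
    hpσ hpi
  have hd2 := hd1 h1
  obtain ⟨N, hNdef⟩ : ∃ N : Subgroup G, N = H ⊓ Subgroup.normalizer (Y : Set G) := ⟨_, rfl⟩
  rw [← hNdef] at hr1 hd2 hcov
  have hNH : N ≤ H := by rw [hNdef]; exact inf_le_left
  have hrH : Cfsg.PRankLE p 1 ↥H :=
    Cfsg.Agent.Lib.Helper11.JsubA.pRankLE_one_of_factor hKH hNH hKn hpK hcov hr1
  have hder : ⁅H, H⁆ ≤ K ⊔ ⁅N, N⁆ :=
    Cfsg.Agent.Lib.Helper10.SigmaJsubD.derived_le_sup H K N hKn hKH hNH
      (fun x hx => Cfsg.Agent.Lib.Helper10.SigmaJsubD.mem_sup_of_le_normalizer (hNH.trans hKn)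
        (hcov hx))
  have hnd : ¬ p ∣ Nat.card ↥⁅H, H⁆ := by
    intro hd
    have h2 : p ∣ Nat.card K * Nat.card ↥⁅N, N⁆ :=
      (hd.trans (Subgroup.card_dvd_of_le hder)).trans
        (card_sup_dvd K ⁅N, N⁆ (((Cfsg.Agent.Lib.Helper1.BG12.derived_le N).trans hNH).trans hKn))
    rcases (Nat.Prime.dvd_mul hp.out).mp h2 with h | h
    · exact hpK h
    · exact hd2 h
  have hσH : p ∉ Cfsg.sigma H := by
    intro hσ
    obtain ⟨x, hx⟩ := exists_prime_orderOf_dvd_card' (G := ↥H) p hpH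
    have hxk : (x : G) ^ p ^ 1 = 1 := by
      rw [pow_one, ← Subgroup.coe_pow, ← hx, pow_orderOf_eq_one]
      rfl
    have hxH' : (x : G) ∈ ⁅H, H⁆ := pelem_mem_derived hG hH (Or.inl hσ) x.2 hxk
    apply hnd
    have h3 := orderOf_dvd_natCard (⟨(x : G), hxH'⟩ : ↥⁅H, H⁆)
    rw [← Subgroup.orderOf_coe] at h3
    have h4 : orderOf (x : G) = p := by rw [Subgroup.orderOf_coe]; exact hx
    rw [h4] at h3
    exact h3
  exact hpτ ⟨hp.out, hσH, hpH, hnd, hrH⟩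

/-- **B & G, Lemma 13.1(a)**: `p`-elements of `M ⊓ H` centralize `M_σ ⊓ H` -/
theorem thirteen_one_a (hG : Cfsg.IsMinSimpleOddOrder G) {M H : Subgroup G} (hM : IsCoatom M)
    (hH : IsCoatom H) (hnc : ∀ g : G, H ≠ Helper18.conjSub g M) {p : ℕ} [hp : Fact p.Prime]
    (hpM : p ∣ Nat.card M) (hpσ : p ∉ Cfsg.sigma M) (hpH : p ∣ Nat.card H)
    (hpτ : p ∉ Cfsg.tau1 H) :
    ∀ x ∈ M ⊓ H, (∃ k : ℕ, x ^ p ^ k = 1) → ∀ d ∈ Cfsg.sigmaCore M ⊓ H, x * d = d * x := by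
  intro x hx hxk d hd
  by_cases hR : ∃ d ∈ Cfsg.sigmaCore M ⊓ H, ∃ m ∈ M ⊓ H, m * d ≠ d * m
  · have hτ2 := thirteen_one_b hG hM hH hnc hpM hpσ hR
    have hcase : p ∈ Cfsg.sigma H ∨ p ∈ Cfsg.tau3 H := by
      by_cases hσ : p ∈ Cfsg.sigma H
      · exact Or.inl hσ
      · right
        have h2 : Cfsg.PRankLE p 2 ↥H := by
          by_contra h
          exact hσ (Cfsg.Agent.Lib.Helper11.BenderN.alpha_sub_sigma hG H hH p ⟨hp.out, h⟩)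
        have h1 : Cfsg.PRankLE p 1 ↥H := by
          by_contra h
          exact hτ2 ⟨hp.out, hσ, h2, h⟩
        have h3 : p ∣ Nat.card ↥⁅H, H⁆ := by
          by_contra h
          exact hpτ ⟨hp.out, hσ, hpH, h, h1⟩
        exact ⟨hp.out, hσ, h3, h1⟩
    obtain ⟨k, hk⟩ := hxk
    exact centralizes_of_mem_derived hG hM hH hnc hpσ hx.1 (pelem_mem_derived hG hH hcase hx.2 hk) hk
      hd.1 hd.2
  · push Not at hR
    exact hR d hd x hx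

end Cfsg.Agent.Lib.Helper11.ThirteenB
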