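import Mathlib
import Cfsg.Agent.Lib.Helper11.ExcE
import Cfsg.Agent.Lib.Helper11.Coprime

set_option autoImplicit false
open scoped commutatorElement

/-! a section lemma for Frobenius actions: if `Q⟨x⟩` (with `C_Q(x) = 1`) acts on `E` centralizing the
central subgroup `Z`, and all fixed points of `Q` and of `x` on `E` lie in `Z`, then `E = Z` -/

namespace Cfsg.Agent.Lib.Helper11.RegA

open Cfsg Cfsg.Agent.Lib

/-- every element of `Q` is a commutator `x g x⁻¹ g⁻¹` when `C_Q(x) = 1` -/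
theorem exists_comm_eq {Γ : Type*} [Group Γ] [Finite Γ] (Q : Subgroup Γ) (x : Γ)
    (hxQ : x ∈ Subgroup.normalizer (Q : Set Γ)) (hQx : ∀ g ∈ Q, x * g = g * x → g = 1)
    (c : Γ) (hc : c ∈ Q) : ∃ g ∈ Q, x * g * x⁻¹ * g⁻¹ = c := by
  classical
  have hconj : ∀ g ∈ Q, x * g * x⁻¹ ∈ Q := fun g hg =>
    (Subgroup.mem_normalizer_iff.mp hxQ g).mp hg
  obtain ⟨f, hf⟩ : ∃ f : ↥Q → ↥Q, ∀ g : ↥Q, ((f g : ↥Q) : Γ) = x * g * x⁻¹ * (g : Γ)⁻¹ :=
    ⟨fun g => ⟨x * g * x⁻¹ * (g : Γ)⁻¹, Q.mul_mem (hconj g g.2) (Q.inv_mem g.2)⟩, fun _ => rfl⟩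
  have hinj : Function.Injective f := by
    intro a b hab
    have h1 : x * a * x⁻¹ * (a : Γ)⁻¹ = x * b * x⁻¹ * (b : Γ)⁻¹ := by
      rw [← hf a, ← hf b, hab]
    have h2 : x * ((b : Γ)⁻¹ * a) = ((b : Γ)⁻¹ * a) * x := by
      have h3 : (a : Γ) * x⁻¹ * (a : Γ)⁻¹ = b * x⁻¹ * (b : Γ)⁻¹ := by
        have := congrArg (fun u => x⁻¹ * u) h1
        simpa [mul_assoc] using this
      have h4 : (b : Γ)⁻¹ * a * x⁻¹ = x⁻¹ * ((b : Γ)⁻¹ * a) := by
        calc (b : Γ)⁻¹ * a * x⁻¹ = (b : Γ)⁻¹ * (a * x⁻¹ * (a : Γ)⁻¹) * a := by group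
          _ = (b : Γ)⁻¹ * (b * x⁻¹ * (b : Γ)⁻¹) * a := by rw [h3]
          _ = x⁻¹ * ((b : Γ)⁻¹ * a) := by group
      calc x * ((b : Γ)⁻¹ * a) = x * ((b : Γ)⁻¹ * a * x⁻¹) * x := by group
        _ = x * (x⁻¹ * ((b : Γ)⁻¹ * a)) * x := by rw [h4]
        _ = ((b : Γ)⁻¹ * a) * x := by group
    have h5 := hQx _ (Q.mul_mem (Q.inv_mem b.2) a.2) h2
    apply Subtype.ext
    have : (a : Γ) = b * ((b : Γ)⁻¹ * a) := by group
    rw [this, h5, mul_one]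
  have hsurj : Function.Surjective f := Finite.surjective_of_injective hinj
  obtain ⟨g, hg⟩ := hsurj ⟨c, hc⟩
  refine ⟨g, g.2, ?_⟩
  rw [← hf g, hg]

/-- the section lemma, when `Z` is normal in the ambient group -/
theorem section_zero {Γ : Type*} [Group Γ] [Finite Γ] (t q r : ℕ) (ht : t.Prime) (hq : q.Prime)
    (hr : r.Prime) (htq : t ≠ q) (htr : t ≠ r) (hqr : q ≠ r) (hq2 : q ≠ 2)
    (E Z : Subgroup Γ) [hZn : Z.Normal] (hZE : Z ≤ E) (hEt : IsPGroup t E)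
    (Q : Subgroup Γ) (hQ : IsPGroup q Q) (hQE : Q ≤ Subgroup.normalizer (E : Set Γ))
    (hQZ : ∀ g ∈ Q, ∀ z ∈ Z, g * z = z * g)
    (x : Γ) (hxE : x ∈ Subgroup.normalizer (E : Set Γ)) (hxZ : ∀ z ∈ Z, x * z = z * x)
    (hxr : x ^ r = 1) (hxQ : x ∈ Subgroup.normalizer (Q : Set Γ))
    (hQx : ∀ g ∈ Q, x * g = g * x → g = 1)
    (hPQ : ∀ e ∈ E, (∀ g ∈ Q, g * e = e * g) → e ∈ Z)
    (hPx : ∀ e ∈ E, x * e = e * x → e ∈ Z) : E ≤ Z := by
  classical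
  haveI : Fact t.Prime := ⟨ht⟩
  obtain ⟨π, hπ⟩ : ∃ π : Γ →* Γ ⧸ Z, π = QuotientGroup.mk' Z := ⟨_, rfl⟩
  have hπker : ∀ a : Γ, π a = 1 ↔ a ∈ Z := by
    intro a
    rw [hπ, QuotientGroup.mk'_apply, QuotientGroup.eq_one_iff]
  -- a `t`-element `z` with `u z u⁻¹ = z`, `u e u⁻¹ = e z` and `u` of order prime to `t` is trivial
  have hEpow : ∀ e ∈ E, ∃ k : ℕ, e ^ t ^ k = 1 := by
    intro e he
    obtain ⟨k, hk⟩ := hEt ⟨e, he⟩
    exact ⟨k, by simpa using congrArg Subtype.val hk⟩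
  have key : ∀ (u : Γ) (m : ℕ), u ^ m = 1 → m.Coprime t → (∀ z ∈ Z, u * z = z * u) →
      ∀ e ∈ E, π (u * e * u⁻¹) = π e → u * e = e * u := by
    intro u m hum hmt huZ e he hπe
    have hz : e⁻¹ * (u * e * u⁻¹) ∈ Z := by
      rw [← hπker, map_mul, hπe, map_inv, inv_mul_cancel]
    obtain ⟨z, hzdef⟩ : ∃ z : Γ, z = e⁻¹ * (u * e * u⁻¹) := ⟨_, rfl⟩
    rw [← hzdef] at hz
    have h1 : u * e * u⁻¹ = e * z := by rw [hzdef]; group
    have h2 : u * z * u⁻¹ = z := by rw [huZ z hz]; group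
    obtain ⟨k, hk⟩ := hEpow z (hZE hz)
    have hou : orderOf u ∣ m := orderOf_dvd_of_pow_eq_one hum
    have hcop : (orderOf u).Coprime (t ^ k) :=
      Nat.Coprime.pow_right k (Nat.Coprime.coprime_dvd_left hou hmt)
    have hz1 := Cfsg.Agent.Lib.Helper11.eq_one_of_conj_eq_mul_of_coprime u e z h1 h2 (t ^ k) hk hcop
    rw [hz1, mul_one] at h1
    calc u * e = u * e * u⁻¹ * u := by group
      _ = e * u := by rw [h1]
  obtain ⟨L, hLdef⟩ : ∃ L : Subgroup (Γ ⧸ Z), L = E.map π := ⟨_, rfl⟩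
  obtain ⟨Qb, hQbdef⟩ : ∃ Qb : Subgroup (Γ ⧸ Z), Qb = Q.map π := ⟨_, rfl⟩
  have hL : IsPGroup t L := hLdef ▸ hEt.map π
  have hQb : IsPGroup q Qb := hQbdef ▸ hQ.map π
  have hxL : π x ∈ Subgroup.normalizer (L : Set (Γ ⧸ Z)) := by
    rw [hLdef]
    exact Subgroup.le_normalizer_map π ⟨x, hxE, rfl⟩
  have hxQb : π x ∈ Subgroup.normalizer (Qb : Set (Γ ⧸ Z)) := by
    rw [hQbdef]
    exact Subgroup.le_normalizer_map π ⟨x, hxQ, rfl⟩
  have hQbL : Qb ≤ Subgroup.normalizer (L : Set (Γ ⧸ Z)) := by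
    rw [hQbdef, hLdef]
    exact (Subgroup.map_mono hQE).trans (Subgroup.le_normalizer_map π)
  have hxbr : π x ^ r = 1 := by rw [← map_pow, hxr, map_one]
  have hrt : r.Coprime t := (Nat.coprime_primes hr ht).mpr (Ne.symm htr)
  have hfpf : ∀ n ∈ L, π x * n = n * π x → n = 1 := by
    intro n hn hcomm
    rw [hLdef] at hn
    obtain ⟨e, he, rfl⟩ := hn
    rw [hπker]
    apply hPx e he
    apply key x r hxr hrt hxZ e he
    rw [map_mul, map_mul, hcomm, map_inv, mul_inv_cancel_right]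
  have hmain := Cfsg.Agent.Lib.Helper11.ExcE.comm_centralizes_pgroup t q r ht hq hr htq htr hqr hq2
    L hL (π x) hxL hxbr hfpf Qb hQb hQbL hxQb
  -- every element of `Q` centralizes `E` modulo `Z`
  intro e he
  apply hPQ e he
  intro c hc
  obtain ⟨g, hg, hgc⟩ := exists_comm_eq Q x hxQ hQx c hc
  have h1 := hmain (π g) (by rw [hQbdef]; exact ⟨g, hg, rfl⟩)
  rw [← map_inv, ← map_inv, ← map_mul, ← map_mul, ← map_mul, hgc] at h1
  have h2 : π c * π e = π e * π c :=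
    (Subgroup.mem_centralizer_iff.mp h1 (π e) (by rw [hLdef]; exact ⟨e, he, rfl⟩)).symm
  obtain ⟨k, hk⟩ := hQ ⟨c, hc⟩
  have hck : c ^ q ^ k = 1 := by simpa using congrArg Subtype.val hk
  have hqt : (q ^ k).Coprime t :=
    Nat.Coprime.pow_left k ((Nat.coprime_primes hq ht).mpr (Ne.symm htq))
  apply key c (q ^ k) hck hqt (hQZ c hc) e he
  rw [map_mul, map_mul, h2, map_inv, mul_inv_cancel_right]

/-- **the section lemma**: `Q⟨x⟩` with `C_Q(x) = 1` acts on the `t`-group `E`, centralizing the subgroup `Z`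
normalized by `E`; if all fixed points of `Q` and of `x` on `E` lie in `Z` then `E = Z` -/
theorem section_lemma {G : Type*} [Group G] [Finite G] (t q r : ℕ) (ht : t.Prime) (hq : q.Prime)
    (hr : r.Prime) (htq : t ≠ q) (htr : t ≠ r) (hqr : q ≠ r) (hq2 : q ≠ 2)
    (E Z : Subgroup G) (hZE : Z ≤ E) (hEZ : E ≤ Subgroup.normalizer (Z : Set G))
    (hEt : IsPGroup t E)
    (Q : Subgroup G) (hQ : IsPGroup q Q) (hQE : Q ≤ Subgroup.normalizer (E : Set G))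
    (hQZ : ∀ g ∈ Q, ∀ z ∈ Z, g * z = z * g)
    (x : G) (hxE : x ∈ Subgroup.normalizer (E : Set G)) (hxZ : ∀ z ∈ Z, x * z = z * x)
    (hxr : x ^ r = 1) (hxQ : x ∈ Subgroup.normalizer (Q : Set G))
    (hQx : ∀ g ∈ Q, x * g = g * x → g = 1)
    (hPQ : ∀ e ∈ E, (∀ g ∈ Q, g * e = e * g) → e ∈ Z)
    (hPx : ∀ e ∈ E, x * e = e * x → e ∈ Z) : E ≤ Z := by
  classical
  obtain ⟨Nn, hNn⟩ : ∃ Nn : Subgroup G, Nn = Subgroup.normalizer (Z : Set G) := ⟨_, rfl⟩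
  have hcentN : ∀ u : G, (∀ z ∈ Z, u * z = z * u) → u ∈ Nn := by
    intro u hu
    rw [hNn, Subgroup.mem_normalizer_iff]
    intro z
    constructor
    · intro hz
      rw [hu z hz, mul_inv_cancel_right]
      exact hz
    · intro hz
      have h1 := hu _ hz
      have h2 : z = u⁻¹ * (u * z * u⁻¹) * u := by group
      have h3 : u⁻¹ * (u * z * u⁻¹) * u = u * z * u⁻¹ := by
        calc u⁻¹ * (u * z * u⁻¹) * u = u⁻¹ * (u * (u * z * u⁻¹)) := by rw [h1]; group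
          _ = u * z * u⁻¹ := by group
      rw [h2, h3]
      exact hz
  have hEN : E ≤ Nn := hNn ▸ hEZ
  have hQN : Q ≤ Nn := fun g hg => hcentN g (hQZ g hg)
  have hxN : x ∈ Nn := hcentN x hxZ
  haveI hZn : (Z.subgroupOf Nn).Normal := by
    rw [hNn]
    exact Subgroup.normal_in_normalizer
  have hmem : ∀ (X : Subgroup G) (a : ↥Nn), a ∈ X.subgroupOf Nn ↔ (a : G) ∈ X :=
    fun X a => Subgroup.mem_subgroupOf
  have hnorm : ∀ (X : Subgroup G) (u : ↥Nn), (u : G) ∈ Subgroup.normalizer (X : Set G) →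
      u ∈ Subgroup.normalizer ((X.subgroupOf Nn : Subgroup ↥Nn) : Set ↥Nn) := by
    intro X u hu
    rw [Subgroup.mem_normalizer_iff]
    intro h
    rw [hmem, hmem]
    exact Subgroup.mem_normalizer_iff.mp hu h
  have hres := section_zero t q r ht hq hr htq htr hqr hq2 (E.subgroupOf Nn) (Z.subgroupOf Nn)
    (fun a ha => (hmem E a).mpr (hZE ((hmem Z a).mp ha))) hEt.comap_subtype
    (Q.subgroupOf Nn) hQ.comap_subtype
    (fun g hg => hnorm E g (hQE ((hmem Q g).mp hg)))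
    (fun g hg z hz => Subtype.ext (hQZ g ((hmem Q g).mp hg) z ((hmem Z z).mp hz)))
    ⟨x, hxN⟩ (hnorm E ⟨x, hxN⟩ hxE)
    (fun z hz => Subtype.ext (hxZ z ((hmem Z z).mp hz)))
    (Subtype.ext (by simpa using hxr)) (hnorm Q ⟨x, hxN⟩ hxQ)
    (fun g hg hc => Subtype.ext (hQx g ((hmem Q g).mp hg) (congrArg Subtype.val hc)))
    (fun e he hc => (hmem Z e).mpr (hPQ e ((hmem E e).mp he)
      (fun g hg => congrArg Subtype.val (hc ⟨g, hQN hg⟩ ((hmem Q _).mpr hg)))))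
    (fun e he hc => (hmem Z e).mpr (hPx e ((hmem E e).mp he) (congrArg Subtype.val hc)))
  intro e he
  exact (hmem Z ⟨e, hEN he⟩).mp (hres ((hmem E ⟨e, hEN he⟩).mpr he))

end Cfsg.Agent.Lib.Helper11.RegA
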