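import Mathlib
import Cfsg.Agent.Lib.Helper11.RegA
import Cfsg.Agent.Lib.Helper11.ClassTwoPow
import Cfsg.Agent.Lib.Helper24.NormalRank
import Cfsg.Agent.Lib.Helper9.RankComp1
import Cfsg.Agent.Lib.helper17.SPE2
import Cfsg.Agent.Lib.Helper18.SylowIn

set_option autoImplicit false
open scoped commutatorElement

/-! the core lemma for the regularity lemma: a Frobenius-type group `Q⟨x⟩` cannot act on a noncyclic
`t`-group `T` so that the elements of order `t` of `C_T(Q)` and of `C_T(x)` all lie in one subgroup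
`⟨y⟩` of order `t` centralized by `Q⟨x⟩` -/

namespace Cfsg.Agent.Lib.Helper11.RegB

open Cfsg Cfsg.Agent.Lib

variable {G : Type*} [Group G] [Finite G]

theorem mem_normalizer_of_conj_mem {u : G} {X : Subgroup G} (h : ∀ e ∈ X, u * e * u⁻¹ ∈ X) :
    u ∈ Subgroup.normalizer (X : Set G) := by
  apply Helper18.mem_normalizer_of_conjSub_le
  intro a ha
  rw [Helper18.mem_conjSub] at ha
  have := h _ ha
  have e : u * (u⁻¹ * a * u) * u⁻¹ = a := by group
  rwa [e] at this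

theorem conj_mem_of_mem_normalizer {u : G} {X : Subgroup G}
    (hu : u ∈ Subgroup.normalizer (X : Set G)) {e : G} (he : e ∈ X) : u * e * u⁻¹ ∈ X :=
  (Subgroup.mem_normalizer_iff.mp hu e).mp he

theorem conj_inv_mem_of_mem_normalizer {u : G} {X : Subgroup G}
    (hu : u ∈ Subgroup.normalizer (X : Set G)) {e : G} (he : e ∈ X) : u⁻¹ * e * u ∈ X := by
  have := conj_mem_of_mem_normalizer (Subgroup.inv_mem _ hu) he
  simpa using this

theorem commute_zpowers {u y : G} (h : u * y = y * u) : ∀ z ∈ Subgroup.zpowers y, u * z = z * u := by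
  intro z hz
  obtain ⟨k, rfl⟩ := Subgroup.mem_zpowers_iff.mp hz
  exact ((show Commute u y from h).zpow_right k).eq

/-- the core lemma -/
theorem core (t q r : ℕ) (ht : t.Prime) (hq : q.Prime) (hr : r.Prime) (htq : t ≠ q) (htr : t ≠ r)
    (hqr : q ≠ r) (hq2 : q ≠ 2) (ht2 : t ≠ 2)
    (T : Subgroup G) (hT : IsPGroup t T) (hTnc : ¬ IsCyclic T)
    (Q : Subgroup G) (hQ : IsPGroup q Q) (hQT : Q ≤ Subgroup.normalizer (T : Set G))
    (x : G) (hxT : x ∈ Subgroup.normalizer (T : Set G)) (hxr : x ^ r = 1)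
    (hxQ : x ∈ Subgroup.normalizer (Q : Set G)) (hQx : ∀ g ∈ Q, x * g = g * x → g = 1)
    (y : G) (hyT : y ∈ T) (hy1 : y ≠ 1) (hyt : y ^ t = 1) (hQy : ∀ g ∈ Q, g * y = y * g)
    (hxy : x * y = y * x)
    (hPQ : ∀ e ∈ T, e ^ t = 1 → (∀ g ∈ Q, g * e = e * g) → e ∈ Subgroup.zpowers y)
    (hPx : ∀ e ∈ T, e ^ t = 1 → x * e = e * x → e ∈ Subgroup.zpowers y) : False := by
  classical
  haveI : Fact t.Prime := ⟨ht⟩
  obtain ⟨Z0, hZ0⟩ : ∃ Z0 : Subgroup G, Z0 = Subgroup.zpowers y := ⟨_, rfl⟩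
  rw [← hZ0] at hPQ hPx
  have hyZ0 : y ∈ Z0 := hZ0 ▸ Subgroup.mem_zpowers y
  have hZ0T : Z0 ≤ T := by rw [hZ0, Subgroup.zpowers_le]; exact hyT
  have hZ0t : ∀ z ∈ Z0, z ^ t = 1 := by
    intro z hz
    rw [hZ0] at hz
    obtain ⟨k, rfl⟩ := Subgroup.mem_zpowers_iff.mp hz
    rw [← zpow_natCast, ← zpow_mul, mul_comm, zpow_mul, zpow_natCast, hyt, one_zpow]
  have hQZ0 : ∀ g ∈ Q, ∀ z ∈ Z0, g * z = z * g := fun g hg z hz =>
    commute_zpowers (hQy g hg) z (hZ0 ▸ hz)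
  have hxZ0 : ∀ z ∈ Z0, x * z = z * x := fun z hz => commute_zpowers hxy z (hZ0 ▸ hz)
  have hZ0card : Nat.card Z0 = t := by
    rw [hZ0, Nat.card_zpowers]
    exact orderOf_eq_prime hyt hy1
  have hTt : ∀ e ∈ T, ∃ k : ℕ, e ^ t ^ k = 1 := by
    intro e he
    obtain ⟨k, hk⟩ := hT ⟨e, he⟩
    exact ⟨k, by simpa using congrArg Subtype.val hk⟩
  -- Step 1: the central elements of order `t` of `T` lie in `Z0`
  obtain ⟨Z1, hZ1⟩ : ∃ Z1 : Subgroup G, ∀ e : G, e ∈ Z1 ↔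
      (e ∈ T ∧ e ^ t = 1 ∧ ∀ g ∈ T, g * e = e * g) := by
    refine ⟨{ carrier := {e | e ∈ T ∧ e ^ t = 1 ∧ ∀ g ∈ T, g * e = e * g}
              mul_mem' := ?_
              one_mem' := ⟨T.one_mem, one_pow _, fun g _ => by rw [mul_one, one_mul]⟩
              inv_mem' := ?_ }, fun e => Iff.rfl⟩
    · rintro a b ⟨haT, hat, hac⟩ ⟨hbT, hbt, hbc⟩
      refine ⟨T.mul_mem haT hbT, ?_, ?_⟩
      · have hab : Commute a b := (hbc a haT)
        rw [hab.mul_pow, hat, hbt, one_mul]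
      · intro g hg
        calc g * (a * b) = (g * a) * b := by group
          _ = a * (g * b) := by rw [hac g hg]; group
          _ = a * b * g := by rw [hbc g hg]; group
    · rintro a ⟨haT, hat, hac⟩
      refine ⟨T.inv_mem haT, by rw [inv_pow, hat, inv_one], ?_⟩
      intro g hg
      have := hac g hg
      calc g * a⁻¹ = a⁻¹ * (a * g) * a⁻¹ := by group
        _ = a⁻¹ * (g * a) * a⁻¹ := by rw [this]
        _ = a⁻¹ * g := by group
  have hnormZ1 : ∀ u : G, u ∈ Subgroup.normalizer (T : Set G) →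
      u ∈ Subgroup.normalizer (Z1 : Set G) := by
    intro u hu
    apply mem_normalizer_of_conj_mem
    intro e he
    obtain ⟨heT, het, hec⟩ := (hZ1 e).mp he
    refine (hZ1 _).mpr ⟨conj_mem_of_mem_normalizer hu heT, ?_, ?_⟩
    · rw [conj_pow, het, mul_one, mul_inv_cancel]
    · intro g hg
      have hg' := conj_inv_mem_of_mem_normalizer hu hg
      have := hec _ hg'
      calc g * (u * e * u⁻¹) = u * ((u⁻¹ * g * u) * e) * u⁻¹ := by group
        _ = u * (e * (u⁻¹ * g * u)) * u⁻¹ := by rw [this]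
        _ = u * e * u⁻¹ * g := by group
  have hZ1t : IsPGroup t Z1 := by
    rintro ⟨e, he⟩
    exact ⟨1, Subtype.ext (by simpa using ((hZ1 e).mp he).2.1)⟩
  have hstep1 : Z1 ≤ Z1 ⊓ Z0 := by
    apply Cfsg.Agent.Lib.Helper11.RegA.section_lemma t q r ht hq hr htq htr hqr hq2 Z1 (Z1 ⊓ Z0)
      inf_le_left ?_ hZ1t Q hQ (fun g hg => hnormZ1 g (hQT hg))
      (fun g hg z hz => hQZ0 g hg z hz.2) x (hnormZ1 x hxT) (fun z hz => hxZ0 z hz.2) hxr hxQ hQx
    · intro e he hc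
      exact ⟨he, hPQ e ((hZ1 e).mp he).1 ((hZ1 e).mp he).2.1 hc⟩
    · intro e he hc
      exact ⟨he, hPx e ((hZ1 e).mp he).1 ((hZ1 e).mp he).2.1 hc⟩
    · intro e he
      apply mem_normalizer_of_conj_mem
      intro z hz
      have h1 := ((hZ1 z).mp hz.1).2.2 e ((hZ1 e).mp he).1
      have : e * z * e⁻¹ = z := by rw [h1]; group
      rw [this]
      exact hz
  have hZ1Z0 : Z1 ≤ Z0 := hstep1.trans inf_le_right
  -- Step 2: `y` is central in `T`
  have hT1 : T ≠ ⊥ := by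
    rintro rfl
    exact hy1 ((Subgroup.mem_bot).mp hyT)
  obtain ⟨z, hzT, hzo, hzc⟩ := Cfsg.Agent.Lib.helper17.exists_central_orderOf_eq_prime hT hT1
  have hzZ1 : z ∈ Z1 := (hZ1 z).mpr ⟨hzT, by rw [← hzo]; exact pow_orderOf_eq_one z, hzc⟩
  have hz1 : z ≠ 1 := by
    intro h
    rw [h, orderOf_one] at hzo
    exact ht.one_lt.ne hzo
  have hZ0le : Z0 ≤ Z1 := by
    have h1 : Subgroup.zpowers z ≤ Z0 := by
      rw [Subgroup.zpowers_le]; exact hZ1Z0 hzZ1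
    have h2 : Nat.card (Subgroup.zpowers z) = t := by rw [Nat.card_zpowers, hzo]
    have h3 : Subgroup.zpowers z = Z0 :=
      Subgroup.eq_of_le_of_card_ge h1 (by rw [h2, hZ0card])
    rw [← h3, Subgroup.zpowers_le]
    exact hzZ1
  have hZ0cen : ∀ z ∈ Z0, ∀ g ∈ T, g * z = z * g := fun z hz g hg =>
    ((hZ1 z).mp (hZ0le hz)).2.2 g hg
  -- Step 3: the subgroup `E1`
  obtain ⟨E1, hE1⟩ : ∃ E1 : Subgroup G, ∀ e : G, e ∈ E1 ↔
      (e ∈ T ∧ e ^ t = 1 ∧ ∀ g ∈ T, g * e * g⁻¹ * e⁻¹ ∈ Z0) := by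
    refine ⟨{ carrier := {e | e ∈ T ∧ e ^ t = 1 ∧ ∀ g ∈ T, g * e * g⁻¹ * e⁻¹ ∈ Z0}
              mul_mem' := ?_
              one_mem' := ⟨T.one_mem, one_pow _, fun g _ => by simp [Z0.one_mem]⟩
              inv_mem' := ?_ }, fun e => Iff.rfl⟩
    · rintro a b ⟨haT, hat, hac⟩ ⟨hbT, hbt, hbc⟩
      refine ⟨T.mul_mem haT hbT, ?_, ?_⟩
      · have hc := hac b hbT
        have hcomm : ⁅b, a⁆ = b * a * b⁻¹ * a⁻¹ := commutatorElement_def b a
        apply Cfsg.Agent.Lib.Helper11.mul_pow_prime_eq_one t ht ht2 a b _ _ hat hbt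
        · rw [hcomm]; exact (hZ0cen _ hc a haT).symm
        · rw [hcomm]; exact (hZ0cen _ hc b hbT).symm
      · intro g hg
        have h1 := hac g hg
        have h2 := hbc g hg
        have h3 : a * (g * b * g⁻¹ * b⁻¹) = (g * b * g⁻¹ * b⁻¹) * a := hZ0cen _ h2 a haT
        have e : g * (a * b) * g⁻¹ * (a * b)⁻¹ =
            (g * a * g⁻¹ * a⁻¹) * (a * (g * b * g⁻¹ * b⁻¹)) * a⁻¹ := by group
        rw [e, h3]
        have e2 : g * a * g⁻¹ * a⁻¹ * (g * b * g⁻¹ * b⁻¹ * a) * a⁻¹ =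
            (g * a * g⁻¹ * a⁻¹) * (g * b * g⁻¹ * b⁻¹) := by group
        rw [e2]
        exact Z0.mul_mem h1 h2
    · rintro a ⟨haT, hat, hac⟩
      refine ⟨T.inv_mem haT, by rw [inv_pow, hat, inv_one], ?_⟩
      intro g hg
      have h1 := hac g hg
      have h3 : Commute a (g * a * g⁻¹ * a⁻¹) := hZ0cen _ h1 a haT
      have h4 : a * (g * a * g⁻¹ * a⁻¹)⁻¹ = (g * a * g⁻¹ * a⁻¹)⁻¹ * a := h3.inv_right.eq
      have e : g * a⁻¹ * g⁻¹ * a⁻¹⁻¹ = a⁻¹ * ((g * a * g⁻¹ * a⁻¹)⁻¹ * a) := by group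
      rw [e, ← h4, inv_mul_cancel_left]
      exact Z0.inv_mem h1
  have hZ0E1 : Z0 ≤ E1 := by
    intro z hz
    refine (hE1 z).mpr ⟨hZ0T hz, hZ0t z hz, fun g hg => ?_⟩
    have := hZ0cen z hz g hg
    have e : g * z * g⁻¹ * z⁻¹ = 1 := by rw [this]; group
    rw [e]
    exact Z0.one_mem
  have hnormE1 : ∀ u : G, u ∈ Subgroup.normalizer (T : Set G) → (∀ z ∈ Z0, u * z = z * u) →
      u ∈ Subgroup.normalizer (E1 : Set G) := by
    intro u hu huZ
    apply mem_normalizer_of_conj_mem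
    intro e he
    obtain ⟨heT, het, hec⟩ := (hE1 e).mp he
    refine (hE1 _).mpr ⟨conj_mem_of_mem_normalizer hu heT, ?_, ?_⟩
    · rw [conj_pow, het, mul_one, mul_inv_cancel]
    · intro g hg
      have hg' := conj_inv_mem_of_mem_normalizer hu hg
      have hc := hec _ hg'
      have h1 := huZ _ hc
      have e1 : g * (u * e * u⁻¹) * g⁻¹ * (u * e * u⁻¹)⁻¹ =
          u * ((u⁻¹ * g * u) * e * (u⁻¹ * g * u)⁻¹ * e⁻¹) * u⁻¹ := by group
      rw [e1, h1, mul_inv_cancel_right]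
      exact hc
  have hE1t : IsPGroup t E1 := by
    rintro ⟨e, he⟩
    exact ⟨1, Subtype.ext (by simpa using ((hE1 e).mp he).2.1)⟩
  have hE1Z0 : E1 ≤ Z0 := by
    apply Cfsg.Agent.Lib.Helper11.RegA.section_lemma t q r ht hq hr htq htr hqr hq2 E1 Z0
      hZ0E1 ?_ hE1t Q hQ (fun g hg => hnormE1 g (hQT hg) (hQZ0 g hg))
      hQZ0 x (hnormE1 x hxT hxZ0) hxZ0 hxr hxQ hQx
    · intro e he hc
      exact hPQ e ((hE1 e).mp he).1 ((hE1 e).mp he).2.1 hc
    · intro e he hc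
      exact hPx e ((hE1 e).mp he).1 ((hE1 e).mp he).2.1 hc
    · intro e he
      apply mem_normalizer_of_conj_mem
      intro z hz
      have h1 := hZ0cen z hz e ((hE1 e).mp he).1
      have : e * z * e⁻¹ = z := by rw [h1]; group
      rw [this]
      exact hz
  -- Step 4: an element of `E1` outside `Z0`
  have hTp : IsPGroup t ↥T := hT
  obtain ⟨A, hAn, hAe, hAc⟩ := Cfsg.Agent.Lib.Helper24.nr_main ht2 hTp hTnc
  haveI := hAn
  obtain ⟨Z', hZ'⟩ : ∃ Z' : Subgroup ↥T, Z' = Z0.subgroupOf T := ⟨_, rfl⟩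
  have hZ'mem : ∀ a : ↥T, a ∈ Z' ↔ (a : G) ∈ Z0 := fun a => by
    rw [hZ']; exact Subgroup.mem_subgroupOf
  have hZ'cen : Z' ≤ Subgroup.center ↥T := by
    intro a ha
    rw [Subgroup.mem_center_iff]
    intro g
    exact Subtype.ext (hZ0cen a ((hZ'mem a).mp ha) g g.2)
  haveI hZ'n : Z'.Normal := Cfsg.Agent.Lib.Helper9.rc_normal_of_le_center Z' hZ'cen
  have hZ'card : Nat.card Z' = t := by
    rw [hZ', Nat.card_congr (Subgroup.subgroupOfEquivOfLe hZ0T).toEquiv, hZ0card]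
  have hne : Z' ≠ A ⊔ Z' := by
    intro h
    have hAZ : A ≤ Z' := by rw [h]; exact le_sup_left
    have := Subgroup.card_le_of_le hAZ
    rw [hAc, hZ'card] at this
    have h1 : t < t ^ 2 := by
      have := ht.one_lt
      nlinarith
    omega
  obtain ⟨w, hwU, hwZ, hwc⟩ := Cfsg.Agent.Lib.Helper9.rc_exists_central_mod hTp (A ⊔ Z') Z' hZ'cen
    le_sup_right hne
  have hwt : (w : G) ^ t = 1 := by
    have hmem : w ∈ ((A ⊔ Z' : Subgroup ↥T) : Set ↥T) := hwU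
    rw [Subgroup.mul_normal] at hmem
    obtain ⟨a, ha, z, hz, rfl⟩ := hmem
    have hcomm : Commute a z := Subgroup.mem_center_iff.mp (hZ'cen hz) a
    have h1 : (a * z) ^ t = 1 := by
      rw [hcomm.mul_pow, hAe.2 a ha]
      have := hZ0t z ((hZ'mem z).mp hz)
      rw [one_mul]
      exact Subtype.ext (by simpa using this)
    simpa using congrArg Subtype.val h1
  have hwE1 : (w : G) ∈ E1 := by
    refine (hE1 _).mpr ⟨w.2, hwt, fun g hg => ?_⟩
    have := hwc ⟨g, hg⟩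
    rw [hZ'mem] at this
    simpa using this
  exact hwZ ((hZ'mem w).mpr (hE1Z0 hwE1))

end Cfsg.Agent.Lib.Helper11.RegB
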