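import Mathlib
import Cfsg.Agent.Lib.Helper11.RegB
import Cfsg.Agent.Lib.Helper11.ThirteenB
import Cfsg.Agent.Lib.Helper11.BenderP
import Cfsg.Agent.Lib.Helper18.BGTwelveD
import Cfsg.Agent.Lib.Helper10.SigmaJsubA
import Cfsg.Agent.Lib.Helper9.RankComp3
import Cfsg.Agent.S1399
import Cfsg.Agent.S1409

set_option autoImplicit false
open scoped commutatorElement

/-! the regularity lemma (a version of B & G, Lemma 12.12(a)) for ideal primes -/

namespace Cfsg.Agent.Lib.Helper11.RegC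

open Cfsg Cfsg.Agent.Lib

variable {G : Type*} [Group G] [Finite G]

/-- a noncyclic subgroup of a Sylow `t`-subgroup of `G`, `t` ideal, is a uniqueness subgroup -/
theorem noncyclic_unique (hG : Cfsg.IsMinSimpleOddOrder G) {t : ℕ} [ht : Fact t.Prime]
    (hideal : Cfsg.IsIdealPrime t G) (T : Subgroup G) (hT : Helper18.IsSylowIn t T ⊤)
    (C : Subgroup G) (hCT : C ≤ T) (hCnc : ¬ IsCyclic C) : Cfsg.InUniqueMaximal C := by
  have hCt : IsPGroup t C := hT.isPGroup.to_le hCT
  have hC1 : C ≠ ⊥ := by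
    rintro rfl
    exact hCnc inferInstance
  have ht2 : t ≠ 2 := Cfsg.Agent.Lib.Helper11.BenderD.odd_prime_of_pgroup hG t C hC1 hCt
  obtain ⟨Z, hZC, -, hZe, hZc⟩ := Cfsg.Agent.Lib.Helper11.BenderF.exists_normal_sq t ht2 C hCt hCnc
  have hidx : ¬ t ∣ T.index := by
    have := hT.not_dvd
    rwa [Subgroup.relIndex_top_right] at this
  obtain ⟨S', hS'⟩ : ∃ S' : Sylow t G, (S' : Subgroup G) = T := ⟨hT.isPGroup.toSylow hidx, rfl⟩
  obtain ⟨B, hBS, hBe, hZB⟩ := hideal.2.2 S' Z (by rw [hS']; exact hZC.trans hCT) hZe hZc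
  have hBc : t ^ 2 < Nat.card B := by
    rw [← hZc]
    by_contra hle
    push Not at hle
    exact hZB.ne (Subgroup.eq_of_le_of_card_ge hZB.le hle)
  have hBu := Cfsg.Agent.Lib.Helper18.BGTwelveD.unique_of_elemAb_cube hG hBe hBc
  have hZu : Cfsg.InUniqueMaximal Z := by
    apply Cfsg.Agent.S1399.result hG B Z hBu
    · exact hZB.le.trans (Cfsg.Agent.Lib.Helper9.rc_le_centralizer_self hBe)
    · exact Cfsg.Agent.Lib.Helper1.BG10.not_rankLE_one_of_sq hZe (by rw [hZc])
  exact Cfsg.Agent.Lib.Helper11.BenderE.unique_mono hZu hZC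
    (Cfsg.Agent.Lib.Helper11.MaxSubD.pgroup_ne_top hG t C hCt)

omit [Finite G] in
/-- in a cyclic subgroup, the elements of order dividing the prime `t` lie in `⟨y⟩`, `y` of order `t` -/
theorem mem_zpowers_of_cyclic [Finite G] {t : ℕ} (ht : t.Prime) {C : Subgroup G} (hC : IsCyclic C)
    {y e : G} (hy : y ∈ C) (hyo : orderOf y = t) (he : e ∈ C) (het : e ^ t = 1) :
    e ∈ Subgroup.zpowers y := by
  haveI : Fact t.Prime := ⟨ht⟩
  by_cases he1 : e = 1
  · rw [he1]; exact Subgroup.one_mem _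
  · have heo : orderOf e = t := orderOf_eq_prime het he1
    have h1 : Subgroup.zpowers e = Subgroup.zpowers y := by
      apply Cfsg.Agent.Lib.Helper10.SigmaJsubA.eq_of_card_eq_of_le_cyclic hC
        (by rw [Subgroup.zpowers_le]; exact he) (by rw [Subgroup.zpowers_le]; exact hy)
      rw [Nat.card_zpowers, Nat.card_zpowers, heo, hyo]
    rw [← h1]
    exact Subgroup.mem_zpowers e

/-- **the regularity lemma**: `L` maximal, `r ∈ τ₁(L)`, `x ∈ L` of order `r` normalizing the nontrivial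
`q`-subgroup `Q` of `L` (`q ∉ α(L)`) with `C_Q(x) = 1`, and `y ∈ L` of prime order `t ∈ β(L)`
centralizing `Q⟨x⟩`.  Then `L` is the only maximal subgroup containing `N_G(Q)`. -/
theorem beta_reg (hG : Cfsg.IsMinSimpleOddOrder G) {L : Subgroup G} (hL : IsCoatom L)
    {r q t : ℕ} [hr : Fact r.Prime] [hq : Fact q.Prime] [ht : Fact t.Prime]
    (hrτ : r ∈ Cfsg.tau1 L) (hqr : q ≠ r) {x : G} (hxL : x ∈ L) (hxo : orderOf x = r)
    {Q : Subgroup G} (hQL : Q ≤ L) (hQq : IsPGroup q Q) (hQ1 : Q ≠ ⊥) (hqα : q ∉ Cfsg.alpha L)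
    (hxQ : x ∈ Subgroup.normalizer (Q : Set G)) (hQx : ∀ g ∈ Q, x * g = g * x → g = 1)
    {y : G} (hyL : y ∈ L) (hyo : orderOf y = t) (htβ : t ∈ Cfsg.beta L)
    (hxy : x * y = y * x) (hQy : ∀ g ∈ Q, g * y = y * g)
    {N : Subgroup G} (hN : IsCoatom N) (hNQ : Subgroup.normalizer (Q : Set G) ≤ N) : N = L := by
  by_contra hNL
  have htα : t ∈ Cfsg.alpha L := htβ.1
  have hideal : Cfsg.IsIdealPrime t G := htβ.2
  have htq : t ≠ q := by
    rintro rfl
    exact hqα htα
  have hrσ : r ∉ Cfsg.sigma L := hrτ.2.1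
  have htσ : t ∈ Cfsg.sigma L := Cfsg.Agent.Lib.Helper11.BenderN.alpha_sub_sigma hG L hL t htα
  have htr : t ≠ r := by
    rintro rfl
    exact hrσ htσ
  have hq2 : q ≠ 2 := Cfsg.Agent.Lib.Helper11.BenderD.odd_prime_of_pgroup hG q Q hQ1 hQq
  have hy1 : y ≠ 1 := by
    intro h
    rw [h, orderOf_one] at hyo
    exact ht.out.one_lt.ne hyo
  have hyt : y ^ t = 1 := by rw [← hyo]; exact pow_orderOf_eq_one y
  have hxr : x ^ r = 1 := by rw [← hxo]; exact pow_orderOf_eq_one x
  have hYt : IsPGroup t (Subgroup.zpowers y) := by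
    apply IsPGroup.of_card (n := 1)
    rw [Nat.card_zpowers, hyo, pow_one]
  have hY1 : Subgroup.zpowers y ≠ ⊥ := by
    intro h
    apply hy1
    have := Subgroup.mem_zpowers y
    rw [h, Subgroup.mem_bot] at this
    exact this
  have ht2 : t ≠ 2 :=
    Cfsg.Agent.Lib.Helper11.BenderD.odd_prime_of_pgroup hG t (Subgroup.zpowers y) hY1 hYt
  -- the acting group
  obtain ⟨X, hX⟩ : ∃ X : Subgroup G, X = Q ⊔ Subgroup.zpowers x := ⟨_, rfl⟩
  have hxN : Subgroup.zpowers x ≤ Subgroup.normalizer (Q : Set G) := by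
    rw [Subgroup.zpowers_le]; exact hxQ
  have hXL : X ≤ L := by
    rw [hX]
    exact sup_le hQL (by rw [Subgroup.zpowers_le]; exact hxL)
  have hXs : Group.IsSolvable X := by
    haveI := Cfsg.Agent.Lib.Helper11.MaxSubB.coatom_solvable hG L hL
    exact solvable_of_solvable_injective (Subgroup.inclusion_injective hXL)
  obtain ⟨K, hK⟩ : ∃ K : Subgroup G, K = Cfsg.alphaCore L := ⟨_, rfl⟩
  have hKprimes : ∀ ℓ : ℕ, ℓ.Prime → ℓ ∣ Nat.card K → ℓ ∈ Cfsg.alpha L := by
    intro ℓ hℓ hd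
    rw [hK] at hd
    exact (Cfsg.Agent.Lib.Helper11.BenderN.alpha_hall hG L hL).1.2.1 ℓ hℓ hd
  have hrα : r ∉ Cfsg.alpha L := fun h =>
    hrσ (Cfsg.Agent.Lib.Helper11.BenderN.alpha_sub_sigma hG L hL r h)
  have hcop : (Nat.card X).Coprime (Nat.card K) := by
    have h1 : Nat.card X ∣ Nat.card Q * Nat.card (Subgroup.zpowers x) := by
      rw [hX]
      exact Cfsg.Agent.Lib.Helper11.ThirteenB.card_sup_dvd Q (Subgroup.zpowers x) hxN
    apply Nat.Coprime.coprime_dvd_left h1
    obtain ⟨k, hk⟩ := IsPGroup.iff_card.mp hQq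
    rw [hk, Nat.card_zpowers, hxo]
    apply Nat.Coprime.mul_left
    · apply Nat.Coprime.pow_left
      rw [Nat.Prime.coprime_iff_not_dvd hq.out]
      exact fun hd => hqα (hKprimes q hq.out hd)
    · rw [Nat.Prime.coprime_iff_not_dvd hr.out]
      exact fun hd => hrα (hKprimes r hr.out hd)
  have hXK : X ≤ Subgroup.normalizer (K : Set G) := by
    rw [hK]
    exact hXL.trans (Cfsg.Agent.Lib.Helper1.BG12.le_normalizer_alphaCore L)
  have hyK : Subgroup.zpowers y ≤ K := by
    rw [hK]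
    exact Cfsg.Agent.Lib.Helper1.BG12.pgroup_le_alphaCore hG L hL t htα _
      (by rw [Subgroup.zpowers_le]; exact hyL) hYt
  have hcent_norm : ∀ u : G, u * y = y * u → u ∈ Subgroup.normalizer ((Subgroup.zpowers y : Subgroup G) : Set G) := by
    intro u hu
    apply Cfsg.Agent.Lib.Helper11.RegB.mem_normalizer_of_conj_mem
    intro z hz
    have := Cfsg.Agent.Lib.Helper11.RegB.commute_zpowers hu z hz
    have e : u * z * u⁻¹ = z := by rw [this]; group
    rw [e]
    exact hz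
  have hXy : X ≤ Subgroup.normalizer ((Subgroup.zpowers y : Subgroup G) : Set G) := by
    rw [hX]
    apply sup_le
    · intro g hg
      exact hcent_norm g (hQy g hg)
    · rw [Subgroup.zpowers_le]
      exact hcent_norm x hxy
  obtain ⟨T, hTsyl, hXT, hyT'⟩ := Cfsg.Agent.Lib.Helper11.BenderP.exists_inv_sylow_ge X K hXK hcop hXs
    t (Subgroup.zpowers y) hyK hYt hXy
  have hyT : y ∈ T := hyT' (Subgroup.mem_zpowers y)
  have hTt : IsPGroup t T := hTsyl.isPGroup
  have hKL : K ≤ L := hK ▸ Cfsg.Agent.Lib.Helper1.BG12.alphaCore_le L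
  have hTL : T ≤ L := hTsyl.le.trans hKL
  -- `T` is a Sylow subgroup of `G`
  have hTtop : Helper18.IsSylowIn t T ⊤ := by
    refine ⟨le_top, hTt, ?_⟩
    rw [Subgroup.relIndex_top_right]
    have h1 : T.relIndex K * K.index = T.index := Subgroup.relIndex_mul_index hTsyl.le
    rw [← h1]
    intro hd
    rcases (Nat.Prime.dvd_mul ht.out).mp hd with h | h
    · exact hTsyl.not_dvd h
    · have := (Cfsg.Agent.Lib.Helper11.BenderN.alpha_hall hG L hL).2.1.2 t ht.out htα
      rw [hK] at h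
      exact this h
  have hQT : Q ≤ Subgroup.normalizer (T : Set G) := by
    rw [hX] at hXT
    exact le_sup_left.trans hXT
  have hxT : x ∈ Subgroup.normalizer (T : Set G) := by
    rw [hX] at hXT
    exact hXT (Subgroup.mem_sup_right (Subgroup.mem_zpowers x))
  -- `C_T(Q)` is cyclic
  have hCQ : IsCyclic ↥(T ⊓ Subgroup.centralizer (Q : Set G)) := by
    by_contra hnc
    have hu := noncyclic_unique hG hideal T hTtop _ inf_le_left hnc
    have h1 : T ⊓ Subgroup.centralizer (Q : Set G) ≤ L := inf_le_left.trans hTL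
    have h2 : T ⊓ Subgroup.centralizer (Q : Set G) ≤ N :=
      inf_le_right.trans ((Subgroup.centralizer_le_normalizer _).trans hNQ)
    exact hNL (hu.unique ⟨hN, h2⟩ ⟨hL, h1⟩)
  -- `C_T(x)` is cyclic
  have hCx : IsCyclic ↥(T ⊓ Subgroup.centralizer ({x} : Set G)) := by
    by_contra hnc
    have hu := noncyclic_unique hG hideal T hTtop _ inf_le_left hnc
    have h1 : T ⊓ Subgroup.centralizer ({x} : Set G) ≤ L := inf_le_left.trans hTL
    have hx1 : Subgroup.zpowers x ≠ ⊥ := by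
      intro h
      have := Subgroup.mem_zpowers x
      rw [h, Subgroup.mem_bot] at this
      rw [this, orderOf_one] at hxo
      exact hr.out.one_lt.ne hxo
    have hxr' : IsPGroup r (Subgroup.zpowers x) := by
      apply IsPGroup.of_card (n := 1)
      rw [Nat.card_zpowers, hxo, pow_one]
    have hxtop : Subgroup.zpowers x ≠ ⊤ :=
      Cfsg.Agent.Lib.Helper11.MaxSubD.pgroup_ne_top hG r _ hxr'
    have hNtop := Cfsg.Agent.Lib.Helper1.BG10.normalizer_ne_top hG hx1 hxtop
    obtain ⟨N', hN', hNN'⟩ := Cfsg.Agent.Lib.Helper11.BenderE.exists_coatom_ge _ hNtop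
    have h2 : T ⊓ Subgroup.centralizer ({x} : Set G) ≤
        Subgroup.normalizer ((Subgroup.zpowers x : Subgroup G) : Set G) := by
      intro u hu
      apply Cfsg.Agent.Lib.Helper11.RegB.mem_normalizer_of_conj_mem
      intro z hz
      have hux : u * x = x * u := (Subgroup.mem_centralizer_iff.mp hu.2 x rfl).symm
      have := Cfsg.Agent.Lib.Helper11.RegB.commute_zpowers hux z hz
      have e : u * z * u⁻¹ = z := by rw [this]; group
      rw [e]
      exact hz
    have e : N' = L := hu.unique ⟨hN', h2.trans hNN'⟩ ⟨hL, h1⟩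
    rw [e] at hNN'
    have h9 := Cfsg.Agent.S1409.result hG L hL r hrσ (Subgroup.zpowers x)
      (by rw [Nat.card_zpowers, hxo]) hNN'
    exact h9.1.2 hrτ.2.2.2.2
  -- `T` is not cyclic
  have hTnc : ¬ IsCyclic T := by
    intro hc
    have hrG := hideal.2.1
    unfold Cfsg.PRankLE at hrG
    push Not at hrG
    obtain ⟨A₀, hA₀c, hA₀p', hA₀card⟩ := hrG
    have hA₀e : Cfsg.IsElementaryAbelian t A₀ := ⟨hA₀c, hA₀p'⟩
    have hA₀3 : t ^ 2 ≤ Nat.card A₀ := hA₀card.le
    have hA₀p : IsPGroup t A₀ := Cfsg.Agent.Lib.Helper1.BG10.elemAb_isPGroup hA₀e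
    obtain ⟨g, -, hle⟩ := hTtop.exists_conj_le le_top hA₀p
    have hce := Cfsg.Agent.Lib.Helper11.BenderF.elemAb_conjSub t g hA₀e
    have hcc : t ^ 2 ≤ Nat.card (Helper18.conjSub g A₀) := by
      rw [Helper18.card_conjSub]
      exact hA₀3
    apply Cfsg.Agent.Lib.Helper11.BenderE.not_cyclic_of_elemAb t _ hce hcc
    haveI := hc
    exact isCyclic_of_injective (Subgroup.inclusion hle) (Subgroup.inclusion_injective hle)
  -- the contradiction
  refine Cfsg.Agent.Lib.Helper11.RegB.core t q r ht.out hq.out hr.out htq htr hqr hq2 ht2 T hTt hTnc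
    Q hQq hQT x hxT hxr hxQ hQx y hyT hy1 hyt hQy hxy ?_ ?_
  · intro e he het hc
    apply mem_zpowers_of_cyclic ht.out hCQ (C := T ⊓ Subgroup.centralizer (Q : Set G)) ?_ hyo ?_ het
    · refine Subgroup.mem_inf.mpr ⟨hyT, ?_⟩
      rw [Subgroup.mem_centralizer_iff]
      exact fun g hg => hQy g hg
    · refine Subgroup.mem_inf.mpr ⟨he, ?_⟩
      rw [Subgroup.mem_centralizer_iff]
      exact fun g hg => hc g hg
  · intro e he het hc
    apply mem_zpowers_of_cyclic ht.out hCx (C := T ⊓ Subgroup.centralizer ({x} : Set G)) ?_ hyo ?_ het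
    · refine Subgroup.mem_inf.mpr ⟨hyT, ?_⟩
      rw [Subgroup.mem_centralizer_iff]
      intro g hg
      rw [Set.mem_singleton_iff] at hg
      rw [hg]; exact hxy
    · refine Subgroup.mem_inf.mpr ⟨he, ?_⟩
      rw [Subgroup.mem_centralizer_iff]
      intro g hg
      rw [Set.mem_singleton_iff] at hg
      rw [hg]; exact hc

end Cfsg.Agent.Lib.Helper11.RegC
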