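import Mathlib
import Cfsg.Agent.Lib.Helper11.RegC
import Cfsg.Agent.Lib.Helper11.JsubB
import Cfsg.Agent.Lib.Helper1.CoprimeGen
import Cfsg.Agent.S1417
import Cfsg.Agent.S1422
import Cfsg.Agent.S1424
import Cfsg.Agent.Lib.Helper11.JsubC
import Cfsg.Agent.Lib.Helper11.ExcA
import Cfsg.Agent.Lib.Helper11.ExcE

set_option autoImplicit false
open scoped commutatorElement

/-! the hard case of B & G, Theorem 13.4 -/

namespace Cfsg.Agent.Lib.Helper11.RegD

open Cfsg Cfsg.Agent.Lib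

variable {G : Type*} [Group G] [Finite G]

/-- coprime action: if `x` (of prime order `r` not dividing `|C|`) normalizes but does not centralize `C`,
some `x`-invariant Sylow subgroup of `C` is not centralized by `x` -/
theorem exists_noncentral_sylow {C : Subgroup G} {x : G} {r : ℕ} (hr : r.Prime)
    (hxo : orderOf x = r) (hxC : x ∈ Subgroup.normalizer (C : Set G)) (hrC : ¬ r ∣ Nat.card C)
    (hnc : ¬ C ≤ Subgroup.centralizer ({x} : Set G)) :
    ∃ (q : ℕ) (_ : Fact q.Prime) (S : Subgroup G), Helper18.IsSylowIn q S C ∧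
      x ∈ Subgroup.normalizer (S : Set G) ∧ ¬ S ≤ Subgroup.centralizer ({x} : Set G) := by
  by_contra hcon
  push Not at hcon
  apply hnc
  apply Cfsg.Agent.Lib.Helper1.sylow_le_imp_le
  intro q hq
  have hXK : Subgroup.zpowers x ≤ Subgroup.normalizer (C : Set G) := by
    rw [Subgroup.zpowers_le]; exact hxC
  have hcop : (Nat.card (Subgroup.zpowers x)).Coprime (Nat.card C) := by
    rw [Nat.card_zpowers, hxo, Nat.Prime.coprime_iff_not_dvd hr]
    exact hrC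
  obtain ⟨P, hP, hXP, -⟩ := Cfsg.Agent.Lib.Helper11.BenderP.exists_inv_sylow_ge (Subgroup.zpowers x) C
    hXK hcop (Cfsg.Agent.Lib.Helper1.isSolvable_zpowers x) q ⊥ bot_le IsPGroup.of_bot
    (by intro g _; rw [Subgroup.mem_normalizer_iff]; intro h; simp [Subgroup.mem_bot])
  have h1 := hcon q hq P hP (hXP (Subgroup.mem_zpowers x))
  obtain ⟨S', hS'⟩ := hP.exists_sylow
  refine ⟨S', ?_⟩
  rw [hS', Subgroup.subgroupOf_map_subtype]
  exact inf_le_left.trans h1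

/-- the subgroup `[S, x]` of an abelian `x`-invariant subgroup `S` -/
theorem exists_comm_subgroup {S : Subgroup G} {x : G} (hSab : ∀ a ∈ S, ∀ b ∈ S, a * b = b * a)
    (hxS : x ∈ Subgroup.normalizer (S : Set G)) :
    ∃ Q : Subgroup G, Q ≤ S ∧ x ∈ Subgroup.normalizer (Q : Set G) ∧
      (∀ c : G, c ∈ Q ↔ ∃ s ∈ S, c = x * s * x⁻¹ * s⁻¹) := by
  have hconj : ∀ s ∈ S, x * s * x⁻¹ ∈ S := fun s hs =>
    Cfsg.Agent.Lib.Helper11.RegB.conj_mem_of_mem_normalizer hxS hs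
  have hmul : ∀ a ∈ S, ∀ b ∈ S, (x * a * x⁻¹ * a⁻¹) * (x * b * x⁻¹ * b⁻¹) =
      x * (a * b) * x⁻¹ * (a * b)⁻¹ := by
    intro a ha b hb
    have h1 : a⁻¹ * (x * b * x⁻¹) = (x * b * x⁻¹) * a⁻¹ := hSab _ (S.inv_mem ha) _ (hconj b hb)
    have h2 : a⁻¹ * b⁻¹ = b⁻¹ * a⁻¹ := hSab _ (S.inv_mem ha) _ (S.inv_mem hb)
    calc (x * a * x⁻¹ * a⁻¹) * (x * b * x⁻¹ * b⁻¹)
        = x * a * x⁻¹ * (a⁻¹ * (x * b * x⁻¹)) * b⁻¹ := by group
      _ = x * a * x⁻¹ * ((x * b * x⁻¹) * a⁻¹) * b⁻¹ := by rw [h1]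
      _ = x * (a * b) * x⁻¹ * (a⁻¹ * b⁻¹) := by group
      _ = x * (a * b) * x⁻¹ * (b⁻¹ * a⁻¹) := by rw [h2]
      _ = x * (a * b) * x⁻¹ * (a * b)⁻¹ := by group
  obtain ⟨Q, hQ⟩ : ∃ Q : Subgroup G, ∀ c : G, c ∈ Q ↔ ∃ s ∈ S, c = x * s * x⁻¹ * s⁻¹ := by
    refine ⟨{ carrier := {c | ∃ s ∈ S, c = x * s * x⁻¹ * s⁻¹}
              mul_mem' := ?_
              one_mem' := ⟨1, S.one_mem, by group⟩
              inv_mem' := ?_ }, fun c => Iff.rfl⟩
    · rintro _ _ ⟨a, ha, rfl⟩ ⟨b, hb, rfl⟩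
      exact ⟨a * b, S.mul_mem ha hb, hmul a ha b hb⟩
    · rintro _ ⟨a, ha, rfl⟩
      refine ⟨a⁻¹, S.inv_mem ha, ?_⟩
      have h := hmul a ha a⁻¹ (S.inv_mem ha)
      rw [mul_inv_cancel] at h
      have h2 : x * 1 * x⁻¹ * (1 : G)⁻¹ = 1 := by group
      rw [h2] at h
      exact inv_eq_of_mul_eq_one_right h
  have hQS : Q ≤ S := by
    intro c hc
    obtain ⟨s, hs, rfl⟩ := (hQ c).mp hc
    exact S.mul_mem (hconj s hs) (S.inv_mem hs)
  refine ⟨Q, hQS, ?_, hQ⟩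
  apply Cfsg.Agent.Lib.Helper11.RegB.mem_normalizer_of_conj_mem
  intro c hc
  obtain ⟨s, hs, rfl⟩ := (hQ c).mp hc
  exact (hQ _).mpr ⟨x * s * x⁻¹, hconj s hs, by group⟩

theorem centralizer_singleton_le_normalizer_zpowers (y : G) :
    Subgroup.centralizer ({y} : Set G) ≤
      Subgroup.normalizer ((Subgroup.zpowers y : Subgroup G) : Set G) := by
  intro g hg
  have hgy : g * y = y * g := Subgroup.mem_centralizer_singleton_iff.mp hg
  apply Cfsg.Agent.Lib.Helper11.RegB.mem_normalizer_of_conj_mem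
  intro e he
  have h1 := Cfsg.Agent.Lib.Helper11.RegB.commute_zpowers hgy e he
  have e2 : g * e * g⁻¹ = e := by rw [h1]; group
  rw [e2]; exact he

/-- the configuration produced in the hard case of Theorem 13.4 -/
theorem config (hG : Cfsg.IsMinSimpleOddOrder G) {M H : Subgroup G} (hM : IsCoatom M)
    (hH : IsCoatom H) (hnc : ∀ g : G, H ≠ Helper18.conjSub g M) {p r : ℕ} [hp : Fact p.Prime]
    [hr : Fact r.Prime] {x y : G} (hxo : orderOf x = r) (hyo : orderOf y = p) (hxM : x ∈ M)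
    (hyM : y ∈ M)
    (hNP : Subgroup.normalizer ((Subgroup.zpowers y : Subgroup G) : Set G) ≤ H)
    (hxy : x * y = y * x) (hrM : r ∉ Cfsg.sigma M) (hpβ : p ∈ Cfsg.beta H)
    (hrH : r ∈ Cfsg.tau1 H)
    (hD : Cfsg.sigmaCore M ⊓ H ≤ Subgroup.centralizer ({y} : Set G))
    {Mz : Subgroup G} (hMz : Mz ≤ Cfsg.sigmaCore M)
    (hMzn : M ≤ Subgroup.normalizer (Mz : Set G))
    (hMzH : ∀ (q : ℕ) [Fact q.Prime], q ∣ Nat.card Mz → ∀ K : Subgroup G, K ≤ M →
      IsPGroup q K → K ≤ Mz)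
    (hnot : ¬ Mz ⊓ Subgroup.centralizer ({y} : Set G) ≤ Subgroup.centralizer ({x} : Set G)) :
    ∃ (q : ℕ) (_ : Fact q.Prime) (S Q : Subgroup G), q ∣ Nat.card Mz ∧ q ≠ r ∧
      q ∈ Cfsg.sigma M ∧ q ∈ Cfsg.sigma H ∧
      Helper18.IsSylowIn q S (M ⊓ H) ∧ Subgroup.normalizer (S : Set G) ≤ M ⊓ H ∧
      Q ≤ S ∧ Q ≠ ⊥ ∧ x ∈ Subgroup.normalizer (Q : Set G) ∧
      (∀ g ∈ Q, x * g = g * x → g = 1) ∧ (∀ g ∈ Q, g * y = y * g) ∧
      Subgroup.normalizer (Q : Set G) ≤ H := by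
  have hne : H ≠ M := by
    have := hnc 1
    rwa [Helper18.conjSub_one] at this
  have hσM : Cfsg.sigmaCore M ≤ M := Cfsg.Agent.Lib.Helper1.BG12.sigmaCore_le M
  have hCyH : Subgroup.centralizer ({y} : Set G) ≤ H :=
    (centralizer_singleton_le_normalizer_zpowers y).trans hNP
  have hxH : x ∈ H := hCyH (Subgroup.mem_centralizer_singleton_iff.mpr hxy)
  have hyH : y ∈ H := hNP (Subgroup.le_normalizer (Subgroup.mem_zpowers y))
  obtain ⟨C, hCdef⟩ : ∃ C : Subgroup G, C = Mz ⊓ Subgroup.centralizer ({y} : Set G) := ⟨_, rfl⟩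
  rw [← hCdef] at hnot
  have hCMz : C ≤ Mz := by rw [hCdef]; exact inf_le_left
  have hCy : ∀ c ∈ C, c * y = y * c := by
    intro c hc
    rw [hCdef] at hc
    exact Subgroup.mem_centralizer_singleton_iff.mp hc.2
  have hxC : x ∈ Subgroup.normalizer (C : Set G) := by
    apply Cfsg.Agent.Lib.Helper11.RegB.mem_normalizer_of_conj_mem
    intro c hc
    rw [hCdef]
    refine Subgroup.mem_inf.mpr ⟨?_, ?_⟩
    · exact Cfsg.Agent.Lib.Helper11.RegB.conj_mem_of_mem_normalizer (hMzn hxM) (hCMz hc)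
    · rw [Subgroup.mem_centralizer_singleton_iff]
      have h1 := hCy c hc
      have hxiy : x⁻¹ * y = y * x⁻¹ := by
        have : y = x * y * x⁻¹ := by rw [hxy]; group
        calc x⁻¹ * y = x⁻¹ * (x * y * x⁻¹) := by rw [← this]
          _ = y * x⁻¹ := by group
      symm
      calc y * (x * c * x⁻¹) = (y * x) * c * x⁻¹ := by group
        _ = (x * y) * c * x⁻¹ := by rw [hxy]
        _ = x * (y * c) * x⁻¹ := by group
        _ = x * (c * y) * x⁻¹ := by rw [h1]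
        _ = x * c * (y * x⁻¹) := by group
        _ = x * c * (x⁻¹ * y) := by rw [hxiy]
        _ = x * c * x⁻¹ * y := by group
  have hrC : ¬ r ∣ Nat.card C := by
    intro h
    apply hrM
    apply Cfsg.Agent.Lib.Helper28.BGt.prime_sigmaCore hG hM hr.out
    exact h.trans ((Subgroup.card_dvd_of_le hCMz).trans (Subgroup.card_dvd_of_le hMz))
  obtain ⟨q, hq, S, hSC, hxS, hSx⟩ := exists_noncentral_sylow hr.out hxo hxC hrC hnot
  have hSq : IsPGroup q S := hSC.isPGroup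
  have hSMz : S ≤ Mz := hSC.le.trans hCMz
  have hSM : S ≤ M := (hSMz.trans hMz).trans hσM
  have hSy : ∀ s ∈ S, s * y = y * s := fun s hs => hCy s (hSC.le hs)
  have hSH : S ≤ H := fun s hs =>
    hCyH (Subgroup.mem_centralizer_singleton_iff.mpr (hSy s hs))
  have hS1 : S ≠ ⊥ := by
    rintro rfl
    exact hSx bot_le
  have hqS : q ∣ Nat.card S := by
    obtain ⟨k, hk⟩ := IsPGroup.iff_card.mp hSq
    have hk0 : k ≠ 0 := by
      rintro rfl
      rw [pow_zero] at hk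
      exact hS1 (Subgroup.card_eq_one.mp hk)
    rw [hk]; exact dvd_pow_self q hk0
  have hqMz : q ∣ Nat.card Mz := hqS.trans (Subgroup.card_dvd_of_le hSMz)
  have hqr : q ≠ r := by
    rintro rfl
    exact hrC (hqS.trans (Subgroup.card_dvd_of_le hSC.le))
  have hqσM : q ∈ Cfsg.sigma M :=
    Cfsg.Agent.Lib.Helper28.BGt.prime_sigmaCore hG hM hq.out
      (hqMz.trans (Subgroup.card_dvd_of_le hMz))
  -- `S` is abelian
  have hSab : ∀ a ∈ S, ∀ b ∈ S, a * b = b * a := by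
    by_contra hcon
    have hna : ¬ IsMulCommutative S := by
      intro h
      apply hcon
      intro a ha b hb
      have := h.is_comm.comm ⟨a, ha⟩ ⟨b, hb⟩
      exact congrArg Subtype.val this
    obtain ⟨L, -, hLu⟩ := Cfsg.Agent.S1422.result hG q S hSq hna
    have h1 := hLu M ⟨hM, hSM⟩
    have h2 := hLu H ⟨hH, hSH⟩
    exact hne (h2.trans h1.symm)
  obtain ⟨Q, hQS, hxQ, hQmem⟩ := exists_comm_subgroup hSab hxS
  have hQq : IsPGroup q Q := hSq.to_le hQS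
  have hQ1 : Q ≠ ⊥ := by
    intro hbot
    apply hSx
    intro s hs
    rw [Subgroup.mem_centralizer_singleton_iff]
    have h1 : x * s * x⁻¹ * s⁻¹ ∈ Q := (hQmem _).mpr ⟨s, hs, rfl⟩
    rw [hbot, Subgroup.mem_bot] at h1
    have : x * s = (x * s * x⁻¹ * s⁻¹) * (s * x) := by group
    rw [this, h1, one_mul]
  have hQx : ∀ g ∈ Q, x * g = g * x → g = 1 := by
    intro g hg hxg
    obtain ⟨s, hs, hgs⟩ := (hQmem g).mp hg
    have h1 : x * s * x⁻¹ = s * g := by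
      rw [hSab s hs g (hQS hg), hgs]; group
    have h2 : x * g * x⁻¹ = g := by rw [hxg]; group
    have h3 : g ^ Nat.card S = 1 := by
      have := pow_card_eq_one' (G := S) (x := ⟨g, hQS hg⟩)
      exact congrArg Subtype.val this
    apply Cfsg.Agent.Lib.Helper11.eq_one_of_conj_eq_mul_of_coprime x s g h1 h2 (Nat.card S) h3
    rw [hxo]
    obtain ⟨k, hk⟩ := IsPGroup.iff_card.mp hSq
    rw [hk]
    apply Nat.Coprime.pow_right
    exact (Nat.coprime_primes hr.out hq.out).mpr (Ne.symm hqr)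
  have hQy : ∀ g ∈ Q, g * y = y * g := fun g hg => hSy g (hQS hg)
  have hQM : Q ≤ M := hQS.trans hSM
  have hQH : Q ≤ H := hQS.trans hSH
  -- `q ∉ α(H)`
  have hqαH : q ∉ Cfsg.alpha H := by
    intro hqα
    obtain ⟨g, hg⟩ := Cfsg.Agent.Lib.Helper1.BG12.conj_of_alpha_sigma hG H M hH hM q hqα hqσM
    apply hnc g⁻¹
    rw [hg, Cfsg.Agent.Lib.Helper11.ExcA.cjInvCj]
  -- `N(Q) ≤ H`
  have hNQ : Subgroup.normalizer (Q : Set G) ≤ H := by
    have hNtop : Subgroup.normalizer (Q : Set G) ≠ ⊤ :=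
      Cfsg.Agent.Lib.Helper1.BG10.normalizer_ne_top hG hQ1
        (Cfsg.Agent.Lib.Helper11.MaxSubD.pgroup_ne_top hG q Q hQq)
    obtain ⟨N, hN, hNN⟩ := Cfsg.Agent.Lib.Helper11.BenderE.exists_coatom_ge _ hNtop
    have := Cfsg.Agent.Lib.Helper11.RegC.beta_reg hG hH hrH hqr hxH hxo hQH hQq hQ1 hqαH hxQ hQx
      hyH hyo hpβ hxy hQy hN hNN
    rw [← this]; exact hNN
  -- `S` is a Sylow subgroup of `M ⊓ H`
  have hSMH : S ≤ M ⊓ H := le_inf hSM hSH
  obtain ⟨Sy, hSyle⟩ := (hSq.comap_subtype (K := M ⊓ H)).exists_le_sylow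
  have hSyS : (Sy : Subgroup ↥(M ⊓ H)).map (M ⊓ H).subtype = S := by
    have hS'le : (Sy : Subgroup ↥(M ⊓ H)).map (M ⊓ H).subtype ≤ M ⊓ H := by
      rintro _ ⟨z, -, rfl⟩; exact z.2
    have hS'q : IsPGroup q ((Sy : Subgroup ↥(M ⊓ H)).map (M ⊓ H).subtype) := Sy.isPGroup'.map _
    have hSS' : S ≤ (Sy : Subgroup ↥(M ⊓ H)).map (M ⊓ H).subtype := by
      intro s hs
      exact ⟨⟨s, hSMH hs⟩, hSyle (Subgroup.mem_subgroupOf.mpr hs), rfl⟩
    have hS'Mz : (Sy : Subgroup ↥(M ⊓ H)).map (M ⊓ H).subtype ≤ Mz :=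
      hMzH q hqMz _ (hS'le.trans inf_le_left) hS'q
    have hS'C : (Sy : Subgroup ↥(M ⊓ H)).map (M ⊓ H).subtype ≤ C := by
      intro z hz
      rw [hCdef]
      exact Subgroup.mem_inf.mpr ⟨hS'Mz hz,
        hD (Subgroup.mem_inf.mpr ⟨hMz (hS'Mz hz), (hS'le hz).2⟩)⟩
    exact hSC.eq_of_le hS'C hS'q hSS'
  obtain ⟨-, hNS_M, hSidx⟩ := Cfsg.Agent.S1424.result hG M hM q hqσM Q hQq hQ1 hQM H hH hne hNQ Sy
    (by rw [hSyS]; exact hQS)
  rw [hSyS] at hNS_M hSidx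
  have hSylH : Helper18.IsSylowIn q S H := ⟨hSH, hSq, hSidx⟩
  -- `q ∈ σ(H)`
  have hqσH : q ∈ Cfsg.sigma H := by
    by_contra hqσH
    have hτ := Cfsg.Agent.Lib.Helper11.JsubC.tau2_of_normalizer_le hG hH hqσH hQ1 hNQ hQS hSylH
    obtain ⟨E, A, c, hAS⟩ := Cfsg.Agent.Lib.Helper11.JsubC.exists_ctx hG hH hτ hSylH
    have h5 := (Cfsg.Agent.S1417.result hG H hH q hτ A ⟨c.hAM, c.hAe, c.hA2⟩).2.2.2.2.1 M hM
      (Ne.symm hne) (hAS.trans hSM)
    have hyσ : y ∈ Cfsg.sigmaCore H := by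
      have hzp : IsPGroup p (Subgroup.zpowers y) := by
        apply IsPGroup.of_card (n := 1)
        rw [Nat.card_zpowers, hyo, pow_one]
      exact Cfsg.Agent.Lib.Helper1.BG12.pgroup_le_sigmaCore hG H hH p
        (Cfsg.Agent.Lib.Helper11.BenderN.alpha_sub_sigma hG H hH p hpβ.1) _
        (by rw [Subgroup.zpowers_le]; exact hyH) hzp (Subgroup.mem_zpowers y)
    have : y ∈ Cfsg.sigmaCore H ⊓ M := Subgroup.mem_inf.mpr ⟨hyσ, hyM⟩
    rw [h5, Subgroup.mem_bot] at this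
    rw [this, orderOf_one] at hyo
    exact hp.out.one_lt.ne hyo
  have hgood := Cfsg.Agent.Lib.Helper11.ExcA.good_of_sylow_sigma hqσH hSylH
  refine ⟨q, hq, S, Q, hqMz, hqr, hqσM, hqσH, hgood.2.2.of_le hSMH le_top,
    le_inf hNS_M hgood.2.1, hQS, hQ1, hxQ, hQx, hQy, hNQ⟩

/-- an invariant Sylow subgroup of `L_α` for an ideal prime -/
theorem exists_inv_sylow_alpha (hG : Cfsg.IsMinSimpleOddOrder G) {L : Subgroup G} (hL : IsCoatom L)
    {r q t : ℕ} [hr : Fact r.Prime] [hq : Fact q.Prime] [ht : Fact t.Prime]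
    (hrσ : r ∉ Cfsg.sigma L) (hqα : q ∉ Cfsg.alpha L) (htβ : t ∈ Cfsg.beta L)
    {x : G} (hxL : x ∈ L) (hxo : orderOf x = r) {Q : Subgroup G} (hQL : Q ≤ L)
    (hQq : IsPGroup q Q) (hxQ : x ∈ Subgroup.normalizer (Q : Set G)) :
    ∃ T : Subgroup G, Helper18.IsSylowIn t T (Cfsg.alphaCore L) ∧ Helper18.IsSylowIn t T ⊤ ∧
      Q ≤ Subgroup.normalizer (T : Set G) ∧ x ∈ Subgroup.normalizer (T : Set G) ∧
      ¬ IsCyclic T := by
  have htα : t ∈ Cfsg.alpha L := htβ.1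
  have hideal : Cfsg.IsIdealPrime t G := htβ.2
  obtain ⟨X, hX⟩ : ∃ X : Subgroup G, X = Q ⊔ Subgroup.zpowers x := ⟨_, rfl⟩
  have hxN : Subgroup.zpowers x ≤ Subgroup.normalizer (Q : Set G) := by
    rw [Subgroup.zpowers_le]; exact hxQ
  have hXL : X ≤ L := by
    rw [hX]
    exact sup_le hQL (by rw [Subgroup.zpowers_le]; exact hxL)
  have hXs : Group.IsSolvable X := by
    haveI := Cfsg.Agent.Lib.Helper11.MaxSubB.coatom_solvable hG L hL
    exact solvable_of_solvable_injective (Subgroup.inclusion_injective hXL)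
  obtain ⟨K, hK⟩ : ∃ K : Subgroup G, K = Cfsg.alphaCore L := ⟨_, rfl⟩
  have hKprimes : ∀ ℓ : ℕ, ℓ.Prime → ℓ ∣ Nat.card K → ℓ ∈ Cfsg.alpha L := by
    intro ℓ hℓ hd
    rw [hK] at hd
    exact (Cfsg.Agent.Lib.Helper11.BenderN.alpha_hall hG L hL).1.2.1 ℓ hℓ hd
  have hrα : r ∉ Cfsg.alpha L := fun h =>
    hrσ (Cfsg.Agent.Lib.Helper11.BenderN.alpha_sub_sigma hG L hL r h)
  have hcop : (Nat.card X).Coprime (Nat.card K) := by
    have h1 : Nat.card X ∣ Nat.card Q * Nat.card (Subgroup.zpowers x) := by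
      rw [hX]
      exact Cfsg.Agent.Lib.Helper11.ThirteenB.card_sup_dvd Q (Subgroup.zpowers x) hxN
    apply Nat.Coprime.coprime_dvd_left h1
    obtain ⟨k, hk⟩ := IsPGroup.iff_card.mp hQq
    rw [hk, Nat.card_zpowers, hxo]
    apply Nat.Coprime.mul_left
    · apply Nat.Coprime.pow_left
      rw [Nat.Prime.coprime_iff_not_dvd hq.out]
      exact fun hd => hqα (hKprimes q hq.out hd)
    · rw [Nat.Prime.coprime_iff_not_dvd hr.out]
      exact fun hd => hrα (hKprimes r hr.out hd)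
  have hXK : X ≤ Subgroup.normalizer (K : Set G) := by
    rw [hK]
    exact hXL.trans (Cfsg.Agent.Lib.Helper1.BG12.le_normalizer_alphaCore L)
  obtain ⟨T, hTsyl, hXT, -⟩ := Cfsg.Agent.Lib.Helper11.BenderP.exists_inv_sylow_ge X K hXK hcop hXs
    t ⊥ bot_le IsPGroup.of_bot
    (by intro g _; rw [Subgroup.mem_normalizer_iff]; intro h; simp [Subgroup.mem_bot])
  have hTt : IsPGroup t T := hTsyl.isPGroup
  have hTtop : Helper18.IsSylowIn t T ⊤ := by
    refine ⟨le_top, hTt, ?_⟩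
    rw [Subgroup.relIndex_top_right]
    have h1 : T.relIndex K * K.index = T.index := Subgroup.relIndex_mul_index hTsyl.le
    rw [← h1]
    intro hd
    rcases (Nat.Prime.dvd_mul ht.out).mp hd with h | h
    · exact hTsyl.not_dvd h
    · have := (Cfsg.Agent.Lib.Helper11.BenderN.alpha_hall hG L hL).2.1.2 t ht.out htα
      rw [hK] at h
      exact this h
  have hQT : Q ≤ Subgroup.normalizer (T : Set G) := by
    rw [hX] at hXT
    exact le_sup_left.trans hXT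
  have hxT : x ∈ Subgroup.normalizer (T : Set G) := by
    rw [hX] at hXT
    exact hXT (Subgroup.mem_sup_right (Subgroup.mem_zpowers x))
  have hTnc : ¬ IsCyclic T := by
    intro hc
    have hrG := hideal.2.1
    unfold Cfsg.PRankLE at hrG
    push Not at hrG
    obtain ⟨A₀, hA₀c, hA₀p', hA₀card⟩ := hrG
    have hA₀e : Cfsg.IsElementaryAbelian t A₀ := ⟨hA₀c, hA₀p'⟩
    have hA₀3 : t ^ 2 ≤ Nat.card A₀ := hA₀card.le
    have hA₀p : IsPGroup t A₀ := Cfsg.Agent.Lib.Helper1.BG10.elemAb_isPGroup hA₀e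
    obtain ⟨g, -, hle⟩ := hTtop.exists_conj_le le_top hA₀p
    have hce := Cfsg.Agent.Lib.Helper11.BenderF.elemAb_conjSub t g hA₀e
    have hcc : t ^ 2 ≤ Nat.card (Helper18.conjSub g A₀) := by
      rw [Helper18.card_conjSub]
      exact hA₀3
    apply Cfsg.Agent.Lib.Helper11.BenderE.not_cyclic_of_elemAb t _ hce hcc
    haveI := hc
    exact isCyclic_of_injective (Subgroup.inclusion hle) (Subgroup.inclusion_injective hle)
  rw [hK] at hTsyl
  exact ⟨T, hTsyl, hTtop, hQT, hxT, hTnc⟩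

/-- the hard case of Theorem 13.4, elementwise, modulo the two facts `hB`, `hC` on the
configuration -/
theorem hard_case_aux (hG : Cfsg.IsMinSimpleOddOrder G) {M H : Subgroup G} (hM : IsCoatom M)
    (hH : IsCoatom H) (hnc : ∀ g : G, H ≠ Helper18.conjSub g M) {p r : ℕ} [hp : Fact p.Prime]
    [hr : Fact r.Prime] {x y : G} (hxo : orderOf x = r) (hyo : orderOf y = p) (hxM : x ∈ M)
    (hyM : y ∈ M)
    (hNP : Subgroup.normalizer ((Subgroup.zpowers y : Subgroup G) : Set G) ≤ H)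
    (hxy : x * y = y * x) (hrM : r ∉ Cfsg.sigma M) (hpβ : p ∈ Cfsg.beta H)
    (hrH : r ∈ Cfsg.tau1 H)
    (hD : Cfsg.sigmaCore M ⊓ H ≤ Subgroup.centralizer ({y} : Set G))
    (hB : ∀ (q : ℕ) [Fact q.Prime] (S : Subgroup G), q ∈ Cfsg.sigma M → q ∈ Cfsg.sigma H →
      Helper18.IsSylowIn q S (M ⊓ H) → Subgroup.normalizer (S : Set G) ≤ M ⊓ H →
      Cfsg.alphaCore M ≠ ⊥ ∧ ∀ t ∈ Cfsg.alpha M, t ∈ Cfsg.beta M)
    (hC : ∀ (q : ℕ) [Fact q.Prime] (S : Subgroup G), q ∈ Cfsg.sigma M → q ∈ Cfsg.sigma H →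
      Helper18.IsSylowIn q S (M ⊓ H) → Subgroup.normalizer (S : Set G) ≤ M ⊓ H →
      r ∈ Cfsg.tau1 M)
    (hsym : r ∈ Cfsg.tau1 M →
      Cfsg.alphaCore M ⊓ Subgroup.centralizer ({y} : Set G) ≤ Subgroup.centralizer ({x} : Set G) →
      Cfsg.alphaCore M ⊓ Subgroup.centralizer ({x} : Set G) ≤
        Subgroup.centralizer ({y} : Set G)) :
    Cfsg.sigmaCore M ⊓ Subgroup.centralizer ({y} : Set G) ≤
      Subgroup.centralizer ({x} : Set G) := by
  have hne : H ≠ M := by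
    have := hnc 1
    rwa [Helper18.conjSub_one] at this
  have hασ : Cfsg.alphaCore M ≤ Cfsg.sigmaCore M :=
    (Cfsg.Agent.Lib.Helper11.BenderN.alpha_hall hG M hM).2.2.1
  have hαn := Cfsg.Agent.Lib.Helper1.BG12.le_normalizer_alphaCore M
  have hαM := Cfsg.Agent.Lib.Helper1.BG12.alphaCore_le M
  -- stage A
  have hA : Cfsg.alphaCore M ⊓ Subgroup.centralizer ({y} : Set G) ≤
      Subgroup.centralizer ({x} : Set G) := by
    by_contra hnot
    obtain ⟨q, hq, S, Q, hqMz, -, -, hqσH, -⟩ := config hG hM hH hnc hxo hyo hxM hyM hNP hxy hrM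
      hpβ hrH hD hασ hαn
      (fun q _ hd K hKM hKq => Cfsg.Agent.Lib.Helper1.BG12.pgroup_le_alphaCore hG M hM q
        (Cfsg.Agent.Lib.Helper1.BG12.alphaCore_primes hG M hM q Fact.out hd) K hKM hKq) hnot
    have hqα := Cfsg.Agent.Lib.Helper1.BG12.alphaCore_primes hG M hM q hq.out hqMz
    obtain ⟨g, hg⟩ := Cfsg.Agent.Lib.Helper1.BG12.conj_of_alpha_sigma hG M H hM hH q hqα hqσH
    exact hnc g hg
  -- stage B
  by_contra hnot
  obtain ⟨q, hq, S, Q, -, hqr, hqσM, hqσH, hSyl, hNS, hQS, hQ1, hxQ, hQx, hQy, hNQ⟩ :=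
    config hG hM hH hnc hxo hyo hxM hyM hNP hxy hrM hpβ hrH hD le_rfl
      (Cfsg.Agent.Lib.Helper1.BG12.le_normalizer_sigmaCore M)
      (fun q _ hd K hKM hKq => Cfsg.Agent.Lib.Helper1.BG12.pgroup_le_sigmaCore hG M hM q
        (Cfsg.Agent.Lib.Helper28.BGt.prime_sigmaCore hG hM Fact.out hd) K hKM hKq) hnot
  have hqαM : q ∉ Cfsg.alpha M := by
    intro hqα
    obtain ⟨g, hg⟩ := Cfsg.Agent.Lib.Helper1.BG12.conj_of_alpha_sigma hG M H hM hH q hqα hqσH
    exact hnc g hg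
  obtain ⟨hα1, hαβ⟩ := hB q S hqσM hqσH hSyl hNS
  have hrτ := hC q S hqσM hqσH hSyl hNS
  have hA' := hsym hrτ hA
  have hQq : IsPGroup q Q := hSyl.isPGroup.to_le hQS
  have hQM : Q ≤ M := hQS.trans (hSyl.le.trans inf_le_left)
  have hxα : ∀ w ∈ Cfsg.alphaCore M, w * y = y * w → w * x = x * w := by
    intro w hw hwy
    exact Subgroup.mem_centralizer_singleton_iff.mp
      (hA (Subgroup.mem_inf.mpr ⟨hw, Subgroup.mem_centralizer_singleton_iff.mpr hwy⟩))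
  have hyα : ∀ w ∈ Cfsg.alphaCore M, w * x = x * w → w * y = y * w := by
    intro w hw hwx
    exact Subgroup.mem_centralizer_singleton_iff.mp
      (hA' (Subgroup.mem_inf.mpr ⟨hw, Subgroup.mem_centralizer_singleton_iff.mpr hwx⟩))
  -- `Q` centralizes `W`
  have hQW : ∀ c ∈ Q, ∀ w ∈ Cfsg.alphaCore M, w * y = y * w → c * w = w * c := by
    intro c hc w hw hwy
    obtain ⟨g, hg, hgc⟩ := Cfsg.Agent.Lib.Helper11.RegA.exists_comm_eq Q x hxQ hQx c hc
    have hw' : g⁻¹ * w * g ∈ Cfsg.alphaCore M :=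
      Cfsg.Agent.Lib.Helper11.RegB.conj_inv_mem_of_mem_normalizer (hαn (hQM hg)) hw
    have hgy : g * y = y * g := hQy g hg
    have hgiy : g⁻¹ * y = y * g⁻¹ := by
      calc g⁻¹ * y = g⁻¹ * (y * g) * g⁻¹ := by group
        _ = g⁻¹ * (g * y) * g⁻¹ := by rw [hgy]
        _ = y * g⁻¹ := by group
    have hw'y : (g⁻¹ * w * g) * y = y * (g⁻¹ * w * g) := by
      calc (g⁻¹ * w * g) * y = g⁻¹ * w * (g * y) := by group
        _ = g⁻¹ * w * (y * g) := by rw [hgy]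
        _ = g⁻¹ * (w * y) * g := by group
        _ = g⁻¹ * (y * w) * g := by rw [hwy]
        _ = (g⁻¹ * y) * w * g := by group
        _ = (y * g⁻¹) * w * g := by rw [hgiy]
        _ = y * (g⁻¹ * w * g) := by group
    have h1 : (g⁻¹ * w * g) * x = x * (g⁻¹ * w * g) := hxα _ hw' hw'y
    have h2 : w * x = x * w := hxα w hw hwy
    have h3 : x⁻¹ * (g⁻¹ * w * g) = (g⁻¹ * w * g) * x⁻¹ := by
      calc x⁻¹ * (g⁻¹ * w * g) = x⁻¹ * ((g⁻¹ * w * g) * x) * x⁻¹ := by group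
        _ = x⁻¹ * (x * (g⁻¹ * w * g)) * x⁻¹ := by rw [h1]
        _ = (g⁻¹ * w * g) * x⁻¹ := by group
    rw [← hgc]
    calc x * g * x⁻¹ * g⁻¹ * w = x * g * (x⁻¹ * (g⁻¹ * w * g)) * g⁻¹ := by group
      _ = x * g * ((g⁻¹ * w * g) * x⁻¹) * g⁻¹ := by rw [h3]
      _ = (x * w) * g * x⁻¹ * g⁻¹ := by group
      _ = (w * x) * g * x⁻¹ * g⁻¹ := by rw [h2]
      _ = w * (x * g * x⁻¹ * g⁻¹) := by group
  by_cases hW : ∃ w ∈ Cfsg.alphaCore M, w * y = y * w ∧ w ≠ 1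
  · obtain ⟨w, hw, hwy, hw1⟩ := hW
    have hn1 : orderOf w ≠ 1 := fun h => hw1 (orderOf_eq_one_iff.mp h)
    obtain ⟨t, ht, htd⟩ := Nat.exists_prime_and_dvd hn1
    haveI : Fact t.Prime := ⟨ht⟩
    have hn0 : orderOf w ≠ 0 := (orderOf_pos w).ne'
    obtain ⟨y', hy'⟩ : ∃ y' : G, y' = w ^ (orderOf w / t) := ⟨_, rfl⟩
    have hy'o : orderOf y' = t := by
      rw [hy']; exact orderOf_pow_orderOf_div hn0 htd
    have hy'α : y' ∈ Cfsg.alphaCore M := by rw [hy']; exact Subgroup.pow_mem _ hw _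
    have hy'y : y' * y = y * y' := by
      rw [hy']
      exact ((show Commute w y from hwy).pow_left _).eq
    have htα : t ∈ Cfsg.alpha M := by
      apply Cfsg.Agent.Lib.Helper1.BG12.alphaCore_primes hG M hM t ht
      rw [← hy'o]
      have := orderOf_dvd_natCard (⟨y', hy'α⟩ : Cfsg.alphaCore M)
      rwa [← Subgroup.orderOf_coe] at this
    have htβ : t ∈ Cfsg.beta M := hαβ t htα
    have := Cfsg.Agent.Lib.Helper11.RegC.beta_reg hG hM hrτ hqr hxM hxo hQM hQq hQ1 hqαM hxQ hQx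
      (hαM hy'α) hy'o htβ (hxα y' hy'α hy'y).symm (fun g hg => hQW g hg y' hy'α hy'y) hH hNQ
    exact hne this
  · push Not at hW
    have hfpf : ∀ w ∈ Cfsg.alphaCore M, x * w = w * x → w = 1 := by
      intro w hw hxw
      exact hW w hw (hyα w hw hxw.symm)
    obtain ⟨t, ht, htd⟩ := Cfsg.Agent.Lib.Helper1.BG12.exists_prime_dvd_of_ne_bot hα1
    haveI : Fact t.Prime := ⟨ht⟩
    have htα : t ∈ Cfsg.alpha M := Cfsg.Agent.Lib.Helper1.BG12.alphaCore_primes hG M hM t ht htd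
    have htβ : t ∈ Cfsg.beta M := hαβ t htα
    obtain ⟨T, hTsyl, hTtop, hQT, hxT, hTnc⟩ :=
      exists_inv_sylow_alpha hG hM hrM hqαM htβ hxM hxo hQM hQq hxQ
    have htq : t ≠ q := by
      rintro rfl
      exact hqαM htα
    have htr : t ≠ r := by
      rintro rfl
      exact hrM (Cfsg.Agent.Lib.Helper11.BenderN.alpha_sub_sigma hG M hM t htα)
    have hq2 : q ≠ 2 := Cfsg.Agent.Lib.Helper11.BenderD.odd_prime_of_pgroup hG q Q hQ1 hQq
    have hxr : x ^ r = 1 := by rw [← hxo]; exact pow_orderOf_eq_one x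
    have hcomm := Cfsg.Agent.Lib.Helper11.ExcE.comm_centralizes_pgroup t q r ht hq.out hr.out htq htr
      hqr hq2 T hTsyl.isPGroup x hxT hxr (fun n hn => hfpf n (hTsyl.le hn)) Q hQq hQT hxQ
    have hTQ : T ≤ Subgroup.centralizer (Q : Set G) := by
      intro u hu
      rw [Subgroup.mem_centralizer_iff]
      intro c hc
      obtain ⟨g, hg, hgc⟩ := Cfsg.Agent.Lib.Helper11.RegA.exists_comm_eq Q x hxQ hQx c hc
      have := hcomm g hg
      rw [hgc, Subgroup.mem_centralizer_iff] at this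
      exact (this u hu).symm
    have hTH : T ≤ H := hTQ.trans ((Subgroup.centralizer_le_normalizer _).trans hNQ)
    have hTM : T ≤ M := hTsyl.le.trans hαM
    have hu := Cfsg.Agent.Lib.Helper11.RegC.noncyclic_unique hG htβ.2 T hTtop T le_rfl hTnc
    exact hne (hu.unique ⟨hH, hTH⟩ ⟨hM, hTM⟩)

theorem centralizer_zpowers_eq (y : G) :
    Subgroup.centralizer ((Subgroup.zpowers y : Subgroup G) : Set G) =
      Subgroup.centralizer ({y} : Set G) := by
  ext g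
  rw [Subgroup.mem_centralizer_singleton_iff, Subgroup.mem_centralizer_iff]
  constructor
  · intro h
    exact (h y (Subgroup.mem_zpowers y)).symm
  · intro h z hz
    exact (Cfsg.Agent.Lib.Helper11.RegB.commute_zpowers h z hz).symm

/-- a group of prime order is generated by an element of that order -/
theorem exists_generator_of_card_prime {p : ℕ} (hp : p.Prime) {A : Subgroup G}
    (hA : Nat.card A = p) : ∃ g : G, orderOf g = p ∧ Subgroup.zpowers g = A := by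
  have hA1 : A ≠ ⊥ := by
    intro h
    rw [h, Subgroup.card_bot] at hA
    exact hp.one_lt.ne hA
  obtain ⟨g, hg1⟩ := (Subgroup.ne_bot_iff_exists_ne_one.mp hA1 : ∃ a : A, a ≠ 1)
  have hg1' : (g : G) ≠ 1 := fun h => hg1 (Subtype.ext h)
  have hz := Cfsg.Agent.Lib.Helper18.BGTwelveB.zpowers_eq_of_card_prime hp hA (g := (g : G))
    g.2 hg1'
  refine ⟨g, ?_, hz⟩
  rw [← Nat.card_zpowers, hz, hA]

/-- the hard case of Theorem 13.4, in subgroup form, modulo the two facts `hB`, `hC` on the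
configuration -/
theorem hard_case_of (hG : Cfsg.IsMinSimpleOddOrder G) {M H : Subgroup G} (hM : IsCoatom M)
    (hH : IsCoatom H) (hnc : ∀ g : G, H ≠ Helper18.conjSub g M) {p r : ℕ} [hp : Fact p.Prime]
    [hr : Fact r.Prime] (P R : Subgroup G) (hPc : Nat.card P = p) (hRc : Nat.card R = r)
    (hPM : P ≤ M) (hRM : R ≤ M) (hNP : Subgroup.normalizer (P : Set G) ≤ H)
    (hRP : R ≤ Subgroup.centralizer (P : Set G)) (hrM : r ∉ Cfsg.sigma M)
    (hpβ : p ∈ Cfsg.beta H) (hrH : r ∈ Cfsg.tau1 H)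
    (hD : Cfsg.sigmaCore M ⊓ H ≤ Subgroup.centralizer (P : Set G))
    (hB : ∀ (q : ℕ) [Fact q.Prime] (S : Subgroup G), q ∈ Cfsg.sigma M → q ∈ Cfsg.sigma H →
      Helper18.IsSylowIn q S (M ⊓ H) → Subgroup.normalizer (S : Set G) ≤ M ⊓ H →
      Cfsg.alphaCore M ≠ ⊥ ∧ ∀ t ∈ Cfsg.alpha M, t ∈ Cfsg.beta M)
    (hC : ∀ (q : ℕ) [Fact q.Prime] (S : Subgroup G), q ∈ Cfsg.sigma M → q ∈ Cfsg.sigma H →
      Helper18.IsSylowIn q S (M ⊓ H) → Subgroup.normalizer (S : Set G) ≤ M ⊓ H →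
      r ∈ Cfsg.tau1 M)
    (hsym : r ∈ Cfsg.tau1 M →
      Cfsg.alphaCore M ⊓ Subgroup.centralizer (P : Set G) ≤ Subgroup.centralizer (R : Set G) →
      Cfsg.alphaCore M ⊓ Subgroup.centralizer (R : Set G) ≤ Subgroup.centralizer (P : Set G)) :
    Cfsg.sigmaCore M ⊓ Subgroup.centralizer (P : Set G) ≤ Subgroup.centralizer (R : Set G) := by
  obtain ⟨y, hyo, hyP⟩ := exists_generator_of_card_prime hp.out hPc
  obtain ⟨x, hxo, hxR⟩ := exists_generator_of_card_prime hr.out hRc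
  have hcP : Subgroup.centralizer (P : Set G) = Subgroup.centralizer ({y} : Set G) := by
    rw [← hyP]; exact centralizer_zpowers_eq y
  have hcR : Subgroup.centralizer (R : Set G) = Subgroup.centralizer ({x} : Set G) := by
    rw [← hxR]; exact centralizer_zpowers_eq x
  have hxRm : x ∈ R := by rw [← hxR]; exact Subgroup.mem_zpowers x
  have hyPm : y ∈ P := by rw [← hyP]; exact Subgroup.mem_zpowers y
  have hxy : x * y = y * x := by
    have := hRP hxRm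
    rw [hcP] at this
    exact Subgroup.mem_centralizer_singleton_iff.mp this
  rw [hcP, hcR] at hsym ⊢
  rw [hcP] at hD
  rw [← hyP] at hNP
  exact hard_case_aux hG hM hH hnc hxo hyo (hRM hxRm) (hPM hyPm) hNP hxy hrM hpβ hrH hD hB hC hsym

end Cfsg.Agent.Lib.Helper11.RegD
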