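import Mathlib
import Cfsg.Agent.Lib.Helper1.FPF.Main2

set_option autoImplicit false

namespace Cfsg.Agent.Lib.Helper11.FrobKernelNil

universe u

variable {X : Type u} [Group X]

/-- Thompson: a subgroup admitting a nontrivial group of fixed-point-free conjugations is
nilpotent -/
theorem kernel_nilpotent [Finite X] (U E : Subgroup X) (hE : E ≠ ⊥)
    (hEU : E ≤ Subgroup.normalizer (U : Set X))
    (hfpf : ∀ e ∈ E, e ≠ 1 → ∀ u ∈ U, e * u = u * e → u = 1) : Group.IsNilpotent U := by
  have hcard : Nat.card E ≠ 1 := by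
    intro h
    exact hE (Subgroup.card_eq_one.mp h)
  obtain ⟨q, hq, hqd⟩ := Nat.exists_prime_and_dvd hcard
  have : Fact q.Prime := ⟨hq⟩
  obtain ⟨e, he⟩ := exists_prime_orderOf_dvd_card' (G := E) q hqd
  have he1 : (e : X) ≠ 1 := by
    intro h
    have : e = 1 := Subtype.ext h
    rw [this, orderOf_one] at he
    exact hq.one_lt.ne he
  obtain ⟨φ, hφ⟩ : ∃ φ : MulAut U, φ = U.normalizerMonoidHom ⟨(e : X), hEU e.2⟩ := ⟨_, rfl⟩
  have hφa : ∀ u : U, ((φ u : U) : X) = e * u * (e : X)⁻¹ := by
    intro u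
    rw [hφ]
    rfl
  apply Cfsg.Agent.Lib.Helper1.FPF.fpf_nilpotent φ ?_ hq ?_
  · intro u hu
    have h1 : (e : X) * u * (e : X)⁻¹ = u := by
      rw [← hφa]
      exact congrArg Subtype.val hu
    have h2 : (e : X) * u = u * e := by
      calc (e : X) * u = ((e : X) * u * (e : X)⁻¹) * e := by group
        _ = u * e := by rw [h1]
    exact Subtype.ext (hfpf e e.2 he1 u u.2 h2)
  · rw [hφ, ← map_pow]
    have h3 : (⟨(e : X), hEU e.2⟩ : Subgroup.normalizer (U : Set X)) ^ q = 1 := by
      have h4 : (e : X) ^ q = 1 := by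
        have := pow_orderOf_eq_one e
        rw [he] at this
        exact_mod_cast congrArg Subtype.val this
      apply Subtype.ext
      simp only [Subgroup.coe_pow, Subgroup.coe_one]
      exact h4
    rw [h3, map_one]

end Cfsg.Agent.Lib.Helper11.FrobKernelNil
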