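import Mathlib
import Cfsg.Agent.S1414
import Cfsg.Agent.S1415
import Cfsg.Agent.S1418
import Cfsg.Agent.S1419
import Cfsg.Agent.S1427
import Cfsg.Agent.S1428
import Cfsg.Agent.Lib.Helper11.JsubC
import Cfsg.Agent.Lib.Helper28.BGtP
import Cfsg.Agent.Lib.Helper1.BG12b.PiSplit
import Cfsg.Agent.Lib.Helper18.Isolated

set_option autoImplicit false

/-! Tools for "Lemma L" (B & G section 13, the `τ₂`-prime centralizing a `κ ∩ τ₁`-element), helper11. -/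

namespace Cfsg.Agent.Lib.Helper11.LemLA

open Cfsg Cfsg.Agent.Lib.Helper18 Cfsg.Agent.Lib.Helper28.BGt

variable {G : Type*} [Group G] [Finite G]

theorem nc (hG : Cfsg.IsMinSimpleOddOrder G) : NC G :=
  fun H hH s hs hsd hsb => ((Cfsg.Agent.S1414.result hG H hH).2.2.2.2 s hs hsd hsb).1

/-- a `π`-subgroup of a solvable group lies in a Hall `π`-subgroup -/
theorem exists_piHallOf_ge (π : Set ℕ) (H : Subgroup G) [Group.IsSolvable H] {Y : Subgroup G}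
    (hYH : Y ≤ H) (hY : ∀ p : ℕ, p.Prime → p ∣ Nat.card Y → p ∈ π) :
    ∃ K : Subgroup G, Cfsg.IsPiHallOf π K H ∧ Y ≤ K := by
  obtain ⟨m, n, hmn, hcop, hm, hn⟩ :=
    Cfsg.Agent.Lib.Helper1.BG12b.pi_split π (Nat.card H) Nat.card_pos.ne'
  have hcY : (Nat.card (Y.subgroupOf H)).Coprime n := by
    rw [Nat.card_congr (Subgroup.subgroupOfEquivOfLe hYH).toEquiv]
    apply Nat.coprime_of_dvd
    intro q hq h1 h2
    exact hn q hq h2 (hY q hq h1)
  obtain ⟨K', hK', hle⟩ :=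
    Cfsg.Agent.Lib.Helper1.hall_dominance (G := H) m n hmn hcop (Y.subgroupOf H) hcY
  refine ⟨K'.map H.subtype, ⟨?_, ?_, ?_⟩, ?_⟩
  · rintro _ ⟨y, -, rfl⟩
    exact y.2
  · intro p hp hpd
    rw [Subgroup.card_map_of_injective H.subtype_injective, hK'] at hpd
    exact hm p hp hpd
  · intro p hp hpπ hpd
    have h1 : (K'.map H.subtype).relIndex H = K'.index := by
      unfold Subgroup.relIndex
      congr 1
      unfold Subgroup.subgroupOf
      exact Subgroup.comap_map_eq_self_of_injective H.subtype_injective _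
    rw [h1] at hpd
    have h2 : Nat.card K' * K'.index = Nat.card H := Subgroup.card_mul_index K'
    rw [hK', hmn] at h2
    have hmpos : 0 < m := by
      rcases Nat.eq_zero_or_pos m with h | h
      · rw [h, zero_mul] at hmn
        exact absurd hmn Nat.card_pos.ne'
      · exact h
    have h3 : K'.index = n := Nat.eq_of_mul_eq_mul_left hmpos h2
    rw [h3] at hpd
    exact hn p hp hpd hpπ
  · intro y hy
    exact ⟨⟨y, hYH hy⟩, hle (by simpa [Subgroup.mem_subgroupOf] using hy), rfl⟩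

/-- the type of a prime of `L` outside `σ(L)` -/
theorem type_cases (hG : Cfsg.IsMinSimpleOddOrder G) {L : Subgroup G} (hL : IsCoatom L) {p : ℕ}
    (hp : p.Prime) (hpL : p ∣ Nat.card L) (hσ : p ∉ Cfsg.sigma L) :
    p ∈ Cfsg.tau1 L ∨ p ∈ Cfsg.tau2 L ∨ p ∈ Cfsg.tau3 L := by
  by_cases h2 : Cfsg.PRankLE p 2 L
  · by_cases h1 : Cfsg.PRankLE p 1 L
    · by_cases hd : p ∣ Nat.card ↥⁅L, L⁆
      · exact Or.inr (Or.inr ⟨hp, hσ, hd, h1⟩)
      · exact Or.inl ⟨hp, hσ, hpL, hd, h1⟩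
    · exact Or.inr (Or.inl ⟨hp, hσ, h2, h1⟩)
  · exact absurd (Cfsg.Agent.Lib.Helper11.BenderN.alpha_sub_sigma hG L hL p ⟨hp, h2⟩) hσ

/-- a subgroup of order `p` of `L` lies in `L'` when `p` divides `|L'|` and `L` has `p`-rank one -/
theorem le_derived_of_rank_one (hG : Cfsg.IsMinSimpleOddOrder G) {L : Subgroup G} {p : ℕ}
    [hp : Fact p.Prime] (hd : p ∣ Nat.card ↥⁅L, L⁆) (hr1 : Cfsg.PRankLE p 1 L) {P : Subgroup G}
    (hPL : P ≤ L) (hPc : Nat.card P = p) : P ≤ ⁅L, L⁆ := by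
  obtain ⟨y, hy⟩ := exists_prime_orderOf_dvd_card' p hd
  obtain ⟨Q, hQdef⟩ : ∃ Q : Subgroup G, Q = Subgroup.zpowers (y : G) := ⟨_, rfl⟩
  have hQc : Nat.card Q = p := by rw [hQdef, Nat.card_zpowers, Subgroup.orderOf_coe, hy]
  have hQD : Q ≤ ⁅L, L⁆ := by rw [hQdef, Subgroup.zpowers_le]; exact y.2
  have hDL : ⁅L, L⁆ ≤ L := Cfsg.Agent.Lib.Helper1.BG12.derived_le L
  have hQL : Q ≤ L := hQD.trans hDL
  have hPp : IsPGroup p P := IsPGroup.of_card (n := 1) (by rw [hPc, pow_one])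
  have hQp : IsPGroup p Q := IsPGroup.of_card (n := 1) (by rw [hQc, pow_one])
  have hP1 : P ≠ ⊥ := by
    rintro rfl
    rw [Subgroup.card_bot] at hPc
    exact hp.out.one_lt.ne hPc
  have hp2 : p ≠ 2 := Cfsg.Agent.Lib.Helper11.BenderD.odd_prime_of_pgroup hG p P hP1 hPp
  obtain ⟨T, hT, hQT⟩ := exists_isSylowIn_ge hQL hQp
  obtain ⟨x, hx, hle⟩ := hT.exists_conj_le hPL hPp
  have hcyc : IsCyclic ↥T :=
    Cfsg.Agent.Lib.Helper11.BenderQ.isCyclic_of_pRankLE_one p hp2 hT.isPGroup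
      (Cfsg.Agent.Lib.Helper1.BG12.pRankLE_of_le hT.le hr1)
  have heq : Helper18.conjSub x P = Q :=
    Cfsg.Agent.Lib.Helper10.SigmaJsubA.eq_of_card_eq_of_le_cyclic hcyc hle hQT
      (by rw [Helper18.card_conjSub, hPc, hQc])
  intro a ha
  have h1 : x * a * x⁻¹ ∈ ⁅L, L⁆ := hQD (heq ▸ Helper18.conj_mem_conjSub ha)
  have h2 := conj_mem_of_le_normalizer (le_normalizer_derived' L) (L.inv_mem hx) h1
  have e : x⁻¹ * (x * a * x⁻¹) * x⁻¹⁻¹ = a := by group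
  rwa [e] at h2

namespace Over

variable {M E L : Subgroup G} {r : ℕ} {A : Subgroup G}

/-- facts on a maximal subgroup `L ≥ N_G(A)` -/
theorem facts (c : Tau2Ctx M E r A) (hL : IsCoatom L)
    (hNL : Subgroup.normalizer (A : Set G) ≤ L) :
    r ∈ Cfsg.sigma L ∧ L ≠ M ∧ E ≤ L ∧ Cfsg.sigmaCore M ⊓ L = ⊥ ∧ M ⊓ L = E ∧
      A ≤ Cfsg.sigmaCore L ∧ r ∉ Cfsg.beta L := by
  have := c.fact
  have hrσ := c.p_mem_sigma_over hL hNL
  obtain ⟨hne, hEL, hAL⟩ := c.overN hNL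
  have hbot : Cfsg.sigmaCore M ⊓ L = ⊥ := c.t17.2.2.2.2.1 L hL hne hAL
  refine ⟨hrσ, hne, hEL, hbot, ?_, ?_, not_beta_of_tau2 c.hG c.hM c.hp L⟩
  · apply le_antisymm
    · rintro m ⟨hmM, hmL⟩
      obtain ⟨a, ha, b, hb, rfl⟩ := c.hE.2.2.2 m hmM
      have hbL : b ∈ L := by
        have := L.mul_mem (L.inv_mem (hEL ha)) hmL
        rwa [inv_mul_cancel_left] at this
      have hb1 : b ∈ Cfsg.sigmaCore M ⊓ L := ⟨hb, hbL⟩
      rw [hbot, Subgroup.mem_bot] at hb1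
      rw [hb1, mul_one]
      exact ha
    · exact le_inf c.hEM hEL
  · exact Cfsg.Agent.Lib.Helper1.BG12.pgroup_le_sigmaCore c.hG L hL r hrσ A hAL c.isPGroup_A

/-- an `s`-element of `E` (`s ≠ r`) which does not centralize `A` has `s ∉ σ(L)` -/
theorem not_sigma_of_not_cent (c : Tau2Ctx M E r A) (hL : IsCoatom L)
    (hNL : Subgroup.normalizer (A : Set G) ≤ L) {s : ℕ} (hsr : s ≠ r) {x : G} (hxE : x ∈ E)
    {k : ℕ} (hxk : x ^ s ^ k = 1) (hnc : ¬ ∀ a ∈ A, x * a = a * x) : s ∉ Cfsg.sigma L := by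
  intro hs
  obtain ⟨hrσ, -, hEL, -, -, -, hrβ⟩ := facts c hL hNL
  obtain ⟨-, -, hAL⟩ := c.overN hNL
  exact hnc (cross_centralizes c.hG (nc c.hG) hL hsr hs hrσ hrβ (hEL hxE) hxk hAL c.isPGroup_A
    (c.E_le_normalizer hxE))

/-- an element of prime order `s ≠ r` of `E` which does not centralize `A` has `s ∉ τ₃(L)` -/
theorem not_tau3_of_not_cent (c : Tau2Ctx M E r A) (hL : IsCoatom L)
    (hNL : Subgroup.normalizer (A : Set G) ≤ L) {s : ℕ} (hsr : s ≠ r) {X : Subgroup G}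
    (hXE : X ≤ E) (hXc : Nat.card X = s) (hnc : ¬ X ≤ Subgroup.centralizer (A : Set G)) :
    s ∉ Cfsg.tau3 L := by
  intro hs
  have : Fact s.Prime := ⟨hs.1⟩
  obtain ⟨hrσ, -, hEL, -, -, -, hrβ⟩ := facts c hL hNL
  obtain ⟨-, -, hAL⟩ := c.overN hNL
  have hXD : X ≤ ⁅L, L⁆ := le_derived_of_rank_one c.hG hs.2.2.1 hs.2.2.2 (hXE.trans hEL) hXc
  apply hnc
  intro x hx
  rw [Subgroup.mem_centralizer_iff]
  intro a ha
  have hxs : x ^ s ^ 1 = 1 := by
    rw [pow_one, ← hXc]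
    have h := congrArg Subtype.val (pow_card_eq_one' (G := X) (x := ⟨x, hx⟩))
    rw [Subgroup.coe_pow, Subgroup.coe_one] at h
    exact h
  exact (gcross (nc c.hG) hL hs.1 c.prime hsr hrβ (hXD hx) hxs hAL c.isPGroup_A
    (c.E_le_normalizer (hXE hx)) a ha).symm

end Over

end Cfsg.Agent.Lib.Helper11.LemLA
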