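import Mathlib
import Cfsg.Agent.Lib.Helper11.LemLA
import Cfsg.Agent.Lib.Helper11.ThirteenB
import Cfsg.Agent.Lib.Helper28.BGtL
import Cfsg.Agent.S1424

set_option autoImplicit false

/-! "Lemma L" (B & G section 13): steps (4)-(6) of the proof, helper11. -/

namespace Cfsg.Agent.Lib.Helper11.LemLB

open Cfsg Cfsg.Agent.Lib.Helper18 Cfsg.Agent.Lib.Helper28.BGt Cfsg.Agent.Lib.Helper11.LemLA

variable {G : Type*} [Group G] [Finite G]

/-- the output of the first part of the argument ("L012") -/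
def H012 (G : Type*) [Group G] [Finite G] : Prop :=
  ∀ (M E : Subgroup G), IsCoatom M → Cfsg.IsComplIn E (Cfsg.sigmaCore M) M →
    ∀ (p r : ℕ), p ∈ Cfsg.tau1 M → r ∈ Cfsg.tau2 M →
    ∀ (P R A : Subgroup G), P ≤ E → Nat.card P = p →
      Cfsg.sigmaCore M ⊓ Subgroup.centralizer (P : Set G) ≠ ⊥ →
      R ≤ E ⊓ Subgroup.centralizer (P : Set G) → Nat.card R = r →
      A ≤ E → Cfsg.IsElementaryAbelian r A → Nat.card A = r ^ 2 →
      (∀ S : Sylow r G, ¬ IsMulCommutative (S : Subgroup G)) ∧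
        R = A ⊓ Subgroup.centralizer (Cfsg.sigmaCore M : Set G) ∧
        A ⊓ Subgroup.centralizer (P : Set G) = R

/-- the generic last step -/
def HFin (G : Type*) [Group G] [Finite G] : Prop :=
  ∀ (M E L : Subgroup G), IsCoatom M → Cfsg.IsComplIn E (Cfsg.sigmaCore M) M →
    ∀ (r : ℕ), r ∈ Cfsg.tau2 M → (∀ S : Sylow r G, ¬ IsMulCommutative (S : Subgroup G)) →
    ∀ (A : Subgroup G), A ≤ E → Cfsg.IsElementaryAbelian r A → Nat.card A = r ^ 2 →
    IsCoatom L → Subgroup.normalizer (A : Set G) ≤ L →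
    ∀ x : G, x ∈ E → (orderOf x).Coprime r → (orderOf x).Coprime (Nat.card (Cfsg.sigmaCore L)) →
      (∀ a ∈ A, x * a = a * x ↔ a ∈ Subgroup.centralizer (Cfsg.sigmaCore M : Set G)) →
      E ≤ Subgroup.centralizer ((A ⊓ Subgroup.centralizer (Cfsg.sigmaCore M : Set G) : Subgroup G) : Set G) →
      False

theorem t1424 (hG : Cfsg.IsMinSimpleOddOrder G) : T1424 G :=
  fun M hM q _ hq X hXq hX1 hXM Ms hMs hne hNX S hXS =>
    Cfsg.Agent.S1424.result hG M hM q hq X hXq hX1 hXM Ms hMs hne hNX S hXS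

omit [Finite G] in
theorem comm_of_cyclic {H : Subgroup G} (hc : IsCyclic H) {a b : G} (ha : a ∈ H) (hb : b ∈ H) :
    a * b = b * a := by
  have := hc.isMulCommutative.is_comm.comm ⟨a, ha⟩ ⟨b, hb⟩
  exact congrArg Subtype.val this

omit [Finite G] in
theorem pow_card_eq_one_of_mem' [Finite G] {X : Subgroup G} {x : G} (hx : x ∈ X) :
    x ^ Nat.card X = 1 := by
  have h := congrArg Subtype.val (pow_card_eq_one' (G := X) (x := ⟨x, hx⟩))
  rw [Subgroup.coe_pow, Subgroup.coe_one] at h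
  exact h

/-- a subgroup of order `q ∈ τ₁(M)` of `E` with a fixed point on `M_σ` does not centralize `A` -/
theorem not_cent_A {M E A : Subgroup G} {r : ℕ} (c : Tau2Ctx M E r A) {q : ℕ}
    (hq : q ∈ Cfsg.tau1 M) {Q : Subgroup G} (hQE : Q ≤ E) (hQc : Nat.card Q = q)
    (hne : Cfsg.sigmaCore M ⊓ Subgroup.centralizer (Q : Set G) ≠ ⊥) :
    ¬ Q ≤ Subgroup.centralizer (A : Set G) := by
  have := c.fact
  intro hQA
  apply hne
  rw [eq_bot_iff]
  intro d hd
  have h1 : d ∈ Cfsg.sigmaCore M ⊓ Subgroup.centralizer (A : Set G) := by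
    refine ⟨hd.1, ?_⟩
    show d ∈ Subgroup.centralizer (A : Set G)
    rw [Subgroup.mem_centralizer_iff]
    intro a ha
    by_cases ha1 : a = 1
    · rw [ha1, one_mul, mul_one]
    have hXc : Nat.card (Subgroup.zpowers a) = r := by
      rw [Nat.card_zpowers]
      exact orderOf_eq_prime (c.hAe.2 a ha) ha1
    have hXE : Subgroup.zpowers a ≤ E ⊓ Subgroup.centralizer (Q : Set G) := by
      rw [Subgroup.zpowers_le]
      refine ⟨c.hAE ha, ?_⟩
      show a ∈ Subgroup.centralizer (Q : Set G)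
      rw [Subgroup.mem_centralizer_iff]
      intro y hy
      exact ((Subgroup.mem_centralizer_iff.mp (hQA hy)) a ha).symm
    have h28 := Cfsg.Agent.S1428.result c.hG M c.hM E c.hE q hq Q hQE hQc (Subgroup.zpowers a) hXE
      (by rw [hXc]; exact c.prime)
    have h2 : d ∈ Subgroup.centralizer ((Subgroup.zpowers a : Subgroup G) : Set G) := (h28 hd).2
    exact Subgroup.mem_centralizer_iff.mp h2 a (Subgroup.mem_zpowers a)
  rw [c.t17.2.2.2.1] at h1
  exact h1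

/-- for `p ∈ τ₂(L)`, a subgroup of order `p` with a fixed point on `L_σ` has its centralizer in `L` -/
theorem cent_le_of_tau2 (hG : Cfsg.IsMinSimpleOddOrder G) {L : Subgroup G} (hL : IsCoatom L) {p : ℕ}
    [Fact p.Prime] (hτ : p ∈ Cfsg.tau2 L) {P : Subgroup G} (hPL : P ≤ L) (hPc : Nat.card P = p)
    (hne : Cfsg.sigmaCore L ⊓ Subgroup.centralizer (P : Set G) ≠ ⊥) :
    Subgroup.centralizer (P : Set G) ≤ L := by
  have hPp : IsPGroup p P := IsPGroup.of_card (n := 1) (by rw [hPc, pow_one])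
  obtain ⟨S, hS, hPS⟩ := exists_isSylowIn_ge hPL hPp
  obtain ⟨E', B, c', hBS⟩ := Cfsg.Agent.Lib.Helper11.JsubC.exists_ctx hG hL hτ hS
  have hPB : P ≤ B := by
    intro x hx
    apply ((c'.sylow_data hBS hS).2.1 x (hPS hx)).mp
    rw [← hPc]
    exact pow_card_eq_one_of_mem' hx
  exact (c'.twelve_six.2.2 P hPB hPc hne).1

omit [Finite G] in
theorem sylow_of_hall {π : Set ℕ} {K E X : Subgroup G} (hK : Cfsg.IsPiHallOf π K E) {q : ℕ}
    (hq : q.Prime) (hqπ : q ∈ π) (hX : IsSylowIn q X K) : IsSylowIn q X E := by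
  refine ⟨hX.le.trans hK.1, hX.isPGroup, ?_⟩
  rw [← Subgroup.relIndex_mul_relIndex X K E hX.le hK.1]
  intro h
  rcases (Nat.Prime.dvd_mul hq).mp h with h | h
  · exact hX.not_dvd h
  · exact hK.2.2 q hq hqπ h

/-- step (6): every Sylow subgroup of `E₁` centralizes `A₀` -/
theorem step6 (h012 : H012 G) {M E L A : Subgroup G} {r : ℕ} (c : Tau2Ctx M E r A)
    (hL : IsCoatom L) (hNL : Subgroup.normalizer (A : Set G) ≤ L)
    {p : ℕ} (hpM : p ∈ Cfsg.tau1 M) (hpL : p ∈ Cfsg.tau1 L) {P : Subgroup G} (hPE : P ≤ E)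
    (hPc : Nat.card P = p)
    (hK : Cfsg.sigmaCore M ⊓ Subgroup.centralizer (P : Set G) ≠ ⊥)
    {A₀ : Subgroup G} (hA₀A : A₀ ≤ A) (hA₀1 : A₀ ≠ ⊥)
    (hA₀P : A₀ ≤ Subgroup.centralizer (P : Set G))
    {E₁ : Subgroup G} (hE₁ : Cfsg.IsPiHallOf (Cfsg.tau1 M) E₁ E) (hcyc : IsCyclic E₁)
    (hPE₁ : P ≤ E₁) {q : ℕ} [hq : Fact q.Prime] {X : Subgroup G} (hX : IsSylowIn q X E₁)
    (hX1 : X ≠ ⊥) : X ≤ Subgroup.centralizer (A₀ : Set G) := by
  have hG := c.hG
  have hM := c.hM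
  have hE := c.hE
  have := c.fact
  obtain ⟨hrσ, hne, hEL, hbot, hML, hAσ, hrβ⟩ := Over.facts c hL hNL
  have hXE₁ : X ≤ E₁ := hX.le
  have hE₁E : E₁ ≤ E := hE₁.1
  -- `q ∈ τ₁(M)`
  have hqX : q ∣ Nat.card X := by
    obtain ⟨n, hn⟩ := IsPGroup.iff_card.mp hX.isPGroup
    rw [hn]
    apply dvd_pow_self
    rintro rfl
    rw [pow_zero] at hn
    exact hX1 (Subgroup.card_eq_one.mp hn)
  have hqM : q ∈ Cfsg.tau1 M :=
    hE₁.2.1 q hq.out (hqX.trans (Subgroup.card_dvd_of_le hXE₁))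
  have hqr : q ≠ r := by
    rintro rfl
    exact c.hp.2.2.2 hqM.2.2.2.2
  have hpp : p.Prime := hpM.1
  -- a subgroup `P'` of order `q` of `X`
  obtain ⟨y, hy⟩ := exists_prime_orderOf_dvd_card' q hqX
  obtain ⟨P', hP'def⟩ : ∃ P' : Subgroup G, P' = Subgroup.zpowers (y : G) := ⟨_, rfl⟩
  have hyo : orderOf (y : G) = q := by rw [Subgroup.orderOf_coe, hy]
  have hP'c : Nat.card P' = q := by rw [hP'def, Nat.card_zpowers, hyo]
  have hP'X : P' ≤ X := by rw [hP'def, Subgroup.zpowers_le]; exact y.2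
  have hP'E₁ : P' ≤ E₁ := hP'X.trans hXE₁
  have hP'E : P' ≤ E := hP'E₁.trans hE₁E
  have hP'P : P' ≤ Subgroup.centralizer (P : Set G) := by
    intro z hz
    rw [Subgroup.mem_centralizer_iff]
    intro x hx
    exact comm_of_cyclic hcyc (hPE₁ hx) (hP'E₁ hz)
  have hXP : X ≤ Subgroup.centralizer (P : Set G) := by
    intro z hz
    rw [Subgroup.mem_centralizer_iff]
    intro x hx
    exact comm_of_cyclic hcyc (hPE₁ hx) (hXE₁ hz)
  -- `P'` has fixed points on `M_σ`, hence does not centralize `A`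
  have h28 := Cfsg.Agent.S1428.result hG M hM E hE p hpM P hPE hPc P' (le_inf hP'E hP'P)
    (by rw [hP'c]; exact hq.out)
  have hne' : Cfsg.sigmaCore M ⊓ Subgroup.centralizer (P' : Set G) ≠ ⊥ := by
    intro h
    apply hK
    rw [eq_bot_iff, ← h]
    exact h28
  have hncA : ¬ P' ≤ Subgroup.centralizer (A : Set G) := not_cent_A c hqM hP'E hP'c hne'
  have hyE : (y : G) ∈ E := hP'E (by rw [hP'def]; exact Subgroup.mem_zpowers _)
  have hyq : (y : G) ^ q ^ 1 = 1 := by rw [pow_one, ← hyo]; exact pow_orderOf_eq_one _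
  have hync : ¬ ∀ a ∈ A, (y : G) * a = a * (y : G) := by
    intro h
    apply hncA
    rw [hP'def, Subgroup.zpowers_le, Subgroup.mem_centralizer_iff]
    intro a ha
    exact (h a ha).symm
  -- the type of `q` in `L`
  have hqσL : q ∉ Cfsg.sigma L := Over.not_sigma_of_not_cent c hL hNL hqr hyE hyq hync
  have hqτ3 : q ∉ Cfsg.tau3 L := Over.not_tau3_of_not_cent c hL hNL hqr hP'E hP'c hncA
  have hpσL : p ∉ Cfsg.sigma L := hpL.2.1
  -- a complement of `L_σ` containing `P` and `X`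
  have hPL : P ≤ L := hPE.trans hEL
  have hXL : X ≤ L := (hXE₁.trans hE₁E).trans hEL
  have hXN : X ≤ Subgroup.normalizer (P : Set G) :=
    hXP.trans (Subgroup.centralizer_le_normalizer _)
  obtain ⟨EL, hELc, hPXEL⟩ := exists_compl_ge hG hL (sup_le hPL hXL) (by
    intro s hs hsd
    have h1 := hsd.trans (Cfsg.Agent.Lib.Helper11.ThirteenB.card_sup_dvd P X hXN)
    obtain ⟨n, hn⟩ := IsPGroup.iff_card.mp hX.isPGroup
    rw [hPc, hn] at h1
    rcases (Nat.Prime.dvd_mul hs).mp h1 with h | h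
    · rw [(Nat.prime_dvd_prime_iff_eq hs hpp).mp h]; exact hpσL
    · rw [(Nat.prime_dvd_prime_iff_eq hs hq.out).mp (hs.dvd_of_dvd_pow h)]; exact hqσL)
  have hPEL : P ≤ EL := le_sup_left.trans hPXEL
  have hXEL : X ≤ EL := le_sup_right.trans hPXEL
  have hP'EL : P' ≤ EL := hP'X.trans hXEL
  have hA₀σ : A₀ ≤ Cfsg.sigmaCore L ⊓ Subgroup.centralizer (P : Set G) :=
    le_inf (hA₀A.trans hAσ) hA₀P
  have hneL : Cfsg.sigmaCore L ⊓ Subgroup.centralizer (P : Set G) ≠ ⊥ := by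
    intro h
    apply hA₀1
    rw [eq_bot_iff, ← h]
    exact hA₀σ
  -- `q ∉ τ₂(L)`
  have hqτ2 : q ∉ Cfsg.tau2 L := by
    intro hτ
    obtain ⟨B, hBE, hBe, hB2⟩ := exists_sq_le_compl hG hL hELc hτ
    obtain ⟨-, h2, -⟩ := h012 L EL hL hELc p q hpL hτ P P' B hPEL hPc hneL (le_inf hP'EL hP'P)
      hP'c hBE hBe hB2
    apply hncA
    rw [h2]
    refine le_trans inf_le_right ?_
    exact Subgroup.centralizer_le hAσ
  have hqL : q ∣ Nat.card L := hqX.trans (Subgroup.card_dvd_of_le hXL)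
  have hqτ1 : q ∈ Cfsg.tau1 L := by
    rcases type_cases hG hL hq.out hqL hqσL with h | h | h
    · exact h
    · exact absurd h hqτ2
    · exact absurd h hqτ3
  -- S1428 in `L`
  have h28L := Cfsg.Agent.S1428.result hG L hL EL hELc p hpL P hPEL hPc P' (le_inf hP'EL hP'P)
    (by rw [hP'c]; exact hq.out)
  -- the Sylow `q`-subgroup of `EL` containing `X`
  obtain ⟨T, hT, hXT⟩ := exists_isSylowIn_ge hXEL hX.isPGroup
  have hq2 : q ≠ 2 := Cfsg.Agent.Lib.Helper11.BenderD.odd_prime_of_pgroup hG q X hX1 hX.isPGroup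
  have hTL : T ≤ L := hT.le.trans hELc.1
  have hTc : IsCyclic ↥T :=
    Cfsg.Agent.Lib.Helper11.BenderQ.isCyclic_of_pRankLE_one q hq2 hT.isPGroup
      (Cfsg.Agent.Lib.Helper1.BG12.pRankLE_of_le hTL hqτ1.2.2.2.2)
  have key := thirteen_three_a hG (Cfsg.Agent.Lib.Helper11.JsubC.t1416 hG)
    (Cfsg.Agent.Lib.Helper11.JsubC.t1417 hG) (nc hG) (t1424 hG) hL hELc hT hTc (hXT y.2) hyo
  -- conclusion
  intro x hx
  rw [Subgroup.mem_centralizer_iff]
  intro a ha
  have h1 : a ∈ Cfsg.sigmaCore L ⊓ Subgroup.centralizer (P' : Set G) := h28L (hA₀σ ha)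
  have h2 : a ∈ Cfsg.sigmaCore L ⊓ Subgroup.centralizer ({(y : G)} : Set G) := by
    refine ⟨h1.1, ?_⟩
    show a ∈ Subgroup.centralizer ({(y : G)} : Set G)
    rw [Subgroup.mem_centralizer_iff]
    rintro _ rfl
    exact Subgroup.mem_centralizer_iff.mp h1.2 (y : G) (by rw [hP'def]; exact Subgroup.mem_zpowers _)
  have h3 : a ∈ Subgroup.centralizer (T : Set G) := key h2
  exact (Subgroup.mem_centralizer_iff.mp h3 x (hXT hx)).symm

end Cfsg.Agent.Lib.Helper11.LemLB
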