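import Mathlib
import Cfsg.Agent.Lib.Helper11.LemLB
import Cfsg.Agent.Lib.Helper11.RegD
import Cfsg.Agent.Lib.Helper18.Asym13D

set_option autoImplicit false

/-! "Lemma L" (B & G section 13): assembly modulo the first part ("L012") and the generic
last step, helper11. -/

namespace Cfsg.Agent.Lib.Helper11.LemLC

open Cfsg Cfsg.Agent.Lib.Helper18 Cfsg.Agent.Lib.Helper28.BGt Cfsg.Agent.Lib.Helper11.LemLA
  Cfsg.Agent.Lib.Helper11.LemLB

variable {G : Type*} [Group G] [Finite G]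

omit [Finite G] in
theorem mem_normalizer_inf {H K : Subgroup G} {g : G} (h1 : g ∈ Subgroup.normalizer (H : Set G))
    (h2 : g ∈ Subgroup.normalizer (K : Set G)) :
    g ∈ Subgroup.normalizer ((H ⊓ K : Subgroup G) : Set G) := by
  rw [Subgroup.mem_normalizer_iff] at *
  intro x
  rw [Subgroup.mem_inf, Subgroup.mem_inf, h1 x, h2 x]

/-- a Sylow `q`-subgroup of `E` is trivial when `q ∤ |E|` -/
theorem sylow_map_le_of_not_dvd {E : Subgroup G} {q : ℕ} [Fact q.Prime] (h : ¬ q ∣ Nat.card E)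
    (Q : Sylow q E) (H : Subgroup G) : (Q : Subgroup E).map E.subtype ≤ H := by
  have h1 : (Q : Subgroup E) = ⊥ := by
    obtain ⟨n, hn⟩ := IsPGroup.iff_card.mp Q.isPGroup'
    rcases Nat.eq_zero_or_pos n with rfl | hpos
    · rw [pow_zero] at hn
      exact Subgroup.card_eq_one.mp hn
    · exfalso
      apply h
      have h2 : Nat.card (Q : Subgroup E) ∣ Nat.card E := Subgroup.card_subgroup_dvd_card _
      rw [hn] at h2
      exact (dvd_pow_self q hpos.ne').trans h2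
  rw [h1, Subgroup.map_bot]
  exact bot_le

/-- **Lemma L** modulo its first part and the generic last step -/
theorem lemma_L_of (h012 : H012 G) (hfin : HFin G) (hG : Cfsg.IsMinSimpleOddOrder G)
    {M E : Subgroup G} (hM : IsCoatom M) (hE : Cfsg.IsComplIn E (Cfsg.sigmaCore M) M) {p r : ℕ}
    (hp : p ∈ Cfsg.tau1 M) (hr : r ∈ Cfsg.tau2 M) {P R : Subgroup G} (hPE : P ≤ E)
    (hPc : Nat.card P = p)
    (hK : Cfsg.sigmaCore M ⊓ Subgroup.centralizer (P : Set G) ≠ ⊥)
    (hRE : R ≤ E ⊓ Subgroup.centralizer (P : Set G)) (hRc : Nat.card R = r) : False := by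
  haveI hrf : Fact r.Prime := ⟨hr.1⟩
  haveI hpf : Fact p.Prime := ⟨hp.1⟩
  haveI hMs : Group.IsSolvable ↥M := Cfsg.Agent.Lib.Helper11.MaxSubB.coatom_solvable hG M hM
  haveI hEs : Group.IsSolvable ↥E := Cfsg.Agent.Lib.Lead.solvable_of_le hE.1
  obtain ⟨A, hAE, hAe, hA2⟩ := exists_sq_le_compl hG hM hE hr
  have c : Tau2Ctx M E r A := ⟨hG, Cfsg.Agent.Lib.Helper11.JsubC.t1416 hG,
    Cfsg.Agent.Lib.Helper11.JsubC.t1417 hG, hM, hE, hr, hAE, hAe, hA2⟩
  obtain ⟨hS, hR0, hCA⟩ := h012 M E hM hE p r hp hr P R A hPE hPc hK hRE hRc hAE hAe hA2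
  obtain ⟨L, hL, hNL⟩ := Cfsg.Agent.Lib.Helper11.BenderE.exists_coatom_ge _ c.normalizer_ne_top
  obtain ⟨hrσ, hne, hEL, hbot, hML, hAσ, hrβ⟩ := Over.facts c hL hNL
  have hRA : R ≤ A := by rw [hR0]; exact inf_le_left
  have hR1 : R ≠ ⊥ := by
    intro h
    rw [h, Subgroup.card_bot] at hRc
    exact hrf.out.one_lt.ne hRc
  have hRP : R ≤ Subgroup.centralizer (P : Set G) := hRE.trans inf_le_right
  have hpr : p ≠ r := by
    rintro rfl
    exact hr.2.2.2 hp.2.2.2.2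
  have hncA : ¬ P ≤ Subgroup.centralizer (A : Set G) := not_cent_A c hp hPE hPc hK
  -- a generator of `P`
  obtain ⟨x, hxo, hxP⟩ := Cfsg.Agent.Lib.Helper11.RegD.exists_generator_of_card_prime hp.1 hPc
  have hxPm : x ∈ P := by rw [← hxP]; exact Subgroup.mem_zpowers x
  have hxE : x ∈ E := hPE hxPm
  have hxp : x ^ p ^ 1 = 1 := by rw [pow_one, ← hxo]; exact pow_orderOf_eq_one x
  have hxnc : ¬ ∀ a ∈ A, x * a = a * x := by
    intro h
    apply hncA
    rw [← hxP, Subgroup.zpowers_le, Subgroup.mem_centralizer_iff]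
    intro a ha
    exact (h a ha).symm
  have hPL : P ≤ L := hPE.trans hEL
  -- `p ∈ τ₁(L)`
  have hpσL : p ∉ Cfsg.sigma L := Over.not_sigma_of_not_cent c hL hNL hpr hxE hxp hxnc
  have hpτ3 : p ∉ Cfsg.tau3 L := Over.not_tau3_of_not_cent c hL hNL hpr hPE hPc hncA
  have hRσ : R ≤ Cfsg.sigmaCore L ⊓ Subgroup.centralizer (P : Set G) := le_inf (hRA.trans hAσ) hRP
  have hneL : Cfsg.sigmaCore L ⊓ Subgroup.centralizer (P : Set G) ≠ ⊥ := by
    intro h
    apply hR1
    rw [eq_bot_iff, ← h]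
    exact hRσ
  have hpτ2 : p ∉ Cfsg.tau2 L := by
    intro hτ
    have h1 := cent_le_of_tau2 hG hL hτ hPL hPc hneL
    apply hK
    rw [eq_bot_iff, ← hbot]
    exact inf_le_inf_left _ h1
  have hpL : p ∈ Cfsg.tau1 L := by
    have hpd : p ∣ Nat.card L := by rw [← hPc]; exact Subgroup.card_dvd_of_le hPL
    rcases type_cases hG hL hp.1 hpd hpσL with h | h | h
    · exact h
    · exact absurd h hpτ2
    · exact absurd h hpτ3
  -- the Hall `τ₁(M)`-subgroup `E₁ ≥ P`
  obtain ⟨E₁, hE₁, hPE₁⟩ := exists_piHallOf_ge (Cfsg.tau1 M) E hPE (by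
    intro s hs hsd
    rw [hPc] at hsd
    rw [(Nat.prime_dvd_prime_iff_eq hs hp.1).mp hsd]
    exact hp)
  obtain ⟨-, h15a, h15b⟩ := Cfsg.Agent.S1415.result hG M hM E hE
  have hcyc : IsCyclic ↥E₁ := h15a E₁ hE₁
  -- `E` normalizes `R` and `E' ≤ C(R)`
  have hEN : E ≤ Subgroup.normalizer (R : Set G) := by
    intro e he
    rw [hR0]
    apply mem_normalizer_inf (c.E_le_normalizer he)
    exact Cfsg.Agent.Lib.Helper11.ExcG.normalizer_le_normalizer_centralizer _
      (le_normalizer_sigmaCore M (hE.1 he))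
  have hRcyc : IsCyclic ↥R := by
    haveI : Fact (Nat.card ↥R).Prime := ⟨by rw [hRc]; exact hrf.out⟩
    exact isCyclic_of_prime_card rfl
  have hder : ⁅E, E⁆ ≤ Subgroup.centralizer (R : Set G) :=
    Cfsg.Agent.Lib.Helper18.Asym13D.commutator_le_centralizer_cyclic hRcyc hEN hEN
  have h19 := (Cfsg.Agent.S1419.result hG M hM E hE r hr hS A ⟨hAE, hAe, hA2⟩).1
  -- `E ≤ C(R)`
  have hcent : E ≤ Subgroup.centralizer (R : Set G) := by
    apply Cfsg.Agent.Lib.Helper1.sylow_le_imp_le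
    intro q hq
    by_cases hqE : q ∣ Nat.card E
    swap
    · obtain ⟨Q⟩ : Nonempty (Sylow q E) := inferInstance
      exact ⟨Q, sylow_map_le_of_not_dvd hqE Q _⟩
    have hqσ : q ∉ Cfsg.sigma M := compl_prime_not_sigma hG hM hE hq.out hqE
    have hqM : q ∣ Nat.card M := hqE.trans (Subgroup.card_dvd_of_le hE.1)
    rcases type_cases hG hM hq.out hqM hqσ with hτ | hτ | hτ
    · -- `τ₁`
      obtain ⟨X, hX, -⟩ := exists_isSylowIn_ge (p := q) (bot_le : (⊥ : Subgroup G) ≤ E₁)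
        IsPGroup.of_bot
      have hXE : IsSylowIn q X E := sylow_of_hall hE₁ hq.out hτ hX
      obtain ⟨Q, hQ⟩ := hXE.exists_sylow
      refine ⟨Q, ?_⟩
      rw [hQ, Subgroup.map_subgroupOf_eq_of_le hXE.le]
      by_cases hX1 : X = ⊥
      · rw [hX1]; exact bot_le
      · exact step6 h012 c hL hNL hp hpL hPE hPc hK hRA hR1 hRP hE₁ hcyc hPE₁ hX hX1
    · -- `τ₂`
      rw [h19, Set.mem_singleton_iff] at hτ
      subst hτ
      obtain ⟨Q⟩ : Nonempty (Sylow q E) := inferInstance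
      refine ⟨Q, ?_⟩
      rintro _ ⟨z, hz, rfl⟩
      rw [Subgroup.mem_centralizer_iff]
      intro a ha
      obtain ⟨k, hk⟩ := Q.isPGroup' ⟨z, hz⟩
      have hk' : ((z : E) : G) ^ q ^ k = 1 := by
        have := congrArg Subtype.val (congrArg Subtype.val hk)
        simpa using this
      exact (c.pelem_centralizes z.2 hk' a (hRA ha)).symm
    · -- `τ₃`
      obtain ⟨E₃, hE₃⟩ := Cfsg.Agent.Lib.Helper1.BG12b.exists_piHallOf (Cfsg.tau3 M) E
      obtain ⟨-, hE₃d, -⟩ := h15b E₃ hE₃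
      obtain ⟨X, hX, -⟩ := exists_isSylowIn_ge (p := q) (bot_le : (⊥ : Subgroup G) ≤ E₃)
        IsPGroup.of_bot
      have hXE : IsSylowIn q X E := sylow_of_hall hE₃ hq.out hτ hX
      obtain ⟨Q, hQ⟩ := hXE.exists_sylow
      refine ⟨Q, ?_⟩
      rw [hQ, Subgroup.map_subgroupOf_eq_of_le hXE.le]
      exact (hX.le.trans hE₃d).trans hder
  -- the generic finish
  have hcop : (orderOf x).Coprime r := by
    rw [hxo]
    exact (Nat.coprime_primes hp.1 hrf.out).mpr hpr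
  have hcopL : (orderOf x).Coprime (Nat.card (Cfsg.sigmaCore L)) := by
    rw [hxo]
    apply (Nat.Prime.coprime_iff_not_dvd hp.1).mpr
    intro h
    exact hpσL (prime_sigmaCore hG hL hp.1 h)
  refine hfin M E L hM hE r hr hS A hAE hAe hA2 hL hNL x hxE hcop hcopL ?_
    (by rw [← hR0]; exact hcent)
  intro a ha
  constructor
  · intro h
    have h1 : a ∈ A ⊓ Subgroup.centralizer (P : Set G) := by
      refine ⟨ha, ?_⟩
      show a ∈ Subgroup.centralizer (P : Set G)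
      rw [Subgroup.mem_centralizer_iff, ← hxP]
      intro y hy
      obtain ⟨n, rfl⟩ := Subgroup.mem_zpowers_iff.mp hy
      have hc : Commute x a := h
      exact (hc.zpow_left n).eq
    rw [hCA, hR0] at h1
    exact h1.2
  · intro h
    have h1 : a ∈ A ⊓ Subgroup.centralizer (Cfsg.sigmaCore M : Set G) := ⟨ha, h⟩
    rw [← hR0, ← hCA] at h1
    exact Subgroup.mem_centralizer_iff.mp h1.2 x hxPm

end Cfsg.Agent.Lib.Helper11.LemLC
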