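import Mathlib
import Cfsg.Agent.Lib.Helper11.NilpCoprime

set_option autoImplicit false

namespace Cfsg.Agent.Lib.Helper11

theorem isPGroup_zpowers_of_pow {G : Type*} [Group G] (p : ℕ) (h : G) (hk : ∃ k : ℕ, h ^ p ^ k = 1) :
    IsPGroup p (Subgroup.zpowers h) := by
  obtain ⟨k, hk⟩ := hk
  rintro ⟨g, hg⟩
  obtain ⟨n, rfl⟩ := Subgroup.mem_zpowers_iff.mp hg
  refine ⟨k, ?_⟩
  apply Subtype.ext
  simp only [Subgroup.coe_pow, Subgroup.coe_one]
  rw [← zpow_natCast, ← zpow_mul, mul_comm, zpow_mul, zpow_natCast, hk, one_zpow]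

/-- in a finite nilpotent group, the Sylow `p`-subgroup contains all `p`-elements -/
theorem p_element_mem_sylow {H : Type*} [Group H] [Finite H] [Group.IsNilpotent H]
    (p : ℕ) [Fact p.Prime] (S : Sylow p H) (h : H) (hk : ∃ k : ℕ, h ^ p ^ k = 1) : h ∈ S := by
  obtain ⟨Q, hQ⟩ := IsPGroup.exists_le_sylow (isPGroup_zpowers_of_pow p h hk)
  have : Q = S := by
    have := Sylow.unique_of_normal S inferInstance
    exact Subsingleton.elim _ _
  rw [← this]
  exact hQ (Subgroup.mem_zpowers h)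

/-- a finite nilpotent group of order divisible by `p` has a nontrivial central `p`-element -/
theorem exists_central_p_element {H : Type*} [Group H] [Finite H] [Group.IsNilpotent H]
    (p : ℕ) [hp : Fact p.Prime] (hpH : p ∣ Nat.card H) :
    ∃ u : H, u ≠ 1 ∧ (∃ k : ℕ, u ^ p ^ k = 1) ∧ ∀ h : H, Commute u h := by
  let S : Sylow p H := default
  have hS : (S : Subgroup H) ≠ ⊥ := Sylow.ne_bot_of_dvd_card S hpH
  have : Nontrivial (S : Subgroup H) := (Subgroup.nontrivial_iff_ne_bot _).mpr hS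
  have := IsPGroup.center_nontrivial S.isPGroup'
  obtain ⟨⟨z, hz⟩, hz1⟩ := exists_ne (1 : Subgroup.center (S : Subgroup H))
  have hzp : ∃ k : ℕ, (z : H) ^ p ^ k = 1 := by
    obtain ⟨k, hk⟩ := S.isPGroup' z
    exact ⟨k, by have := congrArg Subtype.val hk; simpa using this⟩
  refine ⟨(z : H), ?_, hzp, ?_⟩
  · intro h
    apply hz1
    apply Subtype.ext
    apply Subtype.ext
    simpa using h
  · apply central_of_commute_p_elements p hp.out (z : H) hzp
    intro t ht
    have htS : t ∈ S := p_element_mem_sylow p S t ht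
    have := Subgroup.mem_center_iff.mp hz ⟨t, htS⟩
    have h2 := congrArg Subtype.val this
    simp only [Subgroup.coe_mul] at h2
    exact h2.symm

section CN

variable {G : Type*} [Group G] [Finite G]

/-- hypothesis bundle: `H` is a maximal nilpotent subgroup of the CN-group `G` -/
structure MaxNilp (H : Subgroup G) : Prop where
  cn : ∀ g : G, g ≠ 1 → Group.IsNilpotent (Subgroup.centralizer ({g} : Set G))
  nil : Group.IsNilpotent H
  max : ∀ L : Subgroup G, Group.IsNilpotent L → H ≤ L → L = H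

omit [Finite G] in
theorem MaxNilp.centralizer_eq_of_central {H : Subgroup G} (hM : MaxNilp H) (u : G)
    (hu1 : u ≠ 1) (hc : ∀ h ∈ H, Commute u h) : Subgroup.centralizer ({u} : Set G) = H := by
  apply hM.max _ (hM.cn u hu1)
  intro h hh
  rw [Subgroup.mem_centralizer_iff]
  intro y hy
  rw [Set.mem_singleton_iff] at hy
  subst hy
  exact (hc h hh).eq

theorem MaxNilp.exists_central {H : Subgroup G} (hM : MaxNilp H) (p : ℕ) [Fact p.Prime]
    (hpH : p ∣ Nat.card H) :
    ∃ u : G, u ∈ H ∧ u ≠ 1 ∧ (∃ k : ℕ, u ^ p ^ k = 1) ∧ (∀ h ∈ H, Commute u h) ∧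
      Subgroup.centralizer ({u} : Set G) = H := by
  have := hM.nil
  obtain ⟨⟨u, hu⟩, hu1, ⟨k, hk⟩, hc⟩ := exists_central_p_element (H := H) p hpH
  have hu1' : u ≠ 1 := fun h => hu1 (Subtype.ext h)
  have hc' : ∀ h ∈ H, Commute u h := by
    intro h hh
    have := congrArg Subtype.val (hc ⟨h, hh⟩).eq
    show u * h = h * u
    simpa using this
  refine ⟨u, hu, hu1', ⟨k, by simpa using congrArg Subtype.val hk⟩, hc', ?_⟩
  exact hM.centralizer_eq_of_central u hu1' hc'

/-- a nontrivial `p`-element commuting with all `p`-elements of `H` has centralizer `H` -/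
theorem MaxNilp.centralizer_eq_of_commute {H : Subgroup G} (hM : MaxNilp H) (p : ℕ) [hp : Fact p.Prime]
    (hpH : p ∣ Nat.card H) (w : G) (hw1 : w ≠ 1) (hwp : ∃ k : ℕ, w ^ p ^ k = 1)
    (hc : ∀ t ∈ H, (∃ k : ℕ, t ^ p ^ k = 1) → Commute w t) :
    Subgroup.centralizer ({w} : Set G) = H := by
  obtain ⟨u, hu, hu1, hup, huc, hCu⟩ := hM.exists_central p hpH
  have hwH : w ∈ H := by
    rw [← hCu, Subgroup.mem_centralizer_iff]
    intro y hy
    rw [Set.mem_singleton_iff] at hy
    subst hy
    exact (hc y hu hup).eq.symm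
  apply hM.centralizer_eq_of_central w hw1
  have := hM.nil
  have key := central_of_commute_p_elements (H := H) p hp.out ⟨w, hwH⟩
    (by obtain ⟨k, hk⟩ := hwp; exact ⟨k, Subtype.ext (by simpa using hk)⟩)
    (by
      rintro ⟨t, ht⟩ ⟨k, hk⟩
      have := hc t ht ⟨k, by simpa using congrArg Subtype.val hk⟩
      exact Subtype.ext (by simpa using this.eq))
  intro h hh
  have := congrArg Subtype.val (key ⟨h, hh⟩).eq
  show w * h = h * w
  simpa using this

/-- a maximal nilpotent subgroup of a CN-group is a Hall subgroup -/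
theorem MaxNilp.coprime_index {H : Subgroup G} (hM : MaxNilp H) :
    (Nat.card H).Coprime H.index := by
  apply Nat.coprime_of_dvd
  intro p hp hpH hpI
  have : Fact p.Prime := ⟨hp⟩
  have := hM.nil
  let S : Sylow p H := default
  have hT : IsPGroup p ((S : Subgroup H).map H.subtype) := S.isPGroup'.map _
  obtain ⟨P, hP⟩ := IsPGroup.exists_le_sylow hT
  have hpG : p ∣ Nat.card G := hpH.trans (Subgroup.card_subgroup_dvd_card H)
  have hP1 : (P : Subgroup G) ≠ ⊥ := Sylow.ne_bot_of_dvd_card P hpG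
  have : Nontrivial (P : Subgroup G) := (Subgroup.nontrivial_iff_ne_bot _).mpr hP1
  have := IsPGroup.center_nontrivial P.isPGroup'
  obtain ⟨⟨z, hz⟩, hz1⟩ := exists_ne (1 : Subgroup.center (P : Subgroup G))
  have hzp : ∃ k : ℕ, (z : G) ^ p ^ k = 1 := by
    obtain ⟨k, hk⟩ := P.isPGroup' z
    exact ⟨k, by have := congrArg Subtype.val hk; simpa using this⟩
  have hz1' : (z : G) ≠ 1 := by
    intro h
    apply hz1
    apply Subtype.ext
    apply Subtype.ext
    simpa using h
  have hzc : ∀ t ∈ (P : Subgroup G), Commute (z : G) t := by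
    intro t ht
    have := Subgroup.mem_center_iff.mp hz ⟨t, ht⟩
    have h2 := congrArg Subtype.val this
    simp only [Subgroup.coe_mul] at h2
    exact h2.symm
  have hC : Subgroup.centralizer ({(z : G)} : Set G) = H := by
    apply hM.centralizer_eq_of_commute p hpH (z : G) hz1' hzp
    intro t ht htp
    apply hzc
    apply hP
    have htS : (⟨t, ht⟩ : H) ∈ S := by
      apply p_element_mem_sylow p S
      obtain ⟨k, hk⟩ := htp
      exact ⟨k, Subtype.ext (by simpa using hk)⟩
    exact ⟨⟨t, ht⟩, htS, rfl⟩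
  have hPH : (P : Subgroup G) ≤ H := by
    rw [← hC]
    intro t ht
    rw [Subgroup.mem_centralizer_iff]
    intro y hy
    rw [Set.mem_singleton_iff] at hy
    subst hy
    exact (hzc t ht).eq
  have h1 := Subgroup.relIndex_mul_index hPH
  have h2 : ¬ p ∣ (P : Subgroup G).index := P.not_dvd_index
  apply h2
  rw [← h1]
  exact Dvd.dvd.mul_left hpI _

omit [Finite G] in
theorem isNilpotent_map_conj (L : Subgroup G) (hL : Group.IsNilpotent L) (g : G) :
    Group.IsNilpotent (L.map (MulAut.conj g).toMonoidHom) :=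
  Group.nilpotent_of_surjective ((MulAut.conj g).toMonoidHom.subgroupMap L)
    (MonoidHom.subgroupMap_surjective _ _)

omit [Finite G] in
theorem map_conj_map_conj_inv (L : Subgroup G) (g : G) :
    (L.map (MulAut.conj g⁻¹).toMonoidHom).map (MulAut.conj g).toMonoidHom = L := by
  ext x
  simp only [Subgroup.mem_map, MulEquiv.coe_toMonoidHom, MulAut.conj_apply, exists_exists_and_eq_and]
  constructor
  · rintro ⟨a, ha, rfl⟩
    have : g * (g⁻¹ * a * g⁻¹⁻¹) * g⁻¹ = a := by group
    rw [this]; exact ha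
  · intro hx
    exact ⟨x, hx, by group⟩

omit [Finite G] in
theorem MaxNilp.conj {H : Subgroup G} (hM : MaxNilp H) (g : G) :
    MaxNilp (H.map (MulAut.conj g).toMonoidHom) where
  cn := hM.cn
  nil := isNilpotent_map_conj H hM.nil g
  max := by
    intro L hL hHL
    have h1 : H ≤ L.map (MulAut.conj g⁻¹).toMonoidHom := by
      intro h hh
      refine ⟨g * h * g⁻¹, hHL ⟨h, hh, rfl⟩, ?_⟩
      simp only [MulEquiv.coe_toMonoidHom, MulAut.conj_apply]
      group
    have h2 := hM.max _ (isNilpotent_map_conj L hL g⁻¹) h1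
    rw [← map_conj_map_conj_inv L g, h2]

omit [Finite G] in
theorem card_map_conj (H : Subgroup G) (g : G) :
    Nat.card (H.map (MulAut.conj g).toMonoidHom) = Nat.card H :=
  Subgroup.card_map_of_injective (MulAut.conj g).injective

/-- auxiliary for the TI property -/
theorem MaxNilp.centralizer_eq_aux {H : Subgroup G} (hM : MaxNilp H) (p q : ℕ) [hp : Fact p.Prime]
    [hq : Fact q.Prime] (hpq : q ≠ p) (hqH : q ∣ Nat.card H) (x : G) (hx : x ∈ H) (hxp : x ^ p = 1)
    (w : G) (hw1 : w ≠ 1) (hwq : ∃ k : ℕ, w ^ q ^ k = 1)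
    (hc : ∀ t ∈ Subgroup.centralizer ({x} : Set G), (∃ k : ℕ, t ^ q ^ k = 1) → Commute w t) :
    Subgroup.centralizer ({w} : Set G) = H := by
  apply hM.centralizer_eq_of_commute q hqH w hw1 hwq
  intro t ht htq
  apply hc t _ htq
  have := hM.nil
  have h1 : Commute (⟨x, hx⟩ : H) ⟨t, ht⟩ := by
    apply commute_of_coprime_orderOf
    have h2 : orderOf (⟨x, hx⟩ : H) ∣ p := orderOf_dvd_of_pow_eq_one (Subtype.ext (by simpa using hxp))
    obtain ⟨k, hk⟩ := htq
    have h3 : orderOf (⟨t, ht⟩ : H) ∣ q ^ k := orderOf_dvd_of_pow_eq_one (Subtype.ext (by simpa using hk))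
    apply Nat.Coprime.of_dvd h2 h3
    apply Nat.Coprime.pow_right
    exact (Nat.coprime_primes hp.out hq.out).mpr hpq.symm
  rw [Subgroup.mem_centralizer_iff]
  intro y hy
  rw [Set.mem_singleton_iff] at hy
  subst hy
  have := congrArg Subtype.val h1.eq
  simpa using this

theorem exists_prime_ne_dvd (n : ℕ) (hn0 : n ≠ 0) (hn1 : n ≠ 1) (hn : ¬ IsPrimePow n) (p : ℕ) :
    ∃ q : ℕ, q.Prime ∧ q ≠ p ∧ q ∣ n := by
  by_contra hcon
  push Not at hcon
  have h1 : ∀ {d : ℕ}, d.Prime → d ∣ n → d = p := by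
    intro d hd hdn
    by_contra hne
    exact hcon d hd hne hdn
  have h2 := Nat.eq_prime_pow_of_unique_prime_dvd hn0 h1
  obtain ⟨r, hr, hrn⟩ := Nat.exists_prime_and_dvd hn1
  have hrp : r = p := h1 hr hrn
  apply hn
  rw [h2]
  refine ⟨p, n.primeFactorsList.length, (hrp ▸ hr).prime, ?_, rfl⟩
  rcases Nat.eq_zero_or_pos n.primeFactorsList.length with h0 | h0
  · rw [h0, pow_zero] at h2; exact absurd h2 hn1
  · exact h0

/-- a maximal nilpotent subgroup of a CN-group whose order is not a prime power is a TI-subgroup -/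
theorem MaxNilp.ti_of_not_isPrimePow {H : Subgroup G} (hM : MaxNilp H)
    (hnpp : ¬ IsPrimePow (Nat.card H)) (h1 : Nat.card H ≠ 1) (g : G)
    (hg : H.map (MulAut.conj g).toMonoidHom ≠ H) :
    H ⊓ H.map (MulAut.conj g).toMonoidHom = ⊥ := by
  by_contra hne
  obtain ⟨x0, hx0m, hx0'⟩ := (Subgroup.bot_or_exists_ne_one _).resolve_left hne
  have ho1 : orderOf x0 ≠ 1 := fun h => hx0' (orderOf_eq_one_iff.mp h)
  obtain ⟨p, hp, hpo⟩ := Nat.exists_prime_and_dvd ho1
  have : Fact p.Prime := ⟨hp⟩
  set x := x0 ^ (orderOf x0 / p) with hxdef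
  have hxo : orderOf x = p := orderOf_pow_orderOf_div (orderOf_pos x0).ne' hpo
  have hx1 : x ≠ 1 := by
    intro h
    rw [h, orderOf_one] at hxo
    exact hp.one_lt.ne hxo
  have hxp : x ^ p = 1 := by rw [← hxo]; exact pow_orderOf_eq_one x
  have hxm : x ∈ H ⊓ H.map (MulAut.conj g).toMonoidHom := Subgroup.pow_mem _ hx0m _
  obtain ⟨q, hq, hqp, hqH⟩ := exists_prime_ne_dvd (Nat.card H) Nat.card_pos.ne' h1 hnpp p
  have : Fact q.Prime := ⟨hq⟩
  have hN : Group.IsNilpotent (Subgroup.centralizer ({x} : Set G)) := hM.cn x hx1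
  obtain ⟨u, hu, hu1, ⟨k, hk⟩, huc, -⟩ := hM.exists_central q hqH
  have huN : u ∈ Subgroup.centralizer ({x} : Set G) := by
    rw [Subgroup.mem_centralizer_iff]
    intro y hy
    rw [Set.mem_singleton_iff] at hy
    subst hy
    exact (huc _ hxm.1).eq.symm
  let Q : Sylow q (Subgroup.centralizer ({x} : Set G)) := default
  have huQ : (⟨u, huN⟩ : Subgroup.centralizer ({x} : Set G)) ∈ Q :=
    p_element_mem_sylow q Q _ ⟨k, Subtype.ext (by simpa using hk)⟩
  have hQ1 : (Q : Subgroup (Subgroup.centralizer ({x} : Set G))) ≠ ⊥ := by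
    intro h
    have huQ' : (⟨u, huN⟩ : Subgroup.centralizer ({x} : Set G)) ∈
        (Q : Subgroup (Subgroup.centralizer ({x} : Set G))) := huQ
    rw [h, Subgroup.mem_bot] at huQ'
    exact hu1 (by simpa using congrArg Subtype.val huQ')
  have : Nontrivial (Q : Subgroup (Subgroup.centralizer ({x} : Set G))) :=
    (Subgroup.nontrivial_iff_ne_bot _).mpr hQ1
  have := IsPGroup.center_nontrivial Q.isPGroup'
  obtain ⟨⟨z, hz⟩, hz1⟩ := exists_ne
    (1 : Subgroup.center (Q : Subgroup (Subgroup.centralizer ({x} : Set G))))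
  have hzp : ∃ k : ℕ, ((z : Subgroup.centralizer ({x} : Set G)) : G) ^ q ^ k = 1 := by
    obtain ⟨k, hk⟩ := Q.isPGroup' z
    refine ⟨k, ?_⟩
    have := congrArg Subtype.val (congrArg Subtype.val hk)
    simpa using this
  have hz1' : ((z : Subgroup.centralizer ({x} : Set G)) : G) ≠ 1 := by
    intro h
    apply hz1
    apply Subtype.ext
    apply Subtype.ext
    apply Subtype.ext
    simpa using h
  have hzc : ∀ t ∈ Subgroup.centralizer ({x} : Set G), (∃ k : ℕ, t ^ q ^ k = 1) →
      Commute ((z : Subgroup.centralizer ({x} : Set G)) : G) t := by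
    intro t ht ⟨k, hk⟩
    have htQ : (⟨t, ht⟩ : Subgroup.centralizer ({x} : Set G)) ∈ Q :=
      p_element_mem_sylow q Q _ ⟨k, Subtype.ext (by simpa using hk)⟩
    have := Subgroup.mem_center_iff.mp hz ⟨⟨t, ht⟩, htQ⟩
    have h2 := congrArg Subtype.val (congrArg Subtype.val this)
    simp only [Subgroup.coe_mul] at h2
    exact h2.symm
  have e1 := hM.centralizer_eq_aux p q hqp hqH x hxm.1 hxp _ hz1' hzp hzc
  have e2 := (hM.conj g).centralizer_eq_aux p q hqp (by rw [card_map_conj]; exact hqH) x hxm.2 hxp _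
    hz1' hzp hzc
  exact hg (e2.symm.trans e1)

theorem MaxNilp.mem_of_coprime {H : Subgroup G} (hM : MaxNilp H) (x : G) (hx : x ∈ H) (hx1 : x ≠ 1)
    (p : ℕ) [hp : Fact p.Prime] (hpH : p ∣ Nat.card H) (t : G)
    (ht : t ∈ Subgroup.centralizer ({x} : Set G)) (hto : (orderOf t).Coprime p) : t ∈ H := by
  have hN : Group.IsNilpotent (Subgroup.centralizer ({x} : Set G)) := hM.cn x hx1
  obtain ⟨u, hu, hu1, ⟨k, hk⟩, huc, hCu⟩ := hM.exists_central p hpH
  have huN : u ∈ Subgroup.centralizer ({x} : Set G) := by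
    rw [Subgroup.mem_centralizer_iff]
    intro y hy
    rw [Set.mem_singleton_iff] at hy
    subst hy
    exact (huc _ hx).eq.symm
  have h1 : Commute (⟨t, ht⟩ : Subgroup.centralizer ({x} : Set G)) ⟨u, huN⟩ := by
    apply commute_of_coprime_orderOf
    have h3 : orderOf (⟨u, huN⟩ : Subgroup.centralizer ({x} : Set G)) ∣ p ^ k :=
      orderOf_dvd_of_pow_eq_one (Subtype.ext (by simpa using hk))
    rw [Subgroup.orderOf_mk]
    exact Nat.Coprime.of_dvd_right h3 (Nat.Coprime.pow_right k hto)
  rw [← hCu, Subgroup.mem_centralizer_iff]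
  intro y hy
  rw [Set.mem_singleton_iff] at hy
  subst hy
  have := congrArg Subtype.val h1.eq
  simpa using this.symm

/-- a TI maximal nilpotent subgroup of a CN-group contains the centralizers of its nonidentity
elements -/
theorem MaxNilp.centralizer_le_of_ti {H : Subgroup G} (hM : MaxNilp H)
    (hTI : ∀ g : G, H.map (MulAut.conj g).toMonoidHom ≠ H →
      H ⊓ H.map (MulAut.conj g).toMonoidHom = ⊥)
    (x : G) (hx : x ∈ H) (hx1 : x ≠ 1) : Subgroup.centralizer ({x} : Set G) ≤ H := by
  have hN : Group.IsNilpotent (Subgroup.centralizer ({x} : Set G)) := hM.cn x hx1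
  have hH1 : Nat.card H ≠ 1 := by
    intro h
    have := Subgroup.eq_bot_of_card_eq H h
    rw [this, Subgroup.mem_bot] at hx
    exact hx1 hx
  obtain ⟨p, hp, hpH⟩ := Nat.exists_prime_and_dvd hH1
  have : Fact p.Prime := ⟨hp⟩
  by_cases hq : ∃ q : ℕ, q.Prime ∧ q ≠ p ∧ q ∣ Nat.card H
  · obtain ⟨q, hq, hqp, hqH⟩ := hq
    have : Fact q.Prime := ⟨hq⟩
    intro y hy
    obtain ⟨u, v, hu, hv, hy', ⟨k, hk⟩, hvo⟩ := exists_p_parts p hp y (orderOf_pos y)
    have hle : Subgroup.zpowers y ≤ Subgroup.centralizer ({x} : Set G) :=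
      (Subgroup.zpowers_le).mpr hy
    rw [hy']
    apply Subgroup.mul_mem
    · apply hM.mem_of_coprime x hx hx1 q hqH u (hle hu)
      have h3 : orderOf u ∣ p ^ k := orderOf_dvd_of_pow_eq_one hk
      apply Nat.Coprime.of_dvd_left h3
      apply Nat.Coprime.pow_left
      exact (Nat.coprime_primes hp hq).mpr hqp.symm
    · exact hM.mem_of_coprime x hx hx1 p hpH v (hle hv) hvo
  · push Not at hq
    have h1 : ∀ {d : ℕ}, d.Prime → d ∣ Nat.card H → d = p := by
      intro d hd hdn
      by_contra hne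
      exact hq d hd hne hdn
    have h2 := Nat.eq_prime_pow_of_unique_prime_dvd Nat.card_pos.ne' h1
    have hHp : IsPGroup p H := IsPGroup.of_card h2
    have hNp : IsPGroup p (Subgroup.centralizer ({x} : Set G)) := by
      rintro ⟨y, hy⟩
      obtain ⟨u, v, hu, hv, hy', ⟨k, hk⟩, hvo⟩ := exists_p_parts p hp y (orderOf_pos y)
      have hle : Subgroup.zpowers y ≤ Subgroup.centralizer ({x} : Set G) :=
        (Subgroup.zpowers_le).mpr hy
      have hvH : v ∈ H := hM.mem_of_coprime x hx hx1 p hpH v (hle hv) hvo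
      have hv1 : v = 1 := by
        have h3 : orderOf v ∣ Nat.card H := Subgroup.orderOf_dvd_natCard H hvH
        rw [h2] at h3
        have h4 : orderOf v = 1 :=
          Nat.Coprime.eq_one_of_dvd (Nat.Coprime.pow_right _ hvo) h3
        exact orderOf_eq_one_iff.mp h4
      refine ⟨k, Subtype.ext ?_⟩
      simp only [Subgroup.coe_pow, Subgroup.coe_one]
      rw [hy', hv1, mul_one, hk]
    have hnorm : Subgroup.centralizer ({x} : Set G) ≤ Subgroup.normalizer (H : Set G) := by
      intro y hy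
      have hyx : y * x * y⁻¹ = x := by
        have := (Subgroup.mem_centralizer_iff.mp hy) x (Set.mem_singleton x)
        rw [← this]; group
      have hHy : H.map (MulAut.conj y).toMonoidHom = H := by
        by_contra hne
        have h3 := hTI y hne
        have h4 : x ∈ H ⊓ H.map (MulAut.conj y).toMonoidHom :=
          ⟨hx, ⟨x, hx, by simpa using hyx⟩⟩
        rw [h3, Subgroup.mem_bot] at h4
        exact hx1 h4
      rw [Subgroup.mem_normalizer_iff]
      intro h
      constructor
      · intro hh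
        rw [← hHy]
        exact ⟨h, hh, rfl⟩
      · intro hh
        rw [← hHy] at hh
        obtain ⟨h', hh', e⟩ := hh
        simp only [MulEquiv.coe_toMonoidHom, MulAut.conj_apply] at e
        have : h' = h := by
          have := congrArg (fun t => y⁻¹ * t * y) e
          beta_reduce at this
          rw [show y⁻¹ * (y * h' * y⁻¹) * y = h' by group,
            show y⁻¹ * (y * h * y⁻¹) * y = h by group] at this
          exact this
        rw [← this]; exact hh'
    have hsup : IsPGroup p (Subgroup.centralizer ({x} : Set G) ⊔ H : Subgroup G) :=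
      IsPGroup.to_sup_of_normal_right' hNp hHp hnorm
    have hnil : Group.IsNilpotent (Subgroup.centralizer ({x} : Set G) ⊔ H : Subgroup G) :=
      hsup.isNilpotent
    have := hM.max _ hnil le_sup_right
    rw [← this]
    exact le_sup_left

end CN

end Cfsg.Agent.Lib.Helper11
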