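import Mathlib

set_option autoImplicit false

namespace Cfsg.Agent.Lib.Helper11

theorem mul_pow_eq_left {G : Type*} [Group G] (a u : G) (hau : a * u = u * a) (k n m : ℕ)
    (hak : a ^ k = 1) (hun : u ^ n = 1) (hmk : m ≡ 1 [MOD k]) (hmn : m ≡ 0 [MOD n]) :
    (a * u) ^ m = a := by
  have hc : Commute a u := hau
  rw [hc.mul_pow]
  have h1 : a ^ m = a ^ 1 :=
    pow_eq_pow_iff_modEq.mpr (hmk.of_dvd (orderOf_dvd_of_pow_eq_one hak))
  have h2 : u ^ m = u ^ 0 :=
    pow_eq_pow_iff_modEq.mpr (hmn.of_dvd (orderOf_dvd_of_pow_eq_one hun))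
  rw [h1, h2]
  simp

/-- for coprime `k`, `n` there is a uniform exponent extracting the `k`-part of a commuting product -/
theorem exists_exponent_left (k n : ℕ) (hkn : Nat.Coprime k n) :
    ∃ m : ℕ, ∀ {G : Type*} [Group G] (a u : G), a * u = u * a → a ^ k = 1 → u ^ n = 1 →
      (a * u) ^ m = a := by
  obtain ⟨m, hmk, hmn⟩ := Nat.chineseRemainder hkn 1 0
  exact ⟨m, fun a u hau hak hun => mul_pow_eq_left a u hau k n m hak hun hmk hmn⟩

theorem pow_card_subgroup_eq_one {G : Type*} [Group G] (H : Subgroup G) (x : G) (hx : x ∈ H) :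
    x ^ Nat.card H = 1 :=
  orderOf_dvd_iff_pow_eq_one.mp (Subgroup.orderOf_dvd_natCard H hx)

end Cfsg.Agent.Lib.Helper11
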