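import Mathlib
import Cfsg.Agent.Lib.Helper11.NilpCoprime
import Cfsg.Agent.Lib.Helper11.CNMax
import Cfsg.Agent.Lib.Helper11.PowerParts

set_option autoImplicit false

namespace Cfsg.Agent.Lib.Helper11

/-- the subgroup of elements whose conjugation preserves the coset `b V` -/
def cosetStab {G : Type*} [Group G] (V : Subgroup G) (b : G) : Subgroup G where
  carrier := {z | ∀ x, b⁻¹ * x ∈ V ↔ b⁻¹ * (z * x * z⁻¹) ∈ V}
  one_mem' := by intro x; simp
  mul_mem' := by
    intro z w hz hw x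
    rw [hw x, hz (w * x * w⁻¹)]
    have : z * (w * x * w⁻¹) * z⁻¹ = z * w * x * (z * w)⁻¹ := by group
    rw [this]
  inv_mem' := by
    intro z hz x
    rw [hz (z⁻¹ * x * z⁻¹⁻¹)]
    have : z * (z⁻¹ * x * z⁻¹⁻¹) * z⁻¹ = x := by group
    rw [this]

theorem mem_cosetStab {G : Type*} [Group G] (V : Subgroup G) (a b : G)
    (haV : a ∈ Subgroup.normalizer (V : Set G)) (hab : b⁻¹ * (a * b * a⁻¹) ∈ V) :
    a ∈ cosetStab V b := by
  intro x
  have e : b⁻¹ * (a * x * a⁻¹) = (b⁻¹ * (a * b * a⁻¹)) * (a * (b⁻¹ * x) * a⁻¹) := by group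
  rw [e, Subgroup.mul_mem_cancel_left V hab]
  exact (Subgroup.mem_normalizer_iff.mp haV) (b⁻¹ * x)

/-- coprime action: an `r`-element `a` normalizing `V` (`r ∤ |V|`) and fixing the coset `b V`
under conjugation centralizes some element of `b V` -/
theorem exists_fixed_in_coset {G : Type*} [Group G] (V : Subgroup G) [Finite V] (r : ℕ)
    [Fact r.Prime] (hr : ¬ r ∣ Nat.card V) (a b : G) (ha : ∃ j : ℕ, a ^ r ^ j = 1)
    (haV : a ∈ Subgroup.normalizer (V : Set G)) (hab : b⁻¹ * (a * b * a⁻¹) ∈ V) :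
    ∃ v ∈ V, a * (b * v) * a⁻¹ = b * v := by
  have hle : Subgroup.zpowers a ≤ cosetStab V b :=
    (Subgroup.zpowers_le).mpr (mem_cosetStab V a b haV hab)
  let Ω := {x : G // b⁻¹ * x ∈ V}
  let _ : MulAction (Subgroup.zpowers a) Ω :=
    { smul := fun z x => ⟨(z : G) * x.1 * (z : G)⁻¹, (hle z.2 x.1).mp x.2⟩
      one_smul := fun x => Subtype.ext (by show ((1 : Subgroup.zpowers a) : G) * x.1 * ((1 : Subgroup.zpowers a) : G)⁻¹ = x.1; simp)
      mul_smul := fun z w x => Subtype.ext (by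
        show ((z * w : Subgroup.zpowers a) : G) * x.1 * ((z * w : Subgroup.zpowers a) : G)⁻¹ =
          (z : G) * ((w : G) * x.1 * (w : G)⁻¹) * (z : G)⁻¹
        simp only [Subgroup.coe_mul]; group) }
  have hsmul : ∀ (z : Subgroup.zpowers a) (x : Ω), ((z • x : Ω) : G) = (z : G) * x.1 * (z : G)⁻¹ :=
    fun _ _ => rfl
  have hcard : Nat.card Ω = Nat.card V := by
    apply Nat.card_congr
    exact
      { toFun := fun x => ⟨b⁻¹ * x.1, x.2⟩
        invFun := fun v => ⟨b * v.1, by simp⟩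
        left_inv := fun x => Subtype.ext (by simp)
        right_inv := fun v => Subtype.ext (by simp) }
  have hP : IsPGroup r (Subgroup.zpowers a) := isPGroup_zpowers_of_pow r a ha
  obtain ⟨x, hx⟩ := hP.nonempty_fixed_point_of_prime_not_dvd_card Ω (by rw [hcard]; exact hr)
  refine ⟨b⁻¹ * x.1, x.2, ?_⟩
  have h1 := hx ⟨a, Subgroup.mem_zpowers a⟩
  have h2 := congrArg Subtype.val h1
  rw [hsmul] at h2
  simp only at h2
  rw [mul_inv_cancel_left]
  exact h2

/-- a `p`-element normalizing a nontrivial finite `p`-subgroup centralizes a nonidentity element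
of it -/
theorem exists_fixed_in_pgroup {G : Type*} [Group G] (V : Subgroup G) [Finite V] (p : ℕ)
    [Fact p.Prime] (hV : IsPGroup p V) (hV1 : V ≠ ⊥) (t : G) (ht : ∃ j : ℕ, t ^ p ^ j = 1)
    (htV : t ∈ Subgroup.normalizer (V : Set G)) :
    ∃ v ∈ V, v ≠ 1 ∧ t * v = v * t := by
  have hle : Subgroup.zpowers t ≤ Subgroup.normalizer (V : Set G) := (Subgroup.zpowers_le).mpr htV
  let _ : MulAction (Subgroup.zpowers t) V :=
    { smul := fun z x => ⟨(z : G) * x.1 * (z : G)⁻¹,
        ((Subgroup.mem_normalizer_iff.mp (hle z.2)) x.1).mp x.2⟩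
      one_smul := fun x => Subtype.ext (by show ((1 : Subgroup.zpowers t) : G) * x.1 * ((1 : Subgroup.zpowers t) : G)⁻¹ = x.1; simp)
      mul_smul := fun z w x => Subtype.ext (by
        show ((z * w : Subgroup.zpowers t) : G) * x.1 * ((z * w : Subgroup.zpowers t) : G)⁻¹ =
          (z : G) * ((w : G) * x.1 * (w : G)⁻¹) * (z : G)⁻¹
        simp only [Subgroup.coe_mul]; group) }
  have hsmul : ∀ (z : Subgroup.zpowers t) (x : V), ((z • x : V) : G) = (z : G) * x.1 * (z : G)⁻¹ :=
    fun _ _ => rfl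
  have hP : IsPGroup p (Subgroup.zpowers t) := isPGroup_zpowers_of_pow p t ht
  have hpV : p ∣ Nat.card V := by
    have : Nontrivial V := (Subgroup.nontrivial_iff_ne_bot _).mpr hV1
    obtain ⟨n, hn0, hn⟩ := hV.nontrivial_iff_card.mp this
    rw [hn]
    exact dvd_pow_self p hn0.ne'
  have h1 : (1 : V) ∈ MulAction.fixedPoints (Subgroup.zpowers t) V := by
    intro z
    apply Subtype.ext
    rw [hsmul]
    simp
  obtain ⟨v, hv, hv1⟩ := hP.exists_fixed_point_of_prime_dvd_card_of_fixed_point V hpV h1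
  refine ⟨v.1, v.2, ?_, ?_⟩
  · intro h
    apply hv1
    apply Subtype.ext
    simpa using h.symm
  · have h2 := congrArg Subtype.val (hv ⟨t, Subgroup.mem_zpowers t⟩)
    rw [hsmul] at h2
    simp only at h2
    calc t * v.1 = (t * v.1 * t⁻¹) * t := by group
      _ = v.1 * t := by rw [h2]

theorem isNilpotent_of_le' {Q : Type*} [Group Q] {K L : Subgroup Q} (h : K ≤ L)
    (hL : Group.IsNilpotent L) : Group.IsNilpotent K := by
  have h1 : Group.IsNilpotent (K.subgroupOf L) := inferInstance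
  exact (Group.isNilpotent_congr (Subgroup.subgroupOfEquivOfLe h)).mp h1

theorem isNilpotent_map' {Q R : Type*} [Group Q] [Group R] (f : Q →* R) (K : Subgroup Q)
    (hK : Group.IsNilpotent K) : Group.IsNilpotent (K.map f) :=
  Group.nilpotent_of_surjective (f.subgroupMap K) (MonoidHom.subgroupMap_surjective _ _)

/-- lift an element of `r`-power order of `G ⧸ V` to one of `G` when `r ∤ |V|` -/
theorem exists_lift_pow {G : Type*} [Group G] (V : Subgroup G) [V.Normal] [Finite V] (n : ℕ)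
    (hn : n.Coprime (Nat.card V)) (y : G ⧸ V) (hy : y ^ n = 1) :
    ∃ x : G, (x : G ⧸ V) = y ∧ x ^ n = 1 := by
  obtain ⟨x0, rfl⟩ := QuotientGroup.mk_surjective y
  have h1 : x0 ^ n ∈ V := by
    rw [← QuotientGroup.eq_one_iff, QuotientGroup.mk_pow]; exact hy
  have h2 : (x0 ^ n) ^ Nat.card V = 1 := pow_card_subgroup_eq_one V _ h1
  obtain ⟨m, hm1, hm2⟩ := Nat.chineseRemainder hn 1 0
  refine ⟨x0 ^ m, ?_, ?_⟩
  · rw [QuotientGroup.mk_pow]
    have : m ≡ 1 [MOD orderOf (x0 : G ⧸ V)] := hm1.of_dvd (orderOf_dvd_of_pow_eq_one hy)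
    rw [pow_eq_pow_iff_modEq.mpr this, pow_one]
  · obtain ⟨c, hc⟩ := (Nat.modEq_zero_iff_dvd).mp hm2
    rw [← pow_mul, mul_comm, pow_mul, hc, pow_mul, h2, one_pow]

/-- a finite group in which elements of distinct prime power orders commute is nilpotent -/
theorem isNilpotent_of_commute_prime_elements {X : Type*} [Group X] [Finite X]
    (h : ∀ s t : ℕ, s.Prime → t.Prime → s ≠ t → ∀ a b : X, (∃ i : ℕ, a ^ s ^ i = 1) →
      (∃ j : ℕ, b ^ t ^ j = 1) → Commute a b) : Group.IsNilpotent X := by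
  apply (Group.isNilpotent_of_finite_tfae (G := X)).out 3 0 |>.mp
  intro p hp P
  rw [← Subgroup.normalizer_eq_top_iff, ← Subgroup.index_eq_one]
  by_contra hne
  obtain ⟨t, ht, htN⟩ := Nat.exists_prime_and_dvd hne
  have : Fact t.Prime := ⟨ht⟩
  by_cases htp : t = p
  · subst htp
    have h1 : (Subgroup.normalizer ((P : Subgroup X) : Set X)).index ∣ (P : Subgroup X).index :=
      Subgroup.index_dvd_of_le Subgroup.le_normalizer
    exact P.not_dvd_index (htN.trans h1)
  · let T : Sylow t X := default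
    have hT : (T : Subgroup X) ≤ Subgroup.normalizer ((P : Subgroup X) : Set X) := by
      intro b hb
      apply Subgroup.centralizer_le_normalizer
      rw [Subgroup.mem_centralizer_iff]
      intro a ha
      have hbt : ∃ j : ℕ, b ^ t ^ j = 1 := by
        obtain ⟨j, hj⟩ := T.isPGroup' ⟨b, hb⟩
        exact ⟨j, by simpa using congrArg Subtype.val hj⟩
      have hap : ∃ i : ℕ, a ^ p ^ i = 1 := by
        obtain ⟨i, hi⟩ := P.isPGroup' ⟨a, ha⟩
        exact ⟨i, by simpa using congrArg Subtype.val hi⟩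
      exact (h p t hp.out ht (Ne.symm htp) a b hap hbt).eq
    have h1 := Subgroup.index_dvd_of_le hT
    exact T.not_dvd_index (htN.trans h1)

theorem isNilpotent_subgroup_of_commute {Q : Type*} [Group Q] [Finite Q] (X : Subgroup Q)
    (h : ∀ s t : ℕ, s.Prime → t.Prime → s ≠ t → ∀ a ∈ X, ∀ b ∈ X, (∃ i : ℕ, a ^ s ^ i = 1) →
      (∃ j : ℕ, b ^ t ^ j = 1) → a * b = b * a) : Group.IsNilpotent X := by
  apply isNilpotent_of_commute_prime_elements
  rintro s t hs ht hst ⟨a, ha⟩ ⟨b, hb⟩ ⟨i, hi⟩ ⟨j, hj⟩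
  apply Subtype.ext
  simp only [Subgroup.coe_mul]
  exact h s t hs ht hst a ha b hb ⟨i, by simpa using congrArg Subtype.val hi⟩
    ⟨j, by simpa using congrArg Subtype.val hj⟩

theorem coprime_orderOf_of_pow {Q : Type*} [Group Q] (s t : ℕ) (hs : s.Prime) (ht : t.Prime)
    (hst : s ≠ t) (a b : Q) (ha : ∃ i : ℕ, a ^ s ^ i = 1) (hb : ∃ j : ℕ, b ^ t ^ j = 1) :
    (orderOf a).Coprime (orderOf b) := by
  obtain ⟨i, hi⟩ := ha
  obtain ⟨j, hj⟩ := hb
  apply Nat.Coprime.of_dvd (orderOf_dvd_of_pow_eq_one hi) (orderOf_dvd_of_pow_eq_one hj)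
  apply Nat.Coprime.pow
  exact (Nat.coprime_primes hs ht).mpr hst

theorem mem_normalizer_of_normal {Q : Type*} [Group Q] (V : Subgroup Q) [hV : V.Normal] (x : Q) :
    x ∈ Subgroup.normalizer (V : Set Q) := by
  rw [Subgroup.mem_normalizer_iff]
  intro h
  constructor
  · intro hh; exact hV.conj_mem h hh x
  · intro hh
    have := hV.conj_mem _ hh x⁻¹
    have e : x⁻¹ * (x * h * x⁻¹) * x⁻¹⁻¹ = h := by group
    rwa [e] at this

section Main

variable {G : Type*} [Group G] [Finite G]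

omit [Finite G] in
theorem commute_of_mem_centralizer
    (hCN : ∀ g : G, g ≠ 1 → Group.IsNilpotent (Subgroup.centralizer ({g} : Set G)))
    (c : G) (hc : c ≠ 1) (a b : G) (ha : a * c = c * a) (hb : b * c = c * b)
    (hab : (orderOf a).Coprime (orderOf b)) : a * b = b * a := by
  have hN := hCN c hc
  have haN : a ∈ Subgroup.centralizer ({c} : Set G) := by
    rw [Subgroup.mem_centralizer_iff]
    intro y hy
    rw [Set.mem_singleton_iff] at hy
    subst hy
    exact ha.symm
  have hbN : b ∈ Subgroup.centralizer ({c} : Set G) := by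
    rw [Subgroup.mem_centralizer_iff]
    intro y hy
    rw [Set.mem_singleton_iff] at hy
    subst hy
    exact hb.symm
  have h1 : Commute (⟨a, haN⟩ : Subgroup.centralizer ({c} : Set G)) ⟨b, hbN⟩ := by
    apply commute_of_coprime_orderOf
    rw [Subgroup.orderOf_mk, Subgroup.orderOf_mk]
    exact hab
  have := congrArg Subtype.val h1.eq
  simpa using this

omit [Finite G] in
theorem pow_eq_one_of_quotient_pow {V : Subgroup G} [V.Normal] (p : ℕ) (a : ℕ)
    (hcard : Nat.card V = p ^ a) (x : G) (i : ℕ) (hx : (x : G ⧸ V) ^ p ^ i = 1) :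
    x ^ p ^ (i + a) = 1 := by
  have h1 : x ^ p ^ i ∈ V := by
    rw [← QuotientGroup.eq_one_iff, QuotientGroup.mk_pow]; exact hx
  have h2 := pow_card_subgroup_eq_one V _ h1
  rw [hcard, ← pow_mul, ← pow_add] at h2
  exact h2

/-- a `t`-element of `G ⧸ V` commuting with a nontrivial `p`-element lifts to a `t`-element
centralizing `V` -/
theorem exists_lift_centralizing
    (hCN : ∀ g : G, g ≠ 1 → Group.IsNilpotent (Subgroup.centralizer ({g} : Set G)))
    (V : Subgroup G) [V.Normal] (p : ℕ) [hp : Fact p.Prime] (hVp : IsPGroup p V) (hV1 : V ≠ ⊥)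
    (hVab : ∀ a ∈ V, ∀ b ∈ V, a * b = b * a) (y : G ⧸ V) (hy1 : y ≠ 1)
    (hyp : ∃ i : ℕ, y ^ p ^ i = 1) (t : ℕ) (ht : t.Prime) (htp : t ≠ p) (b' : G ⧸ V)
    (hb' : ∃ j : ℕ, b' ^ t ^ j = 1) (hcomm : b' * y = y * b') :
    ∃ k : G, (k : G ⧸ V) = b' ∧ (∃ j : ℕ, k ^ t ^ j = 1) ∧ ∀ v ∈ V, k * v = v * k := by
  have : Fact t.Prime := ⟨ht⟩
  obtain ⟨a, hcard⟩ := (IsPGroup.iff_card).mp hVp
  obtain ⟨j, hj⟩ := hb'
  obtain ⟨i, hi⟩ := hyp
  have hcop : (t ^ j).Coprime (Nat.card V) := by
    rw [hcard]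
    apply Nat.Coprime.pow
    exact (Nat.coprime_primes ht hp.out).mpr htp
  have hnd : ¬ t ∣ Nat.card V := by
    rw [hcard]
    intro h
    exact htp ((Nat.prime_dvd_prime_iff_eq ht hp.out).mp (ht.dvd_of_dvd_pow h))
  obtain ⟨k, hk, hkt⟩ := exists_lift_pow V (t ^ j) hcop b' hj
  obtain ⟨g0, hg0⟩ := QuotientGroup.mk_surjective y
  have hab : g0⁻¹ * (k * g0 * k⁻¹) ∈ V := by
    rw [← QuotientGroup.eq_one_iff]
    simp only [QuotientGroup.mk_mul, QuotientGroup.mk_inv, hk, hg0]
    rw [hcomm]; group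
  obtain ⟨v, hv, hfix⟩ := exists_fixed_in_coset V t hnd k g0 ⟨j, hkt⟩
    (mem_normalizer_of_normal V k) hab
  set g' := g0 * v with hg'
  have hg'y : (g' : G ⧸ V) = y := by
    rw [hg', QuotientGroup.mk_mul_of_mem g0 hv, hg0]
  have hg'1 : g' ≠ 1 := by
    intro h
    apply hy1
    rw [← hg'y, h]; rfl
  have hg'p : g' ^ p ^ (i + a) = 1 := by
    apply pow_eq_one_of_quotient_pow p a hcard g' i
    rw [hg'y]; exact hi
  obtain ⟨v0, hv0, hv01, hc0⟩ := exists_fixed_in_pgroup V p hVp hV1 g' ⟨i + a, hg'p⟩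
    (mem_normalizer_of_normal V g')
  have hVpow : ∀ v ∈ V, ∃ l : ℕ, v ^ p ^ l = 1 := by
    intro v hv
    refine ⟨a, ?_⟩
    rw [← hcard]; exact pow_card_subgroup_eq_one V v hv
  have hkg' : k * g' = g' * k := by
    calc k * g' = (k * g' * k⁻¹) * k := by group
      _ = g' * k := by rw [hfix]
  have hkv0 : k * v0 = v0 * k := by
    apply commute_of_mem_centralizer hCN g' hg'1 k v0 hkg' hc0.symm
    exact coprime_orderOf_of_pow t p ht hp.out htp k v0 ⟨j, hkt⟩ (hVpow v0 hv0)
  refine ⟨k, hk, ⟨j, hkt⟩, ?_⟩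
  intro v hv
  apply commute_of_mem_centralizer hCN v0 hv01 k v hkv0 (hVab v hv v0 hv0)
  exact coprime_orderOf_of_pow t p ht hp.out htp k v ⟨j, hkt⟩ (hVpow v hv)

theorem mem_centralizer_singleton_iff {Q : Type*} [Group Q] (c x : Q) :
    x ∈ Subgroup.centralizer ({c} : Set Q) ↔ x * c = c * x := by
  rw [Subgroup.mem_centralizer_iff]
  constructor
  · intro h; exact (h c (Set.mem_singleton c)).symm
  · intro h y hy
    rw [Set.mem_singleton_iff] at hy
    subst hy
    exact h.symm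

/-- the quotient of a CN-group by a nontrivial abelian normal `p`-subgroup is a CN-group -/
theorem cn_quotient_abelian_pgroup
    (hCN : ∀ g : G, g ≠ 1 → Group.IsNilpotent (Subgroup.centralizer ({g} : Set G)))
    (V : Subgroup G) [V.Normal] (p : ℕ) [hp : Fact p.Prime] (hVp : IsPGroup p V) (hV1 : V ≠ ⊥)
    (hVab : ∀ a ∈ V, ∀ b ∈ V, a * b = b * a) (y : G ⧸ V) (hy1 : y ≠ 1) :
    Group.IsNilpotent (Subgroup.centralizer ({y} : Set (G ⧸ V))) := by
  obtain ⟨a, hcard⟩ := (IsPGroup.iff_card).mp hVp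
  have ho1 : orderOf y ≠ 1 := fun h => hy1 (orderOf_eq_one_iff.mp h)
  obtain ⟨r, hr, hro⟩ := Nat.exists_prime_and_dvd ho1
  have : Fact r.Prime := ⟨hr⟩
  set y' := y ^ (orderOf y / r) with hy'def
  have hy'o : orderOf y' = r := orderOf_pow_orderOf_div (orderOf_pos y).ne' hro
  have hy'1 : y' ≠ 1 := by
    intro h
    rw [h, orderOf_one] at hy'o
    exact hr.one_lt.ne hy'o
  have hy'r : y' ^ r = 1 := by rw [← hy'o]; exact pow_orderOf_eq_one y'
  have hle : Subgroup.centralizer ({y} : Set (G ⧸ V)) ≤ Subgroup.centralizer ({y'} : Set (G ⧸ V)) := by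
    intro x hx
    rw [mem_centralizer_singleton_iff] at hx ⊢
    have hc : Commute x y := hx
    exact (hc.pow_right _).eq
  apply isNilpotent_of_le' hle
  by_cases hrp : r = p
  · -- the `p`-case
    subst hrp
    apply isNilpotent_subgroup_of_commute
    intro s t hs ht hst x hx z hz hxs hzt
    rw [mem_centralizer_singleton_iff] at hx hz
    have hy'p : ∃ i : ℕ, y' ^ r ^ i = 1 := ⟨1, by rw [pow_one]; exact hy'r⟩
    obtain ⟨v0, hv0, hv01⟩ := (Subgroup.bot_or_exists_ne_one V).resolve_left hV1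
    have hVpow : ∀ v ∈ V, ∃ l : ℕ, v ^ r ^ l = 1 := by
      intro v hv
      refine ⟨a, ?_⟩
      rw [← hcard]; exact pow_card_subgroup_eq_one V v hv
    -- key: a `p`-element and a liftable `t`-element commute
    have key : ∀ (t : ℕ), t.Prime → t ≠ r → ∀ x z : G ⧸ V, (∃ i : ℕ, x ^ r ^ i = 1) →
        (∃ j : ℕ, z ^ t ^ j = 1) → z * y' = y' * z → x * z = z * x := by
      intro t ht htr x z ⟨i, hi⟩ hzt hz
      obtain ⟨k, hk, hkt, hkV⟩ := exists_lift_centralizing hCN V r hVp hV1 hVab y' hy'1 hy'p t ht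
        htr z hzt hz
      obtain ⟨t0, ht0⟩ := QuotientGroup.mk_surjective x
      have ht0p : t0 ^ r ^ (i + a) = 1 := by
        apply pow_eq_one_of_quotient_pow r a hcard t0 i
        rw [ht0]; exact hi
      obtain ⟨v1, hv1, hv11, hc1⟩ := exists_fixed_in_pgroup V r hVp hV1 t0 ⟨i + a, ht0p⟩
        (mem_normalizer_of_normal V t0)
      have h1 : t0 * k = k * t0 := by
        apply commute_of_mem_centralizer hCN v1 hv11 t0 k hc1 (hkV v1 hv1)
        exact coprime_orderOf_of_pow r t hp.out ht htr.symm t0 k ⟨i + a, ht0p⟩ hkt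
      have := congrArg (fun u : G => (u : G ⧸ V)) h1
      simp only [QuotientGroup.mk_mul, ht0, hk] at this
      exact this
    by_cases hsr : s = r
    · subst hsr
      exact key t ht (Ne.symm hst) x z hxs hzt hz
    · by_cases htr : t = r
      · subst htr
        exact (key s hs hsr z x hzt hxs hx).symm
      · obtain ⟨k1, hk1, hk1s, hk1V⟩ := exists_lift_centralizing hCN V r hVp hV1 hVab y' hy'1 hy'p
          s hs hsr x hxs hx
        obtain ⟨k2, hk2, hk2t, hk2V⟩ := exists_lift_centralizing hCN V r hVp hV1 hVab y' hy'1 hy'p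
          t ht htr z hzt hz
        have h1 : k1 * k2 = k2 * k1 := by
          apply commute_of_mem_centralizer hCN v0 hv01 k1 k2 (hk1V v0 hv0) (hk2V v0 hv0)
          exact coprime_orderOf_of_pow s t hs ht hst k1 k2 hk1s hk2t
        have := congrArg (fun u : G => (u : G ⧸ V)) h1
        simp only [QuotientGroup.mk_mul, hk1, hk2] at this
        exact this
  · -- the coprime case
    have hcop : r.Coprime (Nat.card V) := by
      rw [hcard]
      apply Nat.Coprime.pow_right
      exact (Nat.coprime_primes hr hp.out).mpr hrp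
    have hnd : ¬ r ∣ Nat.card V := by
      rw [hcard]
      intro h
      exact hrp ((Nat.prime_dvd_prime_iff_eq hr hp.out).mp (hr.dvd_of_dvd_pow h))
    obtain ⟨g, hg, hgr⟩ := exists_lift_pow V r hcop y' hy'r
    have hg1 : g ≠ 1 := by
      intro h
      apply hy'1
      rw [← hg, h]; rfl
    have hN := hCN g hg1
    have hle2 : Subgroup.centralizer ({y'} : Set (G ⧸ V)) ≤
        (Subgroup.centralizer ({g} : Set G)).map (QuotientGroup.mk' V) := by
      intro k' hk'
      rw [mem_centralizer_singleton_iff] at hk'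
      obtain ⟨k0, hk0⟩ := QuotientGroup.mk_surjective k'
      have hab : k0⁻¹ * (g * k0 * g⁻¹) ∈ V := by
        rw [← QuotientGroup.eq_one_iff]
        simp only [QuotientGroup.mk_mul, QuotientGroup.mk_inv, hk0, hg]
        rw [← hk']; group
      obtain ⟨v, hv, hfix⟩ := exists_fixed_in_coset V r hnd g k0 ⟨1, by rw [pow_one]; exact hgr⟩
        (mem_normalizer_of_normal V g) hab
      refine ⟨k0 * v, ?_, ?_⟩
      · rw [SetLike.mem_coe, mem_centralizer_singleton_iff]
        calc k0 * v * g = (g * (k0 * v) * g⁻¹)* g := by rw [hfix]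
          _ = g * (k0 * v) := by group
      · rw [QuotientGroup.mk'_apply, QuotientGroup.mk_mul_of_mem k0 hv, hk0]
    exact isNilpotent_of_le' hle2 (isNilpotent_map' _ _ hN)

end Main

/-- the `p`-part of an abelian subgroup -/
def pPart {G : Type*} [Group G] (A : Subgroup G) (hA : ∀ a ∈ A, ∀ b ∈ A, a * b = b * a) (p : ℕ) :
    Subgroup G where
  carrier := {x | x ∈ A ∧ ∃ k : ℕ, x ^ p ^ k = 1}
  one_mem' := ⟨A.one_mem, 0, by simp⟩
  mul_mem' := by
    rintro x y ⟨hx, k, hk⟩ ⟨hy, l, hl⟩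
    refine ⟨A.mul_mem hx hy, k + l, ?_⟩
    have hc : Commute x y := hA x hx y hy
    rw [hc.mul_pow, pow_add, pow_mul, hk, one_pow, one_mul, mul_comm (p ^ k), pow_mul, hl, one_pow]
  inv_mem' := by
    rintro x ⟨hx, k, hk⟩
    exact ⟨A.inv_mem hx, k, by rw [inv_pow, hk, inv_one]⟩

theorem pPart_le {G : Type*} [Group G] (A : Subgroup G) (hA : ∀ a ∈ A, ∀ b ∈ A, a * b = b * a)
    (p : ℕ) : pPart A hA p ≤ A := fun _ hx => hx.1

theorem pPart_normal {G : Type*} [Group G] (A : Subgroup G) [hAn : A.Normal]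
    (hA : ∀ a ∈ A, ∀ b ∈ A, a * b = b * a) (p : ℕ) : (pPart A hA p).Normal := by
  constructor
  rintro x ⟨hx, k, hk⟩ g
  refine ⟨hAn.conj_mem x hx g, k, ?_⟩
  rw [conj_pow, hk]; group

theorem pPart_isPGroup {G : Type*} [Group G] (A : Subgroup G)
    (hA : ∀ a ∈ A, ∀ b ∈ A, a * b = b * a) (p : ℕ) : IsPGroup p (pPart A hA p) := by
  rintro ⟨x, hx, k, hk⟩
  exact ⟨k, Subtype.ext (by simpa using hk)⟩

theorem pPart_ne_bot {G : Type*} [Group G] (A : Subgroup G) [Finite A]
    (hA : ∀ a ∈ A, ∀ b ∈ A, a * b = b * a) (p : ℕ) [hp : Fact p.Prime] (hpA : p ∣ Nat.card A) :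
    pPart A hA p ≠ ⊥ := by
  obtain ⟨⟨x, hxA⟩, hx⟩ := exists_prime_orderOf_dvd_card' p hpA
  rw [Subgroup.orderOf_mk] at hx
  intro h
  have hmem : x ∈ pPart A hA p := ⟨hxA, 1, by rw [pow_one, ← hx]; exact pow_orderOf_eq_one x⟩
  rw [h, Subgroup.mem_bot] at hmem
  rw [hmem, orderOf_one] at hx
  exact hp.out.one_lt.ne hx

/-- a nontrivial solvable normal subgroup contains a nontrivial abelian `p`-subgroup normal in the
whole group -/
theorem exists_abelian_normal_pgroup {G : Type*} [Group G] [Finite G] (H : Subgroup G) [H.Normal]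
    (hs : Group.IsSolvable H) (hH1 : H ≠ ⊥) :
    ∃ (V : Subgroup G) (p : ℕ), V ≤ H ∧ V.Normal ∧ p.Prime ∧ IsPGroup p V ∧ V ≠ ⊥ ∧
      ∀ a ∈ V, ∀ b ∈ V, a * b = b * a := by
  classical
  have : Nontrivial H := (Subgroup.nontrivial_iff_ne_bot _).mpr hH1
  have hex : ∃ n, derivedSeries H n = ⊥ := Group.IsSolvable.solvable
  set n := Nat.find hex with hn
  have hn1 : derivedSeries H n = ⊥ := Nat.find_spec hex
  rcases Nat.eq_zero_or_pos n with h0 | h0
  · exfalso
    rw [h0, derivedSeries_zero] at hn1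
    exact top_ne_bot hn1
  obtain ⟨k, hk⟩ : ∃ k, n = k + 1 := ⟨n - 1, by omega⟩
  have hDk : derivedSeries H k ≠ ⊥ := by
    intro hb
    have : n ≤ k := Nat.find_min' hex hb
    omega
  have hab0 : ∀ a ∈ derivedSeries H k, ∀ b ∈ derivedSeries H k, a * b = b * a := by
    have h2 : ⁅derivedSeries H k, derivedSeries H k⁆ = ⊥ := by
      rw [← derivedSeries_succ, ← hk]; exact hn1
    rw [Subgroup.commutator_eq_bot_iff_le_centralizer] at h2
    intro a ha b hb
    exact (h2 ha b hb).symm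
  set A : Subgroup G := (derivedSeries H k).map H.subtype with hAdef
  have hAn : A.Normal := inferInstance
  have hAH : A ≤ H := by
    rintro _ ⟨x, _, rfl⟩
    exact x.2
  have hAab : ∀ a ∈ A, ∀ b ∈ A, a * b = b * a := by
    rintro _ ⟨a, ha, rfl⟩ _ ⟨b, hb, rfl⟩
    have := congrArg Subtype.val (hab0 a ha b hb)
    simpa using this
  have hA1 : A ≠ ⊥ := by
    intro h
    apply hDk
    rw [eq_bot_iff]
    intro x hx
    have : (x : G) ∈ A := ⟨x, hx, rfl⟩
    rw [h, Subgroup.mem_bot] at this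
    rw [Subgroup.mem_bot]
    exact Subtype.ext this
  have hcard : Nat.card A ≠ 1 := fun h => hA1 (Subgroup.eq_bot_of_card_eq A h)
  obtain ⟨p, hp, hpA⟩ := Nat.exists_prime_and_dvd hcard
  have : Fact p.Prime := ⟨hp⟩
  refine ⟨pPart A hAab p, p, (pPart_le A hAab p).trans hAH, pPart_normal A hAab p, hp,
    pPart_isPGroup A hAab p, pPart_ne_bot A hAab p hpA, ?_⟩
  intro a ha b hb
  exact hAab a ha.1 b hb.1

theorem cn_of_mulEquiv {Q R : Type*} [Group Q] [Group R] (e : Q ≃* R)
    (h : ∀ g : Q, g ≠ 1 → Group.IsNilpotent (Subgroup.centralizer ({g} : Set Q))) :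
    ∀ y : R, y ≠ 1 → Group.IsNilpotent (Subgroup.centralizer ({y} : Set R)) := by
  intro y hy
  have hx1 : e.symm y ≠ 1 := by
    intro h1
    apply hy
    have := congrArg e h1
    simpa using this
  have hle : Subgroup.centralizer ({y} : Set R) ≤
      (Subgroup.centralizer ({e.symm y} : Set Q)).map e.toMonoidHom := by
    intro z hz
    rw [mem_centralizer_singleton_iff] at hz
    refine ⟨e.symm z, ?_, by simp⟩
    rw [SetLike.mem_coe, mem_centralizer_singleton_iff, ← map_mul, ← map_mul, hz]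
  exact isNilpotent_of_le' hle (isNilpotent_map' _ _ (h _ hx1))

universe u

theorem cn_quotient_solvable_aux : ∀ (n : ℕ) (G : Type u) [Group G] [Finite G],
    (∀ g : G, g ≠ 1 → Group.IsNilpotent (Subgroup.centralizer ({g} : Set G))) →
    ∀ (H : Subgroup G) [H.Normal], Group.IsSolvable H → Nat.card H = n →
    ∀ y : G ⧸ H, y ≠ 1 → Group.IsNilpotent (Subgroup.centralizer ({y} : Set (G ⧸ H))) := by
  intro n
  induction n using Nat.strong_induction_on with
  | _ n ih =>
    intro G _ _ hCN H _ hsolv hn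
    rcases eq_or_ne H ⊥ with rfl | hH1
    · exact cn_of_mulEquiv (QuotientGroup.quotientBot (G := G)).symm hCN
    · obtain ⟨V, p, hVH, hVn, hp, hVp, hV1, hVab⟩ := exists_abelian_normal_pgroup H hsolv hH1
      have : Fact p.Prime := ⟨hp⟩
      have hCN' := cn_quotient_abelian_pgroup hCN V p hVp hV1 hVab
      have hH'n : (H.map (QuotientGroup.mk' V)).Normal :=
        Subgroup.Normal.map inferInstance _ (QuotientGroup.mk'_surjective V)
      have hH's : Group.IsSolvable (H.map (QuotientGroup.mk' V)) :=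
        Group.isSolvable_of_surjective (f := (QuotientGroup.mk' V).subgroupMap H)
          (MonoidHom.subgroupMap_surjective _ _)
      have hlt : Nat.card (H.map (QuotientGroup.mk' V)) < n := by
        rw [← hn]
        have := Fintype.ofFinite H
        have := Fintype.ofFinite (H.map (QuotientGroup.mk' V))
        rw [Nat.card_eq_fintype_card, Nat.card_eq_fintype_card]
        apply Fintype.card_lt_of_surjective_not_injective ((QuotientGroup.mk' V).subgroupMap H)
          (MonoidHom.subgroupMap_surjective _ _)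
        intro hinj
        obtain ⟨v, hv, hv1⟩ := (Subgroup.bot_or_exists_ne_one V).resolve_left hV1
        have h1 : (QuotientGroup.mk' V).subgroupMap H ⟨v, hVH hv⟩ =
            (QuotientGroup.mk' V).subgroupMap H 1 := by
          apply Subtype.ext
          rw [map_one]
          simp only [MonoidHom.subgroupMap_apply_coe, Subgroup.coe_one]
          exact (QuotientGroup.eq_one_iff v).mpr hv
        have := congrArg Subtype.val (hinj h1)
        exact hv1 (by simpa using this)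
      have h3 := ih _ hlt (G ⧸ V) hCN' (H.map (QuotientGroup.mk' V)) hH's rfl
      exact cn_of_mulEquiv (QuotientGroup.quotientQuotientEquivQuotient V H hVH) h3

/-- the quotient of a finite CN-group by a solvable normal subgroup is a CN-group -/
theorem cn_quotient_solvable {G : Type u} [Group G] [Finite G]
    (hCN : ∀ g : G, g ≠ 1 → Group.IsNilpotent (Subgroup.centralizer ({g} : Set G)))
    (H : Subgroup G) [H.Normal] (hH : Group.IsSolvable H) :
    ∀ y : G ⧸ H, y ≠ 1 → Group.IsNilpotent (Subgroup.centralizer ({y} : Set (G ⧸ H))) :=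
  cn_quotient_solvable_aux _ G hCN H hH rfl

end Cfsg.Agent.Lib.Helper11
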