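import Mathlib

set_option autoImplicit false

namespace Cfsg.Agent.Lib.Helper11

/-- The "Frobenius trick": a group `M⟨y⟩`, in which `y` acts on `M ≠ 1` without fixed points,
cannot act on a nontrivial abelian normal subgroup `N` of coprime order in such a way that
the nonidentity elements of `M` and `y` have no fixed points. -/
theorem frobenius_trick {G : Type*} [Group G] [Finite G]
    (N : Subgroup G) [N.Normal] (hNc : ∀ a ∈ N, ∀ b ∈ N, a * b = b * a)
    (M : Subgroup G) (hM1 : M ≠ ⊥) (y : G) (hyM : ∀ m ∈ M, y * m * y⁻¹ ∈ M)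
    (hfM : ∀ m ∈ M, m ≠ 1 → ∀ u ∈ N, m * u * m⁻¹ = u → u = 1)
    (hfy : ∀ u ∈ N, y * u * y⁻¹ = u → u = 1)
    (hMy : ∀ z ∈ Subgroup.zpowers y, z ≠ 1 → ∀ m ∈ M, m * z = z * m → m = 1)
    (hcop : (Nat.card M).Coprime (Nat.card N)) : N = ⊥ := by
  classical
  have : Fintype M := Fintype.ofFinite M
  have : Fintype (Subgroup.zpowers y) := Fintype.ofFinite _
  let _ : CommGroup N :=
    { (inferInstance : Group N) with mul_comm := fun a b => Subtype.ext (hNc a a.2 b b.2) }
  set κ : G →* MulAut N := MulAut.conjNormal with hκ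
  have hκv : ∀ (g : G) (u : N), ((κ g u : N) : G) = g * u * g⁻¹ := fun g u => rfl
  have fpfM : ∀ m ∈ M, m ≠ 1 → ∀ u : N, κ m u = u → u = 1 := by
    intro m hm hm1 u hu
    have := congrArg (fun w : N => (w : G)) hu
    simp only [hκv] at this
    exact Subtype.ext (hfM m hm hm1 u u.2 this)
  have fpfy : ∀ m : G, ∀ u : N, κ (m * y * m⁻¹) u = u → u = 1 := by
    intro m u hu
    have h1 := congrArg (fun w : N => (w : G)) hu
    simp only [hκv] at h1
    have h2 : y * (m⁻¹ * (u : G) * m) * y⁻¹ = m⁻¹ * (u : G) * m := by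
      calc y * (m⁻¹ * (u : G) * m) * y⁻¹
          = m⁻¹ * ((m * y * m⁻¹) * (u : G) * (m * y * m⁻¹)⁻¹) * m := by group
        _ = m⁻¹ * (u : G) * m := by rw [h1]
    have h3 : m⁻¹ * (u : G) * m ∈ N := by
      have := (inferInstance : N.Normal).conj_mem (u : G) u.2 m⁻¹
      simpa using this
    have h4 := hfy _ h3 h2
    apply Subtype.ext
    have : (u : G) = m * (m⁻¹ * (u : G) * m) * m⁻¹ := by group
    rw [this, h4]; simp
  have hYM : ∀ z : Subgroup.zpowers y, ∀ m ∈ M, (z : G) * m * (z : G)⁻¹ ∈ M := by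
    intro z
    obtain ⟨k, hk⟩ := Subgroup.mem_zpowers_iff.mp z.2
    have hnorm : y ∈ Subgroup.normalizer (M : Set G) := by
      exact Subgroup.mem_normalizer_fintype (fun m hm => hyM m hm)
    have : (z : G) ∈ Subgroup.normalizer (M : Set G) := by
      rw [← hk]; exact Subgroup.zpow_mem _ hnorm k
    intro m hm
    exact (Subgroup.mem_normalizer_iff.mp this m).mp hm
  obtain ⟨m₀, hm₀M, hm₀⟩ : ∃ m₀ ∈ M, m₀ ≠ 1 := by
    by_contra hcon
    push Not at hcon
    exact hM1 ((Subgroup.eq_bot_iff_forall M).mpr hcon)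
  rw [Subgroup.eq_bot_iff_forall]
  intro v₀ hv₀
  set v : N := ⟨v₀, hv₀⟩ with hv
  suffices hv1 : v = 1 by
    exact congrArg (fun w : N => (w : G)) hv1
  have invM : ∀ (f : G → N) , (∀ m : M, ∀ g : G, κ m (f g) = f (m * g)) →
      ∀ g₀ : G, ∏ m : M, f ((m : G) * g₀) = 1 := by
    intro f hf g₀
    apply fpfM m₀ hm₀M hm₀
    rw [map_prod]
    have : ∀ m : M, κ m₀ (f ((m : G) * g₀)) = f (((⟨m₀, hm₀M⟩ * m : M) : G) * g₀) := by
      intro m
      rw [hf ⟨m₀, hm₀M⟩]
      congr 1
      simp [mul_assoc]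
    simp_rw [this]
    exact Equiv.prod_comp (Equiv.mulLeft (⟨m₀, hm₀M⟩ : M)) (fun m : M => f ((m : G) * g₀))
  have hT1 : ∀ z : Subgroup.zpowers y, ∏ m : M, κ ((m : G) * (z : G)) v = 1 := by
    intro z
    exact invM (fun g => κ g v) (fun m g => by rw [map_mul]; rfl) z
  have hT' : ∀ z : Subgroup.zpowers y, z ≠ 1 →
      ∏ m : M, κ ((m : G) * (z : G) * (m : G)⁻¹) v = ∏ m : M, κ ((m : G) * (z : G)) v := by
    intro z hz
    let β : M → M := fun m => ⟨(m : G) * ((z : G) * (m : G)⁻¹ * (z : G)⁻¹),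
      M.mul_mem m.2 (hYM z _ (M.inv_mem m.2))⟩
    have hβinj : Function.Injective β := by
      intro m m' hmm
      have h1 : (m : G) * ((z : G) * (m : G)⁻¹ * (z : G)⁻¹) =
          (m' : G) * ((z : G) * (m' : G)⁻¹ * (z : G)⁻¹) := congrArg (fun w : M => (w : G)) hmm
      have hc : (m' : G)⁻¹ * (m : G) * (z : G) = (z : G) * ((m' : G)⁻¹ * (m : G)) := by
        have h2 : (m : G) * (z : G) * (m : G)⁻¹ = (m' : G) * (z : G) * (m' : G)⁻¹ := by
          have := congrArg (fun w => w * (z : G)) h1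
          simp only [mul_assoc, inv_mul_cancel, mul_one] at this
          simpa [mul_assoc] using this
        calc (m' : G)⁻¹ * (m : G) * (z : G)
            = (m' : G)⁻¹ * ((m : G) * (z : G) * (m : G)⁻¹) * (m : G) := by group
          _ = (m' : G)⁻¹ * ((m' : G) * (z : G) * (m' : G)⁻¹) * (m : G) := by rw [h2]
          _ = (z : G) * ((m' : G)⁻¹ * (m : G)) := by group
      have hz' : (z : G) ≠ 1 := fun h => hz (Subtype.ext h)
      have h3 := hMy (z : G) z.2 hz' ((m' : G)⁻¹ * (m : G)) (M.mul_mem (M.inv_mem m'.2) m.2) hc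
      apply Subtype.ext
      have := inv_mul_eq_one.mp h3
      exact this.symm
    have hβbij : Function.Bijective β := Finite.injective_iff_bijective.mp hβinj
    have : ∀ m : M, κ ((m : G) * (z : G) * (m : G)⁻¹) v = κ (((β m : M) : G) * (z : G)) v := by
      intro m
      congr 2
      simp only [β]
      group
    simp_rw [this]
    exact (Equiv.ofBijective β hβbij).prod_comp (fun m : M => κ ((m : G) * (z : G)) v)
  have hS : ∀ m : M, ∏ z : Subgroup.zpowers y, κ ((m : G) * (z : G) * (m : G)⁻¹) v = 1 := by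
    intro m
    apply fpfy (m : G)
    rw [map_prod]
    have : ∀ z : Subgroup.zpowers y, κ ((m : G) * y * (m : G)⁻¹)
        (κ ((m : G) * (z : G) * (m : G)⁻¹) v) =
        κ ((m : G) * (((⟨y, Subgroup.mem_zpowers y⟩ * z : Subgroup.zpowers y)) : G) * (m : G)⁻¹) v := by
      intro z
      rw [← MulAut.mul_apply, ← map_mul]
      congr 2
      simp only [Subgroup.coe_mul]
      group
    simp_rw [this]
    exact Equiv.prod_comp (Equiv.mulLeft (⟨y, Subgroup.mem_zpowers y⟩ : Subgroup.zpowers y))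
      (fun z : Subgroup.zpowers y => κ ((m : G) * (z : G) * (m : G)⁻¹) v)
  have e1 : ∏ z : Subgroup.zpowers y, ∏ m : M, κ ((m : G) * (z : G) * (m : G)⁻¹) v = 1 := by
    rw [Finset.prod_comm]
    exact Finset.prod_eq_one (fun m _ => hS m)
  have e2 : ∏ z : Subgroup.zpowers y, ∏ m : M, κ ((m : G) * (z : G) * (m : G)⁻¹) v =
      v ^ Fintype.card M := by
    rw [← Finset.mul_prod_erase Finset.univ _ (Finset.mem_univ (1 : Subgroup.zpowers y))]
    have h1 : ∏ m : M, κ ((m : G) * ((1 : Subgroup.zpowers y) : G) * (m : G)⁻¹) v =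
        v ^ Fintype.card M := by
      simp
    have h2 : ∏ z ∈ Finset.univ.erase (1 : Subgroup.zpowers y),
        ∏ m : M, κ ((m : G) * (z : G) * (m : G)⁻¹) v = 1 := by
      apply Finset.prod_eq_one
      intro z hz
      rw [hT' z (Finset.ne_of_mem_erase hz), hT1 z]
    rw [h1, h2, mul_one]
  have e3 : v ^ Fintype.card M = 1 := by rw [← e2, e1]
  have hd : orderOf v ∣ Nat.card M := by
    rw [Nat.card_eq_fintype_card]; exact orderOf_dvd_of_pow_eq_one e3
  have hd2 : orderOf v ∣ Nat.card N := orderOf_dvd_natCard v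
  have h1 : orderOf v ∣ 1 := by
    have := Nat.dvd_gcd hd hd2
    rwa [hcop] at this
  exact orderOf_eq_one_iff.mp (Nat.dvd_one.mp h1)

end Cfsg.Agent.Lib.Helper11
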