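import Mathlib
import Cfsg.Agent.Lib.Helper11.NilpCoprime
import Cfsg.Agent.Lib.Helper11.CNMax
import Cfsg.Agent.Lib.Helper11.CNQuot
import Cfsg.Agent.Lib.Helper11.FrobTrick
import Cfsg.Agent.S0071

set_option autoImplicit false

namespace Cfsg.Agent.Lib.Helper11

/-- a finite group with normal `r`-complements for all primes `r` is nilpotent -/
theorem isNilpotent_of_normal_complements {X : Type*} [Group X] [Finite X]
    (h : ∀ (r : ℕ) [Fact r.Prime] (R : Sylow r X),
      ∃ K : Subgroup X, K.Normal ∧ K.IsComplement' (R : Subgroup X)) : Group.IsNilpotent X := by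
  apply isNilpotent_of_commute_prime_elements
  intro s t hs ht hst a b ⟨i, hi⟩ ⟨j, hj⟩
  have hc1 : orderOf (a * b * a⁻¹ * b⁻¹) = 1 := by
    rw [Nat.eq_one_iff_not_exists_prime_dvd]
    intro r hr hrc
    have : Fact r.Prime := ⟨hr⟩
    let R : Sylow r X := default
    obtain ⟨K, hKn, hKR⟩ := h r R
    have hidx : K.index = Nat.card R := hKR.symm.index_eq_card
    have hRcard : Nat.card R = r ^ (Nat.card X).factorization r := R.card_eq_multiplicity
    -- prime power elements for other primes lie in `K`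
    have hmemK : ∀ (q : ℕ), q.Prime → q ≠ r → ∀ x : X, (∃ l : ℕ, x ^ q ^ l = 1) → x ∈ K := by
      intro q hq hqr x ⟨l, hl⟩
      have h1 : x ^ K.index ∈ K := K.pow_index_mem x
      have hcop : (K.index).Coprime (orderOf x) := by
        rw [hidx, hRcard]
        apply Nat.Coprime.of_dvd_right (orderOf_dvd_of_pow_eq_one hl)
        apply Nat.Coprime.pow
        exact (Nat.coprime_primes hr hq).mpr hqr.symm
      obtain ⟨m, hm⟩ := exists_pow_eq_self_of_coprime hcop
      rw [← hm]
      exact K.pow_mem h1 m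
    have hcK : a * b * a⁻¹ * b⁻¹ ∈ K := by
      by_cases hsr : s = r
      · have hbK : b ∈ K := hmemK t ht (fun h => hst (hsr.trans h.symm)) b ⟨j, hj⟩
        exact K.mul_mem (hKn.conj_mem b hbK a) (K.inv_mem hbK)
      · have haK : a ∈ K := hmemK s hs hsr a ⟨i, hi⟩
        have : a * b * a⁻¹ * b⁻¹ = a * (b * a⁻¹ * b⁻¹) := by group
        rw [this]
        exact K.mul_mem haK (hKn.conj_mem a⁻¹ (K.inv_mem haK) b)
    have h2 : r ∣ Nat.card K := hrc.trans (Subgroup.orderOf_dvd_natCard K hcK)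
    have h3 : Nat.card K * Nat.card R = Nat.card X := hKR.card_mul_card
    have h4 : r ^ ((Nat.card X).factorization r + 1) ∣ Nat.card X := by
      calc r ^ ((Nat.card X).factorization r + 1) = r * Nat.card R := by
            rw [hRcard, pow_succ, mul_comm]
        _ ∣ Nat.card K * Nat.card R := Nat.mul_dvd_mul_right h2 _
        _ = Nat.card X := h3
    exact Nat.pow_succ_factorization_not_dvd Nat.card_pos.ne' hr h4
  have hc : a * b * a⁻¹ * b⁻¹ = 1 := orderOf_eq_one_iff.mp hc1
  show a * b = b * a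
  have h6 : a * b = (a * b * a⁻¹ * b⁻¹) * (b * a) := by group
  rw [h6, hc, one_mul]

section Fpf

variable {G : Type*} [Group G] [Finite G]

/-- `E` acts by conjugation without fixed points on the nontrivial abelian normal subgroup `N`
of coprime order, inside a CN-group `G` -/
structure FpfOn (E N : Subgroup G) : Prop where
  cn : ∀ g : G, g ≠ 1 → Group.IsNilpotent (Subgroup.centralizer ({g} : Set G))
  normal : N.Normal
  comm : ∀ a ∈ N, ∀ b ∈ N, a * b = b * a
  ne_bot : N ≠ ⊥
  fpf : ∀ e ∈ E, e ≠ 1 → ∀ u ∈ N, e * u * e⁻¹ = u → u = 1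
  cop : (Nat.card E).Coprime (Nat.card N)

theorem mem_zpowers_of_prime_order (x z : G) (t : ℕ) (ht : t.Prime) (hx : orderOf x = t)
    (hz : z ∈ Subgroup.zpowers x) (hz1 : z ≠ 1) : x ∈ Subgroup.zpowers z := by
  have hfin : IsOfFinOrder x := isOfFinOrder_of_finite x
  rw [← mem_powers_iff_mem_zpowers, Submonoid.mem_powers_iff] at hz
  obtain ⟨k, rfl⟩ := hz
  have hcop : k.Coprime (orderOf x) := by
    rw [hx, Nat.coprime_comm, Nat.Prime.coprime_iff_not_dvd ht]
    intro hd
    apply hz1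
    rw [← hx] at hd
    exact orderOf_dvd_iff_pow_eq_one.mp hd
  obtain ⟨m, hm⟩ := exists_pow_eq_self_of_coprime hcop
  exact ⟨m, by simpa using hm⟩

theorem FpfOn.exists_fixed {E N : Subgroup G} (h : FpfOn E N) (M : Subgroup G) (hME : M ≤ E)
    (hM1 : M ≠ ⊥) (x : G) (hxE : x ∈ E) (t : ℕ) (ht : t.Prime) (hx : orderOf x = t)
    (hxM : x ∈ Subgroup.normalizer (M : Set G)) : ∃ m ∈ M, m ≠ 1 ∧ m * x = x * m := by
  by_contra hcon
  push Not at hcon
  have := h.normal
  have hx1 : x ≠ 1 := by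
    intro h1
    rw [h1, orderOf_one] at hx
    exact ht.one_lt.ne hx
  apply h.ne_bot
  apply frobenius_trick N h.comm M hM1 x
  · intro m hm
    exact (Subgroup.mem_normalizer_iff.mp hxM m).mp hm
  · intro m hm hm1
    exact h.fpf m (hME hm) hm1
  · exact h.fpf x hxE hx1
  · intro z hz hz1 m hm hmz
    by_contra hm1
    apply hcon m hm hm1
    obtain ⟨k, hk⟩ := mem_zpowers_of_prime_order x z t ht hx hz hz1
    rw [← hk]
    have hc : Commute m z := hmz
    exact (hc.zpow_right k).eq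
  · exact Nat.Coprime.of_dvd_left (Subgroup.card_dvd_of_le hME) h.cop

theorem FpfOn.centralizes_of_prime_order {E N : Subgroup G} (h : FpfOn E N) (M : Subgroup G)
    (hME : M ≤ E) (hMn : Group.IsNilpotent M) (x : G) (hxE : x ∈ E) (t : ℕ) (ht : t.Prime)
    (hx : orderOf x = t) (hcop : (Nat.card M).Coprime t)
    (hxM : x ∈ Subgroup.normalizer (M : Set G)) : ∀ m ∈ M, m * x = x * m := by
  rcases eq_or_ne M ⊥ with rfl | hM1
  · intro m hm
    rw [Subgroup.mem_bot] at hm
    rw [hm]; simp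
  obtain ⟨u0, hu0, hu01, hu0x⟩ := h.exists_fixed M hME hM1 x hxE t ht hx hxM
  have claim : ∀ u ∈ M, u ≠ 1 → u * x = x * u → ∀ w ∈ M, w * u = u * w → w * x = x * w := by
    intro u _ hu1 hux w hw hwu
    apply commute_of_mem_centralizer h.cn u hu1 w x hwu hux.symm
    rw [hx]
    exact Nat.Coprime.of_dvd_left (Subgroup.orderOf_dvd_natCard M hw) hcop
  have : Nontrivial M := (Subgroup.nontrivial_iff_ne_bot _).mpr hM1
  have hZ : Subgroup.center M ≠ ⊥ := Group.IsNilpotent.center_ne_bot M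
  obtain ⟨⟨z, hzM⟩, hz, hz1⟩ := (Subgroup.bot_or_exists_ne_one _).resolve_left hZ
  have hz1' : z ≠ 1 := fun h1 => hz1 (Subtype.ext h1)
  have hzc : ∀ w ∈ M, w * z = z * w := by
    intro w hw
    have := congrArg Subtype.val (Subgroup.mem_center_iff.mp hz ⟨w, hw⟩)
    simpa using this
  have hzx : z * x = x * z := claim u0 hu0 hu01 hu0x z hzM (hzc u0 hu0).symm
  intro w hw
  exact claim z hzM hz1' hzx w hw (hzc w hw)

theorem FpfOn.centralizes_of_prime_pow {E N : Subgroup G} (h : FpfOn E N) (M : Subgroup G)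
    (hME : M ≤ E) (hMn : Group.IsNilpotent M) (y : G) (hyE : y ∈ E) (t : ℕ) (ht : t.Prime)
    (hy : ∃ k : ℕ, y ^ t ^ k = 1) (hcop : (Nat.card M).Coprime t)
    (hyM : y ∈ Subgroup.normalizer (M : Set G)) : ∀ m ∈ M, m * y = y * m := by
  rcases eq_or_ne y 1 with rfl | hy1
  · intro m _; simp
  obtain ⟨k, hk⟩ := hy
  have hdvd : t ∣ orderOf y := by
    obtain ⟨j, _, hj⟩ := (Nat.dvd_prime_pow ht).mp (orderOf_dvd_of_pow_eq_one hk)
    rw [hj]
    apply dvd_pow_self
    intro h0
    rw [h0, pow_zero] at hj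
    exact hy1 (orderOf_eq_one_iff.mp hj)
  set x := y ^ (orderOf y / t) with hxdef
  have hxo : orderOf x = t := orderOf_pow_orderOf_div (orderOf_pos y).ne' hdvd
  have hx1 : x ≠ 1 := by
    intro h1
    rw [h1, orderOf_one] at hxo
    exact ht.one_lt.ne hxo
  have hxc := h.centralizes_of_prime_order M hME hMn x (E.pow_mem hyE _) t ht hxo hcop
    (Subgroup.pow_mem _ hyM _)
  intro m hm
  apply commute_of_mem_centralizer h.cn x hx1 m y (hxc m hm)
  · rw [hxdef]
    exact ((Commute.refl y).pow_right _).eq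
  · apply Nat.Coprime.of_dvd (Subgroup.orderOf_dvd_natCard M hm) (orderOf_dvd_of_pow_eq_one hk)
    exact Nat.Coprime.pow_right k hcop

theorem FpfOn.centralizes_of_coprime {E N : Subgroup G} (h : FpfOn E N) (r : ℕ) (hr : r.Prime)
    (Q : Subgroup G) (hQE : Q ≤ E) (hQ : IsPGroup r Q) :
    ∀ (n : ℕ) (g : G), orderOf g = n → g ∈ E → (orderOf g).Coprime r →
      g ∈ Subgroup.normalizer (Q : Set G) → ∀ q ∈ Q, q * g = g * q := by
  have : Fact r.Prime := ⟨hr⟩
  intro n
  induction n using Nat.strong_induction_on with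
  | _ n ih =>
    intro g hgn hgE hgr hgQ
    rcases eq_or_ne g 1 with rfl | hg1
    · intro q _; simp
    have ho1 : orderOf g ≠ 1 := fun h1 => hg1 (orderOf_eq_one_iff.mp h1)
    obtain ⟨t, ht, htg⟩ := Nat.exists_prime_and_dvd ho1
    obtain ⟨u, v, hu, hv, hguv, huk, hvo⟩ := exists_p_parts t ht g (orderOf_pos g)
    have htr : t ≠ r := by
      rintro rfl
      exact (Nat.Prime.coprime_iff_not_dvd ht).mp hgr.symm htg
    have hleE : Subgroup.zpowers g ≤ E := (Subgroup.zpowers_le).mpr hgE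
    have hleN : Subgroup.zpowers g ≤ Subgroup.normalizer (Q : Set G) :=
      (Subgroup.zpowers_le).mpr hgQ
    have hvdvd : orderOf v ∣ orderOf g := orderOf_dvd_of_mem_zpowers hv
    have hvlt : orderOf v < n := by
      rw [← hgn]
      apply lt_of_le_of_ne (Nat.le_of_dvd (orderOf_pos g) hvdvd)
      intro heq
      rw [heq] at hvo
      exact (Nat.Prime.coprime_iff_not_dvd ht).mp hvo.symm htg
    have hvc := ih (orderOf v) hvlt v rfl (hleE hv) (Nat.Coprime.of_dvd_left hvdvd hgr) (hleN hv)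
    obtain ⟨a, ha⟩ := (IsPGroup.iff_card).mp hQ
    have huc := h.centralizes_of_prime_pow Q hQE hQ.isNilpotent u (hleE hu) t ht huk
      (by rw [ha]; exact Nat.Coprime.pow_left a ((Nat.coprime_primes hr ht).mpr htr.symm))
      (hleN hu)
    intro q hq
    rw [hguv, ← mul_assoc, huc q hq, mul_assoc, hvc q hq, mul_assoc]

/-- a group acting without fixed points (in a CN-group) is nilpotent -/
theorem FpfOn.isNilpotent {E N : Subgroup G} (h : FpfOn E N) : Group.IsNilpotent E := by
  apply isNilpotent_of_normal_complements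
  intro r _ R
  rw [Cfsg.Agent.S0071.result R]
  intro Q hQR g hg hgr
  rw [Subgroup.mem_centralizer_iff]
  intro q hq
  have hQp : IsPGroup r (Q.map E.subtype) := (R.isPGroup'.to_le hQR).map _
  have hQE : Q.map E.subtype ≤ E := by
    rintro _ ⟨x, _, rfl⟩
    exact x.2
  have hgn : (g : G) ∈ Subgroup.normalizer ((Q.map E.subtype : Subgroup G) : Set G) := by
    rw [Subgroup.mem_normalizer_iff]
    intro x
    constructor
    · rintro ⟨x', hx', rfl⟩
      exact ⟨g * x' * g⁻¹, (Subgroup.mem_normalizer_iff.mp hg x').mp hx', rfl⟩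
    · rintro ⟨x', hx', hx'e⟩
      have hxE : x ∈ E := by
        have h1 : (g : G)⁻¹ * ((g : G) * x * (g : G)⁻¹) * (g : G) ∈ E := by
          rw [← hx'e]
          exact E.mul_mem (E.mul_mem (E.inv_mem g.2) x'.2) g.2
        have e : (g : G)⁻¹ * ((g : G) * x * (g : G)⁻¹) * (g : G) = x := by group
        rwa [e] at h1
      refine ⟨⟨x, hxE⟩, ?_, rfl⟩
      apply (Subgroup.mem_normalizer_iff.mp hg ⟨x, hxE⟩).mpr
      have : g * ⟨x, hxE⟩ * g⁻¹ = x' := by
        apply Subtype.ext
        simpa using hx'e.symm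
      rw [this]; exact hx'
  have := h.centralizes_of_coprime r (Fact.out) (Q.map E.subtype) hQE hQp (orderOf (g : G)) (g : G)
    rfl g.2 (by rw [Subgroup.orderOf_coe]; exact hgr) hgn (q : G) ⟨q, hq, rfl⟩
  apply Subtype.ext
  simpa using this

end Fpf

end Cfsg.Agent.Lib.Helper11
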