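import Mathlib
import Cfsg.Prelude.Def_OddOrderLocal
import Cfsg.Prelude.Def_Solvable
import Cfsg.Agent.Lib.Helper11.FpfAction
import Cfsg.Agent.Lib.Helper1.Fitting
import Cfsg.Agent.Lib.Helper10.FittingHall

set_option autoImplicit false

namespace Cfsg.Agent.Lib.Helper11

section

variable {G : Type*} [Group G] [Finite G]

theorem exists_center_element (S : Subgroup G) (s : ℕ) [Fact s.Prime] (hS : IsPGroup s S)
    (hS1 : S ≠ ⊥) : ∃ z ∈ S, z ≠ 1 ∧ ∀ w ∈ S, w * z = z * w := by
  have : Nontrivial S := (Subgroup.nontrivial_iff_ne_bot _).mpr hS1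
  have := IsPGroup.center_nontrivial hS
  obtain ⟨⟨z, hz⟩, hz1⟩ := exists_ne (1 : Subgroup.center S)
  refine ⟨(z : G), z.2, ?_, ?_⟩
  · intro h
    apply hz1
    apply Subtype.ext
    apply Subtype.ext
    simpa using h
  · intro w hw
    have := congrArg Subtype.val (Subgroup.mem_center_iff.mp hz ⟨w, hw⟩)
    simpa using this

omit [Finite G] in
theorem pow_of_isPGroup (S : Subgroup G) (s : ℕ) (hS : IsPGroup s S) (w : G) (hw : w ∈ S) :
    ∃ k : ℕ, w ^ s ^ k = 1 := by
  obtain ⟨k, hk⟩ := hS ⟨w, hw⟩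
  exact ⟨k, by simpa using congrArg Subtype.val hk⟩

/-- In a CN-group, if a nontrivial `r`-element centralizes a nonidentity element of a normal
`s`-subgroup (`s ≠ r`), then its Sylow `r`-subgroup is normal. -/
theorem exists_normal_sylow_of_fixed
    (hCN : ∀ g : G, g ≠ 1 → Group.IsNilpotent (Subgroup.centralizer ({g} : Set G)))
    (S : Subgroup G) [hSn : S.Normal] (s r : ℕ) [hs : Fact s.Prime] [hr : Fact r.Prime]
    (hsr : s ≠ r)
    (hS : IsPGroup s S) (e : G) (he1 : e ≠ 1) (her : ∃ k : ℕ, e ^ r ^ k = 1) (x : G) (hxS : x ∈ S)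
    (hx1 : x ≠ 1) (hex : e * x = x * e) : ∃ R : Sylow r G, (R : Subgroup G).Normal ∧ e ∈ R := by
  have hS1 : S ≠ ⊥ := by
    intro h
    rw [h, Subgroup.mem_bot] at hxS
    exact hx1 hxS
  have cop : ∀ a b : G, (∃ k : ℕ, a ^ r ^ k = 1) → b ∈ S → (orderOf a).Coprime (orderOf b) := by
    intro a b ha hb
    exact coprime_orderOf_of_pow r s hr.out hs.out hsr.symm a b ha (pow_of_isPGroup S s hS b hb)
  obtain ⟨z, hzS, hz1, hzc⟩ := exists_center_element S s hS hS1
  have hez : e * z = z * e :=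
    commute_of_mem_centralizer hCN x hx1 e z hex (hzc x hxS).symm (cop e z her hzS)
  have heS : ∀ w ∈ S, e * w = w * e := fun w hw =>
    commute_of_mem_centralizer hCN z hz1 e w hez (hzc w hw) (cop e w her hw)
  obtain ⟨R, hR⟩ := IsPGroup.exists_le_sylow (isPGroup_zpowers_of_pow r e her)
  have heR : e ∈ R := hR (Subgroup.mem_zpowers e)
  have hR1 : (R : Subgroup G) ≠ ⊥ := by
    intro h
    have : e ∈ (R : Subgroup G) := heR
    rw [h, Subgroup.mem_bot] at this
    exact he1 this
  obtain ⟨y, hyR, hy1, hyc⟩ := exists_center_element (R : Subgroup G) r R.isPGroup' hR1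
  have hRpow : ∀ g ∈ (R : Subgroup G), ∃ k : ℕ, g ^ r ^ k = 1 :=
    fun g hg => pow_of_isPGroup (R : Subgroup G) r R.isPGroup' g hg
  have hyS : ∀ w ∈ S, y * w = w * y := fun w hw =>
    commute_of_mem_centralizer hCN e he1 y w (hyc e heR).symm (heS w hw).symm
      (cop y w (hRpow y hyR) hw)
  have hRS : ∀ g ∈ (R : Subgroup G), ∀ w ∈ S, g * w = w * g := fun g hg w hw =>
    commute_of_mem_centralizer hCN y hy1 g w (hyc g hg) (hyS w hw).symm (cop g w (hRpow g hg) hw)
  have hRC : (R : Subgroup G) ≤ Subgroup.centralizer (S : Set G) := by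
    intro g hg
    rw [Subgroup.mem_centralizer_iff]
    intro w hw
    exact (hRS g hg w hw).symm
  have hCn : (Subgroup.centralizer (S : Set G)).Normal := inferInstance
  have hCle : Subgroup.centralizer (S : Set G) ≤ Subgroup.centralizer ({z} : Set G) :=
    Subgroup.centralizer_le (by simpa using hzS)
  have hCnil : Group.IsNilpotent (Subgroup.centralizer (S : Set G)) :=
    isNilpotent_of_le' hCle (hCN z hz1)
  refine ⟨R, ?_, heR⟩
  constructor
  intro g hg c
  obtain ⟨k, hk⟩ := hRpow g hg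
  have hmem : c * g * c⁻¹ ∈ Subgroup.centralizer (S : Set G) := hCn.conj_mem g (hRC hg) c
  have h1 : (⟨c * g * c⁻¹, hmem⟩ : Subgroup.centralizer (S : Set G)) ∈ R.subtype hRC := by
    apply p_element_mem_sylow r (R.subtype hRC)
    refine ⟨k, Subtype.ext ?_⟩
    simp only [Subgroup.coe_pow, Subgroup.coe_one]
    rw [conj_pow, hk]; group
  have h2 : (⟨c * g * c⁻¹, hmem⟩ : Subgroup.centralizer (S : Set G)) ∈
      (R : Subgroup G).subgroupOf (Subgroup.centralizer (S : Set G)) := h1
  exact Subgroup.mem_subgroupOf.mp h2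

theorem fittingHall_isNilpotent : Group.IsNilpotent (Cfsg.fittingHall G) := by
  have hle : Cfsg.fittingHall G ≤ Cfsg.fittingSubgroup G := by
    apply sSup_le_sSup
    intro N hN
    exact ⟨hN.1, hN.2.1⟩
  exact isNilpotent_of_le' hle Cfsg.Agent.Lib.Helper1.fittingSubgroup_nilpotent

theorem sylow_le_fittingHall (r : ℕ) [hr : Fact r.Prime] (R : Sylow r G)
    (hRn : (R : Subgroup G).Normal) : (R : Subgroup G) ≤ Cfsg.fittingHall G := by
  apply Cfsg.Agent.Lib.Helper10.le_fittingHall _ hRn R.isPGroup'.isNilpotent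
  obtain ⟨k, hk⟩ := (IsPGroup.iff_card).mp R.isPGroup'
  rw [hk]
  apply Nat.Coprime.pow_left
  exact (Nat.Prime.coprime_iff_not_dvd hr.out).mpr R.not_dvd_index

/-- the fixed-point-free action of a complement of the Fitting Hall subgroup -/
theorem fittingHall_fpf
    (hCN : ∀ g : G, g ≠ 1 → Group.IsNilpotent (Subgroup.centralizer ({g} : Set G)))
    (E : Subgroup G) (hE : Subgroup.IsComplement' (Cfsg.fittingHall G) E)
    (e : G) (heE : e ∈ E) (he1 : e ≠ 1) (f : G) (hfF : f ∈ Cfsg.fittingHall G) (hf1 : f ≠ 1)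
    (hef : e * f = f * e) : False := by
  have hFnil : Group.IsNilpotent (Cfsg.fittingHall G) := fittingHall_isNilpotent
  have hdisj : ∀ g : G, g ∈ Cfsg.fittingHall G → g ∈ E → g = 1 := by
    intro g h1 h2
    exact Subgroup.disjoint_def.mp hE.disjoint h1 h2
  have hcop : (Nat.card (Cfsg.fittingHall G)).Coprime (Nat.card E) := by
    rw [← hE.symm.index_eq_card]
    exact Cfsg.Agent.Lib.Helper10.fittingHall_coprime
  -- pass to prime orders
  have hoe : orderOf e ≠ 1 := fun h => he1 (orderOf_eq_one_iff.mp h)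
  have hof : orderOf f ≠ 1 := fun h => hf1 (orderOf_eq_one_iff.mp h)
  obtain ⟨r, hr, hre⟩ := Nat.exists_prime_and_dvd hoe
  obtain ⟨s, hs, hsf⟩ := Nat.exists_prime_and_dvd hof
  have : Fact r.Prime := ⟨hr⟩
  have : Fact s.Prime := ⟨hs⟩
  set e' := e ^ (orderOf e / r) with he'def
  set f' := f ^ (orderOf f / s) with hf'def
  have he'o : orderOf e' = r := orderOf_pow_orderOf_div (orderOf_pos e).ne' hre
  have hf'o : orderOf f' = s := orderOf_pow_orderOf_div (orderOf_pos f).ne' hsf
  have he'1 : e' ≠ 1 := by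
    intro h
    rw [h, orderOf_one] at he'o
    exact hr.one_lt.ne he'o
  have hf'1 : f' ≠ 1 := by
    intro h
    rw [h, orderOf_one] at hf'o
    exact hs.one_lt.ne hf'o
  have he'E : e' ∈ E := E.pow_mem heE _
  have hf'F : f' ∈ Cfsg.fittingHall G := Subgroup.pow_mem _ hfF _
  have hcomm : e' * f' = f' * e' := by
    have hc : Commute e f := hef
    exact ((hc.pow_left _).pow_right _).eq
  have hsr : s ≠ r := by
    rintro rfl
    have h1 : s ∣ Nat.card (Cfsg.fittingHall G) := by
      rw [← hf'o]; exact Subgroup.orderOf_dvd_natCard _ hf'F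
    have h2 : s ∣ Nat.card E := by
      rw [← he'o]; exact Subgroup.orderOf_dvd_natCard _ he'E
    have := Nat.dvd_gcd h1 h2
    rw [hcop] at this
    exact hs.one_lt.ne' (Nat.dvd_one.mp this)
  -- the normal `s`-subgroup
  let S0 : Sylow s (Cfsg.fittingHall G) := default
  have hS0n : (S0 : Subgroup (Cfsg.fittingHall G)).Normal := inferInstance
  have hS0c : (S0 : Subgroup (Cfsg.fittingHall G)).Characteristic :=
    Sylow.characteristic_of_normal S0 hS0n
  set S : Subgroup G := (S0 : Subgroup (Cfsg.fittingHall G)).map (Cfsg.fittingHall G).subtype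
    with hSdef
  have hSn : S.Normal := inferInstance
  have hSp : IsPGroup s S := S0.isPGroup'.map _
  have hf'S : f' ∈ S := by
    refine ⟨⟨f', hf'F⟩, ?_, rfl⟩
    apply p_element_mem_sylow s S0
    refine ⟨1, Subtype.ext ?_⟩
    simp only [Subgroup.coe_pow, Subgroup.coe_one, pow_one]
    rw [← hf'o]; exact pow_orderOf_eq_one f'
  obtain ⟨R, hRn, he'R⟩ := exists_normal_sylow_of_fixed hCN S s r hsr hSp e' he'1
    ⟨1, by rw [pow_one, ← he'o]; exact pow_orderOf_eq_one e'⟩ f' hf'S hf'1 hcomm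
  have := sylow_le_fittingHall r R hRn he'R
  exact he'1 (hdisj e' this he'E)

/-- structure of a non-nilpotent CN-group with a nontrivial normal Sylow subgroup -/
theorem cn_normal_sylow_structure
    (hCN : ∀ g : G, g ≠ 1 → Group.IsNilpotent (Subgroup.centralizer ({g} : Set G)))
    (hnn : ¬ Group.IsNilpotent G) (p : ℕ) [hp : Fact p.Prime] (P : Sylow p G)
    (hP1 : (P : Subgroup G) ≠ ⊥) (hPn : (P : Subgroup G).Normal) :
    Cfsg.fittingHall G ≠ ⊥ ∧ Cfsg.fittingHall G ≠ ⊤ ∧
      (∃ E : Subgroup G, Subgroup.IsComplement' (Cfsg.fittingHall G) E ∧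
        Cfsg.IsFrobeniusComplement E ∧
        ∀ e ∈ E, e ≠ 1 → Cfsg.fittingHall G ⊓ Subgroup.centralizer ({e} : Set G) = ⊥) ∧
      Group.IsNilpotent (G ⧸ Cfsg.fittingHall G) := by
  have hFnil : Group.IsNilpotent (Cfsg.fittingHall G) := fittingHall_isNilpotent
  have hPF : (P : Subgroup G) ≤ Cfsg.fittingHall G := sylow_le_fittingHall p P hPn
  have hF1 : Cfsg.fittingHall G ≠ ⊥ := by
    intro h
    rw [h, le_bot_iff] at hPF
    exact hP1 hPF
  have hF2 : Cfsg.fittingHall G ≠ ⊤ := by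
    intro h
    apply hnn
    rw [h] at hFnil
    exact (Group.isNilpotent_congr Subgroup.topEquiv).mp hFnil
  obtain ⟨E, hE⟩ := Subgroup.exists_right_complement'_of_coprime
    (Cfsg.Agent.Lib.Helper10.fittingHall_coprime (M := G))
  have hdisj : ∀ g : G, g ∈ Cfsg.fittingHall G → g ∈ E → g = 1 := by
    intro g h1 h2
    exact Subgroup.disjoint_def.mp hE.disjoint h1 h2
  have hfpf : ∀ e ∈ E, e ≠ 1 → ∀ f ∈ Cfsg.fittingHall G, e * f = f * e → f = 1 := by
    intro e heE he1 f hfF hef
    by_contra hf1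
    exact fittingHall_fpf hCN E hE e heE he1 f hfF hf1 hef
  have hcop : (Nat.card (Cfsg.fittingHall G)).Coprime (Nat.card E) := by
    rw [← hE.symm.index_eq_card]
    exact Cfsg.Agent.Lib.Helper10.fittingHall_coprime
  -- E nilpotent via the action on the center of P
  have hEnil : Group.IsNilpotent E := by
    set N : Subgroup G := (Subgroup.center (P : Subgroup G)).map (P : Subgroup G).subtype with hN
    have hNn : N.Normal := inferInstance
    have hNP : N ≤ (P : Subgroup G) := by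
      rintro _ ⟨x, _, rfl⟩
      exact x.2
    have hfp : FpfOn E N := by
      refine ⟨hCN, hNn, ?_, ?_, ?_, ?_⟩
      · rintro _ ⟨a, ha, rfl⟩ _ ⟨b, hb, rfl⟩
        have := congrArg Subtype.val (Subgroup.mem_center_iff.mp ha b)
        simpa using this.symm
      · obtain ⟨z, hzP, hz1, hzc⟩ := exists_center_element (P : Subgroup G) p P.isPGroup' hP1
        intro h
        have hzN : z ∈ N := by
          refine ⟨⟨z, hzP⟩, ?_, rfl⟩
          rw [SetLike.mem_coe, Subgroup.mem_center_iff]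
          intro w
          apply Subtype.ext
          simpa using hzc w w.2
        rw [h, Subgroup.mem_bot] at hzN
        exact hz1 hzN
      · intro e heE he1 u hu hfix
        apply hfpf e heE he1 u (hPF (hNP hu))
        calc e * u = (e * u * e⁻¹) * e := by group
          _ = u * e := by rw [hfix]
      · apply Nat.Coprime.of_dvd_right (Subgroup.card_dvd_of_le (hNP.trans hPF))
        exact hcop.symm
    exact hfp.isNilpotent
  refine ⟨hF1, hF2, ⟨E, hE, ⟨?_, ?_, ?_⟩, ?_⟩, ?_⟩
  · intro h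
    apply hF2
    have := hE.sup_eq_top
    rwa [h, sup_bot_eq] at this
  · intro h
    apply hF1
    have := hE.disjoint.eq_bot
    rwa [h, inf_top_eq] at this
  · intro g hg
    rw [eq_bot_iff]
    rintro x ⟨hxE, hxg⟩
    rw [Subgroup.mem_bot]
    obtain ⟨e1, he1, rfl⟩ := (Subgroup.mem_smul_pointwise_iff_exists _ _ _).mp hxg
    simp only [MulAut.smul_def, MulAut.conj_apply] at hxE ⊢
    -- write g = f * e0
    obtain ⟨⟨⟨f, hf⟩, ⟨e0, he0⟩⟩, hfe, -⟩ := hE.existsUnique g
    simp only at hfe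
    have hf1 : f ≠ 1 := by
      intro h
      apply hg
      rw [← hfe, h, one_mul]; exact he0
    set e2 := e0 * e1 * e0⁻¹ with he2
    have he2E : e2 ∈ E := E.mul_mem (E.mul_mem he0 he1) (E.inv_mem he0)
    have hx : g * e1 * g⁻¹ = f * e2 * f⁻¹ := by rw [← hfe, he2]; group
    rw [hx] at hxE ⊢
    have h1 : f * e2 * f⁻¹ * e2⁻¹ ∈ Cfsg.fittingHall G := by
      have : f * e2 * f⁻¹ * e2⁻¹ = f * (e2 * f⁻¹ * e2⁻¹) := by group
      rw [this]
      exact Subgroup.mul_mem _ hf
        ((Cfsg.fittingHall_normal G).conj_mem f⁻¹ (Subgroup.inv_mem _ hf) e2)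
    have h2 : f * e2 * f⁻¹ * e2⁻¹ ∈ E := E.mul_mem hxE (E.inv_mem he2E)
    have h3 := hdisj _ h1 h2
    have h4 : e2 * f = f * e2 := by
      have : f * e2 = (f * e2 * f⁻¹ * e2⁻¹) * (e2 * f) := by group
      rw [this, h3, one_mul]
    by_cases he21 : e2 = 1
    · rw [he21]; group
    · exact absurd (hfpf e2 he2E he21 f hf h4) hf1
  · intro e heE he1
    rw [eq_bot_iff]
    rintro f ⟨hfF, hfc⟩
    rw [Subgroup.mem_bot]
    apply hfpf e heE he1 f hfF
    have hfc' : f ∈ Subgroup.centralizer ({e} : Set G) := hfc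
    rw [mem_centralizer_singleton_iff] at hfc'
    exact hfc'.symm
  · exact (Group.isNilpotent_congr hE.symm.QuotientMulEquiv).mpr hEnil

end

end Cfsg.Agent.Lib.Helper11
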