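import Mathlib
import Cfsg.Agent.Lib.Helper13.BG14L
import Cfsg.Agent.Lib.Helper28.BGtT
import Cfsg.Agent.Lib.Helper21.BG13q
import Cfsg.Agent.Lib.Helper21.BG13v
import Cfsg.Agent.Lib.Helper21.BG13z
import Cfsg.Agent.Lib.Helper21.BG14a
import Cfsg.Agent.Lib.Helper10.ThirteenTwo
import Cfsg.Agent.Lib.Helper11.ExcF
import Cfsg.Agent.S1378
import Cfsg.Agent.S1404
import Cfsg.Agent.S1420
import Cfsg.Agent.S1429

set_option autoImplicit false

/-! Bridge from the nonregular configuration of B & G Lemma 13.10 to the cycle of maximal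
subgroups used in the counting argument (helper11), part A: general lemmas. -/

namespace Cfsg.Agent.Lib.Helper11.CaCycA

open Cfsg Cfsg.Agent.Lib.Helper18 Cfsg.Agent.Lib.Helper28.BGt

variable {G : Type*} [Group G] [Finite G]

/-- the centralizer of an element is contained in the centralizer of each of its powers -/
theorem centralizer_le_centralizer_pow (x : G) (j : ℕ) :
    Subgroup.centralizer ({x} : Set G) ≤ Subgroup.centralizer ({x ^ j} : Set G) := by
  intro c hc
  rw [Subgroup.mem_centralizer_iff] at hc ⊢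
  intro z hz
  rw [Set.mem_singleton_iff] at hz
  subst hz
  have h1 : Commute x c := hc x (Set.mem_singleton x)
  exact (h1.pow_left j).eq

/-- the centralizer of an element normalizes the cyclic group it generates -/
theorem centralizer_le_normalizer_zpowers (x : G) :
    Subgroup.centralizer ({x} : Set G) ≤ Subgroup.normalizer ((Subgroup.zpowers x : Subgroup G) : Set G) :=
  (centralizer_singleton_le_zpowers x).trans (Subgroup.centralizer_le_normalizer _)

/-- a proper nontrivial subgroup of `G` has its normalizer inside a maximal subgroup -/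
theorem exists_coatom_normalizer (hG : Cfsg.IsMinSimpleOddOrder G) {X M : Subgroup G}
    (hM : IsCoatom M) (hXM : X ≤ M) (hX1 : X ≠ ⊥) :
    ∃ L : Subgroup G, IsCoatom L ∧ Subgroup.normalizer (X : Set G) ≤ L := by
  haveI : IsSimpleGroup G := hG.2.1
  have hXtop : X ≠ ⊤ := fun h => hM.1 (top_le_iff.mp (h ▸ hXM))
  exact Cfsg.Agent.Lib.Helper11.BenderE.exists_coatom_ge _
    (Cfsg.Agent.Lib.Helper11.normalizer_ne_top_of_simple hX1 hXtop)

/-- **rank lemma**: an element `y ∈ L` of prime order `q ∉ σ(L)` centralizing a nonidentity element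
of `L_σ`, whose centralizer lies in another maximal subgroup, forces `L` to have `q`-rank one -/
theorem rank_one_of_cent_le (hG : Cfsg.IsMinSimpleOddOrder G) {L M : Subgroup G} (hL : IsCoatom L)
    (hM : IsCoatom M) (hLM : L ≠ M) {q : ℕ} [hq : Fact q.Prime] (hqσ : q ∉ Cfsg.sigma L)
    {y : G} (hyL : y ∈ L) (hyo : orderOf y = q) {x : G} (hx : x ∈ Cfsg.sigmaCore L) (hx1 : x ≠ 1)
    (hxy : y * x = x * y) (hC : Subgroup.centralizer ({y} : Set G) ≤ M) :
    Cfsg.PRankLE q 1 ↥L := by
  by_contra hr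
  have hqτ : q ∈ Cfsg.tau2 L := by
    refine ⟨hq.out, hqσ, ?_, hr⟩
    by_contra h
    exact hqσ (Cfsg.Agent.Lib.Helper11.BenderN.alpha_sub_sigma hG L hL q ⟨hq.out, h⟩)
  have hy1 : y ≠ 1 := by
    intro h
    rw [h, orderOf_one] at hyo
    exact hq.out.one_lt.ne hyo
  obtain ⟨E, hE, -⟩ := exists_compl_ge hG hL (Y := ⊥) bot_le (by
    intro t ht htd
    rw [Subgroup.card_bot] at htd
    exact absurd (Nat.dvd_one.mp htd) ht.one_lt.ne')
  obtain ⟨-, hu⟩ := (Cfsg.Agent.S1420.result hG L hL E hE).2.2.2 y hyL hy1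
    (by
      intro t ht htd
      rw [hyo] at htd
      rw [(Nat.prime_dvd_prime_iff_eq ht hq.out).mp htd]
      exact hqτ)
    ⟨hyL, x, hx, hx1, hxy⟩
  exact hLM (hu M hM hC).symm

/-- **conjugacy lemma**: if `r ∈ σ(L) ∩ σ(L')`, `X ≤ L` is a nontrivial `r`-subgroup and
`N_G(X) ≤ L'`, then `L' = L` -/
theorem eq_of_sigma_of_normalizer_le (hG : Cfsg.IsMinSimpleOddOrder G) {L L' : Subgroup G}
    (hL : IsCoatom L) (hL' : IsCoatom L') {r : ℕ} [hr : Fact r.Prime] (hrL : r ∈ Cfsg.sigma L)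
    (hrL' : r ∈ Cfsg.sigma L') {X : Subgroup G} (hXr : IsPGroup r X) (hX1 : X ≠ ⊥) (hXL : X ≤ L)
    (hN : Subgroup.normalizer (X : Set G) ≤ L') : L' = L := by
  obtain ⟨g, hg⟩ := (Cfsg.Agent.S1378.result hG).2 L L' hL hL' ⟨r, hrL, hrL'⟩
  have hXL' : X ≤ L' := Subgroup.le_normalizer.trans hN
  have h1 : X.map (MulAut.conj g⁻¹).toMonoidHom ≤ L := by
    have h2 : Helper18.conjSub g⁻¹ X ≤ Helper18.conjSub g⁻¹ L' := Helper18.conjSub_mono hXL'
    have h3 : Helper18.conjSub g⁻¹ L' = L := by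
      rw [hg]
      show Helper18.conjSub g⁻¹ (Helper18.conjSub g L) = L
      rw [Helper18.conjSub_mul, inv_mul_cancel, Helper18.conjSub_one]
    rw [h3] at h2
    exact h2
  obtain ⟨m, hm, c, hc, hgmc⟩ := (Cfsg.Agent.S1404.result hG L hL r hrL X hXr hX1 hXL).1 g⁻¹ h1
  have hgc : g = c⁻¹ * m⁻¹ := by
    have : g = (g⁻¹)⁻¹ := (inv_inv g).symm
    rw [this, hgmc, mul_inv_rev]
  have hLc : L' = Helper18.conjSub c⁻¹ L := by
    rw [hg]
    show Helper18.conjSub g L = Helper18.conjSub c⁻¹ L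
    rw [hgc, ← Helper18.conjSub_mul]
    congr 1
    exact Helper18.conjSub_eq_of_mem_normalizer (Subgroup.le_normalizer (L.inv_mem hm))
  have hcL : c⁻¹ ∈ L' :=
    L'.inv_mem (hN ((Subgroup.centralizer_le_normalizer _) hc))
  rw [hLc, Helper18.mem_conjSub] at hcL
  have hcM : c⁻¹ ∈ L := by
    have : (c⁻¹)⁻¹ * c⁻¹ * c⁻¹ = c⁻¹ := by group
    rw [this] at hcL
    exact hcL
  rw [hLc]
  exact Helper18.conjSub_eq_of_mem_normalizer (Subgroup.le_normalizer hcM)

omit [Finite G] in
/-- in a product `Y E` of two commuting subgroups of coprime orders, an element whose order is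
coprime to `|Y|` lies in `E` -/
theorem mem_right_of_coprime [Finite G] {Y E : Subgroup G}
    (hc : ∀ y ∈ Y, ∀ e ∈ E, y * e = e * y) {x : G} (hx : x ∈ Y ⊔ E)
    (hcop : (orderOf x).Coprime (Nat.card Y)) (hYE : (Nat.card E).Coprime (Nat.card Y)) :
    x ∈ E := by
  have hEN : E ≤ Subgroup.normalizer (Y : Set G) := by
    intro e he
    rw [Subgroup.mem_normalizer_iff]
    intro y
    constructor
    · intro hy
      have : e * y * e⁻¹ = y := by rw [← hc y hy e he]; group
      rw [this]; exact hy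
    · intro hy
      have h1 : e * y * e⁻¹ * e = e * (e * y * e⁻¹) := (hc _ hy e he)
      have : y = e * y * e⁻¹ := by
        have h2 : e * y = e * (e * y * e⁻¹) := by
          calc e * y = e * y * e⁻¹ * e := by group
            _ = e * (e * y * e⁻¹) := h1
        exact mul_left_cancel h2
      rw [this]; exact hy
  obtain ⟨y, hy, e, he, rfl⟩ :=
    Cfsg.Agent.Lib.Helper11.ExcF.exists_mul_of_mem_sup Y E hEN x hx
  have hcomm : Commute y e := hc y hy e he
  -- `y ^ (orderOf (y*e) * card E) = 1`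
  have h1 : y ^ (orderOf (y * e) * Nat.card E) = 1 := by
    have h2 : (y * e) ^ (orderOf (y * e) * Nat.card E) = 1 := by
      rw [pow_mul, pow_orderOf_eq_one, one_pow]
    rw [hcomm.mul_pow] at h2
    have h3 : e ^ (orderOf (y * e) * Nat.card E) = 1 := by
      rw [mul_comm, pow_mul]
      have : e ^ Nat.card E = 1 := pow_card_eq_one_of_mem he
      rw [this, one_pow]
    rw [h3, mul_one] at h2
    exact h2
  have h2 : y ^ Nat.card Y = 1 := pow_card_eq_one_of_mem hy
  have h3 : orderOf y ∣ Nat.gcd (orderOf (y * e) * Nat.card E) (Nat.card Y) :=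
    Nat.dvd_gcd (orderOf_dvd_of_pow_eq_one h1) (orderOf_dvd_of_pow_eq_one h2)
  have h4 : Nat.gcd (orderOf (y * e) * Nat.card E) (Nat.card Y) = 1 :=
    Nat.Coprime.mul_left hcop hYE
  rw [h4, Nat.dvd_one, orderOf_eq_one_iff] at h3
  rw [h3, one_mul]
  exact he

end Cfsg.Agent.Lib.Helper11.CaCycA
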