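import Mathlib
import Cfsg.Agent.Lib.Helper11.CaCycA

set_option autoImplicit false

/-! Bridge from the nonregular configuration of B & G Lemma 13.10 to the cycle of maximal
subgroups used in the counting argument (helper11), part B: the configuration and the
maximal subgroups over the normalizers of the subgroups of prime order of `E`. -/

namespace Cfsg.Agent.Lib.Helper11.CaCycB

open Cfsg Cfsg.Agent.Lib.Helper18 Cfsg.Agent.Lib.Helper28.BGt Cfsg.Agent.Lib.Helper13.BG14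
  Cfsg.Agent.Lib.Helper11.CaCycA

variable {G : Type*} [Group G] [Finite G]

/-- `Y = C_{M_σ}(E)` -/
def Ysub (M E : Subgroup G) : Subgroup G :=
  Cfsg.sigmaCore M ⊓ Subgroup.centralizer (E : Set G)

/-- `T = Y E` -/
def Tsub (M E : Subgroup G) : Subgroup G := Ysub M E ⊔ E

omit [Finite G] in
/-- a group of prime order: a generator -/
theorem gen_of_card_prime {X : Subgroup G} {r : ℕ} [hr : Fact r.Prime] (hXc : Nat.card X = r) :
    ∃ x ∈ X, x ≠ 1 ∧ orderOf x = r ∧ Subgroup.zpowers x = X := by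
  have hX1 : X ≠ ⊥ := ne_bot_of_card_prime' hr.out hXc
  obtain ⟨x, hxX, hx1⟩ := exists_ne_one_of_ne_bot' hX1
  have hz : Subgroup.zpowers x = X := zpowers_eq_of_card_prime hXc hxX hx1
  refine ⟨x, hxX, hx1, ?_, hz⟩
  rw [← Nat.card_zpowers, hz, hXc]

omit [Finite G] in
/-- a nonidentity element of finite order has a power of prime order -/
theorem exists_pow_prime_order [Finite G] {y : G} (hy1 : y ≠ 1) :
    ∃ (j q : ℕ), q.Prime ∧ orderOf (y ^ j) = q := by
  have h1 : orderOf y ≠ 1 := fun h => hy1 (orderOf_eq_one_iff.mp h)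
  obtain ⟨q, hq, hqd⟩ := Nat.exists_prime_and_dvd h1
  exact ⟨orderOf y / q, q, hq, orderOf_pow_orderOf_div (orderOf_pos y).ne' hqd⟩

/-- the nonregular configuration: `p ∈ κ(M) ∩ τ₃(M)`, together with the structure lemma 13.10
for every maximal subgroup -/
structure Cy (M E : Subgroup G) (p : ℕ) : Prop where
  hG : Cfsg.IsMinSimpleOddOrder G
  nr : ∀ L : Subgroup G, IsCoatom L → Nonreg1310 L
  hM : IsCoatom M
  hE : Cfsg.IsComplIn E (Cfsg.sigmaCore M) M
  hpκ : p ∈ Cfsg.kappa M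
  hp3 : p ∈ Cfsg.tau3 M

namespace Cy

variable {M E : Subgroup G} {p : ℕ}

theorem kE (c : Cy M E p) : ∀ q : ℕ, q.Prime → q ∣ Nat.card E → q ∈ Cfsg.kappa M :=
  (c.nr M c.hM E p c.hE c.hpκ c.hp3).1

theorem pa (c : Cy M E p) : ∀ e ∈ E, e ≠ 1 →
    Cfsg.sigmaCore M ⊓ Subgroup.centralizer ({e} : Set G) = Ysub M E :=
  (c.nr M c.hM E p c.hE c.hpκ c.hp3).2.1

theorem nml (c : Cy M E p) : ∀ X : Subgroup G, X ≤ E → (Nat.card X).Prime →
    E ≤ Subgroup.normalizer (X : Set G) :=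
  (c.nr M c.hM E p c.hE c.hpκ c.hp3).2.2

theorem hEM (c : Cy M E p) : E ≤ M := c.hE.1

theorem Y_le_sigmaCore (_c : Cy M E p) : Ysub M E ≤ Cfsg.sigmaCore M := inf_le_left

theorem Y_le_cent (_c : Cy M E p) : Ysub M E ≤ Subgroup.centralizer (E : Set G) := inf_le_right

theorem Y_le_M (c : Cy M E p) : Ysub M E ≤ M := c.Y_le_sigmaCore.trans (sigmaCore_le M)

theorem T_le_M (c : Cy M E p) : Tsub M E ≤ M := sup_le c.Y_le_M c.hEM

theorem comm_YE (c : Cy M E p) {y e : G} (hy : y ∈ Ysub M E) (he : e ∈ E) : y * e = e * y :=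
  ((Subgroup.mem_centralizer_iff.mp (c.Y_le_cent hy)) e he).symm

theorem prime_Y (c : Cy M E p) {q : ℕ} (hq : q.Prime) (hqd : q ∣ Nat.card (Ysub M E)) :
    q ∈ Cfsg.sigma M :=
  prime_sigmaCore c.hG c.hM hq (hqd.trans (Subgroup.card_dvd_of_le c.Y_le_sigmaCore))

theorem coprime_EY (c : Cy M E p) : (Nat.card E).Coprime (Nat.card (Ysub M E)) := by
  apply Nat.coprime_of_dvd
  intro q hq hqE hqY
  exact compl_prime_not_sigma c.hG c.hM c.hE hq hqE (c.prime_Y hq hqY)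

/-- data of a subgroup of prime order of `E` -/
theorem sub_kappa (c : Cy M E p) {X : Subgroup G} {r : ℕ} [hr : Fact r.Prime] (hXE : X ≤ E)
    (hXc : Nat.card X = r) : r ∈ Cfsg.kappa M :=
  c.kE r hr.out (hXc ▸ Subgroup.card_dvd_of_le hXE)

theorem exists_P (c : Cy M E p) : ∃ P : Subgroup G, P ≤ E ∧ Nat.card P = p := by
  haveI : Fact p.Prime := ⟨c.hpκ.1⟩
  apply Cfsg.Agent.Lib.Helper18.BGThirteenA.exists_card_prime_le E p
  have h1 : p ∣ Nat.card M := c.hpκ.2.1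
  rw [card_compl c.hE] at h1
  rcases (Nat.Prime.dvd_mul c.hpκ.1).mp h1 with h | h
  · exact absurd (prime_sigmaCore c.hG c.hM c.hpκ.1 h) c.hpκ.2.2.1
  · exact h

theorem Y_ne_bot (c : Cy M E p) : Ysub M E ≠ ⊥ := by
  haveI : Fact p.Prime := ⟨c.hpκ.1⟩
  obtain ⟨P, hPE, hPc⟩ := c.exists_P
  obtain ⟨x, hxP, hx1, -, -⟩ := gen_of_card_prime hPc
  have h1 := bg14_kappa_fixed_sub c.hpκ (hPE.trans c.hEM) hPc
  intro hbot
  apply h1
  rw [eq_bot_iff, ← hbot, ← c.pa x (hPE hxP) hx1]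
  exact inf_le_inf_left _ (Subgroup.centralizer_le (by simpa using hxP))

theorem tau2_empty (c : Cy M E p) (r : ℕ) : r ∉ Cfsg.tau2 M := by
  haveI : Fact p.Prime := ⟨c.hpκ.1⟩
  obtain ⟨P, hPE, hPc⟩ := c.exists_P
  exact Cfsg.Agent.Lib.Helper21.BG13s.tau2_empty_of_tau3_kappa c.hG c.hM c.hE c.hp3 hPE hPc
    (bg14_kappa_fixed_sub c.hpκ (hPE.trans c.hEM) hPc) r

/-- `C_{M_σ}(X) = Y` for `X ≤ E` nontrivial -/
theorem cent_sub (c : Cy M E p) {X : Subgroup G} (hXE : X ≤ E) (hX1 : X ≠ ⊥) :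
    Cfsg.sigmaCore M ⊓ Subgroup.centralizer (X : Set G) = Ysub M E := by
  obtain ⟨x, hxX, hx1⟩ := exists_ne_one_of_ne_bot' hX1
  apply le_antisymm
  · rw [← c.pa x (hXE hxX) hx1]
    exact inf_le_inf_left _ (Subgroup.centralizer_le (by simpa using hxX))
  · exact inf_le_inf_left _ (Subgroup.centralizer_le (by exact_mod_cast hXE))

/-! ### elements of prime order of `Y` -/

section Yelt

variable {y : G} {q : ℕ} [hq : Fact q.Prime]

/-- `M` is the only maximal subgroup over the normalizer of `⟨y⟩` -/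
theorem Y_unique (c : Cy M E p) (hy : y ∈ Ysub M E) (hyo : orderOf y = q) {L : Subgroup G}
    (hL : IsCoatom L)
    (hN : Subgroup.normalizer ((Subgroup.zpowers y : Subgroup G) : Set G) ≤ L) : L = M := by
  haveI : Fact p.Prime := ⟨c.hpκ.1⟩
  obtain ⟨P, hPE, hPc⟩ := c.exists_P
  have hzc : Nat.card (Subgroup.zpowers y) = q := by rw [Nat.card_zpowers, hyo]
  refine eq_of_normalizer_le_of_kappa_cent c.hG c.hM c.hpκ.2.2.1 (bg14_pRankLE_one_of_kappa c.hpκ)
    hPc (hPE.trans c.hEM) hzc ?_ ?_ hL hN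
  · rw [Subgroup.zpowers_le]; exact c.Y_le_sigmaCore hy
  · rw [Subgroup.zpowers_le]
    exact Subgroup.centralizer_le (by exact_mod_cast hPE) (c.Y_le_cent hy)

theorem y_ne_one (_c : Cy M E p) (hyo : orderOf y = q) : y ≠ 1 := by
  intro h
  rw [h, orderOf_one] at hyo
  exact hq.out.one_lt.ne hyo

theorem Y_normalizer_le (c : Cy M E p) (hy : y ∈ Ysub M E) (hyo : orderOf y = q) :
    Subgroup.normalizer ((Subgroup.zpowers y : Subgroup G) : Set G) ≤ M := by
  have hz1 : Subgroup.zpowers y ≠ ⊥ := by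
    rw [Ne, Subgroup.zpowers_eq_bot]; exact c.y_ne_one hyo
  obtain ⟨L, hL, hN⟩ := exists_coatom_normalizer c.hG c.hM
    (show Subgroup.zpowers y ≤ M by rw [Subgroup.zpowers_le]; exact c.Y_le_M hy) hz1
  rw [← c.Y_unique hy hyo hL hN]
  exact hN

theorem Y_cent_le (c : Cy M E p) (hy : y ∈ Ysub M E) (hyo : orderOf y = q) :
    Subgroup.centralizer ({y} : Set G) ≤ M :=
  (centralizer_le_normalizer_zpowers y).trans (c.Y_normalizer_le hy hyo)

end Yelt

/-- there is an element of prime order in `Y` -/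
theorem exists_y (c : Cy M E p) : ∃ (y : G) (q : ℕ), q.Prime ∧ y ∈ Ysub M E ∧ orderOf y = q := by
  obtain ⟨y0, hy0, hy01⟩ := exists_ne_one_of_ne_bot' c.Y_ne_bot
  obtain ⟨j, q, hq, hjo⟩ := exists_pow_prime_order hy01
  exact ⟨y0 ^ j, q, hq, Subgroup.pow_mem _ hy0 j, hjo⟩

/-! ### a maximal subgroup over the normalizer of a subgroup of prime order of `E` -/

section Partner

variable {X L : Subgroup G} {r : ℕ} [hr : Fact r.Prime]

theorem partner_star (c : Cy M E p) (hXE : X ≤ E) (hXc : Nat.card X = r) (hL : IsCoatom L)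
    (hN : Subgroup.normalizer (X : Set G) ≤ L) :
    (∀ g : G, L ≠ Helper18.conjSub g M) ∧ r ∈ Cfsg.sigma L ∧ X ≤ Cfsg.sigmaCore L :=
  bg14_star_sigmaCore c.hG c.hM hL (c.sub_kappa hXE hXc) (hXE.trans c.hEM) hXc hN

theorem partner_ne (c : Cy M E p) (hXE : X ≤ E) (hXc : Nat.card X = r) (hL : IsCoatom L)
    (hN : Subgroup.normalizer (X : Set G) ≤ L) : L ≠ M := by
  intro h
  apply (c.partner_star hXE hXc hL hN).1 1
  rw [Helper18.conjSub_one]; exact h

theorem partner_E_le (c : Cy M E p) (hXE : X ≤ E) (hXc : Nat.card X = r)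
    (hN : Subgroup.normalizer (X : Set G) ≤ L) : E ≤ L :=
  (c.nml X hXE (hXc ▸ hr.out)).trans hN

theorem partner_Y_le (c : Cy M E p) (hXE : X ≤ E)
    (hN : Subgroup.normalizer (X : Set G) ≤ L) : Ysub M E ≤ L := by
  intro y hy
  apply hN
  apply Subgroup.centralizer_le_normalizer
  exact Subgroup.centralizer_le (by exact_mod_cast hXE) (c.Y_le_cent hy)

theorem partner_T_le (c : Cy M E p) (hXE : X ≤ E) (hXc : Nat.card X = r)
    (hN : Subgroup.normalizer (X : Set G) ≤ L) : Tsub M E ≤ L :=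
  sup_le (c.partner_Y_le hXE hN) (c.partner_E_le hXE hXc hN)

theorem partner_inf_sigma (c : Cy M E p) (hXE : X ≤ E) (hXc : Nat.card X = r) (hL : IsCoatom L)
    (hN : Subgroup.normalizer (X : Set G) ≤ L) : Cfsg.sigmaCore M ⊓ L = Ysub M E := by
  have hκ := c.sub_kappa hXE hXc
  have hX1 : X ≠ ⊥ := ne_bot_of_card_prime' hr.out hXc
  rw [Cfsg.Agent.Lib.Helper10.ThirteenTwo.inf_eq_cent c.hG c.hM hL hκ.2.2.1
    (bg14_pRankLE_one_of_kappa hκ) (IsPGroup.of_card (n := 1) (by rw [hXc, pow_one])) hX1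
    (hXE.trans c.hEM) hN]
  exact c.cent_sub hXE hX1

theorem partner_inf (c : Cy M E p) (hXE : X ≤ E) (hXc : Nat.card X = r) (hL : IsCoatom L)
    (hN : Subgroup.normalizer (X : Set G) ≤ L) : M ⊓ L = Tsub M E := by
  apply le_antisymm
  · rintro m ⟨hmM, hmL⟩
    obtain ⟨e, he, s, hs, rfl⟩ := c.hE.2.2.2 m hmM
    have heL : e ∈ L := c.partner_E_le hXE hXc hN he
    have hsL : s ∈ L := by
      have : s = e⁻¹ * (e * s) := by group
      rw [this]
      exact L.mul_mem (L.inv_mem heL) hmL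
    have hsY : s ∈ Ysub M E := by
      rw [← c.partner_inf_sigma hXE hXc hL hN]
      exact ⟨hs, hsL⟩
    exact Subgroup.mul_mem _ (Subgroup.mem_sup_right he) (Subgroup.mem_sup_left hsY)
  · exact le_inf c.T_le_M (c.partner_T_le hXE hXc hN)

section Yq

variable {y : G} {q : ℕ} [hq : Fact q.Prime]

theorem partner_q_not_sigma (c : Cy M E p) (hXE : X ≤ E) (hXc : Nat.card X = r) (hL : IsCoatom L)
    (hN : Subgroup.normalizer (X : Set G) ≤ L) (hy : y ∈ Ysub M E) (hyo : orderOf y = q) :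
    q ∉ Cfsg.sigma L := by
  apply Cfsg.Agent.Lib.Helper21.BG13z.not_sigma_of_nonconj c.hG c.hM hL
    (c.partner_star hXE hXc hL hN).1
  apply c.prime_Y hq.out
  rw [← hyo]
  exact Subgroup.orderOf_dvd_natCard _ hy

theorem partner_q_rank (c : Cy M E p) (hXE : X ≤ E) (hXc : Nat.card X = r) (hL : IsCoatom L)
    (hN : Subgroup.normalizer (X : Set G) ≤ L) (hy : y ∈ Ysub M E) (hyo : orderOf y = q) :
    Cfsg.PRankLE q 1 ↥L := by
  obtain ⟨x, hxX, hx1, -, -⟩ := gen_of_card_prime hXc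
  exact rank_one_of_cent_le c.hG hL c.hM (c.partner_ne hXE hXc hL hN)
    (c.partner_q_not_sigma hXE hXc hL hN hy hyo) (c.partner_Y_le hXE hN hy) hyo
    ((c.partner_star hXE hXc hL hN).2.2 hxX) hx1 (c.comm_YE hy (hXE hxX)) (c.Y_cent_le hy hyo)

theorem partner_q_kappa (c : Cy M E p) (hXE : X ≤ E) (hXc : Nat.card X = r) (hL : IsCoatom L)
    (hN : Subgroup.normalizer (X : Set G) ≤ L) (hy : y ∈ Ysub M E) (hyo : orderOf y = q) :
    q ∈ Cfsg.kappa L := by
  obtain ⟨x, hxX, hx1, -, -⟩ := gen_of_card_prime hXc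
  exact Cfsg.Agent.Lib.Helper21.BG13v.mem_kappa_of_witness c.hG
    (c.partner_q_not_sigma hXE hXc hL hN hy hyo) (c.partner_q_rank hXE hXc hL hN hy hyo)
    (c.partner_Y_le hXE hN hy) hyo ((c.partner_star hXE hXc hL hN).2.2 hxX) hx1
    (c.comm_YE hy (hXE hxX))

end Yq

/-- `L` is the only maximal subgroup over `N_G(X)` -/
theorem partner_unique (c : Cy M E p) (hXE : X ≤ E) (hXc : Nat.card X = r) (hL : IsCoatom L)
    (hN : Subgroup.normalizer (X : Set G) ≤ L) {L' : Subgroup G} (hL' : IsCoatom L')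
    (hN' : Subgroup.normalizer (X : Set G) ≤ L') : L' = L := by
  obtain ⟨y, q, hq, hy, hyo⟩ := c.exists_y
  haveI : Fact q.Prime := ⟨hq⟩
  have hzc : Nat.card (Subgroup.zpowers y) = q := by rw [Nat.card_zpowers, hyo]
  refine eq_of_normalizer_le_of_kappa_cent c.hG hL (c.partner_q_not_sigma hXE hXc hL hN hy hyo)
    (c.partner_q_rank hXE hXc hL hN hy hyo) hzc ?_ hXc (c.partner_star hXE hXc hL hN).2.2 ?_
    hL' hN'
  · rw [Subgroup.zpowers_le]; exact c.partner_Y_le hXE hN hy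
  · intro x hx
    rw [Subgroup.mem_centralizer_iff]
    intro z hz
    obtain ⟨i, rfl⟩ := Subgroup.mem_zpowers_iff.mp hz
    have h1 : Commute y x := c.comm_YE hy (hXE hx)
    exact (h1.zpow_left i).eq

end Partner

/-! ### two subgroups of prime order of `E` -/

section Two

variable {X X' L : Subgroup G} {r r' : ℕ} [hr : Fact r.Prime] [hr' : Fact r'.Prime]

/-- subgroups of distinct prime orders of `E` commute -/
theorem comm_sub (c : Cy M E p) (hXE : X ≤ E) (hXc : Nat.card X = r) (hX'E : X' ≤ E)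
    (hX'c : Nat.card X' = r') (hrr : r ≠ r') {x x' : G} (hx : x ∈ X) (hx' : x' ∈ X') :
    x * x' = x' * x := by
  apply commute_of_normalize_of_inf_eq_bot (H := X) (K := X')
    (hXE.trans (c.nml X' hX'E (hX'c ▸ hr'.out))) (hX'E.trans (c.nml X hXE (hXc ▸ hr.out))) _ hx hx'
  rw [eq_bot_iff]
  intro z hz
  rw [Subgroup.mem_bot, ← orderOf_eq_one_iff]
  have h1 : orderOf z ∣ r := by
    rw [← hXc]; exact Subgroup.orderOf_dvd_natCard _ hz.1
  have h2 : orderOf z ∣ r' := by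
    rw [← hX'c]; exact Subgroup.orderOf_dvd_natCard _ hz.2
  have h3 : Nat.gcd r r' = 1 := (Nat.coprime_primes hr.out hr'.out).mpr hrr
  exact Nat.dvd_one.mp (h3 ▸ Nat.dvd_gcd h1 h2)

/-- a prime of `E` in `σ(L)`: the normalizer of the subgroup of that order lies in `L` -/
theorem partner_normalizer_le (c : Cy M E p) (hXE : X ≤ E) (hXc : Nat.card X = r)
    (hL : IsCoatom L) (hN : Subgroup.normalizer (X : Set G) ≤ L) (hX'E : X' ≤ E)
    (hX'c : Nat.card X' = r') (hr'L : r' ∈ Cfsg.sigma L) :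
    Subgroup.normalizer (X' : Set G) ≤ L := by
  have hX'1 : X' ≠ ⊥ := ne_bot_of_card_prime' hr'.out hX'c
  obtain ⟨L', hL', hN'⟩ := exists_coatom_normalizer c.hG c.hM (hX'E.trans c.hEM) hX'1
  have h1 := (c.partner_star hX'E hX'c hL' hN').2.1
  have h2 : L' = L := eq_of_sigma_of_normalizer_le c.hG hL hL' hr'L h1
    (IsPGroup.of_card (n := 1) (by rw [hX'c, pow_one])) hX'1
    (hX'E.trans (c.partner_E_le hXE hXc hN)) hN'
  rw [← h2]; exact hN'

/-- a prime of `E` outside `σ(L)` has rank one in `L` -/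
theorem partner_rank' (c : Cy M E p) (hXE : X ≤ E) (hXc : Nat.card X = r)
    (hL : IsCoatom L) (hN : Subgroup.normalizer (X : Set G) ≤ L) (hX'E : X' ≤ E)
    (hX'c : Nat.card X' = r') (hr'L : r' ∉ Cfsg.sigma L) : Cfsg.PRankLE r' 1 ↥L := by
  have hX'1 : X' ≠ ⊥ := ne_bot_of_card_prime' hr'.out hX'c
  obtain ⟨L', hL', hN'⟩ := exists_coatom_normalizer c.hG c.hM (hX'E.trans c.hEM) hX'1
  have h1 := (c.partner_star hX'E hX'c hL' hN').2.1
  have hLL' : L ≠ L' := by
    intro h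
    rw [← h] at h1
    exact hr'L h1
  have hrr : r ≠ r' := by
    intro h
    apply hr'L
    rw [← h]
    exact (c.partner_star hXE hXc hL hN).2.1
  obtain ⟨x, hxX, hx1, -, -⟩ := gen_of_card_prime hXc
  obtain ⟨x', hx'X, -, hx'o, hx'z⟩ := gen_of_card_prime hX'c
  refine rank_one_of_cent_le c.hG hL hL' hLL' hr'L (c.partner_E_le hXE hXc hN (hX'E hx'X)) hx'o
    ((c.partner_star hXE hXc hL hN).2.2 hxX) hx1
    (c.comm_sub hXE hXc hX'E hX'c hrr hxX hx'X).symm ?_
  refine (centralizer_le_normalizer_zpowers x').trans ?_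
  rw [hx'z]; exact hN'

theorem partner_kappa' (c : Cy M E p) (hXE : X ≤ E) (hXc : Nat.card X = r)
    (hL : IsCoatom L) (hN : Subgroup.normalizer (X : Set G) ≤ L) (hX'E : X' ≤ E)
    (hX'c : Nat.card X' = r') (hr'L : r' ∉ Cfsg.sigma L) : r' ∈ Cfsg.kappa L := by
  have hrr : r ≠ r' := by
    intro h
    apply hr'L
    rw [← h]
    exact (c.partner_star hXE hXc hL hN).2.1
  obtain ⟨x, hxX, hx1, -, -⟩ := gen_of_card_prime hXc
  obtain ⟨x', hx'X, -, hx'o, -⟩ := gen_of_card_prime hX'c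
  exact Cfsg.Agent.Lib.Helper21.BG13v.mem_kappa_of_witness c.hG hr'L
    (c.partner_rank' hXE hXc hL hN hX'E hX'c hr'L) (c.partner_E_le hXE hXc hN (hX'E hx'X)) hx'o
    ((c.partner_star hXE hXc hL hN).2.2 hxX) hx1
    (c.comm_sub hXE hXc hX'E hX'c hrr hxX hx'X).symm

end Two

end Cy

end Cfsg.Agent.Lib.Helper11.CaCycB
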