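import Mathlib
import Cfsg.Agent.Lib.Helper11.CaCycB

set_option autoImplicit false
open scoped commutatorElement

/-! Bridge from the nonregular configuration of B & G Lemma 13.10 to the cycle of maximal
subgroups used in the counting argument (helper11), part C: the factorization `L = L_σ T` and the
intersections `L_σ ∩ L'`. -/

namespace Cfsg.Agent.Lib.Helper11.CaCycB

open Cfsg Cfsg.Agent.Lib.Helper18 Cfsg.Agent.Lib.Helper28.BGt Cfsg.Agent.Lib.Helper13.BG14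
  Cfsg.Agent.Lib.Helper11.CaCycA

variable {G : Type*} [Group G] [Finite G]

namespace Cy

variable {M E : Subgroup G} {p : ℕ}

section Partner

variable {X L : Subgroup G} {r : ℕ} [hr : Fact r.Prime] {y : G} {q : ℕ} [hq : Fact q.Prime]

/-- a complement of `L_σ` in `L` containing `y` and a given `σ(L)'`-subgroup of `E` -/
theorem exists_compl_two (c : Cy M E p) (hXE : X ≤ E) (hXc : Nat.card X = r) (hL : IsCoatom L)
    (hN : Subgroup.normalizer (X : Set G) ≤ L) (hy : y ∈ Ysub M E) (hyo : orderOf y = q)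
    {Z : Subgroup G} (hZE : Z ≤ E)
    (hZ : ∀ t : ℕ, t.Prime → t ∣ Nat.card Z → t ∉ Cfsg.sigma L) :
    ∃ E₂ : Subgroup G, Cfsg.IsComplIn E₂ (Cfsg.sigmaCore L) L ∧ y ∈ E₂ ∧ Z ≤ E₂ := by
  have hzL : Subgroup.zpowers y ≤ L := by
    rw [Subgroup.zpowers_le]; exact c.partner_Y_le hXE hN hy
  have hZL : Z ≤ L := hZE.trans (c.partner_E_le hXE hXc hN)
  have hZN : Z ≤ Subgroup.normalizer ((Subgroup.zpowers y : Subgroup G) : Set G) := by
    intro z hz
    apply centralizer_le_normalizer_zpowers y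
    rw [Subgroup.mem_centralizer_iff]
    intro w hw
    rw [Set.mem_singleton_iff] at hw
    subst hw
    exact c.comm_YE hy (hZE hz)
  obtain ⟨E₂, hE₂, hle⟩ := exists_compl_ge c.hG hL (Y := Subgroup.zpowers y ⊔ Z)
    (sup_le hzL hZL) (by
      intro t ht htd
      have h1 := htd.trans (Cfsg.Agent.Lib.Helper11.ThirteenB.card_sup_dvd _ _ hZN)
      rcases (Nat.Prime.dvd_mul ht).mp h1 with h | h
      · rw [Nat.card_zpowers, hyo] at h
        rw [(Nat.prime_dvd_prime_iff_eq ht hq.out).mp h]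
        exact c.partner_q_not_sigma hXE hXc hL hN hy hyo
      · exact hZ t ht h)
  exact ⟨E₂, hE₂, hle (Subgroup.mem_sup_left (Subgroup.mem_zpowers y)), le_sup_right.trans hle⟩

/-- the regular case: `p ∈ σ(L)` -/
theorem regular_p_sigma (c : Cy M E p) (hXE : X ≤ E) (hXc : Nat.card X = r) (hL : IsCoatom L)
    (hN : Subgroup.normalizer (X : Set G) ≤ L) (Hκ : ∀ t ∈ Cfsg.kappa L, t ∈ Cfsg.tau1 L)
    {P : Subgroup G} (hPE : P ≤ E) (hPc : Nat.card P = p) {x w : G} (hxE : x ∈ E) (hwP : w ∈ P)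
    (hxw : x * w ≠ w * x) : p ∈ Cfsg.sigma L := by
  haveI : Fact p.Prime := ⟨c.hpκ.1⟩
  by_contra hpσ
  have hκ := c.partner_kappa' hXE hXc hL hN hPE hPc hpσ
  have hτ := Hκ p hκ
  apply hτ.2.2.2.1
  have hEL := c.partner_E_le hXE hXc hN
  have hcm : ⁅x, w⁆ ∈ ⁅L, L⁆ := Subgroup.commutator_mem_commutator (hEL hxE) (hEL (hPE hwP))
  have hcP : ⁅x, w⁆ ∈ P := by
    rw [commutatorElement_def]
    exact P.mul_mem (conj_mem_of_le_normalizer (c.nml P hPE (hPc ▸ c.hpκ.1)) hxE hwP)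
      (P.inv_mem hwP)
  have hc1 : ⁅x, w⁆ ≠ 1 := by
    intro h
    apply hxw
    rw [commutatorElement_def] at h
    have : x * w = (x * w * x⁻¹ * w⁻¹) * (w * x) := by group
    rw [this, h, one_mul]
  have hco : orderOf ⁅x, w⁆ = p := by
    have h1 : orderOf ⁅x, w⁆ ∣ p := by
      rw [← hPc]; exact Subgroup.orderOf_dvd_natCard _ hcP
    rcases (Nat.dvd_prime c.hpκ.1).mp h1 with h | h
    · exact absurd (orderOf_eq_one_iff.mp h) hc1
    · exact h
  rw [← hco]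
  exact Subgroup.orderOf_dvd_natCard _ hcm

/-- the regular case: the prime of the moving element lies in `σ(L)` -/
theorem regular_r_sigma (c : Cy M E p) (hXE : X ≤ E) (hXc : Nat.card X = r) (hL : IsCoatom L)
    (hN : Subgroup.normalizer (X : Set G) ≤ L) (Hκ : ∀ t ∈ Cfsg.kappa L, t ∈ Cfsg.tau1 L)
    {P : Subgroup G} (hPE : P ≤ E) (hPc : Nat.card P = p) {x w : G} (hxE : x ∈ E) (hwP : w ∈ P)
    (hxw : x * w ≠ w * x) {r₀ k : ℕ} (hr₀ : r₀.Prime) (hxo : orderOf x = r₀ ^ (k + 1)) :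
    r₀ ∈ Cfsg.sigma L := by
  haveI : Fact p.Prime := ⟨c.hpκ.1⟩
  haveI : Fact r₀.Prime := ⟨hr₀⟩
  by_contra hrσ
  have hpσ := c.regular_p_sigma hXE hXc hL hN Hκ hPE hPc hxE hwP hxw
  obtain ⟨y, q, hq, hy, hyo⟩ := c.exists_y
  haveI : Fact q.Prime := ⟨hq⟩
  have hEL := c.partner_E_le hXE hXc hN
  -- the subgroup of order `r₀`
  have hx₀o : orderOf (x ^ r₀ ^ k) = r₀ :=
    Cfsg.Agent.Lib.Helper21.BG14a.orderOf_pow_primePow hr₀ hxo
  have hX₀E : Subgroup.zpowers (x ^ r₀ ^ k) ≤ E := by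
    rw [Subgroup.zpowers_le]; exact Subgroup.pow_mem _ hxE _
  have hX₀c : Nat.card (Subgroup.zpowers (x ^ r₀ ^ k)) = r₀ := by
    rw [Nat.card_zpowers, hx₀o]
  have hr₀τ : r₀ ∈ Cfsg.tau1 L := Hκ r₀ (c.partner_kappa' hXE hXc hL hN hX₀E hX₀c hrσ)
  have hqτ : q ∈ Cfsg.tau1 L := Hκ q (c.partner_q_kappa hXE hXc hL hN hy hyo)
  -- a complement containing `y` and `x`
  obtain ⟨E₂, hE₂, hyE₂, hxE₂⟩ := c.exists_compl_two hXE hXc hL hN hy hyo
    (Z := Subgroup.zpowers x) (by rw [Subgroup.zpowers_le]; exact hxE) (by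
      intro t ht htd
      rw [Nat.card_zpowers, hxo] at htd
      rw [(Nat.prime_dvd_prime_iff_eq ht hr₀).mp (ht.dvd_of_dvd_pow htd)]
      exact hrσ)
  have hxE₂' : x ∈ E₂ := hxE₂ (Subgroup.mem_zpowers x)
  have h1 := Cfsg.Agent.Lib.Helper21.BG14a.cent_primePow_elt c.hG hL hE₂ hr₀τ hxE₂' hxo
  have h2 := Cfsg.Agent.Lib.Helper21.BG14a.cent_prime_le c.hG hL hE₂ hqτ hyE₂
    (E₂.pow_mem hxE₂' _) hyo (by rw [hx₀o]; exact hr₀)
    (c.comm_YE hy (Subgroup.pow_mem _ hxE _))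
  have hwσ : w ∈ Cfsg.sigmaCore L := by
    apply pelem_mem_sigmaCore c.hG hL hpσ (hEL (hPE hwP)) (k := 1)
    rw [pow_one, ← hPc]
    exact pow_card_eq_one_of_mem hwP
  have hwy : w ∈ Subgroup.centralizer ({y} : Set G) := by
    rw [Subgroup.mem_centralizer_iff]
    intro z hz
    rw [Set.mem_singleton_iff] at hz
    subst hz
    exact c.comm_YE hy (hPE hwP)
  have h3 : w ∈ Cfsg.sigmaCore L ⊓ Subgroup.centralizer ({x} : Set G) := by
    rw [h1]
    exact h2 ⟨hwσ, hwy⟩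
  apply hxw
  exact (Subgroup.mem_centralizer_iff.mp h3.2) x (Set.mem_singleton x)

/-- the regular case: `L_σ` is not nilpotent -/
theorem regular_not_nilpotent (c : Cy M E p) (hXE : X ≤ E) (hXc : Nat.card X = r)
    (hL : IsCoatom L) (hN : Subgroup.normalizer (X : Set G) ≤ L)
    (Hκ : ∀ t ∈ Cfsg.kappa L, t ∈ Cfsg.tau1 L) : ¬ Group.IsNilpotent ↥(Cfsg.sigmaCore L) := by
  haveI : Fact p.Prime := ⟨c.hpκ.1⟩
  intro hnil
  obtain ⟨P, hPE, hPc⟩ := c.exists_P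
  obtain ⟨r₀, k, x, hr₀, hr₀p, hxE, hxo, hxP⟩ :=
    Cfsg.Agent.Lib.Helper21.BG13q.exists_moving_elt c.hG c.hM c.hE c.hp3 hPE hPc
  obtain ⟨w, hwP, hw1, hwo, -⟩ := gen_of_card_prime hPc
  have hxw : x * w ≠ w * x := by
    intro h
    exact hxP (mem_centralizer_of_prime_card c.hpκ.1 P hPc hwP hw1 h)
  have hEL := c.partner_E_le hXE hXc hN
  have hpσ := c.regular_p_sigma hXE hXc hL hN Hκ hPE hPc hxE hwP hxw
  have hrσ := c.regular_r_sigma hXE hXc hL hN Hκ hPE hPc hxE hwP hxw hr₀ hxo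
  have hwσ : w ∈ Cfsg.sigmaCore L := by
    apply pelem_mem_sigmaCore c.hG hL hpσ (hEL (hPE hwP)) (k := 1)
    rw [pow_one, ← hwo]
    exact pow_orderOf_eq_one w
  have hxσ : x ∈ Cfsg.sigmaCore L := by
    apply pelem_mem_sigmaCore c.hG hL hrσ (hEL hxE) (k := k + 1)
    rw [← hxo]
    exact pow_orderOf_eq_one x
  have hcop : (orderOf (⟨x, hxσ⟩ : ↥(Cfsg.sigmaCore L))).Coprime
      (orderOf (⟨w, hwσ⟩ : ↥(Cfsg.sigmaCore L))) := by
    rw [Subgroup.orderOf_mk, Subgroup.orderOf_mk, hxo, hwo]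
    apply Nat.Coprime.pow_left
    exact (Nat.coprime_primes hr₀ c.hpκ.1).mpr hr₀p
  have h1 := Cfsg.Agent.Lib.Helper11.commute_of_coprime_orderOf
    (⟨x, hxσ⟩ : ↥(Cfsg.sigmaCore L)) ⟨w, hwσ⟩ hcop
  apply hxw
  have := congrArg Subtype.val h1.eq
  simpa using this

/-- **the factorization**: `L_σ` has a complement in `L` contained in `M` -/
theorem partner_compl (c : Cy M E p) (hXE : X ≤ E) (hXc : Nat.card X = r) (hL : IsCoatom L)
    (hN : Subgroup.normalizer (X : Set G) ≤ L) :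
    ∃ E₂ : Subgroup G, Cfsg.IsComplIn E₂ (Cfsg.sigmaCore L) L ∧ E₂ ≤ M := by
  obtain ⟨y, q, hq, hy, hyo⟩ := c.exists_y
  haveI : Fact q.Prime := ⟨hq⟩
  obtain ⟨E₂, hE₂, hyE₂, -⟩ := c.exists_compl_two hXE hXc hL hN hy hyo (Z := ⊥) bot_le (by
    intro t ht htd
    rw [Subgroup.card_bot] at htd
    exact absurd (Nat.dvd_one.mp htd) ht.one_lt.ne')
  refine ⟨E₂, hE₂, ?_⟩
  by_cases Hκ : ∀ t ∈ Cfsg.kappa L, t ∈ Cfsg.tau1 L
  · -- regular case
    have hnn := c.regular_not_nilpotent hXE hXc hL hN Hκ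
    have hall : ∀ t : ℕ, t.Prime → t ∣ Nat.card L → t ∉ Cfsg.sigma L → t ∈ Cfsg.kappa L := by
      by_contra hP1
      have hP1' := hP1
      push Not at hP1'
      obtain ⟨t, ht, htd, htσ, htκ⟩ := hP1'
      haveI : Fact t.Prime := ⟨ht⟩
      obtain ⟨S⟩ : Nonempty (Sylow t ↥L) := inferInstance
      exact hnn (Cfsg.Agent.S1429.result c.hG L hL hP1 t htd
        (by rintro (h | h); exact htσ h; exact htκ h) S).2.2
    have hK : Cfsg.IsPiHallOf (Cfsg.kappa L) E₂ L := by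
      refine ⟨hE₂.1, ?_, ?_⟩
      · intro t ht htd
        exact hall t ht (htd.trans (Subgroup.card_dvd_of_le hE₂.1))
          (compl_prime_not_sigma c.hG hL hE₂ ht htd)
      · intro t ht htκ htd
        rw [relIndex_compl hE₂] at htd
        exact htκ.2.2.1 (prime_sigmaCore c.hG hL ht htd)
    have hcomm := Cfsg.Agent.Lib.Helper21.BG14a.kappa_hall_comm c.hG Hκ hK
    intro e he
    apply c.Y_cent_le hy hyo
    rw [Subgroup.mem_centralizer_iff]
    intro z hz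
    rw [Set.mem_singleton_iff] at hz
    subst hz
    exact hcomm z hyE₂ e he
  · -- nonregular case
    push Not at Hκ
    obtain ⟨t, htκ, ht1⟩ := Hκ
    have ht3 : t ∈ Cfsg.tau3 L := (bg14_kappa_cases htκ).resolve_left ht1
    have hzE₂ : Subgroup.zpowers y ≤ E₂ := by rw [Subgroup.zpowers_le]; exact hyE₂
    have h1 := (c.nr L hL E₂ t hE₂ htκ ht3).2.2 (Subgroup.zpowers y) hzE₂
      (by rw [Nat.card_zpowers, hyo]; exact hq)
    exact h1.trans (c.Y_normalizer_le hy hyo)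

end Partner

section Two

variable {X X' L L' : Subgroup G} {r r' : ℕ} [hr : Fact r.Prime] [hr' : Fact r'.Prime]

/-- distinct maximal subgroups over normalizers: `r' ∉ σ(L)` -/
theorem partner_not_sigma (c : Cy M E p) (hXE : X ≤ E) (hXc : Nat.card X = r)
    (hL : IsCoatom L) (hN : Subgroup.normalizer (X : Set G) ≤ L) (hX'E : X' ≤ E)
    (hX'c : Nat.card X' = r') (hL' : IsCoatom L')
    (hN' : Subgroup.normalizer (X' : Set G) ≤ L') (hLL' : L ≠ L') : r' ∉ Cfsg.sigma L := by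
  intro h
  have h1 := c.partner_normalizer_le hXE hXc hL hN hX'E hX'c h
  exact hLL' (c.partner_unique hX'E hX'c hL' hN' hL h1)

/-- **the intersections**: `L_σ ∩ L' ≤ T` -/
theorem partner_inf_le (c : Cy M E p) (hXE : X ≤ E) (hXc : Nat.card X = r)
    (hL : IsCoatom L) (hN : Subgroup.normalizer (X : Set G) ≤ L) (hX'E : X' ≤ E)
    (hX'c : Nat.card X' = r') (hL' : IsCoatom L')
    (hN' : Subgroup.normalizer (X' : Set G) ≤ L') (hLL' : L ≠ L') :
    Cfsg.sigmaCore L ⊓ L' ≤ Tsub M E := by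
  have hr'σ := c.partner_not_sigma hXE hXc hL hN hX'E hX'c hL' hN' hLL'
  have hrank := c.partner_rank' hXE hXc hL hN hX'E hX'c hr'σ
  have hκ' := c.partner_kappa' hXE hXc hL hN hX'E hX'c hr'σ
  have hX'1 : X' ≠ ⊥ := ne_bot_of_card_prime' hr'.out hX'c
  have hEL := c.partner_E_le hXE hXc hN
  rw [Cfsg.Agent.Lib.Helper10.ThirteenTwo.inf_eq_cent c.hG hL hL' hr'σ hrank
    (IsPGroup.of_card (n := 1) (by rw [hX'c, pow_one])) hX'1 (hX'E.trans hEL) hN']
  rw [← c.partner_inf hXE hXc hL hN]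
  refine le_inf ?_ (inf_le_left.trans (sigmaCore_le L))
  obtain ⟨y, q, hq, hy, hyo⟩ := c.exists_y
  haveI : Fact q.Prime := ⟨hq⟩
  obtain ⟨x', hx'X, hx'1, hx'o, -⟩ := gen_of_card_prime hX'c
  obtain ⟨E₂, hE₂, hyE₂, hX'E₂⟩ := c.exists_compl_two hXE hXc hL hN hy hyo hX'E (by
    intro t ht htd
    rw [hX'c] at htd
    rw [(Nat.prime_dvd_prime_iff_eq ht hr'.out).mp htd]
    exact hr'σ)
  have hle : Cfsg.sigmaCore L ⊓ Subgroup.centralizer (X' : Set G) ≤
      Cfsg.sigmaCore L ⊓ Subgroup.centralizer ({x'} : Set G) :=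
    inf_le_inf_left _ (Subgroup.centralizer_le (by simpa using hx'X))
  refine hle.trans ?_
  have key : Cfsg.sigmaCore L ⊓ Subgroup.centralizer ({x'} : Set G) ≤
      Cfsg.sigmaCore L ⊓ Subgroup.centralizer ({y} : Set G) := by
    by_cases Hκ : ∀ t ∈ Cfsg.kappa L, t ∈ Cfsg.tau1 L
    · exact Cfsg.Agent.Lib.Helper21.BG14a.cent_prime_le c.hG hL hE₂ (Hκ r' hκ') (hX'E₂ hx'X)
        hyE₂ hx'o (by rw [hyo]; exact hq) (c.comm_YE hy (hX'E hx'X)).symm
    · push Not at Hκ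
      obtain ⟨t, htκ, ht1⟩ := Hκ
      have ht3 : t ∈ Cfsg.tau3 L := (bg14_kappa_cases htκ).resolve_left ht1
      have hpa := (c.nr L hL E₂ t hE₂ htκ ht3).2.1
      rw [hpa x' (hX'E₂ hx'X) hx'1, ← hpa y hyE₂ (c.y_ne_one hyo)]
  exact (key.trans inf_le_right).trans (c.Y_cent_le hy hyo)

end Two

end Cy

end Cfsg.Agent.Lib.Helper11.CaCycB
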