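import Mathlib
import Cfsg.Agent.Lib.Helper11.CaCycC
import Cfsg.Agent.Lib.Helper1.BG12.SigmaDisjoint

set_option autoImplicit false

/-! Bridge from the nonregular configuration of B & G Lemma 13.10 to the cycle of maximal
subgroups used in the counting argument (helper11), part D: assembly of the cycle. -/

namespace Cfsg.Agent.Lib.Helper11.CaCycB

open Cfsg Cfsg.Agent.Lib.Helper18 Cfsg.Agent.Lib.Helper28.BGt Cfsg.Agent.Lib.Helper13.BG14
  Cfsg.Agent.Lib.Helper11.CaCycA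

universe u

variable {G : Type u} [Group G] [Finite G]

/-- `L` contains the normalizer of a subgroup of prime order of `E` -/
def IsPartner (E L : Subgroup G) : Prop :=
  ∃ (X : Subgroup G) (r : ℕ), r.Prime ∧ X ≤ E ∧ Nat.card X = r ∧
    Subgroup.normalizer (X : Set G) ≤ L

/-- membership in the family of maximal subgroups -/
def InFam (M E L : Subgroup G) : Prop :=
  IsCoatom L ∧ ∃ X : Subgroup G, (X ≤ Ysub M E ∨ X ≤ E) ∧ (Nat.card X).Prime ∧
    Subgroup.normalizer (X : Set G) ≤ L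

omit [Finite G] in
/-- the factorization from a complement inside `T` -/
theorem fac_of_compl {L E₂ T : Subgroup G} (hE₂ : Cfsg.IsComplIn E₂ (Cfsg.sigmaCore L) L)
    (hT : E₂ ≤ T) : ∀ m ∈ L, ∃ s ∈ Cfsg.sigmaCore L, ∃ t ∈ T, m = s * t := by
  intro m hm
  obtain ⟨a, ha, b, hb, rfl⟩ := hE₂.2.2.2 m hm
  refine ⟨a * b * a⁻¹, ?_, a, hT ha, by group⟩
  exact conj_mem_of_le_normalizer (le_normalizer_sigmaCore L) (hE₂.1 ha) hb

namespace Cy

variable {M E : Subgroup G} {p : ℕ}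

theorem fam_cases (c : Cy M E p) {L : Subgroup G} (h : InFam M E L) : L = M ∨ IsPartner E L := by
  obtain ⟨hL, X, hX, hXp, hN⟩ := h
  rcases hX with hXY | hXE
  · left
    haveI : Fact (Nat.card X).Prime := ⟨hXp⟩
    obtain ⟨y, hyX, -, hyo, hyz⟩ := gen_of_card_prime (X := X) rfl
    exact c.Y_unique (hXY hyX) hyo hL (hyz ▸ hN)
  · right
    exact ⟨X, Nat.card X, hXp, hXE, rfl, hN⟩

theorem fam_M (c : Cy M E p) : InFam M E M := by
  obtain ⟨y, q, hq, hy, hyo⟩ := c.exists_y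
  haveI : Fact q.Prime := ⟨hq⟩
  refine ⟨c.hM, Subgroup.zpowers y, Or.inl ?_, ?_, c.Y_normalizer_le hy hyo⟩
  · rw [Subgroup.zpowers_le]; exact hy
  · rw [Nat.card_zpowers, hyo]; exact hq

theorem fam_partner (_c : Cy M E p) {L : Subgroup G} (hL : IsCoatom L) (h : IsPartner E L) :
    InFam M E L := by
  obtain ⟨X, r, hr, hXE, hXc, hN⟩ := h
  exact ⟨hL, X, Or.inr hXE, hXc ▸ hr, hN⟩

/-- there is a partner -/
theorem exists_partner (c : Cy M E p) : ∃ H : Subgroup G, IsCoatom H ∧ IsPartner E H := by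
  obtain ⟨P, hPE, hPc⟩ := c.exists_P
  obtain ⟨H, hH, hN⟩ := exists_coatom_normalizer c.hG c.hM (hPE.trans c.hEM)
    (ne_bot_of_card_prime' c.hpκ.1 hPc)
  exact ⟨H, hH, P, p, c.hpκ.1, hPE, hPc, hN⟩

theorem partner_ne' (c : Cy M E p) {L : Subgroup G} (hL : IsCoatom L) (h : IsPartner E L) :
    L ≠ M := by
  obtain ⟨X, r, hr, hXE, hXc, hN⟩ := h
  haveI : Fact r.Prime := ⟨hr⟩
  exact c.partner_ne hXE hXc hL hN

theorem card_T_dvd (c : Cy M E p) : Nat.card (Tsub M E) ∣ Nat.card (Ysub M E) * Nat.card E := by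
  apply Cfsg.Agent.Lib.Helper11.ThirteenB.card_sup_dvd
  intro e he
  rw [Subgroup.mem_normalizer_iff]
  intro y
  have key : ∀ z ∈ Ysub M E, ∀ f ∈ E, f * z * f⁻¹ = z := by
    intro z hz f hf
    rw [← c.comm_YE hz hf]; group
  constructor
  · intro hy
    rw [key y hy e he]; exact hy
  · intro hy
    have h1 := key _ hy e⁻¹ (E.inv_mem he)
    have h2 : e⁻¹ * (e * y * e⁻¹) * e⁻¹⁻¹ = y := by group
    rw [h2] at h1
    rw [h1]; exact hy

/-! ### the hypotheses for a single member of the family -/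

theorem fam_T_le (c : Cy M E p) {L : Subgroup G} (h : InFam M E L) : Tsub M E ≤ L := by
  rcases c.fam_cases h with rfl | ⟨X, r, hr, hXE, hXc, hN⟩
  · exact c.T_le_M
  · haveI : Fact r.Prime := ⟨hr⟩
    exact c.partner_T_le hXE hXc hN

theorem fam_fac (c : Cy M E p) {L : Subgroup G} (h : InFam M E L) :
    ∀ m ∈ L, ∃ s ∈ Cfsg.sigmaCore L, ∃ t ∈ Tsub M E, m = s * t := by
  rcases c.fam_cases h with rfl | ⟨X, r, hr, hXE, hXc, hN⟩
  · exact fac_of_compl c.hE le_sup_right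
  · haveI : Fact r.Prime := ⟨hr⟩
    obtain ⟨E₂, hE₂, hE₂M⟩ := c.partner_compl hXE hXc h.1 hN
    apply fac_of_compl hE₂
    rw [← c.partner_inf hXE hXc h.1 hN]
    exact le_inf hE₂M hE₂.1

theorem fam_prop (c : Cy M E p) {L : Subgroup G} (h : InFam M E L) :
    ¬ Cfsg.sigmaCore L ≤ Tsub M E := by
  intro hle
  rcases c.fam_cases h with rfl | ⟨X, r, hr, hXE, hXc, hN⟩
  · obtain ⟨H, hH, hpH⟩ := c.exists_partner
    have hTH := c.fam_T_le (c.fam_partner hH hpH)
    have hMH : L ≤ H := by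
      intro m hm
      obtain ⟨e, he, s, hs, rfl⟩ := c.hE.2.2.2 m hm
      exact H.mul_mem (hTH (Subgroup.mem_sup_right he)) (hTH (hle hs))
    rcases eq_or_lt_of_le hMH with h1 | h1
    · exact c.partner_ne' hH hpH h1.symm
    · exact hH.1 (c.hM.2 H h1)
  · haveI : Fact r.Prime := ⟨hr⟩
    obtain ⟨E₂, hE₂, hE₂M⟩ := c.partner_compl hXE hXc h.1 hN
    have hLM : L ≤ M := by
      intro m hm
      obtain ⟨a, ha, s, hs, rfl⟩ := hE₂.2.2.2 m hm
      exact M.mul_mem (hE₂M ha) (c.T_le_M (hle hs))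
    rcases eq_or_lt_of_le hLM with h1 | h1
    · exact c.partner_ne hXE hXc h.1 hN h1
    · exact c.hM.1 (h.1.2 M h1)

theorem fam_cent (c : Cy M E p) {L : Subgroup G} (h : InFam M E L) :
    ∀ x ∈ Tsub M E ⊓ Cfsg.sigmaCore L, x ≠ 1 → Subgroup.centralizer ({x} : Set G) ≤ L := by
  rintro x ⟨hxT, hxσ⟩ hx1
  obtain ⟨j, q, hq, hjo⟩ := exists_pow_prime_order hx1
  haveI : Fact q.Prime := ⟨hq⟩
  refine (centralizer_le_centralizer_pow x j).trans ?_
  rcases c.fam_cases h with h1 | ⟨X, r, hr, hXE, hXc, hN⟩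
  · -- `x ∈ Y`
    rw [h1] at hxσ ⊢
    have hxY : x ∈ Ysub M E := by
      have hEN : E ≤ Subgroup.normalizer ((Ysub M E : Subgroup G) : Set G) := by
        intro e he
        rw [Subgroup.mem_normalizer_iff]
        intro y
        have key : ∀ z ∈ Ysub M E, ∀ f ∈ E, f * z * f⁻¹ = z := by
          intro z hz f hf
          rw [← c.comm_YE hz hf]; group
        constructor
        · intro hy
          rw [key y hy e he]; exact hy
        · intro hy
          have h1 := key _ hy e⁻¹ (E.inv_mem he)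
          have h2 : e⁻¹ * (e * y * e⁻¹) * e⁻¹⁻¹ = y := by group
          rw [h2] at h1
          rw [h1]; exact hy
      obtain ⟨y, hy, e, he, rfl⟩ :=
        Cfsg.Agent.Lib.Helper11.ExcF.exists_mul_of_mem_sup (Ysub M E) E hEN x hxT
      have heσ : e ∈ Cfsg.sigmaCore M := by
        have : e = y⁻¹ * (y * e) := by group
        rw [this]
        exact Subgroup.mul_mem _ (Subgroup.inv_mem _ (c.Y_le_sigmaCore hy)) hxσ
      have he1 : e = 1 := by
        have : e ∈ E ⊓ Cfsg.sigmaCore M := ⟨he, heσ⟩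
        rw [c.hE.2.2.1, Subgroup.mem_bot] at this
        exact this
      rw [he1, mul_one]; exact hy
    exact c.Y_cent_le (Subgroup.pow_mem _ hxY j) hjo
  · haveI : Fact r.Prime := ⟨hr⟩
    have hL := h.1
    have hnc := (c.partner_star hXE hXc hL hN).1
    -- `x ∈ E`
    have hxE : x ∈ E := by
      apply mem_right_of_coprime (Y := Ysub M E) (fun y hy e he => c.comm_YE hy he) hxT _
        c.coprime_EY
      apply Nat.coprime_of_dvd
      intro t ht htx htY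
      have h1 : t ∈ Cfsg.sigma L :=
        prime_sigmaCore c.hG hL ht (htx.trans (Subgroup.orderOf_dvd_natCard _ hxσ))
      exact Cfsg.Agent.Lib.Helper21.BG13z.not_sigma_of_nonconj c.hG c.hM hL hnc
        (c.prime_Y ht htY) h1
    have hX'E : Subgroup.zpowers (x ^ j) ≤ E := by
      rw [Subgroup.zpowers_le]; exact Subgroup.pow_mem _ hxE j
    have hX'c : Nat.card (Subgroup.zpowers (x ^ j)) = q := by rw [Nat.card_zpowers, hjo]
    have hqL : q ∈ Cfsg.sigma L := by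
      apply prime_sigmaCore c.hG hL hq
      rw [← hjo]
      exact Subgroup.orderOf_dvd_natCard _ (Subgroup.pow_mem _ hxσ j)
    exact (centralizer_le_normalizer_zpowers (x ^ j)).trans
      (c.partner_normalizer_le hXE hXc hL hN hX'E hX'c hqL)

theorem fam_tau2 (c : Cy M E p) {L : Subgroup G} (h : InFam M E L) (t : ℕ) :
    t ∉ Cfsg.tau2 L := by
  rcases c.fam_cases h with rfl | ⟨X, r, hr, hXE, hXc, hN⟩
  · exact c.tau2_empty t
  · haveI : Fact r.Prime := ⟨hr⟩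
    have hL := h.1
    rintro ⟨ht, htσ, -, hrank⟩
    haveI : Fact t.Prime := ⟨ht⟩
    -- `t` divides `|L|`
    have htL : t ∣ Nat.card L := by
      by_contra hnd
      apply hrank
      intro A _ hA
      have hAp : IsPGroup t A := by
        intro a
        refine ⟨1, ?_⟩
        rw [pow_one]
        apply Subtype.ext
        simpa using hA a a.2
      obtain ⟨n, hn⟩ := IsPGroup.iff_card.mp hAp
      rcases Nat.eq_zero_or_pos n with h0 | h0
      · rw [hn, h0, pow_zero, pow_one]; exact ht.one_lt.le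
      · exfalso
        apply hnd
        have h1 : t ∣ Nat.card A := by rw [hn]; exact dvd_pow_self t h0.ne'
        exact h1.trans (Subgroup.card_subgroup_dvd_card A)
    obtain ⟨E₂, hE₂, hE₂M⟩ := c.partner_compl hXE hXc hL hN
    have hE₂T : E₂ ≤ Tsub M E := by
      rw [← c.partner_inf hXE hXc hL hN]
      exact le_inf hE₂M hE₂.1
    rw [card_compl hE₂] at htL
    have htE₂ : t ∣ Nat.card E₂ := by
      rcases (Nat.Prime.dvd_mul ht).mp htL with h1 | h1
      · exact absurd (prime_sigmaCore c.hG hL ht h1) htσ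
      · exact h1
    have htT : t ∣ Nat.card (Ysub M E) * Nat.card E :=
      (htE₂.trans (Subgroup.card_dvd_of_le hE₂T)).trans c.card_T_dvd
    rcases (Nat.Prime.dvd_mul ht).mp htT with h1 | h1
    · obtain ⟨A, hAY, hAc⟩ :=
        Cfsg.Agent.Lib.Helper18.BGThirteenA.exists_card_prime_le (Ysub M E) t h1
      obtain ⟨y, hyA, -, hyo, -⟩ := gen_of_card_prime hAc
      exact hrank (c.partner_q_rank hXE hXc hL hN (hAY hyA) hyo)
    · obtain ⟨A, hAE, hAc⟩ :=
        Cfsg.Agent.Lib.Helper18.BGThirteenA.exists_card_prime_le E t h1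
      exact hrank (c.partner_rank' hXE hXc hL hN hAE hAc htσ)

theorem fam_pr (c : Cy M E p) (t : ℕ) (ht : t.Prime) (htd : t ∣ Nat.card (Tsub M E)) :
    ∃ L : Subgroup G, InFam M E L ∧ t ∈ Cfsg.sigma L := by
  haveI : Fact t.Prime := ⟨ht⟩
  rcases (Nat.Prime.dvd_mul ht).mp (htd.trans c.card_T_dvd) with h1 | h1
  · exact ⟨M, c.fam_M, c.prime_Y ht h1⟩
  · obtain ⟨A, hAE, hAc⟩ :=
      Cfsg.Agent.Lib.Helper18.BGThirteenA.exists_card_prime_le E t h1
    obtain ⟨L, hL, hN⟩ := exists_coatom_normalizer c.hG c.hM (hAE.trans c.hEM)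
      (ne_bot_of_card_prime' ht hAc)
    exact ⟨L, c.fam_partner hL ⟨A, t, ht, hAE, hAc, hN⟩, (c.partner_star hAE hAc hL hN).2.1⟩

/-! ### the hypotheses for two members of the family -/

theorem fam_nc (c : Cy M E p) {L L' : Subgroup G} (h : InFam M E L) (h' : InFam M E L')
    (hne : L ≠ L') (g : G) : L' ≠ L.map (MulAut.conj g).toMonoidHom := by
  rcases c.fam_cases h with rfl | ⟨X, r, hr, hXE, hXc, hN⟩
  · rcases c.fam_cases h' with rfl | ⟨X', r', hr', hX'E, hX'c, hN'⟩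
    · exact absurd rfl hne
    · haveI : Fact r'.Prime := ⟨hr'⟩
      exact (c.partner_star hX'E hX'c h'.1 hN').1 g
  · haveI : Fact r.Prime := ⟨hr⟩
    rcases c.fam_cases h' with rfl | ⟨X', r', hr', hX'E, hX'c, hN'⟩
    · exact nonconj_symm (c.partner_star hXE hXc h.1 hN).1 g
    · haveI : Fact r'.Prime := ⟨hr'⟩
      intro hg
      apply c.partner_not_sigma hXE hXc h.1 hN hX'E hX'c h'.1 hN' hne
      have h1 : r' ∈ Cfsg.sigma L' := (c.partner_star hX'E hX'c h'.1 hN').2.1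
      have h2 := Cfsg.Agent.Lib.Helper1.BG12.sigma_conjSub L' r' h1 g⁻¹
      have h3 : Helper18.conjSub g⁻¹ L' = L := by
        rw [hg]
        show Helper18.conjSub g⁻¹ (Helper18.conjSub g L) = L
        rw [Helper18.conjSub_mul, inv_mul_cancel, Helper18.conjSub_one]
      rw [h3] at h2
      exact h2

theorem fam_inf (c : Cy M E p) {L L' : Subgroup G} (h : InFam M E L) (h' : InFam M E L')
    (hne : L ≠ L') : Cfsg.sigmaCore L ⊓ L' ≤ Tsub M E := by
  rcases c.fam_cases h with rfl | ⟨X, r, hr, hXE, hXc, hN⟩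
  · rcases c.fam_cases h' with rfl | ⟨X', r', hr', hX'E, hX'c, hN'⟩
    · exact absurd rfl hne
    · haveI : Fact r'.Prime := ⟨hr'⟩
      rw [c.partner_inf_sigma hX'E hX'c h'.1 hN']
      exact le_sup_left
  · haveI : Fact r.Prime := ⟨hr⟩
    rcases c.fam_cases h' with rfl | ⟨X', r', hr', hX'E, hX'c, hN'⟩
    · rw [← c.partner_inf hXE hXc h.1 hN, inf_comm L' L]
      exact inf_le_inf_right _ (sigmaCore_le L)
    · haveI : Fact r'.Prime := ⟨hr'⟩
      exact c.partner_inf_le hXE hXc h.1 hN hX'E hX'c h'.1 hN' hne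

/-- **the cycle**: the family of maximal subgroups over the normalizers of the subgroups of prime
order of `T = C_{M_σ}(E) × E` satisfies the ten hypotheses of the counting lemma -/
theorem cycle (c : Cy M E p) :
    ∃ (ι : Type u) (_ : Finite ι) (Mi : ι → Subgroup G) (T : Subgroup G),
      (∀ i, IsCoatom (Mi i)) ∧
      (∀ i j, i ≠ j → ∀ g : G, Mi j ≠ (Mi i).map (MulAut.conj g).toMonoidHom) ∧
      (∀ i, T ≤ Mi i) ∧
      (∀ i, ∀ m ∈ Mi i, ∃ s ∈ Cfsg.sigmaCore (Mi i), ∃ t ∈ T, m = s * t) ∧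
      (∀ i, ¬ Cfsg.sigmaCore (Mi i) ≤ T) ∧
      (∀ i, ∀ x ∈ T ⊓ Cfsg.sigmaCore (Mi i), x ≠ 1 →
        Subgroup.centralizer ({x} : Set G) ≤ Mi i) ∧
      (∀ i j, i ≠ j → Cfsg.sigmaCore (Mi i) ⊓ Mi j ≤ T) ∧
      (∀ i t, t ∉ Cfsg.tau2 (Mi i)) ∧
      (∀ t : ℕ, t.Prime → t ∣ Nat.card T → ∃ i, t ∈ Cfsg.sigma (Mi i)) ∧
      ∃ i j : ι, i ≠ j := by
  refine ⟨{L : Subgroup G // InFam M E L}, inferInstance, Subtype.val, Tsub M E,
    fun i => i.2.1, ?_, fun i => c.fam_T_le i.2, fun i => c.fam_fac i.2, fun i => c.fam_prop i.2,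
    fun i => c.fam_cent i.2, ?_, fun i t => c.fam_tau2 i.2 t, ?_, ?_⟩
  · intro i j hij g
    exact c.fam_nc i.2 j.2 (fun h => hij (Subtype.ext h)) g
  · intro i j hij
    exact c.fam_inf i.2 j.2 (fun h => hij (Subtype.ext h))
  · intro t ht htd
    obtain ⟨L, hL, htL⟩ := c.fam_pr t ht htd
    exact ⟨⟨L, hL⟩, htL⟩
  · obtain ⟨H, hH, hpH⟩ := c.exists_partner
    refine ⟨⟨M, c.fam_M⟩, ⟨H, c.fam_partner hH hpH⟩, ?_⟩
    intro h
    exact c.partner_ne' hH hpH (congrArg Subtype.val h).symm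

end Cy

/-- `κ(M) ⊆ τ₁(M)`, given the structure lemma 13.10 for every maximal subgroup and the counting
lemma for cycles of maximal subgroups -/
theorem kappa_sub_tau1_of_cycle (hG : Cfsg.IsMinSimpleOddOrder G)
    (nr : ∀ L : Subgroup G, IsCoatom L → Nonreg1310 L)
    (cyc : ∀ (ι : Type u) (_ : Finite ι) (Mi : ι → Subgroup G) (T : Subgroup G),
      (∀ i, IsCoatom (Mi i)) →
      (∀ i j, i ≠ j → ∀ g : G, Mi j ≠ (Mi i).map (MulAut.conj g).toMonoidHom) →
      (∀ i, T ≤ Mi i) →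
      (∀ i, ∀ m ∈ Mi i, ∃ s ∈ Cfsg.sigmaCore (Mi i), ∃ t ∈ T, m = s * t) →
      (∀ i, ¬ Cfsg.sigmaCore (Mi i) ≤ T) →
      (∀ i, ∀ x ∈ T ⊓ Cfsg.sigmaCore (Mi i), x ≠ 1 →
        Subgroup.centralizer ({x} : Set G) ≤ Mi i) →
      (∀ i j, i ≠ j → Cfsg.sigmaCore (Mi i) ⊓ Mi j ≤ T) →
      (∀ i t, t ∉ Cfsg.tau2 (Mi i)) →
      (∀ t : ℕ, t.Prime → t ∣ Nat.card T → ∃ i, t ∈ Cfsg.sigma (Mi i)) →
      (∃ i j : ι, i ≠ j) → False)
    {M : Subgroup G} (hM : IsCoatom M) : ∀ p ∈ Cfsg.kappa M, p ∈ Cfsg.tau1 M := by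
  intro p hpκ
  by_contra hp1
  have hp3 : p ∈ Cfsg.tau3 M := (bg14_kappa_cases hpκ).resolve_left hp1
  obtain ⟨E, hE⟩ := Cfsg.Agent.Lib.Helper18.BGTwelveA.exists_complIn_sigmaCore hG M hM
  have c : Cy M E p := ⟨hG, nr, hM, hE, hpκ, hp3⟩
  obtain ⟨ι, hι, Mi, T, h1, h2, h3, h4, h5, h6, h7, h8, h9, h10⟩ := c.cycle
  exact cyc ι hι Mi T h1 h2 h3 h4 h5 h6 h7 h8 h9 h10

end Cfsg.Agent.Lib.Helper11.CaCycB
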