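import Mathlib
import Cfsg.Agent.Lib.Helper11.CaCycD
import Cfsg.Agent.Lib.Helper13.BG14Cyc
import Cfsg.Agent.Lib.Helper13.BG14T

set_option autoImplicit false

/-! **`κ(M) ⊆ τ₁(M)` unconditionally** (B & G: the nonregular configuration of Lemma 13.10 does not
occur): structure lemma 13.10 (helper10, helper21, helper13) + bridge to a cycle of maximal
subgroups (helper11) + the counting lemma for cycles (helper13). -/

namespace Cfsg.Agent.Lib.Helper11.KappaTauFinal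

open Cfsg

universe u

variable {G : Type u} [Group G] [Finite G]

/-- every prime of `κ(M)` lies in `τ₁(M)` -/
theorem kappa_sub_tau1 (hG : Cfsg.IsMinSimpleOddOrder G) {M : Subgroup G} (hM : IsCoatom M) :
    ∀ p ∈ Cfsg.kappa M, p ∈ Cfsg.tau1 M :=
  Cfsg.Agent.Lib.Helper11.CaCycB.kappa_sub_tau1_of_cycle hG
    (fun _ hL => Cfsg.Agent.Lib.Helper13.BG14.bg14_nonreg1310 hG hL)
    (fun ι hι Mi T h1 h2 h3 h4 h5 h6 h7 h8 h9 h10 =>
      haveI := hι
      Cfsg.Agent.Lib.Helper13.BG14.bg14_cycle_false hG Mi T h1 h2 h3 h4 h5 h6 h7 h8 h9 h10) hM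

/-- `κ(M) ∩ τ₃(M) = ∅` -/
theorem kappa_inter_tau3_empty (hG : Cfsg.IsMinSimpleOddOrder G) {M : Subgroup G}
    (hM : IsCoatom M) {p : ℕ} (hpκ : p ∈ Cfsg.kappa M) : p ∉ Cfsg.tau3 M := by
  intro h3
  exact (kappa_sub_tau1 hG hM p hpκ).2.2.2.1 h3.2.2.1

end Cfsg.Agent.Lib.Helper11.KappaTauFinal
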