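import Mathlib
import Cfsg.Agent.Lib.Helper1.Frat

set_option autoImplicit false

namespace Cfsg.Agent.Lib.Helper11.FrobQuot

open scoped commutatorElement

/-- class equation for a normal subgroup of an abelian normal subgroup that contains the
centralizers of its non-identity elements: the index divides the order minus one -/
theorem frob_index_dvd {Q : Type*} [Group Q] [Finite Q] (Kb Nb : Subgroup Q) [hKn : Kb.Normal]
    [hNn : Nb.Normal] (hNK : Nb ≤ Kb) (hcomm : ∀ a ∈ Kb, ∀ b ∈ Kb, a * b = b * a)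
    (hfrob : ∀ a ∈ Kb, a ≠ 1 → ∀ g : Q, g * a = a * g → g ∈ Kb) :
    Kb.index ∣ Nat.card Nb - 1 := by
  classical
  have : Fintype Q := Fintype.ofFinite Q
  letI act : MulAction Q Nb :=
    { smul := fun g b => ⟨g * b * g⁻¹, hNn.conj_mem b b.2 g⟩
      one_smul := fun b => by
        apply Subtype.ext
        change 1 * (b : Q) * 1⁻¹ = b
        simp
      mul_smul := fun g h b => by
        apply Subtype.ext
        change g * h * (b : Q) * (g * h)⁻¹ = g * (h * b * h⁻¹) * g⁻¹
        simp only [mul_inv_rev]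
        group }
  have hsmul : ∀ (g : Q) (b : Nb), ((g • b : Nb) : Q) = g * b * g⁻¹ := fun g b => rfl
  have hstab1 : MulAction.stabilizer Q (1 : Nb) = ⊤ := by
    rw [eq_top_iff]
    intro g _
    rw [MulAction.mem_stabilizer_iff]
    apply Subtype.ext
    rw [hsmul]
    simp
  have hstab : ∀ b : Nb, b ≠ 1 → MulAction.stabilizer Q b = Kb := by
    intro b hb
    have hb1 : (b : Q) ≠ 1 := fun h => hb (Subtype.ext h)
    ext g
    rw [MulAction.mem_stabilizer_iff]
    constructor
    · intro h
      have h1 := congrArg Subtype.val h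
      rw [hsmul] at h1
      apply hfrob b (hNK b.2) hb1 g
      calc g * b = g * b * g⁻¹ * g := by group
        _ = b * g := by rw [h1]
    · intro hg
      apply Subtype.ext
      rw [hsmul, hcomm g hg b (hNK b.2)]
      group
  have key := MulAction.card_eq_sum_card_group_div_card_stabilizer Q Nb
  obtain ⟨ω₁, hω₁⟩ : ∃ ω₁ : Quotient (MulAction.orbitRel Q Nb), ω₁ = Quotient.mk'' (1 : Nb) :=
    ⟨_, rfl⟩
  have hout1 : (Quotient.out ω₁ : Nb) = 1 := by
    have h1 : Quotient.mk'' (Quotient.out ω₁) = (Quotient.mk'' (1 : Nb) :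
        Quotient (MulAction.orbitRel Q Nb)) := by
      rw [Quotient.out_eq', hω₁]
    have h2 := Quotient.exact' h1
    rw [MulAction.orbitRel_apply] at h2
    obtain ⟨g, hg⟩ := h2
    rw [← hg]
    apply Subtype.ext
    rw [hsmul]
    simp
  have hout : ∀ ω : Quotient (MulAction.orbitRel Q Nb), ω ≠ ω₁ → (Quotient.out ω : Nb) ≠ 1 := by
    intro ω hω h
    apply hω
    rw [hω₁, ← h, Quotient.out_eq']
  rw [← Finset.add_sum_erase _ _ (Finset.mem_univ ω₁)] at key
  have hterm1 : Fintype.card Q / Fintype.card (MulAction.stabilizer Q (Quotient.out ω₁ : Nb)) = 1 := by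
    rw [hout1]
    have : Fintype.card (MulAction.stabilizer Q (1 : Nb)) = Fintype.card Q := by
      rw [← Nat.card_eq_fintype_card, ← Nat.card_eq_fintype_card, hstab1, Subgroup.card_top]
    rw [this]
    exact Nat.div_self Fintype.card_pos
  have hterm : ∀ ω ∈ Finset.univ.erase ω₁,
      Fintype.card Q / Fintype.card (MulAction.stabilizer Q (Quotient.out ω : Nb)) = Kb.index := by
    intro ω hω
    have hne := hout ω (Finset.ne_of_mem_erase hω)
    have h1 : Fintype.card (MulAction.stabilizer Q (Quotient.out ω : Nb)) = Nat.card Kb := by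
      rw [← Nat.card_eq_fintype_card, hstab _ hne]
    rw [h1, ← Nat.card_eq_fintype_card, ← Subgroup.index_mul_card Kb]
    exact Nat.mul_div_cancel _ Nat.card_pos
  rw [hterm1, Finset.sum_congr rfl hterm, Finset.sum_const, smul_eq_mul,
    ← Nat.card_eq_fintype_card] at key
  rw [key, Nat.add_sub_cancel_left]
  exact Dvd.intro_left _ rfl

/-- the same in terms of a section `K / H₁` of a group `L` -/
theorem frob_relIndex_dvd {L : Type*} [Group L] [Finite L] (H₁ N K : Subgroup L) [hH₁ : H₁.Normal]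
    [hN : N.Normal] [hK : K.Normal] (hH₁N : H₁ ≤ N) (hNK : N ≤ K)
    (hab : ∀ x ∈ K, ∀ y ∈ K, x * y * x⁻¹ * y⁻¹ ∈ H₁)
    (hfrob : ∀ k ∈ K, k ∉ H₁ → ∀ x : L, x * k * x⁻¹ * k⁻¹ ∈ H₁ → x ∈ K) :
    K.index ∣ H₁.relIndex N - 1 := by
  obtain ⟨π, hπ⟩ : ∃ π : L →* L ⧸ H₁, π = QuotientGroup.mk' H₁ := ⟨_, rfl⟩
  have hsurj : Function.Surjective π := hπ ▸ QuotientGroup.mk'_surjective H₁
  have hπ1 : ∀ x : L, π x = 1 ↔ x ∈ H₁ := by
    intro x
    rw [hπ]
    exact QuotientGroup.eq_one_iff x
  have hker : π.ker = H₁ := by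
    rw [hπ]
    exact QuotientGroup.ker_mk' H₁
  have hKn : (K.map π).Normal := Subgroup.Normal.map hK π hsurj
  have hNn : (N.map π).Normal := Subgroup.Normal.map hN π hsurj
  have h1 := frob_index_dvd (K.map π) (N.map π) (Subgroup.map_mono hNK)
    (by
      rintro _ ⟨x, hx, rfl⟩ _ ⟨y, hy, rfl⟩
      have h2 := (hπ1 _).mpr (hab x hx y hy)
      rw [map_mul, map_mul, map_mul, map_inv, map_inv] at h2
      calc π x * π y = (π x * π y * (π x)⁻¹ * (π y)⁻¹) * (π y * π x) := by group
        _ = π y * π x := by rw [h2, one_mul])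
    (by
      rintro _ ⟨k, hk, rfl⟩ hk1 g hg
      obtain ⟨x, rfl⟩ := hsurj g
      have hkH : k ∉ H₁ := fun h => hk1 ((hπ1 k).mpr h)
      have h2 : π (x * k * x⁻¹ * k⁻¹) = 1 := by
        rw [map_mul, map_mul, map_mul, map_inv, map_inv, hg]
        group
      exact Subgroup.mem_map_of_mem π (hfrob k hk hkH x ((hπ1 _).mp h2)))
  have h3 : (K.map π).index = K.index :=
    Subgroup.index_map_eq K hsurj (by rw [hker]; exact hH₁N.trans hNK)
  have h4 : H₁.relIndex N = Nat.card (N.map π) := by
    have h5 := Subgroup.relIndex_ker (K := N) π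
    rw [hker] at h5
    exact h5
  rw [h3, ← h4] at h1
  exact h1

variable {G : Type*} [Group G]

/-- in a finite nilpotent group the derived subgroup lies in the Frattini subgroup -/
theorem nilpotent_commutator_le_frattini [Finite G] [hnil : Group.IsNilpotent G] :
    commutator G ≤ frattini G := by
  rw [Cfsg.Agent.Lib.Helper1.le_frattini_iff]
  intro M hM
  have hn : M.Normal :=
    Subgroup.NormalizerCondition.normal_of_coatom M Group.normalizerCondition_of_isNilpotent hM
  have hcard : Nat.card (G ⧸ M) ≠ 1 := by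
    intro h
    exact hM.1 (Subgroup.index_eq_one.mp h)
  obtain ⟨p, hp, hpd⟩ := Nat.exists_prime_and_dvd hcard
  have : Fact p.Prime := ⟨hp⟩
  obtain ⟨q, hq⟩ := exists_prime_orderOf_dvd_card' p hpd
  have hq1 : q ≠ 1 := by
    intro h
    rw [h, orderOf_one] at hq
    exact hp.one_lt.ne hq
  have h1 : (Subgroup.zpowers q).comap (QuotientGroup.mk' M) = ⊤ := by
    apply hM.2
    refine lt_of_le_of_ne ?_ ?_
    · intro m hm
      change QuotientGroup.mk' M m ∈ Subgroup.zpowers q
      have : QuotientGroup.mk' M m = 1 := (QuotientGroup.eq_one_iff m).mpr hm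
      rw [this]; exact Subgroup.one_mem _
    · intro h
      obtain ⟨x, rfl⟩ := QuotientGroup.mk'_surjective M q
      have hx : x ∈ (Subgroup.zpowers (QuotientGroup.mk' M x)).comap (QuotientGroup.mk' M) :=
        Subgroup.mem_zpowers _
      rw [← h] at hx
      exact hq1 ((QuotientGroup.eq_one_iff x).mpr hx)
  have h2 : Subgroup.zpowers q = ⊤ := by
    rw [← Subgroup.comap_top (QuotientGroup.mk' M)] at h1
    exact Subgroup.comap_injective (QuotientGroup.mk'_surjective M) h1
  have hcyc : IsCyclic (G ⧸ M) := ⟨⟨q, fun x => by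
    have : x ∈ Subgroup.zpowers q := h2 ▸ Subgroup.mem_top x
    exact this⟩⟩
  have hcomm : IsMulCommutative (G ⧸ M) := IsCyclic.isMulCommutative
  exact (Subgroup.Normal.quotient_commutative_iff_commutator_le).mp hcomm

/-- every prime divisor of the order of a finite nilpotent group divides the order of its
abelianization -/
theorem nilpotent_prime_dvd_index_commutator [Finite G] [hnil : Group.IsNilpotent G] (q : ℕ)
    (hq : q.Prime) (hdvd : q ∣ Nat.card G) : q ∣ (commutator G).index :=
  (Cfsg.Agent.Lib.Helper1.prime_dvd_index_frattini q hq hdvd).trans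
    (Subgroup.index_dvd_of_le nilpotent_commutator_le_frattini)

/-- a finite nilpotent group with cyclic abelianization is abelian -/
theorem nilpotent_comm_of_cyclic [Finite G] [hnil : Group.IsNilpotent G]
    (hcyc : IsCyclic (G ⧸ commutator G)) : ∀ x y : G, x * y = y * x := by
  obtain ⟨q, hq⟩ := hcyc.exists_generator
  obtain ⟨g, rfl⟩ := QuotientGroup.mk'_surjective (commutator G) q
  have h1 : Subgroup.zpowers (QuotientGroup.mk' (commutator G) g) = ⊤ := by
    rw [eq_top_iff]
    intro x _
    exact hq x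
  have h2 : Subgroup.zpowers g ⊔ commutator G = ⊤ := by
    have h3 := Subgroup.comap_map_eq (QuotientGroup.mk' (commutator G)) (Subgroup.zpowers g)
    rw [MonoidHom.map_zpowers, h1, Subgroup.comap_top, QuotientGroup.ker_mk'] at h3
    exact h3.symm
  have h4 : Subgroup.zpowers g ⊔ frattini G = ⊤ := by
    rw [eq_top_iff, ← h2]
    exact sup_le_sup_left nilpotent_commutator_le_frattini _
  have h5 : Subgroup.zpowers g = ⊤ := frattini_nongenerating h4
  intro x y
  have hx : x ∈ Subgroup.zpowers g := h5 ▸ Subgroup.mem_top x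
  have hy : y ∈ Subgroup.zpowers g := h5 ▸ Subgroup.mem_top y
  obtain ⟨a, rfl⟩ := hx
  obtain ⟨b, rfl⟩ := hy
  rw [← zpow_add, ← zpow_add, add_comm]

end Cfsg.Agent.Lib.Helper11.FrobQuot
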