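import Mathlib
import Cfsg.Prelude.Def_OddOrderChar
import Cfsg.Agent.Lib.Helper11.VirtChar
import Cfsg.Agent.Lib.Helper11.LinChar
import Cfsg.Agent.Lib.helper7.CharTools

set_option autoImplicit false
open scoped ComplexConjugate

namespace Cfsg.Agent.Lib.Helper11

open Cfsg.Agent.Lib.helper7 Cfsg.Agent.Lib.helper2 Cfsg.Agent.Lib.Helper25

/-! ### integer spans -/

theorem zspan_of_mem {X : Type*} {S : Set (X → ℂ)} {a : X → ℂ} (h : a ∈ S) : a ∈ Cfsg.zspan S :=
  Submodule.subset_span h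

theorem zspan_zero {X : Type*} (S : Set (X → ℂ)) : (0 : X → ℂ) ∈ Cfsg.zspan S :=
  Submodule.zero_mem _

theorem zspan_add {X : Type*} {S : Set (X → ℂ)} {a b : X → ℂ} (ha : a ∈ Cfsg.zspan S)
    (hb : b ∈ Cfsg.zspan S) : a + b ∈ Cfsg.zspan S :=
  Submodule.add_mem _ ha hb

theorem zspan_sub {X : Type*} {S : Set (X → ℂ)} {a b : X → ℂ} (ha : a ∈ Cfsg.zspan S)
    (hb : b ∈ Cfsg.zspan S) : a - b ∈ Cfsg.zspan S :=
  Submodule.sub_mem _ ha hb

theorem zspan_zsmul {X : Type*} {S : Set (X → ℂ)} (n : ℤ) {a : X → ℂ} (ha : a ∈ Cfsg.zspan S) :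
    n • a ∈ Cfsg.zspan S :=
  Submodule.smul_mem _ n ha

theorem zspan_mono {X : Type*} {S S' : Set (X → ℂ)} (h : S ⊆ S') {a : X → ℂ}
    (ha : a ∈ Cfsg.zspan S) : a ∈ Cfsg.zspan S' :=
  Submodule.span_mono h ha

theorem zspanOn_mono {X : Type*} {S S' : Set (X → ℂ)} (h : S ⊆ S') (A : Set X) {a : X → ℂ}
    (ha : a ∈ Cfsg.zspanOn S A) : a ∈ Cfsg.zspanOn S' A :=
  ⟨zspan_mono h ha.1, ha.2⟩

theorem zspanOn_add {X : Type*} {S : Set (X → ℂ)} {A : Set X} {a b : X → ℂ}
    (ha : a ∈ Cfsg.zspanOn S A) (hb : b ∈ Cfsg.zspanOn S A) : a + b ∈ Cfsg.zspanOn S A :=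
  ⟨zspan_add ha.1 hb.1, fun x hx => by rw [Pi.add_apply, ha.2 x hx, hb.2 x hx, add_zero]⟩

theorem zspanOn_zsmul {X : Type*} {S : Set (X → ℂ)} {A : Set X} (n : ℤ) {a : X → ℂ}
    (ha : a ∈ Cfsg.zspanOn S A) : n • a ∈ Cfsg.zspanOn S A :=
  ⟨zspan_zsmul n ha.1, fun x hx => by rw [Pi.smul_apply, ha.2 x hx, smul_zero]⟩

theorem mem_zspanOn_one {X : Type*} [One X] {S : Set (X → ℂ)} {a : X → ℂ}
    (ha : a ∈ Cfsg.zspan S) (h1 : a 1 = 0) : a ∈ Cfsg.zspanOn S {1}ᶜ := by
  refine ⟨ha, fun x hx => ?_⟩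
  have : x = 1 := by
    by_contra h
    exact hx h
  rw [this, h1]

/-! ### inner products and integer multiples -/

theorem classInner_zsmul_left {G : Type*} [Group G] [Fintype G] (n : ℤ) (f h : G → ℂ) :
    Cfsg.classInner (n • f) h = (n : ℂ) * Cfsg.classInner f h := by
  rw [← Int.cast_smul_eq_zsmul ℂ, classInner_smul_left']

theorem classInner_zsmul_right {G : Type*} [Group G] [Fintype G] (n : ℤ) (f h : G → ℂ) :
    Cfsg.classInner f (n • h) = (n : ℂ) * Cfsg.classInner f h := by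
  rw [← Int.cast_smul_eq_zsmul ℂ, h7_classInner_smul_right, map_intCast]

theorem classInner_zero_left' {G : Type*} [Group G] [Fintype G] (h : G → ℂ) :
    Cfsg.classInner (0 : G → ℂ) h = 0 := by
  simp [Cfsg.classInner]

/-! ### linear isometries on integer spans -/

theorem isoOn_map_zero {N G : Type*} [Group N] [Fintype N] [Group G] [Fintype G]
    {X : Set (N → ℂ)} {σ : (N → ℂ) → (G → ℂ)}
    (hσ : Cfsg.IsLinearIsometryOn (Cfsg.zspan X) σ) : σ 0 = 0 := by
  have := hσ.2.1 0 (zspan_zero X) 0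
  simpa using this

theorem isoOn_map_sub {N G : Type*} [Group N] [Fintype N] [Group G] [Fintype G]
    {X : Set (N → ℂ)} {σ : (N → ℂ) → (G → ℂ)}
    (hσ : Cfsg.IsLinearIsometryOn (Cfsg.zspan X) σ) {a b : N → ℂ} (ha : a ∈ Cfsg.zspan X)
    (hb : b ∈ Cfsg.zspan X) : σ (a - b) = σ a - σ b := by
  have h1 : a - b = a + (-1 : ℤ) • b := by
    simp [sub_eq_add_neg]
  rw [h1, hσ.1 a ha _ (zspan_zsmul _ hb), hσ.2.1 b hb]
  simp [sub_eq_add_neg]

/-- a functional that is additive and integer-homogeneous, and kills the images of the generators,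
kills the image of the whole span -/
theorem isoOn_span_induction {N G : Type*} [Group N] [Fintype N] [Group G] [Fintype G]
    {X : Set (N → ℂ)} {σ : (N → ℂ) → (G → ℂ)}
    (hσ : Cfsg.IsLinearIsometryOn (Cfsg.zspan X) σ) (g : (G → ℂ) → ℂ)
    (hadd : ∀ a b, g (a + b) = g a + g b) (hsmul : ∀ (n : ℤ) a, g (n • a) = (n : ℂ) * g a)
    (hX : ∀ χ ∈ X, g (σ χ) = 0) : ∀ x ∈ Cfsg.zspan X, g (σ x) = 0 := by
  intro x hx
  have hg0 : g 0 = 0 := by
    have := hsmul 0 0
    simpa using this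
  induction hx using Submodule.span_induction with
  | mem χ h => exact hX χ h
  | zero => rw [isoOn_map_zero hσ, hg0]
  | add a b ha hb iha ihb => rw [hσ.1 a ha b hb, hadd, iha, ihb, add_zero]
  | smul n a ha iha => rw [hσ.2.1 a ha n, hsmul, iha, mul_zero]

theorem zspan_induction_zero {N : Type*} {X : Set (N → ℂ)} (g : (N → ℂ) → ℂ)
    (hadd : ∀ a b, g (a + b) = g a + g b) (hsmul : ∀ (n : ℤ) a, g (n • a) = (n : ℂ) * g a)
    (hX : ∀ χ ∈ X, g χ = 0) : ∀ x ∈ Cfsg.zspan X, g x = 0 := by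
  intro x hx
  have hg0 : g 0 = 0 := by
    have := hsmul 0 0
    simpa using this
  induction hx using Submodule.span_induction with
  | mem χ h => exact hX χ h
  | zero => exact hg0
  | add a b ha hb iha ihb => rw [hadd, iha, ihb, add_zero]
  | smul n a ha iha => rw [hsmul, iha, mul_zero]

theorem zspan_int_at_one {N : Type*} [One N] {X : Set (N → ℂ)}
    (hX : ∀ χ ∈ X, ∃ m : ℤ, χ 1 = (m : ℂ)) : ∀ x ∈ Cfsg.zspan X, ∃ m : ℤ, x 1 = (m : ℂ) := by
  intro x hx
  induction hx using Submodule.span_induction with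
  | mem χ h => exact hX χ h
  | zero => exact ⟨0, by simp⟩
  | add a b ha hb iha ihb =>
    obtain ⟨m, hm⟩ := iha
    obtain ⟨k, hk⟩ := ihb
    exact ⟨m + k, by rw [Pi.add_apply, hm, hk]; push_cast; ring⟩
  | smul n a ha iha =>
    obtain ⟨m, hm⟩ := iha
    exact ⟨n * m, by rw [Pi.smul_apply, hm, zsmul_eq_mul]; push_cast; ring⟩

theorem genChar_add {G : Type*} [Group G] {a b : G → ℂ} (ha : Cfsg.IsGeneralizedCharacter G a)
    (hb : Cfsg.IsGeneralizedCharacter G b) : Cfsg.IsGeneralizedCharacter G (a + b) := by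
  obtain ⟨χ, ψ, hχ, hψ, rfl⟩ := ha
  obtain ⟨χ', ψ', hχ', hψ', rfl⟩ := hb
  exact ⟨χ + χ', ψ + ψ', isCharacter_add hχ hχ', isCharacter_add hψ hψ', by abel⟩

/-! ### orthogonal projections -/

/-- the orthogonal projection on the span of a finite orthonormal set -/
noncomputable def projOn {N : Type*} [Group N] [Fintype N] (F : Finset (N → ℂ)) (θ : N → ℂ) :
    N → ℂ :=
  ∑ χ ∈ F, Cfsg.classInner θ χ • χ

theorem projOn_add {N : Type*} [Group N] [Fintype N] (F : Finset (N → ℂ)) (a b : N → ℂ) :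
    projOn F (a + b) = projOn F a + projOn F b := by
  unfold projOn
  rw [← Finset.sum_add_distrib]
  apply Finset.sum_congr rfl
  intro χ _
  rw [classInner_add_left', add_smul]

theorem projOn_zsmul {N : Type*} [Group N] [Fintype N] (F : Finset (N → ℂ)) (n : ℤ)
    (a : N → ℂ) : projOn F (n • a) = n • projOn F a := by
  unfold projOn
  rw [Finset.smul_sum]
  apply Finset.sum_congr rfl
  intro χ _
  rw [classInner_zsmul_left, mul_smul, Int.cast_smul_eq_zsmul]

theorem projOn_zero {N : Type*} [Group N] [Fintype N] (F : Finset (N → ℂ)) :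
    projOn F (0 : N → ℂ) = 0 := by
  unfold projOn
  apply Finset.sum_eq_zero
  intro χ _
  rw [classInner_zero_left', zero_smul]

theorem projOn_of_mem {N : Type*} [Group N] [Fintype N] [DecidableEq (N → ℂ)]
    (F : Finset (N → ℂ))
    (horth : ∀ a ∈ F, ∀ b ∈ F, Cfsg.classInner a b = if a = b then 1 else 0) (χ : N → ℂ)
    (hχ : χ ∈ F) : projOn F χ = χ := by
  unfold projOn
  rw [Finset.sum_eq_single χ]
  · rw [horth χ hχ χ hχ, if_pos rfl, one_smul]
  · intro b hb hne
    rw [horth χ hχ b hb, if_neg (Ne.symm hne), zero_smul]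
  · intro h
    exact absurd hχ h

theorem projOn_of_orth {N : Type*} [Group N] [Fintype N] (F : Finset (N → ℂ)) (θ : N → ℂ)
    (h : ∀ χ ∈ F, Cfsg.classInner θ χ = 0) : projOn F θ = 0 := by
  unfold projOn
  apply Finset.sum_eq_zero
  intro χ hχ
  rw [h χ hχ, zero_smul]

/-- decomposition of an element of the integer span of a disjoint union of two orthonormal sets -/
theorem zspan_union_decomp {N : Type*} [Group N] [Fintype N] [DecidableEq (N → ℂ)]
    (X Y : Set (N → ℂ)) (FX FY : Finset (N → ℂ)) (hFX : ∀ a, a ∈ FX ↔ a ∈ X)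
    (hFY : ∀ a, a ∈ FY ↔ a ∈ Y)
    (horth : ∀ a ∈ X ∪ Y, ∀ b ∈ X ∪ Y, Cfsg.classInner a b = if a = b then 1 else 0)
    (hXY : Disjoint X Y) :
    ∀ θ ∈ Cfsg.zspan (X ∪ Y), projOn FX θ ∈ Cfsg.zspan X ∧ projOn FY θ ∈ Cfsg.zspan Y ∧
      θ = projOn FX θ + projOn FY θ := by
  intro θ hθ
  have hne : ∀ a ∈ X, ∀ b ∈ Y, a ≠ b := by
    intro a ha b hb hab
    rw [hab] at ha
    exact (Set.disjoint_left.mp hXY) ha hb
  have horthX : ∀ a ∈ FX, ∀ b ∈ FX, Cfsg.classInner a b = if a = b then 1 else 0 :=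
    fun a ha b hb => horth a (Or.inl ((hFX a).mp ha)) b (Or.inl ((hFX b).mp hb))
  have horthY : ∀ a ∈ FY, ∀ b ∈ FY, Cfsg.classInner a b = if a = b then 1 else 0 :=
    fun a ha b hb => horth a (Or.inr ((hFY a).mp ha)) b (Or.inr ((hFY b).mp hb))
  induction hθ using Submodule.span_induction with
  | mem χ h =>
    rcases h with h | h
    · have h1 : projOn FX χ = χ := projOn_of_mem FX horthX χ ((hFX χ).mpr h)
      have h2 : projOn FY χ = 0 := by
        apply projOn_of_orth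
        intro b hb
        rw [horth χ (Or.inl h) b (Or.inr ((hFY b).mp hb)), if_neg (hne χ h b ((hFY b).mp hb))]
      rw [h1, h2, add_zero]
      exact ⟨zspan_of_mem h, zspan_zero Y, rfl⟩
    · have h1 : projOn FY χ = χ := projOn_of_mem FY horthY χ ((hFY χ).mpr h)
      have h2 : projOn FX χ = 0 := by
        apply projOn_of_orth
        intro b hb
        rw [horth χ (Or.inr h) b (Or.inl ((hFX b).mp hb)),
          if_neg (fun e => hne b ((hFX b).mp hb) χ h e.symm)]
      rw [h1, h2, zero_add]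
      exact ⟨zspan_zero X, zspan_of_mem h, rfl⟩
  | zero =>
    rw [projOn_zero, projOn_zero, add_zero]
    exact ⟨zspan_zero X, zspan_zero Y, rfl⟩
  | add a b ha hb iha ihb =>
    rw [projOn_add, projOn_add]
    refine ⟨zspan_add iha.1 ihb.1, zspan_add iha.2.1 ihb.2.1, ?_⟩
    calc a + b = (projOn FX a + projOn FY a) + (projOn FX b + projOn FY b) := by
          rw [← iha.2.2, ← ihb.2.2]
      _ = _ := by abel
  | smul n a ha iha =>
    rw [projOn_zsmul, projOn_zsmul]
    refine ⟨zspan_zsmul n iha.1, zspan_zsmul n iha.2.1, ?_⟩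
    calc n • a = n • (projOn FX a + projOn FY a) := by rw [← iha.2.2]
      _ = _ := by rw [smul_add]

/-- gluing two linear isometries with mutually orthogonal images on disjoint orthonormal sets -/
theorem glue_isometry {N G : Type*} [Group N] [Fintype N] [Group G] [Fintype G]
    [DecidableEq (N → ℂ)]
    (X Y : Set (N → ℂ)) (FX FY : Finset (N → ℂ)) (hFX : ∀ a, a ∈ FX ↔ a ∈ X)
    (hFY : ∀ a, a ∈ FY ↔ a ∈ Y)
    (horth : ∀ a ∈ X ∪ Y, ∀ b ∈ X ∪ Y, Cfsg.classInner a b = if a = b then 1 else 0)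
    (hXY : Disjoint X Y) (σ τ : (N → ℂ) → (G → ℂ))
    (hσ : Cfsg.IsLinearIsometryOn (Cfsg.zspan X) σ)
    (hτ : Cfsg.IsLinearIsometryOn (Cfsg.zspan Y) τ)
    (hcr : ∀ χ ∈ X, ∀ η ∈ Y, Cfsg.classInner (σ χ) (τ η) = 0) :
    Cfsg.IsLinearIsometryOn (Cfsg.zspan (X ∪ Y))
      (fun θ => σ (projOn FX θ) + τ (projOn FY θ)) := by
  have hneXY : ∀ a ∈ X, ∀ b ∈ Y, a ≠ b := by
    intro a ha b hb hab
    rw [hab] at ha
    exact (Set.disjoint_left.mp hXY) ha hb
  have hdec := zspan_union_decomp X Y FX FY hFX hFY horth hXY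
  have hcrossσ : ∀ x ∈ Cfsg.zspan X, ∀ y ∈ Cfsg.zspan Y, Cfsg.classInner (σ x) (τ y) = 0 := by
    intro x hx y hy
    have h1 : ∀ χ ∈ X, Cfsg.classInner (σ χ) (τ y) = 0 := by
      intro χ hχ
      exact isoOn_span_induction hτ (fun w => Cfsg.classInner (σ χ) w)
        (fun a b => h7_classInner_add_right _ a b) (fun n a => classInner_zsmul_right n _ a)
        (fun η hη => hcr χ hχ η hη) y hy
    exact isoOn_span_induction hσ (fun w => Cfsg.classInner w (τ y))
      (fun a b => classInner_add_left' a b _) (fun n a => classInner_zsmul_left n a _) h1 x hx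
  have hcross : ∀ x ∈ Cfsg.zspan X, ∀ y ∈ Cfsg.zspan Y, Cfsg.classInner x y = 0 := by
    intro x hx y hy
    have h1 : ∀ χ ∈ X, Cfsg.classInner χ y = 0 := by
      intro χ hχ
      exact zspan_induction_zero (fun w => Cfsg.classInner χ w)
        (fun a b => h7_classInner_add_right _ a b) (fun n a => classInner_zsmul_right n _ a)
        (fun η hη => by
          show Cfsg.classInner χ η = 0
          rw [horth χ (Or.inl hχ) η (Or.inr hη), if_neg (hneXY χ hχ η hη)]) y hy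
    exact zspan_induction_zero (fun w => Cfsg.classInner w y)
      (fun a b => classInner_add_left' a b _) (fun n a => classInner_zsmul_left n a _) h1 x hx
  refine ⟨?_, ?_, ?_, ?_⟩
  · intro a ha b hb
    obtain ⟨hxa, hya, -⟩ := hdec a ha
    obtain ⟨hxb, hyb, -⟩ := hdec b hb
    simp only
    rw [projOn_add, projOn_add, hσ.1 _ hxa _ hxb, hτ.1 _ hya _ hyb]
    abel
  · intro a ha n
    obtain ⟨hxa, hya, -⟩ := hdec a ha
    simp only
    rw [projOn_zsmul, projOn_zsmul, hσ.2.1 _ hxa n, hτ.2.1 _ hya n, smul_add]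
  · intro a ha b hb
    obtain ⟨hxa, hya, haeq⟩ := hdec a ha
    obtain ⟨hxb, hyb, hbeq⟩ := hdec b hb
    simp only
    conv_rhs => rw [haeq, hbeq]
    simp only [classInner_add_left', h7_classInner_add_right]
    rw [hσ.2.2.1 _ hxa _ hxb, hτ.2.2.1 _ hya _ hyb, hcrossσ _ hxa _ hyb, hcross _ hxa _ hyb,
      Cfsg.Agent.Lib.Helper11.classInner_conj_symm (τ (projOn FY a)) (σ (projOn FX b)),
      hcrossσ _ hxb _ hya,
      Cfsg.Agent.Lib.Helper11.classInner_conj_symm (projOn FY a) (projOn FX b),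
      hcross _ hxb _ hya]
  · intro a ha
    obtain ⟨hxa, hya, -⟩ := hdec a ha
    exact genChar_add (hσ.2.2.2 _ hxa) (hτ.2.2.2 _ hya)

/-! ### positivity of the inner product -/

theorem classInner_self_eq {G : Type*} [Group G] [Fintype G] (f : G → ℂ) :
    Cfsg.classInner f f =
      (((Nat.card G : ℝ)⁻¹ * ∑ g : G, Complex.normSq (f g) : ℝ) : ℂ) := by
  unfold Cfsg.classInner
  push_cast
  congr 1
  apply Finset.sum_congr rfl
  intro g _
  rw [Complex.mul_conj]

theorem classInner_self_nonneg {G : Type*} [Group G] [Fintype G] (f : G → ℂ) :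
    0 ≤ (Nat.card G : ℝ)⁻¹ * ∑ g : G, Complex.normSq (f g) := by
  apply mul_nonneg
  · positivity
  · exact Finset.sum_nonneg (fun g _ => Complex.normSq_nonneg _)

theorem eq_zero_of_classInner_self {G : Type*} [Group G] [Fintype G] (f : G → ℂ)
    (h : Cfsg.classInner f f = 0) : f = 0 := by
  rw [classInner_self_eq] at h
  have h1 : (Nat.card G : ℝ)⁻¹ * ∑ g : G, Complex.normSq (f g) = 0 := by exact_mod_cast h
  have hG : (Nat.card G : ℝ)⁻¹ ≠ 0 := by
    have : 0 < Nat.card G := Nat.card_pos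
    positivity
  have h2 : ∑ g : G, Complex.normSq (f g) = 0 := by
    rcases mul_eq_zero.mp h1 with h | h
    · exact absurd h hG
    · exact h
  funext g
  have h3 := (Finset.sum_eq_zero_iff_of_nonneg (fun g _ => Complex.normSq_nonneg (f g))).mp h2 g
    (Finset.mem_univ g)
  exact Complex.normSq_eq_zero.mp h3

/-- the norm of a generalized character is a nonnegative integer -/
theorem genChar_norm_nat {G : Type*} [Group G] [Fintype G] (θ : G → ℂ)
    (hθ : Cfsg.IsGeneralizedCharacter G θ) : ∃ g : ℕ, Cfsg.classInner θ θ = (g : ℂ) := by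
  obtain ⟨z, hz⟩ := genChar_inner_genChar_int θ θ hθ hθ
  have h1 := classInner_self_eq θ
  have h2 := classInner_self_nonneg θ
  rw [hz] at h1
  have h3 : ((z : ℝ) : ℂ) = (((Nat.card G : ℝ)⁻¹ * ∑ g : G, Complex.normSq (θ g) : ℝ) : ℂ) := by
    rw [← h1]
    push_cast
    rfl
  have h4 : (z : ℝ) = (Nat.card G : ℝ)⁻¹ * ∑ g : G, Complex.normSq (θ g) :=
    Complex.ofReal_injective h3
  have h5 : (0 : ℝ) ≤ (z : ℝ) := by rw [h4]; exact h2
  have h6 : 0 ≤ z := by exact_mod_cast h5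
  refine ⟨z.toNat, ?_⟩
  rw [hz]
  have : ((z.toNat : ℤ) : ℂ) = (z : ℂ) := by rw [Int.toNat_of_nonneg h6]
  rw [← this]
  push_cast
  rfl

/-! ### closure properties of generalized characters -/

theorem genChar_zero (G : Type*) [Group G] : Cfsg.IsGeneralizedCharacter G (0 : G → ℂ) :=
  ⟨0, 0, isCharacter_zero G, isCharacter_zero G, by simp⟩

theorem genChar_neg {G : Type*} [Group G] {a : G → ℂ} (ha : Cfsg.IsGeneralizedCharacter G a) :
    Cfsg.IsGeneralizedCharacter G (-a) := by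
  obtain ⟨χ, ψ, hχ, hψ, rfl⟩ := ha
  exact ⟨ψ, χ, hψ, hχ, by abel⟩

theorem genChar_sub {G : Type*} [Group G] {a b : G → ℂ} (ha : Cfsg.IsGeneralizedCharacter G a)
    (hb : Cfsg.IsGeneralizedCharacter G b) : Cfsg.IsGeneralizedCharacter G (a - b) := by
  rw [sub_eq_add_neg]
  exact genChar_add ha (genChar_neg hb)

theorem genChar_nsmul {G : Type*} [Group G] (n : ℕ) {a : G → ℂ}
    (ha : Cfsg.IsGeneralizedCharacter G a) : Cfsg.IsGeneralizedCharacter G (n • a) := by
  obtain ⟨χ, ψ, hχ, hψ, rfl⟩ := ha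
  exact ⟨n • χ, n • ψ, isCharacter_nsmul hχ n, isCharacter_nsmul hψ n, by rw [smul_sub]⟩

theorem genChar_zsmul {G : Type*} [Group G] (n : ℤ) {a : G → ℂ}
    (ha : Cfsg.IsGeneralizedCharacter G a) : Cfsg.IsGeneralizedCharacter G (n • a) := by
  cases n with
  | ofNat k =>
    rw [Int.ofNat_eq_natCast, natCast_zsmul]
    exact genChar_nsmul k ha
  | negSucc k =>
    rw [negSucc_zsmul]
    exact genChar_neg (genChar_nsmul (k + 1) ha)

theorem genChar_sum {G : Type*} [Group G] {ι : Type*} (s : Finset ι) (f : ι → G → ℂ)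
    (h : ∀ i ∈ s, Cfsg.IsGeneralizedCharacter G (f i)) :
    Cfsg.IsGeneralizedCharacter G (∑ i ∈ s, f i) := by
  classical
  induction s using Finset.induction_on with
  | empty => rw [Finset.sum_empty]; exact genChar_zero G
  | insert a s ha ih =>
    rw [Finset.sum_insert ha]
    exact genChar_add (h a (Finset.mem_insert_self a s))
      (ih fun i hi => h i (Finset.mem_insert_of_mem hi))

end Cfsg.Agent.Lib.Helper11
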