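import Mathlib
import Cfsg.Agent.Lib.Helper11.LinCharDual

set_option autoImplicit false
open scoped ComplexConjugate Pointwise

namespace Cfsg.Agent.Lib.Helper11

theorem card_eq_mul_of_disjoint_sup {W : Type*} [Group W] [Finite W]
    (hcomm : ∀ a b : W, a * b = b * a) (H₁ H₂ : Subgroup W) (hd : H₁ ⊓ H₂ = ⊥)
    (hs : H₁ ⊔ H₂ = ⊤) : Nat.card H₁ * Nat.card H₂ = Nat.card W := by
  have hN : H₂.Normal := ⟨fun n hn g => by
    have : g * n * g⁻¹ = n := by rw [hcomm g n, mul_assoc, mul_inv_cancel, mul_one]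
    rw [this]; exact hn⟩
  have h1 : (H₁ : Set W) * (H₂ : Set W) = Set.univ := by
    rw [← Subgroup.mul_normal H₁ H₂, hs]
    rfl
  exact (Subgroup.isComplement'_of_disjoint_and_mul_eq_univ (disjoint_iff.mpr hd) h1).card_mul_card

theorem card_linChar {W : Type*} [Group W] [Finite W] (hcomm : ∀ a b : W, a * b = b * a) :
    Nat.card (W →* ℂˣ) = Nat.card W := by
  letI : CommGroup W := { (inferInstance : Group W) with mul_comm := hcomm }
  exact CommGroup.card_monoidHom_of_hasEnoughRootsOfUnity W ℂ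

theorem card_annih {W : Type*} [Group W] [Finite W] (hcomm : ∀ a b : W, a * b = b * a)
    (H : Subgroup W) : Nat.card (annih H) * Nat.card H = Nat.card W := by
  letI : CommGroup W := { (inferInstance : Group W) with mul_comm := hcomm }
  have h1 := CommGroup.card_domRestrictHom_ker ℂ H
  have h2 : Nat.card (annih H) = Nat.card ↥(MonoidHom.domRestrictHom H ℂˣ).ker := by
    apply Nat.card_congr
    refine ⟨fun φ => ⟨φ.1, ?_⟩, fun φ => ⟨φ.1, ?_⟩, fun φ => rfl, fun φ => rfl⟩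
    · rw [MonoidHom.mem_ker]
      exact MonoidHom.domRestrict_eq_one_iff.mpr φ.2
    · have := φ.2
      rw [MonoidHom.mem_ker] at this
      exact MonoidHom.domRestrict_eq_one_iff.mp this
  rw [h2, h1]
  exact (Subgroup.card_eq_card_quotient_mul_card_subgroup H).symm

theorem eq_one_of_mem_annih_both {W : Type*} [Group W] (H₁ H₂ : Subgroup W)
    (hs : H₁ ⊔ H₂ = ⊤) (η : W →* ℂˣ) (h1 : η ∈ annih H₁) (h2 : η ∈ annih H₂) : η = 1 := by
  have hle : H₁ ⊔ H₂ ≤ η.ker := by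
    apply sup_le
    · intro x hx
      exact MonoidHom.mem_ker.mpr (h1 x hx)
    · intro x hx
      exact MonoidHom.mem_ker.mpr (h2 x hx)
  rw [hs] at hle
  ext w
  have := hle (Subgroup.mem_top w)
  rw [MonoidHom.mem_ker] at this
  rw [this]
  rfl

theorem annih_prod_injective {W : Type*} [Group W] (H₁ H₂ : Subgroup W) (hs : H₁ ⊔ H₂ = ⊤) :
    Function.Injective (fun p : ↥(annih H₂) × ↥(annih H₁) => ((p.1 : W →* ℂˣ) * (p.2 : W →* ℂˣ))) := by
  rintro ⟨φ, ψ⟩ ⟨φ', ψ'⟩ h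
  simp only at h
  have hη : (φ : W →* ℂˣ) * (φ' : W →* ℂˣ)⁻¹ = (ψ' : W →* ℂˣ) * (ψ : W →* ℂˣ)⁻¹ := by
    ext w
    have hw := DFunLike.congr_fun h w
    simp only [MonoidHom.mul_apply, MonoidHom.inv_apply] at hw ⊢
    have e : (φ : W →* ℂˣ) w = (φ' : W →* ℂˣ) w * (ψ' : W →* ℂˣ) w * ((ψ : W →* ℂˣ) w)⁻¹ := by
      rw [← hw, mul_inv_cancel_right]
    rw [e]
    congr 1
    rw [mul_comm ((φ' : W →* ℂˣ) w), mul_assoc, mul_assoc, mul_comm ((φ' : W →* ℂˣ) w),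
      mul_assoc, inv_mul_cancel, mul_one]
  have h1 : (φ : W →* ℂˣ) * (φ' : W →* ℂˣ)⁻¹ ∈ annih H₂ :=
    (annih H₂).mul_mem φ.2 ((annih H₂).inv_mem φ'.2)
  have h2 : (φ : W →* ℂˣ) * (φ' : W →* ℂˣ)⁻¹ ∈ annih H₁ := by
    rw [hη]
    exact (annih H₁).mul_mem ψ'.2 ((annih H₁).inv_mem ψ.2)
  have h3 := eq_one_of_mem_annih_both H₁ H₂ hs _ h2 h1
  have e1 : (φ : W →* ℂˣ) = φ' := by
    ext w
    have := DFunLike.congr_fun h3 w
    rw [MonoidHom.mul_apply, MonoidHom.inv_apply, MonoidHom.one_apply, mul_inv_eq_one] at this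
    rw [this]
  have e2 : (ψ : W →* ℂˣ) = ψ' := by
    rw [e1] at h
    ext w
    have hw := DFunLike.congr_fun h w
    rw [MonoidHom.mul_apply, MonoidHom.mul_apply] at hw
    rw [mul_left_cancel hw]
  exact Prod.ext (Subtype.ext e1) (Subtype.ext e2)

theorem annih_prod_bijective {W : Type*} [Group W] [Finite W]
    (hcomm : ∀ a b : W, a * b = b * a) (H₁ H₂ : Subgroup W) (hd : H₁ ⊓ H₂ = ⊥)
    (hs : H₁ ⊔ H₂ = ⊤) :
    Function.Bijective (fun p : ↥(annih H₂) × ↥(annih H₁) => ((p.1 : W →* ℂˣ) * (p.2 : W →* ℂˣ))) := by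
  rw [Nat.bijective_iff_injective_and_card]
  refine ⟨annih_prod_injective H₁ H₂ hs, ?_⟩
  rw [Nat.card_prod, card_linChar hcomm]
  have h1 := card_annih hcomm H₁
  have h2 := card_annih hcomm H₂
  have h3 := card_eq_mul_of_disjoint_sup hcomm H₁ H₂ hd hs
  have hp1 : 0 < Nat.card H₁ := Nat.card_pos
  have hp2 : 0 < Nat.card H₂ := Nat.card_pos
  -- |annih H₂| = |H₁|, |annih H₁| = |H₂|
  have e2 : Nat.card (annih H₂) = Nat.card H₁ := by
    apply Nat.eq_of_mul_eq_mul_right hp2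
    rw [h2, h3]
  have e1 : Nat.card (annih H₁) = Nat.card H₂ := by
    apply Nat.eq_of_mul_eq_mul_right hp1
    rw [h1, ← h3, mul_comm]
  rw [e1, e2, h3]

theorem card_annih_eq {W : Type*} [Group W] [Finite W]
    (hcomm : ∀ a b : W, a * b = b * a) (H₁ H₂ : Subgroup W) (hd : H₁ ⊓ H₂ = ⊥)
    (hs : H₁ ⊔ H₂ = ⊤) :
    Nat.card (annih H₂) = Nat.card H₁ ∧ Nat.card (annih H₁) = Nat.card H₂ := by
  have h1 := card_annih hcomm H₁
  have h2 := card_annih hcomm H₂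
  have h3 := card_eq_mul_of_disjoint_sup hcomm H₁ H₂ hd hs
  have hp1 : 0 < Nat.card H₁ := Nat.card_pos
  have hp2 : 0 < Nat.card H₂ := Nat.card_pos
  constructor
  · apply Nat.eq_of_mul_eq_mul_right hp2
    rw [h2, h3]
  · apply Nat.eq_of_mul_eq_mul_right hp1
    rw [h1, ← h3, mul_comm]

end Cfsg.Agent.Lib.Helper11
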