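import Mathlib
import Cfsg.Agent.Lib.helper7.BD.Defs

/-! Project BD, piece TRIV: the trace from the trivial subgroup of an endomorphism of a module on
which a subgroup of order divisible by `p = char F` acts trivially is zero. -/

set_option autoImplicit false
set_option linter.unusedVariables false
set_option linter.unusedSectionVars false
set_option linter.style.haveILetI false

namespace Cfsg.Agent.Lib.helper7.BD

universe u v w

section A
variable {F : Type*} [Field F] {G : Type u} [Group G] [Fintype G]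
variable {V : Type*} [AddCommGroup V] [Module F V] {W : Type*} [AddCommGroup W] [Module F W]

/-- the map `(q, x) ↦ q.out * x` from `(G ⧸ P) × P` to `G` is bijective -/
theorem bdtriv_bijective (P : Subgroup G) :
    Function.Bijective (fun qx : (G ⧸ P) × P => (Quotient.out qx.1 : G) * (qx.2 : G)) := by
  constructor
  · rintro ⟨q, x⟩ ⟨q', x'⟩ h
    simp only at h
    have hq : q = q' := by
      have h1 : ((Quotient.out q * (x : G) : G) : G ⧸ P) = q := by
        rw [QuotientGroup.mk_mul_of_mem _ x.2]
        exact QuotientGroup.out_eq' q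
      have h2 : ((Quotient.out q' * (x' : G) : G) : G ⧸ P) = q' := by
        rw [QuotientGroup.mk_mul_of_mem _ x'.2]
        exact QuotientGroup.out_eq' q'
      rw [← h1, ← h2, h]
    subst hq
    have hx : (x : G) = x' := mul_left_cancel h
    rw [Subtype.ext hx]
  · intro g
    have hmem : (Quotient.out (g : G ⧸ P) : G)⁻¹ * g ∈ P := by
      rw [← QuotientGroup.eq]
      exact QuotientGroup.out_eq' (g : G ⧸ P)
    refine ⟨((g : G ⧸ P), ⟨_, hmem⟩), ?_⟩
    simp

/-- TRIV -/
theorem tr1_eq_zero_of_trivial {p : ℕ} [Fact p.Prime] [CharP F p] (P : Subgroup G) (hP : p ∣ Nat.card P)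
    (σ : Representation F G W) (hσ : ∀ x ∈ P, σ x = LinearMap.id) (φ : W →ₗ[F] W) : tr1 σ σ φ = 0 := by
  classical
  haveI : Fintype P := Fintype.ofFinite _
  haveI : Fintype (G ⧸ P) := Fintype.ofFinite _
  unfold tr1
  rw [← (bdtriv_bijective P).sum_comp (fun g : G => σ g ∘ₗ φ ∘ₗ σ g⁻¹), Fintype.sum_prod_type]
  have key : ∀ (q : G ⧸ P) (x : P),
      σ ((Quotient.out q : G) * (x : G)) ∘ₗ φ ∘ₗ σ ((Quotient.out q : G) * (x : G))⁻¹ =
        σ (Quotient.out q : G) ∘ₗ φ ∘ₗ σ (Quotient.out q : G)⁻¹ := by
    intro q x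
    have h1 : σ ((Quotient.out q : G) * (x : G)) = σ (Quotient.out q : G) := by
      rw [map_mul, hσ x x.2]
      rfl
    have h2 : σ ((Quotient.out q : G) * (x : G))⁻¹ = σ (Quotient.out q : G)⁻¹ := by
      rw [mul_inv_rev, map_mul, hσ _ (P.inv_mem x.2)]
      rfl
    rw [h1, h2]
  simp only [key]
  have hzero : ((Fintype.card P : ℕ) : F) = 0 := by
    rw [CharP.cast_eq_zero_iff F p, ← Nat.card_eq_fintype_card]
    exact hP
  refine Finset.sum_eq_zero fun q _ => ?_
  rw [Finset.sum_const, Finset.card_univ, ← Nat.cast_smul_eq_nsmul F, hzero, zero_smul]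

end A

end Cfsg.Agent.Lib.helper7.BD
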