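import Mathlib
import Cfsg.Agent.Lib.helper7.BD.Defs

/-! Project BD, piece STAB: in the local situation `H = ⟨x⟩ L`, the `F⟨x⟩`-span of an `L`-stable
subspace is `H`-stable, and `ker ((ρ x - 1)^m)` is `L`-stable. -/

set_option autoImplicit false
set_option linter.unusedVariables false
set_option linter.unusedSectionVars false
set_option linter.style.haveILetI false

namespace Cfsg.Agent.Lib.helper7.BD

universe u v w

section D
variable {F : Type*} [Field F]

/-- `a^k - 1 = c * (a - 1)` with `c` commuting with `a - 1` -/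
theorem bdstab_factor {R : Type*} [Ring R] (a : R) (k : ℕ) :
    ∃ c : R, Commute c (a - 1) ∧ a ^ k - 1 = c * (a - 1) := by
  refine ⟨∑ i ∈ Finset.range k, a ^ i, ?_, (geom_sum_mul a k).symm⟩
  apply Commute.sum_left
  intro i _
  apply Commute.pow_left
  exact (Commute.refl a).sub_right (Commute.one_right a)

/-- STAB : the `F⟨x⟩`-span of an `L`-stable subspace is `H`-stable, and `ker ((ρ x - 1)^m)` is `L`-stable -/
theorem span_stable {H : Type u} [Group H] {p : ℕ} [Fact p.Prime] [CharP F p]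
    (x : H) (L : Subgroup H) (hs : LocalSetup p x L) {Y : Type v} [AddCommGroup Y] [Module F Y]
    (ρ : Representation F H Y) (S₀ : Submodule F Y) (hS₀ : ∀ l ∈ L, ∀ y ∈ S₀, ρ l y ∈ S₀) (n : ℕ)
    (hn : (ρ x - 1) ^ (n + 1) = 0) :
    (∀ h : H, ∀ y ∈ (⨆ i : Fin (n + 1), S₀.map ((ρ x - 1) ^ (i : ℕ))),
      ρ h y ∈ (⨆ i : Fin (n + 1), S₀.map ((ρ x - 1) ^ (i : ℕ)))) ∧
    (∀ l ∈ L, ∀ m : ℕ, ∀ y : Y, ((ρ x - 1) ^ m) y = 0 → ((ρ x - 1) ^ m) (ρ l y) = 0) := by
  set u : Module.End F Y := ρ x - 1 with hu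
  set U : Submodule F Y := ⨆ i : Fin (n + 1), S₀.map (u ^ (i : ℕ)) with hU
  -- `S₀ ≤ U`
  have hS₀U : S₀ ≤ U := by
    intro s hs0
    refine Submodule.mem_iSup_of_mem (0 : Fin (n + 1)) ?_
    exact ⟨s, hs0, by simp⟩
  -- `u U ⊆ U`
  have hUu : U ≤ U.comap u := by
    refine iSup_le fun i => ?_
    rw [Submodule.map_le_iff_le_comap]
    intro s hs0
    rw [Submodule.mem_comap, Submodule.mem_comap]
    have h1 : u ((u ^ (i : ℕ)) s) = (u ^ ((i : ℕ) + 1)) s := by
      rw [pow_succ', Module.End.mul_apply]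
    rw [h1]
    by_cases hi : (i : ℕ) + 1 < n + 1
    · refine Submodule.mem_iSup_of_mem (⟨(i : ℕ) + 1, hi⟩ : Fin (n + 1)) ?_
      exact ⟨s, hs0, rfl⟩
    · have hin : (i : ℕ) + 1 = n + 1 := by
        have := i.2
        omega
      rw [hin, hn]
      exact U.zero_mem
  have hUu' : ∀ y ∈ U, u y ∈ U := fun y hy => hUu hy
  -- `ρ x U ⊆ U`
  have hUx : ∀ y ∈ U, ρ x y ∈ U := by
    intro y hy
    have : ρ x y = u y + y := by
      rw [hu, LinearMap.sub_apply]
      simp
    rw [this]
    exact U.add_mem (hUu' y hy) hy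
  have hUxpow : ∀ k : ℕ, ∀ y ∈ U, ((ρ x) ^ k) y ∈ U := by
    intro k
    induction k with
    | zero => intro y hy; simpa using hy
    | succ k ih =>
      intro y hy
      rw [pow_succ', Module.End.mul_apply]
      exact hUx _ (ih y hy)
  -- conjugation relations
  have hconj : ∀ h : H, ∃ k : ℕ, ρ h * u = ((ρ x) ^ k - 1) * ρ h := by
    intro h
    obtain ⟨k, hk⟩ := hs.norm h
    refine ⟨k, ?_⟩
    have h1 : h * x = x ^ k * h := by
      rw [← hk]
      group
    rw [hu, mul_sub, sub_mul, mul_one, one_mul, ← map_mul, h1, map_mul, map_pow]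
  -- `ρ l U ⊆ U` for `l ∈ L`
  have hUl : ∀ l ∈ L, ∀ y ∈ U, ρ l y ∈ U := by
    intro l hl
    obtain ⟨k, hk⟩ := hconj l
    set v : Module.End F Y := (ρ x) ^ k - 1 with hv
    have hvU : ∀ y ∈ U, v y ∈ U := by
      intro y hy
      rw [hv, LinearMap.sub_apply]
      refine U.sub_mem (hUxpow k y hy) ?_
      simpa using hy
    have hvpow : ∀ j : ℕ, ∀ y ∈ U, (v ^ j) y ∈ U := by
      intro j
      induction j with
      | zero => intro y hy; simpa using hy
      | succ j ih =>
        intro y hy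
        rw [pow_succ', Module.End.mul_apply]
        exact hvU _ (ih y hy)
    have hpow : ∀ j : ℕ, ρ l * u ^ j = v ^ j * ρ l := by
      intro j
      induction j with
      | zero => simp
      | succ j ih =>
        rw [pow_succ, ← mul_assoc, ih, mul_assoc, hk, ← mul_assoc, ← pow_succ]
    have hle : U ≤ U.comap (ρ l) := by
      refine iSup_le fun i => ?_
      rw [Submodule.map_le_iff_le_comap]
      intro s hs0
      rw [Submodule.mem_comap, Submodule.mem_comap]
      have h1 : ρ l ((u ^ (i : ℕ)) s) = (v ^ (i : ℕ)) (ρ l s) := by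
        have := LinearMap.congr_fun (hpow (i : ℕ)) s
        simpa [Module.End.mul_apply] using this
      rw [h1]
      exact hvpow _ _ (hS₀U (hS₀ l hl s hs0))
    exact fun y hy => hle hy
  refine ⟨?_, ?_⟩
  · intro h y hy
    obtain ⟨k, l, hl, rfl⟩ := hs.gen h
    rw [map_mul, map_pow, Module.End.mul_apply]
    exact hUxpow k _ (hUl l hl y hy)
  · intro l hl m y hy
    -- `u * ρ l = ρ l * v'` with `v' = c * u`
    obtain ⟨k, hk⟩ := hconj l⁻¹
    have hinv1 : ρ l * ρ l⁻¹ = 1 := by rw [← map_mul, mul_inv_cancel, map_one]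
    have hinv2 : ρ l⁻¹ * ρ l = 1 := by rw [← map_mul, inv_mul_cancel, map_one]
    set v : Module.End F Y := (ρ x) ^ k - 1 with hv
    have h1 : u * ρ l = ρ l * v := by
      calc u * ρ l = (ρ l * ρ l⁻¹) * u * ρ l := by rw [hinv1, one_mul]
        _ = ρ l * (ρ l⁻¹ * u) * ρ l := by rw [mul_assoc (ρ l)]
        _ = ρ l * (v * ρ l⁻¹) * ρ l := by rw [hk]
        _ = ρ l * v * (ρ l⁻¹ * ρ l) := by simp only [mul_assoc]
        _ = ρ l * v := by rw [hinv2, mul_one]
    have hpow : ∀ j : ℕ, u ^ j * ρ l = ρ l * v ^ j := by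
      intro j
      induction j with
      | zero => simp
      | succ j ih =>
        rw [pow_succ, mul_assoc, h1, ← mul_assoc, ih, mul_assoc, ← pow_succ]
    obtain ⟨c, hcu, hcv⟩ := bdstab_factor (ρ x) k
    have hvm : v ^ m = c ^ m * u ^ m := by
      rw [hv, hcv, ← hu]
      exact hcu.mul_pow m
    have := LinearMap.congr_fun (hpow m) y
    rw [Module.End.mul_apply, Module.End.mul_apply, hvm, Module.End.mul_apply, hy, map_zero,
      map_zero] at this
    exact this

end D

end Cfsg.Agent.Lib.helper7.BD
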