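import Mathlib
import Cfsg.Agent.Lib.Helper29.LeoFaithful
import Cfsg.Agent.Lib.helper15.BH.Defs

/-!
# Project BH (S4503, Brauer 1942) : piece CONJ
-/

set_option autoImplicit false
set_option linter.unusedVariables false
set_option linter.unusedSectionVars false
open scoped ComplexConjugate
open Classical

namespace Cfsg.Agent.Lib.helper15.BH

open Cfsg.Agent.Lib.helper7 Cfsg.Agent.Lib.helper2 Cfsg.Agent.Lib.Helper25 Cfsg.Agent.Lib.Helper29

universe u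

section abstract

variable {G : Type u} [Group G] [Fintype G]
variable {p : ℕ} {C N P : Subgroup G} {hPC : P ≤ C} {π : ↥C →* ↥P}

/-- CONJ : `leo_exists_conj_char` with two more conclusions -/
theorem exists_conj_char' (h : LeoSetup p C N P hPC π) (χ : Cfsg.IrrCharacter G)
    (θ₁ : Cfsg.IrrCharacter ↥C) (hθ₁ : leoOm h θ₁ ≠ 1)
    (hmult : ∀ θ, leoM C (χ : G → ℂ) θ = if θ ∈ leoOrb h θ₁ then 1 else 0)
    (lam : ↥P →* ℂˣ) (hl : lam * leoOm h θ₁ ≠ 1)
    (hnc : leoTw (lam.comp π) θ₁ ∉ leoOrb h θ₁) :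
    ∃ χ' : Cfsg.IrrCharacter G,
      (∀ c : ↥C, (χ' : G → ℂ) (c : G) =
        ∑ ϑ ∈ leoOrb h (leoTw (lam.comp π) θ₁), (ϑ : ↥C → ℂ) c) ∧
      χ' ≠ χ ∧
      ∀ g : G, (∀ (k : G) (c : ↥C), (c : G) = k⁻¹ * g * k → π c = 1) →
        (χ' : G → ℂ) g = (χ : G → ℂ) g := by
  obtain ⟨a, b, hab, hshape, hexp⟩ := leo_ind_shape h lam θ₁ hθ₁ hl hnc
  have h1 := hshape χ
  rw [hmult, hmult, if_neg hnc, if_pos (self_mem_leoOrb h θ₁)] at h1
  have hb : χ = b := by
    rcases afInd_cases χ b with ⟨h2, _⟩ | ⟨_, h2⟩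
    · rcases afInd_cases χ a with ⟨h3, _⟩ | ⟨h3, _⟩ <;> (push_cast at h1; omega)
    · exact h2
  have hval : ∀ g : G, (a : G → ℂ) g =
      Cfsg.indFun C (leoBeta (π := π) lam θ₁) g + (χ : G → ℂ) g := by
    intro g
    rw [hexp, hb]
    simp
  refine ⟨a, fun c => ?_, ?_, ?_⟩
  · rw [hval, leo_ind_res h lam θ₁ hθ₁ hl c, leo_res_orbit h χ θ₁ hmult c]
    ring
  · rw [hb]
    exact hab
  · intro g hg
    rw [hval]
    have h0 : Cfsg.indFun C (leoBeta (π := π) lam θ₁) g = 0 := by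
      unfold Cfsg.indFun
      rw [Finset.sum_eq_zero, mul_zero]
      intro x _
      by_cases hmem : x⁻¹ * g * x ∈ C
      · rw [h7_extendByZero_mem _ _ _ hmem]
        exact leoBeta_vanish lam θ₁ _ (hg x ⟨x⁻¹ * g * x, hmem⟩ rfl)
      · exact h7_extendByZero_not_mem _ _ _ hmem
    rw [h0, zero_add]

end abstract

end Cfsg.Agent.Lib.helper15.BH
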