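import Mathlib

set_option autoImplicit false
set_option linter.unusedVariables false
set_option linter.unusedSectionVars false
open scoped ComplexConjugate
open Classical

namespace Cfsg.Agent.Lib.helper15.BH

/-- COUNT : the final counting argument -/
theorem count_contra (p f : ℕ) (hp : p.Prime) (hf2 : 2 ≤ f) (h3f : 3 * f + 1 ≤ p) {ι : Type*}
    [DecidableEq ι] (X : Finset ι) (t0 : ι) (ht0 : t0 ∈ X) (hX : X.card = f) (a : ι → ℤ)
    (ha : ∀ i ∈ X, a i = 1 ∨ a i = -1) (deg : ι → ℕ) (hdeg0 : deg t0 = 1) (ha0 : a t0 = 1)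
    (hminus : ∀ i ∈ X, a i = -1 → deg i + 1 = p)
    (hplus : ∀ i ∈ X, a i = 1 → i ≠ t0 → p + 1 ≤ deg i)
    (hD : ∑ i ∈ X, a i * (deg i : ℤ) ≤ (f : ℤ))
    (hr : (X.filter (fun i => a i = -1)).card * (p - 1) ≤ f ^ 2) : False := by
  have hp2 : 2 ≤ p := hp.two_le
  -- split the sum
  have hsplit := Finset.sum_filter_add_sum_filter_not X (fun i => a i = -1)
    (fun i => a i * (deg i : ℤ))
  have hcards := Finset.card_filter_add_card_filter_not (s := X) (fun i => a i = -1)
  -- the minus part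
  have hm : ∑ i ∈ X.filter (fun i => a i = -1), a i * (deg i : ℤ) =
      ((X.filter (fun i => a i = -1)).card : ℤ) * (-((p : ℤ) - 1)) := by
    rw [Finset.sum_congr rfl (g := fun _ => -((p : ℤ) - 1)), Finset.sum_const, nsmul_eq_mul]
    intro i hi
    rw [Finset.mem_filter] at hi
    have := hminus i hi.1 hi.2
    rw [hi.2]
    have h2 : (deg i : ℤ) = (p : ℤ) - 1 := by
      have : ((deg i + 1 : ℕ) : ℤ) = (p : ℤ) := by exact_mod_cast this
      push_cast at this
      linarith
    rw [h2]; ring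
  -- the plus part
  have ht0Y : t0 ∈ X.filter (fun i => ¬ a i = -1) := by
    rw [Finset.mem_filter]
    exact ⟨ht0, by rw [ha0]; norm_num⟩
  have hY := Finset.add_sum_erase (X.filter (fun i => ¬ a i = -1))
    (fun i => a i * (deg i : ℤ)) ht0Y
  have hYe : ((X.filter (fun i => ¬ a i = -1)).erase t0).card • ((p : ℤ) + 1) ≤
      ∑ i ∈ (X.filter (fun i => ¬ a i = -1)).erase t0, a i * (deg i : ℤ) := by
    apply Finset.card_nsmul_le_sum
    intro i hi
    rw [Finset.mem_erase, Finset.mem_filter] at hi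
    obtain ⟨hne, hiX, hia⟩ := hi
    have hia1 : a i = 1 := by
      rcases ha i hiX with h | h
      · exact h
      · exact absurd h hia
    have := hplus i hiX hia1 hne
    rw [hia1, one_mul]
    exact_mod_cast this
  have hcardY : ((X.filter (fun i => ¬ a i = -1)).erase t0).card + 1 =
      (X.filter (fun i => ¬ a i = -1)).card := Finset.card_erase_add_one ht0Y
  rw [nsmul_eq_mul] at hYe
  -- names
  set r := (X.filter (fun i => a i = -1)).card with hrdef
  set s := ((X.filter (fun i => ¬ a i = -1)).erase t0).card with hsdef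
  have hf : f = r + s + 1 := by omega
  -- the inequality `s ≤ r`
  have h1 : (1 : ℤ) + (s : ℤ) * ((p : ℤ) + 1) - (r : ℤ) * ((p : ℤ) - 1) ≤ (f : ℤ) := by
    have e1 : a t0 * (deg t0 : ℤ) = 1 := by
      rw [ha0, hdeg0]; norm_num
    rw [e1] at hY
    calc (1 : ℤ) + (s : ℤ) * ((p : ℤ) + 1) - (r : ℤ) * ((p : ℤ) - 1)
        ≤ (r : ℤ) * (-((p : ℤ) - 1)) + (1 + ∑ i ∈ (X.filter (fun i => ¬ a i = -1)).erase t0,
            a i * (deg i : ℤ)) := by linarith
      _ = ∑ i ∈ X, a i * (deg i : ℤ) := by rw [hY, ← hm, hsplit]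
      _ ≤ (f : ℤ) := hD
  have hsr : s ≤ r := by
    have h2 : (s : ℤ) * (p : ℤ) ≤ (r : ℤ) * (p : ℤ) := by
      rw [hf] at h1
      push_cast at h1
      linarith
    have h3 : s * p ≤ r * p := by exact_mod_cast h2
    exact Nat.le_of_mul_le_mul_right h3 (by omega)
  -- `3 r ≤ f`
  have h3r : 3 * r ≤ f := by
    have h4 : r * (3 * f) ≤ r * (p - 1) := Nat.mul_le_mul_left r (by omega)
    have h5 : (3 * r) * f ≤ f * f := by
      calc (3 * r) * f = r * (3 * f) := by ring
        _ ≤ r * (p - 1) := h4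
        _ ≤ f ^ 2 := hr
        _ = f * f := by ring
    exact Nat.le_of_mul_le_mul_right h5 (by omega)
  -- so `r = 1`, `f = 3`, `p = 10`
  have hr1 : r = 1 := by omega
  have hf3 : f = 3 := by omega
  have hp10 : p = 10 := by
    rw [hr1, hf3] at hr
    omega
  rw [hp10] at hp
  norm_num at hp

end Cfsg.Agent.Lib.helper15.BH
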