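import Mathlib
import Cfsg.Agent.Lib.Helper29.LeoFaithful
import Cfsg.Agent.Lib.helper15.BH.Defs
import Cfsg.Agent.Lib.Helper29.BHAVG

/-!
# Project BH (S4503, Brauer 1942) : piece EXT
-/

set_option autoImplicit false
set_option linter.unusedVariables false
set_option linter.unusedSectionVars false
open scoped ComplexConjugate
open Classical

namespace Cfsg.Agent.Lib.helper15.BH

open Cfsg.Agent.Lib.helper7 Cfsg.Agent.Lib.helper2 Cfsg.Agent.Lib.Helper25 Cfsg.Agent.Lib.Helper29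

universe u

section abstract

variable {G : Type u} [Group G] [Fintype G]
variable {p : ℕ} {C N P : Subgroup G} {hPC : P ≤ C} {π : ↥C →* ↥P}

/-- the `P`-sum over a coset of a `P`-nontrivial irreducible character of `C` vanishes -/
theorem bhext_sum_coset (h : LeoSetup p C N P hPC π) (ϑ : Cfsg.IrrCharacter ↥C)
    (hϑ : leoOm h ϑ ≠ 1) (c : ↥C) :
    ∑ x : ↥P, (ϑ : ↥C → ℂ) (Subgroup.inclusion hPC x * c) = 0 := by
  simp only [leoOm_spec h ϑ]
  rw [← Finset.sum_mul, afd_sum_elems, if_neg hϑ, zero_mul]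

/-- the `P`-sum over a coset `P c`, `c ∈ ker π`, of a function which is an orbit sum off `ker π` -/
theorem bhext_coset (h : LeoSetup p C N P hPC π) (f : G → ℂ) (θ₁ : Cfsg.IrrCharacter ↥C)
    (hθ₁ : leoOm h θ₁ ≠ 1)
    (hval : ∀ c : ↥C, π c ≠ 1 → f (c : G) = ∑ ϑ ∈ leoOrb h θ₁, (ϑ : ↥C → ℂ) c)
    (c : ↥C) (hc : π c = 1) :
    ∑ x : ↥P, f ((x : G) * (c : G)) = f (c : G) - ∑ ϑ ∈ leoOrb h θ₁, (ϑ : ↥C → ℂ) c := by
  have h0 : ∑ x : ↥P, ∑ ϑ ∈ leoOrb h θ₁, (ϑ : ↥C → ℂ) (Subgroup.inclusion hPC x * c) = 0 := by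
    rw [Finset.sum_comm]
    apply Finset.sum_eq_zero
    intro ϑ hϑ
    exact bhext_sum_coset h ϑ (leoOm_ne_one_of_mem_orb h hθ₁ hϑ) c
  rw [← Finset.add_sum_erase _ _ (Finset.mem_univ (1 : ↥P))] at h0 ⊢
  have h1 : ∀ x ∈ (Finset.univ : Finset ↥P).erase 1, f ((x : G) * (c : G)) =
      ∑ ϑ ∈ leoOrb h θ₁, (ϑ : ↥C → ℂ) (Subgroup.inclusion hPC x * c) := by
    intro x hx
    have hx1 : x ≠ 1 := (Finset.mem_erase.mp hx).1
    have e1 : f ((x : G) * (c : G)) = f ((Subgroup.inclusion hPC x * c : ↥C) : G) := rfl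
    rw [e1]
    apply hval
    rw [map_mul, h.retract, hc, mul_one]
    exact hx1
  rw [Finset.sum_congr rfl h1]
  simp only [map_one, one_mul, Subgroup.coe_one] at h0 ⊢
  linear_combination h0

/-- EXT : if `χ` agrees with an orbit sum on the elements of `C` outside `ker π` and `χ(1) < |P|`, then
`χ|_C` is that orbit sum -/
theorem ext_orbit (h : LeoSetup p C N P hPC π) (χ : Cfsg.IrrCharacter G)
    (hdeg : leoDeg χ < Nat.card ↥P) (θ₁ : Cfsg.IrrCharacter ↥C) (hθ₁ : leoOm h θ₁ ≠ 1)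
    (hval : ∀ c : ↥C, π c ≠ 1 →
      (χ : G → ℂ) (c : G) = ∑ ϑ ∈ leoOrb h θ₁, (ϑ : ↥C → ℂ) c) :
    ∀ θ, leoM C (χ : G → ℂ) θ = if θ ∈ leoOrb h θ₁ then 1 else 0 := by
  have : Fintype (Cfsg.IrrCharacter ↥C) := Fintype.ofFinite _
  have hχ : Cfsg.IsCharacter G (χ : G → ℂ) := isCharacter_of_irr χ
  -- no `P`-fixed points
  have hA : leoA h (χ : G → ℂ) = 0 := by
    have h1 := bhext_coset h (χ : G → ℂ) θ₁ hθ₁ hval 1 (map_one π)
    have h2 := leo_sum_P_A h (χ : G → ℂ) hχ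
    simp only [Subgroup.coe_one, mul_one] at h1
    rw [h2] at h1
    have h3 : (χ : G → ℂ) 1 = (leoDeg χ : ℂ) := leoDeg_spec χ
    have h4 : ∑ ϑ ∈ leoOrb h θ₁, (ϑ : ↥C → ℂ) 1 = ((∑ ϑ ∈ leoOrb h θ₁, leoDeg ϑ : ℕ) : ℂ) := by
      push_cast
      exact Finset.sum_congr rfl (fun ϑ _ => leoDeg_spec ϑ)
    rw [h3, h4] at h1
    have h5 : Nat.card ↥P * leoA h (χ : G → ℂ) + ∑ ϑ ∈ leoOrb h θ₁, leoDeg ϑ = leoDeg χ := by
      have : ((Nat.card ↥P * leoA h (χ : G → ℂ) + ∑ ϑ ∈ leoOrb h θ₁, leoDeg ϑ : ℕ) : ℂ) =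
          (leoDeg χ : ℂ) := by
        push_cast
        push_cast at h1
        linear_combination h1
      exact_mod_cast this
    by_contra hne
    have h6 : 1 ≤ leoA h (χ : G → ℂ) := Nat.pos_of_ne_zero hne
    have h7 : Nat.card ↥P ≤ Nat.card ↥P * leoA h (χ : G → ℂ) := Nat.le_mul_of_pos_right _ h6
    omega
  -- the restriction to `C` is the orbit sum
  have hall : ∀ c : ↥C, (χ : G → ℂ) (c : G) = ∑ ϑ ∈ leoOrb h θ₁, (ϑ : ↥C → ℂ) c := by
    intro c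
    by_cases hc : π c = 1
    · have h1 := bhext_coset h (χ : G → ℂ) θ₁ hθ₁ hval c hc
      rw [avg_of_leoA_zero h χ hA c] at h1
      linear_combination -h1
    · exact hval c hc
  intro θ
  have h1 := leoM_spec C (χ : G → ℂ) hχ θ
  have h2 : (fun c : ↥C => (χ : G → ℂ) (c : G)) = ∑ ϑ ∈ leoOrb h θ₁, (ϑ : ↥C → ℂ) := by
    funext c
    rw [Finset.sum_apply]
    exact hall c
  rw [h2, Cfsg.Agent.Lib.helper2.classInner_conj_symm, leo_classInner_irr_sum] at h1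
  have h3 : ((if θ ∈ leoOrb h θ₁ then 1 else 0 : ℕ) : ℂ) = (leoM C (χ : G → ℂ) θ : ℂ) := by
    rw [← h1]
    split_ifs <;> simp
  exact_mod_cast h3.symm

end abstract

end Cfsg.Agent.Lib.helper15.BH
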