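import Mathlib
import Cfsg.Agent.Lib.Helper29.LeoFaithful
import Cfsg.Agent.Lib.helper15.BH.Defs

/-!
# Project BH (S4503, Brauer 1942) : piece KNORM
-/

set_option autoImplicit false
set_option linter.unusedVariables false
set_option linter.unusedSectionVars false
open scoped ComplexConjugate
open Classical

namespace Cfsg.Agent.Lib.helper15.BH

open Cfsg.Agent.Lib.helper7 Cfsg.Agent.Lib.helper2 Cfsg.Agent.Lib.Helper25 Cfsg.Agent.Lib.Helper29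

universe u

section abstract

variable {G : Type u} [Group G] [Fintype G]
variable {p : ℕ} {C N P : Subgroup G} {hPC : P ≤ C} {π : ↥C →* ↥P}

/-- the decomposition `C = P × ker π` -/
noncomputable def bhknorm_equiv (h : LeoSetup p C N P hPC π) : ↥P × ↥(π.ker) ≃ ↥C where
  toFun := fun xk => Subgroup.inclusion hPC xk.1 * (xk.2 : ↥C)
  invFun := fun c => (π c, ⟨(Subgroup.inclusion hPC (π c))⁻¹ * c, by
    rw [MonoidHom.mem_ker, map_mul, map_inv, h.retract, inv_mul_cancel]⟩)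
  left_inv := by
    rintro ⟨x, k⟩
    have hk : π (k : ↥C) = 1 := MonoidHom.mem_ker.mp k.2
    have e : π (Subgroup.inclusion hPC x * (k : ↥C)) = x := by
      rw [map_mul, h.retract, hk, mul_one]
    apply Prod.ext
    · exact e
    · apply Subtype.ext
      simp only [e]
      rw [inv_mul_cancel_left]
  right_inv := by
    intro c
    simp only [mul_inv_cancel_left]

theorem bhknorm_equiv_apply (h : LeoSetup p C N P hPC π) (x : ↥P) (k : ↥(π.ker)) :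
    bhknorm_equiv h (x, k) = Subgroup.inclusion hPC x * (k : ↥C) := rfl

theorem bhknorm_om_norm (h : LeoSetup p C N P hPC π) (ω : ↥P →* ℂˣ) (x : ↥P) :
    ‖((ω x : ℂˣ) : ℂ)‖ = 1 := by
  have h1 : ((ω x : ℂˣ) : ℂ) ^ orderOf x = 1 := by
    rw [← Units.val_pow_eq_pow_val, ← map_pow, pow_orderOf_eq_one, map_one, Units.val_one]
  exact Complex.norm_eq_one_of_pow_eq_one h1 (orderOf_pos x).ne'

/-- `∑_{k ∈ ker π} |ϑ(k)|² = |ker π|` for an irreducible character `ϑ` of `C` -/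
theorem bhknorm_ker_sum (h : LeoSetup p C N P hPC π) (ϑ : Cfsg.IrrCharacter ↥C) :
    ∑ k : ↥(π.ker), ‖(ϑ : ↥C → ℂ) (k : ↥C)‖ ^ 2 = (Nat.card ↥(π.ker) : ℝ) := by
  have h1 := irr_sum_norm_sq ϑ
  rw [← Equiv.sum_comp (bhknorm_equiv h), Fintype.sum_prod_type] at h1
  have h2 : ∀ x : ↥P, ∑ k : ↥(π.ker), ‖(ϑ : ↥C → ℂ) (bhknorm_equiv h (x, k))‖ ^ 2 =
      ∑ k : ↥(π.ker), ‖(ϑ : ↥C → ℂ) (k : ↥C)‖ ^ 2 := by
    intro x
    apply Finset.sum_congr rfl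
    intro k _
    rw [bhknorm_equiv_apply, leoOm_spec h ϑ x, norm_mul, bhknorm_om_norm h, one_mul]
  rw [Finset.sum_congr rfl (fun x _ => h2 x), Finset.sum_const, Finset.card_univ, nsmul_eq_mul] at h1
  have h3 : Nat.card ↥C = Fintype.card ↥P * Nat.card ↥(π.ker) := by
    rw [Nat.card_congr (bhknorm_equiv h).symm, Nat.card_prod, Nat.card_eq_fintype_card]
  rw [h3] at h1
  push_cast at h1
  have hP : (0 : ℝ) < (Fintype.card ↥P : ℝ) := by exact_mod_cast Fintype.card_pos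
  exact mul_left_cancel₀ hP.ne' h1

/-- KNORM : the norm on `ker π` of an orbit sum -/
theorem ker_norm_le (h : LeoSetup p C N P hPC π) (χ : Cfsg.IrrCharacter G)
    (θ₁ : Cfsg.IrrCharacter ↥C)
    (hres : ∀ c : ↥C, (χ : G → ℂ) (c : G) = ∑ ϑ ∈ leoOrb h θ₁, (ϑ : ↥C → ℂ) c) :
    ∑ y : ↥(kerG π), Complex.normSq ((χ : G → ℂ) (y : G)) ≤
      ((leoOrb h θ₁).card : ℝ) ^ 2 * (Nat.card ↥(kerG π) : ℝ) := by
  have hinj : Function.Injective (C.subtype) := Subtype.coe_injective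
  let e : ↥(π.ker) ≃* ↥(kerG π) := Subgroup.equivMapOfInjective π.ker C.subtype hinj
  have he : ∀ k : ↥(π.ker), ((e k : ↥(kerG π)) : G) = ((k : ↥C) : G) := fun k => rfl
  have hcard : Nat.card ↥(kerG π) = Nat.card ↥(π.ker) := (Nat.card_congr e.toEquiv).symm
  rw [← Equiv.sum_comp e.toEquiv, hcard]
  have h1 : ∀ k : ↥(π.ker), Complex.normSq ((χ : G → ℂ) ((e.toEquiv k : ↥(kerG π)) : G)) ≤
      ((leoOrb h θ₁).card : ℝ) * ∑ ϑ ∈ leoOrb h θ₁, ‖(ϑ : ↥C → ℂ) (k : ↥C)‖ ^ 2 := by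
    intro k
    have e1 : (χ : G → ℂ) ((e.toEquiv k : ↥(kerG π)) : G) = (χ : G → ℂ) ((k : ↥C) : G) := rfl
    rw [e1, hres, Complex.normSq_eq_norm_sq]
    calc ‖∑ ϑ ∈ leoOrb h θ₁, (ϑ : ↥C → ℂ) (k : ↥C)‖ ^ 2
        ≤ (∑ ϑ ∈ leoOrb h θ₁, ‖(ϑ : ↥C → ℂ) (k : ↥C)‖) ^ 2 := by
          apply pow_le_pow_left₀ (norm_nonneg _) (norm_sum_le _ _)
      _ ≤ _ := sq_sum_le_card_mul_sum_sq
  calc ∑ k : ↥(π.ker), Complex.normSq ((χ : G → ℂ) ((e.toEquiv k : ↥(kerG π)) : G))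
      ≤ ∑ k : ↥(π.ker), ((leoOrb h θ₁).card : ℝ) *
          ∑ ϑ ∈ leoOrb h θ₁, ‖(ϑ : ↥C → ℂ) (k : ↥C)‖ ^ 2 := Finset.sum_le_sum (fun k _ => h1 k)
    _ = ((leoOrb h θ₁).card : ℝ) * ∑ ϑ ∈ leoOrb h θ₁,
          ∑ k : ↥(π.ker), ‖(ϑ : ↥C → ℂ) (k : ↥C)‖ ^ 2 := by
        rw [← Finset.mul_sum, Finset.sum_comm]
    _ = ((leoOrb h θ₁).card : ℝ) ^ 2 * (Nat.card ↥(π.ker) : ℝ) := by
        rw [Finset.sum_congr rfl (fun ϑ _ => bhknorm_ker_sum h ϑ), Finset.sum_const, nsmul_eq_mul]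
        ring

end abstract

end Cfsg.Agent.Lib.helper15.BH
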