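import Mathlib
import Cfsg.Agent.Lib.Helper29.LeoFaithful
import Cfsg.Agent.Lib.helper15.BH.Defs
import Cfsg.Agent.Lib.Helper11.BHKNORM

/-!
# Project BH (S4503, Brauer 1942) : piece KER2
-/

set_option autoImplicit false
set_option linter.unusedVariables false
set_option linter.unusedSectionVars false
open scoped ComplexConjugate
open Classical

namespace Cfsg.Agent.Lib.helper15.BH

open Cfsg.Agent.Lib.helper7 Cfsg.Agent.Lib.helper2 Cfsg.Agent.Lib.Helper25 Cfsg.Agent.Lib.Helper29

universe u

section abstract

variable {G : Type u} [Group G] [Fintype G]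
variable {p : ℕ} {C N P : Subgroup G} {hPC : P ≤ C} {π : ↥C →* ↥P}

/-- KER2 -/
theorem card_kerG (h : LeoSetup p C N P hPC π) :
    Nat.card ↥(kerG π) * Nat.card ↥P = Nat.card ↥C := by
  have hinj : Function.Injective (C.subtype) := Subtype.coe_injective
  have hcard : Nat.card ↥(kerG π) = Nat.card ↥(π.ker) :=
    (Nat.card_congr (Subgroup.equivMapOfInjective π.ker C.subtype hinj).toEquiv).symm
  rw [hcard, Nat.card_congr (bhknorm_equiv h).symm, Nat.card_prod, mul_comm]

end abstract

end Cfsg.Agent.Lib.helper15.BH
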