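import Mathlib
import Cfsg.Agent.Lib.Helper29.LeoFaithful
import Cfsg.Agent.Lib.helper15.BH.Defs
import Cfsg.Agent.Lib.helper2.CharNat
import Cfsg.Agent.Lib.helper2.BergerG1

set_option autoImplicit false
set_option linter.unusedVariables false
set_option linter.unusedSectionVars false
open scoped ComplexConjugate
open Classical

namespace Cfsg.Agent.Lib.helper15.BH

open Cfsg.Agent.Lib.helper7 Cfsg.Agent.Lib.helper2 Cfsg.Agent.Lib.Helper25 Cfsg.Agent.Lib.Helper29

universe u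

section abstract

variable {G : Type u} [Group G] [Fintype G]
variable {p : ℕ} {C N P : Subgroup G} {hPC : P ≤ C} {π : ↥C →* ↥P}

/-- the sum of a character over a subgroup is a natural multiple of the order of the subgroup -/
theorem bhksum_nat (K : Subgroup G) {Ψ : G → ℂ} (hΨ : Cfsg.IsCharacter G Ψ) :
    ∃ n : ℕ, ∑ y : ↥K, Ψ (y : G) = (n : ℂ) * (Nat.card ↥K : ℂ) := by
  have h1 := isCharacter_restrict hΨ K
  have h2 : Cfsg.IsCharacter ↥K (fun _ => (1 : ℂ)) := by
    obtain ⟨n, ρ, -, h⟩ := bg_trivial_irr ↥K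
    exact ⟨n, ρ, h⟩
  obtain ⟨n, hn⟩ := classInner_character_nat h1 h2
  refine ⟨n, ?_⟩
  have hK : (Nat.card ↥K : ℂ) ≠ 0 := by exact_mod_cast Nat.card_pos.ne'
  unfold Cfsg.classInner at hn
  simp only [map_one, mul_one] at hn
  rw [← hn]
  field_simp

/-- KSUM : lower bound for the sum of a character over a subgroup from some of its constituents -/
theorem sum_ge_of_constituents (K : Subgroup G) {Ψ : G → ℂ} (hΨ : Cfsg.IsCharacter G Ψ)
    (S : Finset (Cfsg.IrrCharacter G)) (hS : ∀ η ∈ S, Cfsg.classInner Ψ (η : G → ℂ) ≠ 0) (c : ℕ)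
    (hc : ∀ η ∈ S, ∑ y : ↥K, (η : G → ℂ) (y : G) = (c : ℂ) * (Nat.card ↥K : ℂ)) :
    ∃ m : ℕ, ∑ y : ↥K, Ψ (y : G) = (m : ℂ) * (Nat.card ↥K : ℂ) ∧ S.card * c ≤ m := by
  have : Fintype (Cfsg.IrrCharacter G) := Fintype.ofFinite _
  have hK : (Nat.card ↥K : ℂ) ≠ 0 := by exact_mod_cast Nat.card_pos.ne'
  obtain ⟨mm, hmm, hexp⟩ := isCharacter_expansion hΨ
  have hn : ∀ η : Cfsg.IrrCharacter G, ∃ n : ℕ,
      ∑ y : ↥K, (η : G → ℂ) (y : G) = (n : ℂ) * (Nat.card ↥K : ℂ) :=
    fun η => bhksum_nat K (isCharacter_of_irr η)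
  choose n hn using hn
  refine ⟨∑ η : Cfsg.IrrCharacter G, mm η * n η, ?_, ?_⟩
  · have h1 : ∀ y : ↥K, Ψ (y : G) = ∑ η : Cfsg.IrrCharacter G, (mm η : ℂ) * (η : G → ℂ) (y : G) := by
      intro y
      conv_lhs => rw [hexp]
      simp only [Finset.sum_apply, Pi.smul_apply, smul_eq_mul]
    simp_rw [h1]
    rw [Finset.sum_comm]
    push_cast
    rw [Finset.sum_mul]
    refine Finset.sum_congr rfl fun η _ => ?_
    rw [← Finset.mul_sum, hn η]
    ring
  · have h2 : ∀ η ∈ S, c ≤ mm η * n η := by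
      intro η hη
      have hm1 : 1 ≤ mm η := by
        rcases Nat.eq_zero_or_pos (mm η) with h0 | h0
        · exfalso
          apply hS η hη
          rw [hmm η, h0]; simp
        · exact h0
      have hnc : n η = c := by
        have := (hn η).symm.trans (hc η hη)
        have h3 : (n η : ℂ) = (c : ℂ) := mul_right_cancel₀ hK this
        exact_mod_cast h3
      rw [hnc]
      exact Nat.le_mul_of_pos_left c hm1
    calc S.card * c = ∑ _η ∈ S, c := by rw [Finset.sum_const, smul_eq_mul]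
      _ ≤ ∑ η ∈ S, mm η * n η := Finset.sum_le_sum h2
      _ ≤ ∑ η : Cfsg.IrrCharacter G, mm η * n η :=
          Finset.sum_le_sum_of_subset (Finset.subset_univ S)

end abstract

end Cfsg.Agent.Lib.helper15.BH
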