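import Mathlib
import Cfsg.Prelude.Def_OddOrderChar
import Cfsg.Agent.Lib.Helper11.Coprime
import Cfsg.Agent.Lib.Helper11.PowerParts
import Cfsg.Agent.Lib.helper7.Induction

set_option autoImplicit false

namespace Cfsg.Agent.Lib.Helper11

variable {G : Type*} [Group G] {A : Set G} {L : Subgroup G} {H : G → Subgroup G}

theorem dade_mem_CL (hD : Cfsg.DadeHypothesis A L H) {a : G} (ha : a ∈ A) :
    a ∈ L ⊓ Subgroup.centralizer ({a} : Set G) := by
  refine Subgroup.mem_inf.mpr ⟨hD.subset ha, ?_⟩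
  rw [Subgroup.mem_centralizer_iff]
  intro h hh
  rw [Set.mem_singleton_iff.mp hh]

theorem dade_comm (hD : Cfsg.DadeHypothesis A L H) {a u : G} (ha : a ∈ A) (hu : u ∈ H a) :
    a * u = u * a := by
  have := hD.le_centralizer a ha hu
  rw [Subgroup.mem_centralizer_iff] at this
  exact this a (Set.mem_singleton a)

theorem dade_CL_le_normalizer (hD : Cfsg.DadeHypothesis A L H) {a : G} (ha : a ∈ A) :
    L ⊓ Subgroup.centralizer ({a} : Set G) ≤ Subgroup.normalizer ((H a : Subgroup G) : Set G) := by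
  intro c hc
  rw [Subgroup.mem_normalizer_iff]
  intro u
  constructor
  · intro hu
    exact hD.conj_mem_H a ha c hc.2 u hu
  · intro hu
    have h1 := hD.conj_mem_H a ha c⁻¹ (Subgroup.inv_mem _ hc.2) _ hu
    simpa [mul_assoc] using h1

/-- the `A`-part of an element of a coset `a * H a` is determined by conjugation -/
theorem dade_part_unique [Finite G] (hD : Cfsg.DadeHypothesis A L H) {a a' u u' : G}
    (ha : a ∈ A) (ha' : a' ∈ A) (hu : u ∈ H a) (hu' : u' ∈ H a') (x : G)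
    (h : x * (a * u) * x⁻¹ = a' * u') : x * a * x⁻¹ = a' := by
  set n := Nat.card ↥(L ⊓ Subgroup.centralizer ({a} : Set G)) *
    Nat.card ↥(L ⊓ Subgroup.centralizer ({a'} : Set G)) with hn
  set m := Nat.card (H a) * Nat.card (H a') with hm
  have hcop : Nat.Coprime n m := by
    apply Nat.Coprime.mul_left
    · exact Nat.Coprime.mul_right (hD.coprime a ha a ha).symm (hD.coprime a' ha' a ha).symm
    · exact Nat.Coprime.mul_right (hD.coprime a ha a' ha').symm (hD.coprime a' ha' a' ha').symm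
  obtain ⟨k, hk⟩ := exists_exponent_left n m hcop
  have han : a ^ n = 1 := by
    rw [hn, pow_mul, pow_card_subgroup_eq_one _ a (dade_mem_CL hD ha), one_pow]
  have ha'n : a' ^ n = 1 := by
    rw [hn, mul_comm, pow_mul, pow_card_subgroup_eq_one _ a' (dade_mem_CL hD ha'), one_pow]
  have hum : u ^ m = 1 := by
    rw [hm, pow_mul, pow_card_subgroup_eq_one _ u hu, one_pow]
  have hu'm : u' ^ m = 1 := by
    rw [hm, mul_comm, pow_mul, pow_card_subgroup_eq_one _ u' hu', one_pow]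
  have h1 := hk a u (dade_comm hD ha hu) han hum
  have h2 := hk a' u' (dade_comm hD ha' hu') ha'n hu'm
  rw [← h1, ← h2, ← h, conj_pow]

/-- conjugating into `A` carries `H a₀` into the corresponding `H` -/
theorem dade_conj_mem_H [Finite G] (hD : Cfsg.DadeHypothesis A L H) {a₀ u₀ : G}
    (ha₀ : a₀ ∈ A) (hu₀ : u₀ ∈ H a₀) (y : G) (hya : y * a₀ * y⁻¹ ∈ A) :
    y * u₀ * y⁻¹ ∈ H (y * a₀ * y⁻¹) := by
  have hcomm := dade_comm hD ha₀ hu₀
  have hvC : y * u₀ * y⁻¹ ∈ Subgroup.centralizer ({y * a₀ * y⁻¹} : Set G) := by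
    rw [Subgroup.mem_centralizer_iff]
    intro h hh
    rw [Set.mem_singleton_iff.mp hh]
    calc y * a₀ * y⁻¹ * (y * u₀ * y⁻¹) = y * (a₀ * u₀) * y⁻¹ := by group
      _ = y * (u₀ * a₀) * y⁻¹ := by rw [hcomm]
      _ = y * u₀ * y⁻¹ * (y * a₀ * y⁻¹) := by group
  have hM : Subgroup.zpowers (y * u₀ * y⁻¹) ≤
      H (y * a₀ * y⁻¹) ⊔ (L ⊓ Subgroup.centralizer ({y * a₀ * y⁻¹} : Set G)) := by
    rw [hD.sup_eq _ hya, Subgroup.zpowers_le]
    exact hvC
  have hord : orderOf (y * u₀ * y⁻¹) = orderOf u₀ := by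
    have := orderOf_injective (MulAut.conj y).toMonoidHom (MulAut.conj y).injective u₀
    simpa [MulAut.conj_apply] using this
  have hcop : (Nat.card (Subgroup.zpowers (y * u₀ * y⁻¹))).Coprime
      (Nat.card ↥(L ⊓ Subgroup.centralizer ({y * a₀ * y⁻¹} : Set G))) := by
    rw [Nat.card_zpowers, hord]
    exact Nat.Coprime.coprime_dvd_left (Subgroup.orderOf_dvd_natCard _ hu₀)
      (hD.coprime a₀ ha₀ _ hya)
  have := le_of_le_sup_of_coprime (H (y * a₀ * y⁻¹))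
    (L ⊓ Subgroup.centralizer ({y * a₀ * y⁻¹} : Set G)) (Subgroup.zpowers (y * u₀ * y⁻¹))
    (dade_CL_le_normalizer hD hya) (hD.inf_eq_bot _ hya) hM hcop
  exact this (Subgroup.mem_zpowers _)

theorem dade_card_H_conj [Finite G] (hD : Cfsg.DadeHypothesis A L H) {a₀ : G}
    (ha₀ : a₀ ∈ A) (y : G) (hya : y * a₀ * y⁻¹ ∈ A) :
    Nat.card (H (y * a₀ * y⁻¹)) = Nat.card (H a₀) := by
  have hback : y⁻¹ * (y * a₀ * y⁻¹) * y⁻¹⁻¹ = a₀ := by group
  apply Nat.card_congr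
  refine ⟨fun v => ⟨y⁻¹ * v * y, ?_⟩, fun u => ⟨y * u * y⁻¹, dade_conj_mem_H hD ha₀ u.2 y hya⟩,
    ?_, ?_⟩
  · have h1 := dade_conj_mem_H hD hya v.2 y⁻¹ (by rw [hback]; exact ha₀)
    rw [hback, inv_inv] at h1
    exact h1
  · intro v
    apply Subtype.ext
    simp only
    group
  · intro u
    apply Subtype.ext
    simp only
    group

theorem dade_H_inf_L (hD : Cfsg.DadeHypothesis A L H) {a : G} (ha : a ∈ A) {h : G}
    (hh : h ∈ H a) (hL : h ∈ L) : h = 1 := by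
  have : h ∈ H a ⊓ (L ⊓ Subgroup.centralizer ({a} : Set G)) :=
    Subgroup.mem_inf.mpr ⟨hh, Subgroup.mem_inf.mpr ⟨hL, hD.le_centralizer a ha hh⟩⟩
  rw [hD.inf_eq_bot a ha, Subgroup.mem_bot] at this
  exact this

/-- the elements conjugating `a₀` into `A` are exactly the products `l * h` with `l ∈ L`,
`h ∈ H a₀`, uniquely -/
theorem dade_card_conj_into [Finite G] (hD : Cfsg.DadeHypothesis A L H) {a₀ : G}
    (ha₀ : a₀ ∈ A) :
    Nat.card {y : G // y * a₀ * y⁻¹ ∈ A} = Nat.card L * Nat.card (H a₀) := by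
  rw [← Nat.card_prod]
  symm
  apply Nat.card_congr
  refine Equiv.ofBijective (fun p : L × H a₀ => ⟨(p.1 : G) * (p.2 : G), ?_⟩) ⟨?_, ?_⟩
  · have hc : a₀ * (p.2 : G) = (p.2 : G) * a₀ := dade_comm hD ha₀ p.2.2
    have h1 : (p.1 : G) * (p.2 : G) * a₀ * ((p.1 : G) * (p.2 : G))⁻¹ =
        (p.1 : G) * a₀ * (p.1 : G)⁻¹ := by
      calc (p.1 : G) * (p.2 : G) * a₀ * ((p.1 : G) * (p.2 : G))⁻¹
          = (p.1 : G) * ((p.2 : G) * a₀) * (p.2 : G)⁻¹ * (p.1 : G)⁻¹ := by group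
        _ = (p.1 : G) * (a₀ * (p.2 : G)) * (p.2 : G)⁻¹ * (p.1 : G)⁻¹ := by rw [hc]
        _ = (p.1 : G) * a₀ * (p.1 : G)⁻¹ := by group
    rw [h1]
    exact hD.conj_mem _ p.1.2 a₀ ha₀
  · intro p q hpq
    have h1 : (p.1 : G) * (p.2 : G) = (q.1 : G) * (q.2 : G) := congrArg Subtype.val hpq
    have h2 : (q.1 : G)⁻¹ * (p.1 : G) = (q.2 : G) * (p.2 : G)⁻¹ := by
      calc (q.1 : G)⁻¹ * (p.1 : G) = (q.1 : G)⁻¹ * ((p.1 : G) * (p.2 : G)) * (p.2 : G)⁻¹ := by
            group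
        _ = (q.1 : G)⁻¹ * ((q.1 : G) * (q.2 : G)) * (p.2 : G)⁻¹ := by rw [h1]
        _ = (q.2 : G) * (p.2 : G)⁻¹ := by group
    have h3 : (q.2 : G) * (p.2 : G)⁻¹ = 1 := by
      apply dade_H_inf_L hD ha₀ ((H a₀).mul_mem q.2.2 ((H a₀).inv_mem p.2.2))
      rw [← h2]
      exact L.mul_mem (L.inv_mem q.1.2) p.1.2
    have h4 : (q.2 : G) = (p.2 : G) := by
      rw [mul_inv_eq_one] at h3
      exact h3
    have h5 : (p.1 : G) = (q.1 : G) := by
      rw [h4] at h1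
      exact mul_right_cancel h1
    exact Prod.ext (Subtype.ext h5) (Subtype.ext h4.symm)
  · rintro ⟨y, hy⟩
    obtain ⟨l, hl, hle⟩ := hD.fusion a₀ ha₀ y hy
    have hc : l⁻¹ * y ∈ Subgroup.centralizer ({a₀} : Set G) := by
      rw [Subgroup.mem_centralizer_iff]
      intro h hh
      rw [Set.mem_singleton_iff.mp hh]
      have : a₀ = l⁻¹ * (y * a₀ * y⁻¹) * l := by
        rw [← hle]
        group
      calc a₀ * (l⁻¹ * y) = (l⁻¹ * (y * a₀ * y⁻¹) * l) * (l⁻¹ * y) := by rw [← this]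
        _ = l⁻¹ * y * a₀ := by group
    have hc' : l⁻¹ * y ∈
        ((L ⊓ Subgroup.centralizer ({a₀} : Set G) ⊔ H a₀ : Subgroup G) : Set G) := by
      rw [sup_comm, hD.sup_eq a₀ ha₀]
      exact hc
    rw [Subgroup.coe_mul_of_left_le_normalizer_right _ _ (dade_CL_le_normalizer hD ha₀)] at hc'
    obtain ⟨c, hcm, h, hh, hch⟩ := hc'
    replace hch : c * h = l⁻¹ * y := hch
    refine ⟨(⟨l * c, L.mul_mem hl (Subgroup.mem_inf.mp hcm).1⟩, ⟨h, hh⟩), ?_⟩
    apply Subtype.ext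
    simp only
    calc l * c * h = l * (c * h) := by group
      _ = l * (l⁻¹ * y) := by rw [hch]
      _ = y := by group

/-- the set of elements conjugate into some coset `a * H a`, `a ∈ A` -/
def dadeSupp (A : Set G) (H : G → Subgroup G) : Set G :=
  {g | ∃ a ∈ A, ∃ u ∈ H a, ∃ x : G, x * g * x⁻¹ = a * u}

open Classical in
/-- the weighted number of ways of conjugating `g` into a coset `a * H a` -/
theorem dade_weight [Fintype G] (K : Type*) [Field K] [CharZero K]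
    (hD : Cfsg.DadeHypothesis A L H) (g : G) (hg : g ∈ dadeSupp A H) :
    ∑ t ∈ Finset.univ.filter (fun t : G × G × G =>
        t.2.1 ∈ A ∧ t.2.2 ∈ H t.2.1 ∧ t.1 * g * t.1⁻¹ = t.2.1 * t.2.2),
      ((Nat.card (H t.2.1) : K))⁻¹ = (Nat.card L : K) := by
  obtain ⟨a₀, ha₀, u₀, hu₀, x₀, hx₀⟩ := hg
  have hkey : ∀ t : G × G × G, t.2.1 ∈ A → t.2.2 ∈ H t.2.1 →
      t.1 * g * t.1⁻¹ = t.2.1 * t.2.2 →
      (t.1 * x₀⁻¹) * a₀ * (t.1 * x₀⁻¹)⁻¹ = t.2.1 ∧ (t.1 * x₀⁻¹) * u₀ * (t.1 * x₀⁻¹)⁻¹ = t.2.2 := by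
    intro t h1 h2 h3
    have h4 : (t.1 * x₀⁻¹) * (a₀ * u₀) * (t.1 * x₀⁻¹)⁻¹ = t.2.1 * t.2.2 := by
      rw [← hx₀, ← h3]
      group
    have h5 := dade_part_unique hD ha₀ h1 hu₀ h2 _ h4
    refine ⟨h5, ?_⟩
    have h6 : (t.1 * x₀⁻¹) * (a₀ * u₀) * (t.1 * x₀⁻¹)⁻¹ =
        ((t.1 * x₀⁻¹) * a₀ * (t.1 * x₀⁻¹)⁻¹) * ((t.1 * x₀⁻¹) * u₀ * (t.1 * x₀⁻¹)⁻¹) := by group
    rw [h6, h5] at h4
    exact mul_left_cancel h4
  have h1 : ∑ t ∈ Finset.univ.filter (fun t : G × G × G =>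
        t.2.1 ∈ A ∧ t.2.2 ∈ H t.2.1 ∧ t.1 * g * t.1⁻¹ = t.2.1 * t.2.2),
      ((Nat.card (H t.2.1) : K))⁻¹ =
      ∑ _y ∈ Finset.univ.filter (fun y : G => y * a₀ * y⁻¹ ∈ A), ((Nat.card (H a₀) : K))⁻¹ := by
    apply Finset.sum_nbij' (fun t : G × G × G => t.1 * x₀⁻¹)
      (fun y : G => (y * x₀, y * a₀ * y⁻¹, y * u₀ * y⁻¹))
    · intro t ht
      obtain ⟨-, h1, h2, h3⟩ := Finset.mem_filter.mp ht
      rw [Finset.mem_filter]
      refine ⟨Finset.mem_univ _, ?_⟩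
      rw [(hkey t h1 h2 h3).1]
      exact h1
    · intro y hy
      have hy' := (Finset.mem_filter.mp hy).2
      rw [Finset.mem_filter]
      refine ⟨Finset.mem_univ _, hy', dade_conj_mem_H hD ha₀ hu₀ y hy', ?_⟩
      show y * x₀ * g * (y * x₀)⁻¹ = y * a₀ * y⁻¹ * (y * u₀ * y⁻¹)
      calc y * x₀ * g * (y * x₀)⁻¹ = y * (x₀ * g * x₀⁻¹) * y⁻¹ := by group
        _ = y * (a₀ * u₀) * y⁻¹ := by rw [hx₀]
        _ = y * a₀ * y⁻¹ * (y * u₀ * y⁻¹) := by group
    · intro t ht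
      obtain ⟨-, h1, h2, h3⟩ := Finset.mem_filter.mp ht
      obtain ⟨h5, h6⟩ := hkey t h1 h2 h3
      refine Prod.ext ?_ (Prod.ext h5 h6)
      show t.1 * x₀⁻¹ * x₀ = t.1
      group
    · intro y _
      show y * x₀ * x₀⁻¹ = y
      group
    · intro t ht
      obtain ⟨-, h1, h2, h3⟩ := Finset.mem_filter.mp ht
      obtain ⟨h5, -⟩ := hkey t h1 h2 h3
      have h7 := dade_card_H_conj hD ha₀ (t.1 * x₀⁻¹) (by rw [h5]; exact h1)
      rw [h5] at h7
      rw [h7]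
  rw [h1, Finset.sum_const, nsmul_eq_mul]
  have h2 : (Finset.univ.filter (fun y : G => y * a₀ * y⁻¹ ∈ A)).card =
      Nat.card L * Nat.card (H a₀) := by
    rw [← dade_card_conj_into hD ha₀, Nat.card_eq_fintype_card, Fintype.card_subtype]
  rw [h2]
  have h3 : (Nat.card (H a₀) : K) ≠ 0 := by
    exact_mod_cast Nat.card_pos.ne'
  push_cast
  field_simp

open Classical in
/-- the fundamental counting identity for the Dade support -/
theorem dade_counting [Fintype G] {K : Type*} [Field K] [CharZero K]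
    (hD : Cfsg.DadeHypothesis A L H) (F : G → K)
    (hF : ∀ g h : G, F (h * g * h⁻¹) = F g) :
    (Nat.card L : K) * ∑ g : G, (if g ∈ dadeSupp A H then F g else 0) =
      (Nat.card G : K) * ∑ a : G, (if a ∈ A then
        (Nat.card (H a) : K)⁻¹ * ∑ u : G, (if u ∈ H a then F (a * u) else 0) else 0) := by
  have h1 : (Nat.card L : K) * ∑ g : G, (if g ∈ dadeSupp A H then F g else 0) =
      ∑ g : G, ∑ t ∈ Finset.univ.filter (fun t : G × G × G =>
        t.2.1 ∈ A ∧ t.2.2 ∈ H t.2.1 ∧ t.1 * g * t.1⁻¹ = t.2.1 * t.2.2),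
      ((Nat.card (H t.2.1) : K))⁻¹ * F g := by
    rw [Finset.mul_sum]
    apply Finset.sum_congr rfl
    intro g _
    rw [← Finset.sum_mul]
    by_cases hg : g ∈ dadeSupp A H
    · rw [if_pos hg, dade_weight K hD g hg]
    · rw [if_neg hg, mul_zero]
      have : Finset.univ.filter (fun t : G × G × G =>
          t.2.1 ∈ A ∧ t.2.2 ∈ H t.2.1 ∧ t.1 * g * t.1⁻¹ = t.2.1 * t.2.2) = ∅ := by
        apply Finset.filter_eq_empty_iff.mpr
        intro t _ ht
        exact hg ⟨t.2.1, ht.1, t.2.2, ht.2.1, t.1, ht.2.2⟩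
      rw [this, Finset.sum_empty, zero_mul]
  rw [h1]
  have h2 : ∑ g : G, ∑ t ∈ Finset.univ.filter (fun t : G × G × G =>
        t.2.1 ∈ A ∧ t.2.2 ∈ H t.2.1 ∧ t.1 * g * t.1⁻¹ = t.2.1 * t.2.2),
      ((Nat.card (H t.2.1) : K))⁻¹ * F g =
      ∑ t ∈ Finset.univ.filter (fun t : G × G × G => t.2.1 ∈ A ∧ t.2.2 ∈ H t.2.1),
        ∑ g ∈ ({t.1⁻¹ * (t.2.1 * t.2.2) * t.1} : Finset G),
          ((Nat.card (H t.2.1) : K))⁻¹ * F g := by
    apply Finset.sum_comm'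
    intro g t
    simp only [Finset.mem_univ, true_and, Finset.mem_filter, Finset.mem_singleton]
    constructor
    · rintro ⟨h1, h2, h3⟩
      refine ⟨?_, h1, h2⟩
      rw [← h3]
      group
    · rintro ⟨h1, h2, h3⟩
      refine ⟨h2, h3, ?_⟩
      rw [h1]
      group
  rw [h2]
  have h3 : ∀ t : G × G × G, ∑ g ∈ ({t.1⁻¹ * (t.2.1 * t.2.2) * t.1} : Finset G),
      ((Nat.card (H t.2.1) : K))⁻¹ * F g = ((Nat.card (H t.2.1) : K))⁻¹ * F (t.2.1 * t.2.2) := by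
    intro t
    rw [Finset.sum_singleton]
    have := hF (t.2.1 * t.2.2) t.1⁻¹
    rw [inv_inv] at this
    rw [this]
  simp only [h3]
  rw [Finset.sum_filter, Fintype.sum_prod_type]
  have h4 : ∀ x : G, (∑ y : G × G, if (x, y).2.1 ∈ A ∧ (x, y).2.2 ∈ H (x, y).2.1 then
      (↑(Nat.card ↥(H (x, y).2.1)) : K)⁻¹ * F ((x, y).2.1 * (x, y).2.2) else 0) =
      ∑ a : G, ∑ u : G, if a ∈ A ∧ u ∈ H a then (↑(Nat.card ↥(H a)) : K)⁻¹ * F (a * u) else 0 := by
    intro x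
    rw [Fintype.sum_prod_type]
  rw [Finset.sum_congr rfl (fun x _ => h4 x), Finset.sum_const, Finset.card_univ, nsmul_eq_mul,
    Nat.card_eq_fintype_card]
  congr 1
  apply Finset.sum_congr rfl
  intro a _
  by_cases ha : a ∈ A
  · rw [if_pos ha, Finset.mul_sum]
    apply Finset.sum_congr rfl
    intro u _
    by_cases hu : u ∈ H a
    · rw [if_pos hu, if_pos ⟨ha, hu⟩]
    · rw [if_neg hu, if_neg (fun h => hu h.2), mul_zero]
  · rw [if_neg ha]
    apply Finset.sum_eq_zero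
    intro u _
    rw [if_neg (fun h => ha h.1)]

open Classical in
theorem sum_subset_subgroup [Fintype G] {M : Type*} [AddCommMonoid M] (A : Set G)
    (L : Subgroup G) [Fintype L] (hAL : A ⊆ (L : Set G)) (f : G → M) :
    ∑ a : G, (if a ∈ A then f a else 0) = ∑ a : L, if (a : G) ∈ A then f a else 0 := by
  rw [← Cfsg.Agent.Lib.helper7.h7_sum_subgroup L (fun a => if a ∈ A then f a else 0)]
  apply Finset.sum_congr rfl
  intro a _
  by_cases ha : a ∈ L
  · rw [if_pos ha]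
  · rw [if_neg ha, if_neg (fun h => ha (hAL h))]

open Classical in
/-- the counting identity with the outer sum over the subgroup `L` -/
theorem dade_counting' [Fintype G] [Fintype L] {K : Type*} [Field K] [CharZero K]
    (hD : Cfsg.DadeHypothesis A L H) (F : G → K)
    (hF : ∀ g h : G, F (h * g * h⁻¹) = F g) :
    (Nat.card G : K)⁻¹ * ∑ g : G, (if g ∈ dadeSupp A H then F g else 0) =
      (Nat.card L : K)⁻¹ * ∑ a : L, (if (a : G) ∈ A then
        (Nat.card (H a) : K)⁻¹ * ∑ u : G, (if u ∈ H a then F (a * u) else 0) else 0) := by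
  have h := dade_counting hD F hF
  rw [sum_subset_subgroup A L hD.subset] at h
  have hG : (Nat.card G : K) ≠ 0 := by exact_mod_cast Nat.card_pos.ne'
  have hL : (Nat.card L : K) ≠ 0 := by exact_mod_cast Nat.card_pos.ne'
  generalize (∑ g : G, (if g ∈ dadeSupp A H then F g else 0)) = SD at h ⊢
  generalize (∑ a : L, (if (a : G) ∈ A then
        (Nat.card (H a) : K)⁻¹ * ∑ u : G, (if u ∈ H a then F (a * u) else 0) else 0)) = SA at h ⊢
  field_simp
  linear_combination h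

/-- the value of the Dade map at an element conjugate into `a * H a` -/
theorem dadeIsometry_apply [Finite G] (hD : Cfsg.DadeHypothesis A L H) (α : L → ℂ)
    (hα : Cfsg.IsClassFunction L α) (g : G) (a : L) (ha : (a : G) ∈ A) (x u : G)
    (hu : u ∈ H (a : G)) (hx : x * g * x⁻¹ = (a : G) * u) :
    Cfsg.dadeIsometry A L H α g = α a := by
  have hex : ∃ a : ↥L, (a : G) ∈ A ∧ ∃ x : G, ∃ u ∈ H (a : G), x * g * x⁻¹ = (a : G) * u :=
    ⟨a, ha, x, u, hu, hx⟩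
  unfold Cfsg.dadeIsometry
  rw [dif_pos hex]
  obtain ⟨ha', x', u', hu', hx'⟩ := Classical.choose_spec hex
  generalize Classical.choose hex = a' at ha' hu' hx'
  have h1 : (x * x'⁻¹) * ((a' : G) * u') * (x * x'⁻¹)⁻¹ = (a : G) * u := by
    rw [← hx', ← hx]
    group
  have h2 := dade_part_unique hD ha' ha hu' hu _ h1
  obtain ⟨l, hl, hle⟩ := hD.fusion (a' : G) ha' (x * x'⁻¹) (by rw [h2]; exact ha)
  rw [h2] at hle
  have h3 : a = ⟨l, hl⟩ * a' * ⟨l, hl⟩⁻¹ := by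
    apply Subtype.ext
    simp only [Subgroup.coe_mul, Subgroup.coe_inv]
    exact hle.symm
  rw [h3]
  exact (hα a' ⟨l, hl⟩).symm

theorem dadeIsometry_zero (α : L → ℂ) (g : G) (hg : g ∉ dadeSupp A H) :
    Cfsg.dadeIsometry A L H α g = 0 := by
  unfold Cfsg.dadeIsometry
  rw [dif_neg]
  rintro ⟨a, ha, x, u, hu, hx⟩
  exact hg ⟨(a : G), ha, u, hu, x, hx⟩

theorem dadeSupp_conj (g h : G) : h * g * h⁻¹ ∈ dadeSupp A H ↔ g ∈ dadeSupp A H := by
  constructor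
  · rintro ⟨a, ha, u, hu, x, hx⟩
    refine ⟨a, ha, u, hu, x * h, ?_⟩
    rw [← hx]
    group
  · rintro ⟨a, ha, u, hu, x, hx⟩
    refine ⟨a, ha, u, hu, x * h⁻¹, ?_⟩
    rw [← hx]
    group

theorem dadeIsometry_classFunction [Finite G] (hD : Cfsg.DadeHypothesis A L H) (α : L → ℂ)
    (hα : Cfsg.IsClassFunction L α) :
    Cfsg.IsClassFunction G (Cfsg.dadeIsometry A L H α) := by
  intro g h
  by_cases hg : g ∈ dadeSupp A H
  · obtain ⟨a, ha, u, hu, x, hx⟩ := hg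
    rw [dadeIsometry_apply hD α hα g ⟨a, hD.subset ha⟩ ha x u hu hx,
      dadeIsometry_apply hD α hα (h * g * h⁻¹) ⟨a, hD.subset ha⟩ ha (x * h⁻¹) u hu (by
        rw [← hx]
        group)]
  · rw [dadeIsometry_zero α g hg,
      dadeIsometry_zero α _ (fun h' => hg ((dadeSupp_conj g h).mp h'))]

theorem dadeIsometry_coset [Finite G] (hD : Cfsg.DadeHypothesis A L H) (α : L → ℂ)
    (hα : Cfsg.IsClassFunction L α) (a : L) (ha : (a : G) ∈ A) (u : G) (hu : u ∈ H (a : G)) :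
    Cfsg.dadeIsometry A L H α ((a : G) * u) = α a :=
  dadeIsometry_apply hD α hα _ a ha 1 u hu (by group)

end Cfsg.Agent.Lib.Helper11
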