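import Mathlib
import Cfsg.Prelude.Def_OddOrderChar
import Cfsg.Agent.Lib.helper7.BD.D1Defs
import Cfsg.Agent.Lib.helper7.BD.D1Defs2
import Cfsg.Agent.Lib.helper7.KleinDef8
import Cfsg.Agent.Lib.Helper11.Dade
import Cfsg.Agent.S1500
import Cfsg.Agent.Lib.Helper29.BD3IND1
import Cfsg.Agent.Lib.Helper29.BD3IND2
import Cfsg.Agent.Lib.Helper29.BD3IND4
import Cfsg.Agent.Lib.Helper27.BD3DADE
import Cfsg.Agent.Lib.Helper25.BD3GRAM
import Cfsg.Agent.Lib.Helper1.BD3FACTS

set_option autoImplicit false
set_option linter.unusedVariables false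
set_option linter.unusedSectionVars false

namespace Cfsg.Agent.Lib.helper7.BD

open Cfsg.Agent.Lib.helper7

universe u

/-- `classInner` is additive (subtractive) in the first argument -/
theorem bd3tau_classInner_sub {H : Type*} [Group H] [Fintype H] (f g k : H → ℂ) :
    Cfsg.classInner (fun c => f c - g c) k = Cfsg.classInner f k - Cfsg.classInner g k := by
  unfold Cfsg.classInner
  rw [← mul_sub, ← Finset.sum_sub_distrib]
  congr 1
  apply Finset.sum_congr rfl
  intro x _
  ring

/-- the order of a conjugate -/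
theorem bd3tau_orderOf_conj {X : Type*} [Group X] (x g : X) : orderOf (x * g * x⁻¹) = orderOf g := by
  have := (MulAut.conj x).orderOf_eq g
  rwa [MulAut.conj_apply] at this

/-- the normalizer of `P` normalizes the centralizer of `P` -/
theorem bd3tau_norm {X : Type*} [Group X] (P : Subgroup X) (n : X)
    (hn : n ∈ Subgroup.normalizer (P : Set X)) (c : X) (hc : c ∈ Subgroup.centralizer (P : Set X)) :
    n * c * n⁻¹ ∈ Subgroup.centralizer (P : Set X) := by
  rw [Subgroup.mem_centralizer_iff] at hc ⊢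
  intro x hx
  have hx' : n⁻¹ * x * n⁻¹⁻¹ ∈ P :=
    (Subgroup.mem_normalizer_iff.1 (Subgroup.inv_mem _ hn) x).1 hx
  rw [inv_inv] at hx'
  have h1 := hc _ hx'
  calc x * (n * c * n⁻¹) = n * ((n⁻¹ * x * n) * c) * n⁻¹ := by group
    _ = n * (c * (n⁻¹ * x * n)) * n⁻¹ := by rw [h1]
    _ = n * c * n⁻¹ * x := by group

section glob

variable {G : Type u} [Group G] [Fintype G] {M : Ideal Cfsg.AlgInt} {p : ℕ} [Fact p.Prime]
  {P : Sylow p G} {B : Set (Cfsg.IrrCharacter G)}
  {b : Set (Cfsg.IrrCharacter (Subgroup.centralizer ((P : Subgroup G) : Set G)))}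
  {θ : Cfsg.IrrCharacter (Subgroup.centralizer ((P : Subgroup G) : Set G))} {T : Subgroup G}

variable [Fintype ↥(Subgroup.centralizer ((P : Subgroup G) : Set G))]
  [Fintype ↥(Subgroup.normalizer ((P : Subgroup G) : Set G))]

/-- TAU : the generalized characters `τ_j = ((r_j - θ)^N)^τ` of `G` (TI induction) -/
theorem root_exists_tau (h : RootHyp p M P B b θ T) {t : ℕ}
    (r : Fin t → Cfsg.IrrCharacter (Subgroup.centralizer ((P : Subgroup G) : Set G)))
    (hr : IsReps P b θ T ((Subgroup.centralizer ((P : Subgroup G) : Set G)).relIndex T) t r) :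
    ∃ τ : Fin t → (G → ℂ), (∀ j, Cfsg.IsClassFunction G (τ j)) ∧
      (∀ j, ∀ g : G, ¬ p ∣ orderOf g → τ j g = 0) ∧
      (∀ j j', Cfsg.classInner (τ j) (τ j') = (if j = j' then 1 else 0) +
        (((Subgroup.centralizer ((P : Subgroup G) : Set G)).relIndex T : ℕ) : ℂ)) ∧
      ∀ j, ∀ χ : G → ℂ, Cfsg.IsClassFunction G χ → Cfsg.classInner (τ j) χ =
        Cfsg.classInner (r j : ↥(Subgroup.centralizer ((P : Subgroup G) : Set G)) → ℂ)
          (fun c : ↥(Subgroup.centralizer ((P : Subgroup G) : Set G)) => χ (c : G)) -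
        Cfsg.classInner (θ : ↥(Subgroup.centralizer ((P : Subgroup G) : Set G)) → ℂ)
          (fun c : ↥(Subgroup.centralizer ((P : Subgroup G) : Set G)) => χ (c : G)) := by
  have hD := root_dade P h.card_P
  have hCN : Subgroup.centralizer ((P : Subgroup G) : Set G) ≤
      Subgroup.normalizer ((P : Subgroup G) : Set G) := Subgroup.centralizer_le_normalizer _
  have hnorm : ∀ n ∈ Subgroup.normalizer ((P : Subgroup G) : Set G),
      ∀ c ∈ Subgroup.centralizer ((P : Subgroup G) : Set G),
        n * c * n⁻¹ ∈ Subgroup.centralizer ((P : Subgroup G) : Set G) :=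
    fun n hn c hc => bd3tau_norm (P : Subgroup G) n hn c hc
  obtain ⟨-, -, hreg, -⟩ := root_block_facts h
  have hαcl : ∀ j : Fin t, Cfsg.IsClassFunction ↥(Subgroup.normalizer ((P : Subgroup G) : Set G))
      (indCN (Subgroup.centralizer ((P : Subgroup G) : Set G))
        (Subgroup.normalizer ((P : Subgroup G) : Set G))
        (fun c => (r j : ↥(Subgroup.centralizer ((P : Subgroup G) : Set G)) → ℂ) c -
          (θ : ↥(Subgroup.centralizer ((P : Subgroup G) : Set G)) → ℂ) c)) :=
    fun j => indCN_isClassFunction _ _ _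
  have hαA : ∀ j : Fin t, ∀ x : ↥(Subgroup.normalizer ((P : Subgroup G) : Set G)),
      (x : G) ∉ singSet p (Subgroup.centralizer ((P : Subgroup G) : Set G)) →
      indCN (Subgroup.centralizer ((P : Subgroup G) : Set G))
        (Subgroup.normalizer ((P : Subgroup G) : Set G))
        (fun c => (r j : ↥(Subgroup.centralizer ((P : Subgroup G) : Set G)) → ℂ) c -
          (θ : ↥(Subgroup.centralizer ((P : Subgroup G) : Set G)) → ℂ) c) x = 0 := by
    intro j x hx
    apply indCN_support _ _ hnorm p _ _ x hx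
    intro c hc
    rw [hreg (r j) (hr.mem j) c hc, sub_self]
  refine ⟨fun j => Cfsg.dadeIsometry (singSet p (Subgroup.centralizer ((P : Subgroup G) : Set G)))
    (Subgroup.normalizer ((P : Subgroup G) : Set G)) (fun _ => ⊥)
    (indCN (Subgroup.centralizer ((P : Subgroup G) : Set G))
        (Subgroup.normalizer ((P : Subgroup G) : Set G))
        (fun c => (r j : ↥(Subgroup.centralizer ((P : Subgroup G) : Set G)) → ℂ) c -
          (θ : ↥(Subgroup.centralizer ((P : Subgroup G) : Set G)) → ℂ) c)), ?_, ?_, ?_, ?_⟩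
  · intro j
    exact Cfsg.Agent.Lib.Helper11.dadeIsometry_classFunction hD _ (hαcl j)
  · intro j g hg
    apply Cfsg.Agent.Lib.Helper11.dadeIsometry_zero
    rintro ⟨a, ha, u, hu, x, hx⟩
    rw [Subgroup.mem_bot] at hu
    subst hu
    rw [mul_one] at hx
    apply hg
    have h1 : orderOf g = orderOf a := by rw [← hx, bd3tau_orderOf_conj]
    rw [h1]
    exact ha.2
  · intro j j'
    rw [(Cfsg.Agent.S1500.result _ _ _ hD _ (hαcl j) (hαA j)).1 _ (hαcl j') (hαA j')]
    exact root_gram h r hr j j'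
  · intro j χ hχ
    have hψ : Cfsg.IsClassFunction ↥(Subgroup.normalizer ((P : Subgroup G) : Set G))
        (fun n : ↥(Subgroup.normalizer ((P : Subgroup G) : Set G)) => χ (n : G)) := by
      intro g k
      simp only [Subgroup.coe_mul, Subgroup.coe_inv]
      exact hχ _ _
    have h2 := (Cfsg.Agent.S1500.result _ _ _ hD _ (hαcl j) (hαA j)).2 χ
      (fun n : ↥(Subgroup.normalizer ((P : Subgroup G) : Set G)) => χ (n : G)) hχ (by
        intro a ha
        have hb : ((⊥ : Subgroup G) : Set G) = {1} := Subgroup.coe_bot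
        simp only [hb, Subgroup.card_bot, Nat.cast_one, inv_one, one_mul,
          finsum_mem_singleton, mul_one])
    rw [h2, indCN_frobenius _ _ hCN _ _ hψ, bd3tau_classInner_sub]
    rfl

end glob

end Cfsg.Agent.Lib.helper7.BD
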