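import Mathlib
import Cfsg.Prelude.Def_Characters
import Cfsg.Agent.Lib.Helper11.IndNormal
import Cfsg.Agent.Lib.Helper25.CharOrth
import Cfsg.Agent.Lib.Helper25.CharLinear

set_option autoImplicit false
open scoped ComplexConjugate

namespace Cfsg.Agent.Lib.Helper11

open Cfsg.Agent.Lib.helper7 Cfsg.Agent.Lib.Helper25

/-- conjugation by `g` on the normal subgroup `N` -/
def cjElt {G : Type*} [Group G] (N : Subgroup G) [hN : N.Normal] (g : G) (n : N) : N :=
  ⟨g * n * g⁻¹, hN.conj_mem n n.2 g⟩

/-- Brauer-type count: the number of irreducible characters of `N` fixed by `g`, as a class sum -/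
theorem sum_classInner_cj {G : Type*} [Group G] [Fintype G] (N : Subgroup G) [hN : N.Normal]
    [Fintype N] [Fintype (Cfsg.IrrCharacter N)] [DecidableRel (IsConj : N → N → Prop)] (g : G) :
    ∑ θ : Cfsg.IrrCharacter N, Cfsg.classInner (cj N (θ : N → ℂ) g) (θ : N → ℂ) =
      (Nat.card N : ℂ)⁻¹ * ∑ n : N, if IsConj n (cjElt N g n) then
        (Nat.card (Subgroup.centralizer ({n} : Set N)) : ℂ) else 0 := by
  unfold Cfsg.classInner
  rw [← Finset.mul_sum, Finset.sum_comm]
  congr 1
  apply Finset.sum_congr rfl
  intro n _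
  rw [← irr_column_orthogonality (cjElt N g n) n]
  rfl

theorem eq_one_of_isConj_cjElt {G : Type*} [Group G] (N : Subgroup G) [hN : N.Normal]
    (hC : ∀ n ∈ N, n ≠ 1 → Subgroup.centralizer ({n} : Set G) ≤ N) (g : G) (hg : g ∉ N)
    (n : N) (h : IsConj n (cjElt N g n)) : n = 1 := by
  by_contra hn
  obtain ⟨m, hm⟩ := isConj_iff.mp h
  have hm' : (m : G) * n * (m : G)⁻¹ = g * n * g⁻¹ := by
    have := congrArg Subtype.val hm
    simpa [cjElt] using this
  have hn' : (n : G) ≠ 1 := fun h1 => hn (Subtype.ext h1)
  have hmem : (m : G)⁻¹ * g ∈ Subgroup.centralizer ({(n : G)} : Set G) := by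
    rw [Subgroup.mem_centralizer_iff]
    intro y hy
    rw [Set.mem_singleton_iff] at hy
    subst hy
    have e : (n : G) = (m : G)⁻¹ * (g * n * g⁻¹) * m := by
      rw [← hm']; group
    calc (n : G) * ((m : G)⁻¹ * g) = (m : G)⁻¹ * (g * n * g⁻¹) * m * ((m : G)⁻¹ * g) := by
          rw [← e]
      _ = (m : G)⁻¹ * g * n := by group
  have h2 := hC n n.2 hn' hmem
  apply hg
  have := N.mul_mem m.2 h2
  simpa using this

/-- under the Frobenius-kernel-like hypothesis, a non-principal irreducible character of `N`
has inertia group `N` -/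
theorem mem_of_cj_eq {G : Type*} [Group G] [Fintype G] (N : Subgroup G) [hN : N.Normal]
    (hC : ∀ n ∈ N, n ≠ 1 → Subgroup.centralizer ({n} : Set G) ≤ N)
    (φ : N → ℂ) (hφ : Cfsg.IsIrrCharacter N φ) (hφ1 : φ ≠ fun _ => 1) (g : G)
    (hg : cj N φ g = φ) : g ∈ N := by
  classical
  by_contra hgN
  have : Fintype N := Fintype.ofFinite _
  have : Fintype (Cfsg.IrrCharacter N) := Fintype.ofFinite _
  have h1 := sum_classInner_cj N g
  have h2 : ∑ n : N, (if IsConj n (cjElt N g n) then
      (Nat.card (Subgroup.centralizer ({n} : Set N)) : ℂ) else 0) = (Nat.card N : ℂ) := by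
    rw [Finset.sum_eq_single (1 : N)]
    · rw [if_pos]
      · have : Subgroup.centralizer ({(1 : N)} : Set N) = ⊤ := by
          rw [eq_top_iff]
          intro x _
          rw [Subgroup.mem_centralizer_iff]
          intro y hy
          rw [Set.mem_singleton_iff] at hy
          subst hy
          simp
        rw [this, Subgroup.card_top]
      · have : cjElt N g 1 = 1 := by
          apply Subtype.ext
          simp [cjElt]
        rw [this]
    · intro n _ hn
      rw [if_neg]
      intro h
      exact hn (eq_one_of_isConj_cjElt N hC g hgN n h)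
    · intro h
      exact absurd (Finset.mem_univ _) h
  rw [h2, inv_mul_cancel₀ (by exact_mod_cast Nat.card_pos.ne')] at h1
  have h3 : ∀ θ : Cfsg.IrrCharacter N, Cfsg.classInner (cj N (θ : N → ℂ) g) (θ : N → ℂ) =
      if cj N (θ : N → ℂ) g = (θ : N → ℂ) then 1 else 0 := by
    intro θ
    have := irr_classInner ⟨cj N (θ : N → ℂ) g, isIrr_cj N θ θ.2 g⟩ θ
    rw [this]
    by_cases h : cj N (θ : N → ℂ) g = (θ : N → ℂ)
    · rw [if_pos h, if_pos (Subtype.ext h)]
    · rw [if_neg h, if_neg (fun h' => h (congrArg Subtype.val h'))]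
  simp only [h3] at h1
  rw [Finset.sum_boole] at h1
  have h4 : 2 ≤ (Finset.univ.filter
      (fun θ : Cfsg.IrrCharacter N => cj N (θ : N → ℂ) g = (θ : N → ℂ))).card := by
    have hsub : ({trivIrr N, ⟨φ, hφ⟩} : Finset (Cfsg.IrrCharacter N)) ⊆
        Finset.univ.filter (fun θ : Cfsg.IrrCharacter N => cj N (θ : N → ℂ) g = (θ : N → ℂ)) := by
      intro θ hθ
      rw [Finset.mem_insert, Finset.mem_singleton] at hθ
      rw [Finset.mem_filter]
      refine ⟨Finset.mem_univ _, ?_⟩
      rcases hθ with rfl | rfl
      · funext n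
        rfl
      · exact hg
    have hcard : ({trivIrr N, ⟨φ, hφ⟩} : Finset (Cfsg.IrrCharacter N)).card = 2 := by
      rw [Finset.card_pair]
      intro h
      apply hφ1
      have := congrArg Subtype.val h
      simp only at this
      rw [← this]
      funext n
      rfl
    rw [← hcard]
    exact Finset.card_le_card hsub
  have h5 : ((Finset.univ.filter
      (fun θ : Cfsg.IrrCharacter N => cj N (θ : N → ℂ) g = (θ : N → ℂ))).card : ℂ) = 1 := h1
  have h6 : (Finset.univ.filter
      (fun θ : Cfsg.IrrCharacter N => cj N (θ : N → ℂ) g = (θ : N → ℂ))).card = 1 := by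
    exact_mod_cast h5
  omega

/-- Brauer count in natural numbers: `#{θ fixed by g} * |N| = ∑ over g-stable classes |C_N(n)|` -/
theorem card_fixed_mul_card {G : Type*} [Group G] [Fintype G] (N : Subgroup G) [hN : N.Normal]
    [Fintype N] [Fintype (Cfsg.IrrCharacter N)] [DecidableRel (IsConj : N → N → Prop)]
    [DecidableEq (N → ℂ)] (g : G) :
    (Finset.univ.filter
      (fun θ : Cfsg.IrrCharacter N => cj N (θ : N → ℂ) g = (θ : N → ℂ))).card * Nat.card N =
      ∑ n : N, if IsConj n (cjElt N g n) then
        Nat.card (Subgroup.centralizer ({n} : Set N)) else 0 := by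
  have h1 := sum_classInner_cj N g
  have h3 : ∀ θ : Cfsg.IrrCharacter N, Cfsg.classInner (cj N (θ : N → ℂ) g) (θ : N → ℂ) =
      if cj N (θ : N → ℂ) g = (θ : N → ℂ) then 1 else 0 := by
    intro θ
    have := irr_classInner ⟨cj N (θ : N → ℂ) g, isIrr_cj N θ θ.2 g⟩ θ
    rw [this]
    by_cases h : cj N (θ : N → ℂ) g = (θ : N → ℂ)
    · rw [if_pos h, if_pos (Subtype.ext h)]
    · rw [if_neg h, if_neg (fun h' => h (congrArg Subtype.val h'))]
  simp only [h3] at h1
  rw [Finset.sum_boole] at h1
  have hne : (Nat.card N : ℂ) ≠ 0 := by exact_mod_cast Nat.card_pos.ne'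
  have h2 : ((Finset.univ.filter
      (fun θ : Cfsg.IrrCharacter N => cj N (θ : N → ℂ) g = (θ : N → ℂ))).card : ℂ) *
      (Nat.card N : ℂ) = ∑ n : N, if IsConj n (cjElt N g n) then
        (Nat.card (Subgroup.centralizer ({n} : Set N)) : ℂ) else 0 := by
    rw [h1]
    field_simp
  have h4 : (∑ n : N, if IsConj n (cjElt N g n) then
        (Nat.card (Subgroup.centralizer ({n} : Set N)) : ℂ) else 0) =
      ((∑ n : N, if IsConj n (cjElt N g n) then
        Nat.card (Subgroup.centralizer ({n} : Set N)) else 0 : ℕ) : ℂ) := by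
    push_cast
    apply Finset.sum_congr rfl
    intro n _
    split_ifs <;> simp
  rw [h4] at h2
  exact_mod_cast h2

theorem card_centralizer_one {N : Type*} [Group N] :
    Nat.card (Subgroup.centralizer ({(1 : N)} : Set N)) = Nat.card N := by
  have : Subgroup.centralizer ({(1 : N)} : Set N) = ⊤ := by
    rw [eq_top_iff]
    intro x _
    rw [Subgroup.mem_centralizer_iff]
    intro y hy
    rw [Set.mem_singleton_iff] at hy
    subst hy
    simp
  rw [this, Subgroup.card_top]

theorem isConj_cjElt_one {G : Type*} [Group G] (N : Subgroup G) [hN : N.Normal] (g : G) :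
    IsConj (1 : N) (cjElt N g 1) := by
  have : cjElt N g 1 = 1 := by
    apply Subtype.ext
    simp [cjElt]
  rw [this]

/-- a nontrivial `g`-stable class of `N` gives a non-principal `g`-fixed irreducible character,
and conversely -/
theorem exists_fixed_irr_iff {G : Type*} [Group G] [Finite G] (N : Subgroup G) [hN : N.Normal]
    (g : G) :
    (∃ θ : N → ℂ, Cfsg.IsIrrCharacter N θ ∧ θ ≠ (fun _ => 1) ∧ cj N θ g = θ) ↔
      ∃ n : N, n ≠ 1 ∧ IsConj n (cjElt N g n) := by
  classical
  have : Fintype G := Fintype.ofFinite _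
  have : Fintype N := Fintype.ofFinite _
  have : Fintype (Cfsg.IrrCharacter N) := Fintype.ofFinite _
  have hcount := card_fixed_mul_card N g
  have hpos : 0 < Nat.card N := Nat.card_pos
  constructor
  · rintro ⟨θ, hθ, hθ1, hfix⟩
    by_contra hcon
    push Not at hcon
    have h2 : (∑ n : N, if IsConj n (cjElt N g n) then
        Nat.card (Subgroup.centralizer ({n} : Set N)) else 0) = Nat.card N := by
      rw [Finset.sum_eq_single (1 : N)]
      · rw [if_pos (isConj_cjElt_one N g), card_centralizer_one]
      · intro n _ hn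
        rw [if_neg]
        intro h
        exact hcon n hn h
      · intro h
        exact absurd (Finset.mem_univ _) h
    rw [h2] at hcount
    have h6 : (Finset.univ.filter
        (fun θ : Cfsg.IrrCharacter N => cj N (θ : N → ℂ) g = (θ : N → ℂ))).card = 1 := by
      have := Nat.eq_of_mul_eq_mul_right hpos (hcount.trans (one_mul _).symm)
      exact this
    have h4 : 2 ≤ (Finset.univ.filter
        (fun θ : Cfsg.IrrCharacter N => cj N (θ : N → ℂ) g = (θ : N → ℂ))).card := by
      have hsub : ({trivIrr N, ⟨θ, hθ⟩} : Finset (Cfsg.IrrCharacter N)) ⊆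
          Finset.univ.filter
            (fun θ : Cfsg.IrrCharacter N => cj N (θ : N → ℂ) g = (θ : N → ℂ)) := by
        intro η hη
        rw [Finset.mem_insert, Finset.mem_singleton] at hη
        rw [Finset.mem_filter]
        refine ⟨Finset.mem_univ _, ?_⟩
        rcases hη with rfl | rfl
        · funext n
          rfl
        · exact hfix
      have hcard : ({trivIrr N, ⟨θ, hθ⟩} : Finset (Cfsg.IrrCharacter N)).card = 2 := by
        rw [Finset.card_pair]
        intro h
        apply hθ1
        have := congrArg Subtype.val h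
        simp only at this
        rw [← this]
        funext n
        rfl
      rw [← hcard]
      exact Finset.card_le_card hsub
    omega
  · rintro ⟨n₀, hn₀, hconj⟩
    have h2 : Nat.card N + 1 ≤ (∑ n : N, if IsConj n (cjElt N g n) then
        Nat.card (Subgroup.centralizer ({n} : Set N)) else 0) := by
      have hsub : ({1, n₀} : Finset N) ⊆ Finset.univ := Finset.subset_univ _
      have := Finset.sum_le_sum_of_subset (f := fun n : N => if IsConj n (cjElt N g n) then
        Nat.card (Subgroup.centralizer ({n} : Set N)) else 0) hsub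
      rw [Finset.sum_pair (Ne.symm hn₀), if_pos (isConj_cjElt_one N g), if_pos hconj,
        card_centralizer_one] at this
      have hc : 0 < Nat.card (Subgroup.centralizer ({n₀} : Set N)) := Nat.card_pos
      omega
    rw [← hcount] at h2
    have h3 : 1 < (Finset.univ.filter
        (fun θ : Cfsg.IrrCharacter N => cj N (θ : N → ℂ) g = (θ : N → ℂ))).card := by
      by_contra hle
      push Not at hle
      have := Nat.mul_le_mul_right (Nat.card N) hle
      omega
    have htriv : trivIrr N ∈ Finset.univ.filter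
        (fun θ : Cfsg.IrrCharacter N => cj N (θ : N → ℂ) g = (θ : N → ℂ)) := by
      rw [Finset.mem_filter]
      refine ⟨Finset.mem_univ _, ?_⟩
      funext n
      rfl
    obtain ⟨θ, hθmem, hθne⟩ := Finset.exists_mem_ne h3 (trivIrr N)
    refine ⟨θ, θ.2, ?_, (Finset.mem_filter.mp hθmem).2⟩
    intro h
    apply hθne
    apply Subtype.ext
    rw [h]
    rfl

end Cfsg.Agent.Lib.Helper11
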