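import Mathlib

set_option autoImplicit false
set_option linter.style.haveILetI false

namespace Cfsg.Agent.Lib.Helper11

/-- every nonidentity element has prime power order -/
def Eppo (G : Type*) [Group G] : Prop := ∀ g : G, IsPrimePow (orderOf g) ∨ g = 1

theorem eppo_subgroup {G : Type*} [Group G] (h : Eppo G) (K : Subgroup G) : Eppo K := by
  intro k
  rcases h (k : G) with h1 | h1
  · left; rwa [Subgroup.orderOf_coe] at h1
  · right; exact Subtype.ext h1

theorem eppo_quotient {G : Type*} [Group G] [Finite G] (h : Eppo G) (N : Subgroup G) [N.Normal] :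
    Eppo (G ⧸ N) := by
  intro x
  obtain ⟨g, rfl⟩ := QuotientGroup.mk_surjective x
  rcases h g with h1 | h1
  · have hd : orderOf (QuotientGroup.mk g : G ⧸ N) ∣ orderOf g :=
      orderOf_map_dvd (QuotientGroup.mk' N) g
    obtain ⟨p, k, hp, hk, hpk⟩ := h1
    rw [← hpk] at hd
    obtain ⟨j, hj, hj2⟩ := (Nat.dvd_prime_pow hp.nat_prime).mp hd
    rcases Nat.eq_zero_or_pos j with h0 | h0
    · right
      rw [h0, pow_zero] at hj2
      exact orderOf_eq_one_iff.mp hj2
    · left
      exact ⟨p, j, hp, h0, hj2.symm⟩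
  · right; rw [h1]; rfl

/-- commuting elements of coprime orders: one of them is trivial -/
theorem eppo_commute {G : Type*} [Group G] [Finite G] (h : Eppo G) {x y : G} (hc : Commute x y)
    (hcop : Nat.Coprime (orderOf x) (orderOf y)) : x = 1 ∨ y = 1 := by
  by_contra hne
  push Not at hne
  obtain ⟨hx, hy⟩ := hne
  have ho : orderOf (x * y) = orderOf x * orderOf y := hc.orderOf_mul_eq_mul_orderOf_of_coprime hcop
  have hx1 : orderOf x ≠ 1 := fun h => hx (orderOf_eq_one_iff.mp h)
  have hy1 : orderOf y ≠ 1 := fun h => hy (orderOf_eq_one_iff.mp h)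
  have hxy : x * y ≠ 1 := by
    intro h1
    rw [h1, orderOf_one] at ho
    have := Nat.eq_one_of_mul_eq_one_right ho.symm
    exact hx1 this
  rcases h (x * y) with hpp | h1
  · rw [ho] at hpp
    have := (Nat.Coprime.isPrimePow_dvd_mul hcop hpp).mp dvd_rfl
    rcases this with h2 | h2
    · have h3 := Nat.le_of_dvd (orderOf_pos x) h2
      have : 2 ≤ orderOf y := by have := orderOf_pos y; omega
      nlinarith [orderOf_pos x]
    · have h3 := Nat.le_of_dvd (orderOf_pos y) h2
      have : 2 ≤ orderOf x := by have := orderOf_pos x; omega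
      nlinarith [orderOf_pos y]
  · exact hxy h1

/-- a nontrivial finite solvable group has a nontrivial abelian normal subgroup -/
theorem exists_abelian_normal {G : Type*} [Group G] [Group.IsSolvable G] [Nontrivial G] :
    ∃ A : Subgroup G, A.Normal ∧ A ≠ ⊥ ∧ ∀ a ∈ A, ∀ b ∈ A, a * b = b * a := by
  classical
  have hs : ∃ n, derivedSeries G n = ⊥ := Group.IsSolvable.solvable
  set n := Nat.find hs with hn
  have hn1 : derivedSeries G n = ⊥ := Nat.find_spec hs
  rcases Nat.eq_zero_or_pos n with h0 | h0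
  · exfalso
    rw [h0, derivedSeries_zero] at hn1
    exact top_ne_bot hn1
  · obtain ⟨k, hk⟩ : ∃ k, n = k + 1 := ⟨n - 1, by omega⟩
    refine ⟨derivedSeries G k, derivedSeries_normal G k, ?_, ?_⟩
    · intro hb
      have : n ≤ k := Nat.find_min' hs hb
      omega
    · have h2 : ⁅derivedSeries G k, derivedSeries G k⁆ = ⊥ := by
        rw [← derivedSeries_succ, ← hk]; exact hn1
      rw [Subgroup.commutator_eq_bot_iff_le_centralizer] at h2
      intro a ha b hb
      exact (h2 ha b hb).symm

/-- in an EPPO group, a nontrivial abelian subgroup is a `p`-group -/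
theorem eppo_abelian_isPGroup {G : Type*} [Group G] [Finite G] (h : Eppo G) (A : Subgroup G)
    (hA : A ≠ ⊥) (hcomm : ∀ a ∈ A, ∀ b ∈ A, a * b = b * a) :
    ∃ p : ℕ, p.Prime ∧ IsPGroup p A ∧ p ∣ Nat.card A := by
  have hcard : Nat.card A ≠ 1 := fun h1 => hA (Subgroup.card_eq_one.mp h1)
  set p := (Nat.card A).minFac with hp
  have hpp : p.Prime := Nat.minFac_prime hcard
  have hpd : p ∣ Nat.card A := Nat.minFac_dvd _
  refine ⟨p, hpp, ?_, hpd⟩
  have hpos : Nat.card A ≠ 0 := Nat.card_pos.ne'
  have huniq : ∀ {d : ℕ}, d.Prime → d ∣ Nat.card A → d = p := by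
    intro d hd hdd
    by_contra hne
    haveI : Fact d.Prime := ⟨hd⟩
    haveI : Fact p.Prime := ⟨hpp⟩
    obtain ⟨a, ha⟩ := exists_prime_orderOf_dvd_card' d hdd
    obtain ⟨b, hb⟩ := exists_prime_orderOf_dvd_card' p hpd
    have hc : Commute a b := by
      apply Subtype.ext
      exact hcomm a a.2 b b.2
    have hcop : Nat.Coprime (orderOf a) (orderOf b) := by
      rw [ha, hb]
      exact (Nat.coprime_primes hd hpp).mpr hne
    rcases eppo_commute (eppo_subgroup h A) hc hcop with h1 | h1
    · rw [h1, orderOf_one] at ha; exact hd.one_lt.ne' ha.symm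
    · rw [h1, orderOf_one] at hb; exact hpp.one_lt.ne' hb.symm
  have := Nat.eq_prime_pow_of_unique_prime_dvd hpos huniq
  exact IsPGroup.of_card this


/-- In an EPPO group, a nontrivial `q`-subgroup `M` normalised by an element `y` of prime order
`r ≠ q` cannot coexist with a nontrivial abelian normal `p`-subgroup, `p ∉ {q, r}`:
the "Frobenius group" `M⟨y⟩` would act on it without fixed points. -/
theorem eppo_frobenius_action {G : Type*} [Group G] [Finite G] (h : Eppo G)
    (N : Subgroup G) [N.Normal] (hNc : ∀ a ∈ N, ∀ b ∈ N, a * b = b * a)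
    (p q r : ℕ) (hp : p.Prime) (hq : q.Prime) (hr : r.Prime) (hpq : p ≠ q) (hpr : p ≠ r)
    (hqr : q ≠ r) (hN : IsPGroup p N) (M : Subgroup G) (hM : IsPGroup q M) (hM1 : M ≠ ⊥)
    (y : G) (hy : orderOf y = r) (hyM : ∀ m ∈ M, y * m * y⁻¹ ∈ M) : N = ⊥ := by
  classical
  haveI : Fact p.Prime := ⟨hp⟩
  haveI : Fact q.Prime := ⟨hq⟩
  haveI : Fintype M := Fintype.ofFinite M
  haveI : Fintype (Subgroup.zpowers y) := Fintype.ofFinite _
  letI : CommGroup N :=
    { (inferInstance : Group N) with mul_comm := fun a b => Subtype.ext (hNc a a.2 b b.2) }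
  set κ : G →* MulAut N := MulAut.conjNormal with hκ
  have hκv : ∀ (g : G) (u : N), ((κ g u : N) : G) = g * u * g⁻¹ := fun g u => rfl
  -- fixed point freeness
  have fpf : ∀ g : G, g ≠ 1 → Nat.Coprime (orderOf g) p → ∀ u : N, κ g u = u → u = 1 := by
    intro g hg hcop u hu
    have hc : Commute g (u : G) := by
      have := congrArg (fun w : N => (w : G)) hu
      simp only [hκv] at this
      show g * u = u * g
      calc g * (u : G) = (g * u * g⁻¹) * g := by group
        _ = u * g := by rw [this]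
    obtain ⟨k, hk⟩ := (IsPGroup.iff_orderOf.mp hN) u
    have hcop' : Nat.Coprime (orderOf g) (orderOf (u : G)) := by
      rw [Subgroup.orderOf_coe, hk]; exact Nat.Coprime.pow_right k hcop
    rcases eppo_commute h hc hcop' with h1 | h1
    · exact absurd h1 hg
    · exact Subtype.ext h1
  have hcopM : ∀ m : M, Nat.Coprime (orderOf (m : G)) p := by
    intro m
    obtain ⟨k, hk⟩ := (IsPGroup.iff_orderOf.mp hM) m
    rw [Subgroup.orderOf_coe, hk]
    exact Nat.Coprime.pow_left k ((Nat.coprime_primes hq hp).mpr (Ne.symm hpq))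
  have hrp : Nat.Coprime r p := (Nat.coprime_primes hr hp).mpr (Ne.symm hpr)
  -- elements of `zpowers y`
  have hY : ∀ z : Subgroup.zpowers y, z ≠ 1 → orderOf (z : G) = r := by
    intro z hz
    have hd : orderOf (z : G) ∣ r := by
      rw [← hy]
      obtain ⟨k, hk⟩ := Subgroup.mem_zpowers_iff.mp z.2
      rw [← hk]
      exact orderOf_dvd_of_pow_eq_one (by rw [← zpow_natCast, ← zpow_mul, mul_comm, zpow_mul,
        zpow_natCast, pow_orderOf_eq_one, one_zpow])
    rcases (Nat.dvd_prime hr).mp hd with h1 | h1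
    · exfalso; apply hz; apply Subtype.ext; exact orderOf_eq_one_iff.mp h1
    · exact h1
  have hYM : ∀ z : Subgroup.zpowers y, ∀ m ∈ M, (z : G) * m * (z : G)⁻¹ ∈ M := by
    intro z
    obtain ⟨k, hk⟩ := Subgroup.mem_zpowers_iff.mp z.2
    have hnorm : y ∈ Subgroup.normalizer (M : Set G) := by
      exact Subgroup.mem_normalizer_fintype (fun m hm => hyM m hm)
    have : (z : G) ∈ Subgroup.normalizer (M : Set G) := by
      rw [← hk]; exact Subgroup.zpow_mem _ hnorm k
    intro m hm
    exact (Subgroup.mem_normalizer_iff.mp this m).mp hm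
  -- pick a nonidentity element of M
  obtain ⟨m₀, hm₀M, hm₀⟩ : ∃ m₀ ∈ M, m₀ ≠ 1 := by
    by_contra hcon
    push Not at hcon
    exact hM1 ((Subgroup.eq_bot_iff_forall M).mpr hcon)
  rw [Subgroup.eq_bot_iff_forall]
  intro v₀ hv₀
  set v : N := ⟨v₀, hv₀⟩ with hv
  suffices hv1 : v = 1 by
    exact congrArg (fun w : N => (w : G)) hv1
  -- invariance of products over M
  have invM : ∀ (f : G → N) , (∀ m : M, ∀ g : G, κ m (f g) = f (m * g)) →
      ∀ g₀ : G, ∏ m : M, f ((m : G) * g₀) = 1 := by
    intro f hf g₀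
    apply fpf m₀ hm₀ (hcopM ⟨m₀, hm₀M⟩)
    rw [map_prod]
    have : ∀ m : M, κ m₀ (f ((m : G) * g₀)) = f (((⟨m₀, hm₀M⟩ * m : M) : G) * g₀) := by
      intro m
      rw [hf ⟨m₀, hm₀M⟩]
      congr 1
      simp [mul_assoc]
    simp_rw [this]
    exact Equiv.prod_comp (Equiv.mulLeft (⟨m₀, hm₀M⟩ : M)) (fun m : M => f ((m : G) * g₀))
  -- T z := ∏ m, κ (m z) v
  have hT1 : ∀ z : Subgroup.zpowers y, ∏ m : M, κ ((m : G) * (z : G)) v = 1 := by
    intro z
    exact invM (fun g => κ g v) (fun m g => by rw [map_mul]; rfl) z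
  -- reindexing for z ≠ 1
  have hT' : ∀ z : Subgroup.zpowers y, z ≠ 1 →
      ∏ m : M, κ ((m : G) * (z : G) * (m : G)⁻¹) v = ∏ m : M, κ ((m : G) * (z : G)) v := by
    intro z hz
    let β : M → M := fun m => ⟨(m : G) * ((z : G) * (m : G)⁻¹ * (z : G)⁻¹),
      M.mul_mem m.2 (hYM z _ (M.inv_mem m.2))⟩
    have hβinj : Function.Injective β := by
      intro m m' hmm
      have h1 : (m : G) * ((z : G) * (m : G)⁻¹ * (z : G)⁻¹) =
          (m' : G) * ((z : G) * (m' : G)⁻¹ * (z : G)⁻¹) := congrArg (fun w : M => (w : G)) hmm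
      have hc : Commute ((m' : G)⁻¹ * (m : G)) (z : G) := by
        show (m' : G)⁻¹ * (m : G) * (z : G) = (z : G) * ((m' : G)⁻¹ * (m : G))
        have h2 : (m : G) * (z : G) * (m : G)⁻¹ = (m' : G) * (z : G) * (m' : G)⁻¹ := by
          have := congrArg (fun w => w * (z : G)) h1
          simp only [mul_assoc, inv_mul_cancel, mul_one] at this
          simpa [mul_assoc] using this
        calc (m' : G)⁻¹ * (m : G) * (z : G)
            = (m' : G)⁻¹ * ((m : G) * (z : G) * (m : G)⁻¹) * (m : G) := by group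
          _ = (m' : G)⁻¹ * ((m' : G) * (z : G) * (m' : G)⁻¹) * (m : G) := by rw [h2]
          _ = (z : G) * ((m' : G)⁻¹ * (m : G)) := by group
      have hcop : Nat.Coprime (orderOf ((m' : G)⁻¹ * (m : G))) (orderOf (z : G)) := by
        have := hcopM (m'⁻¹ * m)
        obtain ⟨k, hk⟩ := (IsPGroup.iff_orderOf.mp hM) (m'⁻¹ * m)
        have e : orderOf ((m' : G)⁻¹ * (m : G)) = q ^ k := by
          rw [← hk, ← Subgroup.orderOf_coe]; rfl
        rw [e, hY z hz]
        exact Nat.Coprime.pow_left k ((Nat.coprime_primes hq hr).mpr hqr)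
      rcases eppo_commute h hc hcop with h3 | h3
      · apply Subtype.ext
        have := inv_mul_eq_one.mp h3
        exact this.symm
      · exfalso; apply hz; exact Subtype.ext h3
    have hβbij : Function.Bijective β := Finite.injective_iff_bijective.mp hβinj
    have : ∀ m : M, κ ((m : G) * (z : G) * (m : G)⁻¹) v = κ (((β m : M) : G) * (z : G)) v := by
      intro m
      congr 2
      simp only [β]
      group
    simp_rw [this]
    exact (Equiv.ofBijective β hβbij).prod_comp (fun m : M => κ ((m : G) * (z : G)) v)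
  -- products over zpowers y
  have hS : ∀ m : M, ∏ z : Subgroup.zpowers y, κ ((m : G) * (z : G) * (m : G)⁻¹) v = 1 := by
    intro m
    have hne : (m : G) * y * (m : G)⁻¹ ≠ 1 := by
      intro h1
      have : y = 1 := by
        have := congrArg (fun w => (m : G)⁻¹ * w * (m : G)) h1
        simpa [mul_assoc] using this
      rw [this, orderOf_one] at hy
      exact hr.one_lt.ne' hy.symm
    have hord : orderOf ((m : G) * y * (m : G)⁻¹) = r := by
      have := orderOf_injective (MulAut.conj (m : G)).toMonoidHom (MulAut.conj (m : G)).injective y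
      rw [← hy, ← this]
      rfl
    apply fpf _ hne (by rw [hord]; exact hrp)
    rw [map_prod]
    have : ∀ z : Subgroup.zpowers y, κ ((m : G) * y * (m : G)⁻¹)
        (κ ((m : G) * (z : G) * (m : G)⁻¹) v) =
        κ ((m : G) * (((⟨y, Subgroup.mem_zpowers y⟩ * z : Subgroup.zpowers y)) : G) * (m : G)⁻¹) v := by
      intro z
      rw [← MulAut.mul_apply, ← map_mul]
      congr 2
      simp only [Subgroup.coe_mul]
      group
    simp_rw [this]
    exact Equiv.prod_comp (Equiv.mulLeft (⟨y, Subgroup.mem_zpowers y⟩ : Subgroup.zpowers y))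
      (fun z : Subgroup.zpowers y => κ ((m : G) * (z : G) * (m : G)⁻¹) v)
  have e1 : ∏ z : Subgroup.zpowers y, ∏ m : M, κ ((m : G) * (z : G) * (m : G)⁻¹) v = 1 := by
    rw [Finset.prod_comm]
    exact Finset.prod_eq_one (fun m _ => hS m)
  have e2 : ∏ z : Subgroup.zpowers y, ∏ m : M, κ ((m : G) * (z : G) * (m : G)⁻¹) v =
      v ^ Fintype.card M := by
    rw [← Finset.mul_prod_erase Finset.univ _ (Finset.mem_univ (1 : Subgroup.zpowers y))]
    have h1 : ∏ m : M, κ ((m : G) * ((1 : Subgroup.zpowers y) : G) * (m : G)⁻¹) v =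
        v ^ Fintype.card M := by
      simp
    have h2 : ∏ z ∈ Finset.univ.erase (1 : Subgroup.zpowers y),
        ∏ m : M, κ ((m : G) * (z : G) * (m : G)⁻¹) v = 1 := by
      apply Finset.prod_eq_one
      intro z hz
      rw [hT' z (Finset.ne_of_mem_erase hz), hT1 z]
    rw [h1, h2, mul_one]
  have e3 : v ^ Fintype.card M = 1 := by rw [← e2, e1]
  obtain ⟨k, hk⟩ := (IsPGroup.iff_orderOf.mp hN) v
  have hd : orderOf v ∣ Fintype.card M := orderOf_dvd_of_pow_eq_one e3
  obtain ⟨j, hj⟩ := IsPGroup.iff_card.mp hM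
  rw [hk, ← Nat.card_eq_fintype_card, hj] at hd
  have hk0 : k = 0 := by
    by_contra hk0
    have h1 : p ∣ q ^ j := dvd_trans (dvd_pow_self p hk0) hd
    have h2 := (Nat.prime_dvd_prime_iff_eq hp hq).mp (hp.dvd_of_dvd_pow h1)
    exact hpq h2
  rw [hk0, pow_zero] at hk
  exact orderOf_eq_one_iff.mp hk

end Cfsg.Agent.Lib.Helper11
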