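import Mathlib
import Cfsg.Prelude.Def_GeometricClasses
import Cfsg.Agent.Lib.Helper27.ASC.Defs
import Cfsg.Agent.Lib.Helper19.ASG.Defs
import Cfsg.Agent.Lib.Helper26.ASGD1.Defs

set_option autoImplicit false
set_option linter.unusedVariables false

/-! Project ASG, block D1, piece INDEP: elements of an absolutely irreducible group of class 2 modulo scalars which are
pairwise inequivalent modulo scalars are linearly independent matrices. -/

namespace Cfsg.Agent.Lib.Helper19.ASG

open Cfsg Cfsg.Geo Cfsg.Agent.Lib.Helper27.ASC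
open scoped MatrixGroups Matrix

variable {n : ℕ} {F : Type*} [Field F] [Fintype F]

/-- conjugation by `g ∈ R` multiplies `x ∈ R` by a scalar -/
theorem asgd1indep_conj {R : Subgroup (GL (Fin n) F)} (hc : ⁅R, R⁆ ≤ scalars (Fin n) F)
    {g x : GL (Fin n) F} (hg : g ∈ R) (hx : x ∈ R) :
    ∃ c : Fˣ, g * x * g⁻¹ = d1scal c * x := by
  have h1 : g * x * g⁻¹ * x⁻¹ ∈ scalars (Fin n) F := hc (Subgroup.commutator_mem_commutator hg hx)
  obtain ⟨c, hc'⟩ := (mem_scalars_iff_d1scal _).mp h1
  refine ⟨c, ?_⟩
  rw [← hc']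
  group

/-- a matrix unit `y` commuting with `R` is scalar (`0 < n`) -/
theorem asgd1indep_scalar (hn : 0 < n) {R : Subgroup (GL (Fin n) F)} (hA : AbsIrr R) (y : GL (Fin n) F)
    (hy : ∀ g ∈ R, g * y = y * g) : y ∈ scalars (Fin n) F := by
  obtain ⟨c, hc⟩ := hA.2 (y : Matrix (Fin n) (Fin n) F) (by
    rintro s ⟨g, hg, rfl⟩
    show (y : Matrix (Fin n) (Fin n) F) * (g : Matrix (Fin n) (Fin n) F) =
      (g : Matrix (Fin n) (Fin n) F) * (y : Matrix (Fin n) (Fin n) F)
    rw [← Units.val_mul, ← Units.val_mul, hy g hg])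
  have hc0 : c ≠ 0 := by
    intro h0
    rw [h0, zero_smul] at hc
    have h1 : (y : Matrix (Fin n) (Fin n) F) * ((y⁻¹ : GL (Fin n) F) : Matrix (Fin n) (Fin n) F) = 1 := by
      rw [← Units.val_mul, mul_inv_cancel, Units.val_one]
    rw [hc, zero_mul] at h1
    have := congrFun (congrFun h1 ⟨0, hn⟩) ⟨0, hn⟩
    simp at this
  rw [mem_scalars_iff]
  exact ⟨Units.mk0 c hc0, hc⟩

/-- D1-INDEP (with `0 < n`; the statement is false for `n = 0`) -/
theorem d1_indep (hn : 0 < n) {R : Subgroup (GL (Fin n) F)} (hA : AbsIrr R) (hc : ⁅R, R⁆ ≤ scalars (Fin n) F)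
    {ι : Type*} (x : ι → GL (Fin n) F) (hx : ∀ i, x i ∈ R)
    (hinj : ∀ i j, (x i)⁻¹ * x j ∈ scalars (Fin n) F → i = j) :
    LinearIndependent F (fun i => ((x i : GL (Fin n) F) : Matrix (Fin n) (Fin n) F)) := by
  classical
  rw [linearIndependent_iff']
  have key : ∀ k : ℕ, ∀ s : Finset ι, s.card = k → ∀ a : ι → F,
      ∑ i ∈ s, a i • ((x i : GL (Fin n) F) : Matrix (Fin n) (Fin n) F) = 0 → ∀ i ∈ s, a i = 0 := by
    intro k
    induction k using Nat.strong_induction_on with
    | _ k ih =>
      intro s hs a hsum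
      by_contra hcon
      push Not at hcon
      obtain ⟨i₁, hi₁s, hi₁⟩ := hcon
      have hothers : ∀ i ∈ s, i ≠ i₁ → a i = 0 := by
        intro i₂ hi₂s hne
        by_contra ha2
        have hcomm : ∀ g ∈ R, g * ((x i₁)⁻¹ * x i₂) = ((x i₁)⁻¹ * x i₂) * g := by
          intro g hg
          choose c hcg using fun i => asgd1indep_conj hc hg (hx i)
          have hmat : ∀ i, (g : Matrix (Fin n) (Fin n) F) * ((x i : GL (Fin n) F) : Matrix (Fin n) (Fin n) F) *
              ((g⁻¹ : GL (Fin n) F) : Matrix (Fin n) (Fin n) F) =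
              (c i : F) • ((x i : GL (Fin n) F) : Matrix (Fin n) (Fin n) F) := by
            intro i
            rw [← Units.val_mul, ← Units.val_mul, hcg i, Units.val_mul, d1scal_coe, Matrix.smul_mul, one_mul]
          -- the conjugated relation
          have hsum2 : ∑ i ∈ s, (a i * (c i : F)) • ((x i : GL (Fin n) F) : Matrix (Fin n) (Fin n) F) = 0 := by
            have h1 : (g : Matrix (Fin n) (Fin n) F) *
                (∑ i ∈ s, a i • ((x i : GL (Fin n) F) : Matrix (Fin n) (Fin n) F)) *
                ((g⁻¹ : GL (Fin n) F) : Matrix (Fin n) (Fin n) F) = 0 := by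
              rw [hsum, mul_zero, zero_mul]
            rw [Finset.mul_sum, Finset.sum_mul] at h1
            rw [← h1]
            refine Finset.sum_congr rfl fun i _ => ?_
            rw [Matrix.mul_smul, Matrix.smul_mul, hmat i, smul_smul]
          -- the shorter relation
          have hsum3 : ∑ i ∈ s.erase i₁, (a i * ((c i : F) - (c i₁ : F))) •
              ((x i : GL (Fin n) F) : Matrix (Fin n) (Fin n) F) = 0 := by
            have h2 : ∑ i ∈ s, (a i * ((c i : F) - (c i₁ : F))) •
                ((x i : GL (Fin n) F) : Matrix (Fin n) (Fin n) F) = 0 := by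
              have : ∀ i ∈ s, (a i * ((c i : F) - (c i₁ : F))) •
                  ((x i : GL (Fin n) F) : Matrix (Fin n) (Fin n) F) =
                  (a i * (c i : F)) • ((x i : GL (Fin n) F) : Matrix (Fin n) (Fin n) F) -
                    (c i₁ : F) • (a i • ((x i : GL (Fin n) F) : Matrix (Fin n) (Fin n) F)) := by
                intro i _
                rw [smul_smul, ← sub_smul]
                congr 1
                ring
              rw [Finset.sum_congr rfl this, Finset.sum_sub_distrib, ← Finset.smul_sum, hsum, hsum2,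
                smul_zero, sub_zero]
            rw [← Finset.add_sum_erase s _ hi₁s] at h2
            simpa using h2
          have hlt : (s.erase i₁).card < k := by
            rw [Finset.card_erase_of_mem hi₁s, hs]
            exact Nat.sub_lt (hs ▸ Finset.card_pos.mpr ⟨i₁, hi₁s⟩) Nat.one_pos
          have hb := ih _ hlt (s.erase i₁) rfl _ hsum3 i₂ (Finset.mem_erase.mpr ⟨hne, hi₂s⟩)
          have hceq : c i₂ = c i₁ := by
            rcases mul_eq_zero.mp hb with h | h
            · exact absurd h ha2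
            · exact Units.ext (sub_eq_zero.mp h)
          have e1 := hcg i₁
          have e2 := hcg i₂
          rw [hceq] at e2
          have e3 : g * ((x i₁)⁻¹ * x i₂) * g⁻¹ = (x i₁)⁻¹ * x i₂ := by
            have : g * ((x i₁)⁻¹ * x i₂) * g⁻¹ = (g * x i₁ * g⁻¹)⁻¹ * (g * x i₂ * g⁻¹) := by group
            rw [this, e1, e2, mul_inv_rev, mul_assoc, inv_mul_cancel_left]
          calc g * ((x i₁)⁻¹ * x i₂) = g * ((x i₁)⁻¹ * x i₂) * g⁻¹ * g := by group
            _ = ((x i₁)⁻¹ * x i₂) * g := by rw [e3]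
        have hsc := asgd1indep_scalar hn hA _ hcomm
        exact hne (hinj i₁ i₂ hsc).symm
      have hsingle : ∑ i ∈ s, a i • ((x i : GL (Fin n) F) : Matrix (Fin n) (Fin n) F) =
          a i₁ • ((x i₁ : GL (Fin n) F) : Matrix (Fin n) (Fin n) F) := by
        apply Finset.sum_eq_single_of_mem i₁ hi₁s
        intro i his hne
        rw [hothers i his hne, zero_smul]
      rw [hsingle] at hsum
      have h1 := congrArg (fun M => M * ((x i₁)⁻¹ : GL (Fin n) F).val) hsum
      simp only [Matrix.smul_mul, zero_mul] at h1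
      rw [← Units.val_mul, mul_inv_cancel, Units.val_one] at h1
      have := congrFun (congrFun h1 ⟨0, hn⟩) ⟨0, hn⟩
      simp at this
      exact hi₁ this
  intro s a hsum i hi
  exact key s.card s rfl a hsum i hi

end Cfsg.Agent.Lib.Helper19.ASG
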