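import Mathlib
import Cfsg.Prelude.Def_GeometricClasses
import Cfsg.Agent.Lib.Helper27.ASC.Defs

/-! Project ASG, shared lemma BURNSIDE: an absolutely irreducible set of matrices generates the full matrix algebra;
an absolutely irreducible group of matrices spans it.  Via Mathlib's Jacobson density theorem. -/

set_option autoImplicit false
set_option linter.unusedVariables false
set_option linter.unusedSectionVars false
set_option linter.deprecated false

namespace Cfsg.Agent.Lib.Helper27.ASC

open Cfsg Cfsg.Geo
open scoped MatrixGroups Matrix

section general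

variable {ι : Type} [Fintype ι] [DecidableEq ι] {F : Type*} [Field F]

/-- Burnside: the algebra generated by an absolutely irreducible set of matrices is the full matrix algebra -/
theorem burnside_adjoin (S : Set (Matrix ι ι F)) (hS : ActsAbsolutelyIrreducibly S) :
    Algebra.adjoin F S = ⊤ := by
  classical
  rcases isEmpty_or_nonempty ι with hι | hι
  · exact Subsingleton.elim _ _
  let T : Matrix ι ι F ≃ₐ[F] Module.End F (ι → F) := Matrix.toLinAlgEquiv'
  let A : Subalgebra F (Module.End F (ι → F)) := (Algebra.adjoin F S).map T.toAlgHom
  have hTS : ∀ s ∈ S, T s ∈ A := fun s hs => ⟨s, Algebra.subset_adjoin hs, rfl⟩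
  have hTapply : ∀ (M : Matrix ι ι F) (v : ι → F), T M v = M *ᵥ v := fun M v => rfl
  -- the `A`-action
  have hsmul : ∀ (a : A) (v : ι → F), a • v = a.1 v := fun a v => rfl
  -- `V` is a simple `A`-module
  have hsimple : IsSimpleModule A (ι → F) := by
    have hkey : ∀ W : Submodule A (ι → F), W = ⊥ ∨ W = ⊤ := by
      intro W
      let W' : Submodule F (ι → F) :=
        { carrier := W
          add_mem' := fun ha hb => W.add_mem ha hb
          zero_mem' := W.zero_mem
          smul_mem' := fun c v hv => by
            have h1 : (algebraMap F A c) • v ∈ W := W.smul_mem _ hv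
            have h2 : (algebraMap F A c) • v = c • v := by
              rw [hsmul]
              simp [Algebra.algebraMap_eq_smul_one]
            rwa [h2] at h1 }
      have hW' : ∀ s ∈ S, W'.map (Matrix.toLin' s) ≤ W' := by
        rintro s hs _ ⟨v, hv, rfl⟩
        have h1 : (⟨T s, hTS s hs⟩ : A) • v ∈ W := W.smul_mem _ hv
        exact h1
      rcases hS.1 W' hW' with h | h
      · left
        rw [eq_bot_iff]
        intro v hv
        have : v ∈ W' := hv
        rw [h] at this
        exact this
      · right
        rw [eq_top_iff]
        intro v _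
        have : v ∈ W' := by rw [h]; trivial
        exact this
    have hnt : Nontrivial (ι → F) := inferInstance
    have hnt' : Nontrivial (Submodule A (ι → F)) := by
      refine ⟨⟨⊥, ⊤, ?_⟩⟩
      intro h
      obtain ⟨x, y, hxy⟩ := hnt
      have hx : x ∈ (⊤ : Submodule A (ι → F)) := trivial
      have hy : y ∈ (⊤ : Submodule A (ι → F)) := trivial
      rw [← h] at hx hy
      exact hxy (by rw [(Submodule.mem_bot A).mp hx, (Submodule.mem_bot A).mp hy])
    have hso : IsSimpleOrder (Submodule A (ι → F)) := { eq_bot_or_eq_top := hkey }
    exact IsSimpleModule.mk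
  -- every `A`-endomorphism of `V` is a scalar
  have hend : ∀ φ : Module.End A (ι → F), ∃ c : F, ∀ v, φ v = c • v := by
    intro φ
    -- `φ` is `F`-linear
    let φF : Module.End F (ι → F) :=
      { toFun := φ
        map_add' := φ.map_add
        map_smul' := fun c v => by
          have h1 : φ ((algebraMap F A c) • v) = (algebraMap F A c) • φ v := φ.map_smul _ v
          have h2 : ∀ w : ι → F, (algebraMap F A c) • w = c • w := by
            intro w
            rw [hsmul]
            simp [Algebra.algebraMap_eq_smul_one]
          rw [h2, h2] at h1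
          exact h1 }
    have hcomm : ∀ s ∈ S, T.symm φF * s = s * T.symm φF := by
      intro s hs
      apply T.injective
      rw [map_mul, map_mul, T.apply_symm_apply]
      apply LinearMap.ext
      intro v
      have h1 : φ ((⟨T s, hTS s hs⟩ : A) • v) = (⟨T s, hTS s hs⟩ : A) • φ v := φ.map_smul _ v
      exact h1
    obtain ⟨c, hc⟩ := hS.2 (T.symm φF) hcomm
    refine ⟨c, fun v => ?_⟩
    have h1 : φF = T (c • (1 : Matrix ι ι F)) := by rw [← hc, T.apply_symm_apply]
    have h2 : φ v = φF v := rfl
    rw [h2, h1, map_smul, map_one]
    rfl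
  -- Jacobson density: every `F`-endomorphism lies in `A`
  have hall : ∀ g : Module.End F (ι → F), g ∈ A := by
    intro g
    let f : Module.End (Module.End A (ι → F)) (ι → F) :=
      { toFun := g
        map_add' := g.map_add
        map_smul' := fun φ v => by
          obtain ⟨c, hc⟩ := hend φ
          show g (φ v) = φ (g v)
          rw [hc, hc, g.map_smul] }
    obtain ⟨r, hr⟩ := jacobson_density (R := A) (M := ι → F) f (Finset.univ.image (fun i : ι => (Pi.single i (1 : F) : ι → F)))
    have hgr : g = r.1 := by
      apply LinearMap.pi_ext'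
      intro i
      apply LinearMap.ext_ring
      have h1 : f (Pi.single i (1 : F)) = r • (Pi.single i (1 : F) : ι → F) :=
        hr (Pi.single i (1 : F)) (Finset.mem_image.mpr ⟨i, Finset.mem_univ i, rfl⟩)
      have h2 : g (Pi.single i (1 : F)) = r.1 (Pi.single i (1 : F)) := h1
      simpa using h2
    rw [hgr]
    exact r.2
  -- conclusion
  rw [eq_top_iff]
  intro M _
  obtain ⟨M', hM', hMM'⟩ := hall (T M)
  have : M' = M := T.injective hMM'
  rw [← this]
  exact hM'

/-- Burnside: an absolutely irreducible group of matrices spans the full matrix algebra -/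
theorem burnside_span_gen (N : Subgroup (GL ι F)) (hA : ActsAbsolutelyIrreducibly (matrixSet N)) :
    Submodule.span F (matrixSet N) = ⊤ := by
  classical
  have h1 := burnside_adjoin (matrixSet N) hA
  have h2 : Submonoid.closure (matrixSet N) = N.toSubmonoid.map (Units.coeHom (Matrix ι ι F)) := by
    have : (matrixSet N : Set (Matrix ι ι F)) =
        ((N.toSubmonoid.map (Units.coeHom (Matrix ι ι F)) : Submonoid (Matrix ι ι F)) : Set (Matrix ι ι F)) := by
      ext M
      constructor
      · rintro ⟨g, hg, rfl⟩
        exact ⟨g, hg, rfl⟩
      · rintro ⟨g, hg, rfl⟩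
        exact ⟨g, hg, rfl⟩
    rw [this, Submonoid.closure_eq]
  have h3 : (Algebra.adjoin F (matrixSet N)).toSubmodule = Submodule.span F (matrixSet N) := by
    rw [Algebra.adjoin_eq_span, h2]
    rfl
  rw [← h3, h1]
  rfl

end general

variable {n : ℕ} {F : Type*} [Field F]

/-- BURNSIDE, in the vocabulary of project ASC / ASG -/
theorem burnside_span {N : Subgroup (GL (Fin n) F)} (hA : AbsIrr N) :
    Submodule.span F (matrixSet N) = ⊤ :=
  burnside_span_gen N hA

/-- every matrix is a linear combination of elements of an absolutely irreducible group -/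
theorem burnside_mem_span {N : Subgroup (GL (Fin n) F)} (hA : AbsIrr N) (M : Matrix (Fin n) (Fin n) F) :
    M ∈ Submodule.span F (matrixSet N) := by
  rw [burnside_span hA]; trivial

/-- a matrix commuting-style test: a linear functional vanishing on `N` vanishes identically -/
theorem burnside_ext {N : Subgroup (GL (Fin n) F)} (hA : AbsIrr N) {W : Type*} [AddCommGroup W] [Module F W]
    (f g : Matrix (Fin n) (Fin n) F →ₗ[F] W)
    (h : ∀ x ∈ N, f (x : Matrix (Fin n) (Fin n) F) = g (x : Matrix (Fin n) (Fin n) F)) : f = g := by
  apply LinearMap.ext_on (burnside_span hA)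
  rintro _ ⟨x, hx, rfl⟩
  exact h x hx

end Cfsg.Agent.Lib.Helper27.ASC
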