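import Mathlib
import Cfsg.Agent.S0023
import Cfsg.Agent.Lib.Helper1.Ward.Reduce

set_option autoImplicit false
set_option linter.unusedSectionVars false

open scoped commutatorElement

namespace Cfsg.Agent.Lib.Helper11.FrobTower

open Cfsg.Agent.Lib.Helper11 Cfsg.Agent.Lib.Helper1.Ward

universe u

variable {Γ : Type u} [Group Γ] [Finite Γ]

def TowerProp (A G : Subgroup Γ) : Prop :=
  ∀ q s r : ℕ, q.Prime → s.Prime → r.Prime → q ≠ s → s ≠ r → ∀ S R : Subgroup Γ, S ≤ G → R ≤ G →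
    IsPGroup s S → IsPGroup r R → A ≤ Subgroup.normalizer (S : Set Γ) →
    A ≤ Subgroup.normalizer (R : Set Γ) → R ≤ Subgroup.normalizer (S : Set Γ) →
    ⁅S, R⁆ ≤ Subgroup.centralizer ((Oq G q : Subgroup Γ) : Set Γ)

def Tower2Prop (A G : Subgroup Γ) : Prop :=
  ∀ q r : ℕ, q.Prime → r.Prime → q ≠ r → ∀ R : Subgroup Γ, R ≤ G → IsPGroup r R →
    A ≤ Subgroup.normalizer (R : Set Γ) →
    ⁅R, R⁆ ≤ Subgroup.centralizer ((Oq G q : Subgroup Γ) : Set Γ)

structure GoodT (A G : Subgroup Γ) : Prop where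
  normal : G.Normal
  cop : (Nat.card A).Coprime (Nat.card G)
  solvA : Group.IsSolvable A
  solv : Group.IsSolvable G
  tower : ∀ M : Subgroup Γ, M.Normal → M ≤ G → TowerProp A M

namespace GoodT

variable {A G : Subgroup Γ}

theorem sub (hG : GoodT A G) {M : Subgroup Γ} (hM : M.Normal) (hMG : M ≤ G) : GoodT A M where
  normal := hM
  cop := Nat.Coprime.coprime_dvd_right (Subgroup.card_dvd_of_le hMG) hG.cop
  solvA := hG.solvA
  solv := by
    have := hG.solv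
    exact Group.isSolvable_of_isSolvable_injective (Subgroup.inclusion_injective hMG)
  tower := fun M' hM' hM'M => hG.tower M' hM' (hM'M.trans hMG)

theorem norm_top (hG : GoodT A G) (E : Subgroup Γ) :
    E ≤ Subgroup.normalizer (G : Set Γ) := by
  have := hG.normal
  rw [Subgroup.normalizer_eq_top]
  exact le_top

theorem copA (hG : GoodT A G) {N : Subgroup Γ} (hNG : N ≤ G) :
    (Nat.card A).Coprime (Nat.card N) :=
  Nat.Coprime.coprime_dvd_right (Subgroup.card_dvd_of_le hNG) hG.cop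

theorem Dprime_le (hG : GoodT A G) {s : ℕ} (hs : s.Prime) (Ps : Subgroup Γ) (hPn : Ps.Normal)
    (hPG : Ps ≤ G) (hPpow : ∀ x ∈ Ps, ∃ k, x ^ (s ^ k) ∈ Cfsg.fittingOf G) :
    Ps ⊓ Subgroup.centralizer ((Qs G s : Subgroup Γ) : Set Γ) ≤ Cfsg.fittingOf G := by
  have := hG.normal
  have hQn := Qs_normal G s
  have hCn : (Subgroup.centralizer ((Qs G s : Subgroup Γ) : Set Γ)).Normal :=
    Subgroup.normal_centralizer
  have hDn : (Ps ⊓ Subgroup.centralizer ((Qs G s : Subgroup Γ) : Set Γ)).Normal :=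
    Subgroup.normal_inf_normal _ _
  apply le_fitOf (inf_le_left.trans hPG)
  · rw [Subgroup.normalizer_eq_top]; exact le_top
  · apply nilpotent_of_central_pow hs
      ((Qs G s).subgroupOf (Ps ⊓ Subgroup.centralizer ((Qs G s : Subgroup Γ) : Set Γ)))
    · intro z hz
      rw [Subgroup.mem_center_iff]
      intro d
      apply Subtype.ext
      have hd := Subgroup.mem_centralizer_iff.mp d.2.2 z.1 (Subgroup.mem_subgroupOf.mp hz)
      exact hd.symm
    · intro x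
      obtain ⟨k₁, hk₁⟩ := hPpow x.1 x.2.1
      obtain ⟨k₂, hk₂⟩ := pow_mem_Qs G hs hk₁
      refine ⟨k₁ + k₂, ?_⟩
      rw [Subgroup.mem_subgroupOf]
      have e : ((x ^ (s ^ (k₁ + k₂)) : ↥(Ps ⊓ Subgroup.centralizer
          ((Qs G s : Subgroup Γ) : Set Γ))) : Γ) = ((x : Γ) ^ (s ^ k₁)) ^ (s ^ k₂) := by
        rw [Subgroup.coe_pow, pow_add, pow_mul]
      rw [e]
      exact hk₂

theorem per_prime (hG : GoodT A G) {r : ℕ} (hr : r.Prime) {M : Subgroup Γ} (hM : M.Normal)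
    (hMG : M ≤ G) (hpow : ∀ g ∈ G, ∃ k, g ^ (r ^ k) ∈ M)
    (hMnil : ∃ k, M.lowerCentralSeries k ≤ Cfsg.fittingOf M) {s : ℕ} (hs : s.Prime)
    (hsr : s ≠ r) :
    ∃ S R₂ : Subgroup Γ, R₂ ≤ G ∧ G ≤ M ⊔ R₂ ∧
      (∀ u ∈ M, (∃ k, u ^ (s ^ k) = 1) → u ∈ S ⊔ Cfsg.fittingOf M) ∧
      ⁅S, R₂⁆ ≤ Cfsg.fittingOf G := by
  have := Fact.mk hs
  have := Fact.mk hr
  have hGn := hG.normal
  have hFMn := fitOf_normal M
  have hFMG : Cfsg.fittingOf M ≤ Cfsg.fittingOf G := fitOf_mono hMG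
  obtain ⟨P, hAP⟩ := Cfsg.Agent.S0023.result A M ((hG.sub hM hMG).norm_top A) (hG.copA hMG)
    (Or.inl hG.solvA) s
  obtain ⟨S, hSdef⟩ : ∃ S : Subgroup Γ, S = (P : Subgroup ↥M).map M.subtype := ⟨_, rfl⟩
  rw [← hSdef] at hAP
  have hSM : S ≤ M := by rw [hSdef]; exact Subgroup.map_subtype_le _
  have hSp : IsPGroup s S := by rw [hSdef]; exact P.isPGroup'.map _
  obtain ⟨k, hk⟩ := hMnil
  have hMt : Group.IsNilpotent ↥(M.map (QuotientGroup.mk' (Cfsg.fittingOf M))) :=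
    Good.map_nilpotent_of_lcs hk
  have hPsn : (S ⊔ Cfsg.fittingOf M).Normal := by
    rw [hSdef]; exact sylow_sup_normal M (Cfsg.fittingOf M) hMt P
  have hselem : ∀ u ∈ M, (∃ k, u ^ (s ^ k) = 1) → u ∈ S ⊔ Cfsg.fittingOf M := by
    intro u hu hus
    rw [hSdef]
    exact selem_mem_sup P (hSdef ▸ hPsn) hu hus
  have hfr : G ≤ (G ⊓ Subgroup.normalizer (S : Set Γ)) ⊔ M := by
    rw [hSdef]; exact frattini_inf hMG P
  have hAN : A ≤ Subgroup.normalizer
      ((G ⊓ Subgroup.normalizer (S : Set Γ) : Subgroup Γ) : Set Γ) :=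
    normalizer_inf (hG.norm_top A) (hAP.trans Subgroup.le_normalizer)
  obtain ⟨Q, hAQ⟩ := Cfsg.Agent.S0023.result A (G ⊓ Subgroup.normalizer (S : Set Γ)) hAN
    (hG.copA inf_le_left) (Or.inl hG.solvA) r
  obtain ⟨R₂, hRdef⟩ : ∃ R₂ : Subgroup Γ,
      R₂ = (Q : Subgroup ↥(G ⊓ Subgroup.normalizer (S : Set Γ))).map
        (G ⊓ Subgroup.normalizer (S : Set Γ)).subtype := ⟨_, rfl⟩
  rw [← hRdef] at hAQ
  have hRN : R₂ ≤ G ⊓ Subgroup.normalizer (S : Set Γ) := by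
    rw [hRdef]; exact Subgroup.map_subtype_le _
  have hRG : R₂ ≤ G := hRN.trans inf_le_left
  have hRS : R₂ ≤ Subgroup.normalizer (S : Set Γ) := hRN.trans inf_le_right
  have hRp : IsPGroup r R₂ := by rw [hRdef]; exact Q.isPGroup'.map _
  have hNsup : G ⊓ Subgroup.normalizer (S : Set Γ) ≤
      R₂ ⊔ ((G ⊓ Subgroup.normalizer (S : Set Γ)) ⊓ M) := by
    rw [hRdef]
    exact sylow_sup_inf (N := G ⊓ Subgroup.normalizer (S : Set Γ))
      (fun n hn => hpow n (Subgroup.mem_inf.mp hn).1) Q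
  have hGsup : G ≤ M ⊔ R₂ := by
    refine hfr.trans (sup_le (hNsup.trans (sup_le le_sup_right ?_)) le_sup_left)
    exact inf_le_right.trans le_sup_left
  refine ⟨S, R₂, hRG, hGsup, hselem, ?_⟩
  have hcent : ⁅S, R₂⁆ ≤ Subgroup.centralizer ((Qs G s : Subgroup Γ) : Set Γ) := by
    rw [Subgroup.le_centralizer_iff]
    unfold Qs
    apply iSup_le
    intro q
    rw [← Subgroup.le_centralizer_iff]
    exact hG.tower G hG.normal le_rfl q s r q.1.2 hs hr q.2 hsr S R₂ (hSM.trans hMG) hRG hSp hRp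
      hAP hAQ hRS
  have hSRS : ⁅S, R₂⁆ ≤ S := Subgroup.le_normalizer_iff_commutator_le_left.mp hRS
  have hPpow : ∀ x ∈ S ⊔ Cfsg.fittingOf M, ∃ k, x ^ (s ^ k) ∈ Cfsg.fittingOf G := by
    intro x hx
    have hx' : x ∈ ((S ⊔ Cfsg.fittingOf M : Subgroup Γ) : Set Γ) := hx
    rw [Subgroup.mul_normal] at hx'
    obtain ⟨y, hy, f, hf, rfl⟩ := hx'
    obtain ⟨i, hi⟩ := hSp ⟨y, hy⟩
    have hi' : y ^ (s ^ i) = 1 := congrArg Subtype.val hi
    refine ⟨i, hFMG ?_⟩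
    rw [← QuotientGroup.eq_one_iff (N := Cfsg.fittingOf M), QuotientGroup.mk_pow,
      QuotientGroup.mk_mul, (QuotientGroup.eq_one_iff f).mpr hf, mul_one,
      ← QuotientGroup.mk_pow, hi']
    rfl
  have hD := hG.Dprime_le hs (S ⊔ Cfsg.fittingOf M) hPsn
    (sup_le (hSM.trans hMG) ((fitOf_le M).trans hMG)) hPpow
  exact (le_inf (hSRS.trans le_sup_left) hcent).trans hD

end GoodT

theorem comm_bar_of_selem' {G M S R₂ : Subgroup Γ} [hFn : (Cfsg.fittingOf G).Normal]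
    (hMn : M.Normal) (hMG : M ≤ G) {s : ℕ} (hs : s.Prime)
    (hselem : ∀ u ∈ M, (∃ k, u ^ (s ^ k) = 1) → u ∈ S ⊔ Cfsg.fittingOf M)
    (hcomm : ⁅S, R₂⁆ ≤ Cfsg.fittingOf G) {x m : Γ} (hx : x ∈ R₂) (hm : m ∈ M)
    (hms : ∃ k, (QuotientGroup.mk' (Cfsg.fittingOf G) m) ^ (s ^ k) = 1) :
    QuotientGroup.mk' (Cfsg.fittingOf G) x * QuotientGroup.mk' (Cfsg.fittingOf G) m =
      QuotientGroup.mk' (Cfsg.fittingOf G) m * QuotientGroup.mk' (Cfsg.fittingOf G) x := by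
  have hFMn := fitOf_normal M
  have hFMG : Cfsg.fittingOf M ≤ Cfsg.fittingOf G := fitOf_mono hMG
  obtain ⟨k, hk⟩ := hms
  obtain ⟨u, v, hu, hv, huv, ⟨i, hui⟩, hvc⟩ := exists_p_parts s hs m (orderOf_pos m)
  have hzM : Subgroup.zpowers m ≤ M := Subgroup.zpowers_le.mpr hm
  have hv1 : QuotientGroup.mk' (Cfsg.fittingOf G) v = 1 := by
    rw [← orderOf_eq_one_iff]
    have h1 : orderOf (QuotientGroup.mk' (Cfsg.fittingOf G) v) ∣ orderOf v :=
      orderOf_map_dvd _ v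
    have h2 : orderOf (QuotientGroup.mk' (Cfsg.fittingOf G) v) ∣ s ^ k := by
      apply orderOf_dvd_of_pow_eq_one
      obtain ⟨j, rfl⟩ := hv
      rw [map_zpow, ← zpow_natCast, ← zpow_mul, mul_comm, zpow_mul, zpow_natCast, hk, one_zpow]
    have h3 := Nat.dvd_gcd h1 h2
    rw [Nat.Coprime.pow_right k hvc] at h3
    exact Nat.dvd_one.mp h3
  have hmu : QuotientGroup.mk' (Cfsg.fittingOf G) m = QuotientGroup.mk' (Cfsg.fittingOf G) u := by
    conv_lhs => rw [huv]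
    rw [map_mul, hv1, mul_one]
  have huS : u ∈ ((S ⊔ Cfsg.fittingOf M : Subgroup Γ) : Set Γ) := hselem u (hzM hu) ⟨i, hui⟩
  rw [Subgroup.mul_normal] at huS
  obtain ⟨y, hy, f, hf, hyf⟩ := huS
  have huy : QuotientGroup.mk' (Cfsg.fittingOf G) u = QuotientGroup.mk' (Cfsg.fittingOf G) y := by
    rw [← hyf, map_mul, (mk_eq_one_iff' _ f).mpr (hFMG hf), mul_one]
  rw [hmu, huy]
  have h1 : ⁅y, x⁆ ∈ Cfsg.fittingOf G := hcomm (Subgroup.commutator_mem_commutator hy hx)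
  rw [← mk_eq_one_iff', commutatorElement_def, map_mul, map_mul, map_mul, map_inv, map_inv] at h1
  have e : QuotientGroup.mk' (Cfsg.fittingOf G) y * QuotientGroup.mk' (Cfsg.fittingOf G) x =
      (QuotientGroup.mk' (Cfsg.fittingOf G) y * QuotientGroup.mk' (Cfsg.fittingOf G) x *
        (QuotientGroup.mk' (Cfsg.fittingOf G) y)⁻¹ * (QuotientGroup.mk' (Cfsg.fittingOf G) x)⁻¹) *
      (QuotientGroup.mk' (Cfsg.fittingOf G) x * QuotientGroup.mk' (Cfsg.fittingOf G) y) := by group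
  rw [e, h1, one_mul]

theorem metanilT_aux {A : Subgroup Γ} : ∀ n : ℕ, ∀ G : Subgroup Γ, Nat.card G = n →
    GoodT A G → ∃ k, G.lowerCentralSeries k ≤ Cfsg.fittingOf G := by
  intro n
  induction n using Nat.strong_induction_on with
  | _ n ih =>
    intro G hn hG
    by_cases hbot : G = ⊥
    · refine ⟨0, ?_⟩
      rw [Subgroup.lowerCentralSeries_zero, hbot]
      exact bot_le
    have hGs := hG.solv
    have hGnt : Nontrivial ↥G := (Subgroup.nontrivial_iff_ne_bot G).mpr hbot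
    obtain ⟨N, hNn, hNr⟩ := exists_normal_prime_idx (H := ↥G)
    obtain ⟨r, hrdef⟩ : ∃ r : ℕ, r = N.index := ⟨_, rfl⟩
    have hr : r.Prime := hrdef ▸ hNr
    have hMn : (Or G r).Normal := Or_normal hG.normal r
    have hMG : Or G r ≤ G := Or_le G r
    have hMne : Or G r ≠ G := Or_ne hr N hrdef.symm
    have hlt : Nat.card (Or G r) < Nat.card G := card_lt_of_lt'' (lt_of_le_of_ne hMG hMne)
    have hMnil := ih (Nat.card (Or G r)) (hn ▸ hlt) (Or G r) rfl (hG.sub hMn hMG)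
    have hpow : ∀ g ∈ G, ∃ k, g ^ (r ^ k) ∈ Or G r := fun g hg => pow_mem_Or hr hg
    have hGn := hG.normal
    have hFn := fitOf_normal G
    have hX : Group.IsNilpotent ↥(G.map (QuotientGroup.mk' (Cfsg.fittingOf G))) := by
      apply nilpotent_of_rgroup_ext_sub (G.map (QuotientGroup.mk' (Cfsg.fittingOf G)))
        ((Or G r).map (QuotientGroup.mk' (Cfsg.fittingOf G))) (Subgroup.map_mono hMG) _ _ hr
      · rintro _ ⟨g, hg, rfl⟩
        obtain ⟨k, hk⟩ := hpow g hg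
        exact ⟨k, by rw [← map_pow]; exact Subgroup.mem_map_of_mem _ hk⟩
      · intro s hs hsr
        obtain ⟨S, R₂, hRG, hGsup, hselem, hcomm⟩ :=
          hG.per_prime hr hMn hMG hpow hMnil hs hsr
        refine ⟨R₂.map (QuotientGroup.mk' (Cfsg.fittingOf G)), Subgroup.map_mono hRG, ?_, ?_⟩
        · rw [← Subgroup.map_sup]
          exact Subgroup.map_mono hGsup
        · rintro _ ⟨x, hx, rfl⟩ _ ⟨m, hm, rfl⟩ hms
          exact comm_bar_of_selem' hMn hMG hs hselem hcomm hx hm hms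
      · have : ((Or G r).map (QuotientGroup.mk' (Cfsg.fittingOf G))).Normal :=
          Subgroup.Normal.map hMn _ (QuotientGroup.mk'_surjective _)
        rw [Subgroup.normalizer_eq_top]
        exact le_top
      · obtain ⟨k, hk⟩ := hMnil
        exact Good.map_nilpotent_of_lcs (hk.trans (fitOf_mono hMG))
    obtain ⟨k, hk⟩ := (Subgroup.isNilpotent_iff_lowerCentralSeries _).mp hX
    refine ⟨k, ?_⟩
    rw [← Subgroup.map_lowerCentralSeries, Subgroup.map_eq_bot_iff, QuotientGroup.ker_mk'] at hk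
    exact hk

theorem GoodT.metanil {A G : Subgroup Γ} (hG : GoodT A G) :
    ∃ k, G.lowerCentralSeries k ≤ Cfsg.fittingOf G :=
  metanilT_aux _ G rfl hG

theorem commutator_self_le (R : Subgroup Γ) : ⁅R, R⁆ ≤ R :=
  Subgroup.commutator_le.mpr (fun a ha b hb =>
    R.mul_mem (R.mul_mem (R.mul_mem ha hb) (R.inv_mem ha)) (R.inv_mem hb))

theorem GoodT.sylow_comm_le {A G : Subgroup Γ} (hG : GoodT A G) (h2 : Tower2Prop A G)
    [hFn : (Cfsg.fittingOf G).Normal]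
    (hnil : Group.IsNilpotent ↥(G.map (QuotientGroup.mk' (Cfsg.fittingOf G))))
    {r : ℕ} (hr : r.Prime) :
    ∃ R : Subgroup Γ, R ≤ G ∧
      (∀ u ∈ G, (∃ k, u ^ (r ^ k) = 1) → u ∈ R ⊔ Cfsg.fittingOf G) ∧
      ⁅R, R⁆ ≤ Cfsg.fittingOf G := by
  have := Fact.mk hr
  have hGn := hG.normal
  obtain ⟨P, hAP⟩ := Cfsg.Agent.S0023.result A G (hG.norm_top A) hG.cop (Or.inl hG.solvA) r
  obtain ⟨R, hRdef⟩ : ∃ R : Subgroup Γ, R = (P : Subgroup ↥G).map G.subtype := ⟨_, rfl⟩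
  rw [← hRdef] at hAP
  have hRG : R ≤ G := by rw [hRdef]; exact Subgroup.map_subtype_le _
  have hRp : IsPGroup r R := by rw [hRdef]; exact P.isPGroup'.map _
  have hPsn : (R ⊔ Cfsg.fittingOf G).Normal := by
    rw [hRdef]; exact sylow_sup_normal G (Cfsg.fittingOf G) hnil P
  have hselem : ∀ u ∈ G, (∃ k, u ^ (r ^ k) = 1) → u ∈ R ⊔ Cfsg.fittingOf G := by
    intro u hu hus
    rw [hRdef]
    exact selem_mem_sup P (hRdef ▸ hPsn) hu hus
  refine ⟨R, hRG, hselem, ?_⟩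
  have hcent : ⁅R, R⁆ ≤ Subgroup.centralizer ((Qs G r : Subgroup Γ) : Set Γ) := by
    rw [Subgroup.le_centralizer_iff]
    unfold Qs
    apply iSup_le
    intro q
    rw [← Subgroup.le_centralizer_iff]
    exact h2 q r q.1.2 hr q.2 R hRG hRp hAP
  have hPpow : ∀ x ∈ R ⊔ Cfsg.fittingOf G, ∃ k, x ^ (r ^ k) ∈ Cfsg.fittingOf G := by
    intro x hx
    have hx' : x ∈ ((R ⊔ Cfsg.fittingOf G : Subgroup Γ) : Set Γ) := hx
    rw [Subgroup.mul_normal] at hx'
    obtain ⟨y, hy, f, hf, rfl⟩ := hx'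
    obtain ⟨i, hi⟩ := hRp ⟨y, hy⟩
    have hi' : y ^ (r ^ i) = 1 := congrArg Subtype.val hi
    refine ⟨i, ?_⟩
    rw [← QuotientGroup.eq_one_iff (N := Cfsg.fittingOf G), QuotientGroup.mk_pow,
      QuotientGroup.mk_mul, (QuotientGroup.eq_one_iff f).mpr hf, mul_one,
      ← QuotientGroup.mk_pow, hi']
    rfl
  have hD := hG.Dprime_le hr (R ⊔ Cfsg.fittingOf G) hPsn (sup_le hRG (fitOf_le G)) hPpow
  exact (le_inf ((commutator_self_le R).trans le_sup_left) hcent).trans hD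

theorem comm_mem_iff_mem_comap (F : Subgroup Γ) [F.Normal] (x h : Γ) :
    ⁅x, h⁆ ∈ F ↔ x ∈ (Subgroup.centralizer ({QuotientGroup.mk' F h} : Set (Γ ⧸ F))).comap
      (QuotientGroup.mk' F) := by
  rw [Subgroup.mem_comap, Subgroup.mem_centralizer_singleton_iff, ← mk_eq_one_iff',
    commutatorElement_def, map_mul, map_mul, map_mul, map_inv, map_inv]
  constructor
  · intro h1
    have e : QuotientGroup.mk' F x * QuotientGroup.mk' F h =
        (QuotientGroup.mk' F x * QuotientGroup.mk' F h * (QuotientGroup.mk' F x)⁻¹ *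
          (QuotientGroup.mk' F h)⁻¹) * (QuotientGroup.mk' F h * QuotientGroup.mk' F x) := by group
    rw [e, h1, one_mul]
  · intro h1
    rw [h1]; group

theorem GoodT.derived_le_fit {A G : Subgroup Γ} (hG : GoodT A G) (h2 : Tower2Prop A G) :
    ⁅G, G⁆ ≤ Cfsg.fittingOf G := by
  have hGn := hG.normal
  have hFn := fitOf_normal G
  obtain ⟨k, hk⟩ := hG.metanil
  have hnil : Group.IsNilpotent ↥(G.map (QuotientGroup.mk' (Cfsg.fittingOf G))) :=
    Good.map_nilpotent_of_lcs hk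
  have key : ∀ p q : ℕ, p.Prime → q.Prime → ∀ g ∈ G, ∀ h ∈ G, (∃ k, g ^ (p ^ k) = 1) →
      (∃ k, h ^ (q ^ k) = 1) → ⁅g, h⁆ ∈ Cfsg.fittingOf G := by
    intro p q hp hq g hg h hh ⟨i, hi⟩ ⟨j, hj⟩
    by_cases hpq : p = q
    · subst hpq
      obtain ⟨R, hRG, hselem, hRR⟩ := hG.sylow_comm_le h2 hnil hp
      have hg' : g ∈ ((R ⊔ Cfsg.fittingOf G : Subgroup Γ) : Set Γ) := hselem g hg ⟨i, hi⟩
      have hh' : h ∈ ((R ⊔ Cfsg.fittingOf G : Subgroup Γ) : Set Γ) := hselem h hh ⟨j, hj⟩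
      rw [Subgroup.mul_normal] at hg' hh'
      obtain ⟨y₁, hy₁, f₁, hf₁, rfl⟩ := hg'
      obtain ⟨y₂, hy₂, f₂, hf₂, rfl⟩ := hh'
      have h1 : ⁅y₁, y₂⁆ ∈ Cfsg.fittingOf G := hRR (Subgroup.commutator_mem_commutator hy₁ hy₂)
      rw [← mk_eq_one_iff', commutatorElement_def, map_mul, map_mul, map_mul, map_inv, map_inv]
        at h1 ⊢
      rw [map_mul, map_mul, (mk_eq_one_iff' _ f₁).mpr hf₁, (mk_eq_one_iff' _ f₂).mpr hf₂, mul_one,
        mul_one]
      exact h1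
    · have hgm : QuotientGroup.mk' (Cfsg.fittingOf G) g ∈
          G.map (QuotientGroup.mk' (Cfsg.fittingOf G)) := Subgroup.mem_map_of_mem _ hg
      have hhm : QuotientGroup.mk' (Cfsg.fittingOf G) h ∈
          G.map (QuotientGroup.mk' (Cfsg.fittingOf G)) := Subgroup.mem_map_of_mem _ hh
      have hcop : (orderOf (⟨_, hgm⟩ : ↥(G.map (QuotientGroup.mk' (Cfsg.fittingOf G))))).Coprime
          (orderOf (⟨_, hhm⟩ : ↥(G.map (QuotientGroup.mk' (Cfsg.fittingOf G))))) := by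
        rw [Subgroup.orderOf_mk, Subgroup.orderOf_mk]
        have h1 : orderOf (QuotientGroup.mk' (Cfsg.fittingOf G) g) ∣ p ^ i :=
          (orderOf_map_dvd _ g).trans (orderOf_dvd_of_pow_eq_one hi)
        have h3 : orderOf (QuotientGroup.mk' (Cfsg.fittingOf G) h) ∣ q ^ j :=
          (orderOf_map_dvd _ h).trans (orderOf_dvd_of_pow_eq_one hj)
        exact Nat.Coprime.coprime_dvd_left h1 (Nat.Coprime.coprime_dvd_right h3
          (Nat.Coprime.pow i j ((Nat.coprime_primes hp hq).mpr hpq)))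
      have hc := commute_of_coprime_orderOf _ _ hcop
      have hc' : QuotientGroup.mk' (Cfsg.fittingOf G) g * QuotientGroup.mk' (Cfsg.fittingOf G) h =
          QuotientGroup.mk' (Cfsg.fittingOf G) h * QuotientGroup.mk' (Cfsg.fittingOf G) g :=
        congrArg Subtype.val hc.eq
      rw [← mk_eq_one_iff', commutatorElement_def, map_mul, map_mul, map_mul, map_inv, map_inv,
        hc']
      group
  rw [Subgroup.commutator_le]
  intro g hg h hh
  -- first reduce `h` (for fixed prime-power `g'`), then `g`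
  have step1 : ∀ p : ℕ, p.Prime → ∀ g' ∈ G, (∃ k, g' ^ (p ^ k) = 1) →
      ⁅g', h⁆ ∈ Cfsg.fittingOf G := by
    intro p hp g' hg' hgp
    have hsymm : ⁅h, g'⁆ ∈ Cfsg.fittingOf G := by
      rw [comm_mem_iff_mem_comap]
      apply mem_of_prime_parts _ (orderOf h) h rfl (orderOf_pos h)
      intro h' hh' q hq _ hq'
      rw [← comm_mem_iff_mem_comap]
      have hh'G : h' ∈ G := (Subgroup.zpowers_le.mpr hh) hh'
      have := key p q hp hq g' hg' h' hh'G hgp hq'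
      rw [← commutatorElement_inv]
      exact (Cfsg.fittingOf G).inv_mem this
    rw [← commutatorElement_inv]
    exact (Cfsg.fittingOf G).inv_mem hsymm
  rw [comm_mem_iff_mem_comap]
  apply mem_of_prime_parts _ (orderOf g) g rfl (orderOf_pos g)
  intro g' hg' p hp _ hp'
  rw [← comm_mem_iff_mem_comap]
  exact step1 p hp g' ((Subgroup.zpowers_le.mpr hg) hg') hp'

end Cfsg.Agent.Lib.Helper11.FrobTower
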