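import Cfsg.Agent.Lib.Helper28.Ld.Defs

/-!
# Project Ld (S5634, helper28): piece STAB

Entrywise description of the stabiliser `Hs` of the standard block decomposition of
`F^(Fin t × Fin m)`; block roots; `H0 < SL`.  Statements verbatim from
`Cfsg/Agent/Lib/Helper28/Ld/Skeleton.lean.txt`.
-/

set_option autoImplicit false

namespace Cfsg.Agent.Lib.Helper11.Ld

open Matrix Cfsg.Agent.Lib.Helper28.Ld

section general

variable {ι : Type} [Fintype ι] [DecidableEq ι] {F : Type*} [Field F]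

theorem stab_toLin_inj (g : Matrix.GeneralLinearGroup ι F) :
    Function.Injective (Matrix.toLin' (g : Matrix ι ι F)) := by
  intro x y h
  have h2 := congrArg (fun z => ((g⁻¹ : Matrix.GeneralLinearGroup ι F) : Matrix ι ι F) *ᵥ z) h
  simp only [Matrix.toLin'_apply, Matrix.mulVec_mulVec, ← Units.val_mul, inv_mul_cancel,
    Units.val_one, Matrix.one_mulVec] at h2
  exact h2

theorem stab_gl_ext (g1 g2 : Matrix.GeneralLinearGroup ι F)
    (h : ∀ x, (g1 : Matrix ι ι F) *ᵥ x = (g2 : Matrix ι ι F) *ᵥ x) : g1 = g2 := by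
  apply Units.ext
  apply Matrix.toLin'.injective
  apply LinearMap.ext
  intro x
  rw [Matrix.toLin'_apply, Matrix.toLin'_apply]
  exact h x

theorem stab_exists_tv (v r : ι → F) (h : r ⬝ᵥ v = 0) :
    ∃ g : Matrix.GeneralLinearGroup ι F, IsTv g v r ∧ (g : Matrix ι ι F).det = 1 := by
  have hdet : (1 + Matrix.vecMulVec v r : Matrix ι ι F).det = 1 := by
    have h1 : (Matrix.vecMulVec v r : Matrix ι ι F)
        = Matrix.replicateCol Unit v * Matrix.replicateRow Unit r := by
      ext i j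
      simp [Matrix.vecMulVec_apply, Matrix.mul_apply]
    rw [h1, Matrix.det_one_add_replicateCol_mul_replicateRow, h, add_zero]
  refine ⟨Matrix.GeneralLinearGroup.mk'' (1 + Matrix.vecMulVec v r) (by rw [hdet]; exact isUnit_one),
    ?_, hdet⟩
  intro x
  change (1 + Matrix.vecMulVec v r : Matrix ι ι F) *ᵥ x = _
  rw [Matrix.add_mulVec, Matrix.one_mulVec, Matrix.vecMulVec_mulVec]
  congr 1
  funext i
  simp [mul_comm]

theorem stab_mem_SL (g : Matrix.GeneralLinearGroup ι F) (h : (g : Matrix ι ι F).det = 1) :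
    g ∈ Cfsg.Geo.specialLinear ι F := by
  unfold Cfsg.Geo.specialLinear
  rw [MonoidHom.mem_ker]
  apply Units.ext
  rw [Matrix.GeneralLinearGroup.val_det_apply, h, Units.val_one]

theorem stab_det_of_mem_SL (g : Matrix.GeneralLinearGroup ι F)
    (h : g ∈ Cfsg.Geo.specialLinear ι F) : (g : Matrix ι ι F).det = 1 := by
  unfold Cfsg.Geo.specialLinear at h
  rw [MonoidHom.mem_ker] at h
  have := congrArg Units.val h
  rwa [Matrix.GeneralLinearGroup.val_det_apply, Units.val_one] at this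

end general

section blocks

variable {t m : ℕ} {F : Type*} [Field F]

/-- the `i`-th block is `F^m`. -/
def blkEquiv (i : Fin t) : stdBlock t m F i ≃ₗ[F] (Fin m → F) where
  toFun x := fun j => (x : Fin t × Fin m → F) (i, j)
  map_add' x y := by
    ext j
    rfl
  map_smul' c x := by
    ext j
    rfl
  invFun y := ⟨fun p => if p.1 = i then y p.2 else 0, fun p hp => by simp [hp]⟩
  left_inv x := by
    apply Subtype.ext
    funext p
    by_cases hp : p.1 = i
    · subst hp
      simp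
    · simp only [hp, if_false]
      exact (x.2 p hp).symm
  right_inv y := by
    funext j
    simp

theorem finrank_stdBlock (i : Fin t) : Module.finrank F (stdBlock t m F i) = m := by
  rw [(blkEquiv (F := F) (m := m) i).finrank_eq, Module.finrank_fin_fun]

theorem mem_Hs_of_maps (g : Matrix.GeneralLinearGroup (Fin t × Fin m) F) (σ : Equiv.Perm (Fin t))
    (h : ∀ (i : Fin t) (x : Fin t × Fin m → F), InBlk i x →
      InBlk (σ i) ((g : Matrix (Fin t × Fin m) (Fin t × Fin m) F) *ᵥ x)) : g ∈ Hs t m F := by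
  refine ⟨σ, fun i => ?_⟩
  apply Submodule.eq_of_le_of_finrank_eq
  · rintro _ ⟨x, hx, rfl⟩
    rw [Matrix.toLin'_apply]
    exact h i x hx
  · rw [finrank_stdBlock,
      ← (Submodule.equivMapOfInjective _ (stab_toLin_inj g) (stdBlock t m F i)).finrank_eq,
      finrank_stdBlock]

theorem maps_of_mem_Hs (g : Matrix.GeneralLinearGroup (Fin t × Fin m) F) (hg : g ∈ Hs t m F) :
    ∃ σ : Equiv.Perm (Fin t), ∀ (i : Fin t) (x : Fin t × Fin m → F), InBlk i x →
      InBlk (σ i) ((g : Matrix (Fin t × Fin m) (Fin t × Fin m) F) *ᵥ x) := by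
  obtain ⟨σ, hσ⟩ := hg
  refine ⟨σ, fun i x hx => ?_⟩
  have : (g : Matrix (Fin t × Fin m) (Fin t × Fin m) F) *ᵥ x ∈ stdBlock t m F (σ i) := by
    rw [← hσ i]
    exact ⟨x, hx, by rw [Matrix.toLin'_apply]⟩
  exact this

theorem mem_Hs_of_entries (g : Matrix.GeneralLinearGroup (Fin t × Fin m) F)
    (σ : Equiv.Perm (Fin t))
    (h : ∀ p q : Fin t × Fin m, (g : Matrix (Fin t × Fin m) (Fin t × Fin m) F) p q ≠ 0 →
      p.1 = σ q.1) : g ∈ Hs t m F := by
  apply mem_Hs_of_maps g σ
  intro i x hx p hp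
  rw [Matrix.mulVec, dotProduct]
  apply Finset.sum_eq_zero
  intro q _
  by_cases hg : (g : Matrix (Fin t × Fin m) (Fin t × Fin m) F) p q = 0
  · rw [hg, zero_mul]
  · have h1 := h p q hg
    have h2 : q.1 ≠ i := by
      intro hq
      apply hp
      rw [h1, hq]
    rw [hx q h2, mul_zero]

theorem dot_eq_zero_of_blk {i j : Fin t} (hij : j ≠ i) (r x : Fin t × Fin m → F)
    (hr : InBlk i r) (hx : InBlk j x) : r ⬝ᵥ x = 0 := by
  rw [dotProduct]
  apply Finset.sum_eq_zero
  intro p _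
  by_cases hp : p.1 = i
  · have : p.1 ≠ j := by
      rw [hp]
      exact fun h => hij h.symm
    rw [hx p this, mul_zero]
  · rw [hr p hp, zero_mul]

/-- block roots. -/
theorem block_root (M : Subgroup (Matrix.GeneralLinearGroup (Fin t × Fin m) F))
    (hHM : H0 t m F ≤ M) (i : Fin t) (v r : Fin t × Fin m → F)
    (hv : InBlk i v) (hr : InBlk i r) (hrv : r ⬝ᵥ v = 0) : T M v r := by
  refine ⟨hrv, fun c g hg => ?_⟩
  apply hHM
  refine Subgroup.mem_inf.mpr ⟨?_, ?_⟩
  · apply mem_Hs_of_maps g 1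
    intro j x hx
    rw [hg x, Equiv.Perm.one_apply]
    by_cases hji : j = i
    · subst hji
      intro p hp
      rw [Pi.add_apply, Pi.smul_apply, Pi.smul_apply, hx p hp, hv p hp]
      simp
    · rw [dot_eq_zero_of_blk hji r x hr hx, zero_smul, add_zero]
      exact hx
  · have h0 : r ⬝ᵥ (c • v) = 0 := by
      rw [dotProduct_smul, hrv, smul_zero]
    obtain ⟨g0, hg0, hdet⟩ := stab_exists_tv (c • v) r h0
    have : g = g0 := stab_gl_ext g g0 (fun x => (hg x).trans (hg0 x).symm)
    rw [this]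
    exact stab_mem_SL g0 hdet

/-- `H0` is a proper subgroup of `SL`. -/
theorem H0_lt_SL (ht : 2 ≤ t) (hm : 1 ≤ m) :
    H0 t m F < Cfsg.Geo.specialLinear (Fin t × Fin m) F := by
  rw [SetLike.lt_iff_le_and_exists]
  refine ⟨inf_le_right, ?_⟩
  let p : Fin t × Fin m := (⟨0, by omega⟩, ⟨0, by omega⟩)
  let q : Fin t × Fin m := (⟨1, by omega⟩, ⟨0, by omega⟩)
  have hpq1 : p.1 ≠ q.1 := by
    intro h
    have := congrArg Fin.val h
    simp [p, q] at this
  have hpq : p ≠ q := fun h => hpq1 (by rw [h])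
  have h0 : (ee q : Fin t × Fin m → F) ⬝ᵥ (ee p) = 0 := by
    simp [ee, hpq]
  obtain ⟨g, hg, hdet⟩ := stab_exists_tv (ee p : Fin t × Fin m → F) (ee q) h0
  refine ⟨g, stab_mem_SL g hdet, ?_⟩
  intro hgH
  obtain ⟨σ, hσ⟩ := maps_of_mem_Hs g (Subgroup.mem_inf.mp hgH).1
  have hq : InBlk q.1 (ee q : Fin t × Fin m → F) := by
    intro a ha
    have : a ≠ q := fun h => ha (by rw [h])
    simp [ee, this]
  have h1 := hσ q.1 (ee q) hq
  rw [hg (ee q)] at h1
  have hqq : (ee q : Fin t × Fin m → F) ⬝ᵥ (ee q) = 1 := by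
    simp [ee]
  rw [hqq, one_smul] at h1
  -- the vector e_q + e_p has nonzero entries at q and p, in different blocks
  have hAq : ((ee q + ee p : Fin t × Fin m → F)) q ≠ 0 := by
    simp [ee, hpq.symm]
  have hAp : ((ee q + ee p : Fin t × Fin m → F)) p ≠ 0 := by
    simp [ee, hpq]
  have e1 : q.1 = σ q.1 := by
    by_contra hne
    exact hAq (h1 q hne)
  have e2 : p.1 = σ q.1 := by
    by_contra hne
    exact hAp (h1 p hne)
  exact hpq1 (e2.trans e1.symm)

end blocks

end Cfsg.Agent.Lib.Helper11.Ld
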