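import Mathlib
import Cfsg.Prelude.Def_Classical

set_option autoImplicit false

namespace Cfsg.Agent.Lib.Helper1.MEO

open Matrix

/-- MEO-O3 : elements of `Ω(Q)` (commutator subgroup) have determinant one. -/
theorem det_eq_one_of_mem_omega {ι : Type} [Fintype ι] [DecidableEq ι] {F : Type*} [Field F]
    (Q : (ι → F) → F) (g : Cfsg.isometryGroup F Q) (hg : g ∈ Cfsg.Omega F Q) :
    ((g : Matrix.GeneralLinearGroup ι F) : Matrix ι ι F).det = 1 := by
  have hker : commutator (Cfsg.isometryGroup F Q) ≤
      (Matrix.GeneralLinearGroup.det.comp (Cfsg.isometryGroup F Q).subtype).ker :=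
    Abelianization.commutator_subset_ker _
  have h1 := hker hg
  rw [MonoidHom.mem_ker] at h1
  have h2 : Matrix.GeneralLinearGroup.det (g : Matrix.GeneralLinearGroup ι F) = 1 := h1
  have h3 := congrArg (fun u : Fˣ => (u : F)) h2
  simpa [Matrix.GeneralLinearGroup.val_det_apply] using h3

end Cfsg.Agent.Lib.Helper1.MEO
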