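import Mathlib
import Cfsg.Prelude.Def_GeometricClasses
import Cfsg.Agent.Lib.Helper27.ASC.Defs
import Cfsg.Agent.Lib.helper23.ASCO.Defs
import Cfsg.Agent.Lib.Helper19.ASG.Defs
import Cfsg.Agent.Lib.Helper1.ASGCLIF3
import Cfsg.Agent.Lib.Helper25.ASO.Defs
import Cfsg.Agent.Lib.helper23.ASE.Defs

set_option autoImplicit false
set_option linter.unusedVariables false
set_option linter.unusedSectionVars false

/-!
# Project ASE (S5826), pieces SIMIL + PLANESIM : a non-degenerate subspace of even dimension has similitudes with every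
multiplier (verbatim `exists_similitude`, `plane_similitude`).

`2 = 0` : every element of a finite field of characteristic 2 is a square, so a scalar works (no hypothesis on `W` needed).
`2 ≠ 0` : an orthogonal basis of `W` (`LinearMap.BilinForm.exists_orthogonal_basis`), grouped in pairs `(e, e')`, `a = Q e`,
`γ = Q e'` (non-zero by non-degeneracy); `a s² + γ t² = a c` has a solution (`FiniteField.exists_root_sum_quadratic`), and
`e ↦ s e + t e'`, `e' ↦ -(γ/a) t e + s e'` multiplies `a x² + γ y²` by `c`.  PLANESIM is the case `finrank = 2` of SIMIL.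
-/

namespace Cfsg.Agent.Lib.helper23.ASE

open Cfsg Cfsg.Geo Cfsg.Agent.Lib.Helper27.ASC Cfsg.Agent.Lib.helper23.ASCO Cfsg.Agent.Lib.Helper19.ASG
  Cfsg.Agent.Lib.Helper25.ASO
open scoped MatrixGroups Matrix Kronecker

variable {n : ℕ} {F : Type*} [Field F] [Fintype F]

open Polynomial in
/-- a binary diagonal form over a finite field of odd characteristic represents everything -/
theorem asesimil_repr (h2 : (2 : F) ≠ 0) (a γ : F) (ha : a ≠ 0) (hγ : γ ≠ 0) (c : F) :
    ∃ s t : F, a * s ^ 2 + γ * t ^ 2 = a * c := by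
  classical
  have hch : ringChar F ≠ 2 := by
    intro h
    apply h2
    have := CharP.cast_eq_zero F (ringChar F)
    rw [h] at this
    exact_mod_cast this
  have hF : Fintype.card F % 2 = 1 := FiniteField.odd_card_of_char_ne_two hch
  have hf : (C a * X ^ 2 : F[X]).degree = 2 := by
    rw [Polynomial.degree_C_mul_X_pow 2 ha]; rfl
  have hg : (C γ * X ^ 2 - C (a * c) : F[X]).degree = 2 := by
    rw [Polynomial.degree_sub_eq_left_of_degree_lt]
    · rw [Polynomial.degree_C_mul_X_pow 2 hγ]; rfl
    · rw [Polynomial.degree_C_mul_X_pow 2 hγ]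
      exact lt_of_le_of_lt Polynomial.degree_C_le (by norm_num)
  obtain ⟨s, t, h⟩ := FiniteField.exists_root_sum_quadratic hf hg hF
  refine ⟨s, t, ?_⟩
  simp only [eval_mul, eval_C, eval_pow, eval_X, eval_sub] at h
  linear_combination h

/-- characteristic 2: a scalar similitude -/
theorem asesimil_char2 {M : Type*} [AddCommGroup M] [Module F M] (h2 : (2 : F) = 0) (q : QuadraticForm F M)
    (c : F) (hc : c ≠ 0) : ∃ g : M ≃ₗ[F] M, ∀ w : M, q (g w) = c * q w := by
  have hch : ringChar F = 2 := CharP.ringChar_of_prime_eq_zero Nat.prime_two (by exact_mod_cast h2)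
  obtain ⟨r, hr⟩ := FiniteField.isSquare_of_char_two hch c
  have hr0 : r ≠ 0 := by
    rintro rfl
    rw [mul_zero] at hr
    exact hc hr
  refine ⟨LinearEquiv.smulOfNeZero F M r hr0, fun w => ?_⟩
  rw [LinearEquiv.smulOfNeZero_apply, QuadraticMap.map_smul, hr, smul_eq_mul]

open Module in
/-- odd characteristic: an abstract non-degenerate quadratic space of even dimension has similitudes with every multiplier -/
theorem asesimil_odd {M : Type*} [AddCommGroup M] [Module F M] [FiniteDimensional F M]
    (h2 : (2 : F) ≠ 0) (q : QuadraticForm F M)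
    (hnd : ∀ w : M, w ≠ 0 → ∃ x : M, QuadraticMap.polar q x w ≠ 0)
    (hev : Even (Module.finrank F M)) (c : F) (hc : c ≠ 0) :
    ∃ g : M ≃ₗ[F] M, ∀ w : M, q (g w) = c * q w := by
  classical
  have : Invertible (2 : F) := invertibleOfNonzero h2
  obtain ⟨v, hv⟩ := LinearMap.BilinForm.exists_orthogonal_basis (B := QuadraticMap.associated (R := F) q)
    (QuadraticForm.associated_isSymm F q)
  obtain ⟨r, hr⟩ := hev
  have hr2 : Module.finrank F M = r * 2 := by omega
  let e : Fin (Module.finrank F M) ≃ Fin r × Fin 2 := (finCongr hr2).trans finProdFinEquiv.symm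
  let v' : Basis (Fin r × Fin 2) F M := v.reindex e
  have hv' : (QuadraticMap.associated (R := F) q).IsOrthoᵢ v' := by
    intro p p' hpp'
    show (QuadraticMap.associated (R := F) q) (v' p) (v' p') = 0
    rw [Basis.reindex_apply, Basis.reindex_apply]
    exact hv (fun h => hpp' (e.symm.injective h))
  -- the diagonal formula
  have hdiag : ∀ z : Fin r × Fin 2 → F, q (∑ p, z p • v' p) = ∑ p, q (v' p) * (z p * z p) := by
    intro z
    have h1 := QuadraticMap.basisRepr_eq_of_iIsOrtho q v' hv'
    have h3 := congrArg (fun Q' : QuadraticMap F (Fin r × Fin 2 → F) F => Q' z) h1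
    simp only [QuadraticMap.basisRepr_apply, QuadraticMap.weightedSumSquares_apply, smul_eq_mul] at h3
    exact h3
  -- the basis vectors are non-singular
  have hQne : ∀ p, q (v' p) ≠ 0 := by
    intro p hp
    obtain ⟨x, hx⟩ := hnd (v' p) (v'.ne_zero p)
    apply hx
    have hzero : (QuadraticMap.polarBilin q).flip (v' p) = 0 := by
      apply v'.ext
      intro p'
      rw [LinearMap.flip_apply, LinearMap.zero_apply, QuadraticMap.polarBilin_apply_apply]
      by_cases hpp' : p' = p
      · rw [hpp', QuadraticMap.polar_self, hp, smul_zero]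
      · have := hv' hpp'
        have h4 : QuadraticMap.polar q (v' p') (v' p) = 2 • (QuadraticMap.associated (R := F) q) (v' p') (v' p) := by
          rw [← QuadraticMap.polarBilin_apply_apply, ← QuadraticMap.two_nsmul_associated F q]
          rfl
        rw [h4]
        have h5 : (QuadraticMap.associated (R := F) q) (v' p') (v' p) = 0 := this
        rw [h5, smul_zero]
    have := congrArg (fun φ : M →ₗ[F] F => φ x) hzero
    simpa [LinearMap.flip_apply] using this
  -- the parameters of the similitude on each plane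
  choose s t hst using fun j : Fin r =>
    asesimil_repr h2 (q (v' (j, 0))) (q (v' (j, 1))) (hQne _) (hQne _) c
  -- the coordinates of the image
  let y : (Fin r × Fin 2 → F) → Fin r × Fin 2 → F := fun x p =>
    ![s p.1 * x (p.1, 0) - q (v' (p.1, 1)) / q (v' (p.1, 0)) * t p.1 * x (p.1, 1),
      t p.1 * x (p.1, 0) + s p.1 * x (p.1, 1)] p.2
  let L : M →ₗ[F] M := v'.constr F (fun p : Fin r × Fin 2 =>
    ![s p.1 • v' (p.1, 0) + t p.1 • v' (p.1, 1),
      (-(q (v' (p.1, 1)) / q (v' (p.1, 0)) * t p.1)) • v' (p.1, 0) + s p.1 • v' (p.1, 1)] p.2)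
  have hL : ∀ x : Fin r × Fin 2 → F, L (∑ p, x p • v' p) = ∑ p, y x p • v' p := by
    intro x
    rw [map_sum]
    simp only [map_smul, L, Basis.constr_basis]
    rw [Fintype.sum_prod_type, Fintype.sum_prod_type]
    apply Finset.sum_congr rfl
    intro j _
    rw [Fin.sum_univ_two, Fin.sum_univ_two]
    simp only [y, Matrix.cons_val_zero, Matrix.cons_val_one]
    module
  have hqL : ∀ w : M, q (L w) = c * q w := by
    intro w
    have hw : w = ∑ p, v'.repr w p • v' p := (v'.sum_repr w).symm
    set x : Fin r × Fin 2 → F := fun p => v'.repr w p with hx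
    have hw' : w = ∑ p, x p • v' p := hw
    rw [hw', hL x, hdiag, hdiag, Fintype.sum_prod_type, Fintype.sum_prod_type, Finset.mul_sum]
    apply Finset.sum_congr rfl
    intro j _
    rw [Fin.sum_univ_two, Fin.sum_univ_two]
    simp only [y, Matrix.cons_val_zero, Matrix.cons_val_one]
    have ha := hQne (j, 0)
    have h1 := hst j
    field_simp
    linear_combination (q (v' (j, 0)) * x (j, 0) ^ 2 + q (v' (j, 1)) * x (j, 1) ^ 2) * h1
  have hinj : Function.Injective L := by
    rw [injective_iff_map_eq_zero]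
    intro w hw
    by_contra hw0
    obtain ⟨x, hx⟩ := hnd w hw0
    apply hx
    have h1 : QuadraticMap.polar q (L x) (L w) = c * QuadraticMap.polar q x w := by
      unfold QuadraticMap.polar
      rw [← map_add, hqL, hqL, hqL]
      ring
    rw [hw, QuadraticMap.polar_zero_right] at h1
    rcases mul_eq_zero.mp h1.symm with h | h
    · exact absurd h hc
    · exact h
  refine ⟨LinearEquiv.ofInjectiveEndo L hinj, fun w => ?_⟩
  rw [LinearEquiv.coe_ofInjectiveEndo]
  exact hqL w

/-- SIMIL : a non-degenerate subspace of even dimension has similitudes with every multiplier.  (Induction on the dimension: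
split off a non-degenerate plane `P ≤ W` (`2 = 0`: any `x, y ∈ W` with `f x y ≠ 0`; `2 ≠ 0`: `x` with `Q x ≠ 0` and `y ∈ W`,
`f x y = 0`, `Q y ≠ 0`), `W = P ⊕ (P^⊥ ⊓ W)` orthogonal, glue PLANESIM on `P` with the induction hypothesis.) -/
theorem exists_similitude (Q : QuadraticForm F (Fin n → F)) (W : Submodule F (Fin n → F))
    (hW : IsNondegenerateOn (QuadraticMap.polar (⇑Q)) W) (hev : Even (Module.finrank F W)) (c : F) (hc : c ≠ 0) :
    ∃ g : W ≃ₗ[F] W, ∀ w : W, Q ((g w : W) : Fin n → F) = c * Q (w : Fin n → F) := by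
  by_cases h2 : (2 : F) = 0
  · obtain ⟨g, hg⟩ := asesimil_char2 (M := W) h2 (Q.comp W.subtype) c hc
    exact ⟨g, fun w => by simpa using hg w⟩
  · have hnd : ∀ w : W, w ≠ 0 → ∃ x : W, QuadraticMap.polar (Q.comp W.subtype) x w ≠ 0 := by
      intro w hw
      have hw' : (w : Fin n → F) ≠ 0 := fun h => hw (Subtype.ext h)
      obtain ⟨⟨x, hx, hxw⟩, _⟩ := hW (w : Fin n → F) w.2 hw'
      refine ⟨⟨x, hx⟩, ?_⟩
      have : QuadraticMap.polar (Q.comp W.subtype) (⟨x, hx⟩ : W) w = QuadraticMap.polar (⇑Q) x (w : Fin n → F) := by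
        simp [QuadraticMap.polar]
      rw [this]
      exact hxw
    obtain ⟨g, hg⟩ := asesimil_odd (M := W) h2 (Q.comp W.subtype) hnd hev c hc
    exact ⟨g, fun w => by simpa using hg w⟩

/-- PLANESIM : a non-degenerate plane has similitudes with every multiplier.  (Basis `e₁ e₂` of `W`, `Q (x e₁ + y e₂) =
a x² + b x y + c y²`, `a ≠ 0` after a change of basis (if `Q e₁ = Q e₂ = 0` then `b ≠ 0` and `(x, y) ↦ (c₀ x, y)` works);
`L (s, t) = !![s, -(c/a) t; t, s + (b/a) t]` (multiplication by `s + t θ`, `a θ² - b θ + c = 0`) satisfies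
`Q (L (s,t) w) = (Q (s e₁ + t e₂) / a) Q w` (`ring`), and `Q` restricted to `W` represents every element `a c₀`: `|F|` odd: the
two sets `{a s²}` and `{a c₀ - (c - b²/(4a)) t²}` have `(|F|+1)/2` elements each (`FiniteField.exists_root_sum_quadratic`);
`|F|` even: `s ↦ a s²` is onto.) -/
theorem plane_similitude (Q : QuadraticForm F (Fin n → F)) (W : Submodule F (Fin n → F))
    (hW : IsNondegenerateOn (QuadraticMap.polar (⇑Q)) W) (hd : Module.finrank F W = 2) (c : F) (hc : c ≠ 0) :
    ∃ g : W ≃ₗ[F] W, ∀ w : W, Q ((g w : W) : Fin n → F) = c * Q (w : Fin n → F) :=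
  exists_similitude Q W hW (by rw [hd]; exact even_two) c hc

end Cfsg.Agent.Lib.helper23.ASE
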