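import Mathlib
import Cfsg.Agent.Lib.Helper1.OMO.Defs
import Cfsg.Agent.Lib.Helper10.OPHPARITY

set_option autoImplicit false
set_option linter.unusedVariables false
set_option linter.unusedSectionVars false

/-! Project OMO (S5994 + S5995), row PARITYW (helper11): generic `oph_parity_sub`. -/

namespace Cfsg.Agent.Lib.Helper1.OMO

open Module Cfsg.Agent.Lib.helper14.JTa Cfsg.Agent.Lib.Helper9.OPH

variable {F : Type*} [Field F] {ι : Type} [Fintype ι] [DecidableEq ι]

theorem omo_parity_sub (h2 : (2 : F) ≠ 0) (Q : QuadraticForm F (ι → F)) (x : Matrix ι ι F)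
    (hx : ∀ v, Q (x.mulVec v) = Q v) (W : Submodule F (ι → F))
    (hW : Cfsg.Geo.IsNondegenerateOn (QuadraticMap.polar (⇑Q)) W)
    (hN : ∀ v ∈ W, (Matrix.toLin' x - 1) v ∈ W) (K : ℕ) (hK : (x - 1) ^ K = 0) (k : ℕ) (hk : Odd k) :
    Even (finrank F W + dk ((Matrix.toLin' x - 1).restrict hN) k) := by
  classical
  have hxW : ∀ v ∈ W, Matrix.toLin' x v ∈ W := by
    intro v hv
    have h1 := W.add_mem (hN v hv) hv
    rw [LinearMap.sub_apply, Module.End.one_apply, sub_add_cancel] at h1
    exact h1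
  let B' : LinearMap.BilinForm F ↥W :=
    LinearMap.BilinForm.restrict (QuadraticMap.polarBilin Q) W
  have hB' : ∀ u v : ↥W, B' u v = QuadraticMap.polar (⇑Q) (u : ι → F) v := fun u v => rfl
  have hsym : ∀ u v, B' u v = B' v u := by
    intro u v
    rw [hB', hB', QuadraticMap.polar_comm]
  have hnd : ∀ u, (∀ v, B' u v = 0) → u = 0 := by
    intro u hu
    by_contra hne
    have hne' : (u : ι → F) ≠ 0 := fun h => hne (Subtype.ext h)
    obtain ⟨-, w, hwW, hw⟩ := hW u u.2 hne'
    exact hw (hu ⟨w, hwW⟩)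
  let y : Module.End F ↥W := (Matrix.toLin' x).restrict hxW
  have hyv : ∀ u : ↥W, ((y u : ↥W) : ι → F) = x.mulVec u := fun u => rfl
  have hy : ∀ u v, B' (y u) (y v) = B' u v := by
    intro u v
    rw [hB', hB', hyv, hyv]
    unfold QuadraticMap.polar
    rw [← Matrix.mulVec_add, hx, hx, hx]
  have hy1 : y - 1 = (Matrix.toLin' x - 1).restrict hN := by
    apply LinearMap.ext
    intro u
    apply Subtype.ext
    rfl
  have hK' : (y - 1) ^ K = 0 := by
    rw [hy1, Module.End.pow_restrict K hN]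
    apply LinearMap.ext
    intro u
    apply Subtype.ext
    rw [LinearMap.coe_restrict_apply]
    have h3 : (Matrix.toLin' x - 1) ^ K = Matrix.toLin' ((x - 1) ^ K) := by
      rw [Matrix.toLin'_pow, map_sub, Matrix.toLin'_one]
      rfl
    rw [h3, hK, map_zero]
    rfl
  have := oph_parity h2 B' hsym hnd y hy K hK' k hk
  rw [hy1] at this
  exact this

end Cfsg.Agent.Lib.Helper1.OMO
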