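import Mathlib
import Cfsg.Agent.Lib.Helper1.OMO.Defs
import Cfsg.Agent.Lib.Helper9.OPHSUBTYPE
import Cfsg.Agent.Lib.Helper11.OMOPARITYW

set_option autoImplicit false
set_option linter.unusedVariables false
set_option linter.unusedSectionVars false

/-! Project OMO (S5994 + S5995), row NEC (helper11): core with the conclusion of COMPL as a hypothesis. -/

namespace Cfsg.Agent.Lib.Helper1.OMO

open Module Cfsg.Agent.Lib.helper14.JTa Cfsg.Agent.Lib.Helper9.OPH

variable {F : Type*} [Field F] {ι : Type} [Fintype ι] [DecidableEq ι]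

theorem omonec_core (h2 : (2 : F) ≠ 0) (Q : QuadraticForm F (ι → F)) (x : Matrix ι ι F)
    (hx : ∀ v, Q (x.mulVec v) = Q v) (K : ℕ) (hK : (x - 1) ^ K = 0) (μ : Multiset ℕ) (hμ0 : ∀ e ∈ μ, 0 < e)
    (hty : ∀ k, dk (Matrix.toLin' x - 1) k = ty μ k)
    (W : Submodule F (ι → F)) (hW : Cfsg.Geo.IsNondegenerateOn (QuadraticMap.polar (⇑Q)) W)
    (hcompl : ∃ W' : Submodule F (ι → F), IsCompl W W' ∧ ∀ v ∈ W', Matrix.toLin' x v ∈ W')
    (hN : ∀ v ∈ W, (Matrix.toLin' x - 1) v ∈ W) :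
    ∃ ν : Multiset ℕ, ν ≤ μ ∧ ν.sum = finrank F W ∧ (∀ e : ℕ, Even e → Even (ν.count e)) ∧
      ∀ k, ν.count (k + 1) + dk ((Matrix.toLin' x - 1).restrict hN) k + dk ((Matrix.toLin' x - 1).restrict hN) (k + 2)
        = 2 * dk ((Matrix.toLin' x - 1).restrict hN) (k + 1) := by
  classical
  obtain ⟨W', hc, hW'⟩ := hcompl
  have hNW' : ∀ v ∈ W', (Matrix.toLin' x - 1) v ∈ W' := by
    intro v hv
    rw [LinearMap.sub_apply]
    exact W'.sub_mem (hW' v hv) hv
  have hNK : (Matrix.toLin' x - 1) ^ K = 0 := by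
    have h3 : Matrix.toLin' x - 1 = Matrix.toLin' (x - 1) := by
      rw [map_sub, Matrix.toLin'_one]
      rfl
    rw [h3, ← Matrix.toLin'_pow, hK, map_zero]
  obtain ⟨ν, hνμ, hνs, hνc⟩ := oph_sub_type _ μ hty W W' hc hN hNW' K hNK
  refine ⟨ν, hνμ, hνs, ?_, hνc⟩
  intro e he
  rcases e with _ | k
  · have h3 : ν.count 0 ≤ μ.count 0 := Multiset.count_le_of_le 0 hνμ
    have h4 : μ.count 0 = 0 := Multiset.count_eq_zero.mpr (fun h => by have := hμ0 0 h; omega)
    rw [show ν.count 0 = 0 by omega]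
    exact ⟨0, rfl⟩
  · have hk : Odd k := by
      rcases Nat.even_or_odd k with h | h
      · exact absurd he (by rw [Nat.even_add_one]; exact not_not.mpr h)
      · exact h
    have hk2 : Odd (k + 2) := by
      obtain ⟨t, ht⟩ := hk
      exact ⟨t + 1, by omega⟩
    have p1 := omo_parity_sub h2 Q x hx W hW hN K hK k hk
    have p2 := omo_parity_sub h2 Q x hx W hW hN K hK (k + 2) hk2
    have hc' := hνc k
    obtain ⟨t1, ht1⟩ := p1
    obtain ⟨t2, ht2⟩ := p2
    exact ⟨(dk ((Matrix.toLin' x - 1).restrict hN) (k + 1)) + finrank F W - t1 - t2, by omega⟩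

end Cfsg.Agent.Lib.Helper1.OMO
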