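import Mathlib
import Cfsg.Agent.Lib.Helper1.OMO.Defs
import Cfsg.Agent.Lib.Helper11.OMONECcore
import Cfsg.Agent.Lib.Helper19.OMOCOMPL

set_option autoImplicit false
set_option linter.unusedVariables false
set_option linter.unusedSectionVars false

/-! Project OMO (S5994 + S5995), row NEC (helper11): `omo_nec` = `omonec_core` + `omo_compl`. -/

namespace Cfsg.Agent.Lib.Helper1.OMO

open Module Cfsg.Agent.Lib.helper14.JTa Cfsg.Agent.Lib.Helper9.OPH

variable {F : Type*} [Field F] {ι : Type} [Fintype ι] [DecidableEq ι]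

theorem omo_nec (h2 : (2 : F) ≠ 0) (Q : QuadraticForm F (ι → F)) (x : Matrix ι ι F) (hdet : IsUnit x)
    (hx : ∀ v, Q (x.mulVec v) = Q v) (K : ℕ) (hK : (x - 1) ^ K = 0) (μ : Multiset ℕ) (hμ0 : ∀ e ∈ μ, 0 < e)
    (hty : ∀ k, dk (Matrix.toLin' x - 1) k = ty μ k)
    (W : Submodule F (ι → F)) (hW : Cfsg.Geo.IsNondegenerateOn (QuadraticMap.polar (⇑Q)) W)
    (hxW : W.map (Matrix.toLin' x) ≤ W) (hN : ∀ v ∈ W, (Matrix.toLin' x - 1) v ∈ W) :
    ∃ ν : Multiset ℕ, ν ≤ μ ∧ ν.sum = finrank F W ∧ (∀ e : ℕ, Even e → Even (ν.count e)) ∧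
      ∀ k, ν.count (k + 1) + dk ((Matrix.toLin' x - 1).restrict hN) k + dk ((Matrix.toLin' x - 1).restrict hN) (k + 2)
        = 2 * dk ((Matrix.toLin' x - 1).restrict hN) (k + 1) :=
  omonec_core h2 Q x hx K hK μ hμ0 hty W hW (omo_compl Q x hdet hx W hW hxW) hN

end Cfsg.Agent.Lib.Helper1.OMO
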