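import Mathlib
import Cfsg.Agent.Lib.Helper12.OMN.Defs
import Cfsg.Agent.Lib.Lead.SPN.Defs
import Cfsg.Agent.Lib.Helper28.CTDM1f
import Cfsg.Agent.Lib.Helper28.OMMO10
import Cfsg.Agent.Lib.Helper16.SpinG2

/-!
# Project OMN (designer helper12; matrix side of S2099), row V0 (the form), verbatim vs `Helper12/OMN/Skel.lean.txt`.  Writer: helper11.  Twin of `Helper26.OMBV0`.
`polar_eq_bM bM_comm bM_add_right bM_smul_right bM_single_left QM_add QM_smul bM_of_iso aniso_of_fact`.
-/

set_option autoImplicit false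

namespace Cfsg.Agent.Lib.Helper12.OMN

open Matrix Cfsg.Agent.Lib.helper15.St2 Cfsg.Agent.Lib.helper3.STC Cfsg.Agent.Lib.Lead.STD Cfsg.Agent.Lib.helper17.STM
  Cfsg.Agent.Lib.Lead.SPN Cfsg.Agent.Lib.Helper28.CTD Cfsg.Agent.Lib.Helper28.OMM

universe u w

section V0

variable {m : ℕ} {F : Type u} [Field F] {A B : F}

/-- V0 [S]  `Helper16.polar_minus'` (`Cfsg.Agent.Lib.Helper16.SpinG2`); the rest as `Helper26.OMBV0`, unfolding `bM`, `Cfsg.quadFormMinus`. -/
theorem polar_eq_bM (x y : Im (Fin m) → F) : QuadraticMap.polar (Cfsg.quadFormMinus m F A B) x y = bM A B x y := by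
  rw [Cfsg.Agent.Lib.Helper16.polar_minus']
  unfold bM
  rfl

theorem bM_comm (x y : Im (Fin m) → F) : bM A B x y = bM A B y x := by
  unfold bM
  congr 1
  · apply Finset.sum_congr rfl
    intro i _
    ring
  · ring

theorem bM_add_right (x y z : Im (Fin m) → F) : bM A B x (y + z) = bM A B x y + bM A B x z := by
  unfold bM
  have : ∀ (P Q p q : F), (P + p) + (Q + q) = (P + Q) + (p + q) := by
    intro P Q p q; ring
  rw [this, ← Finset.sum_add_distrib]
  congr 1
  · apply Finset.sum_congr rfl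
    intro i _
    simp only [Pi.add_apply]
    ring
  · simp only [Pi.add_apply]
    ring

theorem bM_smul_right (c : F) (x y : Im (Fin m) → F) : bM A B x (c • y) = c * bM A B x y := by
  unfold bM
  rw [mul_add c, Finset.mul_sum]
  congr 1
  · apply Finset.sum_congr rfl
    intro i _
    simp only [Pi.smul_apply, smul_eq_mul]
    ring
  · simp only [Pi.smul_apply, smul_eq_mul]
    ring

theorem bM_single_left (a : Fin m ⊕ Fin m) (x : Im (Fin m) → F) : bM A B (Pi.single (Sum.inl a) 1) x = x (Sum.inl (ng a)) := by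
  unfold bM
  have h1 : (Pi.single (Sum.inl a) 1 : Im (Fin m) → F) iz1 = 0 := by
    simp [iz1]
  have h2 : (Pi.single (Sum.inl a) 1 : Im (Fin m) → F) iz2 = 0 := by
    simp [iz2]
  rw [h1, h2]
  have h3 : (2 * 0 * x iz1 + A * (0 * x iz2 + x iz1 * 0) + 2 * B * 0 * x iz2 : F) = 0 := by ring
  rw [h3, add_zero]
  cases a with
  | inl i =>
    rw [Finset.sum_eq_single i]
    · simp [ng]
    · intro j _ hj
      have h1 : (Sum.inl j : Fin m ⊕ Fin m) ≠ Sum.inl i := fun h => hj (Sum.inl.inj h)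
      simp [h1]
    · intro h
      exact absurd (Finset.mem_univ _) h
  | inr i =>
    rw [Finset.sum_eq_single i]
    · simp [ng]
    · intro j _ hj
      have h1 : (Sum.inr j : Fin m ⊕ Fin m) ≠ Sum.inr i := fun h => hj (Sum.inr.inj h)
      simp [h1]
    · intro h
      exact absurd (Finset.mem_univ _) h

/-- `Q (x + y) = Q x + Q y + bM x y` -/
theorem QM_add (x y : Im (Fin m) → F) :
    Cfsg.quadFormMinus m F A B (x + y) = Cfsg.quadFormMinus m F A B x + Cfsg.quadFormMinus m F A B y + bM A B x y := by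
  have h := polar_eq_bM (A := A) (B := B) x y
  unfold QuadraticMap.polar at h
  rw [← h]
  ring

theorem QM_smul (c : F) (x : Im (Fin m) → F) : Cfsg.quadFormMinus m F A B (c • x) = c * c * Cfsg.quadFormMinus m F A B x := by
  unfold Cfsg.quadFormMinus
  rw [mul_add (c * c), Finset.mul_sum]
  congr 1
  · apply Finset.sum_congr rfl
    intro i _
    simp only [Pi.smul_apply, smul_eq_mul]
    ring
  · simp only [Pi.smul_apply, smul_eq_mul]
    ring

/-- an isometry preserves the polar form -/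
theorem bM_of_iso {k : Matrix (Im (Fin m)) (Im (Fin m)) F}
    (hk : ∀ x, Cfsg.quadFormMinus m F A B (k *ᵥ x) = Cfsg.quadFormMinus m F A B x) (x y : Im (Fin m) → F) :
    bM A B (k *ᵥ x) (k *ᵥ y) = bM A B x y := by
  have h1 := QM_add (A := A) (B := B) (k *ᵥ x) (k *ᵥ y)
  have h2 := QM_add (A := A) (B := B) x y
  rw [← Matrix.mulVec_add, hk, hk, hk] at h1
  rw [h2] at h1
  exact (add_left_cancel h1).symm

/-- the anisotropy in the form of S2099 (converse of `fact_of_aniso`): if `z₂ ≠ 0`, `r = -z₁ / z₂` contradicts the `Fact`. -/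
theorem aniso_of_fact [Fact (∀ r : F, r ^ 2 ≠ -B + A * r)] (z₁ z₂ : F) (h : z₁ ^ 2 + A * z₁ * z₂ + B * z₂ ^ 2 = 0) : z₁ = 0 ∧ z₂ = 0 := by
  have hf : ∀ r : F, r ^ 2 ≠ -B + A * r := Fact.out
  by_cases h2 : z₂ = 0
  · subst h2
    refine ⟨?_, rfl⟩
    have : z₁ ^ 2 = 0 := by
      have := h
      simp only [mul_zero, add_zero] at this
      rw [← this]; ring
    exact pow_eq_zero_iff (two_ne_zero) |>.1 this
  · exfalso
    apply hf (-z₁ / z₂)
    field_simp
    linear_combination h

end V0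

end Cfsg.Agent.Lib.Helper12.OMN
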