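import Mathlib
import Cfsg.Agent.Lib.Helper12.OMN.Defs
import Cfsg.Agent.Lib.Lead.SPN.Defs
import Cfsg.Agent.Lib.Helper28.CTDM1f
import Cfsg.Agent.Lib.Helper28.OMMO10

/-!
# Project OMN (designer helper12; matrix side of S2099), row V1 (`TmL_mulVec TmS_mulVec`), verbatim vs `Helper12/OMN/Skel.lean.txt`.  Writer: helper11.  Twin of `helper4.OMBV1`.
-/

set_option autoImplicit false

namespace Cfsg.Agent.Lib.Helper12.OMN

open Matrix Cfsg.Agent.Lib.helper15.St2 Cfsg.Agent.Lib.helper3.STC Cfsg.Agent.Lib.Lead.STD Cfsg.Agent.Lib.helper17.STM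
  Cfsg.Agent.Lib.Lead.SPN Cfsg.Agent.Lib.Helper28.CTD Cfsg.Agent.Lib.Helper28.OMM

universe u w

/-- a matrix unit on a vector -/
theorem omnv1_single_mulVec {F : Type u} [Field F] {κ : Type*} [Fintype κ] [DecidableEq κ] (i j : κ) (c : F) (x : κ → F) :
    Matrix.single i j c *ᵥ x = Pi.single i (c * x j) := by
  rw [Matrix.single_mulVec]
  rfl

section V

variable {F : Type u} [Field F] {A B : F} {ι : Type w} [Fintype ι] [DecidableEq ι]

/-- V1 [S-M]  model `helper4.OMBV1` (`TbL_mulVec`, `TbS_mulVec`, `ombv1_single_mulVec i j c x : Matrix.single i j c *ᵥ x = Pi.single i (c * x j)`). -/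
theorem TmL_mulVec (a b : ι ⊕ ι) (t : F) (x : Im ι → F) :
    TmL a b t *ᵥ x = x + Pi.single (Sum.inl a) (t * x (Sum.inl b)) - Pi.single (Sum.inl (ng b)) (t * x (Sum.inl (ng a))) := by
  unfold TmL
  rw [Matrix.sub_mulVec, Matrix.add_mulVec, Matrix.one_mulVec, omnv1_single_mulVec, omnv1_single_mulVec]

theorem TmS_mulVec (a : ι ⊕ ι) (u : Kq F A B) (x : Im ι → F) :
    TmS a u *ᵥ x = x + Pi.single iz1 (u.re * x (Sum.inl (ng a))) + Pi.single iz2 (u.im * x (Sum.inl (ng a))) -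
      Pi.single (Sum.inl a) ((2 * u.re + A * u.im) * x iz1 + (A * u.re + 2 * B * u.im) * x iz2 + nm u * x (Sum.inl (ng a))) := by
  unfold TmS
  rw [Matrix.sub_mulVec, Matrix.sub_mulVec, Matrix.sub_mulVec, Matrix.add_mulVec, Matrix.add_mulVec, Matrix.one_mulVec,
    omnv1_single_mulVec, omnv1_single_mulVec, omnv1_single_mulVec, omnv1_single_mulVec, omnv1_single_mulVec,
    Pi.single_add, Pi.single_add]
  abel

end V

end Cfsg.Agent.Lib.Helper12.OMN
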