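import Mathlib
import Cfsg.Agent.Lib.helper17.OMP.Defs
import Cfsg.Agent.Lib.Helper22.CTATVAPI

/-!
# Project OMP (helper17; gluing block of S2295), row E1, verbatim vs `helper17/OMP/Skel.lean.txt`.  Writer: helper11.
The Weyl word `wE i j` as a signed permutation of the basis.
-/

set_option autoImplicit false

namespace Cfsg.Agent.Lib.helper17.OMP

open Matrix Cfsg.Agent.Lib.helper14.CTE Cfsg.Agent.Lib.helper14.CTA Cfsg.Agent.Lib.helper17.SLN

universe u v w

section E

variable {F : Type u} [Field F] {ι : Type w} [Fintype ι] [DecidableEq ι]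

/-- the Weyl word on an arbitrary column vector -/
theorem ompe1_wE_mulVec (i j : ι) (hij : i ≠ j) (v : ι → F) :
    (wE i j : Matrix.SpecialLinearGroup ι F).1 *ᵥ v = fun k => if k = i then v j else if k = j then -v i else v k := by
  show ((tv i j 1 * tv j i (-1) * tv i j 1 : Matrix.SpecialLinearGroup ι F) : Matrix ι ι F) *ᵥ v = _
  rw [Matrix.SpecialLinearGroup.coe_mul, Matrix.SpecialLinearGroup.coe_mul, ← Matrix.mulVec_mulVec,
    ← Matrix.mulVec_mulVec]
  have e1 : ∀ (t : F) (v : ι → F), ((tv i j t : Matrix.SpecialLinearGroup ι F) : Matrix ι ι F) *ᵥ v =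
      v + Pi.single i (t * v j) := fun t v => tv_mulVec i j hij t v
  have e2 : ∀ (t : F) (v : ι → F), ((tv j i t : Matrix.SpecialLinearGroup ι F) : Matrix ι ι F) *ᵥ v =
      v + Pi.single j (t * v i) := fun t v => tv_mulVec j i hij.symm t v
  rw [e1 1 v, e2 (-1), e1 1]
  ext k
  by_cases hki : k = i
  · subst hki
    simp [hij]
  · by_cases hkj : k = j
    · subst hkj
      simp [hij, hij.symm]
    · simp [hki, hkj]

/-- the Weyl word on an arbitrary row vector -/
theorem ompe1_vecMul_wE (i j : ι) (hij : i ≠ j) (v : ι → F) :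
    v ᵥ* (wE i j : Matrix.SpecialLinearGroup ι F).1 = fun k => if k = i then -v j else if k = j then v i else v k := by
  show v ᵥ* ((tv i j 1 * tv j i (-1) * tv i j 1 : Matrix.SpecialLinearGroup ι F) : Matrix ι ι F) = _
  rw [Matrix.SpecialLinearGroup.coe_mul, Matrix.SpecialLinearGroup.coe_mul, ← Matrix.vecMul_vecMul,
    ← Matrix.vecMul_vecMul]
  have e1 : ∀ (t : F) (v : ι → F), v ᵥ* ((tv i j t : Matrix.SpecialLinearGroup ι F) : Matrix ι ι F) =
      v + Pi.single j (t * v i) := fun t v => vecMul_tv i j hij t v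
  have e2 : ∀ (t : F) (v : ι → F), v ᵥ* ((tv j i t : Matrix.SpecialLinearGroup ι F) : Matrix ι ι F) =
      v + Pi.single i (t * v j) := fun t v => vecMul_tv j i hij.symm t v
  rw [e1 1 v, e2 (-1), e1 1]
  ext k
  by_cases hki : k = i
  · subst hki
    simp [hij]
  · by_cases hkj : k = j
    · subst hkj
      simp [hij, hij.symm]
    · simp [hki, hkj]

theorem wE_mulVec_snd (i j : ι) (hij : i ≠ j) :
    (wE i j : Matrix.SpecialLinearGroup ι F).1 *ᵥ Pi.single j 1 = Pi.single i 1 := by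
  rw [ompe1_wE_mulVec i j hij]
  ext k
  by_cases hki : k = i
  · subst hki; simp
  · by_cases hkj : k = j
    · subst hkj; simp [hij, hij.symm]
    · simp [hki, hkj]

theorem wE_mulVec_fst (i j : ι) (hij : i ≠ j) :
    (wE i j : Matrix.SpecialLinearGroup ι F).1 *ᵥ Pi.single i 1 = Pi.single j (-1) := by
  rw [ompe1_wE_mulVec i j hij]
  ext k
  by_cases hki : k = i
  · subst hki; simp [hij, hij.symm]
  · by_cases hkj : k = j
    · subst hkj; simp [hij, hij.symm]
    · simp [hki, hkj]

theorem wE_mulVec_of_ne (i j k : ι) (hij : i ≠ j) (hki : k ≠ i) (hkj : k ≠ j) :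
    (wE i j : Matrix.SpecialLinearGroup ι F).1 *ᵥ Pi.single k 1 = Pi.single k 1 := by
  rw [ompe1_wE_mulVec i j hij]
  ext m
  by_cases hmi : m = i
  · subst hmi; simp [hki, hkj, Ne.symm hki, Ne.symm hkj]
  · by_cases hmj : m = j
    · subst hmj; simp [hki, hkj, Ne.symm hki, Ne.symm hkj, hmi]
    · simp [hmi, hmj]

theorem vecMul_wE_fst (i j : ι) (hij : i ≠ j) :
    Pi.single i 1 ᵥ* (wE i j : Matrix.SpecialLinearGroup ι F).1 = Pi.single j 1 := by
  rw [ompe1_vecMul_wE i j hij]
  ext k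
  by_cases hki : k = i
  · subst hki; simp [hij, hij.symm]
  · by_cases hkj : k = j
    · subst hkj; simp [hij, hij.symm]
    · simp [hki, hkj]

theorem vecMul_wE_snd (i j : ι) (hij : i ≠ j) :
    Pi.single j 1 ᵥ* (wE i j : Matrix.SpecialLinearGroup ι F).1 = Pi.single i (-1) := by
  rw [ompe1_vecMul_wE i j hij]
  ext k
  by_cases hki : k = i
  · subst hki; simp
  · by_cases hkj : k = j
    · subst hkj; simp [hij, hij.symm]
    · simp [hki, hkj]

theorem vecMul_wE_of_ne (i j k : ι) (hij : i ≠ j) (hki : k ≠ i) (hkj : k ≠ j) :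
    Pi.single k 1 ᵥ* (wE i j : Matrix.SpecialLinearGroup ι F).1 = Pi.single k 1 := by
  rw [ompe1_vecMul_wE i j hij]
  ext m
  by_cases hmi : m = i
  · subst hmi; simp [hki, hkj, Ne.symm hki, Ne.symm hkj]
  · by_cases hmj : m = j
    · subst hmj; simp [hki, hkj, Ne.symm hki, Ne.symm hkj, hmi]
    · simp [hmi, hmj]

end E

end Cfsg.Agent.Lib.helper17.OMP
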