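import Mathlib
import Cfsg.Agent.Lib.helper17.OMP.Defs
import Cfsg.Agent.Lib.Helper22.CTATVAPI
import Cfsg.Agent.Lib.Helper26.OMPE5
import Cfsg.Agent.Lib.Helper11.OMPE1

/-!
# Project OMP (helper17; gluing block of S2295), row E6, verbatim vs `helper17/OMP/Skel.lean.txt`.  Writer: helper11.
Basic instances of `Mv1`.  `Mv1_hE` and `Mv1_wE_of_ne` go through `Mv1_tv` and `Mv1.mul` (E5), so `hE_coe` (E3) is not needed.
-/

set_option autoImplicit false

namespace Cfsg.Agent.Lib.helper17.OMP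

open Matrix Cfsg.Agent.Lib.helper14.CTE Cfsg.Agent.Lib.helper14.CTA Cfsg.Agent.Lib.helper17.SLN

universe u v w

section E

variable {F : Type u} [Field F] {ι : Type w} [Fintype ι] [DecidableEq ι]

theorem Mv1_tv (i j a : ι) (hij : i ≠ j) (hai : a ≠ i) (haj : a ≠ j) (t : F) :
    Mv1 (tv i j t : Matrix.SpecialLinearGroup ι F) a a := by
  constructor
  · rw [tv_mulVec i j hij, Pi.single_eq_of_ne (Ne.symm haj), mul_zero, Pi.single_zero, add_zero]
  · rw [vecMul_tv i j hij, Pi.single_eq_of_ne (Ne.symm hai), mul_zero, Pi.single_zero, add_zero]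

theorem Mv1_hE (i j a : ι) (hij : i ≠ j) (hai : a ≠ i) (haj : a ≠ j) (s : F) (hs : s ≠ 0) :
    Mv1 (hE i j s : Matrix.SpecialLinearGroup ι F) a a := by
  have _ := hs
  have h1 : ∀ t : F, Mv1 (tv i j t : Matrix.SpecialLinearGroup ι F) a a := fun t => Mv1_tv i j a hij hai haj t
  have h2 : ∀ t : F, Mv1 (tv j i t : Matrix.SpecialLinearGroup ι F) a a := fun t => Mv1_tv j i a hij.symm haj hai t
  unfold hE
  exact (((h1 (-1)).mul ((h2 1).mul (h1 (-1)))).mul ((h1 s).mul ((h2 (-s⁻¹)).mul (h1 s))))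

theorem Mv1_wE (i j : ι) (hij : i ≠ j) : Mv1 (wE i j : Matrix.SpecialLinearGroup ι F) j i :=
  ⟨wE_mulVec_snd i j hij, vecMul_wE_fst i j hij⟩

theorem Mv1_wE_of_ne (i j a : ι) (hij : i ≠ j) (hai : a ≠ i) (haj : a ≠ j) :
    Mv1 (wE i j : Matrix.SpecialLinearGroup ι F) a a :=
  ⟨wE_mulVec_of_ne i j a hij hai haj, vecMul_wE_of_ne i j a hij hai haj⟩

end E

end Cfsg.Agent.Lib.helper17.OMP
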