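import Mathlib
import Cfsg.Agent.Lib.helper17.OMP.Defs
import Cfsg.Agent.Lib.Helper26.OMPE5
import Cfsg.Agent.Lib.helper4.OMPE9

/-!
# Project OMP (helper17; gluing block of S2295), rows A2 (`yy_base`, `yy_conj`) and A3 (`yy_swap`), verbatim vs `helper17/OMP/Skel.lean.txt`.  Writer: helper11.
`ompa2_yy_eq` is an OWN-NAME copy of the statement of A1 (`yy_eq`, not on main when this file was written).
-/

set_option autoImplicit false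

namespace Cfsg.Agent.Lib.helper17.OMP

open Matrix Cfsg.Agent.Lib.helper14.CTE Cfsg.Agent.Lib.helper14.CTA Cfsg.Agent.Lib.helper17.SLN

universe u v w

section A

variable {F : Type u} [Field F] {G : Type v} [Group G] {ι : Type w} [Fintype ι] [DecidableEq ι]

/-- own-name copy of A1 `yy_eq`: `yy` does not depend on the chosen `g`. -/
theorem ompa2_yy_eq (p : Pts ι) (Φ : Matrix.SpecialLinearGroup ι F →* G) (y : G)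
    (hB : ∀ g : Matrix.SpecialLinearGroup ι F, Mv g p.o0 p.o1 p.o0 p.o1 → Commute y (Φ g))
    (g : Matrix.SpecialLinearGroup ι F) (i j : ι) (hg : Mv g p.o0 p.o1 i j) : Φ g * y * (Φ g)⁻¹ = yy p Φ y i j := by
  have hex : ∃ g : Matrix.SpecialLinearGroup ι F, Mv g p.o0 p.o1 i j := ⟨g, hg⟩
  unfold yy
  rw [dif_pos hex]
  have h0 : Mv hex.choose p.o0 p.o1 i j := hex.choose_spec
  set g₀ := hex.choose with hg₀
  have hm : Mv (g₀⁻¹ * g) p.o0 p.o1 p.o0 p.o1 := Mv.mul hg (Mv.inv h0)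
  have hc : y * Φ (g₀⁻¹ * g) = Φ (g₀⁻¹ * g) * y := hB _ hm
  have e : g = g₀ * (g₀⁻¹ * g) := by group
  rw [e, map_mul, _root_.mul_inv_rev]
  calc Φ g₀ * Φ (g₀⁻¹ * g) * y * ((Φ (g₀⁻¹ * g))⁻¹ * (Φ g₀)⁻¹)
      = Φ g₀ * (Φ (g₀⁻¹ * g) * y) * (Φ (g₀⁻¹ * g))⁻¹ * (Φ g₀)⁻¹ := by group
    _ = Φ g₀ * (y * Φ (g₀⁻¹ * g)) * (Φ (g₀⁻¹ * g))⁻¹ * (Φ g₀)⁻¹ := by rw [hc]
    _ = Φ g₀ * y * (Φ g₀)⁻¹ := by group

/-- a `g₀` moving `(o0, o1)` to `(i, j)` -/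
theorem ompa2_exists_Mv (h4 : 4 ≤ Fintype.card ι) (p : Pts ι) (i j : ι) (hij : i ≠ j) :
    ∃ g : Matrix.SpecialLinearGroup ι F, Mv g p.o0 p.o1 i j := by
  obtain ⟨k, hik, hjk, _⟩ := ompe9_exists_ne h4 i j j
  obtain ⟨g, h1, h2, _⟩ := exists_Mv3 (F := F) h4 p.o0 p.o1 p.o2 i j k p.h01 p.h02 p.h12 hij hik hjk
  exact ⟨g, (Mv_iff g _ _ _ _).2 ⟨h1, h2⟩⟩

theorem yy_base (p : Pts ι) (Φ : Matrix.SpecialLinearGroup ι F →* G) (y : G)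
    (hB : ∀ g : Matrix.SpecialLinearGroup ι F, Mv g p.o0 p.o1 p.o0 p.o1 → Commute y (Φ g)) : yy p Φ y p.o0 p.o1 = y := by
  have h1 : Mv (1 : Matrix.SpecialLinearGroup ι F) p.o0 p.o1 p.o0 p.o1 :=
    (Mv_iff _ _ _ _ _).2 ⟨Mv1_one _, Mv1_one _⟩
  have := ompa2_yy_eq p Φ y hB 1 p.o0 p.o1 h1
  rw [map_one, one_mul, inv_one, mul_one] at this
  exact this.symm

theorem yy_conj (h4 : 4 ≤ Fintype.card ι) (p : Pts ι) (Φ : Matrix.SpecialLinearGroup ι F →* G) (y : G)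
    (hB : ∀ g : Matrix.SpecialLinearGroup ι F, Mv g p.o0 p.o1 p.o0 p.o1 → Commute y (Φ g))
    (m : Matrix.SpecialLinearGroup ι F) (i j i' j' : ι) (hij : i ≠ j) (hm : Mv m i j i' j') :
    Φ m * yy p Φ y i j * (Φ m)⁻¹ = yy p Φ y i' j' := by
  obtain ⟨g₀, hg₀⟩ := ompa2_exists_Mv (F := F) h4 p i j hij
  rw [← ompa2_yy_eq p Φ y hB g₀ i j hg₀, ← ompa2_yy_eq p Φ y hB (m * g₀) i' j' (Mv.mul hg₀ hm), map_mul,
    _root_.mul_inv_rev]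
  group

theorem yy_swap (h4 : 4 ≤ Fintype.card ι) (p : Pts ι) (Φ : Matrix.SpecialLinearGroup ι F →* G) (y : G)
    (hB : ∀ g : Matrix.SpecialLinearGroup ι F, Mv g p.o0 p.o1 p.o0 p.o1 → Commute y (Φ g))
    (hinv : ∀ g : Matrix.SpecialLinearGroup ι F, Mv g p.o0 p.o1 p.o1 p.o0 → Φ g * y * (Φ g)⁻¹ = y⁻¹)
    (i j : ι) (hij : i ≠ j) : yy p Φ y j i = (yy p Φ y i j)⁻¹ := by
  obtain ⟨g₀, hg₀⟩ := ompa2_exists_Mv (F := F) h4 p i j hij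
  obtain ⟨ν, hν⟩ := ompa2_exists_Mv (F := F) h4 p p.o1 p.o0 p.h01.symm
  have hg₀' : Mv g₀ p.o1 p.o0 j i := by
    rw [Mv_iff] at hg₀ ⊢
    exact ⟨hg₀.2, hg₀.1⟩
  rw [← ompa2_yy_eq p Φ y hB g₀ i j hg₀, ← ompa2_yy_eq p Φ y hB (g₀ * ν) j i (Mv.mul hν hg₀'), map_mul,
    _root_.mul_inv_rev]
  have e := hinv ν hν
  calc Φ g₀ * Φ ν * y * ((Φ ν)⁻¹ * (Φ g₀)⁻¹) = Φ g₀ * (Φ ν * y * (Φ ν)⁻¹) * (Φ g₀)⁻¹ := by group
    _ = Φ g₀ * y⁻¹ * (Φ g₀)⁻¹ := by rw [e]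
    _ = (Φ g₀ * y * (Φ g₀)⁻¹)⁻¹ := by group

end A

end Cfsg.Agent.Lib.helper17.OMP
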