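import Mathlib
import Cfsg.Agent.Lib.helper17.OMP.Defs

/-!
# Project OMP (helper17; gluing block of S2295), row E14 (`coxc_mem`), verbatim vs `helper17/OMP/Skel.lean.txt`.  Writer: helper11.
-/

set_option autoImplicit false

namespace Cfsg.Agent.Lib.helper17.OMP

open Matrix Cfsg.Agent.Lib.helper14.CTE Cfsg.Agent.Lib.helper14.CTA Cfsg.Agent.Lib.helper17.SLN

universe u v w

section E13

variable {F : Type u} [Field F]

/-- the Weyl word of two indices `≥ 2` lies in the block subgroup -/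
theorem ompe14_wE_mem (n : ℕ) (hn : 4 ≤ n) (a b : Fin n) (hab : a ≠ b) (ha : 2 ≤ a.val) (hb : 2 ≤ b.val) :
    (wE a b : Matrix.SpecialLinearGroup (Fin n) F) ∈ Subgroup.closure {x : Matrix.SpecialLinearGroup (Fin n) F |
      ∃ (i j : Fin n) (t : F), i ≠ j ∧ i ≠ (ptsFin n hn).o0 ∧ i ≠ (ptsFin n hn).o1 ∧ j ≠ (ptsFin n hn).o0 ∧ j ≠ (ptsFin n hn).o1 ∧
        x = tv i j t} := by
  have ha0 : a ≠ (ptsFin n hn).o0 := by
    intro h; rw [h] at ha; simp [ptsFin] at ha
  have ha1 : a ≠ (ptsFin n hn).o1 := by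
    intro h; rw [h] at ha; simp [ptsFin] at ha
  have hb0 : b ≠ (ptsFin n hn).o0 := by
    intro h; rw [h] at hb; simp [ptsFin] at hb
  have hb1 : b ≠ (ptsFin n hn).o1 := by
    intro h; rw [h] at hb; simp [ptsFin] at hb
  unfold wE
  refine Subgroup.mul_mem _ (Subgroup.mul_mem _ ?_ ?_) ?_
  · exact Subgroup.subset_closure ⟨a, b, 1, hab, ha0, ha1, hb0, hb1, rfl⟩
  · exact Subgroup.subset_closure ⟨b, a, -1, hab.symm, hb0, hb1, ha0, ha1, rfl⟩
  · exact Subgroup.subset_closure ⟨a, b, 1, hab, ha0, ha1, hb0, hb1, rfl⟩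

theorem coxc_mem (n : ℕ) (hn : 4 ≤ n) :
    (coxc n : Matrix.SpecialLinearGroup (Fin n) F) ∈ Subgroup.closure {x : Matrix.SpecialLinearGroup (Fin n) F |
      ∃ (i j : Fin n) (t : F), i ≠ j ∧ i ≠ (ptsFin n hn).o0 ∧ i ≠ (ptsFin n hn).o1 ∧ j ≠ (ptsFin n hn).o0 ∧ j ≠ (ptsFin n hn).o1 ∧
        x = tv i j t} := by
  unfold coxc
  split_ifs with h4
  · exact Subgroup.one_mem _
  · unfold cox
    apply Subgroup.list_prod_mem
    intro x hx
    rw [List.mem_map] at hx
    obtain ⟨k, _, rfl⟩ := hx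
    split_ifs with hk
    · apply ompe14_wE_mem n hn
      · intro h
        have := congrArg Fin.val h
        simp at this
      · simp
      · simp
    · exact Subgroup.one_mem _

end E13

end Cfsg.Agent.Lib.helper17.OMP
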