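import Mathlib
import Cfsg.Agent.Lib.helper7.SAP.Defs
import Cfsg.Agent.Lib.helper4.SAPCAR3

/-!
# Project SAP (designer helper7), row SM4 `pres_S4` (helper11), verbatim

`S_4 = ⟨z, t | z^3, t^2, (z · t z t)^2⟩`: Carmichael's bound (CAR3, helper4) for `x = ![z, t z t]` gives `|⟨z, t z t⟩| ≤ 12`,
the index-two argument (`sapsm4_index_two`, the statement of row TR2 under an own name) gives `|G| ≤ 24`, and
`z ↦ (0 1 2)`, `t ↦ (2 3)` is onto `Perm (Fin 4)`.

Reusable: `sapsm4_pres2` (2-generator version of SLP's `pres_of_card`).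
-/

set_option autoImplicit false

namespace Cfsg.Agent.Lib.helper7.SAP

open Equiv

universe u

/-- the evaluation at the two generators of a presented group is the quotient map. -/
theorem sapsm4_lift_of (rels : Set (FreeGroup (Fin 2))) (r : FreeGroup (Fin 2)) :
    FreeGroup.lift ![PresentedGroup.of (rels := rels) 0, PresentedGroup.of 1] r =
      PresentedGroup.mk rels r := by
  have h : FreeGroup.lift ![PresentedGroup.of (rels := rels) 0, PresentedGroup.of 1] =
      PresentedGroup.mk rels := by
    apply FreeGroup.ext_hom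
    intro i
    fin_cases i <;> simp [PresentedGroup.of]
  rw [h]

theorem sapsm4_closure (rels : Set (FreeGroup (Fin 2))) :
    Subgroup.closure {PresentedGroup.of (rels := rels) 0, PresentedGroup.of 1} = ⊤ := by
  have h := PresentedGroup.closure_range_of rels
  rw [← h]
  congr 1
  ext x
  simp only [Set.mem_insert_iff, Set.mem_singleton_iff, Set.mem_range]
  constructor
  · rintro (rfl | rfl)
    · exact ⟨0, rfl⟩
    · exact ⟨1, rfl⟩
  · rintro ⟨i, rfl⟩
    fin_cases i
    · left; rfl
    · right; rfl

/-- a finite group `S` generated by `a b` satisfying the relators `L`, such that every group generated by two elements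
satisfying `L` has at most `|S|` elements, is presented by `L` (2-generator version of SLP's `pres_of_card`). -/
theorem sapsm4_pres2 {S : Type u} [Group S] [Finite S] (L : List (FreeGroup (Fin 2))) (a b : S)
    (hgen : Subgroup.closure {a, b} = ⊤) (hrel : ∀ r ∈ L, FreeGroup.lift ![a, b] r = 1)
    (hcard : ∀ (G : Type) [Group G] (u v : G), Subgroup.closure {u, v} = ⊤ →
      (∀ r ∈ L, FreeGroup.lift ![u, v] r = 1) → Finite G ∧ Nat.card G ≤ Nat.card S) :
    Nonempty (PresentedGroup (↑L.toFinset : Set (FreeGroup (Fin 2))) ≃* S) := by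
  classical
  set rels : Set (FreeGroup (Fin 2)) := (↑L.toFinset : Set (FreeGroup (Fin 2))) with hrels
  have hmem : ∀ r, r ∈ rels ↔ r ∈ L := by
    intro r
    simp [hrels]
  have hr : ∀ r ∈ rels, FreeGroup.lift ![a, b] r = 1 := fun r hr => hrel r ((hmem r).1 hr)
  let φ : PresentedGroup rels →* S := PresentedGroup.toGroup hr
  have hφ : ∀ i, φ (PresentedGroup.of i) = ![a, b] i := fun i => PresentedGroup.toGroup.of hr
  have hsurj : Function.Surjective φ := by
    rw [← MonoidHom.range_eq_top, eq_top_iff, ← hgen, Subgroup.closure_le]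
    intro x hx
    simp only [Set.mem_insert_iff, Set.mem_singleton_iff] at hx
    rcases hx with rfl | rfl
    · exact ⟨PresentedGroup.of 0, by rw [hφ]; rfl⟩
    · exact ⟨PresentedGroup.of 1, by rw [hφ]; rfl⟩
  obtain ⟨hfin, hle⟩ := hcard (PresentedGroup rels) (PresentedGroup.of 0) (PresentedGroup.of 1)
    (sapsm4_closure rels) (by
      intro r hr'
      rw [sapsm4_lift_of]
      exact (PresentedGroup.mk_eq_one_iff).2 (Subgroup.subset_normalClosure ((hmem r).2 hr')))
  have hbij : Function.Bijective φ := hsurj.bijective_of_nat_card_le hle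
  exact ⟨MulEquiv.ofBijective φ hbij⟩

/-- a subgroup normalised by `t` with `t^2` inside and generating with `t` has index at most 2
(the statement of row TR2, own name). -/
theorem sapsm4_index_two {G : Type*} [Group G] (N : Subgroup G) [Finite N] (t : G)
    (hn : ∀ x ∈ N, t * x * t⁻¹ ∈ N) (ht : t ^ 2 ∈ N) (hgen : N ⊔ Subgroup.zpowers t = ⊤) :
    Finite G ∧ Nat.card G ≤ 2 * Nat.card N := by
  have ht2 : t * t ∈ N := by rw [← pow_two]; exact ht
  -- conjugation by `t⁻¹`
  have hn' : ∀ x ∈ N, t⁻¹ * x * t ∈ N := by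
    intro x hx
    have h1 : t⁻¹ * x * t = (t * t)⁻¹ * (t * x * t⁻¹) * (t * t) := by group
    rw [h1]
    exact N.mul_mem (N.mul_mem (N.inv_mem ht2) (hn x hx)) ht2
  -- every element lies in `N ∪ t N`
  have hall : ∀ g : G, g ∈ N ∨ t⁻¹ * g ∈ N := by
    intro g
    have hg : g ∈ Subgroup.closure ((N : Set G) ∪ {t}) := by
      have : Subgroup.closure ((N : Set G) ∪ {t}) = ⊤ := by
        rw [Subgroup.closure_union, Subgroup.closure_eq, ← Subgroup.zpowers_eq_closure]
        exact hgen
      rw [this]
      exact Subgroup.mem_top g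
    induction hg using Subgroup.closure_induction with
    | mem x hx =>
      rcases hx with hx | hx
      · exact Or.inl hx
      · right
        rw [Set.mem_singleton_iff.1 hx, inv_mul_cancel]
        exact N.one_mem
    | one => exact Or.inl N.one_mem
    | mul a b _ _ ha hb =>
      rcases ha with ha | ha <;> rcases hb with hb | hb
      · exact Or.inl (N.mul_mem ha hb)
      · right
        have h1 : t⁻¹ * (a * b) = (t⁻¹ * a * t) * (t⁻¹ * b) := by group
        rw [h1]
        exact N.mul_mem (hn' a ha) hb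
      · right
        have h1 : t⁻¹ * (a * b) = (t⁻¹ * a) * b := by group
        rw [h1]
        exact N.mul_mem ha hb
      · left
        have h1 : a * b = (t * (t⁻¹ * a) * t⁻¹) * (t * t) * (t⁻¹ * b) := by group
        rw [h1]
        exact N.mul_mem (N.mul_mem (hn _ ha) ht2) hb
    | inv a _ ha =>
      rcases ha with ha | ha
      · exact Or.inl (N.inv_mem ha)
      · right
        have h1 : t⁻¹ * a⁻¹ = (t⁻¹ * (t⁻¹ * a)⁻¹ * t) * (t * t)⁻¹ := by group
        rw [h1]
        exact N.mul_mem (hn' _ (N.inv_mem ha)) (N.inv_mem ht2)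
  -- the surjection `N × Bool → G`
  let f : N × Bool → G := fun p => if p.2 then t * (p.1 : G) else (p.1 : G)
  have hf : Function.Surjective f := by
    intro g
    rcases hall g with hg | hg
    · exact ⟨(⟨g, hg⟩, false), rfl⟩
    · refine ⟨(⟨t⁻¹ * g, hg⟩, true), ?_⟩
      show t * (t⁻¹ * g) = g
      group
  have hfin : Finite G := Finite.of_surjective f hf
  refine ⟨hfin, ?_⟩
  have h1 := Nat.card_le_card_of_surjective f hf
  rw [Nat.card_prod, Nat.card_eq_fintype_card (α := Bool), Fintype.card_bool, mul_comm] at h1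
  exact h1

/-- the abstract order bound for `⟨z, t | z^3, t^2, (z · t z t)^2⟩`. -/
theorem sapsm4_bound (G : Type) [Group G] (z t : G) (hz : z ^ 3 = 1) (ht : t ^ 2 = 1)
    (hzt : (z * (t * z * t)) ^ 2 = 1) (hgen : Subgroup.closure {z, t} = ⊤) :
    Finite G ∧ Nat.card G ≤ 24 := by
  have htinv : t⁻¹ = t := by
    rw [inv_eq_iff_mul_eq_one, ← pow_two]; exact ht
  have htt : t * t = 1 := by rw [← pow_two]; exact ht
  -- the Carmichael family
  have hcar : CarRel (![z, t * z * t] : Fin 2 → G) := by
    constructor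
    · intro i
      fin_cases i
      · exact hz
      · show (t * z * t) ^ 3 = 1
        have h1 : (t * z * t) ^ 3 = t * z ^ 3 * t⁻¹ := by
          rw [htinv, pow_three, pow_three]
          have h2 : t * z * t * (t * z * t * (t * z * t)) = t * z * (t * t) * z * (t * t) * z * t := by
            simp only [mul_assoc]
          rw [h2, htt]
          simp only [mul_assoc, mul_one]
        rw [h1, hz, mul_one, mul_inv_cancel]
    · intro i j hij
      fin_cases i <;> fin_cases j
      · exact absurd rfl hij
      · exact hzt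
      · show (t * z * t * z) ^ 2 = 1
        have h1 : (t * z * t * z) ^ 2 = t * (z * (t * z * t)) ^ 2 * t⁻¹ := by
          rw [htinv, pow_two, pow_two]
          have h2 : t * (z * (t * z * t) * (z * (t * z * t))) * t =
              t * z * t * z * (t * z * t * z) * (t * t) := by
            simp only [mul_assoc]
          rw [h2, htt, mul_one]
        rw [h1, hzt, mul_one, mul_inv_cancel]
      · exact absurd rfl hij
  obtain ⟨hNfin, hNcard⟩ := car_card_le (![z, t * z * t] : Fin 2 → G) hcar
  rw [Nat.card_eq_fintype_card (α := Fin 2), Fintype.card_fin] at hNcard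
  have h24 : (2 + 2).factorial = 24 := by decide
  rw [h24] at hNcard
  set N : Subgroup G := Subgroup.closure (Set.range (![z, t * z * t] : Fin 2 → G)) with hN
  have hzN : z ∈ N := Subgroup.subset_closure ⟨0, rfl⟩
  have hxN : t * z * t ∈ N := Subgroup.subset_closure ⟨1, rfl⟩
  -- `t` normalises `N`
  have hnorm : ∀ x ∈ N, t * x * t⁻¹ ∈ N := by
    intro x hx
    rw [hN] at hx
    induction hx using Subgroup.closure_induction with
    | mem y hy =>
      obtain ⟨i, rfl⟩ := hy
      fin_cases i
      · show t * z * t⁻¹ ∈ N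
        rw [htinv]; exact hxN
      · show t * (t * z * t) * t⁻¹ ∈ N
        have h1 : t * (t * z * t) * t⁻¹ = (t * t) * z := by group
        rw [h1, htt, one_mul]; exact hzN
    | one => rw [mul_one, mul_inv_cancel]; exact N.one_mem
    | mul a b _ _ ha hb =>
      have h1 : t * (a * b) * t⁻¹ = (t * a * t⁻¹) * (t * b * t⁻¹) := by group
      rw [h1]; exact N.mul_mem ha hb
    | inv a _ ha =>
      have h1 : t * a⁻¹ * t⁻¹ = (t * a * t⁻¹)⁻¹ := by group
      rw [h1]; exact N.inv_mem ha
  have hgenN : N ⊔ Subgroup.zpowers t = ⊤ := by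
    rw [eq_top_iff, ← hgen, Subgroup.closure_le]
    intro y hy
    simp only [Set.mem_insert_iff, Set.mem_singleton_iff] at hy
    rcases hy with rfl | rfl
    · exact Subgroup.mem_sup_left hzN
    · exact Subgroup.mem_sup_right (Subgroup.mem_zpowers _)
  obtain ⟨hfin, hle⟩ := sapsm4_index_two N t hnorm (by rw [ht]; exact N.one_mem) hgenN
  exact ⟨hfin, by omega⟩

/-- the 3-cycle `(0 1 2)` of `Perm (Fin 4)`, written as `finRotate 4 * swap 2 3`. -/
def sapsm4_z : Perm (Fin 4) := finRotate 4 * swap 2 3

/-- the transposition `(2 3)`. -/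
def sapsm4_t : Perm (Fin 4) := swap 2 3

theorem sapsm4_gen : Subgroup.closure ({sapsm4_z, sapsm4_t} : Set (Perm (Fin 4))) = ⊤ := by
  have h := Equiv.Perm.closure_cycle_adjacent_swap (isCycle_finRotate (n := 2))
    (support_finRotate (n := 2)) (2 : Fin 4)
  have h3 : finRotate 4 (2 : Fin 4) = 3 := by decide
  rw [h3] at h
  rw [eq_top_iff, ← h, Subgroup.closure_le]
  intro y hy
  simp only [Set.mem_insert_iff, Set.mem_singleton_iff] at hy
  rcases hy with rfl | rfl
  · have h1 : finRotate 4 = sapsm4_z * sapsm4_t := by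
      unfold sapsm4_z sapsm4_t
      rw [mul_assoc, swap_mul_self, mul_one]
    rw [h1]
    exact Subgroup.mul_mem _ (Subgroup.subset_closure (by simp)) (Subgroup.subset_closure (by simp))
  · exact Subgroup.subset_closure (by simp [sapsm4_t])

/-- SM4 [M]: `S_4 = ⟨z, t | z^3, t^2, (z · t z t)^2⟩` (CAR3 with `x = ![z, t z t]`, TR2). -/
theorem pres_S4 : ∃ rels : Finset (FreeGroup (Fin 2)), rels.card ≤ 3 ∧
    Nonempty (PresentedGroup (↑rels : Set (FreeGroup (Fin 2))) ≃* Perm (Fin 4)) := by
  classical
  let L : List (FreeGroup (Fin 2)) :=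
    [FreeGroup.of 0 ^ 3, FreeGroup.of 1 ^ 2,
      (FreeGroup.of 0 * (FreeGroup.of 1 * FreeGroup.of 0 * FreeGroup.of 1)) ^ 2]
  refine ⟨L.toFinset, le_trans (List.toFinset_card_le L) (by simp [L]), ?_⟩
  apply sapsm4_pres2 L sapsm4_z sapsm4_t sapsm4_gen
  · intro r hr
    simp only [L, List.mem_cons, List.mem_nil_iff, or_false] at hr
    rcases hr with rfl | rfl | rfl
    · simp only [map_pow, FreeGroup.lift_apply_of, Matrix.cons_val_zero]
      decide
    · simp only [map_pow, FreeGroup.lift_apply_of, Matrix.cons_val_one]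
      decide
    · simp only [map_pow, map_mul, FreeGroup.lift_apply_of, Matrix.cons_val_zero, Matrix.cons_val_one]
      decide
  · intro G _ u v hgen hrel
    have h1 := hrel (FreeGroup.of 0 ^ 3) (by simp [L])
    have h2 := hrel (FreeGroup.of 1 ^ 2) (by simp [L])
    have h3 := hrel ((FreeGroup.of 0 * (FreeGroup.of 1 * FreeGroup.of 0 * FreeGroup.of 1)) ^ 2)
      (by simp [L])
    simp only [map_pow, map_mul, FreeGroup.lift_apply_of, Matrix.cons_val_zero,
      Matrix.cons_val_one] at h1 h2 h3
    have hb := sapsm4_bound G u v h1 h2 h3 hgen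
    refine ⟨hb.1, ?_⟩
    rw [Nat.card_eq_fintype_card (α := Perm (Fin 4)), Fintype.card_perm, Fintype.card_fin]
    exact hb.2

end Cfsg.Agent.Lib.helper7.SAP
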