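import Mathlib
import Cfsg.Agent.Lib.helper7.SAP.Defs
import Cfsg.Agent.Lib.helper4.SAPCAR3
import Cfsg.Agent.Lib.Helper26.SAPALT3
import Cfsg.Agent.Lib.Helper11.SAPSM4

/-!
# Project SAP (designer helper7): spares (helper11) for rows SM2 `pres_S3` and SM3 `pres_A4`

Own names `sapsm2_h11_pres_S3`, `sapsm3_h11_pres_A4` with the exact Skel statements (the rows and the verbatim names stay
helper4's), so that SM5 `pres_small` does not wait.  Both use `sapsm4_pres2`.
-/

set_option autoImplicit false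

namespace Cfsg.Agent.Lib.helper7.SAP

open Equiv

universe u

/-- the abstract order bound for `⟨z, t | z^3, t^2, (z t)^2⟩`. -/
theorem sapsm2_h11_bound (G : Type) [Group G] (z t : G) (hz : z ^ 3 = 1) (ht : t ^ 2 = 1)
    (hzt : (z * t) ^ 2 = 1) (hgen : Subgroup.closure {z, t} = ⊤) :
    Finite G ∧ Nat.card G ≤ 6 := by
  have htinv : t⁻¹ = t := by
    rw [inv_eq_iff_mul_eq_one, ← pow_two]; exact ht
  have hconj : t * z * t⁻¹ = z⁻¹ := by
    rw [htinv, eq_inv_iff_mul_eq_one]
    have h1 : t * z * t * z = t * ((z * t) ^ 2) * t⁻¹ := by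
      rw [pow_two]; group
    rw [h1, hzt, mul_one, mul_inv_cancel]
  have hfo : IsOfFinOrder z := isOfFinOrder_iff_pow_eq_one.2 ⟨3, by norm_num, hz⟩
  have hopos : 0 < orderOf z := hfo.orderOf_pos
  have hcard0 : Nat.card (Subgroup.zpowers z) = orderOf z := Nat.card_zpowers z
  have : Finite (Subgroup.zpowers z) := Nat.finite_of_card_ne_zero (by omega)
  have hcardN : Nat.card (Subgroup.zpowers z) ≤ 3 := by
    rw [Nat.card_zpowers]
    exact Nat.le_of_dvd (by norm_num) (orderOf_dvd_of_pow_eq_one hz)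
  have hnorm : ∀ x ∈ Subgroup.zpowers z, t * x * t⁻¹ ∈ Subgroup.zpowers z := by
    intro x hx
    obtain ⟨k, rfl⟩ := Subgroup.mem_zpowers_iff.1 hx
    have h1 : t * z ^ k * t⁻¹ = (t * z * t⁻¹) ^ k := by
      rw [conj_zpow]
    rw [h1, hconj]
    exact Subgroup.zpow_mem _ (Subgroup.inv_mem _ (Subgroup.mem_zpowers z)) k
  have hgenN : Subgroup.zpowers z ⊔ Subgroup.zpowers t = ⊤ := by
    rw [eq_top_iff, ← hgen, Subgroup.closure_le]
    intro y hy
    simp only [Set.mem_insert_iff, Set.mem_singleton_iff] at hy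
    rcases hy with rfl | rfl
    · exact Subgroup.mem_sup_left (Subgroup.mem_zpowers _)
    · exact Subgroup.mem_sup_right (Subgroup.mem_zpowers _)
  obtain ⟨hfin, hle⟩ := sapsm4_index_two (Subgroup.zpowers z) t hnorm
    (by rw [ht]; exact Subgroup.one_mem _) hgenN
  exact ⟨hfin, by omega⟩

theorem sapsm2_h11_gen :
    Subgroup.closure ({finRotate 3, swap (0 : Fin 3) 1} : Set (Perm (Fin 3))) = ⊤ := by
  have h := Equiv.Perm.closure_cycle_adjacent_swap (isCycle_finRotate (n := 1))
    (support_finRotate (n := 1)) (0 : Fin 3)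
  have h3 : finRotate 3 (0 : Fin 3) = 1 := by decide
  rw [h3] at h
  exact h

/-- spare for SM2 (exact Skel statement of `pres_S3`): `S_3 = ⟨z, t | z^3, t^2, (z t)^2⟩`. -/
theorem sapsm2_h11_pres_S3 : ∃ rels : Finset (FreeGroup (Fin 2)), rels.card ≤ 3 ∧
    Nonempty (PresentedGroup (↑rels : Set (FreeGroup (Fin 2))) ≃* Perm (Fin 3)) := by
  classical
  let L : List (FreeGroup (Fin 2)) :=
    [FreeGroup.of 0 ^ 3, FreeGroup.of 1 ^ 2, (FreeGroup.of 0 * FreeGroup.of 1) ^ 2]
  refine ⟨L.toFinset, le_trans (List.toFinset_card_le L) (by simp [L]), ?_⟩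
  apply sapsm4_pres2 L (finRotate 3) (swap (0 : Fin 3) 1) sapsm2_h11_gen
  · intro r hr
    simp only [L, List.mem_cons, List.mem_nil_iff, or_false] at hr
    rcases hr with rfl | rfl | rfl
    · simp only [map_pow, FreeGroup.lift_apply_of, Matrix.cons_val_zero]
      decide
    · simp only [map_pow, FreeGroup.lift_apply_of, Matrix.cons_val_one]
      decide
    · simp only [map_pow, map_mul, FreeGroup.lift_apply_of, Matrix.cons_val_zero, Matrix.cons_val_one]
      decide
  · intro G _ u v hgen hrel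
    have h1 := hrel (FreeGroup.of 0 ^ 3) (by simp [L])
    have h2 := hrel (FreeGroup.of 1 ^ 2) (by simp [L])
    have h3 := hrel ((FreeGroup.of 0 * FreeGroup.of 1) ^ 2) (by simp [L])
    simp only [map_pow, map_mul, FreeGroup.lift_apply_of, Matrix.cons_val_zero,
      Matrix.cons_val_one] at h1 h2 h3
    have hb := sapsm2_h11_bound G u v h1 h2 h3 hgen
    refine ⟨hb.1, ?_⟩
    rw [Nat.card_eq_fintype_card (α := Perm (Fin 3)), Fintype.card_perm, Fintype.card_fin]
    exact hb.2

/-- the abstract order bound for `⟨x, y | x^3, y^3, (x y)^2⟩`. -/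
theorem sapsm3_h11_bound (G : Type) [Group G] (x y : G) (hx : x ^ 3 = 1) (hy : y ^ 3 = 1)
    (hxy : (x * y) ^ 2 = 1) (hgen : Subgroup.closure {x, y} = ⊤) :
    Finite G ∧ Nat.card G ≤ 12 := by
  have hcar : CarRel (![x, y] : Fin 2 → G) := by
    constructor
    · intro i
      fin_cases i
      · exact hx
      · exact hy
    · intro i j hij
      fin_cases i <;> fin_cases j
      · exact absurd rfl hij
      · exact hxy
      · show (y * x) ^ 2 = 1
        have h1 : (y * x) ^ 2 = x⁻¹ * (x * y) ^ 2 * x := by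
          rw [pow_two, pow_two]; group
        rw [h1, hxy, mul_one, inv_mul_cancel]
      · exact absurd rfl hij
  obtain ⟨hNfin, hNcard⟩ := car_card_le (![x, y] : Fin 2 → G) hcar
  rw [Nat.card_eq_fintype_card (α := Fin 2), Fintype.card_fin] at hNcard
  have h24 : (2 + 2).factorial = 24 := by decide
  rw [h24] at hNcard
  have hrange : Set.range (![x, y] : Fin 2 → G) = {x, y} := by
    ext w
    simp only [Set.mem_range, Set.mem_insert_iff, Set.mem_singleton_iff]
    constructor
    · rintro ⟨i, rfl⟩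
      fin_cases i
      · left; rfl
      · right; rfl
    · rintro (rfl | rfl)
      · exact ⟨0, rfl⟩
      · exact ⟨1, rfl⟩
  rw [hrange, hgen] at hNfin hNcard
  rw [Subgroup.card_top] at hNcard
  have hfin : Finite G := by
    have e : (⊤ : Subgroup G) ≃ G := Subgroup.topEquiv.toEquiv
    exact Finite.of_equiv _ e
  exact ⟨hfin, by omega⟩

/-- the 3-cycle `(0 2 3)` as an element of `A_4`. -/
def sapsm3_h11_a : alternatingGroup (Fin 4) := ⟨c3 (0 : Fin 4) 2 3, by
  rw [Equiv.Perm.mem_alternatingGroup]; decide⟩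

/-- the 3-cycle `(1 2 3)` as an element of `A_4`. -/
def sapsm3_h11_b : alternatingGroup (Fin 4) := ⟨c3 (1 : Fin 4) 2 3, by
  rw [Equiv.Perm.mem_alternatingGroup]; decide⟩

theorem sapsm3_h11_gen :
    Subgroup.closure ({sapsm3_h11_a, sapsm3_h11_b} : Set (alternatingGroup (Fin 4))) = ⊤ := by
  have h := altgen (2 : Fin 4) 3 (by decide)
  apply Subgroup.map_injective (alternatingGroup (Fin 4)).subtype_injective
  rw [MonoidHom.map_closure, ← MonoidHom.range_eq_map, Subgroup.range_subtype]
  apply le_antisymm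
  · rw [Subgroup.closure_le]
    rintro _ ⟨w, _, rfl⟩
    exact w.2
  · refine le_trans (le_of_eq h.symm) ?_
    rw [Subgroup.closure_le]
    rintro _ ⟨⟨w, hw1, hw2⟩, rfl⟩
    apply Subgroup.subset_closure
    have hw : w = 0 ∨ w = 1 := by
      revert hw1 hw2; revert w; decide
    rcases hw with rfl | rfl
    · exact ⟨sapsm3_h11_a, by simp, rfl⟩
    · exact ⟨sapsm3_h11_b, by simp, rfl⟩

/-- spare for SM3 (exact Skel statement of `pres_A4`): `A_4 = ⟨x, y | x^3, y^3, (x y)^2⟩`. -/
theorem sapsm3_h11_pres_A4 : ∃ rels : Finset (FreeGroup (Fin 2)), rels.card ≤ 3 ∧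
    Nonempty (PresentedGroup (↑rels : Set (FreeGroup (Fin 2))) ≃* alternatingGroup (Fin 4)) := by
  classical
  let L : List (FreeGroup (Fin 2)) :=
    [FreeGroup.of 0 ^ 3, FreeGroup.of 1 ^ 3, (FreeGroup.of 0 * FreeGroup.of 1) ^ 2]
  refine ⟨L.toFinset, le_trans (List.toFinset_card_le L) (by simp [L]), ?_⟩
  apply sapsm4_pres2 L sapsm3_h11_a sapsm3_h11_b sapsm3_h11_gen
  · intro r hr
    simp only [L, List.mem_cons, List.mem_nil_iff, or_false] at hr
    rcases hr with rfl | rfl | rfl
    · simp only [map_pow, FreeGroup.lift_apply_of, Matrix.cons_val_zero]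
      apply Subtype.ext
      simp only [sapsm3_h11_a, c3, Subgroup.coe_pow, Subgroup.coe_one]
      decide
    · simp only [map_pow, FreeGroup.lift_apply_of, Matrix.cons_val_one]
      apply Subtype.ext
      simp only [sapsm3_h11_b, c3, Subgroup.coe_pow, Subgroup.coe_one]
      decide
    · simp only [map_pow, map_mul, FreeGroup.lift_apply_of, Matrix.cons_val_zero, Matrix.cons_val_one]
      apply Subtype.ext
      simp only [sapsm3_h11_a, sapsm3_h11_b, c3, Subgroup.coe_pow, Subgroup.coe_mul, Subgroup.coe_one]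
      decide
  · intro G _ u v hgen hrel
    have h1 := hrel (FreeGroup.of 0 ^ 3) (by simp [L])
    have h2 := hrel (FreeGroup.of 1 ^ 3) (by simp [L])
    have h3 := hrel ((FreeGroup.of 0 * FreeGroup.of 1) ^ 2) (by simp [L])
    simp only [map_pow, map_mul, FreeGroup.lift_apply_of, Matrix.cons_val_zero,
      Matrix.cons_val_one] at h1 h2 h3
    have hb := sapsm3_h11_bound G u v h1 h2 h3 hgen
    refine ⟨hb.1, ?_⟩
    have h2c := two_mul_card_alternatingGroup (α := Fin 4)
    rw [Fintype.card_perm, Fintype.card_fin] at h2c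
    have h24 : (4 : ℕ).factorial = 24 := by decide
    rw [h24] at h2c
    rw [Nat.card_eq_fintype_card (α := alternatingGroup (Fin 4))]
    omega

end Cfsg.Agent.Lib.helper7.SAP
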