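import Mathlib
import Cfsg.Agent.Lib.Helper1.SLN.Defs
import Cfsg.Agent.Lib.Helper1.SLN.Defs2
import Cfsg.Agent.Lib.helper23.SL7G1p
import Cfsg.Agent.Lib.helper8.SL7G2p
import Cfsg.Agent.Lib.Helper21.SL7G3p
import Cfsg.Agent.Lib.Helper9.SL7H1

/-!
# Project SL7 (helper1, S2288), rows H2 (`hh_transport`) and H3 (`torus_comm`): second copies by helper11 under own names.

`sl7h3_h11_hh_transport` = the EXACT statement of H2, `sl7h3_core` = H3 on the statement of H2 as a hypothesis,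
`sl7h3_h11_torus_comm` = the EXACT statement of H3.
-/

set_option autoImplicit false

namespace Cfsg.Agent.Lib.Helper1.SLN

open Matrix Equiv
open Cfsg.Agent.Lib.helper17.SLP

universe u v w

section H

variable {F : Type u} [Field F] {G : Type v} [Group G]

/-- a conjugate of the torus word, as a word in the root maps. -/
theorem sl7h3_conj_hh (M : ℕ) (α : alternatingGroup (Fin (M + 4)) →* G)
    (β : Matrix.SpecialLinearGroup (Fin 3) F →* G) (H : Glue3 M α β)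
    (σ : alternatingGroup (Fin (M + 4))) (a b : Fin 3) (hab : a ≠ b) (s : Fˣ) :
    α σ * β (hh a b hab s) * (α σ)⁻¹ =
      (gX M α β ((σ : Equiv.Perm (Fin (M + 4))) (inc M a)) ((σ : Equiv.Perm (Fin (M + 4))) (inc M b)) (s : F) *
        gX M α β ((σ : Equiv.Perm (Fin (M + 4))) (inc M b)) ((σ : Equiv.Perm (Fin (M + 4))) (inc M a))
          (-((s⁻¹ : Fˣ) : F)) *
        gX M α β ((σ : Equiv.Perm (Fin (M + 4))) (inc M a)) ((σ : Equiv.Perm (Fin (M + 4))) (inc M b)) (s : F)) *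
      (gX M α β ((σ : Equiv.Perm (Fin (M + 4))) (inc M a)) ((σ : Equiv.Perm (Fin (M + 4))) (inc M b))
          (((1 : Fˣ) : Fˣ) : F) *
        gX M α β ((σ : Equiv.Perm (Fin (M + 4))) (inc M b)) ((σ : Equiv.Perm (Fin (M + 4))) (inc M a))
          (-(((1 : Fˣ)⁻¹ : Fˣ) : F)) *
        gX M α β ((σ : Equiv.Perm (Fin (M + 4))) (inc M a)) ((σ : Equiv.Perm (Fin (M + 4))) (inc M b))
          (((1 : Fˣ) : Fˣ) : F))⁻¹ := by
  simp only [gX_frame' M α β H σ a b hab, gX_frame' M α β H σ b a hab.symm]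
  unfold hh wW
  simp only [map_mul, map_inv]
  group

/-- second copy of H2 (`hh_transport`), exact statement. -/
theorem sl7h3_h11_hh_transport (M : ℕ) (α : alternatingGroup (Fin (M + 4)) →* G)
    (β : Matrix.SpecialLinearGroup (Fin 3) F →* G) (H : Glue3 M α β)
    (σ σ' : alternatingGroup (Fin (M + 4))) (a b a' b' : Fin 3) (hab : a ≠ b) (hab' : a' ≠ b')
    (h1 : (σ : Equiv.Perm (Fin (M + 4))) (inc M a) = (σ' : Equiv.Perm (Fin (M + 4))) (inc M a'))
    (h2 : (σ : Equiv.Perm (Fin (M + 4))) (inc M b) = (σ' : Equiv.Perm (Fin (M + 4))) (inc M b'))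
    (s : Fˣ) :
    α σ * β (hh a b hab s) * (α σ)⁻¹ = α σ' * β (hh a' b' hab' s) * (α σ')⁻¹ := by
  rw [sl7h3_conj_hh M α β H σ a b hab s, sl7h3_conj_hh M α β H σ' a' b' hab' s, h1, h2]

theorem sl7h3_sg1_0 (M : ℕ) : ((sg1 M : alternatingGroup (Fin (M + 4))) : Equiv.Perm (Fin (M + 4))) (i0 M) = i0 M := by
  rw [sg1_coe, Equiv.Perm.mul_apply, Equiv.swap_apply_of_ne_of_ne (i02 M) (i03 M),
    Equiv.swap_apply_of_ne_of_ne (i01 M) (i02 M)]

theorem sl7h3_sg1_1 (M : ℕ) : ((sg1 M : alternatingGroup (Fin (M + 4))) : Equiv.Perm (Fin (M + 4))) (i1 M) = i2 M := by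
  rw [sg1_coe, Equiv.Perm.mul_apply, Equiv.swap_apply_of_ne_of_ne (i12 M) (i13 M), Equiv.swap_apply_left]

theorem sl7h3_sg1_2 (M : ℕ) : ((sg1 M : alternatingGroup (Fin (M + 4))) : Equiv.Perm (Fin (M + 4))) (i2 M) = i3 M := by
  rw [sg1_coe, Equiv.Perm.mul_apply, Equiv.swap_apply_left,
    Equiv.swap_apply_of_ne_of_ne (i13 M).symm (i23 M).symm]

theorem sl7h3_sg2_0 (M : ℕ) : ((sg2 M : alternatingGroup (Fin (M + 4))) : Equiv.Perm (Fin (M + 4))) (i0 M) = i2 M := by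
  rw [sg2_coe, Equiv.Perm.mul_apply, Equiv.swap_apply_of_ne_of_ne (i02 M) (i03 M), Equiv.swap_apply_left]

theorem sl7h3_sg2_1 (M : ℕ) : ((sg2 M : alternatingGroup (Fin (M + 4))) : Equiv.Perm (Fin (M + 4))) (i1 M) = i1 M := by
  rw [sg2_coe, Equiv.Perm.mul_apply, Equiv.swap_apply_of_ne_of_ne (i12 M) (i13 M),
    Equiv.swap_apply_of_ne_of_ne (i01 M).symm (i12 M)]

theorem sl7h3_sg2_2 (M : ℕ) : ((sg2 M : alternatingGroup (Fin (M + 4))) : Equiv.Perm (Fin (M + 4))) (i2 M) = i3 M := by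
  rw [sg2_coe, Equiv.Perm.mul_apply, Equiv.swap_apply_left,
    Equiv.swap_apply_of_ne_of_ne (i03 M).symm (i23 M).symm]

theorem sl7h3_rho_0 (M : ℕ) : ((rho M : alternatingGroup (Fin (M + 4))) : Equiv.Perm (Fin (M + 4))) (i0 M) = i2 M := by
  rw [rho_coe, Equiv.Perm.mul_apply, Equiv.swap_apply_of_ne_of_ne (i01 M) (i03 M), Equiv.swap_apply_left]

theorem sl7h3_rho_1 (M : ℕ) : ((rho M : alternatingGroup (Fin (M + 4))) : Equiv.Perm (Fin (M + 4))) (i1 M) = i3 M := by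
  rw [rho_coe, Equiv.Perm.mul_apply, Equiv.swap_apply_left,
    Equiv.swap_apply_of_ne_of_ne (i03 M).symm (i23 M).symm]

/-- the action of a transported torus element on a transported root element. -/
theorem sl7h3_act (M : ℕ) (α : alternatingGroup (Fin (M + 4)) →* G)
    (β : Matrix.SpecialLinearGroup (Fin 3) F →* G) (H : Glue3 M α β)
    (σ' : alternatingGroup (Fin (M + 4))) (g : G) (s : Fˣ)
    (hg : g = α σ' * β (hh 0 1 (by decide) s) * (α σ')⁻¹)
    (c d : Fin 3) (hcd : c ≠ d) (t : F) :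
    g * gX M α β ((σ' : Equiv.Perm (Fin (M + 4))) (inc M c)) ((σ' : Equiv.Perm (Fin (M + 4))) (inc M d)) t * g⁻¹ =
      gX M α β ((σ' : Equiv.Perm (Fin (M + 4))) (inc M c)) ((σ' : Equiv.Perm (Fin (M + 4))) (inc M d))
        (((dg 0 1 s c * (dg 0 1 s d)⁻¹ : Fˣ) : F) * t) := by
  rw [gX_frame' M α β H σ' c d hcd, gX_frame' M α β H σ' c d hcd, hg,
    ← hh_conj_tv 0 1 (by decide) s c d hcd t]
  simp only [map_mul, map_inv]
  group

/-- H3 on the statement of H2. -/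
theorem sl7h3_core (M : ℕ) (α : alternatingGroup (Fin (M + 4)) →* G)
    (β : Matrix.SpecialLinearGroup (Fin 3) F →* G) (H : Glue3 M α β)
    (hH2 : ∀ (σ σ' : alternatingGroup (Fin (M + 4))) (a b a' b' : Fin 3) (hab : a ≠ b) (hab' : a' ≠ b'),
      (σ : Equiv.Perm (Fin (M + 4))) (inc M a) = (σ' : Equiv.Perm (Fin (M + 4))) (inc M a') →
      (σ : Equiv.Perm (Fin (M + 4))) (inc M b) = (σ' : Equiv.Perm (Fin (M + 4))) (inc M b') →
      ∀ s : Fˣ, α σ * β (hh a b hab s) * (α σ)⁻¹ = α σ' * β (hh a' b' hab' s) * (α σ')⁻¹)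
    (s : Fˣ) (t : F) :
    Commute (β (emb23 (hM s))) (α (rho M) * β (emb23 (xU t)) * (α (rho M))⁻¹) ∧
      Commute (β (emb23 (hM s))) (α (rho M) * β (emb23 (xL t)) * (α (rho M))⁻¹) := by
  -- the two transported torus elements
  have e02 : β (hh 0 2 (by decide) s) = α (sg1 M) * β (hh 0 1 (by decide) s) * (α (sg1 M))⁻¹ := by
    have h := hH2 1 (sg1 M) 0 2 0 1 (by decide) (by decide)
      (by rw [inc_zero, sl7h3_sg1_0]; simp)
      (by rw [inc_two, inc_one, sl7h3_sg1_1]; simp) s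
    simpa using h
  have e21 : β (hh 2 1 (by decide) s) = α (sg2 M) * β (hh 0 1 (by decide) s) * (α (sg2 M))⁻¹ := by
    have h := hH2 1 (sg2 M) 2 1 0 1 (by decide) (by decide)
      (by rw [inc_two, inc_zero, sl7h3_sg2_0]; simp)
      (by rw [inc_one, sl7h3_sg2_1]; simp) s
    simpa using h
  -- their action on `gX 2 3`, `gX 3 2`
  have a1 : ∀ t : F, β (hh 0 2 (by decide) s) * gX M α β (i2 M) (i3 M) t * (β (hh 0 2 (by decide) s))⁻¹ =
      gX M α β (i2 M) (i3 M) (((s⁻¹ : Fˣ) : F) * t) := by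
    intro t
    have h := sl7h3_act M α β H (sg1 M) _ s e02 1 2 (by decide) t
    rw [inc_one, inc_two, sl7h3_sg1_1, sl7h3_sg1_2] at h
    rw [h]
    congr 2
    simp [dg]
  have a2 : ∀ t : F, β (hh 0 2 (by decide) s) * gX M α β (i3 M) (i2 M) t * (β (hh 0 2 (by decide) s))⁻¹ =
      gX M α β (i3 M) (i2 M) ((s : F) * t) := by
    intro t
    have h := sl7h3_act M α β H (sg1 M) _ s e02 2 1 (by decide) t
    rw [inc_one, inc_two, sl7h3_sg1_1, sl7h3_sg1_2] at h
    rw [h]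
    congr 2
    simp [dg]
  have b1 : ∀ t : F, β (hh 2 1 (by decide) s) * gX M α β (i2 M) (i3 M) t * (β (hh 2 1 (by decide) s))⁻¹ =
      gX M α β (i2 M) (i3 M) ((s : F) * t) := by
    intro t
    have h := sl7h3_act M α β H (sg2 M) _ s e21 0 2 (by decide) t
    rw [inc_zero, inc_two, sl7h3_sg2_0, sl7h3_sg2_2] at h
    rw [h]
    congr 2
    simp [dg]
  have b2 : ∀ t : F, β (hh 2 1 (by decide) s) * gX M α β (i3 M) (i2 M) t * (β (hh 2 1 (by decide) s))⁻¹ =
      gX M α β (i3 M) (i2 M) (((s⁻¹ : Fˣ) : F) * t) := by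
    intro t
    have h := sl7h3_act M α β H (sg2 M) _ s e21 2 0 (by decide) t
    rw [inc_zero, inc_two, sl7h3_sg2_0, sl7h3_sg2_2] at h
    rw [h]
    congr 2
    simp [dg]
  have hsplit : β (emb23 (hM s)) = β (hh 0 2 (by decide) s) * β (hh 2 1 (by decide) s) := by
    rw [emb23_hM, hh_split, map_mul]
  have hU : α (rho M) * β (emb23 (xU t)) * (α (rho M))⁻¹ = gX M α β (i2 M) (i3 M) t :=
    (gX_eq' M α β H (rho M) (i2 M) (i3 M) (sl7h3_rho_0 M) (sl7h3_rho_1 M) t).symm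
  have hL : α (rho M) * β (emb23 (xL t)) * (α (rho M))⁻¹ = gX M α β (i3 M) (i2 M) t :=
    (gX_low' M α β H (rho M) (i2 M) (i3 M) (sl7h3_rho_0 M) (sl7h3_rho_1 M) t).symm
  rw [hU, hL, hsplit]
  constructor
  · have h : β (hh 0 2 (by decide) s) * β (hh 2 1 (by decide) s) * gX M α β (i2 M) (i3 M) t *
        (β (hh 0 2 (by decide) s) * β (hh 2 1 (by decide) s))⁻¹ = gX M α β (i2 M) (i3 M) t := by
      have e : β (hh 0 2 (by decide) s) * β (hh 2 1 (by decide) s) * gX M α β (i2 M) (i3 M) t *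
          (β (hh 0 2 (by decide) s) * β (hh 2 1 (by decide) s))⁻¹ =
          β (hh 0 2 (by decide) s) * (β (hh 2 1 (by decide) s) * gX M α β (i2 M) (i3 M) t *
            (β (hh 2 1 (by decide) s))⁻¹) * (β (hh 0 2 (by decide) s))⁻¹ := by group
      rw [e, b1, a1]
      congr 1
      simp
    show _ * _ = _ * _
    exact mul_inv_eq_iff_eq_mul.1 h
  · have h : β (hh 0 2 (by decide) s) * β (hh 2 1 (by decide) s) * gX M α β (i3 M) (i2 M) t *
        (β (hh 0 2 (by decide) s) * β (hh 2 1 (by decide) s))⁻¹ = gX M α β (i3 M) (i2 M) t := by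
      have e : β (hh 0 2 (by decide) s) * β (hh 2 1 (by decide) s) * gX M α β (i3 M) (i2 M) t *
          (β (hh 0 2 (by decide) s) * β (hh 2 1 (by decide) s))⁻¹ =
          β (hh 0 2 (by decide) s) * (β (hh 2 1 (by decide) s) * gX M α β (i3 M) (i2 M) t *
            (β (hh 2 1 (by decide) s))⁻¹) * (β (hh 0 2 (by decide) s))⁻¹ := by group
      rw [e, b2, a2]
      congr 1
      simp
    show _ * _ = _ * _
    exact mul_inv_eq_iff_eq_mul.1 h

/-- second copy of H3 (`torus_comm`), exact statement. -/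
theorem sl7h3_h11_torus_comm (M : ℕ) (α : alternatingGroup (Fin (M + 4)) →* G)
    (β : Matrix.SpecialLinearGroup (Fin 3) F →* G) (H : Glue3 M α β) (s : Fˣ) (t : F) :
    Commute (β (emb23 (hM s))) (α (rho M) * β (emb23 (xU t)) * (α (rho M))⁻¹) ∧
      Commute (β (emb23 (hM s))) (α (rho M) * β (emb23 (xL t)) * (α (rho M))⁻¹) :=
  sl7h3_core M α β H (fun σ σ' a b a' b' hab hab' h1 h2 s =>
    sl7h3_h11_hh_transport M α β H σ σ' a b a' b' hab hab' h1 h2 s) s t

end H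

end Cfsg.Agent.Lib.Helper1.SLN
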