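import Mathlib
import Cfsg.Agent.Lib.Helper11.SL7H3h11

/-!
# Project SL7 (helper1, S2288), rows H2 (`hh_transport`) and H3 (`torus_comm`), verbatim (helper11, second writer).
-/

set_option autoImplicit false

namespace Cfsg.Agent.Lib.Helper1.SLN

open Matrix Equiv
open Cfsg.Agent.Lib.helper17.SLP

universe u v w

section H

variable {F : Type u} [Field F] {G : Type v} [Group G]

/-- H2 [S-M]  dep G3p.  Unfold `hh`, `wW`: both sides are the same word in `gX i j (±s^±1)`, `gX j i (…)` (`i = σ (inc a) = σ' (inc a')`, `j = σ (inc b) = σ' (inc b')`) by the frame lemma G3p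
(`map_mul`, `map_inv`, conjugation is multiplicative). -/
theorem hh_transport (M : ℕ) (α : alternatingGroup (Fin (M + 4)) →* G)
    (β : Matrix.SpecialLinearGroup (Fin 3) F →* G) (H : Glue3 M α β)
    (σ σ' : alternatingGroup (Fin (M + 4))) (a b a' b' : Fin 3) (hab : a ≠ b) (hab' : a' ≠ b')
    (h1 : (σ : Equiv.Perm (Fin (M + 4))) (inc M a) = (σ' : Equiv.Perm (Fin (M + 4))) (inc M a'))
    (h2 : (σ : Equiv.Perm (Fin (M + 4))) (inc M b) = (σ' : Equiv.Perm (Fin (M + 4))) (inc M b'))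
    (s : Fˣ) :
    α σ * β (hh a b hab s) * (α σ)⁻¹ = α σ' * β (hh a' b' hab' s) * (α σ')⁻¹ :=
  sl7h3_h11_hh_transport M α β H σ σ' a b a' b' hab hab' h1 h2 s

/-- H3 [M]  deps G1p G2p G3p H1 H2. -/
theorem torus_comm (M : ℕ) (α : alternatingGroup (Fin (M + 4)) →* G)
    (β : Matrix.SpecialLinearGroup (Fin 3) F →* G) (H : Glue3 M α β) (s : Fˣ) (t : F) :
    Commute (β (emb23 (hM s))) (α (rho M) * β (emb23 (xU t)) * (α (rho M))⁻¹) ∧
      Commute (β (emb23 (hM s))) (α (rho M) * β (emb23 (xL t)) * (α (rho M))⁻¹) :=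
  sl7h3_h11_torus_comm M α β H s t

end H

end Cfsg.Agent.Lib.Helper1.SLN
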