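import Mathlib
import Cfsg.Agent.Lib.Helper1.SLN.Defs
import Cfsg.Agent.Lib.Helper1.SLN.Defs2
import Cfsg.Agent.Lib.helper7.SAP.Defs
import Cfsg.Agent.Lib.helper4.SAPCAR3
import Cfsg.Agent.Lib.Helper26.SAPALT3
import Cfsg.Agent.Lib.Helper11.SAPSM4

/-!
# Project SL7 (designer helper1, S2288), row T5 `pres_A5` (helper11), verbatim

`A₅ = ⟨a, z | a³, z³, (z · a z a⁻¹)², a⁻¹ · (z · a² z⁻¹ a⁻² · a z a⁻¹ · z⁻¹)⟩`, `a ↦ (0 1 2)`, `z ↦ (0 3 4)`: Carmichael's bound (SAP CAR3, helper4) for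
`x = ![z, a z a⁻¹, a² z a⁻²]`, the fourth relator gives `a ∈ ⟨x⟩`; generation by SAP ALT3 (helper26); `sapsm4_pres2`.
-/

set_option autoImplicit false

namespace Cfsg.Agent.Lib.Helper1.SLN

open Matrix Equiv

universe u v w

theorem sl7t5_sq_swap {G : Type*} [Group G] (p q : G) (h : (p * q) ^ 2 = 1) : (q * p) ^ 2 = 1 := by
  have h1 : (q * p) ^ 2 = p⁻¹ * (p * q) ^ 2 * p := by
    rw [pow_two, pow_two]; group
  rw [h1, h, mul_one, inv_mul_cancel]

theorem sl7t5_sq_conj {G : Type*} [Group G] (g p : G) (h : p ^ 2 = 1) : (g * p * g⁻¹) ^ 2 = 1 := by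
  rw [conj_pow, h, mul_one, mul_inv_cancel]

/-- the abstract order bound. -/
theorem sl7t5_bound (G : Type) [Group G] (a z : G) (ha : a ^ 3 = 1) (hz : z ^ 3 = 1)
    (hzz : (z * (a * z * a⁻¹)) ^ 2 = 1)
    (hk : a⁻¹ * (z * (a ^ 2 * z⁻¹ * (a ^ 2)⁻¹) * (a * z * a⁻¹) * z⁻¹) = 1)
    (hgen : Subgroup.closure {a, z} = ⊤) : Finite G ∧ Nat.card G ≤ 60 := by
  have ha2 : a ^ 2 = a⁻¹ := by
    rw [eq_inv_iff_mul_eq_one, ← pow_succ]; exact ha
  have hcar : Cfsg.Agent.Lib.helper7.SAP.CarRel (![z, a * z * a⁻¹, a ^ 2 * z * (a ^ 2)⁻¹] : Fin 3 → G) := by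
    have h01 : (z * (a * z * a⁻¹)) ^ 2 = 1 := hzz
    have h12 : (a * z * a⁻¹ * (a ^ 2 * z * (a ^ 2)⁻¹)) ^ 2 = 1 := by
      have h := sl7t5_sq_conj a _ hzz
      have e : a * (z * (a * z * a⁻¹)) * a⁻¹ = a * z * a⁻¹ * (a ^ 2 * z * (a ^ 2)⁻¹) := by
        rw [pow_two]; group
      rw [e] at h; exact h
    have h20 : (a ^ 2 * z * (a ^ 2)⁻¹ * z) ^ 2 = 1 := by
      have h := sl7t5_sq_conj a⁻¹ _ hzz
      have e : a⁻¹ * (z * (a * z * a⁻¹)) * a⁻¹⁻¹ = a ^ 2 * z * (a ^ 2)⁻¹ * z := by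
        rw [ha2]; group
      rw [e] at h; exact h
    constructor
    · intro i
      fin_cases i
      · exact hz
      · show (a * z * a⁻¹) ^ 3 = 1
        rw [conj_pow, hz, mul_one, mul_inv_cancel]
      · show (a ^ 2 * z * (a ^ 2)⁻¹) ^ 3 = 1
        rw [conj_pow, hz, mul_one, mul_inv_cancel]
    · intro i j hij
      fin_cases i <;> fin_cases j
      · exact absurd rfl hij
      · exact h01
      · exact sl7t5_sq_swap _ _ h20
      · exact sl7t5_sq_swap _ _ h01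
      · exact absurd rfl hij
      · exact h12
      · exact h20
      · exact sl7t5_sq_swap _ _ h12
      · exact absurd rfl hij
  obtain ⟨hNfin, hNcard⟩ := Cfsg.Agent.Lib.helper7.SAP.car_card_le
    (![z, a * z * a⁻¹, a ^ 2 * z * (a ^ 2)⁻¹] : Fin 3 → G) hcar
  rw [Nat.card_eq_fintype_card (α := Fin 3), Fintype.card_fin] at hNcard
  have h120 : (3 + 2).factorial = 120 := by decide
  rw [h120] at hNcard
  set N : Subgroup G :=
    Subgroup.closure (Set.range (![z, a * z * a⁻¹, a ^ 2 * z * (a ^ 2)⁻¹] : Fin 3 → G)) with hN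
  have hx0 : z ∈ N := Subgroup.subset_closure ⟨0, rfl⟩
  have hx1 : a * z * a⁻¹ ∈ N := Subgroup.subset_closure ⟨1, rfl⟩
  have hx2 : a ^ 2 * z * (a ^ 2)⁻¹ ∈ N := Subgroup.subset_closure ⟨2, rfl⟩
  have haN : a ∈ N := by
    have e : a = z * (a ^ 2 * z⁻¹ * (a ^ 2)⁻¹) * (a * z * a⁻¹) * z⁻¹ := by
      have := hk
      rw [inv_mul_eq_one] at this
      exact this
    have e2 : a ^ 2 * z⁻¹ * (a ^ 2)⁻¹ = (a ^ 2 * z * (a ^ 2)⁻¹)⁻¹ := by group
    rw [e, e2]
    exact N.mul_mem (N.mul_mem (N.mul_mem hx0 (N.inv_mem hx2)) hx1) (N.inv_mem hx0)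
  have hNtop : N = ⊤ := by
    rw [eq_top_iff, ← hgen, Subgroup.closure_le]
    intro y hy
    simp only [Set.mem_insert_iff, Set.mem_singleton_iff] at hy
    rcases hy with rfl | rfl
    · exact haN
    · exact hx0
  rw [hNtop] at hNfin hNcard
  rw [Subgroup.card_top] at hNcard
  have hfin : Finite G := Finite.of_equiv _ Subgroup.topEquiv.toEquiv
  exact ⟨hfin, by omega⟩

/-- the 3-cycle `(0 1 2)` as an element of `A₅`. -/
def sl7t5_a : alternatingGroup (Fin 5) := ⟨Cfsg.Agent.Lib.helper7.SAP.c3 (0 : Fin 5) 1 2, by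
  rw [Equiv.Perm.mem_alternatingGroup]; decide⟩

/-- the 3-cycle `(0 3 4)` as an element of `A₅`. -/
def sl7t5_z : alternatingGroup (Fin 5) := ⟨Cfsg.Agent.Lib.helper7.SAP.c3 (0 : Fin 5) 3 4, by
  rw [Equiv.Perm.mem_alternatingGroup]; decide⟩

theorem sl7t5_gen :
    Subgroup.closure ({sl7t5_a, sl7t5_z} : Set (alternatingGroup (Fin 5))) = ⊤ := by
  have h := Cfsg.Agent.Lib.helper7.SAP.altgen (3 : Fin 5) 4 (by decide)
  apply Subgroup.map_injective (alternatingGroup (Fin 5)).subtype_injective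
  rw [MonoidHom.map_closure, ← MonoidHom.range_eq_map, Subgroup.range_subtype]
  apply le_antisymm
  · rw [Subgroup.closure_le]
    rintro _ ⟨w, _, rfl⟩
    exact w.2
  · refine le_trans (le_of_eq h.symm) ?_
    rw [Subgroup.closure_le]
    rintro _ ⟨⟨w, hw1, hw2⟩, rfl⟩
    have ha : ((sl7t5_a : alternatingGroup (Fin 5)) : Equiv.Perm (Fin 5)) ∈
        Subgroup.closure ((alternatingGroup (Fin 5)).subtype '' {sl7t5_a, sl7t5_z}) :=
      Subgroup.subset_closure ⟨sl7t5_a, by simp, rfl⟩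
    have hz : ((sl7t5_z : alternatingGroup (Fin 5)) : Equiv.Perm (Fin 5)) ∈
        Subgroup.closure ((alternatingGroup (Fin 5)).subtype '' {sl7t5_a, sl7t5_z}) :=
      Subgroup.subset_closure ⟨sl7t5_z, by simp, rfl⟩
    have hw : w = 0 ∨ w = 1 ∨ w = 2 := by
      revert hw1 hw2; revert w; decide
    rcases hw with rfl | rfl | rfl
    · exact hz
    · have e : Cfsg.Agent.Lib.helper7.SAP.c3 (1 : Fin 5) 3 4 =
          (sl7t5_a : Equiv.Perm (Fin 5)) * (sl7t5_z : Equiv.Perm (Fin 5)) *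
            (sl7t5_a : Equiv.Perm (Fin 5))⁻¹ := by
        simp only [sl7t5_a, sl7t5_z, Cfsg.Agent.Lib.helper7.SAP.c3]
        decide
      show Cfsg.Agent.Lib.helper7.SAP.c3 (1 : Fin 5) 3 4 ∈ _
      rw [e]
      exact Subgroup.mul_mem _ (Subgroup.mul_mem _ ha hz) (Subgroup.inv_mem _ ha)
    · have e : Cfsg.Agent.Lib.helper7.SAP.c3 (2 : Fin 5) 3 4 =
          (sl7t5_a : Equiv.Perm (Fin 5))⁻¹ * (sl7t5_z : Equiv.Perm (Fin 5)) *
            (sl7t5_a : Equiv.Perm (Fin 5)) := by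
        simp only [sl7t5_a, sl7t5_z, Cfsg.Agent.Lib.helper7.SAP.c3]
        decide
      show Cfsg.Agent.Lib.helper7.SAP.c3 (2 : Fin 5) 3 4 ∈ _
      rw [e]
      exact Subgroup.mul_mem _ (Subgroup.mul_mem _ (Subgroup.inv_mem _ ha) hz) ha

set_option maxRecDepth 8000 in
/-- T5 [M-L]  `A₅ = ⟨a, z | a³, z³, (z · a z a⁻¹)², a⁻¹ · (z · a² z⁻¹ a⁻² · a z a⁻¹ · z⁻¹)⟩` with `a ↦ (0 1 2)`, `z ↦ (0 3 4)` (order 60 by coset enumeration).  Copy of helper16's `SAPSIXcore` (`A₆`, 4-cycle) with a 3-cycle: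
`x_i := a^i z a^(-i)` (`i : ZMod 3`) satisfy Carmichael's relations (`x_i³ = 1`, `(x_i x_j)² = 1`: from the first three relators by conjugation with `a`), so `N := closure (x_i)` has at most `|A₅| = 60` elements
(`Cfsg.Agent.Lib.helper7.SAP.car_card_le`, CAR3, LANDED), the fourth relator gives `a ∈ N`, hence `N = ⊤`; `sapsm4_pres2` (`Helper11.SAPSM4`) or `sapsix_pres`-style conclusion. -/
theorem pres_A5 : ∃ rels : Finset (FreeGroup (Fin 2)), rels.card ≤ 4 ∧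
    Nonempty (PresentedGroup (↑rels : Set (FreeGroup (Fin 2))) ≃* alternatingGroup (Fin 5)) := by
  classical
  let A : FreeGroup (Fin 2) := FreeGroup.of 0
  let Z : FreeGroup (Fin 2) := FreeGroup.of 1
  let L : List (FreeGroup (Fin 2)) :=
    [A ^ 3, Z ^ 3, (Z * (A * Z * A⁻¹)) ^ 2,
      A⁻¹ * (Z * (A ^ 2 * Z⁻¹ * (A ^ 2)⁻¹) * (A * Z * A⁻¹) * Z⁻¹)]
  refine ⟨L.toFinset, le_trans (List.toFinset_card_le L) (by simp [L]), ?_⟩
  apply Cfsg.Agent.Lib.helper7.SAP.sapsm4_pres2 L sl7t5_a sl7t5_z sl7t5_gen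
  · intro r hr
    simp only [L, List.mem_cons, List.mem_nil_iff, or_false] at hr
    rcases hr with rfl | rfl | rfl | rfl
    · simp only [A, map_pow, FreeGroup.lift_apply_of, Matrix.cons_val_zero]
      apply Subtype.ext
      simp only [sl7t5_a, Cfsg.Agent.Lib.helper7.SAP.c3, Subgroup.coe_pow, Subgroup.coe_one]
      decide
    · simp only [Z, map_pow, FreeGroup.lift_apply_of, Matrix.cons_val_one]
      apply Subtype.ext
      simp only [sl7t5_z, Cfsg.Agent.Lib.helper7.SAP.c3, Subgroup.coe_pow, Subgroup.coe_one]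
      decide
    · simp only [A, Z, map_pow, map_mul, map_inv, FreeGroup.lift_apply_of, Matrix.cons_val_zero,
        Matrix.cons_val_one]
      apply Subtype.ext
      simp only [sl7t5_a, sl7t5_z, Cfsg.Agent.Lib.helper7.SAP.c3, Subgroup.coe_pow, Subgroup.coe_mul,
        Subgroup.coe_inv, Subgroup.coe_one]
      decide
    · simp only [A, Z, map_pow, map_mul, map_inv, FreeGroup.lift_apply_of, Matrix.cons_val_zero,
        Matrix.cons_val_one]
      apply Subtype.ext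
      simp only [sl7t5_a, sl7t5_z, Cfsg.Agent.Lib.helper7.SAP.c3, Subgroup.coe_pow, Subgroup.coe_mul,
        Subgroup.coe_inv, Subgroup.coe_one]
      decide
  · intro G _ u v hgen hrel
    have h1 := hrel (A ^ 3) (by simp [L])
    have h2 := hrel (Z ^ 3) (by simp [L])
    have h3 := hrel ((Z * (A * Z * A⁻¹)) ^ 2) (by simp [L])
    have h4 := hrel (A⁻¹ * (Z * (A ^ 2 * Z⁻¹ * (A ^ 2)⁻¹) * (A * Z * A⁻¹) * Z⁻¹)) (by simp [L])
    simp only [A, Z, map_pow, map_mul, map_inv, FreeGroup.lift_apply_of, Matrix.cons_val_zero,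
      Matrix.cons_val_one] at h1 h2 h3 h4
    have hb := sl7t5_bound G u v h1 h2 h3 h4 hgen
    refine ⟨hb.1, ?_⟩
    have h2c := two_mul_card_alternatingGroup (α := Fin 5)
    rw [Fintype.card_perm, Fintype.card_fin] at h2c
    have h120 : (5 : ℕ).factorial = 120 := by decide
    rw [h120] at h2c
    rw [Nat.card_eq_fintype_card (α := alternatingGroup (Fin 5))]
    omega

end Cfsg.Agent.Lib.Helper1.SLN
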