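import Mathlib
import Cfsg.Agent.Lib.helper17.SLP.Defs
import Cfsg.Agent.Lib.helper17.SL3.Defs
import Cfsg.Agent.Lib.helper17.SL3.Defs2

/-!
# Project SL3 (designer helper17), row D3 `rd_tor` (helper11)

The torus `TT d c = ⟨d, d₂⟩` normalises the five root groups: every generator acts on the root map through a power of `ζ`
(`Tor`), so it lies in the normaliser of `RG X`.  No dependency on other rows: the membership criterion of `RG X`
(`sl3d3_rg_mem_iff`) is proved here.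
-/

set_option autoImplicit false

namespace Cfsg.Agent.Lib.helper17.SL3

open Cfsg.Agent.Lib.helper17.SLP

universe u v

section D3

variable {F : Type u} [Field F] {G : Type v} [Group G]

/-- an additive map into a group sends `0` to `1`. -/
theorem sl3d3_map_zero (X : F → G) (hX : ∀ s t, X (s + t) = X s * X t) : X 0 = 1 := by
  have h := hX 0 0
  rw [add_zero] at h
  exact (mul_eq_left).1 h.symm |> fun h' => h'

/-- an additive map into a group sends `-t` to the inverse. -/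
theorem sl3d3_map_neg (X : F → G) (hX : ∀ s t, X (s + t) = X s * X t) (t : F) : X (-t) = (X t)⁻¹ := by
  have h := hX (-t) t
  rw [neg_add_cancel, sl3d3_map_zero X hX] at h
  exact eq_inv_of_mul_eq_one_left h.symm

/-- membership in a root group: the elements of `RG X` are the `X t`. -/
theorem sl3d3_rg_mem_iff (X : F → G) (hX : ∀ s t, X (s + t) = X s * X t) (g : G) :
    g ∈ RG X ↔ ∃ t, g = X t := by
  constructor
  · intro hg
    unfold RG at hg
    induction hg using Subgroup.closure_induction with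
    | mem y hy =>
      obtain ⟨t, rfl⟩ := hy
      exact ⟨t, rfl⟩
    | one => exact ⟨0, (sl3d3_map_zero X hX).symm⟩
    | mul a b _ _ ha hb =>
      obtain ⟨s, rfl⟩ := ha
      obtain ⟨t, rfl⟩ := hb
      exact ⟨s + t, (hX s t).symm⟩
    | inv a _ ha =>
      obtain ⟨s, rfl⟩ := ha
      exact ⟨-s, (sl3d3_map_neg X hX s).symm⟩
  · rintro ⟨t, rfl⟩
    exact Subgroup.subset_closure ⟨t, rfl⟩

omit [Field F] in
/-- `X t ∈ RG X`. -/
theorem sl3d3_mem_rg (X : F → G) (t : F) : X t ∈ RG X :=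
  Subgroup.subset_closure ⟨t, rfl⟩

/-- an element acting on the root map `X` through a power of `ζ` normalises `RG X`. -/
theorem sl3d3_act_normalizer (ζ : Fˣ) (X : F → G) (hX : ∀ s t, X (s + t) = X s * X t) (g : G) (e : ℤ)
    (h : Act ζ g X e) : g ∈ Subgroup.normalizer ((RG X : Subgroup G) : Set G) := by
  rw [Subgroup.mem_normalizer_iff]
  intro y
  constructor
  · intro hy
    obtain ⟨t, rfl⟩ := (sl3d3_rg_mem_iff X hX y).1 hy
    rw [h t]
    exact sl3d3_mem_rg X _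
  · intro hy
    obtain ⟨s, hs⟩ := (sl3d3_rg_mem_iff X hX _).1 hy
    have h2 := h ((((ζ ^ e : Fˣ)⁻¹ : Fˣ) : F) * s)
    rw [← mul_assoc, ← Units.val_mul, mul_inv_cancel, Units.val_one, one_mul, ← hs] at h2
    have h3 : y = X ((((ζ ^ e : Fˣ)⁻¹ : Fˣ) : F) * s) := by
      have := congrArg (fun z => g⁻¹ * z * g) h2
      simp only [mul_assoc, inv_mul_cancel_left, inv_mul_cancel, mul_one] at this
      exact this.symm
    rw [h3]
    exact sl3d3_mem_rg X _

/-- two elements acting on `X` through powers of `ζ`: their closure normalises `RG X`. -/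
theorem sl3d3_closure_conj (ζ : Fˣ) (X : F → G) (hX : ∀ s t, X (s + t) = X s * X t) (g g' : G) (e e' : ℤ)
    (h : Act ζ g X e) (h' : Act ζ g' X e') :
    ∀ τ ∈ Subgroup.closure ({g, g'} : Set G), ∀ y ∈ RG X, τ * y * τ⁻¹ ∈ RG X := by
  intro τ hτ y hy
  have hle : Subgroup.closure ({g, g'} : Set G) ≤ Subgroup.normalizer ((RG X : Subgroup G) : Set G) := by
    rw [Subgroup.closure_le]
    rintro z (rfl | rfl)
    · exact sl3d3_act_normalizer ζ X hX _ e h
    · exact sl3d3_act_normalizer ζ X hX _ e' h'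
  exact (Subgroup.mem_normalizer_iff.1 (hle hτ) y).1 hy

end D3

section D

variable {F : Type u} [Field F] [Fintype F] {G : Type v} [Group G]

/-- D3 [M]  deps D1 T4.  `Subgroup.closure_induction` on `τ ∈ TT d c = closure {d, d₂}`: the set of `τ` with `τ (RG X) τ⁻¹ ⊆ RG X` and `τ⁻¹ (RG X) τ ⊆ RG X` is a subgroup containing `d`, `d₂` (`Tor`). -/
theorem rd_tor (ζ : Fˣ) (x : F → G) (d w c : G) (hadd : ∀ s t, x (s + t) = x s * x t)
    (R : Tor ζ x d w c) :
    (∀ τ ∈ TT d c, ∀ g ∈ RG x, τ * g * τ⁻¹ ∈ RG x) ∧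
      (∀ τ ∈ TT d c, ∀ g ∈ RG (x02 x w c), τ * g * τ⁻¹ ∈ RG (x02 x w c)) ∧
      (∀ τ ∈ TT d c, ∀ g ∈ RG (x12 x c), τ * g * τ⁻¹ ∈ RG (x12 x c)) ∧
      (∀ τ ∈ TT d c, ∀ g ∈ RG (x10 x w), τ * g * τ⁻¹ ∈ RG (x10 x w)) ∧
      (∀ τ ∈ TT d c, ∀ g ∈ RG (x21 x w c), τ * g * τ⁻¹ ∈ RG (x21 x w c)) :=
  ⟨sl3d3_closure_conj ζ x hadd d (d2 d c) 1 (-2) R.t01.1 R.t01.2.1,
    sl3d3_closure_conj ζ (x02 x w c) R.add02 d (d2 d c) 2 (-1) R.t02.1 R.t02.2.1,
    sl3d3_closure_conj ζ (x12 x c) R.add12 d (d2 d c) 1 1 R.t12.1 R.t12.2.1,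
    sl3d3_closure_conj ζ (x10 x w) R.add10 d (d2 d c) (-1) 2 R.t10.1 R.t10.2.1,
    sl3d3_closure_conj ζ (x21 x w c) R.add21 d (d2 d c) (-1) (-1) R.t21.1 R.t21.2.1⟩

end D

end Cfsg.Agent.Lib.helper17.SL3
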