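import Mathlib
import Cfsg.Agent.Lib.helper17.SLP.Defs
import Cfsg.Agent.Lib.helper17.SL3.Defs
import Cfsg.Agent.Lib.helper17.SL3.Defs2
import Cfsg.Agent.Lib.Helper11.SL3D3

/-!
# Project SL3 (designer helper17), row D2 `rd_comm` (helper11)

The commutator fields `p1 p2 p3 m1 m2 m3 m4` of the root datum, read off from `Stein` (the elements of `RG X` are the
`X t`: `sl3d3_rg_mem_iff` of `Helper11.SL3D3`; no other row is used).
-/

set_option autoImplicit false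

namespace Cfsg.Agent.Lib.helper17.SL3

open Cfsg.Agent.Lib.helper17.SLP

universe u v

section D2

variable {F : Type u} [Field F] {G : Type v} [Group G]

/-- all `X s` commute with all `Y t`: the root groups commute elementwise. -/
theorem sl3d2_commute (X Y : F → G) (hX : ∀ s t, X (s + t) = X s * X t) (hY : ∀ s t, Y (s + t) = Y s * Y t)
    (h : ∀ s t, Commute (X s) (Y t)) : ∀ a ∈ RG X, ∀ b ∈ RG Y, Commute a b := by
  intro a ha b hb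
  obtain ⟨s, rfl⟩ := (sl3d3_rg_mem_iff X hX a).1 ha
  obtain ⟨t, rfl⟩ := (sl3d3_rg_mem_iff Y hY b).1 hb
  exact h s t

/-- all commutators `cm (X s) (Y t)` are values of `Z`: the commutators of the root groups lie in `RG Z`. -/
theorem sl3d2_cm_mem (X Y Z : F → G) (hX : ∀ s t, X (s + t) = X s * X t) (hY : ∀ s t, Y (s + t) = Y s * Y t)
    (h : ∀ s t, ∃ r, cm (X s) (Y t) = Z r) : ∀ a ∈ RG X, ∀ b ∈ RG Y, a * b * a⁻¹ * b⁻¹ ∈ RG Z := by
  intro a ha b hb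
  obtain ⟨s, rfl⟩ := (sl3d3_rg_mem_iff X hX a).1 ha
  obtain ⟨t, rfl⟩ := (sl3d3_rg_mem_iff Y hY b).1 hb
  obtain ⟨r, hr⟩ := h s t
  unfold cm at hr
  rw [hr]
  exact sl3d3_mem_rg Z r

/-- the same with the two arguments exchanged: `cm b a = (cm a b)⁻¹`. -/
theorem sl3d2_cm_mem' (X Y Z : F → G) (hX : ∀ s t, X (s + t) = X s * X t) (hY : ∀ s t, Y (s + t) = Y s * Y t)
    (h : ∀ s t, ∃ r, cm (X s) (Y t) = Z r) : ∀ b ∈ RG Y, ∀ a ∈ RG X, b * a * b⁻¹ * a⁻¹ ∈ RG Z := by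
  intro b hb a ha
  have h1 := sl3d2_cm_mem X Y Z hX hY h a ha b hb
  have h2 : b * a * b⁻¹ * a⁻¹ = (a * b * a⁻¹ * b⁻¹)⁻¹ := by
    simp only [mul_inv_rev, inv_inv, mul_assoc]
  rw [h2]
  exact (RG Z).inv_mem h1

end D2

section D

variable {F : Type u} [Field F] [Fintype F] {G : Type v} [Group G]

/-- D2 [M]  deps D1.  From `Stein` (elements of `RG X` are `X t`): `p1` = `r01_02`, `p2` = `k12_02`, `p3` = `c01_12`, `m1` = `r12_10`, `m2` = `c10_02`, `m3` = `k01_21`, `m4`: `c02_21` gives `cm z y = x (…)`, and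
`y z y⁻¹ z⁻¹ = (cm z y)^y…` — use `y * z * y⁻¹ * z⁻¹ = z * (z⁻¹ * y * z * y⁻¹) = z (cm z⁻¹ y) z⁻¹`… simplest: `cm y z = (cm z y)⁻¹` and `RG x` is closed under inverses. -/
theorem rd_comm (x : F → G) (w c : G) (hadd : ∀ s t, x (s + t) = x s * x t) (ζ : Fˣ) (d : G)
    (R : Tor ζ x d w c) (S : Stein x w c) :
    (∀ a ∈ RG x, ∀ z ∈ RG (x02 x w c), Commute a z) ∧
      (∀ b ∈ RG (x12 x c), ∀ z ∈ RG (x02 x w c), Commute b z) ∧
      (∀ a ∈ RG x, ∀ b ∈ RG (x12 x c), a * b * a⁻¹ * b⁻¹ ∈ RG (x02 x w c)) ∧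
      (∀ g ∈ RG (x10 x w), ∀ b ∈ RG (x12 x c), Commute g b) ∧
      (∀ g ∈ RG (x10 x w), ∀ z ∈ RG (x02 x w c), g * z * g⁻¹ * z⁻¹ ∈ RG (x12 x c)) ∧
      (∀ g ∈ RG (x21 x w c), ∀ a ∈ RG x, Commute g a) ∧
      (∀ g ∈ RG (x21 x w c), ∀ z ∈ RG (x02 x w c), g * z * g⁻¹ * z⁻¹ ∈ RG x) :=
  ⟨sl3d2_commute x (x02 x w c) hadd R.add02 S.r01_02,
    sl3d2_commute (x12 x c) (x02 x w c) R.add12 R.add02 S.k12_02,
    sl3d2_cm_mem x (x12 x c) (x02 x w c) hadd R.add12 (fun s t => ⟨s * t, S.c01_12 s t⟩),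
    sl3d2_commute (x10 x w) (x12 x c) R.add10 R.add12 (fun s t => (S.r12_10 t s).symm),
    sl3d2_cm_mem (x10 x w) (x02 x w c) (x12 x c) R.add10 R.add02 (fun s t => ⟨s * t, S.c10_02 s t⟩),
    sl3d2_commute (x21 x w c) x R.add21 hadd (fun s t => (S.k01_21 t s).symm),
    sl3d2_cm_mem' (x02 x w c) (x21 x w c) x R.add02 R.add21 (fun s t => ⟨s * t, S.c02_21 s t⟩)⟩

end D

end Cfsg.Agent.Lib.helper17.SL3
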