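import Mathlib
import Cfsg.Agent.Lib.Helper1.SLN.Defs
import Cfsg.Agent.Lib.Helper1.SLN.Defs2
import Cfsg.Agent.Lib.helper17.SL3X

/-!
# Project SL7 (helper1, S2288), row X1 (`sl3_explicit`), by helper11.

The explicit form of helper17's presentation of `SL₃(F)`: helper21's `sl3fin2_core` re-run with the relator list kept,
`L := A ++ sl7x1_wordsS' (++ [wordX])` where `sl7x1_wordsS'` is `wordsS` without `qC ^ 3`, and the isomorphism kept
(`sl7x1_pres_of_card4`: helper26's `pres_of_card4` returning the map), which sends `of 3` to `cM3 = cM`.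
-/

set_option autoImplicit false

namespace Cfsg.Agent.Lib.Helper1.SLN

open Matrix Equiv
open Cfsg.Agent.Lib.helper17.SLP
open Cfsg.Agent.Lib.helper17.SL3

universe u v w

/-- helper26's `pres_of_card4`, keeping the isomorphism: it sends `of 3` to `e`. -/
theorem sl7x1_pres_of_card4 {S : Type u} [Group S] [Finite S] (L : List (FreeGroup (Fin 4))) (a b c e : S)
    (hgen : Subgroup.closure {a, b, c, e} = ⊤) (hrel : ∀ r ∈ L, ev4 a b c e r = 1)
    (hcard : ∀ (G : Type) [Group G] (u d w c' : G), Subgroup.closure {u, d, w, c'} = ⊤ →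
      (∀ r ∈ L, ev4 u d w c' r = 1) → Finite G ∧ Nat.card G ≤ Nat.card S) :
    ∃ eL : PresentedGroup (↑L.toFinset : Set (FreeGroup (Fin 4))) ≃* S,
      eL (PresentedGroup.of 3) = e := by
  classical
  set rels : Set (FreeGroup (Fin 4)) := (↑L.toFinset : Set (FreeGroup (Fin 4))) with hrels
  have hmem : ∀ r, r ∈ rels ↔ r ∈ L := by
    intro r
    simp [hrels]
  have hr : ∀ r ∈ rels, FreeGroup.lift ![a, b, c, e] r = 1 := by
    intro r hr
    exact hrel r ((hmem r).1 hr)
  let φ : PresentedGroup rels →* S := PresentedGroup.toGroup hr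
  have hφ : ∀ i, φ (PresentedGroup.of i) = ![a, b, c, e] i :=
    fun i => PresentedGroup.toGroup.of hr
  have hsurj : Function.Surjective φ := by
    rw [← MonoidHom.range_eq_top, eq_top_iff, ← hgen, Subgroup.closure_le]
    intro x hx
    simp only [Set.mem_insert_iff, Set.mem_singleton_iff] at hx
    rcases hx with rfl | rfl | rfl | rfl
    · exact ⟨PresentedGroup.of 0, by rw [hφ]; rfl⟩
    · exact ⟨PresentedGroup.of 1, by rw [hφ]; rfl⟩
    · exact ⟨PresentedGroup.of 2, by rw [hφ]; rfl⟩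
    · exact ⟨PresentedGroup.of 3, by rw [hφ]; rfl⟩
  obtain ⟨hfin, hle⟩ := hcard (PresentedGroup rels) (PresentedGroup.of 0) (PresentedGroup.of 1)
    (PresentedGroup.of 2) (PresentedGroup.of 3) (sl3p1_closure rels) (by
      intro r hr'
      rw [sl3p1_ev_of]
      exact (PresentedGroup.mk_eq_one_iff).2 (Subgroup.subset_normalClosure ((hmem r).2 hr')))
  have hbij : Function.Bijective φ := hsurj.bijective_of_nat_card_le hle
  refine ⟨MulEquiv.ofBijective φ hbij, ?_⟩
  rw [MulEquiv.ofBijective_apply, hφ]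
  rfl

/-- the structural relators of helper17's list without `qC ^ 3`. -/
def sl7x1_wordsS' : List (FreeGroup (Fin 4)) :=
  [relK1 qU qW, relE2 qW qC, relT1 qD qC, relT2 qD qC, relTw qD qW qC, relT3 qU qD qC,
    relR1 qU qW qC, relRu qU qW qC, relR2 qU qD qW qC, relR3 qU qD qW qC]

theorem sl7x1_mem_wordsS (r : FreeGroup (Fin 4)) :
    r ∈ wordsS ↔ r = qC ^ 3 ∨ r ∈ sl7x1_wordsS' := by
  simp only [wordsS, sl7x1_wordsS', List.mem_cons, List.not_mem_nil, or_false]
  tauto

theorem sl7x1_cM3_eq {F : Type u} [Field F] :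
    (cM3 : Matrix.SpecialLinearGroup (Fin 3) F) = cM := rfl

section A

variable {F : Type u} [Field F]

/-- X1 [M]  The explicit form of helper17's presentation of `SL₃(F)` (project SL3, LANDED): `Cfsg.Agent.Lib.Helper21` `sl3fin2_core` (file `Cfsg/Agent/Lib/Helper21/SL3FIN2core.lean`) builds the relator list
`A ++ wordsS` (`++ [wordX]` if `|F| = 4`) with `wordsS = [relK1 qU qW, qC ^ 3, …]` (`helper17/SL3/Defs.lean`, `qC = of 3`) and the isomorphism sending `of 0 1 2 3` to `xM3 1, dM3 ζ, wM3, cM3` (`cM3 = cM`: same matrix).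
Re-run that proof (its hypotheses are supplied in `Cfsg/Agent/Lib/helper17/SL3X.lean`, see `sl3x_main`), keeping the list: `L := A ++ (wordsS.erase (qC ^ 3))` (`++ [wordX]`), `≤ 3 + 10` resp. `2 + 10 + 1` relators;
`((qC ^ 3) :: L).toFinset` is the same finset as before. -/
theorem sl3_explicit [Fintype F] :
    ∃ (L : List (FreeGroup (Fin 4))), L.length ≤ 13 ∧
      ∃ eL : PresentedGroup (↑((FreeGroup.of (3 : Fin 4)) ^ 3 :: L).toFinset : Set (FreeGroup (Fin 4))) ≃*
        Matrix.SpecialLinearGroup (Fin 3) F, eL (PresentedGroup.of 3) = cM := by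
  classical
  have : CharP F (ringChar F) := ringChar.charP F
  have : Fact (ringChar F).Prime := ⟨CharP.char_is_prime F (ringChar F)⟩
  obtain ⟨ζ, hζ⟩ := IsCyclic.exists_generator (α := Fˣ)
  obtain ⟨A, hA3, hA2, hAM, hAG⟩ := sl3x_ascheme3 (ringChar F) ζ hζ
  have hS10 : sl7x1_wordsS'.length = 10 := rfl
  -- the list of relators
  obtain ⟨L, hLlen, hAL, hSL, hXL, hLsub⟩ : ∃ L : List (FreeGroup (Fin 4)), L.length ≤ 13 ∧
      (∀ r ∈ A, r ∈ L) ∧ (∀ r ∈ sl7x1_wordsS', r ∈ L) ∧ (Fintype.card F = 4 → wordX ∈ L) ∧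
      (∀ r ∈ L, r ∈ A ∨ r ∈ sl7x1_wordsS' ∨ r = wordX) := by
    by_cases h4 : Fintype.card F = 4
    · have hlen2 := hA2 (sl3fin2_lt (ringChar F) h4)
      refine ⟨A ++ sl7x1_wordsS' ++ [wordX], ?_, ?_, ?_, ?_, ?_⟩
      · simp only [List.length_append, List.length_singleton, hS10]
        omega
      · intro r hr
        simp [hr]
      · intro r hr
        simp [hr]
      · intro _
        simp
      · intro r hr
        simp only [List.mem_append, List.mem_singleton] at hr
        tauto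
    · refine ⟨A ++ sl7x1_wordsS', ?_, ?_, ?_, ?_, ?_⟩
      · simp only [List.length_append, hS10]
        omega
      · intro r hr
        simp [hr]
      · intro r hr
        simp [hr]
      · intro h
        exact absurd h h4
      · intro r hr
        simp only [List.mem_append] at hr
        tauto
  refine ⟨L, hLlen, ?_⟩
  -- membership in the full list
  have hAL' : ∀ r ∈ A, r ∈ (FreeGroup.of (3 : Fin 4)) ^ 3 :: L := fun r hr =>
    List.mem_cons_of_mem _ (hAL r hr)
  have hSL' : ∀ r ∈ wordsS, r ∈ (FreeGroup.of (3 : Fin 4)) ^ 3 :: L := by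
    intro r hr
    rcases (sl7x1_mem_wordsS r).1 hr with h | h
    · rw [h]
      exact List.mem_cons_self
    · exact List.mem_cons_of_mem _ (hSL r h)
  have hXL' : Fintype.card F = 4 → wordX ∈ (FreeGroup.of (3 : Fin 4)) ^ 3 :: L := fun h =>
    List.mem_cons_of_mem _ (hXL h)
  have hLsub' : ∀ r ∈ (FreeGroup.of (3 : Fin 4)) ^ 3 :: L, r ∈ A ∨ r ∈ wordsS ∨ r = wordX := by
    intro r hr
    rcases List.mem_cons.1 hr with h | h
    · right; left
      exact (sl7x1_mem_wordsS r).2 (Or.inl h)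
    · rcases hLsub r h with h' | h' | h'
      · exact Or.inl h'
      · right; left
        exact (sl7x1_mem_wordsS r).2 (Or.inr h')
      · exact Or.inr (Or.inr h')
  have key := sl7x1_pres_of_card4 ((FreeGroup.of (3 : Fin 4)) ^ 3 :: L) (xM3 (1 : F)) (dM3 ζ) wM3 cM3
    (closure_M3 ζ hζ) (by
      intro r hr
      rcases hLsub' r hr with h | h | h
      · exact hAM r h
      · exact (ev4_wordsS _ _ _ _).mpr ⟨relK1_M3, cM3_pow_three, relE2_M3, relT1_M3 ζ, relT2_M3 ζ,
          relTw_M3 ζ, relT3_M3 ζ, relR1_M3, relRu_M3, relR2_M3 ζ, relR3_M3 ζ⟩ r h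
      · rw [h, ev4_wordX]
        exact relRx_M3 ζ) (by
      intro G _ u d w c' hgen hrel
      obtain ⟨hK1, hc3, hE2, hT1, hT2, hTw, hT3, hR1, hRu, hR2, hR3⟩ :=
        (ev4_wordsS u d w c').mp (fun r hr => hrel r (hSL' r hr))
      have hcomm := a2_of_rel u d w c' hRu hR2 hR3
      obtain ⟨x, hadd, hdc, hx1⟩ := hAG G u d w c' (fun r hr => hrel r (hAL' r hr)) hcomm
      subst hx1
      have H : Hyp ζ x d w c' :=
        ⟨hadd, hdc, hK1, hc3, hE2, hT1, hT2, hTw, hT3, hR1, hRu, hR2, hR3⟩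
      have hRx : Fintype.card F = 4 → relRx (x 1) d w c' = 1 := by
        intro h4
        have := hrel wordX (hXL' h4)
        rwa [ev4_wordX] at this
      obtain ⟨hfin, hle⟩ := sl3x_card_le_sl3 ζ hζ G x d w c' H hRx hgen
      refine ⟨hfin, ?_⟩
      rw [card_SL3]
      exact hle)
  obtain ⟨eL, heL⟩ := key
  exact ⟨eL, heL⟩

end A

end Cfsg.Agent.Lib.Helper1.SLN
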