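import Mathlib
import Cfsg.Agent.Lib.Helper1.SLN.Defs
import Cfsg.Agent.Lib.Lead.SLn
import Cfsg.Agent.Lib.Helper16.SLNM3
import Cfsg.Agent.Lib.helper4.SL7P0

/-!
# Project SL7 / SLN (designer helper1): cores (helper11) for rows MG3 `alphaM_t23`, MG4 `alphaM_stab`, MG7 `genM`

The hypotheses `hA`, `hB` are the statements of rows MG0a `alphaM_conj_tv` (at `n = M + 4`) and MG0b `betaM_tv`.
-/

set_option autoImplicit false

namespace Cfsg.Agent.Lib.Helper1.SLN

open Matrix Equiv

universe u v

section MG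

variable {F : Type u} [Field F]

/-- transvections at equal positions are equal. -/
theorem slnmg_tv_congr {n : ℕ} {i j i' j' : Fin n} (h : i ≠ j) (h' : i' ≠ j') (hi : i = i') (hj : j = j')
    (t : F) :
    Matrix.SpecialLinearGroup.transvection h t = Matrix.SpecialLinearGroup.transvection h' t := by
  subst hi; subst hj; rfl

/-- the conjugate by `alphaM σ` of the block transvection at `(a, b)`. -/
theorem slnmg_conj_block (M : ℕ)
    (hA : ∀ (σ : alternatingGroup (Fin (M + 4))) (i j : Fin (M + 4)) (h : i ≠ j) (t : F),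
      alphaM σ * Matrix.SpecialLinearGroup.transvection h t * (alphaM σ)⁻¹ =
        Matrix.SpecialLinearGroup.transvection (i := (σ : Equiv.Perm (Fin (M + 4))) i)
          (j := (σ : Equiv.Perm (Fin (M + 4))) j)
          (fun e => h ((σ : Equiv.Perm (Fin (M + 4))).injective e)) t)
    (hB : ∀ (a b : Fin 3) (h : a ≠ b) (t : F),
      betaM M (Matrix.SpecialLinearGroup.transvection h t) =
        Matrix.SpecialLinearGroup.transvection (i := inc M a) (j := inc M b)
          (fun e => h (inc_injective M e)) t)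
    (σ : alternatingGroup (Fin (M + 4))) (a b : Fin 3) (h : a ≠ b) (t : F)
    (i j : Fin (M + 4)) (hij : i ≠ j) (hi : (σ : Equiv.Perm (Fin (M + 4))) (inc M a) = i)
    (hj : (σ : Equiv.Perm (Fin (M + 4))) (inc M b) = j) :
    alphaM σ * betaM M (Matrix.SpecialLinearGroup.transvection h t) * (alphaM σ)⁻¹ =
      Matrix.SpecialLinearGroup.transvection hij t := by
  rw [hB, hA]
  exact slnmg_tv_congr _ _ hi hj t

theorem slnmg_t23_i0 (M : ℕ) : ((t23 M : alternatingGroup (Fin (M + 4))) : Equiv.Perm (Fin (M + 4))) (i0 M) = i1 M := by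
  rw [t23_coe, Equiv.Perm.mul_apply, Equiv.swap_apply_of_ne_of_ne (i02 M) (i03 M), Equiv.swap_apply_left]

theorem slnmg_t23_i1 (M : ℕ) : ((t23 M : alternatingGroup (Fin (M + 4))) : Equiv.Perm (Fin (M + 4))) (i1 M) = i0 M := by
  rw [t23_coe, Equiv.Perm.mul_apply, Equiv.swap_apply_of_ne_of_ne (i12 M) (i13 M), Equiv.swap_apply_right]

/-- a transvection of `SL₂(F)` is `xU t` or `xL t`. -/
theorem slnmg_tv2 (i j : Fin 2) (h : i ≠ j) (t : F) :
    Matrix.SpecialLinearGroup.transvection h t = xU t ∨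
      Matrix.SpecialLinearGroup.transvection h t = xL t := by
  fin_cases i <;> fin_cases j
  · exact absurd rfl h
  · left; rfl
  · right; rfl
  · exact absurd rfl h

/-- MG3 core: `(0 1)(2 3)` flips the `2 × 2` block. -/
theorem slnmg3_core (M : ℕ)
    (hA : ∀ (σ : alternatingGroup (Fin (M + 4))) (i j : Fin (M + 4)) (h : i ≠ j) (t : F),
      alphaM σ * Matrix.SpecialLinearGroup.transvection h t * (alphaM σ)⁻¹ =
        Matrix.SpecialLinearGroup.transvection (i := (σ : Equiv.Perm (Fin (M + 4))) i)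
          (j := (σ : Equiv.Perm (Fin (M + 4))) j)
          (fun e => h ((σ : Equiv.Perm (Fin (M + 4))).injective e)) t)
    (hB : ∀ (a b : Fin 3) (h : a ≠ b) (t : F),
      betaM M (Matrix.SpecialLinearGroup.transvection h t) =
        Matrix.SpecialLinearGroup.transvection (i := inc M a) (j := inc M b)
          (fun e => h (inc_injective M e)) t)
    (m : Matrix.SpecialLinearGroup (Fin 2) F) :
    alphaM (t23 M) * betaM M (emb23 m) * (alphaM (t23 M))⁻¹ = betaM M (emb23 (flip2 m)) := by
  refine Cfsg.Agent.Lib.Lead.SL_transvection_induction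
    (fun m => alphaM (t23 M) * betaM M (emb23 m) * (alphaM (t23 M))⁻¹ = betaM M (emb23 (flip2 m)))
    ?_ ?_ m
  · intro i j h t
    show alphaM (t23 M) * betaM M (emb23 (Matrix.SpecialLinearGroup.transvection h t)) *
      (alphaM (t23 M))⁻¹ = betaM M (emb23 (flip2 (Matrix.SpecialLinearGroup.transvection h t)))
    rcases slnmg_tv2 i j h t with e | e
    · rw [e, flip2_xU, emb23_xU, emb23_xL, hB (1 : Fin 3) 0 (by decide) t]
      exact slnmg_conj_block M hA hB (t23 M) 0 1 (by decide) t (inc M 1) (inc M 0) _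
        (slnmg_t23_i0 M) (slnmg_t23_i1 M)
    · rw [e, flip2_xL, emb23_xU, emb23_xL, hB (0 : Fin 3) 1 (by decide) t]
      exact slnmg_conj_block M hA hB (t23 M) 1 0 (by decide) t (inc M 0) (inc M 1) _
        (slnmg_t23_i1 M) (slnmg_t23_i0 M)
  · intro A B hA' hB'
    show alphaM (t23 M) * betaM M (emb23 (A * B)) * (alphaM (t23 M))⁻¹ =
      betaM M (emb23 (flip2 (A * B)))
    rw [map_mul, map_mul, map_mul, map_mul, map_mul, ← hA', ← hB']
    have h1 : alphaM (t23 M) * (betaM M (emb23 A) * betaM M (emb23 B)) * (alphaM (t23 M))⁻¹ =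
        (alphaM (t23 M) * betaM M (emb23 A) * (alphaM (t23 M))⁻¹) *
          (alphaM (t23 M) * betaM M (emb23 B) * (alphaM (t23 M))⁻¹) := by group
    exact h1

/-- MG4 core: the pointwise stabiliser of `0, 1` centralises the `2 × 2` block. -/
theorem slnmg4_core (M : ℕ)
    (hA : ∀ (σ : alternatingGroup (Fin (M + 4))) (i j : Fin (M + 4)) (h : i ≠ j) (t : F),
      alphaM σ * Matrix.SpecialLinearGroup.transvection h t * (alphaM σ)⁻¹ =
        Matrix.SpecialLinearGroup.transvection (i := (σ : Equiv.Perm (Fin (M + 4))) i)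
          (j := (σ : Equiv.Perm (Fin (M + 4))) j)
          (fun e => h ((σ : Equiv.Perm (Fin (M + 4))).injective e)) t)
    (hB : ∀ (a b : Fin 3) (h : a ≠ b) (t : F),
      betaM M (Matrix.SpecialLinearGroup.transvection h t) =
        Matrix.SpecialLinearGroup.transvection (i := inc M a) (j := inc M b)
          (fun e => h (inc_injective M e)) t)
    (τ : alternatingGroup (Fin (M + 4))) (hτ : τ ∈ stab01 M)
    (m : Matrix.SpecialLinearGroup (Fin 2) F) :
    alphaM τ * betaM M (emb23 m) * (alphaM τ)⁻¹ = betaM M (emb23 m) := by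
  obtain ⟨h0, h1⟩ := (mem_stab01 M τ).1 hτ
  refine Cfsg.Agent.Lib.Lead.SL_transvection_induction
    (fun m => alphaM τ * betaM M (emb23 m) * (alphaM τ)⁻¹ = betaM M (emb23 m)) ?_ ?_ m
  · intro i j h t
    show alphaM τ * betaM M (emb23 (Matrix.SpecialLinearGroup.transvection h t)) *
      (alphaM τ)⁻¹ = betaM M (emb23 (Matrix.SpecialLinearGroup.transvection h t))
    rcases slnmg_tv2 i j h t with e | e
    · rw [e, emb23_xU]
      have h01 : inc M 0 ≠ inc M 1 := fun e' => absurd (inc_injective M e') (by decide)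
      rw [slnmg_conj_block M hA hB τ 0 1 (by decide) t (inc M 0) (inc M 1) h01 h0 h1, hB]
    · rw [e, emb23_xL]
      have h10 : inc M 1 ≠ inc M 0 := fun e' => absurd (inc_injective M e') (by decide)
      rw [slnmg_conj_block M hA hB τ 1 0 (by decide) t (inc M 1) (inc M 0) h10 h1 h0, hB]
  · intro A B hA' hB'
    show alphaM τ * betaM M (emb23 (A * B)) * (alphaM τ)⁻¹ = betaM M (emb23 (A * B))
    rw [map_mul, map_mul]
    have h1 : alphaM τ * (betaM M (emb23 A) * betaM M (emb23 B)) * (alphaM τ)⁻¹ =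
        (alphaM τ * betaM M (emb23 A) * (alphaM τ)⁻¹) *
          (alphaM τ * betaM M (emb23 B) * (alphaM τ)⁻¹) := by group
    rw [h1, hA', hB']

/-- MG7 core: permutation matrices and the `3 × 3` block generate `SL_(M+4)(F)`. -/
theorem slnmg7_core (M : ℕ)
    (hA : ∀ (σ : alternatingGroup (Fin (M + 4))) (i j : Fin (M + 4)) (h : i ≠ j) (t : F),
      alphaM σ * Matrix.SpecialLinearGroup.transvection h t * (alphaM σ)⁻¹ =
        Matrix.SpecialLinearGroup.transvection (i := (σ : Equiv.Perm (Fin (M + 4))) i)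
          (j := (σ : Equiv.Perm (Fin (M + 4))) j)
          (fun e => h ((σ : Equiv.Perm (Fin (M + 4))).injective e)) t)
    (hB : ∀ (a b : Fin 3) (h : a ≠ b) (t : F),
      betaM M (Matrix.SpecialLinearGroup.transvection h t) =
        Matrix.SpecialLinearGroup.transvection (i := inc M a) (j := inc M b)
          (fun e => h (inc_injective M e)) t) :
    Subgroup.closure (Set.range (alphaM (F := F) (n := M + 4)) ∪ Set.range (betaM (F := F) M)) = ⊤ := by
  have : Nontrivial (Fin (M + 4)) := Fin.nontrivial_iff_two_le.2 (by omega)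
  rw [eq_top_iff, ← Cfsg.Agent.Lib.Lead.SL_closure_transvections (ι := Fin (M + 4)) (F := F),
    Subgroup.closure_le]
  rintro _ ⟨i, j, h, c, rfl⟩
  obtain ⟨σ, hσ0, hσ1⟩ := exists_sig2 M i j h
  have h1 := slnmg_conj_block M hA hB σ 0 1 (by decide) c i j h hσ0 hσ1
  rw [← h1]
  have hα : alphaM (F := F) σ ∈ Subgroup.closure (Set.range (alphaM (F := F) (n := M + 4)) ∪
      Set.range (betaM (F := F) M)) := Subgroup.subset_closure (Or.inl ⟨σ, rfl⟩)
  have hβ : betaM M (Matrix.SpecialLinearGroup.transvection (i := (0 : Fin 3)) (j := 1) (by decide) c) ∈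
      Subgroup.closure (Set.range (alphaM (F := F) (n := M + 4)) ∪ Set.range (betaM (F := F) M)) :=
    Subgroup.subset_closure (Or.inr ⟨_, rfl⟩)
  exact Subgroup.mul_mem _ (Subgroup.mul_mem _ hα hβ) (Subgroup.inv_mem _ hα)

end MG

end Cfsg.Agent.Lib.Helper1.SLN
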