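import Mathlib
import Cfsg.Agent.Lib.Helper1.SLN.Defs
import Cfsg.Agent.Lib.helper4.SL7MG0
import Cfsg.Agent.Lib.Helper11.SLNMGcore

/-!
# Project SL7 / SLN (designer helper1), rows MG3 `alphaM_t23`, MG4 `alphaM_stab`, MG7 `genM` (helper11), verbatim

Wrappers of the cores in `Helper11/SLNMGcore` on helper4's landed MG0a `alphaM_conj_tv`, MG0b `betaM_tv`.
-/

set_option autoImplicit false

namespace Cfsg.Agent.Lib.Helper1.SLN

open Matrix Equiv

universe u v

section MG

variable {F : Type u} [Field F]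

/-- MG3 [M]  deps MG0a MG0b M3a.  `Cfsg.Agent.Lib.Lead.SL_transvection_induction` on `m` (both sides are multiplicative in `m`): for `m = transvection 0 1 t = xU t`: `emb23_xU`, `betaM_tv`, `alphaM_conj_tv`
(`t23 0 = 1`, `t23 1 = 0`), `flip2_xU`, `emb23_xL`; same for `xL t`. -/
theorem alphaM_t23 (M : ℕ) (m : Matrix.SpecialLinearGroup (Fin 2) F) :
    alphaM (t23 M) * betaM M (emb23 m) * (alphaM (t23 M))⁻¹ = betaM M (emb23 (flip2 m)) :=
  slnmg3_core M (fun σ i j h t => alphaM_conj_tv σ i j h t) (fun a b h t => betaM_tv M a b h t) m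

/-- MG4 [S-M]  deps MG0a MG0b M3a.  Transvection induction on `m`; `τ` fixes `i0 M = inc M 0` and `i1 M = inc M 1`. -/
theorem alphaM_stab (M : ℕ) (τ : alternatingGroup (Fin (M + 4))) (hτ : τ ∈ stab01 M)
    (m : Matrix.SpecialLinearGroup (Fin 2) F) :
    alphaM τ * betaM M (emb23 m) * (alphaM τ)⁻¹ = betaM M (emb23 m) :=
  slnmg4_core M (fun σ i j h t => alphaM_conj_tv σ i j h t) (fun a b h t => betaM_tv M a b h t) τ hτ m

/-- MG7 [M]  deps P1 MG0a MG0b.  `Cfsg.Agent.Lib.Lead.SL_closure_transvections`: every `transvection (i ≠ j) t` is `alphaM σ * betaM M (transvection (0 ≠ 1) t) * (alphaM σ)⁻¹` with `σ` from P1. -/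
theorem genM (M : ℕ) :
    Subgroup.closure (Set.range (alphaM (F := F) (n := M + 4)) ∪ Set.range (betaM (F := F) M)) = ⊤ :=
  slnmg7_core M (fun σ i j h t => alphaM_conj_tv σ i j h t) (fun a b h t => betaM_tv M a b h t)

end MG

end Cfsg.Agent.Lib.Helper1.SLN
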