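import Mathlib
import Cfsg.Agent.Lib.Helper1.SLN.Defs

/-!
# Project SL7 / SLN (designer helper1), rows P4 `normalClosure_c3` and P5 `stab01_gen` (helper11), verbatim
-/

set_option autoImplicit false

namespace Cfsg.Agent.Lib.Helper1.SLN

open Matrix Equiv

universe u v

/-- conjugating `c3⁻¹` by the transposition `(0 1)` gives `c3`. -/
theorem slnp4_swap_conj (M : ℕ) :
    swap (i0 M) (i1 M) * (swap (i0 M) (i1 M) * swap (i1 M) (i2 M))⁻¹ * swap (i0 M) (i1 M) =
      swap (i0 M) (i1 M) * swap (i1 M) (i2 M) := by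
  rw [_root_.mul_inv_rev, swap_inv, swap_inv, mul_assoc, mul_assoc, Equiv.swap_mul_self, mul_one]

/-- P4 [M]  `Equiv.Perm.closure_three_cycles_eq_alternating`: it suffices that every 3-cycle `γ` (as an element of `A_n`) lies in the normal closure `K`.  `γ = π * c3 * π⁻¹` with `π : Perm`
(`Equiv.Perm.IsThreeCycle`, `Equiv.Perm.isConj_iff_cycleType_eq`, or explicitly from P0); `π` even: `γ ∈ K`.  `π` odd: `π' := π * swap (i0 M) (i1 M)` is even and
`swap i0 i1 * c3 * swap i0 i1 = c3⁻¹`, so `γ = π' * c3⁻¹ * π'⁻¹ ∈ K`.  (Transfer between `Subgroup (alternatingGroup _)` and `Subgroup (Perm _)` with `Subgroup.map (Subgroup.subtype _)`.) -/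
theorem normalClosure_c3 (M : ℕ) :
    Subgroup.normalClosure ({c3 M} : Set (alternatingGroup (Fin (M + 4)))) = ⊤ := by
  classical
  set K : Subgroup (alternatingGroup (Fin (M + 4))) :=
    Subgroup.normalClosure ({c3 M} : Set (alternatingGroup (Fin (M + 4)))) with hK
  have hKn : K.Normal := Subgroup.normalClosure_normal
  have hc : c3 M ∈ K := Subgroup.subset_normalClosure (Set.mem_singleton _)
  have hc3 : Equiv.Perm.IsThreeCycle (swap (i0 M) (i1 M) * swap (i1 M) (i2 M)) := by
    have h := Equiv.Perm.isThreeCycle_swap_mul_swap_same (i01 M).symm (i12 M) (i02 M)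
    rw [swap_comm (i1 M) (i0 M)] at h
    exact h
  -- every 3-cycle lies in `K`
  have hall : ∀ γ : Equiv.Perm (Fin (M + 4)), Equiv.Perm.IsThreeCycle γ →
      ∀ hγ : γ ∈ alternatingGroup (Fin (M + 4)), (⟨γ, hγ⟩ : alternatingGroup (Fin (M + 4))) ∈ K := by
    intro γ h3 hγ
    have hconj : IsConj (swap (i0 M) (i1 M) * swap (i1 M) (i2 M)) γ := by
      rw [Equiv.Perm.isConj_iff_cycleType_eq, hc3.cycleType, h3.cycleType]
    obtain ⟨π, hπ⟩ := isConj_iff.1 hconj
    rcases Int.units_eq_one_or (Equiv.Perm.sign π) with hs | hs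
    · -- `π` even
      have hπm : π ∈ alternatingGroup (Fin (M + 4)) := Equiv.Perm.mem_alternatingGroup.2 hs
      have h1 : (⟨γ, hγ⟩ : alternatingGroup (Fin (M + 4))) =
          (⟨π, hπm⟩ : alternatingGroup (Fin (M + 4))) * c3 M * (⟨π, hπm⟩ : alternatingGroup (Fin (M + 4)))⁻¹ := by
        apply Subtype.ext
        simp only [Subgroup.coe_mul, Subgroup.coe_inv, c3_coe]
        exact hπ.symm
      rw [h1]
      exact hKn.conj_mem _ hc _
    · -- `π` odd
      set π' : Equiv.Perm (Fin (M + 4)) := π * swap (i0 M) (i1 M) with hπ'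
      have hπm : π' ∈ alternatingGroup (Fin (M + 4)) := by
        rw [Equiv.Perm.mem_alternatingGroup, hπ', Equiv.Perm.sign_mul, hs,
          Equiv.Perm.sign_swap (i01 M)]
        norm_num
      have h1 : (⟨γ, hγ⟩ : alternatingGroup (Fin (M + 4))) =
          (⟨π', hπm⟩ : alternatingGroup (Fin (M + 4))) * (c3 M)⁻¹ *
            (⟨π', hπm⟩ : alternatingGroup (Fin (M + 4)))⁻¹ := by
        apply Subtype.ext
        simp only [Subgroup.coe_mul, Subgroup.coe_inv, c3_coe]
        rw [← hπ, hπ', _root_.mul_inv_rev, swap_inv]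
        have h2 := slnp4_swap_conj M
        calc π * (swap (i0 M) (i1 M) * swap (i1 M) (i2 M)) * π⁻¹
            = π * (swap (i0 M) (i1 M) * (swap (i0 M) (i1 M) * swap (i1 M) (i2 M))⁻¹ *
                swap (i0 M) (i1 M)) * π⁻¹ := by rw [h2]
          _ = π * swap (i0 M) (i1 M) * (swap (i0 M) (i1 M) * swap (i1 M) (i2 M))⁻¹ *
                (swap (i0 M) (i1 M) * π⁻¹) := by simp only [mul_assoc]
      rw [h1]
      exact hKn.conj_mem _ (K.inv_mem hc) _
  -- conclude
  rw [eq_top_iff]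
  intro σ _
  have hσ : (σ : Equiv.Perm (Fin (M + 4))) ∈
      Subgroup.closure {τ : Equiv.Perm (Fin (M + 4)) | Equiv.Perm.IsThreeCycle τ} := by
    rw [Equiv.Perm.closure_three_cycles_eq_alternating]
    exact σ.2
  have hmap : Subgroup.closure {τ : Equiv.Perm (Fin (M + 4)) | Equiv.Perm.IsThreeCycle τ} ≤
      K.map (alternatingGroup (Fin (M + 4))).subtype := by
    rw [Subgroup.closure_le]
    intro τ hτ
    exact ⟨⟨τ, hτ.mem_alternatingGroup⟩, hall τ hτ _, rfl⟩
  obtain ⟨σ', hσ', hσσ⟩ := hmap hσ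
  have : σ' = σ := Subtype.ext hσσ
  rw [← this]
  exact hσ'

/-- the embedding `j ↦ j + 2` of `Fin (M + 2)` onto the indices `≥ 2` of `Fin (M + 4)`. -/
def slnp5_f (M : ℕ) : Fin (M + 2) ≃ {x : Fin (M + 4) // 2 ≤ x.val} where
  toFun j := ⟨⟨j.val + 2, by omega⟩, by simp⟩
  invFun x := ⟨x.1.val - 2, by have h1 := x.2; have h2 := x.1.2; omega⟩
  left_inv j := by apply Fin.ext; simp
  right_inv x := by
    apply Subtype.ext; apply Fin.ext
    have h1 := x.2
    simp only
    omega

/-- `Perm (Fin (M + 2)) →* Perm (Fin (M + 4))`, acting on the indices `≥ 2`. -/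
noncomputable def slnp5_eps (M : ℕ) : Equiv.Perm (Fin (M + 2)) →* Equiv.Perm (Fin (M + 4)) :=
  (Equiv.Perm.ofSubtype (p := fun x : Fin (M + 4) => 2 ≤ x.val)).comp
    (slnp5_f M).permCongrHom.toMonoidHom

theorem slnp5_eps_sign (M : ℕ) (σ : Equiv.Perm (Fin (M + 2))) :
    Equiv.Perm.sign (slnp5_eps M σ) = Equiv.Perm.sign σ := by
  show Equiv.Perm.sign (Equiv.Perm.ofSubtype ((slnp5_f M).permCongr σ)) = _
  rw [Equiv.Perm.sign_ofSubtype, Equiv.Perm.sign_permCongr]

theorem slnp5_eps_fix (M : ℕ) (σ : Equiv.Perm (Fin (M + 2))) (x : Fin (M + 4)) (hx : ¬ 2 ≤ x.val) :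
    slnp5_eps M σ x = x := by
  show Equiv.Perm.ofSubtype ((slnp5_f M).permCongr σ) x = x
  exact Equiv.Perm.ofSubtype_apply_of_not_mem _ hx

/-- the restriction to the alternating groups. -/
noncomputable def slnp5_epsA (M : ℕ) : alternatingGroup (Fin (M + 2)) →* alternatingGroup (Fin (M + 4)) :=
  ((slnp5_eps M).comp (alternatingGroup (Fin (M + 2))).subtype).codRestrict _ (fun σ => by
    rw [Equiv.Perm.mem_alternatingGroup]
    show Equiv.Perm.sign (slnp5_eps M (σ : Equiv.Perm (Fin (M + 2)))) = 1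
    rw [slnp5_eps_sign]
    exact Equiv.Perm.mem_alternatingGroup.1 σ.2)

theorem slnp5_epsA_coe (M : ℕ) (σ : alternatingGroup (Fin (M + 2))) :
    ((slnp5_epsA M σ : alternatingGroup (Fin (M + 4))) : Equiv.Perm (Fin (M + 4))) =
      slnp5_eps M (σ : Equiv.Perm (Fin (M + 2))) := rfl

theorem slnp5_range (M : ℕ) : (slnp5_epsA M).range = stab01 M := by
  classical
  apply le_antisymm
  · rintro _ ⟨σ, rfl⟩
    rw [mem_stab01, slnp5_epsA_coe]
    exact ⟨slnp5_eps_fix M _ _ (by simp [i0]), slnp5_eps_fix M _ _ (by simp [i1])⟩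
  · intro τ hτ
    rw [mem_stab01] at hτ
    obtain ⟨h0, h1⟩ := hτ
    set t : Equiv.Perm (Fin (M + 4)) := (τ : Equiv.Perm (Fin (M + 4))) with ht
    have hfix : ∀ x : Fin (M + 4), ¬ 2 ≤ x.val → t x = x := by
      intro x hx
      have hx' : x = i0 M ∨ x = i1 M := by
        have : x.val = 0 ∨ x.val = 1 := by omega
        rcases this with h | h
        · left; apply Fin.ext; simpa [i0] using h
        · right; apply Fin.ext; simpa [i1] using h
      rcases hx' with rfl | rfl
      · exact h0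
      · exact h1
    have hp : ∀ x : Fin (M + 4), 2 ≤ (t x).val ↔ 2 ≤ x.val := by
      intro x
      constructor
      · intro h
        by_contra hx
        rw [hfix x hx] at h
        exact hx h
      · intro h
        by_contra hx
        have h2 := hfix (t x) hx
        have h3 : t x = x := t.injective h2
        rw [h3] at hx
        exact hx h
    have hmove : ∀ x : Fin (M + 4), t x ≠ x → 2 ≤ x.val := by
      intro x hx
      by_contra h
      exact hx (hfix x h)
    have hof : Equiv.Perm.ofSubtype (t.subtypePerm hp) = t := Equiv.Perm.ofSubtype_subtypePerm hp hmove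
    set σ : Equiv.Perm (Fin (M + 2)) := (slnp5_f M).permCongrHom.symm (t.subtypePerm hp) with hσ
    have hεσ : slnp5_eps M σ = t := by
      show Equiv.Perm.ofSubtype ((slnp5_f M).permCongrHom σ) = t
      rw [hσ, MulEquiv.apply_symm_apply]
      exact hof
    have hσA : σ ∈ alternatingGroup (Fin (M + 2)) := by
      rw [Equiv.Perm.mem_alternatingGroup, ← slnp5_eps_sign, hεσ]
      exact Equiv.Perm.mem_alternatingGroup.1 τ.2
    refine ⟨⟨σ, hσA⟩, ?_⟩
    apply Subtype.ext
    rw [slnp5_epsA_coe]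
    exact hεσ

/-- P5 [M-L]  `ε : Perm (Fin (M+2)) →* Perm (Fin (M+4))` := `Equiv.Perm.extendDomainHom` along `Fin (M+2) ≃ {x : Fin (M+4) // 2 ≤ x.val}` (`j ↦ ⟨j + 2, _⟩`); `Equiv.Perm.sign_extendDomain`:
`ε` maps `A_(M+2)` into `A_(M+4)`, the image fixes `i0 M`, `i1 M` (`Equiv.Perm.extendDomain_apply_not_subtype`), and every `τ ∈ stab01 M` is `ε` of its restriction
(`Equiv.Perm.subtypePerm`, `Equiv.Perm.extendDomain_apply_subtype`).  So `stab01 M = (closure {a, b}).map ε' = closure {ε' a, ε' b}` (`MonoidHom.map_closure`, `Set.image_pair`). -/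
theorem stab01_gen (M : ℕ) (a b : alternatingGroup (Fin (M + 2)))
    (hab : Subgroup.closure ({a, b} : Set (alternatingGroup (Fin (M + 2)))) = ⊤) :
    ∃ τ₁ τ₂ : alternatingGroup (Fin (M + 4)),
      Subgroup.closure ({τ₁, τ₂} : Set (alternatingGroup (Fin (M + 4)))) = stab01 M := by
  refine ⟨slnp5_epsA M a, slnp5_epsA M b, ?_⟩
  rw [← Set.image_pair, ← MonoidHom.map_closure, hab, ← MonoidHom.range_eq_map, slnp5_range]

end Cfsg.Agent.Lib.Helper1.SLN
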