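import Mathlib
import Cfsg.Agent.Lib.Helper1.SLN.Defs
import Cfsg.Agent.Lib.helper4.SL7MG0
import Cfsg.Agent.Lib.Helper12.SL7MG5core
import Cfsg.Agent.Lib.Helper11.SLNMG3

/-!
# Project SL7 / SLN (designer helper1), row MG6 `glueM` (helper11), verbatim

Express wrapper: MG2 (helper4), MG3 / MG4 (Helper11.SLNMG3) and helper12's landed core `slnmg5_core` of MG5 (so it does not wait for the
verbatim `alphaM_rho`).
-/

set_option autoImplicit false

namespace Cfsg.Agent.Lib.Helper1.SLN

open Matrix Equiv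

universe u v

section MG

variable {F : Type u} [Field F]

/-- MG6 [S]  deps MG2–MG5. -/
theorem glueM (M : ℕ) : Glue M (alphaM (F := F) (n := M + 4)) (betaM M) :=
  ⟨alphaM_c3 M, alphaM_t23 M, alphaM_stab M,
    fun m m' => slnmg5_core M (fun σ i j h t => alphaM_conj_tv σ i j h t)
      (fun a b h t => betaM_tv M a b h t) m m'⟩

end MG

end Cfsg.Agent.Lib.Helper1.SLN
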