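import Mathlib
import Cfsg.Prelude.Def_GeometricClasses
import Cfsg.Agent.Lib.Helper19.OU.Defs

set_option autoImplicit false
set_option linter.unusedVariables false
set_option linter.unusedSectionVars false

/-!
# Project OU (S5700, leader helper19), row EXSP (backup by helper11) : `ouexspb_ex_sing_perp` = the statement of `ex_sing_perp`
-/

namespace Cfsg.Agent.Lib.Helper19.OU

open Matrix Cfsg.Agent.Lib.Helper28.HForm Cfsg.Agent.Lib.Helper28.OGen
  Cfsg.Agent.Lib.Helper28.OMax Cfsg.Agent.Lib.Helper28.OQ Cfsg.Agent.Lib.Helper28.OMax2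
  Cfsg.Agent.Lib.Helper28.OIwa Cfsg.Agent.Lib.Helper28.OPair

variable {n : ℕ} {F : Type*} [Field F] {Q : (Fin n → F) → F}
  {f : (Fin n → F) → (Fin n → F) → F} {θ : Matrix (Fin n) (Fin n) F} {t N : F}
  {G M : Subgroup (Matrix.GeneralLinearGroup (Fin n) F)}

/-- the quadratic form on a combination of three vectors -/
theorem ouexspb_Q3 (hq : QF Q f) (p₁ p₂ p₃ : Fin n → F) (x₁ x₂ x₃ : F) :
    Q (x₁ • p₁ + x₂ • p₂ + x₃ • p₃) =
      Q p₁ * x₁ * x₁ + Q p₂ * x₂ * x₂ + Q p₃ * x₃ * x₃ + f p₁ p₂ * x₁ * x₂ + f p₁ p₃ * x₁ * x₃ +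
        f p₂ p₃ * x₂ * x₃ := by
  have hs : SymF f := hq.sym
  rw [hq.polar, hq.polar, hq.smul, hq.smul, hq.smul, hs.add_left, hs.smul_left, hs.smul_left, hs.smul_left,
    s_smul_right hs, s_smul_right hs, s_smul_right hs]
  ring

/-- EXSP : a singular vector orthogonal to `S` and outside `S`, `2 dim S + 3 ≤ n`. -/
theorem ouexspb_ex_sing_perp [Fintype F] (hq : QF Q f) (S : Submodule F (Fin n → F))
    (hS : 2 * Module.finrank F S + 3 ≤ n) :
    ∃ w, Q w = 0 ∧ (∀ s ∈ S, f s w = 0) ∧ w ∉ S := by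
  classical
  have hs : SymF f := hq.sym
  -- a basis of `S`
  let b := Module.finBasis F S
  let x : Fin (Module.finrank F S) → (Fin n → F) := fun i => (b i : Fin n → F)
  let P : Submodule F (Fin n → F) := LinearMap.ker (perpMap hs x)
  have hPmem : ∀ v, v ∈ P ↔ ∀ i, f v (x i) = 0 := fun v => mem_ker_perpMap hs x v
  have hPdim : n ≤ Module.finrank F P + Module.finrank F S := finrank_ker_ge hs x
  -- vectors of `P` are orthogonal to `S`
  have hperp : ∀ v ∈ P, ∀ s ∈ S, f s v = 0 := by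
    intro v hv s hsS
    have h1 : (⟨s, hsS⟩ : S) = ∑ i, (b.repr ⟨s, hsS⟩ i) • b i := (b.sum_repr ⟨s, hsS⟩).symm
    have h2 : s = ∑ i, (b.repr ⟨s, hsS⟩ i) • x i := by
      calc s = ((⟨s, hsS⟩ : S) : Fin n → F) := rfl
        _ = ((∑ i, (b.repr ⟨s, hsS⟩ i) • b i : S) : Fin n → F) := by rw [← h1]
        _ = ∑ i, (b.repr ⟨s, hsS⟩ i) • x i := by
          rw [Submodule.coe_sum]
          rfl
    rw [h2, f_sum_left hs]
    apply Finset.sum_eq_zero
    intro i _
    rw [hs.smul_left, s_symm hs, (hPmem v).mp hv i, mul_zero]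
  -- the image of `P` in the quotient
  let φ : P →ₗ[F] (Fin n → F) ⧸ S := (S.mkQ).domRestrict P
  have hφ : ∀ p : P, φ p = S.mkQ (p : Fin n → F) := fun p => rfl
  have hker : Module.finrank F (LinearMap.ker φ) ≤ Module.finrank F S := by
    let ψ : LinearMap.ker φ →ₗ[F] S :=
      { toFun := fun p => ⟨((p : P) : Fin n → F), by
          have := p.2
          rw [LinearMap.mem_ker, hφ, Submodule.mkQ_apply, Submodule.Quotient.mk_eq_zero] at this
          exact this⟩
        map_add' := fun _ _ => rfl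
        map_smul' := fun _ _ => rfl }
    apply LinearMap.finrank_le_finrank_of_injective (f := ψ)
    intro p p' h
    have := congrArg (fun z : S => (z : Fin n → F)) h
    exact Subtype.ext (Subtype.ext this)
  have hrange : 3 ≤ Module.finrank F (LinearMap.range φ) := by
    have := LinearMap.finrank_range_add_finrank_ker φ
    omega
  -- three independent vectors of the range
  let c := Module.finBasis F (LinearMap.range φ)
  have hinj : Function.Injective (fun i : Fin 3 => (Fin.castLE hrange i : Fin (Module.finrank F (LinearMap.range φ)))) :=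
    fun i j h => Fin.castLE_injective hrange h
  have hli : LinearIndependent F (fun i : Fin 3 => ((c (Fin.castLE hrange i) : LinearMap.range φ) : (Fin n → F) ⧸ S)) := by
    have h1 : LinearIndependent F (fun i => ((c i : LinearMap.range φ) : (Fin n → F) ⧸ S)) :=
      c.linearIndependent.map' (LinearMap.range φ).subtype (Submodule.ker_subtype _)
    exact h1.comp _ hinj
  choose p hp using fun i : Fin 3 => (c (Fin.castLE hrange i)).2
  -- Chevalley-Warning
  obtain ⟨x₁, x₂, x₃, hne, hzero⟩ := Cfsg.Agent.Lib.Helper28.Os.cw_ternary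
    (Q (p 0 : Fin n → F)) (Q (p 1 : Fin n → F)) (Q (p 2 : Fin n → F))
    (f (p 0 : Fin n → F) (p 1 : Fin n → F)) (f (p 0 : Fin n → F) (p 2 : Fin n → F))
    (f (p 1 : Fin n → F) (p 2 : Fin n → F))
  refine ⟨x₁ • (p 0 : Fin n → F) + x₂ • (p 1 : Fin n → F) + x₃ • (p 2 : Fin n → F), ?_, ?_, ?_⟩
  · rw [ouexspb_Q3 hq]
    exact hzero
  · intro s hsS
    exact hperp _ (P.add_mem (P.add_mem (P.smul_mem _ (p 0).2) (P.smul_mem _ (p 1).2)) (P.smul_mem _ (p 2).2)) s hsS
  · intro hmem
    apply hne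
    have h0 : S.mkQ (x₁ • (p 0 : Fin n → F) + x₂ • (p 1 : Fin n → F) + x₃ • (p 2 : Fin n → F)) = 0 := by
      rw [Submodule.mkQ_apply, Submodule.Quotient.mk_eq_zero]
      exact hmem
    rw [map_add, map_add, map_smul, map_smul, map_smul, ← hφ, ← hφ, ← hφ, hp 0, hp 1, hp 2] at h0
    have h3 := Fintype.linearIndependent_iff.mp hli ![x₁, x₂, x₃] (by
      rw [Fin.sum_univ_three]
      exact h0)
    exact ⟨h3 0, h3 1, h3 2⟩

end Cfsg.Agent.Lib.Helper19.OU
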