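import Mathlib
import Cfsg.Prelude.Def_GeometricClasses
import Cfsg.Agent.Lib.Helper19.OU.Defs

set_option autoImplicit false
set_option linter.unusedVariables false
set_option linter.unusedSectionVars false

/-!
# Project OU (S5700, leader helper19), row TAU : `tau_comm`, `tau_mem`, `tau_ex`, `kl_le_rs`

Self-contained (the three FORM identities needed are proved here under the names `outau_adj'`, `outau_ff`, `outau_sq_mv`).
-/

namespace Cfsg.Agent.Lib.Helper19.OU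

open Matrix Cfsg.Agent.Lib.Helper28.HForm Cfsg.Agent.Lib.Helper28.OGen
  Cfsg.Agent.Lib.Helper28.OMax Cfsg.Agent.Lib.Helper28.OQ Cfsg.Agent.Lib.Helper28.OMax2
  Cfsg.Agent.Lib.Helper28.OIwa Cfsg.Agent.Lib.Helper28.OPair

variable {n : ℕ} {F : Type*} [Field F] {Q : (Fin n → F) → F}
  {f : (Fin n → F) → (Fin n → F) → F} {θ : Matrix (Fin n) (Fin n) F} {t N : F}
  {G M : Subgroup (Matrix.GeneralLinearGroup (Fin n) F)}

/-- (= `ks_adj'` of FORM) -/
theorem outau_adj' (ks : KS Q f θ t N) (u v : Fin n → F) :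
    f u (θ *ᵥ v) = t * f u v - f (θ *ᵥ u) v := by
  rw [ks.adj u v]
  ring

/-- (= `ks_sq_mv` of FORM) -/
theorem outau_sq_mv (ks : KS Q f θ t N) (x : Fin n → F) :
    θ *ᵥ (θ *ᵥ x) = t • (θ *ᵥ x) - N • x := by
  rw [Matrix.mulVec_mulVec, ks.sq, Matrix.sub_mulVec, Matrix.smul_mulVec, Matrix.smul_mulVec, Matrix.one_mulVec]

/-- (= `ks_ff` of FORM) -/
theorem outau_ff (ks : KS Q f θ t N) (u v : Fin n → F) : f (θ *ᵥ u) (θ *ᵥ v) = N * f u v := by
  have hs : SymF f := ks.hq.sym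
  rw [ks.adj u (θ *ᵥ v), outau_sq_mv ks v, f_sub_right hs, s_smul_right hs, s_smul_right hs]
  ring

/-- two matrices agreeing on all vectors are equal -/
theorem outau_ext (A B : Matrix (Fin n) (Fin n) F) (h : ∀ x, A *ᵥ x = B *ᵥ x) : A = B := by
  apply Matrix.toLin'.injective
  apply LinearMap.ext
  intro x
  rw [Matrix.toLin'_apply, Matrix.toLin'_apply]
  exact h x

/-- TAU [M] (`tau_comm`, `tau_mem`, `tau_ex`, `kl_le_rs` = ONE row) : the unitary transvections `Tv f w (θ w) a` commute with `θ`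
(`f (w, θ x) = t f (w, x) - f (θ w, x)`, `f (θ w, θ x) = N f (w, x)`, `θ θ w = t θ w - N w`), hence lie in `M`; `K u ⊆ RS M u`
(`ρ_{u, c (α u + β θ u)} = Tv f u (θ u) (c β)`). -/
theorem tau_comm (ks : KS Q f θ t N) {g : Matrix.GeneralLinearGroup (Fin n) F} {w : Fin n → F} {a : F}
    (hg : IsSg f g w (θ *ᵥ w) a) :
    (g : Matrix (Fin n) (Fin n) F) * θ = θ * (g : Matrix (Fin n) (Fin n) F) := by
  apply outau_ext
  intro x
  rw [← Matrix.mulVec_mulVec, ← Matrix.mulVec_mulVec, hg (θ *ᵥ x), hg x]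
  unfold Tv
  rw [outau_adj' ks w x, outau_ff ks w x, Matrix.mulVec_add, Matrix.mulVec_smul, Matrix.mulVec_sub,
    Matrix.mulVec_smul, Matrix.mulVec_smul, outau_sq_mv ks w]
  module

theorem tau_mem (ks : KS Q f θ t N) (am : Amb Q f θ G M)
    {g : Matrix.GeneralLinearGroup (Fin n) F} {w : Fin n → F} {a : F} (hw : Q w = 0)
    (hg : IsSg f g w (θ *ᵥ w) a) : g ∈ M := by
  have h1 : Q (θ *ᵥ w) = 0 := by rw [ks.Qθ, hw, mul_zero]
  have h2 : f w (θ *ᵥ w) = 0 := by rw [ks.fθ, hw, mul_zero]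
  exact am.hH g (am.hG.sg g w (θ *ᵥ w) a hw h1 h2 hg) (tau_comm ks hg)

theorem tau_ex (ks : KS Q f θ t N) (am : Amb Q f θ G M) {w : Fin n → F} (hw : Q w = 0) (a : F) :
    ∃ g ∈ M, IsSg f g w (θ *ᵥ w) a := by
  have h1 : Q (θ *ᵥ w) = 0 := by rw [ks.Qθ, hw, mul_zero]
  have h2 : f w (θ *ᵥ w) = 0 := by rw [ks.fθ, hw, mul_zero]
  obtain ⟨g, hg⟩ := am.hG.ex w (θ *ᵥ w) a hw h1 h2
  exact ⟨g, tau_mem ks am hw hg, hg⟩

theorem kl_le_rs (ks : KS Q f θ t N) (am : Amb Q f θ G M) {u : Fin n → F} (hu : Q u = 0) :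
    ∀ x ∈ Kl θ u, x ∈ RS Q f M u := by
  intro x hx
  have hs : SymF f := ks.hq.sym
  obtain ⟨α, β, rfl⟩ := Submodule.mem_span_pair.mp hx
  have h1 : Q (θ *ᵥ u) = 0 := by rw [ks.Qθ, hu, mul_zero]
  have h2 : f u (θ *ᵥ u) = 0 := by rw [ks.fθ, hu, mul_zero]
  have h3 : f u u = 0 := f_sing ks.hq hu
  have hQx : ∀ c : F, Q (c • (α • u + β • (θ *ᵥ u))) = 0 := by
    intro c
    rw [ks.hq.smul, ks.hq.polar, ks.hq.smul, ks.hq.smul, hu, h1, hs.smul_left, s_smul_right hs, h2]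
    ring
  refine ⟨?_, ?_⟩
  · rw [f_add_right hs, s_smul_right hs, s_smul_right hs, h2, h3]
    ring
  · intro c g hg
    apply tau_mem ks am hu (a := c * β)
    intro y
    rw [hg y]
    unfold Rho Tv
    rw [hQx c, hs.smul_left, hs.add_left, hs.smul_left, hs.smul_left]
    module

end Cfsg.Agent.Lib.Helper19.OU
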