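import Mathlib
import Cfsg.Prelude.Def_GeometricClasses
import Cfsg.Agent.Lib.Helper19.OU.Defs
import Cfsg.Agent.Lib.Helper11.OUTAU

set_option autoImplicit false
set_option linter.unusedVariables false
set_option linter.unusedSectionVars false

/-!
# Project OU (S5700, leader helper19), row USG : `usg_ex`
-/

namespace Cfsg.Agent.Lib.Helper19.OU

open Matrix Cfsg.Agent.Lib.Helper28.HForm Cfsg.Agent.Lib.Helper28.OGen
  Cfsg.Agent.Lib.Helper28.OMax Cfsg.Agent.Lib.Helper28.OQ Cfsg.Agent.Lib.Helper28.OMax2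
  Cfsg.Agent.Lib.Helper28.OIwa Cfsg.Agent.Lib.Helper28.OPair

variable {n : ℕ} {F : Type*} [Field F] {Q : (Fin n → F) → F}
  {f : (Fin n → F) → (Fin n → F) → F} {θ : Matrix (Fin n) (Fin n) F} {t N : F}
  {G M : Subgroup (Matrix.GeneralLinearGroup (Fin n) F)}

/-- a unitary transvection at `s` does not change `f r ·` when `r ⊥ K s` -/
theorem ouusg_fix (hs : SymF f) {r s : Fin n → F} (a : F) (x : Fin n → F) (h1 : f r s = 0)
    (h2 : f r (θ *ᵥ s) = 0) : f r (Tv f s (θ *ᵥ s) a x) = f r x := by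
  unfold Tv
  rw [f_add_right hs, s_smul_right hs, f_sub_right hs, s_smul_right hs, s_smul_right hs, h1, h2]
  ring

/-- the definition of `Tv`, for rewriting one layer at a time -/
theorem ouusg_tv (u v : Fin n → F) (c : F) (x : Fin n → F) :
    Tv f u v c x = x + c • (f u x • v - f v x • u) := rfl

/-- USG [M] : the unitary Siegel element of a pair `w, w'` of singular vectors with `HO w w'`
(`= t₁ t₂ t₃`, `IsSg f t₁ (w + w') (θ (w + w')) 1`, `IsSg f t₂ w (θ w) (-1)`, `IsSg f t₃ w' (θ w') (-1)`, all in `M` by `tau_mem`;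
all images lie in `K w + K w'`, which is killed by the three nilpotent parts). -/
theorem usg_ex (ks : KS Q f θ t N) (am : Amb Q f θ G M) {w w' : Fin n → F} (hw : Q w = 0)
    (hw' : Q w' = 0) (ho : HO f θ w w') :
    ∃ g ∈ M, ∀ x, (g : Matrix (Fin n) (Fin n) F) *ᵥ x =
      x + f w x • (θ *ᵥ w') + f w' x • (θ *ᵥ w) - f (θ *ᵥ w) x • w' - f (θ *ᵥ w') x • w := by
  have hs : SymF f := ks.hq.sym
  obtain ⟨c1, c2⟩ := ho
  have z1 : f w w = 0 := f_sing ks.hq hw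
  have z2 : f w (θ *ᵥ w) = 0 := by rw [ks.fθ, hw, mul_zero]
  have z3 : f (θ *ᵥ w) w = 0 := by rw [s_symm hs]; exact z2
  have z4 : f (θ *ᵥ w) (θ *ᵥ w) = 0 := by rw [outau_ff ks, z1, mul_zero]
  have z1' : f w' w' = 0 := f_sing ks.hq hw'
  have z2' : f w' (θ *ᵥ w') = 0 := by rw [ks.fθ, hw', mul_zero]
  have z3' : f (θ *ᵥ w') w' = 0 := by rw [s_symm hs]; exact z2'
  have z4' : f (θ *ᵥ w') (θ *ᵥ w') = 0 := by rw [outau_ff ks, z1', mul_zero]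
  have c3 : f w (θ *ᵥ w') = 0 := by rw [outau_adj' ks, c1, c2]; ring
  have c4 : f (θ *ᵥ w) (θ *ᵥ w') = 0 := by rw [outau_ff ks, c1, mul_zero]
  have d1 : f w' w = 0 := by rw [s_symm hs]; exact c1
  have d2 : f w' (θ *ᵥ w) = 0 := by rw [s_symm hs]; exact c2
  have d3 : f (θ *ᵥ w') w = 0 := by rw [s_symm hs]; exact c3
  have d4 : f (θ *ᵥ w') (θ *ᵥ w) = 0 := by rw [s_symm hs]; exact c4
  have hww : Q (w + w') = 0 := by rw [ks.hq.polar, hw, hw', c1]; ring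
  obtain ⟨t₁, ht₁M, ht₁⟩ := tau_ex ks am hww 1
  obtain ⟨t₂, ht₂M, ht₂⟩ := tau_ex ks am hw (-1)
  obtain ⟨t₃, ht₃M, ht₃⟩ := tau_ex ks am hw' (-1)
  refine ⟨t₁ * t₂ * t₃, M.mul_mem (M.mul_mem ht₁M ht₂M) ht₃M, ?_⟩
  intro x
  have e : ((t₁ * t₂ * t₃ : Matrix.GeneralLinearGroup (Fin n) F) : Matrix (Fin n) (Fin n) F) *ᵥ x =
      (t₁ : Matrix (Fin n) (Fin n) F) *ᵥ ((t₂ : Matrix (Fin n) (Fin n) F) *ᵥ
        ((t₃ : Matrix (Fin n) (Fin n) F) *ᵥ x)) := by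
    rw [Units.val_mul, Units.val_mul, ← Matrix.mulVec_mulVec, ← Matrix.mulVec_mulVec]
  rw [e, ht₃ x, ht₂, ht₁]
  -- the values of the functionals
  have a1 : f w (Tv f w' (θ *ᵥ w') (-1) x) = f w x := ouusg_fix hs (-1) x c1 c3
  have a2 : f (θ *ᵥ w) (Tv f w' (θ *ᵥ w') (-1) x) = f (θ *ᵥ w) x := ouusg_fix hs (-1) x c2 c4
  have b1 : f (w + w') (Tv f w (θ *ᵥ w) (-1) (Tv f w' (θ *ᵥ w') (-1) x)) = f w x + f w' x := by
    rw [ouusg_fix hs (-1) _ (by rw [hs.add_left, z1, d1]; ring) (by rw [hs.add_left, z2, d2]; ring),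
      ouusg_fix hs (-1) _ (by rw [hs.add_left, c1, z1']; ring) (by rw [hs.add_left, c3, z2']; ring),
      hs.add_left]
  have b2 : f (θ *ᵥ (w + w')) (Tv f w (θ *ᵥ w) (-1) (Tv f w' (θ *ᵥ w') (-1) x)) =
      f (θ *ᵥ w) x + f (θ *ᵥ w') x := by
    rw [Matrix.mulVec_add,
      ouusg_fix hs (-1) _ (by rw [hs.add_left, z3, d3]; ring) (by rw [hs.add_left, z4, d4]; ring),
      ouusg_fix hs (-1) _ (by rw [hs.add_left, c2, z3']; ring) (by rw [hs.add_left, c4, z4']; ring),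
      hs.add_left]
  have e1 : Tv f (w + w') (θ *ᵥ (w + w')) 1 (Tv f w (θ *ᵥ w) (-1) (Tv f w' (θ *ᵥ w') (-1) x)) =
      Tv f w (θ *ᵥ w) (-1) (Tv f w' (θ *ᵥ w') (-1) x) +
        ((f w x + f w' x) • (θ *ᵥ w + θ *ᵥ w') - (f (θ *ᵥ w) x + f (θ *ᵥ w') x) • (w + w')) := by
    rw [ouusg_tv (w + w') (θ *ᵥ (w + w')) 1, b1, b2, Matrix.mulVec_add, one_smul]
  have e2 : Tv f w (θ *ᵥ w) (-1) (Tv f w' (θ *ᵥ w') (-1) x) =
      Tv f w' (θ *ᵥ w') (-1) x + (-1 : F) • (f w x • (θ *ᵥ w) - f (θ *ᵥ w) x • w) := by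
    rw [ouusg_tv w (θ *ᵥ w) (-1), a1, a2]
  have e3 : Tv f w' (θ *ᵥ w') (-1) x = x + (-1 : F) • (f w' x • (θ *ᵥ w') - f (θ *ᵥ w') x • w') := rfl
  rw [e1, e2, e3]
  module

end Cfsg.Agent.Lib.Helper19.OU
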