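import Mathlib
import Cfsg.Prelude.Def_GeometricClasses
import Cfsg.Agent.Lib.Helper19.OU.Defs
import Cfsg.Agent.Lib.Helper10.OUEXSS
import Cfsg.Agent.Lib.Helper25.OUKLI
import Cfsg.Agent.Lib.Helper11.OUTAU
import Cfsg.Agent.Lib.Helper11.OUUSG

set_option autoImplicit false
set_option linter.unusedVariables false
set_option linter.unusedSectionVars false

/-!
# Project OU (S5700, leader helper19), row SPR1 (backup by helper11) : core of `spread_one`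

`ouspr1_core` = `spread_one` with the three RSSUB facts (`rs_conj_fix`, `rs_add`, `rs_smul`) as hypotheses.
-/

namespace Cfsg.Agent.Lib.Helper19.OU

open Matrix Cfsg.Agent.Lib.Helper28.HForm Cfsg.Agent.Lib.Helper28.OGen
  Cfsg.Agent.Lib.Helper28.OMax Cfsg.Agent.Lib.Helper28.OQ Cfsg.Agent.Lib.Helper28.OMax2
  Cfsg.Agent.Lib.Helper28.OIwa Cfsg.Agent.Lib.Helper28.OPair

variable {n : ℕ} {F : Type*} [Field F] {Q : (Fin n → F) → F}
  {f : (Fin n → F) → (Fin n → F) → F} {θ : Matrix (Fin n) (Fin n) F} {t N : F}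
  {G M : Subgroup (Matrix.GeneralLinearGroup (Fin n) F)}

/-- (= `ho_symm` of FORM) -/
theorem ouspr1_ho_symm (ks : KS Q f θ t N) {u v : Fin n → F} (h : HO f θ u v) : HO f θ v u := by
  have hs : SymF f := ks.hq.sym
  obtain ⟨h1, h2⟩ := h
  refine ⟨by rw [s_symm hs]; exact h1, ?_⟩
  rw [ks.adj v u, s_symm hs v u, h1, s_symm hs v (θ *ᵥ u), h2]
  ring

/-- (= `ho_theta` of FORM) -/
theorem ouspr1_ho_theta (ks : KS Q f θ t N) {u v : Fin n → F} (h : HO f θ u v) :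
    f u (θ *ᵥ v) = 0 ∧ f (θ *ᵥ u) (θ *ᵥ v) = 0 := by
  obtain ⟨h1, h2⟩ := h
  refine ⟨by rw [outau_adj' ks, h1, h2]; ring, by rw [outau_ff ks, h1, mul_zero]⟩

/-- (= `ks_sing` of FORM) -/
theorem ouspr1_ks_sing (ks : KS Q f θ t N) {u : Fin n → F} (hu : Q u = 0) :
    Q (θ *ᵥ u) = 0 ∧ f u (θ *ᵥ u) = 0 ∧ f (θ *ᵥ u) u = 0 := by
  have hs : SymF f := ks.hq.sym
  have h2 : f u (θ *ᵥ u) = 0 := by rw [ks.fθ, hu, mul_zero]
  exact ⟨by rw [ks.Qθ, hu, mul_zero], h2, by rw [s_symm hs]; exact h2⟩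

/-- the element used in SPR1 : `w` singular with `HO u w`, `HO w' w` : the unitary Siegel element of `(w, w')` lies in `M`, fixes `u`
and moves `x` (`HO x w'`) by `f (w, x) θ w' - f (θ w, x) w'` -/
theorem ouspr1_move (ks : KS Q f θ t N) (am : Amb Q f θ G M) {u x w w' : Fin n → F}
    (hw : Q w = 0) (hw' : Q w' = 0) (huw : HO f θ u w) (huw' : HO f θ u w') (hw'w : HO f θ w' w)
    (hxw' : HO f θ x w') :
    ∃ g ∈ M, (g : Matrix (Fin n) (Fin n) F) *ᵥ u = u ∧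
      (g : Matrix (Fin n) (Fin n) F) *ᵥ x - x = f w x • (θ *ᵥ w') - f (θ *ᵥ w) x • w' := by
  obtain ⟨g, hgM, hg⟩ := usg_ex ks am hw hw' (ouspr1_ho_symm ks hw'w)
  have a1 := ouspr1_ho_symm ks huw
  have a2 := ouspr1_ho_symm ks huw'
  have a3 := ouspr1_ho_symm ks hxw'
  refine ⟨g, hgM, ?_, ?_⟩
  · rw [hg u, a1.1, a1.2, a2.1, a2.2]
    simp
  · rw [hg x, a3.1, a3.2]
    module

/-- SPR1 with the RSSUB facts as hypotheses -/
theorem ouspr1_core (ks : KS Q f θ t N) (am : Amb Q f θ G M) {u x w' : Fin n → F}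
    (hfix : ∀ k ∈ M, (k : Matrix (Fin n) (Fin n) F) *ᵥ u = u → ∀ y ∈ RS Q f M u,
      (k : Matrix (Fin n) (Fin n) F) *ᵥ y - y ∈ RS Q f M u)
    (hadd : ∀ y y', y ∈ RS Q f M u → y' ∈ RS Q f M u → y + y' ∈ RS Q f M u)
    (hsmul : ∀ (a : F) (y : Fin n → F), y ∈ RS Q f M u → a • y ∈ RS Q f M u)
    (hu : Q u = 0) (hu0 : u ≠ 0) (hx : Q x = 0) (hw' : Q w' = 0)
    (hux : HO f θ u x) (huw : HO f θ u w') (hxw : HO f θ x w')
    (hxu : x ∉ Kl θ u) (hw'n : w' ∉ Kl θ u ⊔ Kl θ x) (hxR : x ∈ RS Q f M u) :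
    ∀ y ∈ Kl θ w', y ∈ RS Q f M u := by
  have hs : SymF f := ks.hq.sym
  have hli := kl_li6 ks hu0 hxu hw'n
  have hxs := ouspr1_ks_sing ks hx
  have hw'x := ouspr1_ho_symm ks hxw
  have t1 := ouspr1_ho_theta ks hux
  have t2 := ouspr1_ho_theta ks hw'x
  have hxx : f x x = 0 := f_sing ks.hq hx
  -- `θ w' ∈ RS`
  have hA : θ *ᵥ w' ∈ RS Q f M u := by
    obtain ⟨w, hw, hwc⟩ := ex_sing_solve ks.hq ![u, θ *ᵥ u, x, θ *ᵥ x, w', θ *ᵥ w'] hli
      ![0, 0, 1, t, 0, 0] 2 (by simp) hx (by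
        intro i
        fin_cases i
        · exact hux.1
        · exact hux.2
        · exact hxx
        · exact hxs.2.2
        · exact hw'x.1
        · exact hw'x.2)
    have c0 : f u w = 0 := hwc 0
    have c1 : f (θ *ᵥ u) w = 0 := hwc 1
    have c2 : f x w = 1 := hwc 2
    have c3 : f (θ *ᵥ x) w = t := hwc 3
    have c4 : f w' w = 0 := hwc 4
    have c5 : f (θ *ᵥ w') w = 0 := hwc 5
    obtain ⟨g, hgM, hgu, hgx⟩ := ouspr1_move ks am hw hw' ⟨c0, c1⟩ huw ⟨c4, c5⟩ hxw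
    have e1 : f w x = 1 := by rw [s_symm hs]; exact c2
    have e2 : f (θ *ᵥ w) x = 0 := by
      rw [ks.adj w x, e1, s_symm hs w (θ *ᵥ x), c3]
      ring
    have := hfix g hgM hgu x hxR
    rw [hgx, e1, e2] at this
    simpa using this
  -- `w' ∈ RS`
  have hB : w' ∈ RS Q f M u := by
    obtain ⟨w, hw, hwc⟩ := ex_sing_solve ks.hq ![u, θ *ᵥ u, x, θ *ᵥ x, w', θ *ᵥ w'] hli
      ![0, 0, 0, 1, 0, 0] 3 (by simp) hxs.1 (by
        intro i
        fin_cases i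
        · exact t1.1
        · exact t1.2
        · exact hxs.2.1
        · show f (θ *ᵥ x) (θ *ᵥ x) = 0
          rw [outau_ff ks, hxx, mul_zero]
        · exact t2.1
        · exact t2.2)
    have c0 : f u w = 0 := hwc 0
    have c1 : f (θ *ᵥ u) w = 0 := hwc 1
    have c2 : f x w = 0 := hwc 2
    have c3 : f (θ *ᵥ x) w = 1 := hwc 3
    have c4 : f w' w = 0 := hwc 4
    have c5 : f (θ *ᵥ w') w = 0 := hwc 5
    obtain ⟨g, hgM, hgu, hgx⟩ := ouspr1_move ks am hw hw' ⟨c0, c1⟩ huw ⟨c4, c5⟩ hxw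
    have e1 : f w x = 0 := by rw [s_symm hs]; exact c2
    have e2 : f (θ *ᵥ w) x = -1 := by
      rw [ks.adj w x, e1, s_symm hs w (θ *ᵥ x), c3]
      ring
    have := hfix g hgM hgu x hxR
    rw [hgx, e1, e2] at this
    simpa using this
  intro y hy
  obtain ⟨α, β, rfl⟩ := Submodule.mem_span_pair.mp hy
  exact hadd _ _ (hsmul α _ hB) (hsmul β _ hA)

end Cfsg.Agent.Lib.Helper19.OU
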