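import Mathlib
import Cfsg.Prelude.Def_GeometricClasses
import Cfsg.Agent.Lib.Helper19.OU.Defs
import Cfsg.Agent.Lib.Helper20.OUKLIN
import Cfsg.Agent.Lib.Helper13.OUFORM
import Cfsg.Agent.Lib.Helper1.OURSSUB
import Cfsg.Agent.Lib.Helper11.OUTAU
import Cfsg.Agent.Lib.Helper11.OUSPR1core
import Cfsg.Agent.Lib.Helper11.OUEXSPb

set_option autoImplicit false
set_option linter.unusedVariables false
set_option linter.unusedSectionVars false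

/-!
# Project OU (S5700, leader helper19), row SPRA : `spread_A`
-/

namespace Cfsg.Agent.Lib.Helper19.OU

open Matrix Cfsg.Agent.Lib.Helper28.HForm Cfsg.Agent.Lib.Helper28.OGen
  Cfsg.Agent.Lib.Helper28.OMax Cfsg.Agent.Lib.Helper28.OQ Cfsg.Agent.Lib.Helper28.OMax2
  Cfsg.Agent.Lib.Helper28.OIwa Cfsg.Agent.Lib.Helper28.OPair

variable {n : ℕ} {F : Type*} [Field F] {Q : (Fin n → F) → F}
  {f : (Fin n → F) → (Fin n → F) → F} {θ : Matrix (Fin n) (Fin n) F} {t N : F}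
  {G M : Subgroup (Matrix.GeneralLinearGroup (Fin n) F)}

/-- `u ∈ K u` -/
theorem ouspra_self_mem (θ : Matrix (Fin n) (Fin n) F) (u : Fin n → F) : u ∈ Kl θ u :=
  Submodule.subset_span (Set.mem_insert _ _)

/-- `θ u ∈ K u` -/
theorem ouspra_theta_self_mem (θ : Matrix (Fin n) (Fin n) F) (u : Fin n → F) : θ *ᵥ u ∈ Kl θ u :=
  Submodule.subset_span (Set.mem_insert_of_mem _ (Set.mem_singleton _))

/-- `K u` is `θ`-stable -/
theorem ouspra_stable (ks : KS Q f θ t N) (u : Fin n → F) : ∀ x ∈ Kl θ u, θ *ᵥ x ∈ Kl θ u :=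
  fun x hx => kl_theta_mem ks hx

/-- a singular vector `⊥ K u ⊔ K v`, outside, with the two `HO` relations -/
theorem ouspra_nbr [Fintype F] (hn : 11 ≤ n) (ks : KS Q f θ t N) (u v : Fin n → F) :
    ∃ w, Q w = 0 ∧ HO f θ u w ∧ HO f θ v w ∧ w ∉ Kl θ u ⊔ Kl θ v := by
  have h4 := kl_sup_finrank_le θ u v
  obtain ⟨w, hw, hperp, hout⟩ := ouexspb_ex_sing_perp (Q := Q) ks.hq (Kl θ u ⊔ Kl θ v) (by omega)
  exact ⟨w, hw, ho_of_perp ks _ le_sup_left hperp, ho_of_perp ks _ le_sup_right hperp, hout⟩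

/-- `spread_one` (SPR1) from `ouspr1_core` and RSSUB, under my own name -/
theorem ouspra_spread_one (ks : KS Q f θ t N) (am : Amb Q f θ G M) {u x w' : Fin n → F}
    (hu : Q u = 0) (hu0 : u ≠ 0) (hx : Q x = 0) (hw' : Q w' = 0)
    (hux : HO f θ u x) (huw : HO f θ u w') (hxw : HO f θ x w')
    (hxu : x ∉ Kl θ u) (hw'n : w' ∉ Kl θ u ⊔ Kl θ x) (hxR : x ∈ RS Q f M u) :
    ∀ y ∈ Kl θ w', y ∈ RS Q f M u :=
  ouspr1_core ks am
    (fun k hk hku y hy => rs_conj_fix ks.hq am.vf am.hG am.hM hk hu hu0 hku hy)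
    (fun y y' hy hy' => rs_add ks.hq am.vf am.hG hu hu0 hy hy')
    (fun a y hy => rs_smul ks.hq a hy) hu hu0 hx hw' hux huw hxw hxu hw'n hxR

/-- the two-step spreading: `x ∈ RS M u` singular, `HO u x`, `x ∉ K u`, and `y` singular with `HO u y`, `HO x y`,
`y ∉ K u ⊔ K x` : `K y ⊆ RS M u` (this is `spread_one`), stated for the use below -/
theorem ouspra_step (ks : KS Q f θ t N) (am : Amb Q f θ G M) {u x y : Fin n → F}
    (hu : Q u = 0) (hu0 : u ≠ 0) (hx : Q x = 0) (hy : Q y = 0)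
    (hux : HO f θ u x) (huy : HO f θ u y) (hxy : HO f θ x y)
    (hxu : x ∉ Kl θ u) (hyn : y ∉ Kl θ u ⊔ Kl θ x) (hxR : x ∈ RS Q f M u) : y ∈ RS Q f M u :=
  ouspra_spread_one ks am hu hu0 hx hy hux huy hxy hxu hyn hxR y (ouspra_self_mem θ y)

/-- SPRA [L] : a type-1 pair gives `Full1 u`. -/
theorem spread_A [Fintype F] (hn : 11 ≤ n) (ks : KS Q f θ t N) (am : Amb Q f θ G M)
    {u v : Fin n → F} (hu : Q u = 0) (hu0 : u ≠ 0) (hv : Q v = 0) (huv : HO f θ u v)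
    (hvu : v ∉ Kl θ u) (hvR : v ∈ RS Q f M u) : Full1 Q f θ M u := by
  classical
  have hq : QF Q f := ks.hq
  -- step 0 : `K v ⊆ RS M u`
  obtain ⟨w₀, hw₀, huw₀, hvw₀, hw₀out⟩ := ouspra_nbr hn ks u v
  have hw₀R : w₀ ∈ RS Q f M u :=
    ouspra_step ks am hu hu0 hv hw₀ huv huw₀ hvw₀ hvu hw₀out hvR
  have hw₀u : w₀ ∉ Kl θ u := fun h => hw₀out (Submodule.mem_sup_left h)
  have hvout : v ∉ Kl θ u ⊔ Kl θ w₀ := by
    intro h
    exact hw₀out (kl_exchange ks (Kl θ u) (ouspra_stable ks u) hvu h)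
  have hKv : ∀ y ∈ Kl θ v, y ∈ RS Q f M u :=
    ouspra_spread_one ks am hu hu0 hw₀ hv huw₀ huv (ho_symm ks hvw₀) hw₀u hvout hw₀R
  -- the main claim
  intro y hy huy
  by_cases h1 : y ∈ Kl θ u ⊔ Kl θ v
  · obtain ⟨a, ha, b, hb, rfl⟩ := Submodule.mem_sup.mp h1
    exact rs_add hq am.vf am.hG hu hu0 (kl_le_rs ks am hu a ha) (hKv b hb)
  by_cases h2 : HO f θ v y
  · exact ouspra_step ks am hu hu0 hv hy huv huy h2 hvu h1 hvR
  -- case (iii)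
  have hy0 : y ≠ 0 := by
    intro h
    apply h2
    rw [h]
    exact ⟨f_zero_right hq.sym _, f_zero_right hq.sym _⟩
  have hyu : y ∉ Kl θ u := fun h => h1 (Submodule.mem_sup_left h)
  obtain ⟨g, hgM, hg⟩ := tau_ex ks am hy 1
  have hyu' := ho_symm ks huy
  have hgu : (g : Matrix (Fin n) (Fin n) F) *ᵥ u = u := by
    rw [hg u]
    unfold Tv
    rw [hyu'.1, hyu'.2]
    simp
  have hxR : (g : Matrix (Fin n) (Fin n) F) *ᵥ v - v ∈ RS Q f M u :=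
    rs_conj_fix hq am.vf am.hG am.hM hgM hu hu0 hgu hvR
  have hxeq : (g : Matrix (Fin n) (Fin n) F) *ᵥ v - v = f y v • (θ *ᵥ y) - f (θ *ᵥ y) v • y := by
    rw [hg v]
    unfold Tv
    module
  rw [hxeq] at hxR
  have hx0 : f y v • (θ *ᵥ y) - f (θ *ᵥ y) v • y ≠ 0 := ho_ne ks hy0 h2
  have hxKy : f y v • (θ *ᵥ y) - f (θ *ᵥ y) v • y ∈ Kl θ y :=
    Submodule.sub_mem _ (Submodule.smul_mem _ _ (ouspra_theta_self_mem θ y))
      (Submodule.smul_mem _ _ (ouspra_self_mem θ y))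
  have hxs : Q (f y v • (θ *ᵥ y) - f (θ *ᵥ y) v • y) = 0 := kl_sing ks hy _ hxKy
  have hKxy : Kl θ (f y v • (θ *ᵥ y) - f (θ *ᵥ y) v • y) ≤ Kl θ y := kl_le ks hxKy
  have hyKx : y ∈ Kl θ (f y v • (θ *ᵥ y) - f (θ *ᵥ y) v • y) := kl_symm ks hx0 hxKy
  have hux : HO f θ u (f y v • (θ *ᵥ y) - f (θ *ᵥ y) v • y) :=
    ⟨ho_kl ks huy u (ouspra_self_mem θ u) _ hxKy, ho_kl ks huy _ (ouspra_theta_self_mem θ u) _ hxKy⟩
  have hxu : f y v • (θ *ᵥ y) - f (θ *ᵥ y) v • y ∉ Kl θ u := by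
    intro h
    exact hyu (kl_le ks h hyKx)
  obtain ⟨w₁, hw₁, huw₁, hyw₁, hw₁out⟩ := ouspra_nbr hn ks u y
  have hxw₁ : HO f θ (f y v • (θ *ᵥ y) - f (θ *ᵥ y) v • y) w₁ := by
    have h3 := ho_symm ks hyw₁
    have h4 := ho_kl ks h3
    refine ho_symm ks ⟨h4 w₁ (ouspra_self_mem θ w₁) _ hxKy, h4 _ (ouspra_theta_self_mem θ w₁) _ hxKy⟩
  have hw₁out' : w₁ ∉ Kl θ u ⊔ Kl θ (f y v • (θ *ᵥ y) - f (θ *ᵥ y) v • y) := by
    intro h
    exact hw₁out (sup_le_sup_left hKxy _ h)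
  have hw₁R : w₁ ∈ RS Q f M u :=
    ouspra_step ks am hu hu0 hxs hw₁ hux huw₁ hxw₁ hxu hw₁out' hxR
  have hw₁u : w₁ ∉ Kl θ u := fun h => hw₁out (Submodule.mem_sup_left h)
  have hyout : y ∉ Kl θ u ⊔ Kl θ w₁ := by
    intro h
    exact hw₁out (kl_exchange ks (Kl θ u) (ouspra_stable ks u) hyu h)
  exact ouspra_step ks am hu hu0 hw₁ hy huw₁ huy (ho_symm ks hyw₁) hw₁u hyout hw₁R

end Cfsg.Agent.Lib.Helper19.OU
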