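import Mathlib

set_option autoImplicit false
set_option linter.style.haveILetI false

namespace Cfsg.Agent.Lib.Helper11

/-- Lift a residue `m` mod `n` (coprime to `n`) to a residue mod `N` coprime to `N` which is
`1` mod `a`, for coprime divisors `n`, `a` of `N`. -/
theorem exists_coprime_lift (N n a m : ℕ) (hN : 0 < N) (hn : n ∣ N) (ha : a ∣ N)
    (hna : Nat.Coprime n a) (hm : Nat.Coprime m n) :
    ∃ m₁, Nat.Coprime m₁ N ∧ m₁ ≡ m [MOD n] ∧ m₁ ≡ 1 [MOD a] := by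
  haveI : NeZero N := ⟨hN.ne'⟩
  have hd : n * a ∣ N := Nat.Coprime.mul_dvd_of_dvd_of_dvd hna hn ha
  obtain ⟨c, hcn, hca⟩ := Nat.chineseRemainder hna m 1
  have hc1 : Nat.Coprime c n := by
    have := hcn.gcd_eq
    rw [Nat.Coprime, this]; exact hm
  have hc2 : Nat.Coprime c a := by
    have := hca.gcd_eq
    rw [Nat.Coprime, this]; exact Nat.gcd_one_left a
  have hc : Nat.Coprime c (n * a) := Nat.Coprime.mul_right hc1 hc2
  obtain ⟨v, hv⟩ := ZMod.unitsMap_surjective hd (ZMod.unitOfCoprime c hc)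
  refine ⟨(v : ZMod N).val, ZMod.val_coe_unit_coprime v, ?_, ?_⟩
  all_goals
    have h1 : ((ZMod.unitsMap hd v : (ZMod (n * a))ˣ) : ZMod (n * a)) = (c : ZMod (n * a)) := by
      rw [hv]; rfl
    rw [ZMod.unitsMap_val] at h1
    have h2 : (((v : ZMod N).val : ℕ) : ZMod (n * a)) = (c : ZMod (n * a)) := by
      rw [← h1, ZMod.natCast_val]
    have h3 : (v : ZMod N).val ≡ c [MOD n * a] := (ZMod.natCast_eq_natCast_iff _ _ _).mp h2
  · exact (Nat.ModEq.of_mul_right a h3).trans hcn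
  · exact (Nat.ModEq.of_mul_left n h3).trans hca

/-- A `ℤ`-combination of `N`-th roots of unity fixed by all the power maps `z ↦ z ^ m`,
`m` coprime to `N`, is a rational integer. -/
theorem int_of_galois_fixed (N : ℕ) (hN : 0 < N) (s : Finset ℂ) (c : ℂ → ℤ)
    (hs : ∀ z ∈ s, z ^ N = 1)
    (hfix : ∀ m : ℕ, Nat.Coprime m N →
      ∑ z ∈ s, (c z : ℂ) * z ^ m = ∑ z ∈ s, (c z : ℂ) * z) :
    ∃ n : ℤ, ∑ z ∈ s, (c z : ℂ) * z = n := by
  haveI : NeZero N := ⟨hN.ne'⟩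
  haveI : NeZero (N : ℚ) := ⟨by exact_mod_cast hN.ne'⟩
  haveI hcyc : IsCyclotomicExtension {N} ℚ (CyclotomicField N ℚ) :=
    CyclotomicField.isCyclotomicExtension N ℚ
  let φ : CyclotomicField N ℚ →ₐ[ℚ] ℂ := IsAlgClosed.lift
  set ζ := IsCyclotomicExtension.zeta N ℚ (CyclotomicField N ℚ) with hζdef
  have hζ : IsPrimitiveRoot ζ N := IsCyclotomicExtension.zeta_spec N ℚ (CyclotomicField N ℚ)
  have hζ' : IsPrimitiveRoot (φ ζ) N := hζ.map_of_injective φ.toRingHom.injective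
  have hj : ∀ z ∈ s, ∃ j : ℕ, (φ ζ) ^ j = z := by
    intro z hz
    obtain ⟨j, -, hj⟩ := hζ'.eq_pow_of_pow_eq_one (hs z hz)
    exact ⟨j, hj⟩
  choose! j hj using hj
  set xK : CyclotomicField N ℚ := ∑ z ∈ s, (c z : CyclotomicField N ℚ) * ζ ^ (j z) with hxK
  have hφx : φ xK = ∑ z ∈ s, (c z : ℂ) * z := by
    rw [hxK, map_sum]
    refine Finset.sum_congr rfl fun z hz => ?_
    rw [map_mul, map_intCast, map_pow, hj z hz]
  haveI : IsGalois ℚ (CyclotomicField N ℚ) := IsCyclotomicExtension.isGalois {N} ℚ _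
  haveI : FiniteDimensional ℚ (CyclotomicField N ℚ) :=
    IsCyclotomicExtension.finiteDimensional {N} ℚ _
  have hfixK : ∀ σ : CyclotomicField N ℚ ≃ₐ[ℚ] CyclotomicField N ℚ, σ xK = xK := by
    intro σ
    have hσζ : IsPrimitiveRoot (σ ζ) N := hζ.map_of_injective σ.injective
    obtain ⟨m, -, hm⟩ := hζ.eq_pow_of_pow_eq_one hσζ.pow_eq_one
    have hmc : Nat.Coprime m N := by
      rw [← hm] at hσζ
      exact (hζ.pow_iff_coprime hN m).mp hσζ
    apply φ.toRingHom.injective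
    show φ (σ xK) = φ xK
    rw [hφx, hxK, map_sum, map_sum, ← hfix m hmc]
    refine Finset.sum_congr rfl fun z hz => ?_
    rw [map_mul, map_mul, map_intCast, map_intCast, map_pow, map_pow, ← hm, map_pow, ← pow_mul,
      mul_comm m, pow_mul, hj z hz]
  have hbot := (IsGalois.mem_bot_iff_fixed (F := ℚ) xK).mpr hfixK
  rw [IntermediateField.mem_bot] at hbot
  obtain ⟨r, hr⟩ := hbot
  have hx : ∑ z ∈ s, (c z : ℂ) * z = (r : ℂ) := by
    rw [← hφx, ← hr, AlgHom.commutes]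
    simp
  have hint : IsIntegral ℤ (∑ z ∈ s, (c z : ℂ) * z) := by
    refine IsIntegral.sum _ fun z hz => ?_
    refine IsIntegral.mul ?_ ?_
    · exact isIntegral_algebraMap (R := ℤ) (A := ℂ) (x := c z) |> fun h => by simpa using h
    · exact IsIntegral.of_pow hN (by rw [hs z hz]; exact isIntegral_one)
  rw [hx] at hint ⊢
  have h2 : IsIntegral ℤ r := by
    have : IsIntegral ℤ (algebraMap ℚ ℂ r) := by simpa using hint
    exact (isIntegral_algebraMap_iff (algebraMap ℚ ℂ).injective).mp this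
  obtain ⟨n, hn⟩ := IsIntegrallyClosed.isIntegral_iff.mp h2
  refine ⟨n, ?_⟩
  rw [← hn]
  simp

end Cfsg.Agent.Lib.Helper11
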