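import Mathlib
import Cfsg.Prelude.Def_OddOrderLocal
import Cfsg.Agent.Lib.Helper10.TypeP
import Cfsg.Agent.Lib.Helper1.BG14c.PairA
import Cfsg.Agent.Lib.Helper1.BG15.URegular
import Cfsg.Agent.Lib.Helper11.BenderS
import Cfsg.Agent.Lib.Helper11.MaxSubB
import Cfsg.Agent.Lib.Helper13.BG14M

set_option autoImplicit false

/-! Facts about the five types, part A: a cyclic Hall subgroup bounds the rank; the primes of `W₁`
lie in `κ(M)`; a group of Frobenius type has no non-regular element of an order prime to `M_F`. -/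

namespace Cfsg.Agent.Lib.Helper11.TypeFacts

open Cfsg

variable {G : Type*} [Group G] [Finite G]

omit [Finite G] in
theorem hall_of_coprime {W M : Subgroup G} (hWM : W ≤ M)
    (hcop : (Nat.card W).Coprime (W.relIndex M)) :
    Cfsg.IsPiHallOf {q | q ∣ Nat.card W} W M := by
  refine ⟨hWM, fun p _ hp => hp, fun p hp hpW hpi => ?_⟩
  have h1 : p ∣ Nat.gcd (Nat.card W) (W.relIndex M) := Nat.dvd_gcd hpW hpi
  rw [hcop] at h1
  exact hp.one_lt.ne' (Nat.dvd_one.mp h1)

/-- a subgroup of exponent `p` of `M` has order at most `p` when `M` has a cyclic Hall subgroup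
of order divisible by `p` -/
theorem prank_one_of_cyclic_hall {W M : Subgroup G} (hMs : Group.IsSolvable ↥M) (hWM : W ≤ M)
    (hWc : IsCyclic ↥W) (hcop : (Nat.card W).Coprime (W.relIndex M)) {p : ℕ} (hp : p.Prime)
    (hpW : p ∣ Nat.card W) : Cfsg.PRankLE p 1 ↥M := by
  intro A _ hA
  haveI : Fact p.Prime := ⟨hp⟩
  have hAp : IsPGroup p ↥A := by
    intro a
    refine ⟨1, ?_⟩
    rw [pow_one]
    apply Subtype.ext
    have := hA a.1 a.2
    simpa using this
  have hYM : A.map M.subtype ≤ M := Subgroup.map_subtype_le _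
  have hYc : Nat.card ↥(A.map M.subtype) = Nat.card ↥A :=
    Subgroup.card_map_of_injective M.subtype_injective
  obtain ⟨m, -, hm⟩ := Cfsg.Agent.Lib.Helper1.BG14c.piHall_conj_into hMs
    (hall_of_coprime hWM hcop) hYM (by
      intro q hq hqd
      rw [hYc] at hqd
      obtain ⟨n, hn⟩ := (IsPGroup.iff_card).mp hAp
      rw [hn] at hqd
      have := (Nat.prime_dvd_prime_iff_eq hq hp).mp (hq.dvd_of_dvd_pow hqd)
      rw [this]
      exact hpW)
  let f : ↥A →* ↥W :=
    { toFun := fun a => ⟨m⁻¹ * ((a : ↥M) : G) * m, hm _ ⟨a.1, a.2, rfl⟩⟩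
      map_one' := by
        apply Subtype.ext
        simp
      map_mul' := by
        intro a b
        apply Subtype.ext
        simp only [Subgroup.coe_mul]
        group }
  have hf : Function.Injective f := by
    intro a b hab
    have h1 : m⁻¹ * ((a : ↥M) : G) * m = m⁻¹ * ((b : ↥M) : G) * m := congrArg Subtype.val hab
    have h2 : ((a : ↥M) : G) = ((b : ↥M) : G) := by
      have := mul_right_cancel h1
      exact mul_left_cancel this
    exact Subtype.ext (Subtype.ext h2)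
  haveI : IsCyclic ↥A := isCyclic_of_injective f hf
  obtain ⟨g, hg⟩ := IsCyclic.exists_generator (α := ↥A)
  have hcard : Nat.card ↥A = orderOf g := (orderOf_eq_card_of_forall_mem_zpowers hg).symm
  have hgp : g ^ p = 1 := by
    apply Subtype.ext
    have := hA g.1 g.2
    simpa using this
  rw [pow_one, hcard]
  exact Nat.le_of_dvd hp.pos (orderOf_dvd_of_pow_eq_one hgp)

/-- the primes dividing `#W₁` lie in `κ(M)` -/
theorem typeP_kappa (hG : Cfsg.IsMinSimpleOddOrder G) {M W₁ U W₂ : Subgroup G} (hM : IsCoatom M)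
    (h : Cfsg.IsTypePWith M W₁ U W₂) {p : ℕ} (hp : p.Prime) (hpW : p ∣ Nat.card W₁) :
    p ∈ Cfsg.kappa M := by
  haveI : Fact p.Prime := ⟨hp⟩
  have hMs : Group.IsSolvable ↥M := Cfsg.Agent.Lib.Helper11.MaxSubB.coatom_solvable hG M hM
  have hW₁M : W₁ ≤ M := h.W₁_compl.2.1
  obtain ⟨x, hxo⟩ := exists_prime_orderOf_dvd_card' (G := ↥W₁) p hpW
  have hxo' : orderOf (x : G) = p := by rw [Subgroup.orderOf_coe]; exact hxo
  have hx1 : (x : G) ≠ 1 := by
    intro e
    rw [e, orderOf_one] at hxo'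
    exact hp.one_lt.ne hxo'
  have hσ : p ∉ Cfsg.sigma M := by
    intro hpσ
    have h1 : (x : G) ∈ Cfsg.sigmaCore M :=
      Cfsg.Agent.Lib.Helper28.BGt.pelem_mem_sigmaCore hG hM hpσ (hW₁M x.2) (k := 1)
        (by rw [pow_one, ← hxo']; exact pow_orderOf_eq_one _)
    have h2 : Cfsg.sigmaCore M ≤ ⁅M, M⁆ := by
      have := Cfsg.Agent.Lib.Helper11.BenderS.sigmaCore_le_commutator hG M hM
      unfold Cfsg.sigmaCore
      rw [← Subgroup.map_subtype_commutator]
      exact Subgroup.map_mono this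
    have h3 : (x : G) ∈ ⁅M, M⁆ ⊓ W₁ := ⟨h2 h1, x.2⟩
    rw [h.W₁_compl.2.2.1, Subgroup.mem_bot] at h3
    exact hx1 h3
  obtain ⟨-, hW₂1, -, hcomm, -, -⟩ := h.selfNormalizing
  obtain ⟨y, hy1⟩ := (Subgroup.ne_bot_iff_exists_ne_one).mp hW₂1
  have hyS : (y : G) ∈ Cfsg.sigmaCore M :=
    Cfsg.Agent.Lib.Helper13.BG14.bg14_fittingHallOf_le_sigmaCore hG hM (h.W₂_le y.2).1
  exact Cfsg.Agent.Lib.Helper1.BG15.mem_kappa_of_nonregular hG hM hp hσ
    (prank_one_of_cyclic_hall hMs hW₁M h.W₁_cyclic h.W₁_hall hp hpW) (hW₁M x.2) hxo' hyS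
    (fun e => hy1 (Subtype.ext e)) (hcomm _ x.2 _ y.2)

end Cfsg.Agent.Lib.Helper11.TypeFacts
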