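import Mathlib
import Cfsg.Prelude.Def_OddOrderLocal
import Cfsg.Agent.Lib.Helper11.TypeFactsA
import Cfsg.Agent.S1351
import Cfsg.Agent.S1352
import Cfsg.Agent.S1364
import Cfsg.Agent.S1437

set_option autoImplicit false

/-! Facts about the five types, part B: Type I excludes type P, has `κ(M) = ∅` and `M_F = M_σ`,
and any complement of `M_F` gives a standard factorisation with `K = 1`. -/

namespace Cfsg.Agent.Lib.Helper11.TypeFacts

open Cfsg

variable {G : Type*} [Group G] [Finite G]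

/-- a group of Frobenius type has no element of prime order `p ∤ #M_F` centralizing a non-identity
element of `M_F`; stated for a Hall subgroup `K` all of whose elements of order `p` centralize a
nontrivial subgroup `Z ≤ M_F` -/
theorem typeF_false {M K Z : Subgroup G} {π : Set ℕ} (hMs : Group.IsSolvable ↥M)
    (hF : Cfsg.IsOfTypeF ↥M) (hK : Cfsg.IsPiHallOf π K M) {p : ℕ} (hp : p.Prime) (hpπ : p ∈ π)
    (hpM : p ∣ Nat.card M) (hpF : ¬ p ∣ Nat.card (Cfsg.fittingHallOf M))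
    (hZ : Z ≤ Cfsg.fittingHallOf M) (hZ1 : Z ≠ ⊥)
    (hcomm : ∀ k ∈ K, orderOf k = p → ∀ z ∈ Z, k * z = z * k) : False := by
  haveI : Fact p.Prime := ⟨hp⟩
  obtain ⟨-, -, -, -, U, -, hcompl, -, U₀, hU₀U, hexp, hfpf⟩ := hF
  have hcard : Nat.card ↥(Cfsg.fittingHall ↥M) * Nat.card ↥U = Nat.card ↥M := hcompl.card_mul
  have hpU : p ∣ Nat.card ↥U := by
    rw [← hcard] at hpM
    rcases (Nat.Prime.dvd_mul hp).mp hpM with h | h
    · exact absurd (by rwa [Cfsg.Agent.Lib.Helper10.card_fittingHallOf]) hpF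
    · exact h
  obtain ⟨v, hv⟩ := exists_prime_orderOf_dvd_card' (G := ↥U) p hpU
  have hpe : p ∣ Monoid.exponent ↥U₀ := by
    rw [hexp, ← hv]
    exact Monoid.order_dvd_exponent v
  have hpU₀ : p ∣ Nat.card ↥U₀ := hpe.trans Group.exponent_dvd_nat_card
  obtain ⟨u, hu⟩ := exists_prime_orderOf_dvd_card' (G := ↥U₀) p hpU₀
  -- `u` as an element of `G`
  have huo : orderOf (((u : ↥M)) : G) = p := by
    rw [Subgroup.orderOf_coe, Subgroup.orderOf_coe]; exact hu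
  have hu1 : (u : ↥M) ≠ 1 := by
    intro e
    have : orderOf (u : ↥M) = p := by rw [Subgroup.orderOf_coe]; exact hu
    rw [e, orderOf_one] at this
    exact hp.one_lt.ne this
  have hYM : Subgroup.zpowers (((u : ↥M)) : G) ≤ M := Subgroup.zpowers_le.mpr (u : ↥M).2
  obtain ⟨m, hm, hconj⟩ := Cfsg.Agent.Lib.Helper1.BG14c.piHall_conj_into hMs hK hYM (by
    intro q hq hqd
    rw [Nat.card_zpowers, huo] at hqd
    rw [(Nat.prime_dvd_prime_iff_eq hq hp).mp hqd]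
    exact hpπ)
  have hk : m⁻¹ * (((u : ↥M)) : G) * m ∈ K := hconj _ (Subgroup.mem_zpowers _)
  have hko : orderOf (m⁻¹ * (((u : ↥M)) : G) * m) = p := by
    have h1 : SemiconjBy m⁻¹ (((u : ↥M)) : G) (m⁻¹ * (((u : ↥M)) : G) * m) := by
      unfold SemiconjBy; group
    rw [← h1.orderOf_eq, huo]
  obtain ⟨z, hz1⟩ := (Subgroup.ne_bot_iff_exists_ne_one).mp hZ1
  have hzc := hcomm _ hk hko z z.2
  -- the conjugate of `z` by `m` lies in `M_F`
  have hzF : m * (z : G) * m⁻¹ ∈ Cfsg.fittingHallOf M := by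
    have hn := Cfsg.Agent.Lib.Helper10.le_normalizer_fittingHallOf M hm
    exact (Subgroup.mem_normalizer_iff.mp hn _).mp (hZ z.2)
  obtain ⟨y, hy, hye⟩ := hzF
  have hcomm2 : (u : ↥M) * y = y * (u : ↥M) := by
    apply Subtype.ext
    have h1 : ((y : ↥M) : G) = m * (z : G) * m⁻¹ := hye
    simp only [Subgroup.coe_mul]
    rw [h1]
    have h2 : (((u : ↥M)) : G) * (m * (z : G) * m⁻¹) =
        m * ((m⁻¹ * (((u : ↥M)) : G) * m) * (z : G)) * m⁻¹ := by group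
    rw [h2, hzc]
    group
  have hy1 := hfpf (u : ↥M) u.2 hu1 y hy hcomm2
  apply hz1
  apply Subtype.ext
  have h1 : m * (z : G) * m⁻¹ = 1 := by
    have : ((y : ↥M) : G) = m * (z : G) * m⁻¹ := hye
    rw [← this, hy1]; rfl
  have h2 : (z : G) = m⁻¹ * (m * (z : G) * m⁻¹) * m := by group
  rw [h2, h1]
  simp

/-- the primes of `M_F` lie in `σ(M)` -/
theorem prime_fittingHallOf (hG : Cfsg.IsMinSimpleOddOrder G) {M : Subgroup G} (hM : IsCoatom M)
    {q : ℕ} (hq : q.Prime) (hd : q ∣ Nat.card (Cfsg.fittingHallOf M)) : q ∈ Cfsg.sigma M :=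
  Cfsg.Agent.Lib.Helper28.BGt.prime_sigmaCore hG hM hq
    (hd.trans (Subgroup.card_dvd_of_le
      (Cfsg.Agent.Lib.Helper13.BG14.bg14_fittingHallOf_le_sigmaCore hG hM)))

/-- Type I excludes type P -/
theorem typeI_not_typeP (hG : Cfsg.IsMinSimpleOddOrder G) {M W₁ U W₂ : Subgroup G}
    (hM : IsCoatom M) (hI : Cfsg.IsOfTypeI M) (h : Cfsg.IsTypePWith M W₁ U W₂) : False := by
  have hMs : Group.IsSolvable ↥M := Cfsg.Agent.Lib.Helper11.MaxSubB.coatom_solvable hG M hM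
  have hW₁M : W₁ ≤ M := h.W₁_compl.2.1
  have hne : Nat.card W₁ ≠ 1 := by
    intro e
    exact h.W₁_ne (Subgroup.eq_bot_of_card_eq _ e)
  obtain ⟨p, hp, hpW⟩ := Nat.exists_prime_and_dvd hne
  have hκ := typeP_kappa hG hM h hp hpW
  obtain ⟨-, hW₂1, -, hcomm, -, -⟩ := h.selfNormalizing
  exact typeF_false hMs hI.1 (hall_of_coprime hW₁M h.W₁_hall) hp hpW
    (hpW.trans (Subgroup.card_dvd_of_le hW₁M))
    (fun hd => hκ.2.2.1 (prime_fittingHallOf hG hM hp hd))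
    (fun z hz => (h.W₂_le hz).1) hW₂1 (fun k hk _ z hz => hcomm k hk z hz)

/-- Type I forces `κ(M) = ∅` -/
theorem typeI_kappa_empty (hG : Cfsg.IsMinSimpleOddOrder G) {M : Subgroup G}
    (hM : IsCoatom M) (hI : Cfsg.IsOfTypeI M) : Cfsg.kappa M = ∅ := by
  have hMs : Group.IsSolvable ↥M := Cfsg.Agent.Lib.Helper11.MaxSubB.coatom_solvable hG M hM
  rw [Set.eq_empty_iff_forall_notMem]
  intro p hpκ
  obtain ⟨⟨K, hK⟩, hcyc⟩ := Cfsg.Agent.S1351.result hG M hM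
  obtain ⟨⟨U, hKU⟩, -⟩ := Cfsg.Agent.S1352.result hG M hM K (hcyc K hK) hK
  have hpK : p ∣ Nat.card K := by
    have h1 := Cfsg.Agent.Lib.Helper1.BG12.card_mul_relIndex_of_le hK.1
    have h2 : p ∣ Nat.card K * K.relIndex M := by rw [h1]; exact hpκ.2.1
    rcases (Nat.Prime.dvd_mul hpκ.1).mp h2 with h | h
    · exact h
    · exact absurd h (hK.2.2 p hpκ.1 hpκ)
  have hK1 : K ≠ ⊥ := by
    intro e
    rw [e, Subgroup.card_bot] at hpK
    exact hpκ.1.one_lt.ne' (Nat.dvd_one.mp hpK)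
  obtain ⟨-, hKs1, hKsF, -⟩ := Cfsg.Agent.S1364.result hG M hM K U hKU hK1
  exact typeF_false hMs hI.1 hK hpκ.1 hpκ hpκ.2.1
    (fun hd => hpκ.2.2.1 (prime_fittingHallOf hG hM hpκ.1 hd)) hKsF hKs1
    (fun k hk _ z hz => Subgroup.mem_centralizer_iff.mp hz.2 k hk)

/-- Type I forces `M_F = M_σ` -/
theorem typeI_fittingHallOf_eq (hG : Cfsg.IsMinSimpleOddOrder G) {M : Subgroup G}
    (hM : IsCoatom M) (hI : Cfsg.IsOfTypeI M) : Cfsg.fittingHallOf M = Cfsg.sigmaCore M := by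
  by_contra hne
  obtain ⟨⟨K, hK⟩, hcyc⟩ := Cfsg.Agent.S1351.result hG M hM
  obtain ⟨⟨U, hKU⟩, -⟩ := Cfsg.Agent.S1352.result hG M hM K (hcyc K hK) hK
  obtain ⟨-, -, hKp, -⟩ := Cfsg.Agent.S1437.result hG M hM K U hKU hne
  have hκ := typeI_kappa_empty hG hM hI
  have := hK.2.1 _ hKp (dvd_refl _)
  rw [hκ] at this
  exact this

/-- for Type I, a complement of `M_F` in `M` gives a standard factorisation with `K = 1` -/
theorem typeI_sigmaDecomp (hG : Cfsg.IsMinSimpleOddOrder G) {M U : Subgroup G}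
    (hM : IsCoatom M) (hI : Cfsg.IsOfTypeI M)
    (hU : Cfsg.IsComplIn (Cfsg.fittingHallOf M) U M) : Cfsg.IsSigmaDecomposition M ⊥ U := by
  have hκ := typeI_kappa_empty hG hM hI
  have hF := typeI_fittingHallOf_eq hG hM hI
  rw [hF] at hU
  refine ⟨isCyclic_of_subsingleton, ⟨bot_le, ?_, ?_⟩, ⟨hU.2.1, ?_, ?_, ?_⟩, bot_le⟩
  · intro p hp hd
    rw [Subgroup.card_bot] at hd
    exact absurd (Nat.dvd_one.mp hd) hp.one_lt.ne'
  · intro p _ hpκ
    rw [hκ] at hpκ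
    exact absurd hpκ (Set.notMem_empty p)
  · rw [bot_sup_eq]; exact hU.1
  · rw [bot_sup_eq, inf_comm]; exact hU.2.2.1
  · intro m hm
    obtain ⟨a, ha, b, hb, hab⟩ := hU.2.2.2 m⁻¹ (M.inv_mem hm)
    refine ⟨b⁻¹, U.inv_mem hb, a⁻¹, ?_, ?_⟩
    · rw [bot_sup_eq]; exact (Cfsg.sigmaCore M).inv_mem ha
    · rw [← mul_inv_rev, ← hab, inv_inv]

end Cfsg.Agent.Lib.Helper11.TypeFacts
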