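import Mathlib
import Cfsg.Prelude.Def_OddOrderLocal
import Cfsg.Agent.Lib.Helper11.TypeFactsB
import Cfsg.Agent.Lib.Helper11.ExcA
import Cfsg.Agent.Lib.Helper11.HallCommutator
import Cfsg.Agent.Lib.Helper1.BG12b.RegLineA
import Cfsg.Agent.Lib.Helper1.BG14.SigmaATI
import Cfsg.Agent.S1365

set_option autoImplicit false

/-! Facts about the five types, part C: Type II forces `M_F = M_σ`, excludes Types III and IV,
and every complement of `M_F` in `M'` is the `U` of a standard factorisation. -/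

namespace Cfsg.Agent.Lib.Helper11.TypeFacts

open Cfsg Cfsg.Agent.Lib.Helper18

variable {G : Type*} [Group G] [Finite G]

omit [Finite G] in
theorem typeP_card {M W₁ U W₂ : Subgroup G} (h : Cfsg.IsTypePWith M W₁ U W₂) :
    Nat.card M = Nat.card (Cfsg.fittingHallOf M) * Nat.card U * Nat.card W₁ := by
  have h1 := Cfsg.Agent.Lib.Helper10.isComplIn_card h.W₁_compl
    (h.W₁_compl.2.1.trans (Cfsg.Agent.Lib.Helper11.le_normalizer_commutator_left M M))
  rw [h1, Cfsg.Agent.Lib.Helper10.typeP_card_derived h]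

theorem derived_solvable (hG : Cfsg.IsMinSimpleOddOrder G) {M : Subgroup G} (hM : IsCoatom M) :
    Group.IsSolvable ↥⁅M, M⁆ := by
  haveI : Group.IsSolvable ↥M := Cfsg.Agent.Lib.Helper11.MaxSubB.coatom_solvable hG M hM
  exact solvable_of_solvable_injective
    (Subgroup.inclusion_injective (Subgroup.commutator_le_self M))

/-- for type-P data with `U` abelian and `N_G(U) ≰ M`, no prime of `σ(M)` divides `#U` -/
theorem typeP_U_not_sigma (hG : Cfsg.IsMinSimpleOddOrder G) {M W₁ U W₂ : Subgroup G}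
    (hM : IsCoatom M) (h : Cfsg.IsTypePWith M W₁ U W₂) (hUab : IsMulCommutative ↥U)
    (hN : ¬ Subgroup.normalizer (U : Set G) ≤ M) {r : ℕ} (hr : r.Prime)
    (hrU : r ∣ Nat.card U) : r ∉ Cfsg.sigma M := by
  intro hrσ
  apply hN
  haveI : Fact r.Prime := ⟨hr⟩
  have hUM : U ≤ M := Cfsg.Agent.Lib.Helper10.typeP_U_le h
  obtain ⟨Q₀⟩ : Nonempty (Sylow r ↥U) := inferInstance
  obtain ⟨Q, hQdef⟩ : ∃ Q : Subgroup G, Q = (Q₀ : Subgroup ↥U).map U.subtype := ⟨_, rfl⟩
  have hQS : IsSylowIn r Q U := hQdef ▸ isSylowIn_of_sylow Q₀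
  have hUN : U ≤ Subgroup.normalizer (Q : Set G) := by
    intro u hu
    apply Helper18.mem_normalizer_of_conjSub_le
    rintro _ ⟨q, hq, rfl⟩
    have hqU : q ∈ U := hQS.le hq
    have hc : (⟨u, hu⟩ : ↥U) * ⟨q, hqU⟩ = ⟨q, hqU⟩ * ⟨u, hu⟩ := hUab.is_comm.comm _ _
    have hc' : u * q = q * u := congrArg Subtype.val hc
    have : (MulAut.conj u).toMonoidHom q = q := by
      simp only [MulEquiv.coe_toMonoidHom, MulAut.conj_apply]
      rw [hc']; group
    rw [this]; exact hq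
  have hNN : Subgroup.normalizer (U : Set G) ≤ Subgroup.normalizer (Q : Set G) := by
    intro g hg
    apply Helper18.mem_normalizer_of_conjSub_le
    have h1 : Helper18.conjSub g Q ≤ U := by
      have := Helper18.conjSub_mono (g := g) hQS.le
      rwa [Helper18.conjSub_eq_of_mem_normalizer hg] at this
    exact Cfsg.Agent.Lib.Helper1.BG12b.le_normal_sylow hQS hUN h1 (Helper18.conjSub_isPGroup hQS.isPGroup)
  have hQM : IsSylowIn r Q M := by
    refine ⟨hQS.le.trans hUM, hQS.isPGroup, ?_⟩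
    rw [← Subgroup.relIndex_mul_relIndex Q U M hQS.le hUM]
    intro hd
    rcases (Nat.Prime.dvd_mul hr).mp hd with h1 | h1
    · exact hQS.not_dvd h1
    · have h2 := Cfsg.Agent.Lib.Helper1.BG12.card_mul_relIndex_of_le hUM
      rw [typeP_card h] at h2
      have hpos : 0 < Nat.card U := Nat.card_pos
      have h3 : U.relIndex M = Nat.card (Cfsg.fittingHallOf M) * Nat.card W₁ := by
        apply Nat.eq_of_mul_eq_mul_left hpos
        rw [h2]; ring
      rw [h3] at h1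
      rcases (Nat.Prime.dvd_mul hr).mp h1 with h4 | h4
      · have hcop := Cfsg.Agent.Lib.Helper10.typeP_coprime_U_H h
        have := Nat.dvd_gcd hrU h4
        rw [hcop] at this
        exact hr.one_lt.ne' (Nat.dvd_one.mp this)
      · exact (typeP_kappa hG hM h hr h4).2.2.1 hrσ
  exact hNN.trans (Cfsg.Agent.Lib.Helper11.ExcA.good_of_sylow_sigma hrσ hQM).2.1

/-- Type II forces `M_F = M_σ` -/
theorem typeII_fittingHallOf_eq (hG : Cfsg.IsMinSimpleOddOrder G) {M : Subgroup G}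
    (hM : IsCoatom M) (hII : Cfsg.IsOfTypeII M) : Cfsg.fittingHallOf M = Cfsg.sigmaCore M := by
  obtain ⟨W₁, U, W₂, h, -, -, -, hUab, hN, -, -⟩ := hII
  have hle := Cfsg.Agent.Lib.Helper13.BG14.bg14_fittingHallOf_le_sigmaCore hG hM
  apply Subgroup.eq_of_le_of_card_ge hle
  apply Nat.le_of_dvd Nat.card_pos
  have h1 : Nat.card (Cfsg.sigmaCore M) ∣ Nat.card M :=
    Subgroup.card_dvd_of_le (Cfsg.Agent.Lib.Helper28.BGt.sigmaCore_le M)
  rw [typeP_card h] at h1
  have hc1 : (Nat.card (Cfsg.sigmaCore M)).Coprime (Nat.card W₁) := by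
    apply Nat.coprime_of_dvd
    intro r hr h2 h3
    exact (typeP_kappa hG hM h hr h3).2.2.1
      (Cfsg.Agent.Lib.Helper28.BGt.prime_sigmaCore hG hM hr h2)
  have hc2 : (Nat.card (Cfsg.sigmaCore M)).Coprime (Nat.card U) := by
    apply Nat.coprime_of_dvd
    intro r hr h2 h3
    exact typeP_U_not_sigma hG hM h hUab hN hr h3
      (Cfsg.Agent.Lib.Helper28.BGt.prime_sigmaCore hG hM hr h2)
  exact hc2.dvd_of_dvd_mul_right (hc1.dvd_of_dvd_mul_right h1)

/-- two complements of `M_F` in `M'` are conjugate under `M'` -/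
theorem compl_conj (hG : Cfsg.IsMinSimpleOddOrder G) {M U U' : Subgroup G} (hM : IsCoatom M)
    (hU : Cfsg.IsComplIn (Cfsg.fittingHallOf M) U ⁅M, M⁆)
    (hU' : Cfsg.IsComplIn (Cfsg.fittingHallOf M) U' ⁅M, M⁆) :
    ∃ w ∈ ⁅M, M⁆, U = Helper18.conjSub w U' := by
  have hDM : ⁅M, M⁆ ≤ M := Subgroup.commutator_le_self M
  have hn : ∀ {V : Subgroup G}, V ≤ ⁅M, M⁆ →
      V ≤ Subgroup.normalizer (Cfsg.fittingHallOf M : Set G) := fun hV =>
    (hV.trans hDM).trans (Cfsg.Agent.Lib.Helper10.le_normalizer_fittingHallOf M)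
  have hc := Cfsg.Agent.Lib.Helper10.isComplIn_card hU (hn hU.2.1)
  have hc' := Cfsg.Agent.Lib.Helper10.isComplIn_card hU' (hn hU'.2.1)
  have hpos : 0 < Nat.card (Cfsg.fittingHallOf M) := Nat.card_pos
  have hcardeq : Nat.card U = Nat.card U' := by
    apply Nat.eq_of_mul_eq_mul_left hpos
    rw [← hc, ← hc']
  have hcop : ∀ {V : Subgroup G}, V ≤ ⁅M, M⁆ →
      Nat.card ↥⁅M, M⁆ = Nat.card (Cfsg.fittingHallOf M) * Nat.card V →
      (Nat.card V).Coprime (Nat.card (Cfsg.fittingHallOf M)) := by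
    intro V hV hcV
    have h2 : Nat.card ↥⁅M, M⁆ ∣ Nat.card M := Subgroup.card_dvd_of_le hDM
    have h3 := Cfsg.Agent.Lib.Helper1.BG12.card_mul_relIndex_of_le
      (Cfsg.Agent.Lib.Helper10.fittingHallOf_le M)
    rw [hcV, ← h3] at h2
    have h4 : Nat.card V ∣ (Cfsg.fittingHallOf M).relIndex M :=
      Nat.dvd_of_mul_dvd_mul_left hpos h2
    exact Nat.Coprime.coprime_dvd_left h4 (Cfsg.Agent.Lib.Helper10.fittingHallOf_coprime M).symm
  obtain ⟨w, hw, hconj⟩ := Cfsg.Agent.Lib.Helper1.BG14.hall_conj_into (derived_solvable hG hM)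
    hU'.2.1 hU.2.1 (n := Nat.card (Cfsg.fittingHallOf M)) (by rw [hc', mul_comm])
    (hcop hU'.2.1 hc') (hcop hU.2.1 hc)
  refine ⟨w, hw, ?_⟩
  have hle : U ≤ Helper18.conjSub w U' := fun y hy => Helper18.mem_conjSub.mpr (hconj y hy)
  exact Subgroup.eq_of_le_of_card_ge hle (by rw [Helper18.card_conjSub, hcardeq])

/-- Type II excludes the data of Types III and IV -/
theorem typeII_normalizer (hG : Cfsg.IsMinSimpleOddOrder G) {M W₁ U W₂ : Subgroup G}
    (hM : IsCoatom M) (hII : Cfsg.IsOfTypeII M) (h : Cfsg.IsTypePWith M W₁ U W₂) :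
    ¬ Subgroup.normalizer (U : Set G) ≤ M := by
  obtain ⟨W₁', U', W₂', h', -, -, -, -, hN', -, -⟩ := hII
  intro hN
  apply hN'
  obtain ⟨w, hw, e⟩ := compl_conj hG hM h'.U_compl h.U_compl
  have hwM : w ∈ M := Subgroup.commutator_le_self M hw
  intro g hg
  rw [e] at hg
  have h1 := hN (Cfsg.Agent.Lib.Helper11.BenderM.mem_normalizer_conj hg)
  have h2 : g = w * (w⁻¹ * g * w) * w⁻¹ := by group
  rw [h2]
  exact M.mul_mem (M.mul_mem hwM h1) (M.inv_mem hwM)

theorem typeII_not_III (hG : Cfsg.IsMinSimpleOddOrder G) {M : Subgroup G}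
    (hM : IsCoatom M) (hII : Cfsg.IsOfTypeII M) : ¬ Cfsg.IsOfTypeIII M := by
  rintro ⟨W₁, U, W₂, h, -, -, -, -, hN⟩
  exact typeII_normalizer hG hM hII h hN

theorem typeII_not_IV (hG : Cfsg.IsMinSimpleOddOrder G) {M : Subgroup G}
    (hM : IsCoatom M) (hII : Cfsg.IsOfTypeII M) : ¬ Cfsg.IsOfTypeIV M := by
  rintro ⟨W₁, U, W₂, h, -, -, -, -, hN⟩
  exact typeII_normalizer hG hM hII h hN

theorem typeII_not_I (hG : Cfsg.IsMinSimpleOddOrder G) {M : Subgroup G}
    (hM : IsCoatom M) (hII : Cfsg.IsOfTypeII M) : ¬ Cfsg.IsOfTypeI M := by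
  obtain ⟨W₁, U, W₂, h, -⟩ := hII
  exact fun hI => typeI_not_typeP hG hM hI h

end Cfsg.Agent.Lib.Helper11.TypeFacts
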