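import Mathlib
import Cfsg.Prelude.Def_OddOrderLocal
import Cfsg.Agent.Lib.Helper11.TypeFactsC
import Cfsg.Agent.Lib.Helper18.SigPartD
import Cfsg.Agent.Lib.Helper1.BG16.USylow

set_option autoImplicit false

/-! Facts about the five types, part D: conjugating a standard factorisation, and the standard
factorisation attached to a complement of `M_F` in `M'` for Type II. -/

namespace Cfsg.Agent.Lib.Helper11.TypeFacts

open Cfsg Cfsg.Agent.Lib.Helper18

variable {G : Type*} [Group G] [Finite G]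

/-- a standard factorisation conjugated by an element of `M` -/
theorem sigmaDecomp_conj {M K U : Subgroup G} (h : Cfsg.IsSigmaDecomposition M K U) {m : G}
    (hm : m ∈ M) :
    Cfsg.IsSigmaDecomposition M (Helper18.conjSub m K) (Helper18.conjSub m U) := by
  have hsN := Cfsg.Agent.Lib.Helper28.BGt.le_normalizer_sigmaCore M
  have hsup : Helper18.conjSub m K ⊔ Cfsg.sigmaCore M =
      Helper18.conjSub m (K ⊔ Cfsg.sigmaCore M) := by
    show _ = Subgroup.map _ _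
    rw [Subgroup.map_sup]
    congr 1
    exact (Helper18.conjSub_eq_of_mem_normalizer (hsN hm)).symm
  refine ⟨?_, ⟨Helper18.conjSub_le_of_mem h.hall.1 hm, ?_, ?_⟩, ⟨?_, ?_, ?_, ?_⟩, ?_⟩
  · haveI := h.cyclic
    exact isCyclic_of_surjective (K.equivMapOfInjective _ (MulAut.conj m).injective)
      (MulEquiv.surjective _)
  · intro p hp hd
    rw [Helper18.card_conjSub] at hd
    exact h.hall.2.1 p hp hd
  · intro p hp hpκ hd
    apply h.hall.2.2 p hp hpκ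
    have h1 := Cfsg.Agent.Lib.Helper1.BG12.card_mul_relIndex_of_le h.hall.1
    have h2 := Cfsg.Agent.Lib.Helper1.BG12.card_mul_relIndex_of_le
      (Helper18.conjSub_le_of_mem h.hall.1 hm)
    rw [Helper18.card_conjSub, ← h1] at h2
    have hpos : 0 < Nat.card K := Nat.card_pos
    rw [← Nat.eq_of_mul_eq_mul_left hpos h2]
    exact hd
  · exact Helper18.conjSub_le_of_mem h.compl.1 hm
  · exact sup_le (Helper18.conjSub_le_of_mem h.hall.1 hm)
      (Cfsg.Agent.Lib.Helper28.BGt.sigmaCore_le M)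
  · rw [eq_bot_iff, hsup]
    rintro x ⟨hx1, hx2⟩
    have h1 : m⁻¹ * x * m ∈ U ⊓ (K ⊔ Cfsg.sigmaCore M) :=
      ⟨Helper18.mem_conjSub.mp hx1, Helper18.mem_conjSub.mp hx2⟩
    rw [h.compl.2.2.1, Subgroup.mem_bot] at h1
    rw [Subgroup.mem_bot]
    have h2 : x = m * (m⁻¹ * x * m) * m⁻¹ := by group
    rw [h2, h1]; group
  · intro g hg
    have hg' : m⁻¹ * g * m ∈ M := M.mul_mem (M.mul_mem (M.inv_mem hm) hg) hm
    obtain ⟨a, ha, b, hb, hab⟩ := h.compl.2.2.2 _ hg'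
    refine ⟨m * a * m⁻¹, Helper18.conj_mem_conjSub ha, m * b * m⁻¹, ?_, ?_⟩
    · rw [hsup]; exact Helper18.conj_mem_conjSub hb
    · have h2 : g = m * (m⁻¹ * g * m) * m⁻¹ := by group
      rw [h2, hab]; group
  · exact Cfsg.Agent.Lib.Helper18.SigPartD.conjSub_le_normalizer h.normal m

theorem dvd_card_hall_of_mem_kappa {M K : Subgroup G} (hK : Cfsg.IsPiHallOf (Cfsg.kappa M) K M)
    {p : ℕ} (hpκ : p ∈ Cfsg.kappa M) : p ∣ Nat.card K := by
  have h1 := Cfsg.Agent.Lib.Helper1.BG12.card_mul_relIndex_of_le hK.1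
  have h2 : p ∣ Nat.card K * K.relIndex M := by rw [h1]; exact hpκ.2.1
  rcases (Nat.Prime.dvd_mul hpκ.1).mp h2 with h | h
  · exact h
  · exact absurd h (hK.2.2 p hpκ.1 hpκ)

theorem hall_ne_bot_of_mem_kappa {M K : Subgroup G} (hK : Cfsg.IsPiHallOf (Cfsg.kappa M) K M)
    {p : ℕ} (hpκ : p ∈ Cfsg.kappa M) : K ≠ ⊥ := by
  intro e
  have hpK := dvd_card_hall_of_mem_kappa hK hpκ
  rw [e, Subgroup.card_bot] at hpK
  exact hpκ.1.one_lt.ne' (Nat.dvd_one.mp hpK)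

/-- type-P data make `κ(M)` nonempty -/
theorem typeP_exists_kappa (hG : Cfsg.IsMinSimpleOddOrder G) {M W₁ U W₂ : Subgroup G}
    (hM : IsCoatom M) (h : Cfsg.IsTypePWith M W₁ U W₂) : ∃ p, p ∈ Cfsg.kappa M := by
  have hne : Nat.card W₁ ≠ 1 := by
    intro e
    exact h.W₁_ne (Subgroup.eq_bot_of_card_eq _ e)
  obtain ⟨p, hp, hpW⟩ := Nat.exists_prime_and_dvd hne
  exact ⟨p, typeP_kappa hG hM h hp hpW⟩

/-- in a standard factorisation with `K ≠ 1` and `M_F = M_σ`, `U` complements `M_F` in `M'` -/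
theorem compl_of_sigmaDecomp (hG : Cfsg.IsMinSimpleOddOrder G) {M K U : Subgroup G}
    (hM : IsCoatom M) (hKU : Cfsg.IsSigmaDecomposition M K U) (hK1 : K ≠ ⊥)
    (hF : Cfsg.fittingHallOf M = Cfsg.sigmaCore M) :
    Cfsg.IsComplIn (Cfsg.fittingHallOf M) U ⁅M, M⁆ := by
  have hder := (Cfsg.Agent.S1365.result hG M hM K U hKU hK1).1
  rw [hF]
  refine ⟨?_, ?_, ?_, ?_⟩
  · rw [hder]; exact le_sup_right
  · rw [hder]; exact le_sup_left
  · rw [inf_comm]; exact Cfsg.Agent.Lib.Helper1.BG16.u_inf_sigmaCore M K U hKU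
  · intro x hx
    rw [hder, sup_comm] at hx
    exact Cfsg.Agent.Lib.Helper10.exists_mul_of_mem_sup (Cfsg.sigmaCore M) U
      (hKU.compl.1.trans (Cfsg.Agent.Lib.Helper28.BGt.le_normalizer_sigmaCore M)) x hx

/-- for Type II every complement of `M_F` in `M'` is the `U` of a standard factorisation -/
theorem typeII_sigmaDecomp (hG : Cfsg.IsMinSimpleOddOrder G) {M U : Subgroup G}
    (hM : IsCoatom M) (hII : Cfsg.IsOfTypeII M)
    (hU : Cfsg.IsComplIn (Cfsg.fittingHallOf M) U ⁅M, M⁆) :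
    ∃ K : Subgroup G, K ≠ ⊥ ∧ Cfsg.IsSigmaDecomposition M K U := by
  have hF := typeII_fittingHallOf_eq hG hM hII
  obtain ⟨W₁, U', W₂, h, -⟩ := hII
  obtain ⟨p, hpκ⟩ := typeP_exists_kappa hG hM h
  obtain ⟨⟨K₀, hK₀⟩, hcyc⟩ := Cfsg.Agent.S1351.result hG M hM
  obtain ⟨⟨U₀, hKU₀⟩, -⟩ := Cfsg.Agent.S1352.result hG M hM K₀ (hcyc K₀ hK₀) hK₀
  have hK1 := hall_ne_bot_of_mem_kappa hK₀ hpκ
  have hU₀ := compl_of_sigmaDecomp hG hM hKU₀ hK1 hF
  obtain ⟨w, hw, e⟩ := compl_conj hG hM hU hU₀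
  refine ⟨Helper18.conjSub w K₀, Cfsg.Agent.Lib.Helper18.SigPartD.conjSub_ne_bot hK1 w, ?_⟩
  rw [e]
  exact sigmaDecomp_conj hKU₀ (Subgroup.commutator_le_self M hw)

end Cfsg.Agent.Lib.Helper11.TypeFacts
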