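import Mathlib
import Cfsg.Prelude.Def_OddOrderLocal
import Cfsg.Agent.Lib.Helper13.BG14N
import Cfsg.Agent.Lib.Helper1.BG15.URegular
import Cfsg.Agent.Lib.Helper1.Nilp
import Cfsg.Agent.S1375
import Cfsg.Agent.S1378

set_option autoImplicit false

/-! # Elements of `M_σ` whose centralizer is not in `M`: rank bounds (helper11) -/

namespace Cfsg.Agent.Lib.Helper11.FitTI

open Cfsg Cfsg.Agent.Lib.Helper18 Cfsg.Agent.Lib.Helper28.BGt

variable {G : Type*} [Group G] [Finite G]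

/-- if `x ∈ M_σ` has prime order `r` and `C_G(x) ≤ N` but `C_G(x) ≰ M` then `r ∉ σ(N)` -/
theorem not_sigma_of_cent (hG : Cfsg.IsMinSimpleOddOrder G) {M N : Subgroup G} (hM : IsCoatom M)
    (hN : IsCoatom N) {x : G} (hx : x ∈ Cfsg.sigmaCore M) {r : ℕ} (hr : r.Prime)
    (hxo : orderOf x = r) (hxM : ¬ Subgroup.centralizer ({x} : Set G) ≤ M)
    (hxN : Subgroup.centralizer ({x} : Set G) ≤ N) : r ∉ Cfsg.sigma N := by
  intro hrN
  haveI : Fact r.Prime := ⟨hr⟩
  have hrM : r ∈ Cfsg.sigma M :=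
    Cfsg.Agent.Lib.Helper13.BG14.bg14_prime_orderOf_sigma hG hM hx hr (by rw [hxo])
  obtain ⟨g, hg⟩ := (Cfsg.Agent.S1378.result hG).2 M N hM hN ⟨r, hrM, hrN⟩
  have hxself : x ∈ Subgroup.centralizer ({x} : Set G) :=
    Subgroup.mem_centralizer_singleton_iff.mpr rfl
  have hXp : IsPGroup r (Subgroup.zpowers x) := by
    apply IsPGroup.of_card (n := 1)
    rw [Nat.card_zpowers, hxo, pow_one]
  have hX1 : Subgroup.zpowers x ≠ ⊥ := by
    intro h
    rw [Subgroup.zpowers_eq_bot] at h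
    rw [h, orderOf_one] at hxo
    exact hr.one_lt.ne hxo
  have hXM : Subgroup.zpowers x ≤ M := by
    rw [Subgroup.zpowers_le]; exact sigmaCore_le M hx
  have hXg : Subgroup.zpowers x ≤ M.map (MulAut.conj g).toMonoidHom := by
    rw [← hg, Subgroup.zpowers_le]; exact hxN hxself
  have hC : Subgroup.centralizer ((Subgroup.zpowers x : Subgroup G) : Set G) ≤
      M.map (MulAut.conj g).toMonoidHom := by
    rw [← hg]
    exact (Subgroup.centralizer_le (Set.singleton_subset_iff.mpr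
      (Subgroup.mem_zpowers x))).trans hxN
  have := Cfsg.Agent.Lib.Helper13.BG14.bg14_conj_eq_self hG hM hrM hXp hX1 hXM hXg hC
  rw [← hg] at this
  exact hxM (this ▸ hxN)

/-- an elementary abelian `r`-subgroup centralizing such an `x` has order at most `r²` -/
theorem card_le_sq_of_le_cent (hG : Cfsg.IsMinSimpleOddOrder G) {M : Subgroup G} (hM : IsCoatom M)
    {x : G} (hx : x ∈ Cfsg.sigmaCore M) {r : ℕ} (hr : r.Prime)
    (hxo : orderOf x = r) (hxM : ¬ Subgroup.centralizer ({x} : Set G) ≤ M)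
    {Z : Subgroup G} (hZc : ∀ a ∈ Z, ∀ b ∈ Z, a * b = b * a) (hZr : ∀ a ∈ Z, a ^ r = 1)
    (hZx : Z ≤ Subgroup.centralizer ({x} : Set G)) : Nat.card Z ≤ r ^ 2 := by
  have hx1 : x ≠ 1 := by
    intro h
    rw [h, orderOf_one] at hxo
    exact hr.one_lt.ne hxo
  obtain ⟨N, ⟨hN, hxN⟩, -⟩ := Cfsg.Agent.S1375.result hG M hM x hx hx1 hxM
  have hrN := not_sigma_of_cent hG hM hN hx hr hxo hxM hxN
  have h2 := Cfsg.Agent.Lib.Helper1.BG15.rank_le_two_of_not_sigma hG hN hr hrN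
  have hZN : Z ≤ N := hZx.trans hxN
  have hcomm : IsMulCommutative (Z.subgroupOf N) := by
    refine ⟨⟨?_⟩⟩
    rintro ⟨a, ha⟩ ⟨b, hb⟩
    apply Subtype.ext
    apply Subtype.ext
    exact hZc a ha b hb
  have := h2 (Z.subgroupOf N) hcomm (by
    intro a ha
    apply Subtype.ext
    simpa using hZr a ha)
  rwa [Nat.card_congr (Subgroup.subgroupOfEquivOfLe hZN).toEquiv] at this

end Cfsg.Agent.Lib.Helper11.FitTI
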