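import Mathlib
import Cfsg.Prelude.Def_OddOrderLocal
import Cfsg.Agent.Lib.Helper11.FitTIa
import Cfsg.Agent.Lib.Helper11.MaxLocB
import Cfsg.Agent.Lib.Helper11.NilpCoprime
import Cfsg.Agent.Lib.Helper11.BenderE
import Cfsg.Agent.Lib.Helper11.BenderN
import Cfsg.Agent.Lib.Helper1.BG14.SigmaATIc
import Cfsg.Agent.S1423

set_option autoImplicit false

/-! # `F(M)` is a TI-subset when a `β(M)`-Sylow subgroup of `M_σ` is normal in `M` (helper11) -/

namespace Cfsg.Agent.Lib.Helper11.FitTI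

open Cfsg Cfsg.Agent.Lib.Helper18 Cfsg.Agent.Lib.Helper28.BGt

variable {G : Type*} [Group G] [Finite G]

/-- the normalizer of a nontrivial subgroup normalized by the maximal subgroup `M` is `M` -/
theorem normalizer_eq_of_le_normalizer (hG : Cfsg.IsMinSimpleOddOrder G) {M F : Subgroup G}
    (hM : IsCoatom M) (hFM : F ≤ M) (hF1 : F ≠ ⊥) (hMF : M ≤ Subgroup.normalizer (F : Set G)) :
    Subgroup.normalizer (F : Set G) = M := by
  haveI : IsSimpleGroup G := hG.2.1
  have hFtop : F ≠ ⊤ := fun h => hM.1 (top_le_iff.mp (h ▸ hFM))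
  have hne := Cfsg.Agent.Lib.Helper11.normalizer_ne_top_of_simple hF1 hFtop
  rcases eq_or_lt_of_le hMF with h | h
  · exact h.symm
  · exact absurd (hM.2 _ h) hne

/-- powers: the prime-order power of an element of a subgroup -/
theorem exists_prime_order_pow {y : G} (hy1 : y ≠ 1) :
    ∃ r : ℕ, r.Prime ∧ ∃ k : ℕ, orderOf (y ^ k) = r := by
  have ho : orderOf y ≠ 1 := by
    intro h
    exact hy1 (orderOf_eq_one_iff.mp h)
  obtain ⟨r, hr, hrd⟩ := Nat.exists_prime_and_dvd ho
  exact ⟨r, hr, orderOf y / r, orderOf_pow_orderOf_div (orderOf_pos y).ne' hrd⟩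

/-- **TI criterion.**  If `q ∈ β(M)` and a `q`-subgroup `Q ≤ F(M)` lies in a unique maximal
subgroup, then `F(M)` is a TI-subset of `G`. -/
theorem ti_of_beta_unique (hG : Cfsg.IsMinSimpleOddOrder G) {M : Subgroup G} (hM : IsCoatom M)
    {q : ℕ} [hq : Fact q.Prime] (hqβ : q ∈ Cfsg.beta M) {Q : Subgroup G}
    (hQF : Q ≤ Cfsg.fittingOf M) (hQp : IsPGroup q Q) (hQu : Cfsg.InUniqueMaximal Q) :
    Cfsg.IsTISubset (Cfsg.fittingOf M : Set G) := by
  intro g hg y hy hgy
  by_contra hy1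
  have hFM : Cfsg.fittingOf M ≤ M := MaxLocB.fittingOf_le M
  have hF1 : Cfsg.fittingOf M ≠ ⊥ := by
    intro h
    rw [SetLike.mem_coe, h, Subgroup.mem_bot] at hy
    exact hy1 hy
  have hNF : Subgroup.normalizer ((Cfsg.fittingOf M : Subgroup G) : Set G) = M :=
    normalizer_eq_of_le_normalizer hG hM hFM hF1 (MaxLocB.le_normalizer_fittingOf M)
  rw [hNF] at hg
  have hNM : Subgroup.normalizer (M : Set G) = M :=
    Cfsg.Agent.Lib.Helper1.BG14.normalizer_coatom hG hM
  obtain ⟨r, hr, k, hxo⟩ := exists_prime_order_pow hy1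
  haveI : Fact r.Prime := ⟨hr⟩
  set x := y ^ k with hxdef
  have hx : x ∈ Cfsg.fittingOf M := Subgroup.pow_mem _ hy k
  have hgx : g * x * g⁻¹ ∈ Cfsg.fittingOf M := by
    have : g * x * g⁻¹ = (g * y * g⁻¹) ^ k := by rw [hxdef, conj_pow]
    rw [this]
    exact Subgroup.pow_mem _ hgy k
  have hx1 : x ≠ 1 := by
    intro h
    rw [h, orderOf_one] at hxo
    exact hr.one_lt.ne hxo
  have hqσ : q ∈ Cfsg.sigma M :=
    Cfsg.Agent.Lib.Helper11.BenderN.alpha_sub_sigma hG M hM q hqβ.1
  have hQM : Q ≤ M := hQF.trans hFM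
  -- the unique maximal subgroup over `Q` is `M`
  have hQuM : ∀ L : Subgroup G, IsCoatom L → Q ≤ L → L = M := by
    intro L hL hQL
    exact hQu.unique ⟨hL, hQL⟩ ⟨hM, hQM⟩
  haveI hnil : Group.IsNilpotent ↥(Cfsg.fittingOf M) := MaxLocB.fittingOf_nilpotent M
  by_cases hrq : r = q
  · -- `x` is a `q`-element, `q ∈ β(M)`
    subst hrq
    have key : ∀ z : G, z ∈ M → orderOf z = r → Subgroup.centralizer ({z} : Set G) ≤ M := by
      intro z hz hzo
      obtain ⟨P⟩ : Nonempty (Sylow r ↥(Cfsg.sigmaCore M)) := inferInstance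
      have h := (Cfsg.Agent.S1423.result hG M hM r hqσ (Subgroup.zpowers z)
        (by rw [Subgroup.zpowers_le]; exact hz) (by rw [Nat.card_zpowers, hzo]) P (Or.inl hqβ)).1.1
      intro c hc
      apply h
      rw [Subgroup.mem_centralizer_singleton_iff] at hc
      rw [Subgroup.mem_centralizer_iff]
      intro w hw
      obtain ⟨n, rfl⟩ := Subgroup.mem_zpowers_iff.mp hw
      have h1 : Commute z c := hc.symm
      exact (h1.zpow_left n).eq
    have hxM : x ∈ M := hFM hx
    have hgxM : g * x * g⁻¹ ∈ M := hFM hgx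
    have hgxo : orderOf (g * x * g⁻¹) = r := by
      have : g * x * g⁻¹ = MulAut.conj g x := by simp [MulAut.conj_apply]
      rw [this, MulEquiv.orderOf_eq, hxo]
    have hC1 := key x hxM hxo
    have hC2 := key _ hgxM hgxo
    -- `g⁻¹ ∈ C(x)`-coset argument: `C(x) ≤ M` and `C(gxg⁻¹) ≤ M`
    have hXp : IsPGroup r (Subgroup.zpowers x) := by
      apply IsPGroup.of_card (n := 1)
      rw [Nat.card_zpowers, hxo, pow_one]
    have hX1 : Subgroup.zpowers x ≠ ⊥ := by
      intro h
      rw [Subgroup.zpowers_eq_bot] at h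
      exact hx1 h
    have hXM : Subgroup.zpowers x ≤ M := by
      rw [Subgroup.zpowers_le]; exact hxM
    have hXg : Subgroup.zpowers x ≤ M.map (MulAut.conj g⁻¹).toMonoidHom := by
      rw [Subgroup.zpowers_le]
      refine ⟨g * x * g⁻¹, hgxM, ?_⟩
      simp [MulAut.conj_apply, mul_assoc]
    have hC : Subgroup.centralizer ((Subgroup.zpowers x : Subgroup G) : Set G) ≤
        M.map (MulAut.conj g⁻¹).toMonoidHom := by
      intro c hc
      have hcx : c * x = x * c := by
        rw [Subgroup.mem_centralizer_iff] at hc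
        exact (hc x (Subgroup.mem_zpowers x)).symm
      refine ⟨g * c * g⁻¹, hC2 ?_, ?_⟩
      · rw [Subgroup.mem_centralizer_singleton_iff]
        calc g * c * g⁻¹ * (g * x * g⁻¹) = g * (c * x) * g⁻¹ := by group
          _ = g * (x * c) * g⁻¹ := by rw [hcx]
          _ = g * x * g⁻¹ * (g * c * g⁻¹) := by group
      · simp [MulAut.conj_apply, mul_assoc]
    have h1 := Cfsg.Agent.Lib.Helper13.BG14.bg14_conj_eq_self hG hM hqσ hXp hX1 hXM hXg hC
    have h2 : g⁻¹ ∈ Subgroup.normalizer (M : Set G) := by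
      rw [Subgroup.mem_normalizer_iff_map_conj_eq]
      exact h1
    rw [hNM] at h2
    exact hg (by simpa using M.inv_mem h2)
  · -- `x` is a `q'`-element of the nilpotent group `F(M)`: it centralizes `Q`
    have hcomm : ∀ z : G, z ∈ Cfsg.fittingOf M → orderOf z = r → ∀ u ∈ Q, u * z = z * u := by
      intro z hz hzo u hu
      have hcop : (orderOf (⟨u, hQF hu⟩ : ↥(Cfsg.fittingOf M))).Coprime
          (orderOf (⟨z, hz⟩ : ↥(Cfsg.fittingOf M))) := by
        rw [Subgroup.orderOf_mk, Subgroup.orderOf_mk, hzo]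
        obtain ⟨n, hn⟩ := (IsPGroup.iff_orderOf.mp hQp) ⟨u, hu⟩
        rw [Subgroup.orderOf_mk] at hn
        rw [hn]
        exact Nat.Coprime.pow_left n ((Nat.coprime_primes hq.out hr).mpr (Ne.symm hrq))
      have := Cfsg.Agent.Lib.Helper11.commute_of_coprime_orderOf
        (⟨u, hQF hu⟩ : ↥(Cfsg.fittingOf M)) ⟨z, hz⟩ hcop
      exact congrArg Subtype.val this.eq
    have hQx : Q ≤ Subgroup.centralizer ({x} : Set G) := by
      intro u hu
      rw [Subgroup.mem_centralizer_singleton_iff]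
      exact hcomm x hx hxo u hu
    have hgxo : orderOf (g * x * g⁻¹) = r := by
      have : g * x * g⁻¹ = MulAut.conj g x := by simp [MulAut.conj_apply]
      rw [this, MulEquiv.orderOf_eq, hxo]
    have hQgx : ∀ u ∈ Q, g⁻¹ * u * g ∈ Subgroup.centralizer ({x} : Set G) := by
      intro u hu
      rw [Subgroup.mem_centralizer_singleton_iff]
      have h := hcomm _ hgx hgxo u hu
      calc g⁻¹ * u * g * x = g⁻¹ * (u * (g * x * g⁻¹)) * g := by group
        _ = g⁻¹ * (g * x * g⁻¹ * u) * g := by rw [h]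
        _ = x * (g⁻¹ * u * g) := by group
    haveI : IsSimpleGroup G := hG.2.1
    have hCtop : Subgroup.centralizer ({x} : Set G) ≠ ⊤ := by
      intro h
      have hxc : x ∈ Subgroup.center G := by
        rw [Subgroup.mem_center_iff]
        intro w
        have : w ∈ Subgroup.centralizer ({x} : Set G) := h ▸ Subgroup.mem_top w
        rw [Subgroup.mem_centralizer_singleton_iff] at this
        exact this
      have hcn : (Subgroup.center G) = ⊥ ∨ (Subgroup.center G) = ⊤ :=
        Subgroup.Normal.eq_bot_or_eq_top inferInstance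
      rcases hcn with h0 | h0
      · rw [h0, Subgroup.mem_bot] at hxc
        exact hx1 hxc
      · -- `G` abelian simple of odd order containing a proper nontrivial subgroup `M`
        have hMn : M.Normal := by
          refine ⟨fun a ha b => ?_⟩
          have hb : b ∈ Subgroup.center G := h0 ▸ Subgroup.mem_top b
          rw [Subgroup.mem_center_iff] at hb
          have : b * a * b⁻¹ = a := by rw [← hb a]; group
          rw [this]; exact ha
        rcases hMn.eq_bot_or_eq_top with h3 | h3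
        · exact hF1 (by rw [eq_bot_iff, ← h3]; exact hFM)
        · exact hM.1 h3
    obtain ⟨L, hL, hCL⟩ := Cfsg.Agent.Lib.Helper11.BenderE.exists_coatom_ge _ hCtop
    have hLM : L = M := hQuM L hL (hQx.trans hCL)
    have hL' : IsCoatom (conjSub g L) := Cfsg.Agent.Lib.Helper11.BenderF.isCoatom_conjSub g hL
    have hLM' : conjSub g L = M := by
      apply hQuM _ hL'
      intro u hu
      rw [mem_conjSub]
      exact hCL (hQgx u hu)
    rw [hLM] at hLM'
    have h2 : g ∈ Subgroup.normalizer (M : Set G) := by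
      rw [Subgroup.mem_normalizer_iff_map_conj_eq]
      exact hLM'
    rw [hNM] at h2
    exact hg h2

/-- **TI criterion, Sylow form.**  If `q ∈ β(M)` and the Sylow `q`-subgroup `Q` of `M_σ` is normal
in `M`, then `F(M)` is a TI-subset (`X` is any subgroup of `M` of order `q`). -/
theorem ti_of_beta_sylow (hG : Cfsg.IsMinSimpleOddOrder G) {M : Subgroup G} (hM : IsCoatom M)
    {q : ℕ} (hqp : q.Prime) (hqβ : q ∈ Cfsg.beta M) {X : Subgroup G} (hXM : X ≤ M)
    (hXq : Nat.card X = q) {Q : Subgroup G} (hQM : Q ≤ M)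
    (hQn : M ≤ Subgroup.normalizer (Q : Set G)) (hQp : IsPGroup q Q)
    (hQi : ¬ q ∣ Q.relIndex (Cfsg.sigmaCore M)) :
    Cfsg.IsTISubset (Cfsg.fittingOf M : Set G) := by
  haveI : Fact q.Prime := ⟨hqp⟩
  have hqσ : q ∈ Cfsg.sigma M :=
    Cfsg.Agent.Lib.Helper11.BenderN.alpha_sub_sigma hG M hM q hqβ.1
  have hQσ : Q ≤ Cfsg.sigmaCore M := by
    intro u hu
    obtain ⟨n, hn⟩ := (IsPGroup.iff_orderOf.mp hQp) ⟨u, hu⟩
    rw [Subgroup.orderOf_mk] at hn
    exact pelem_mem_sigmaCore hG hM hqσ (hQM hu) (k := n) (by rw [← hn]; exact pow_orderOf_eq_one u)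
  have hQF : Q ≤ Cfsg.fittingOf M :=
    Cfsg.Agent.Lib.Helper28.BGt.le_fittingOf hQM hQn hQp.isNilpotent
  have hP1 : IsPGroup q (Q.subgroupOf (Cfsg.sigmaCore M)) :=
    hQp.comap_of_injective _ (Subgroup.subtype_injective _)
  have hQi' : ¬ q ∣ (Q.subgroupOf (Cfsg.sigmaCore M)).index := hQi
  obtain ⟨P, hPdef⟩ : ∃ P : Sylow q ↥(Cfsg.sigmaCore M),
      (P : Subgroup ↥(Cfsg.sigmaCore M)) = Q.subgroupOf (Cfsg.sigmaCore M) :=
    ⟨hP1.toSylow hQi', IsPGroup.toSylow_coe hP1 hQi'⟩
  have hPQ : (P : Subgroup ↥(Cfsg.sigmaCore M)).map (Cfsg.sigmaCore M).subtype = Q := by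
    rw [hPdef, Subgroup.map_subgroupOf_eq_of_le hQσ]
  have h := (Cfsg.Agent.S1423.result hG M hM q hqσ X hXM hXq P (Or.inl hqβ)).2.1
  rw [hPQ] at h
  exact ti_of_beta_unique hG hM hqβ hQF hQp h

end Cfsg.Agent.Lib.Helper11.FitTI
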