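import Cfsg.Agent.Lib.Helper1.PLK.Defs
import Cfsg.Agent.Lib.Helper29.GLK.PieceB2

/-!
Project PLK (S2480, designer helper1), row U8 `count_add_nu`: core.  The statements of the rows U6
(`nu_decomp`) and U7 (`min_identity`) are hypotheses; `glkB_count` is cited.
-/

set_option autoImplicit false

namespace Cfsg.Agent.Lib.Helper1.PLK

open Polynomial
open Cfsg.Agent.Lib.Helper29.GLK
open Cfsg.Agent.Lib.Helper1.SLK

universe u

/-- for monic `P`: `normalize q = P` iff `q ~ P` -/
theorem plku8_normalize_eq_iff {F : Type u} [Field F] [DecidableEq F] (q P : F[X]) (hPm : P.Monic) :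
    normalize q = P ↔ Associated q P := by
  constructor
  · intro h
    rw [← h]
    exact (normalize_associated q).symm
  · intro h
    rw [normalize_eq_normalize_iff.2 ⟨h.dvd, h.symm.dvd⟩, hPm.normalize_eq_self]

/-- core of U8 (`count_add_nu`) -/
theorem plku8_core {F : Type u} [Field F] [DecidableEq F] {n : ℕ}
    (hU6 : ∀ (x : Matrix.GeneralLinearGroup (Fin n) F) {ι : Type u} [Fintype ι] (p : ι → F[X])
      (e : ι → ℕ) (_ : ∀ j, Irreducible (p j))
      (_ : gMod x ≃ₗ[F[X]] DirectSum ι fun j => F[X] ⧸ Ideal.span {p j ^ e j})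
      (P : F[X]) (_ : Irreducible P) (k : ℕ),
      nu x (P ^ k) =
        P.natDegree * ∑ j, (open Classical in if Associated (p j) P then min (e j) k else 0))
    (hU7 : ∀ {ι : Type u} (s : Finset ι) (e : ι → ℕ) (k : ℕ),
      ∑ j ∈ s, min (e j) (k + 2) + ∑ j ∈ s, min (e j) k + (s.filter (fun j => e j = k + 1)).card =
        2 * ∑ j ∈ s, min (e j) (k + 1))
    (x : Matrix.GeneralLinearGroup (Fin n) F) (G : ℕ → F[X]) (h : IsInv x G)
    (P : F[X]) (hP : Irreducible P) (hPm : P.Monic) (i : ℕ) :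
    P.natDegree * Multiset.count P (UniqueFactorizationMonoid.normalizedFactors (G i)) +
        nu x (P ^ (i + 2)) + nu x (P ^ i) = 2 * nu x (P ^ (i + 1)) := by
  classical
  obtain ⟨ι, hι, p, e, hp, _, ⟨Φ⟩, hG⟩ := h
  let s : Finset ι := Finset.univ.filter (fun j => Associated (p j) P)
  have hnu : ∀ k : ℕ, nu x (P ^ k) = P.natDegree * ∑ j ∈ s, min (e j) k := by
    intro k
    rw [hU6 x p e hp Φ P hP k]
    congr 1
    rw [Finset.sum_filter]
  have hcount : Multiset.count P (UniqueFactorizationMonoid.normalizedFactors (G i)) =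
      (s.filter (fun j => e j = i + 1)).card := by
    rw [hG i, ← glkB_count p e hp i P, Fintype.card_subtype]
    congr 1
    ext j
    simp only [Finset.mem_filter, Finset.mem_univ, true_and, Prod.mk.injEq, s]
    rw [plku8_normalize_eq_iff (p j) P hPm]
  rw [hcount, hnu, hnu, hnu]
  have h7 := hU7 s e i
  calc P.natDegree * (s.filter (fun j => e j = i + 1)).card +
        P.natDegree * ∑ j ∈ s, min (e j) (i + 2) + P.natDegree * ∑ j ∈ s, min (e j) i
      = P.natDegree * (∑ j ∈ s, min (e j) (i + 2) + ∑ j ∈ s, min (e j) i +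
          (s.filter (fun j => e j = i + 1)).card) := by ring
    _ = P.natDegree * (2 * ∑ j ∈ s, min (e j) (i + 1)) := by rw [h7]
    _ = 2 * (P.natDegree * ∑ j ∈ s, min (e j) (i + 1)) := by ring

end Cfsg.Agent.Lib.Helper1.PLK
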