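import Mathlib
import Cfsg.Prelude.Def_Characters
import Cfsg.Agent.Lib.helper7.PM2.Defs

/-! Project PM2, pieces SI3 / SI4 (cores): the sums of `symSq ζ * conj (pw ζ k)` and of
`ζ^2 * conj (pw ζ k)` over the `p`-singular elements, taking the statements of TI3, SINGVAL, NUSUM and
ROOTS as hypotheses. -/

set_option autoImplicit false
set_option linter.unusedVariables false
set_option linter.unusedSectionVars false

namespace Cfsg.Agent.Lib.helper7.PM2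

open scoped ComplexConjugate

universe u

variable {G : Type u} [Group G] [Fintype G] {p : ℕ} {ζ : G → ℂ} {x : G} {ω : ℂ}

theorem pm2si_irr_classFunction {χ : G → ℂ} (hχ : Cfsg.IsIrrCharacter G χ) :
    Cfsg.IsClassFunction G χ := by
  obtain ⟨n, ρ, _, rfl⟩ := hχ
  intro g h
  exact Representation.char_conj ρ g h

theorem pm2si_pw_classFunction {χ : G → ℂ} (hχ : Cfsg.IsClassFunction G χ) (k : ℕ) :
    Cfsg.IsClassFunction G (pw χ k) := by
  intro g h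
  simp only [pw_apply]
  rw [conj_pow]
  exact hχ _ _

theorem pm2si_symSq_classFunction {χ : G → ℂ} (hχ : Cfsg.IsClassFunction G χ) :
    Cfsg.IsClassFunction G (symSq χ) := by
  intro g h
  simp only [symSq_apply]
  rw [conj_pow, hχ, hχ]

theorem pm2si_not_dvd_of_mem_Ico {p m : ℕ} (hm : m ∈ Finset.Ico 1 p) : ¬ p ∣ m := by
  rw [Finset.mem_Ico] at hm
  intro h
  have := Nat.le_of_dvd (by omega) h
  omega

theorem pm2si_pow_mod {p : ℕ} {ω : ℂ} (hω : IsPrimitiveRoot ω p) (k : ℕ) : ω ^ k = ω ^ (k % p) := by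
  conv_lhs => rw [← Nat.div_add_mod k p, pow_add, pow_mul, hω.pow_eq_one, one_pow, one_mul]

theorem pm2si_pow_cong {p : ℕ} {ω : ℂ} (hω : IsPrimitiveRoot ω p) {a b : ℕ} (h : a ≡ b [MOD p]) :
    ω ^ a = ω ^ b := by
  rw [pm2si_pow_mod hω a, pm2si_pow_mod hω b, h]

theorem pm2si_inv_pow_cong {p : ℕ} {ω : ℂ} (hω : IsPrimitiveRoot ω p) {a b : ℕ} (h : a ≡ b [MOD p]) :
    ω⁻¹ ^ a = ω⁻¹ ^ b := by
  rw [inv_pow, inv_pow, pm2si_pow_cong hω h]

/-- the common last step -/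
theorem pm2si_solve (S : Setting p ζ x ω) (T d : ℂ)
    (h : (2 * (p : ℂ) * (Nat.card (Subgroup.center G) : ℂ)) * T =
      (Nat.card G : ℂ) * (d * (Nat.card (Subgroup.center G) : ℂ))) :
    T = (Nat.card G : ℂ) * d / (2 * (p : ℂ)) := by
  have hp0 : (p : ℂ) ≠ 0 := Nat.cast_ne_zero.mpr S.hp.ne_zero
  have ho0 : (Nat.card (Subgroup.center G) : ℂ) ≠ 0 :=
    Nat.cast_ne_zero.mpr (Nat.card_pos.ne')
  have h2 : (Nat.card (Subgroup.center G) : ℂ) * (T * (2 * (p : ℂ))) =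
      (Nat.card (Subgroup.center G) : ℂ) * ((Nat.card G : ℂ) * d) := by
    linear_combination h
  have h3 := mul_left_cancel₀ ho0 h2
  rw [eq_div_iff (mul_ne_zero two_ne_zero hp0)]
  exact h3

/-- SI3, core -/
theorem pm2si3_core (S : Setting p ζ x ω) (k : ℕ) (hk : ¬ p ∣ k)
    (hk2 : k ≡ 2 [MOD Nat.card (Subgroup.center G)])
    (hTI3 : ∀ F : G → ℂ, Cfsg.IsClassFunction G F →
      (2 * (p : ℂ) * (Nat.card (Subgroup.center G) : ℂ)) * ∑ g ∈ sing p G, F g =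
        (Nat.card G : ℂ) * ∑ m ∈ Finset.Ico 1 p, ∑ c ∈ cen G, F (x ^ m * c))
    (hpw : ∀ m : ℕ, ¬ p ∣ m → ∀ {c : G}, c ∈ Subgroup.center G →
      pw ζ k (x ^ m * c) = -(ω ^ (k * m) + ω⁻¹ ^ (k * m)) * nu ζ c ^ k)
    (hsym : ∀ m : ℕ, ¬ p ∣ m → ∀ {c : G}, c ∈ Subgroup.center G →
      symSq ζ (x ^ m * c) = nu ζ c ^ 2)
    (hnu : ∑ c ∈ cen G, nu ζ c ^ 2 * conj (nu ζ c ^ k) =
      if 2 ≡ k [MOD Nat.card (Subgroup.center G)] then (Nat.card (Subgroup.center G) : ℂ) else 0)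
    (hroot : ∑ m ∈ Finset.Ico 1 p, (ω ^ (k * m) + ω⁻¹ ^ (k * m)) = -2) :
    ∑ g ∈ sing p G, symSq ζ g * conj (pw ζ k g) = (Nat.card G : ℂ) / (p : ℂ) := by
  have hζ := pm2si_irr_classFunction S.irr
  have hcf : Cfsg.IsClassFunction G (fun g => symSq ζ g * conj (pw ζ k g)) := by
    intro g h
    show symSq ζ (h * g * h⁻¹) * conj (pw ζ k (h * g * h⁻¹)) = symSq ζ g * conj (pw ζ k g)
    rw [pm2si_symSq_classFunction hζ g h, pm2si_pw_classFunction hζ k g h]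
  have h1 := hTI3 _ hcf
  rw [if_pos hk2.symm] at hnu
  have h2 : ∑ m ∈ Finset.Ico 1 p, ∑ c ∈ cen G,
      symSq ζ (x ^ m * c) * conj (pw ζ k (x ^ m * c)) =
      2 * (Nat.card (Subgroup.center G) : ℂ) := by
    have h3 : ∀ m ∈ Finset.Ico 1 p, ∑ c ∈ cen G,
        symSq ζ (x ^ m * c) * conj (pw ζ k (x ^ m * c)) =
        -conj (ω ^ (k * m) + ω⁻¹ ^ (k * m)) * (Nat.card (Subgroup.center G) : ℂ) := by
      intro m hm
      have hm' := pm2si_not_dvd_of_mem_Ico hm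
      rw [← hnu, Finset.mul_sum]
      apply Finset.sum_congr rfl
      intro c hc
      have hc' := (mem_cen c).mp hc
      rw [hsym m hm' hc', hpw m hm' hc', map_mul, map_neg]
      ring
    rw [Finset.sum_congr rfl h3, ← Finset.sum_mul, Finset.sum_neg_distrib, ← map_sum, hroot]
    rw [map_neg, neg_neg]
    have : (starRingEnd ℂ) (2 : ℂ) = 2 := Complex.conj_ofNat 2
    rw [this]
  rw [h2] at h1
  have := pm2si_solve S _ 2 h1
  rw [this]
  have hp0 : (p : ℂ) ≠ 0 := Nat.cast_ne_zero.mpr S.hp.ne_zero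
  field_simp

/-- SI4, core -/
theorem pm2si4_core (S : Setting p ζ x ω) (k : ℕ) (hk1 : k ≡ 1 [MOD p])
    (hk2 : k ≡ 2 [MOD Nat.card (Subgroup.center G)])
    (hTI3 : ∀ F : G → ℂ, Cfsg.IsClassFunction G F →
      (2 * (p : ℂ) * (Nat.card (Subgroup.center G) : ℂ)) * ∑ g ∈ sing p G, F g =
        (Nat.card G : ℂ) * ∑ m ∈ Finset.Ico 1 p, ∑ c ∈ cen G, F (x ^ m * c))
    (hpw : ∀ m : ℕ, ¬ p ∣ m → ∀ {c : G}, c ∈ Subgroup.center G →
      pw ζ k (x ^ m * c) = -(ω ^ (k * m) + ω⁻¹ ^ (k * m)) * nu ζ c ^ k)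
    (hnu : ∑ c ∈ cen G, nu ζ c ^ 2 * conj (nu ζ c ^ k) =
      if 2 ≡ k [MOD Nat.card (Subgroup.center G)] then (Nat.card (Subgroup.center G) : ℂ) else 0)
    (hroot : ∑ m ∈ Finset.Ico 1 p, (ω ^ m + ω⁻¹ ^ m) ^ 2 * conj (ω ^ m + ω⁻¹ ^ m) = -8) :
    ∑ g ∈ sing p G, ζ g ^ 2 * conj (pw ζ k g) = 4 * (Nat.card G : ℂ) / (p : ℂ) := by
  have hζ := pm2si_irr_classFunction S.irr
  have hcf : Cfsg.IsClassFunction G (fun g => ζ g ^ 2 * conj (pw ζ k g)) := by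
    intro g h
    show ζ (h * g * h⁻¹) ^ 2 * conj (pw ζ k (h * g * h⁻¹)) = ζ g ^ 2 * conj (pw ζ k g)
    rw [hζ g h, pm2si_pw_classFunction hζ k g h]
  have h1 := hTI3 _ hcf
  rw [if_pos hk2.symm] at hnu
  have hkm : ∀ m : ℕ, k * m ≡ m [MOD p] := by
    intro m
    have := Nat.ModEq.mul_right m hk1
    rwa [one_mul] at this
  have h2 : ∑ m ∈ Finset.Ico 1 p, ∑ c ∈ cen G,
      ζ (x ^ m * c) ^ 2 * conj (pw ζ k (x ^ m * c)) =
      8 * (Nat.card (Subgroup.center G) : ℂ) := by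
    have h3 : ∀ m ∈ Finset.Ico 1 p, ∑ c ∈ cen G,
        ζ (x ^ m * c) ^ 2 * conj (pw ζ k (x ^ m * c)) =
        -((ω ^ m + ω⁻¹ ^ m) ^ 2 * conj (ω ^ m + ω⁻¹ ^ m)) *
          (Nat.card (Subgroup.center G) : ℂ) := by
      intro m hm
      have hm' := pm2si_not_dvd_of_mem_Ico hm
      rw [← hnu, Finset.mul_sum]
      apply Finset.sum_congr rfl
      intro c hc
      have hc' := (mem_cen c).mp hc
      rw [S.val m hm' c hc', hpw m hm' hc', pm2si_pow_cong S.prim (hkm m),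
        pm2si_inv_pow_cong S.prim (hkm m), map_mul, map_neg]
      ring
    rw [Finset.sum_congr rfl h3, ← Finset.sum_mul, Finset.sum_neg_distrib, hroot]
    ring
  rw [h2] at h1
  have := pm2si_solve S _ 8 h1
  rw [this]
  have hp0 : (p : ℂ) ≠ 0 := Nat.cast_ne_zero.mpr S.hp.ne_zero
  field_simp
  ring

end Cfsg.Agent.Lib.helper7.PM2
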