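import Mathlib
import Cfsg.Agent.Lib.helper7.REE.Defs

/-!
# REE rows GENE (`sylow_cyclic_of_sub`) and GENF (`cyclic_char`).
-/

set_option autoImplicit false

namespace Cfsg.Agent.Lib.helper7.REE

universe u

section GEN

variable {G : Type u} [Group G] [Finite G]

/-- a cyclic subgroup containing a full Sylow `p`-subgroup gives a cyclic Sylow `p`-subgroup of `G` -/
theorem reegene_exists (C : Subgroup G) (hC : IsCyclic C) (p : ℕ) [Fact p.Prime]
    (hfull : ¬ p ∣ Nat.card G / Nat.card C) : ∃ P' : Sylow p G, IsCyclic (P' : Subgroup G) := by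
  have := hC
  have hp : p.Prime := Fact.out
  -- a Sylow `p`-subgroup of `C`
  obtain ⟨Q⟩ : Nonempty (Sylow p C) := inferInstance
  have hQcard : Nat.card (Q : Subgroup C) = p ^ (Nat.card C).factorization p := Q.card_eq_multiplicity
  -- the factorizations agree
  have hdvd : Nat.card C ∣ Nat.card G := Subgroup.card_subgroup_dvd_card C
  have hCpos : Nat.card C ≠ 0 := Nat.card_pos.ne'
  have hGpos : Nat.card G ≠ 0 := Nat.card_pos.ne'
  have hquot : Nat.card G / Nat.card C ≠ 0 := by
    intro h
    have := Nat.div_mul_cancel hdvd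
    rw [h, zero_mul] at this
    exact hGpos this.symm
  have hfac : (Nat.card G).factorization p = (Nat.card C).factorization p := by
    have h1 : Nat.card G = Nat.card C * (Nat.card G / Nat.card C) := (Nat.mul_div_cancel' hdvd).symm
    rw [h1, Nat.factorization_mul hCpos hquot, Finsupp.add_apply,
      Nat.factorization_eq_zero_of_not_dvd hfull, add_zero]
  -- the image in `G`
  set Q' : Subgroup G := (Q : Subgroup C).map C.subtype with hQ'
  have hcardQ' : Nat.card Q' = p ^ (Nat.card G).factorization p := by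
    rw [hfac, ← hQcard]
    exact Nat.card_congr ((Q : Subgroup C).equivMapOfInjective C.subtype C.subtype_injective).symm.toEquiv
  refine ⟨Sylow.ofCard Q' hcardQ', ?_⟩
  show IsCyclic Q'
  have e := (Q : Subgroup C).equivMapOfInjective C.subtype C.subtype_injective
  exact isCyclic_of_surjective e.toMonoidHom e.surjective

theorem sylow_cyclic_of_sub (C : Subgroup G) (hC : IsCyclic C) (p : ℕ) [Fact p.Prime]
    (hfull : ¬ p ∣ Nat.card G / Nat.card C) (P : Sylow p G) : IsCyclic (P : Subgroup G) := by
  obtain ⟨P', hP'⟩ := reegene_exists C hC p hfull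
  have := hP'
  have e : (P' : Subgroup G) ≃* (P : Subgroup G) := Sylow.equiv P' P
  exact isCyclic_of_surjective e.toMonoidHom e.surjective

theorem cyclic_char (A A₀ : Subgroup G) (hA : IsCyclic A) (h₀ : A₀ ≤ A) (g : G)
    (hg : ∀ a ∈ A, g * a * g⁻¹ ∈ A) : ∀ a ∈ A₀, g * a * g⁻¹ ∈ A₀ := by
  have := hA
  let σ : A →* A :=
    { toFun := fun a => ⟨g * a.1 * g⁻¹, hg a.1 a.2⟩
      map_one' := by
        apply Subtype.ext
        simp
      map_mul' := by
        intro x y
        apply Subtype.ext
        simp [mul_assoc] }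
  obtain ⟨m, hm⟩ := MonoidHom.map_cyclic σ
  intro a ha
  have h1 := congrArg Subtype.val (hm ⟨a, h₀ ha⟩)
  have h2 : g * a * g⁻¹ = a ^ m := by
    simpa [σ] using h1
  rw [h2]
  exact A₀.zpow_mem ha m

end GEN

end Cfsg.Agent.Lib.helper7.REE
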