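import Mathlib
import Cfsg.Agent.Lib.Helper18.REELA.Defs
import Cfsg.Agent.Lib.Helper5.REELA12

/-!
# Project REE, block LA, row LA13 (`la_abs_fix`), verbatim vs `Helper18/REELA/Skel.lean.txt`.
-/

set_option autoImplicit false

namespace Cfsg.Agent.Lib.helper7.REE

open Matrix Polynomial

universe v

section finite

variable {K : Type v} [Field K] [Fintype K]

variable {V : Type*} [AddCommGroup V] [Module K V]

/-- LA13 [S]. A finite group of order prime to `|K| - 1` commuting with `f` fixes `ker (f - 1)`
pointwise.  (LA12 with `k = Nat.card G`; `ρ g` commutes with `f - 1`.) -/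
theorem la_abs_fix (f : Module.End K V) (p : K[X]) (hs : LaSplit f p)
    {G : Type*} [Group G] [Finite G] (ρ : G →* Module.End K V)
    (hcom : ∀ g, Commute (ρ g) f) (hcop : (Nat.card G).Coprime (Fintype.card K - 1)) :
    ∀ g : G, ∀ x ∈ LinearMap.ker (f - 1), ρ g x = x := by
  intro g
  refine la_fix_line (LinearMap.ker (f - 1)) hs.one (ρ g) ?_ (Nat.card G) Nat.card_pos ?_ hcop
  · intro x hx
    rw [LinearMap.mem_ker, LinearMap.sub_apply, Module.End.one_apply, sub_eq_zero] at hx ⊢
    have h := congrArg (fun e : Module.End K V => e x) (hcom g).eq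
    simp only [Module.End.mul_apply] at h
    rw [← h, hx]
  · rw [← map_pow, pow_card_eq_one', map_one]

end finite

end Cfsg.Agent.Lib.helper7.REE
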