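import Mathlib
import Cfsg.Agent.Lib.helper7.REE.Defs

/-!
# REE row ARE (`ar_two_classes`): the final Diophantine step of Ward's theorem.
-/

set_option autoImplicit false

namespace Cfsg.Agent.Lib.helper7.REE

/-- `q = 3 q'` with `q' = 3 ^ (2 m)` -/
theorem reeare_q_eq (m : ℕ) : qq m = 3 * 3 ^ (2 * m) := by
  unfold qq
  rw [pow_succ]
  ring

theorem reeare_q_ge (m : ℕ) (hm : 1 ≤ m) : 27 ≤ qq m := by
  unfold qq
  calc 27 = 3 ^ 3 := by norm_num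
    _ ≤ 3 ^ (2 * m + 1) := Nat.pow_le_pow_right (by norm_num) (by omega)

theorem reeare_r_sq (m : ℕ) : rr m ^ 2 = 3 * qq m := by
  unfold rr qq
  rw [← pow_mul, ← pow_succ']
  congr 1
  ring

/-- `N₀` over `ℤ` -/
theorem reeare_nn_cast (m : ℕ) : ((nn m : ℕ) : ℤ) = (qq m : ℤ) ^ 2 - (qq m : ℤ) + 1 := by
  unfold nn
  have h : qq m ≤ qq m ^ 2 := by
    have h1 : 1 ≤ qq m := Nat.one_le_pow _ _ (by norm_num)
    calc qq m = qq m * 1 := (mul_one _).symm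
      _ ≤ qq m * qq m := Nat.mul_le_mul_left _ h1
      _ = qq m ^ 2 := (sq _).symm
  push_cast [Nat.cast_sub h]
  ring

/-- `|G|` over `ℤ` -/
theorem reeare_gg_cast (m : ℕ) :
    ((gg m : ℕ) : ℤ) = (qq m : ℤ) ^ 3 * ((qq m : ℤ) - 1) * ((qq m : ℤ) + 1) * (nn m : ℤ) := by
  unfold gg
  have h1 : 1 ≤ qq m := Nat.one_le_pow _ _ (by norm_num)
  rw [reeare_nn_cast]
  push_cast [Nat.cast_sub h1]
  ring

/-- the number of π-elements over `ℤ`, times `3 N₀` -/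
theorem reeare_count_cast (m : ℕ) (hm : 1 ≤ m) :
    3 * (nn m : ℤ) * ((qq m ^ 3 * (qq m / 3) * (qq m ^ 2 - 1) * (qq m - 2) : ℕ) : ℤ) =
      (gg m : ℤ) * ((qq m : ℤ) * ((qq m : ℤ) - 2)) := by
  have hq := reeare_q_ge m hm
  have h2 : 2 ≤ qq m := by omega
  have h1 : 1 ≤ qq m ^ 2 := Nat.one_le_pow _ _ (by omega)
  have h3 : qq m / 3 * 3 = qq m := Nat.div_mul_cancel ⟨3 ^ (2 * m), reeare_q_eq m⟩
  generalize qq m / 3 = q' at h3 ⊢
  have h3' : (q' : ℤ) * 3 = (qq m : ℤ) := by exact_mod_cast h3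
  rw [reeare_gg_cast]
  push_cast [Nat.cast_sub h2, Nat.cast_sub h1]
  linear_combination ((qq m : ℤ) ^ 3 * ((qq m : ℤ) ^ 2 - 1) * ((qq m : ℤ) - 2) * (nn m : ℤ)) * h3'

/-- `N₀` is odd -/
theorem reeare_nn_odd (m : ℕ) : Odd (nn m) := by
  unfold nn
  have h : Even (qq m ^ 2 - qq m) := by
    have h1 : qq m ^ 2 - qq m = qq m * (qq m - 1) := by rw [sq, Nat.mul_sub_one]
    rw [h1]
    exact Nat.even_mul_pred_self _
  exact h.add_one

theorem reeare_gg_pos (m : ℕ) (hm : 1 ≤ m) : 0 < gg m := by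
  have hq := reeare_q_ge m hm
  unfold gg
  exact Nat.mul_pos (Nat.mul_pos (pow_pos (by omega) _) (by omega)) (Nat.succ_pos _)

/-- a divisor `≥ 2` of `N₀` is `≥ 3` -/
theorem reeare_three_le (m : ℕ) (a : ℕ) (ha2 : 2 ≤ a) (hd : a ∣ nn m) : 3 ≤ a := by
  rcases Nat.lt_or_ge a 3 with h | h
  · exfalso
    have h2 : a = 2 := by omega
    subst h2
    have := reeare_nn_odd m
    rw [← Nat.not_even_iff_odd] at this
    exact this (even_iff_two_dvd.mpr hd)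
  · exact h

/-- one term of the class equation is at least `|G| / 9` -/
theorem reeare_term (G a k : ℕ) (ha3 : 3 ≤ a) (hk : k ∣ 6) (hdvd : a * k ∣ G) :
    G ≤ 9 * ((G / (a * k)) * (a - 1)) := by
  obtain ⟨g, hg⟩ := hdvd
  have hk6 : k ≤ 6 := Nat.le_of_dvd (by norm_num) hk
  have hk0 : 0 < k := Nat.pos_of_dvd_of_pos hk (by norm_num)
  have hak : 0 < a * k := Nat.mul_pos (by omega) hk0
  rw [hg, Nat.mul_div_cancel_left _ hak]
  have h1 : a * k ≤ 9 * (a - 1) := by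
    calc a * k ≤ a * 6 := Nat.mul_le_mul_left _ hk6
      _ ≤ 9 * (a - 1) := by omega
  calc a * k * g ≤ 9 * (a - 1) * g := Nat.mul_le_mul_right _ h1
    _ = 9 * (g * (a - 1)) := by ring

/-- at most two classes -/
theorem reeare_card_le (m : ℕ) (hm : 1 ≤ m) {ι : Type} [Fintype ι]
    (a k : ι → ℕ) (ha3 : ∀ j, 3 ≤ a j) (hk6 : ∀ j, k j ∣ 6)
    (hdvd : ∀ j, a j * k j ∣ gg m)
    (hcount : ∑ j, (gg m / (a j * k j)) * (a j - 1) =
      qq m ^ 3 * (qq m / 3) * (qq m ^ 2 - 1) * (qq m - 2)) : Fintype.card ι ≤ 2 := by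
  have h1 : Fintype.card ι * gg m ≤
      9 * (qq m ^ 3 * (qq m / 3) * (qq m ^ 2 - 1) * (qq m - 2)) := by
    calc Fintype.card ι * gg m = ∑ _j : ι, gg m := by
          rw [Finset.sum_const, Finset.card_univ, smul_eq_mul]
      _ ≤ ∑ j, 9 * ((gg m / (a j * k j)) * (a j - 1)) :=
          Finset.sum_le_sum (fun j _ => reeare_term (gg m) (a j) (k j) (ha3 j) (hk6 j) (hdvd j))
      _ = 9 * ∑ j, (gg m / (a j * k j)) * (a j - 1) := (Finset.mul_sum _ _ _).symm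
      _ = _ := by rw [hcount]
  by_contra hlt
  rw [not_le] at hlt
  have h3 : 3 * gg m ≤ 9 * (qq m ^ 3 * (qq m / 3) * (qq m ^ 2 - 1) * (qq m - 2)) :=
    le_trans (Nat.mul_le_mul_right _ hlt) h1
  have h2 := reeare_count_cast m hm
  generalize (qq m ^ 3 * (qq m / 3) * (qq m ^ 2 - 1) * (qq m - 2)) = F' at h2 h3
  have h3z : 3 * (gg m : ℤ) ≤ 9 * (F' : ℤ) := by exact_mod_cast h3
  have hGz : (0 : ℤ) < (gg m : ℤ) := by exact_mod_cast reeare_gg_pos m hm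
  have hNz := reeare_nn_cast m
  have hqz : (27 : ℤ) ≤ (qq m : ℤ) := by exact_mod_cast reeare_q_ge m hm
  have hNz0 : (0 : ℤ) ≤ (nn m : ℤ) := Int.natCast_nonneg _
  have e1 : 3 * (gg m : ℤ) * (nn m : ℤ) ≤ 9 * (F' : ℤ) * (nn m : ℤ) :=
    mul_le_mul_of_nonneg_right h3z hNz0
  have e2 : 9 * (F' : ℤ) * (nn m : ℤ) = 3 * ((gg m : ℤ) * ((qq m : ℤ) * ((qq m : ℤ) - 2))) := by
    linear_combination 3 * h2
  have e3 : (gg m : ℤ) * (nn m : ℤ) =
      (gg m : ℤ) * ((qq m : ℤ) * ((qq m : ℤ) - 2)) + (gg m : ℤ) * ((qq m : ℤ) + 1) := by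
    rw [hNz]
    ring
  have e4 : 0 < (gg m : ℤ) * ((qq m : ℤ) + 1) := mul_pos hGz (by linarith)
  linarith [e1, e2, e3, e4]

/-- the two-class case over `ℤ` -/
theorem reeare_two (q r a1 a2 c1 c2 N : ℤ) (hq : 27 ≤ q) (hr : r ^ 2 = 3 * q)
    (hN : N = q ^ 2 - q + 1) (h12 : a1 * a2 = N) (ha1 : 3 ≤ a1) (ha2 : 3 ≤ a2)
    (hc1 : c1 = 1 ∨ c1 = 2 ∨ c1 = 3 ∨ c1 = 6) (hc2 : c2 = 1 ∨ c2 = 2 ∨ c2 = 3 ∨ c2 = 6)
    (heq : c1 * (N - a2) + c2 * (N - a1) = 2 * (q * (q - 2))) :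
    c1 = 1 ∧ c2 = 1 ∧ ((a1 = q + r + 1 ∧ a2 = q - r + 1) ∨ (a1 = q - r + 1 ∧ a2 = q + r + 1)) := by
  have hsum3 : 3 * (a1 + a2) ≤ N + 9 := by
    nlinarith [mul_nonneg (sub_nonneg.mpr ha1) (sub_nonneg.mpr ha2)]
  have hq2 : 27 * q ≤ q ^ 2 := by nlinarith
  have key : c1 = 1 ∧ c2 = 1 := by
    rcases hc1 with rfl | rfl | rfl | rfl <;> rcases hc2 with rfl | rfl | rfl | rfl <;>
      first
        | exact ⟨rfl, rfl⟩
        | (exfalso; linarith)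
  obtain ⟨rfl, rfl⟩ := key
  refine ⟨rfl, rfl, ?_⟩
  have hs : a1 + a2 = 2 * q + 2 := by linarith
  have hsq : (a1 - a2) ^ 2 = (2 * r) ^ 2 := by
    have : (a1 - a2) ^ 2 = (a1 + a2) ^ 2 - 4 * (a1 * a2) := by ring
    rw [this, hs, h12, hN]
    linear_combination (-4) * hr
  rcases sq_eq_sq_iff_eq_or_eq_neg.mp hsq with h | h
  · left
    constructor <;> linarith
  · right
    constructor <;> linarith

theorem reeare_dvd_six (k : ℕ) (h : k ∣ 6) : k = 1 ∨ k = 2 ∨ k = 3 ∨ k = 6 := by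
  have h6 : k ≤ 6 := Nat.le_of_dvd (by norm_num) h
  interval_cases k <;> simp_all

theorem reeare_r_le (m : ℕ) : rr m ≤ qq m := by
  unfold rr qq
  exact Nat.pow_le_pow_right (by norm_num) (by omega)

theorem ar_two_classes (m : ℕ) (hm : 1 ≤ m) {ι : Type} [Fintype ι]
    (a k : ι → ℕ) (ha2 : ∀ j, 2 ≤ a j) (hcop : ∀ i j, i ≠ j → (a i).Coprime (a j))
    (hprod : ∏ j, a j = nn m) (hk6 : ∀ j, k j ∣ 6) (hk : ∀ j, k j ∣ a j - 1)
    (hdvd : ∀ j, a j * k j ∣ gg m)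
    (hcount : ∑ j, (gg m / (a j * k j)) * (a j - 1) =
      qq m ^ 3 * (qq m / 3) * (qq m ^ 2 - 1) * (qq m - 2)) :
    ∃ j₁ j₂ : ι, j₁ ≠ j₂ ∧ (∀ j, j = j₁ ∨ j = j₂) ∧ a j₁ = qq m + rr m + 1 ∧
      a j₂ = qq m - rr m + 1 ∧ k j₁ = 6 ∧ k j₂ = 6 := by
  classical
  have ha3 : ∀ j, 3 ≤ a j := fun j =>
    reeare_three_le m (a j) (ha2 j) (hprod ▸ Finset.dvd_prod_of_mem a (Finset.mem_univ j))
  have hcard := reeare_card_le m hm a k ha3 hk6 hdvd hcount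
  have h2 := reeare_count_cast m hm
  have hq := reeare_q_ge m hm
  have hqz : (27 : ℤ) ≤ (qq m : ℤ) := by exact_mod_cast hq
  have hNz := reeare_nn_cast m
  have hGpos : (0 : ℤ) < (gg m : ℤ) := by exact_mod_cast reeare_gg_pos m hm
  generalize (qq m ^ 3 * (qq m / 3) * (qq m ^ 2 - 1) * (qq m - 2)) = F' at h2 hcount
  have hcases : Fintype.card ι = 0 ∨ Fintype.card ι = 1 ∨ Fintype.card ι = 2 := by omega
  rcases hcases with h0 | h1 | h2c
  · -- no class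
    exfalso
    have : IsEmpty ι := Fintype.card_eq_zero_iff.mp h0
    rw [Finset.univ_eq_empty, Finset.prod_empty] at hprod
    rw [← hprod] at hNz
    push_cast at hNz
    nlinarith
  · -- one class
    exfalso
    obtain ⟨x, hx⟩ := Fintype.card_eq_one_iff.mp h1
    have huniv : (Finset.univ : Finset ι) = {x} := by
      ext y
      simp [hx y]
    rw [huniv, Finset.prod_singleton] at hprod
    rw [huniv, Finset.sum_singleton] at hcount
    obtain ⟨g, hg⟩ := hdvd x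
    have hk0 : 0 < k x := Nat.pos_of_dvd_of_pos (hk6 x) (by norm_num)
    have h3x := ha3 x
    have hak : 0 < a x * k x := Nat.mul_pos (by omega) hk0
    have e1 : gg m / (a x * k x) = g := by
      rw [hg]
      exact Nat.mul_div_cancel_left _ hak
    rw [e1] at hcount
    have hgz : (gg m : ℤ) = (a x : ℤ) * (k x : ℤ) * (g : ℤ) := by exact_mod_cast hg
    have hcz : (g : ℤ) * ((a x : ℤ) - 1) = (F' : ℤ) := by
      have h1' : 1 ≤ a x := by omega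
      rw [← hcount]
      push_cast [Nat.cast_sub h1']
      ring
    have hax : (a x : ℤ) = (nn m : ℤ) := by exact_mod_cast hprod
    have hNg : (nn m : ℤ) * (g : ℤ) ≠ 0 := by
      intro h
      rw [hgz, hax] at hGpos
      have h' : (nn m : ℤ) * (k x : ℤ) * (g : ℤ) = ((nn m : ℤ) * (g : ℤ)) * (k x : ℤ) := by ring
      rw [h', h, zero_mul] at hGpos
      exact lt_irrefl _ hGpos
    have e : (nn m : ℤ) * (g : ℤ) * (3 * ((nn m : ℤ) - 1)) =
        (nn m : ℤ) * (g : ℤ) * ((k x : ℤ) * ((qq m : ℤ) * ((qq m : ℤ) - 2))) := by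
      rw [← hcz, hgz, hax] at h2
      linear_combination h2
    have e2 := mul_left_cancel₀ hNg e
    rw [hNz] at e2
    rcases reeare_dvd_six (k x) (hk6 x) with h | h | h | h <;> rw [h] at e2 <;> push_cast at e2 <;>
      nlinarith
  · -- two classes
    obtain ⟨x, y, hxy, huniv⟩ := Finset.card_eq_two.mp (Finset.card_univ.trans h2c)
    rw [huniv, Finset.prod_pair hxy] at hprod
    rw [huniv, Finset.sum_pair hxy] at hcount
    obtain ⟨g1, hg1⟩ := hdvd x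
    obtain ⟨g2, hg2⟩ := hdvd y
    have hk1 : 0 < k x := Nat.pos_of_dvd_of_pos (hk6 x) (by norm_num)
    have hk2 : 0 < k y := Nat.pos_of_dvd_of_pos (hk6 y) (by norm_num)
    have h3x := ha3 x
    have h3y := ha3 y
    have hak1 : 0 < a x * k x := Nat.mul_pos (by omega) hk1
    have hak2 : 0 < a y * k y := Nat.mul_pos (by omega) hk2
    have e1 : gg m / (a x * k x) = g1 := by
      rw [hg1]
      exact Nat.mul_div_cancel_left _ hak1
    have e2 : gg m / (a y * k y) = g2 := by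
      rw [hg2]
      exact Nat.mul_div_cancel_left _ hak2
    rw [e1, e2] at hcount
    obtain ⟨c1, hc1⟩ := hk6 x
    obtain ⟨c2, hc2⟩ := hk6 y
    have hc1' := reeare_dvd_six c1 ⟨k x, by rw [hc1]; ring⟩
    have hc2' := reeare_dvd_six c2 ⟨k y, by rw [hc2]; ring⟩
    have hgz1 : (gg m : ℤ) = (a x : ℤ) * (k x : ℤ) * (g1 : ℤ) := by exact_mod_cast hg1
    have hgz2 : (gg m : ℤ) = (a y : ℤ) * (k y : ℤ) * (g2 : ℤ) := by exact_mod_cast hg2
    have hcz : (g1 : ℤ) * ((a x : ℤ) - 1) + (g2 : ℤ) * ((a y : ℤ) - 1) = (F' : ℤ) := by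
      have h1' : 1 ≤ a x := by omega
      have h2' : 1 ≤ a y := by omega
      rw [← hcount]
      push_cast [Nat.cast_sub h1', Nat.cast_sub h2']
      ring
    have h12 : (a x : ℤ) * (a y : ℤ) = (nn m : ℤ) := by exact_mod_cast hprod
    have hc1z : (6 : ℤ) = (k x : ℤ) * (c1 : ℤ) := by exact_mod_cast hc1
    have hc2z : (6 : ℤ) = (k y : ℤ) * (c2 : ℤ) := by exact_mod_cast hc2
    have f1 : (gg m : ℤ) * ((c1 : ℤ) * ((nn m : ℤ) - (a y : ℤ))) =
        6 * (nn m : ℤ) * ((g1 : ℤ) * ((a x : ℤ) - 1)) := by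
      rw [hgz1, ← h12]
      linear_combination (-((a x : ℤ) * (a y : ℤ) * (g1 : ℤ) * ((a x : ℤ) - 1))) * hc1z
    have f2 : (gg m : ℤ) * ((c2 : ℤ) * ((nn m : ℤ) - (a x : ℤ))) =
        6 * (nn m : ℤ) * ((g2 : ℤ) * ((a y : ℤ) - 1)) := by
      rw [hgz2, ← h12]
      linear_combination (-((a x : ℤ) * (a y : ℤ) * (g2 : ℤ) * ((a y : ℤ) - 1))) * hc2z
    have heq' : (gg m : ℤ) * ((c1 : ℤ) * ((nn m : ℤ) - (a y : ℤ)) + (c2 : ℤ) * ((nn m : ℤ) - (a x : ℤ))) =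
        (gg m : ℤ) * (2 * ((qq m : ℤ) * ((qq m : ℤ) - 2))) := by
      rw [mul_add, f1, f2]
      linear_combination (6 * (nn m : ℤ)) * hcz + 2 * h2
    have heq := mul_left_cancel₀ (ne_of_gt hGpos) heq'
    have hrz : ((rr m : ℕ) : ℤ) ^ 2 = 3 * (qq m : ℤ) := by exact_mod_cast reeare_r_sq m
    have hc1c : (c1 : ℤ) = 1 ∨ (c1 : ℤ) = 2 ∨ (c1 : ℤ) = 3 ∨ (c1 : ℤ) = 6 := by
      rcases hc1' with h | h | h | h <;> rw [h] <;> simp
    have hc2c : (c2 : ℤ) = 1 ∨ (c2 : ℤ) = 2 ∨ (c2 : ℤ) = 3 ∨ (c2 : ℤ) = 6 := by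
      rcases hc2' with h | h | h | h <;> rw [h] <;> simp
    obtain ⟨hc1one, hc2one, hfin⟩ := reeare_two (qq m : ℤ) (rr m : ℤ) (a x : ℤ) (a y : ℤ) (c1 : ℤ) (c2 : ℤ)
      (nn m : ℤ) hqz hrz hNz h12 (by exact_mod_cast h3x) (by exact_mod_cast h3y) hc1c hc2c heq
    have hc1n : c1 = 1 := by exact_mod_cast hc1one
    have hc2n : c2 = 1 := by exact_mod_cast hc2one
    have hkx : k x = 6 := by rw [hc1n, mul_one] at hc1; exact hc1.symm
    have hky : k y = 6 := by rw [hc2n, mul_one] at hc2; exact hc2.symm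
    have hrq := reeare_r_le m
    have hall : ∀ j, j = x ∨ j = y := by
      intro j
      have : j ∈ (Finset.univ : Finset ι) := Finset.mem_univ j
      rw [huniv] at this
      simpa using this
    rcases hfin with ⟨h1, h2'⟩ | ⟨h1, h2'⟩
    · refine ⟨x, y, hxy, hall, ?_, ?_, hkx, hky⟩
      · omega
      · omega
    · refine ⟨y, x, hxy.symm, fun j => (hall j).symm, ?_, ?_, hky, hkx⟩
      · omega
      · omega

end Cfsg.Agent.Lib.helper7.REE
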