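import Mathlib
import Cfsg.Agent.Lib.Helper10.RES.Defs
import Cfsg.Agent.Lib.Helper10.BLKT2

set_option autoImplicit false

namespace Cfsg.Agent.Lib.Helper10.RES

variable {Ω : Type*} [Group Ω]

section G
variable {p n s : ℕ} [Fact p.Prime] {S : Subgroup Ω} {x y z : Ω}

/-- conjugation by `x⁻¹ · x` commutes with powers -/
theorem resgz2_conj_pow' (x g : Ω) (j : ℕ) : x⁻¹ * g ^ j * x = (x⁻¹ * g * x) ^ j := by
  have := map_pow (MulAut.conj x⁻¹) g j
  simpa [MulAut.conj_apply] using this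

omit [Fact p.Prime] in
/-- `x` centralizes `z ^ p` -/
theorem resgz2_x_zp (hF : F2Set p n s S x y z) : x⁻¹ * z ^ p * x = z ^ p := by
  have hyz : Commute y z := hF.yz
  rw [resgz2_conj_pow', hF.xz, hyz.mul_pow, hF.yp, one_mul]

omit [Fact p.Prime] in
/-- `x` centralizes every power of `z ^ p` -/
theorem resgz2_x_zpm (hF : F2Set p n s S x y z) (m : ℕ) : x⁻¹ * z ^ (p * m) * x = z ^ (p * m) := by
  rw [pow_mul, resgz2_conj_pow', resgz2_x_zp hF]

omit [Fact p.Prime] in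
/-- `x` centralizes `z ^ (s * p ^ (n - 3))` -/
theorem resgz2_x_w (hF : F2Set p n s S x y z) :
    x⁻¹ * z ^ (s * p ^ (n - 3)) * x = z ^ (s * p ^ (n - 3)) := by
  have h4 := hF.hn4
  have : s * p ^ (n - 3) = p * (s * p ^ (n - 4)) := by
    have : n - 3 = (n - 4) + 1 := by omega
    rw [this, pow_succ]; ring
  rw [this]
  exact resgz2_x_zpm hF _

/-- **GZ2**. conjugation by powers of `x` (from `Helper18.BLK.iter_conj`). -/
theorem F2Set.conj_pow (hF : F2Set p n s S x y z) (i : ℕ) :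
    (x ^ i)⁻¹ * z * x ^ i = z * (y ^ i * (z ^ (s * p ^ (n - 3))) ^ (i.choose 2)) ∧
      (x ^ i)⁻¹ * y * x ^ i = y * (z ^ (s * p ^ (n - 3))) ^ i := by
  have hyz : Commute y z := hF.yz
  have h1 : x⁻¹ * z * x = z * y := by rw [hF.xz]; exact hyz.eq
  have h3 : x⁻¹ * z ^ (s * p ^ (n - 3)) * x = z ^ (s * p ^ (n - 3)) * 1 := by
    rw [mul_one]; exact resgz2_x_w hF
  have h4 : x⁻¹ * (1 : Ω) * x = 1 := by group
  have h4' : x⁻¹ * (1 : Ω) * x = 1 * 1 := by group
  have cyw : Commute y (z ^ (s * p ^ (n - 3))) := hyz.pow_right _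
  constructor
  · have := Cfsg.Agent.Lib.Helper18.BLK.iter_conj x z y (z ^ (s * p ^ (n - 3))) 1 h1 hF.xy h3 h4
      cyw (Commute.one_right _) (Commute.one_right _) i
    rw [this, one_pow, mul_one]
  · have := Cfsg.Agent.Lib.Helper18.BLK.iter_conj x y (z ^ (s * p ^ (n - 3))) 1 1 hF.xy h3 h4' h4
      (Commute.one_right _) (Commute.one_right _) (Commute.one_right _) i
    rw [this, one_pow, one_pow, mul_one, mul_one]

end G

end Cfsg.Agent.Lib.Helper10.RES
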