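import Mathlib

set_option autoImplicit false

namespace Cfsg.Agent.Lib.Helper11

/-- pairs `(a, b)` of elements normalizing `H` that are congruent modulo `H` -/
def pairSubgroup {G : Type*} [Group G] (H : Subgroup G) : Subgroup (G × G) where
  carrier := {p | p.1 ∈ Subgroup.normalizer (H : Set G) ∧ p.2 ∈ Subgroup.normalizer (H : Set G) ∧
    p.1 * p.2⁻¹ ∈ H}
  one_mem' := ⟨one_mem _, one_mem _, by simp⟩
  mul_mem' := by
    rintro ⟨a, b⟩ ⟨a', b'⟩ ⟨ha, hb, hab⟩ ⟨ha', hb', hab'⟩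
    refine ⟨mul_mem ha ha', mul_mem hb hb', ?_⟩
    have h1 : a * (a' * b'⁻¹) * a⁻¹ ∈ H := (Subgroup.mem_normalizer_iff.mp ha _).mp hab'
    have h2 : a * a' * (b * b')⁻¹ = (a * (a' * b'⁻¹) * a⁻¹) * (a * b⁻¹) := by group
    show a * a' * (b * b')⁻¹ ∈ H
    rw [h2]
    exact H.mul_mem h1 hab
  inv_mem' := by
    rintro ⟨a, b⟩ ⟨ha, hb, hab⟩
    refine ⟨inv_mem ha, inv_mem hb, ?_⟩
    have ha' : a⁻¹ ∈ Subgroup.normalizer (H : Set G) := inv_mem ha
    have h1 : a⁻¹ * (a * b⁻¹)⁻¹ * a⁻¹⁻¹ ∈ H :=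
      (Subgroup.mem_normalizer_iff.mp ha' _).mp (H.inv_mem hab)
    have h2 : a⁻¹ * (b⁻¹)⁻¹ = a⁻¹ * (a * b⁻¹)⁻¹ * a⁻¹⁻¹ := by group
    show a⁻¹ * (b⁻¹)⁻¹ ∈ H
    rw [h2]
    exact h1

theorem mem_pairSubgroup {G : Type*} [Group G] (H : Subgroup G) (p : G × G) :
    p ∈ pairSubgroup H ↔ p.1 ∈ Subgroup.normalizer (H : Set G) ∧
      p.2 ∈ Subgroup.normalizer (H : Set G) ∧ p.1 * p.2⁻¹ ∈ H := Iff.rfl

theorem pair_smul_mem {G : Type*} [Group G] (H : Subgroup G) (p : G × G) (hp : p ∈ pairSubgroup H)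
    (u : G) (hu : u ∈ H) : p.1 * u * p.2⁻¹ ∈ H := by
  obtain ⟨_, hb, hab⟩ := hp
  have h1 : p.2 * u * p.2⁻¹ ∈ H := (Subgroup.mem_normalizer_iff.mp hb _).mp hu
  have h2 : p.1 * u * p.2⁻¹ = (p.1 * p.2⁻¹) * (p.2 * u * p.2⁻¹) := by group
  rw [h2]
  exact H.mul_mem hab h1

/-- the two-sided action of `pairSubgroup H` on `H` -/
@[reducible] def pairAction {G : Type*} [Group G] (H : Subgroup G) : MulAction (pairSubgroup H) H where
  smul p u := ⟨(p : G × G).1 * u * (p : G × G).2⁻¹, pair_smul_mem H p p.2 u u.2⟩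
  one_smul u := by
    apply Subtype.ext
    show ((1 : pairSubgroup H) : G × G).1 * (u : G) * ((1 : pairSubgroup H) : G × G).2⁻¹ = u
    simp
  mul_smul p p' u := by
    apply Subtype.ext
    show ((p * p' : pairSubgroup H) : G × G).1 * (u : G) * ((p * p' : pairSubgroup H) : G × G).2⁻¹ =
      (p : G × G).1 * ((p' : G × G).1 * (u : G) * (p' : G × G).2⁻¹) * (p : G × G).2⁻¹
    simp only [Subgroup.coe_mul, Prod.fst_mul, Prod.snd_mul]
    group

theorem pow_mem_pair {G : Type*} [Group G] (H : Subgroup G) (y g : G)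
    (hg : g ∈ Subgroup.normalizer (H : Set G)) (hy : y * g⁻¹ ∈ H) (k : ℕ) :
    y ^ k * (g ^ k)⁻¹ ∈ H := by
  have hyN : y ∈ Subgroup.normalizer (H : Set G) := by
    have h1 : y = (y * g⁻¹) * g := by group
    rw [h1]
    exact mul_mem (Subgroup.le_normalizer hy) hg
  have hmem : (y, g) ∈ pairSubgroup H := ⟨hyN, hg, hy⟩
  have := (pairSubgroup H).pow_mem hmem k
  exact this.2.2

/-- prime power case: fixed point argument -/
theorem conj_of_prime_pow {G : Type*} [Group G] [Finite G] (H : Subgroup G) (g y : G) (q e : ℕ)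
    [Fact q.Prime] (hg : g ∈ Subgroup.normalizer (H : Set G)) (hy : y * g⁻¹ ∈ H)
    (hgq : g ^ (q ^ e) = 1) (hyq : y ^ (q ^ e) = 1) (hq : ¬ q ∣ Nat.card H) :
    ∃ x ∈ H, x * y * x⁻¹ = g := by
  have hyN : y ∈ Subgroup.normalizer (H : Set G) := by
    have h1 : y = (y * g⁻¹) * g := by group
    rw [h1]
    exact mul_mem (Subgroup.le_normalizer hy) hg
  let t : pairSubgroup H := ⟨(y, g), hyN, hg, hy⟩
  let _inst := pairAction H
  have ht : t ^ (q ^ e) = 1 := by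
    apply Subtype.ext
    show ((y, g) : G × G) ^ (q ^ e) = 1
    rw [Prod.pow_mk, hyq, hgq]
    rfl
  have hP : IsPGroup q (Subgroup.zpowers t) := by
    rintro ⟨z, hz⟩
    obtain ⟨k, rfl⟩ := Subgroup.mem_zpowers_iff.mp hz
    refine ⟨e, ?_⟩
    apply Subtype.ext
    show (t ^ k) ^ (q ^ e) = 1
    rw [← zpow_natCast, ← zpow_mul, mul_comm, zpow_mul, zpow_natCast, ht, one_zpow]
  obtain ⟨u, hu⟩ := hP.nonempty_fixed_point_of_prime_not_dvd_card H hq
  have h0 := hu ⟨t, Subgroup.mem_zpowers t⟩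
  have h1 : y * (u : G) * g⁻¹ = u := congrArg Subtype.val h0
  refine ⟨(u : G)⁻¹, H.inv_mem u.2, ?_⟩
  calc (u : G)⁻¹ * y * (u : G)⁻¹⁻¹ = (u : G)⁻¹ * (y * u * g⁻¹) * g := by group
    _ = g := by rw [h1]; group

theorem pow_eq_of_modEq_one {G : Type*} [Group G] (g : G) (n r : ℕ) (hgn : g ^ n = 1)
    (hr : r ≡ 1 [MOD n]) : g ^ r = g := by
  have h1 : g ^ r = g ^ 1 :=
    pow_eq_pow_iff_modEq.mpr (hr.of_dvd (orderOf_dvd_of_pow_eq_one hgn))
  rw [h1, pow_one]

theorem pow_eq_one_of_dvd {G : Type*} [Group G] (g : G) (n r : ℕ) (hgn : g ^ n = 1)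
    (hr : n ∣ r) : g ^ r = 1 := by
  obtain ⟨k, rfl⟩ := hr
  rw [pow_mul, hgn, one_pow]

/-- Conjugacy of cyclic complements of coprime order (Schur-Zassenhaus, cyclic quotient):
if `g` normalizes `H`, `y ∈ H g`, `g ^ n = y ^ n = 1` and `n` is coprime to `|H|`, then `y` is
conjugate to `g` under `H`. -/
theorem conj_of_coprime {G : Type*} [Group G] [Finite G] (n : ℕ) :
    ∀ (H : Subgroup G) (g y : G), g ∈ Subgroup.normalizer (H : Set G) → y * g⁻¹ ∈ H →
      g ^ n = 1 → y ^ n = 1 → n.Coprime (Nat.card H) → ∃ x ∈ H, x * y * x⁻¹ = g := by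
  induction n using Nat.strong_induction_on with
  | _ n ih =>
    intro H g y hg hy hgn hyn hcop
    rcases Nat.eq_zero_or_pos n with hn0 | hnpos
    · subst hn0
      have hH1 : Nat.card H = 1 := by simpa using hcop
      have hHbot : H = ⊥ := Subgroup.card_eq_one.mp hH1
      rw [hHbot, Subgroup.mem_bot] at hy
      have hyg : y = g := mul_inv_eq_one.mp hy
      exact ⟨1, H.one_mem, by simp [hyg]⟩
    rcases Nat.eq_or_lt_of_le (Nat.one_le_iff_ne_zero.mpr hnpos.ne') with hn1 | hn1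
    · have hg1 : g = 1 := by rw [← hn1, pow_one] at hgn; exact hgn
      have hy1 : y = 1 := by rw [← hn1, pow_one] at hyn; exact hyn
      exact ⟨1, H.one_mem, by simp [hg1, hy1]⟩
    set q := n.minFac with hqdef
    have hqp : q.Prime := Nat.minFac_prime hn1.ne'
    have : Fact q.Prime := ⟨hqp⟩
    have hqn : q ∣ n := Nat.minFac_dvd n
    obtain ⟨e, m, hqm, hnem⟩ := Nat.exists_eq_pow_mul_and_not_dvd hnpos.ne' q hqp.ne_one
    have he : e ≠ 0 := by
      intro he0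
      rw [he0, pow_zero, one_mul] at hnem
      exact hqm (hnem ▸ hqn)
    have hmpos : 0 < m := by
      rcases Nat.eq_zero_or_pos m with h | h
      · rw [h, mul_zero] at hnem; omega
      · exact h
    have hmlt : m < n := by
      rw [hnem]
      have : 2 ≤ q ^ e := by
        calc 2 ≤ q := hqp.two_le
          _ = q ^ 1 := (pow_one q).symm
          _ ≤ q ^ e := Nat.pow_le_pow_right hqp.pos (Nat.one_le_iff_ne_zero.mpr he)
      nlinarith
    have hcopqm : Nat.Coprime (q ^ e) m :=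
      Nat.Coprime.pow_left e ((Nat.Prime.coprime_iff_not_dvd hqp).mpr hqm)
    obtain ⟨s, hs1, hs0⟩ := Nat.chineseRemainder hcopqm 1 0
    obtain ⟨t, ht0, ht1⟩ := Nat.chineseRemainder hcopqm 0 1
    have hst : s + t ≡ 1 [MOD n] := by
      rw [hnem]
      apply (Nat.modEq_and_modEq_iff_modEq_mul hcopqm).mp
      constructor
      · simpa using hs1.add ht0
      · simpa using hs0.add ht1
    have hms : m ∣ s := (Nat.modEq_zero_iff_dvd).mp hs0
    have hqt : q ^ e ∣ t := (Nat.modEq_zero_iff_dvd).mp ht0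
    have hn_sq : n ∣ s * q ^ e := by
      rw [hnem, mul_comm s]
      exact Nat.mul_dvd_mul_left _ hms
    have hn_tm : n ∣ t * m := by
      rw [hnem]
      exact Nat.mul_dvd_mul_right hqt _
    have hqH : ¬ q ∣ Nat.card H := by
      intro h
      have := Nat.dvd_gcd hqn h
      rw [hcop] at this
      exact hqp.one_lt.ne' (Nat.dvd_one.mp this)
    -- the q-part
    have hg1N : g ^ s ∈ Subgroup.normalizer (H : Set G) := Subgroup.pow_mem _ hg s
    obtain ⟨x₁, hx₁H, hx₁⟩ := conj_of_prime_pow H (g ^ s) (y ^ s) q e hg1N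
      (pow_mem_pair H y g hg hy s)
      (by rw [← pow_mul]; exact pow_eq_one_of_dvd g n _ hgn hn_sq)
      (by rw [← pow_mul]; exact pow_eq_one_of_dvd y n _ hyn hn_sq) hqH
    set y' := x₁ * y * x₁⁻¹ with hy'def
    have hy'n : y' ^ n = 1 := by
      rw [hy'def, conj_pow, hyn]; group
    have hy's : y' ^ s = g ^ s := by
      rw [hy'def, conj_pow]; exact hx₁
    have hy'H : y' * g⁻¹ ∈ H := by
      have h1 : g * x₁⁻¹ * g⁻¹ ∈ H :=
        (Subgroup.mem_normalizer_iff.mp hg _).mp (H.inv_mem hx₁H)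
      have h2 : y' * g⁻¹ = x₁ * (y * g⁻¹) * (g * x₁⁻¹ * g⁻¹) := by
        rw [hy'def]; group
      rw [h2]
      exact H.mul_mem (H.mul_mem hx₁H hy) h1
    -- the q'-part
    set H₂ := H ⊓ Subgroup.centralizer ({g ^ s} : Set G) with hH₂
    have hgt_comm : g ^ t * g ^ s = g ^ s * g ^ t := by
      rw [← pow_add, ← pow_add, add_comm]
    have hy't_comm : y' ^ t * g ^ s = g ^ s * y' ^ t := by
      rw [← hy's, ← pow_add, ← pow_add, add_comm]
    have hgtc : Commute (g ^ t) (g ^ s) := hgt_comm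
    have hg2N : g ^ t ∈ Subgroup.normalizer (H₂ : Set G) := by
      have hgtN : g ^ t ∈ Subgroup.normalizer (H : Set G) := Subgroup.pow_mem _ hg t
      refine Subgroup.mem_normalizer_iff.mpr ?_
      intro u
      constructor
      · intro hu
        obtain ⟨hu1, hu2⟩ := Subgroup.mem_inf.mp hu
        refine Subgroup.mem_inf.mpr ⟨(Subgroup.mem_normalizer_iff.mp hgtN u).mp hu1, ?_⟩
        rw [Subgroup.mem_centralizer_singleton_iff] at hu2 ⊢
        have hu2' : Commute u (g ^ s) := hu2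
        exact ((hgtc.mul_left hu2').mul_left hgtc.inv_left)
      · intro hu
        obtain ⟨hu1, hu2⟩ := Subgroup.mem_inf.mp hu
        refine Subgroup.mem_inf.mpr ⟨(Subgroup.mem_normalizer_iff.mp hgtN u).mpr hu1, ?_⟩
        rw [Subgroup.mem_centralizer_singleton_iff] at hu2 ⊢
        have hu2' : Commute (g ^ t * u * (g ^ t)⁻¹) (g ^ s) := hu2
        have h3 : Commute ((g ^ t)⁻¹ * (g ^ t * u * (g ^ t)⁻¹) * g ^ t) (g ^ s) :=
          (hgtc.inv_left.mul_left hu2').mul_left hgtc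
        have h4 : (g ^ t)⁻¹ * (g ^ t * u * (g ^ t)⁻¹) * g ^ t = u := by group
        rw [h4] at h3
        exact h3
    have hy2H₂ : y' ^ t * (g ^ t)⁻¹ ∈ H₂ := by
      refine Subgroup.mem_inf.mpr ⟨pow_mem_pair H y' g hg hy'H t, ?_⟩
      rw [Subgroup.mem_centralizer_singleton_iff]
      have h5 : Commute (y' ^ t) (g ^ s) := hy't_comm
      exact h5.mul_left hgtc.inv_left
    have hcop₂ : m.Coprime (Nat.card H₂) := by
      have h1 : m ∣ n := ⟨q ^ e, by rw [hnem, mul_comm]⟩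
      have h2 : Nat.card H₂ ∣ Nat.card H := Subgroup.card_dvd_of_le inf_le_left
      exact Nat.Coprime.coprime_dvd_left h1 (Nat.Coprime.coprime_dvd_right h2 hcop)
    obtain ⟨x₂, hx₂H, hx₂⟩ := ih m hmlt H₂ (g ^ t) (y' ^ t) hg2N hy2H₂
      (by rw [← pow_mul]; exact pow_eq_one_of_dvd g n _ hgn hn_tm)
      (by rw [← pow_mul]; exact pow_eq_one_of_dvd y' n _ hy'n hn_tm) hcop₂
    refine ⟨x₂ * x₁, H.mul_mem hx₂H.1 hx₁H, ?_⟩
    have hx₂c : x₂ * g ^ s = g ^ s * x₂ :=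
      Subgroup.mem_centralizer_singleton_iff.mp hx₂H.2
    have hy'st : y' = y' ^ s * y' ^ t := by
      rw [← pow_add]
      exact (pow_eq_of_modEq_one y' n _ hy'n hst).symm
    have hgst : g = g ^ s * g ^ t := by
      rw [← pow_add]
      exact (pow_eq_of_modEq_one g n _ hgn hst).symm
    calc x₂ * x₁ * y * (x₂ * x₁)⁻¹ = x₂ * y' * x₂⁻¹ := by rw [hy'def]; group
      _ = x₂ * (y' ^ s * y' ^ t) * x₂⁻¹ := by rw [← hy'st]
      _ = (x₂ * g ^ s) * x₂⁻¹ * (x₂ * y' ^ t * x₂⁻¹) := by rw [hy's]; group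
      _ = g ^ s * g ^ t := by rw [hx₂c, hx₂]; group
      _ = g := hgst.symm

end Cfsg.Agent.Lib.Helper11
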