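import Mathlib
import Cfsg.Agent.S0985

set_option autoImplicit false

/-! Project S496, piece K3: two Sylow subgroups meeting in a subgroup of index `p`. -/

namespace Cfsg.Agent.Lib.helper3.S496

/-- a subgroup of a finite `p`-group whose order is `1/p` of the whole is normalized by it. -/
theorem k3_le_normalizer {G : Type*} [Group G] [Finite G] (p : ℕ) [Fact p.Prime]
    (P D : Subgroup G) (hP : IsPGroup p P) (hDP : D ≤ P) (hcard : Nat.card D * p = Nat.card P) :
    P ≤ Subgroup.normalizer (D : Set G) := by
  have hp : p.Prime := Fact.out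
  rw [← Subgroup.normal_subgroupOf_iff_le_normalizer hDP]
  apply Subgroup.normal_of_index_eq_minFac_card
  have h1 : Nat.card (D.subgroupOf P) = Nat.card D :=
    Nat.card_congr (Subgroup.subgroupOfEquivOfLe hDP).toEquiv
  have h2 := Subgroup.card_mul_index (D.subgroupOf P)
  rw [h1] at h2
  have hDpos : 0 < Nat.card D := Nat.card_pos
  have h3 : (D.subgroupOf P).index = p := by
    have : Nat.card D * (D.subgroupOf P).index = Nat.card D * p := by rw [h2, hcard]
    exact Nat.eq_of_mul_eq_mul_left hDpos this
  rw [h3]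
  obtain ⟨n, hn⟩ := IsPGroup.iff_card.mp hP
  have hn0 : n ≠ 0 := by
    rintro rfl
    rw [pow_zero] at hn
    rw [hn] at hcard
    have := Nat.eq_one_of_mul_eq_one_left hcard
    exact hp.one_lt.ne' this
  rw [hn, Nat.Prime.pow_minFac hp hn0]

/-- K3: `p² ∣ |G|`, `n_p ≢ 1 mod p²`  ⇒  a proper subgroup `H ≥ P` with `|H| ≥ (p+1)|P|`
(`H = N(P ∩ R)` for two Sylow subgroups meeting in a subgroup of index `p`). -/
theorem sylow_meet {G : Type*} [Group G] [Finite G] [IsSimpleGroup G] (p : ℕ) [Fact p.Prime]
    (hp2 : p ^ 2 ∣ Nat.card G) (h : ¬ Nat.card (Sylow p G) ≡ 1 [MOD p ^ 2]) :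
    ∃ (H : Subgroup G) (P : Sylow p G), H ≠ ⊤ ∧ (P : Subgroup G) ≤ H ∧
      (p + 1) * Nat.card (P : Subgroup G) ≤ Nat.card H := by
  classical
  have hp : p.Prime := Fact.out
  obtain ⟨P, R, hPR, hidx⟩ := Cfsg.Agent.S0985.result (G := G) p 2 h
  have hidx' : ((R : Subgroup G).subgroupOf (P : Subgroup G)).index ≤ p := by simpa using hidx
  set D : Subgroup G := (P : Subgroup G) ⊓ (R : Subgroup G) with hD
  have hDP : D ≤ (P : Subgroup G) := inf_le_left
  have hDR : D ≤ (R : Subgroup G) := inf_le_right
  -- |P| = |R| = p ^ v with v ≥ 2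
  have hcP : Nat.card (P : Subgroup G) = p ^ (Nat.card G).factorization p := P.card_eq_multiplicity
  have hcR : Nat.card (R : Subgroup G) = p ^ (Nat.card G).factorization p := R.card_eq_multiplicity
  have hv : 2 ≤ (Nat.card G).factorization p :=
    (Nat.Prime.pow_dvd_iff_le_factorization hp Nat.card_pos.ne').mp hp2
  -- index of D in P
  have hidxD : ((R : Subgroup G).subgroupOf (P : Subgroup G)).index = D.relIndex (P : Subgroup G) := by
    rw [hD, Subgroup.inf_relIndex_left]; rfl
  have hrel : D.relIndex (P : Subgroup G) * Nat.card D = Nat.card (P : Subgroup G) := by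
    rw [mul_comm]
    have := Subgroup.card_mul_index (D.subgroupOf (P : Subgroup G))
    rw [Nat.card_congr (Subgroup.subgroupOfEquivOfLe hDP).toEquiv] at this
    exact this
  -- the index is a power of p, not 1, at most p
  have hDne : D ≠ (P : Subgroup G) := by
    intro hDeq
    apply hPR
    have hPR' : (P : Subgroup G) ≤ (R : Subgroup G) := by rw [← hDeq]; exact hDR
    have : (P : Subgroup G) = (R : Subgroup G) := by
      apply Subgroup.eq_of_le_of_card_ge hPR'
      rw [hcP, hcR]
    exact Sylow.ext this
  have hrelp : D.relIndex (P : Subgroup G) = p := by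
    have hdvd : D.relIndex (P : Subgroup G) ∣ p ^ (Nat.card G).factorization p := by
      rw [← hcP, ← hrel]; exact dvd_mul_right _ _
    obtain ⟨j, _, hj⟩ := (Nat.dvd_prime_pow hp).mp hdvd
    have hle : D.relIndex (P : Subgroup G) ≤ p := by rw [← hidxD]; exact hidx'
    rcases j with _ | _ | j
    · exfalso
      rw [pow_zero] at hj
      apply hDne
      apply Subgroup.eq_of_le_of_card_ge hDP
      rw [← hrel, hj, one_mul]
    · simpa using hj
    · exfalso
      rw [hj] at hle
      have : p ^ 2 ≤ p ^ (j + 1 + 1) := Nat.pow_le_pow_right hp.pos (by omega)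
      have h4 : p < p ^ 2 := by
        calc p = p ^ 1 := (pow_one p).symm
          _ < p ^ 2 := Nat.pow_lt_pow_right hp.one_lt (by norm_num)
      omega
  have hcardD : Nat.card D * p = Nat.card (P : Subgroup G) := by rw [← hrel, hrelp, mul_comm]
  have hcardD' : Nat.card D * p = Nat.card (R : Subgroup G) := by rw [hcR, ← hcP, hcardD]
  set H : Subgroup G := Subgroup.normalizer (D : Set G) with hH
  have hPH : (P : Subgroup G) ≤ H := k3_le_normalizer p _ D P.isPGroup' hDP hcardD
  have hRH : (R : Subgroup G) ≤ H := k3_le_normalizer p _ D R.isPGroup' hDR hcardD'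
  refine ⟨H, P, ?_, hPH, ?_⟩
  · -- H ≠ ⊤ by simplicity
    intro htop
    have hDn : D.Normal := Subgroup.normalizer_eq_top_iff.mp htop
    rcases hDn.eq_bot_or_eq_top with hbot | htop'
    · -- D = ⊥ contradicts |D| ≥ p
      have : Nat.card D = 1 := by rw [hbot]; exact Subgroup.card_bot
      rw [this, one_mul, hcP] at hcardD
      have h4 : p ^ 2 ≤ p ^ (Nat.card G).factorization p := Nat.pow_le_pow_right hp.pos hv
      have h5 : p < p ^ 2 := by
        calc p = p ^ 1 := (pow_one p).symm
          _ < p ^ 2 := Nat.pow_lt_pow_right hp.one_lt (by norm_num)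
      omega
    · apply hDne
      apply le_antisymm hDP
      rw [htop']; exact le_top
  · -- count Sylow subgroups of H
    have hne : P.subtype hPH ≠ R.subtype hRH := by
      intro heq
      apply hPR
      apply Sylow.ext
      have h1 : ((P.subtype hPH : Sylow p H) : Subgroup H).map H.subtype =
          ((R.subtype hRH : Sylow p H) : Subgroup H).map H.subtype := by rw [heq]
      simpa [Sylow.coe_subtype, Subgroup.subgroupOf_map_subtype, inf_eq_left.mpr hPH,
        inf_eq_left.mpr hRH] using h1
    have hmod : Nat.card (Sylow p H) ≡ 1 [MOD p] := card_sylow_modEq_one p H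
    have hge2 : 2 ≤ Nat.card (Sylow p H) := by
      have : 1 < Nat.card (Sylow p H) := by
        rw [Finite.one_lt_card_iff_nontrivial]
        exact ⟨⟨_, _, hne⟩⟩
      omega
    have hgep : p + 1 ≤ Nat.card (Sylow p H) := by
      by_contra hlt
      rw [not_le] at hlt
      have h1 : Nat.card (Sylow p H) % p = 1 % p := hmod
      rw [Nat.mod_eq_of_lt hp.one_lt] at h1
      have h3 : Nat.card (Sylow p H) ≤ p := by omega
      rcases Nat.lt_or_ge (Nat.card (Sylow p H)) p with h4 | h4
      · rw [Nat.mod_eq_of_lt h4] at h1; omega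
      · have : Nat.card (Sylow p H) = p := le_antisymm h3 h4
        rw [this, Nat.mod_self] at h1; omega
    have h1 : Nat.card (Sylow p H) =
        (Subgroup.normalizer (((P.subtype hPH : Sylow p H) : Subgroup H) : Set H)).index :=
      Sylow.card_eq_index_normalizer (P.subtype hPH)
    have h2 := Subgroup.card_mul_index
      (Subgroup.normalizer (((P.subtype hPH : Sylow p H) : Subgroup H) : Set H))
    have h3 : Nat.card (P : Subgroup G) ≤
        Nat.card (Subgroup.normalizer (((P.subtype hPH : Sylow p H) : Subgroup H) : Set H)) := by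
      have h4 : Nat.card ((P.subtype hPH : Sylow p H) : Subgroup H) = Nat.card (P : Subgroup G) := by
        rw [Sylow.coe_subtype]
        exact Nat.card_congr (Subgroup.subgroupOfEquivOfLe hPH).toEquiv
      rw [← h4]
      exact Subgroup.card_le_of_le Subgroup.le_normalizer
    rw [← h2, ← h1, mul_comm (p + 1)]
    exact Nat.mul_le_mul h3 hgep

end Cfsg.Agent.Lib.helper3.S496
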