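import Mathlib
import Cfsg.Agent.Lib.Helper19.SPD.Defs

/-!
# Project SPD (S5961), row KERFAC: some factor `f k (y)` kills a nonzero vector of `W`.
-/

set_option autoImplicit false
set_option linter.unusedVariables false
set_option linter.unusedSectionVars false

namespace Cfsg.Agent.Lib.Helper19.SPD

open Polynomial

variable {F : Type*} [Field F] {d : ℕ}

/-- an invariant subspace is invariant under the powers of `y` -/
theorem spdkerfac_pow_mem (y : (Fin d ⊕ Fin d → F) →ₗ[F] (Fin d ⊕ Fin d → F))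
    (W : Submodule F (Fin d ⊕ Fin d → F)) (hW : Inv y W) (n : ℕ) :
    ∀ v ∈ W, (y ^ n) v ∈ W := by
  induction n with
  | zero => intro v hv; simpa using hv
  | succ n ih =>
    intro v hv
    rw [pow_succ, Module.End.mul_apply]
    exact ih _ (hW v hv)

/-- an invariant subspace is invariant under the polynomials in `y` -/
theorem spdkerfac_aeval_mem (y : (Fin d ⊕ Fin d → F) →ₗ[F] (Fin d ⊕ Fin d → F))
    (W : Submodule F (Fin d ⊕ Fin d → F)) (hW : Inv y W) (g : F[X]) :
    ∀ v ∈ W, aeval y g v ∈ W := by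
  intro v hv
  rw [Polynomial.aeval_eq_sum_range, LinearMap.sum_apply]
  apply Submodule.sum_mem
  intro n _
  rw [LinearMap.smul_apply]
  exact Submodule.smul_mem _ _ (spdkerfac_pow_mem y W hW n v hv)

/-- KERFAC [S-M] -/
theorem ker_fac (r : ℕ) (y : (Fin d ⊕ Fin d → F) →ₗ[F] (Fin d ⊕ Fin d → F)) (hy : y ^ r = 1)
    {κ : Type*} [Fintype κ] (f : κ → F[X]) (hprod : (X - 1) * ∏ k, f k = X ^ r - 1)
    (W : Submodule F (Fin d ⊕ Fin d → F)) (hW : Inv y W) (hff : FF y W) (hne : W ≠ ⊥) :
    ∃ k, ∃ v ∈ W, v ≠ 0 ∧ aeval y (f k) v = 0 := by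
  classical
  by_contra hcon
  push Not at hcon
  -- every finite product of the `f k (y)` is injective on `W`
  have hinj : ∀ s : Finset κ, ∀ v ∈ W, v ≠ 0 → aeval y (∏ k ∈ s, f k) v ≠ 0 := by
    intro s
    induction s using Finset.induction_on with
    | empty =>
      intro v _ hv
      simpa using hv
    | insert a s ha ih =>
      intro v hvW hv
      rw [Finset.prod_insert ha, map_mul, Module.End.mul_apply]
      exact hcon a _ (spdkerfac_aeval_mem y W hW _ v hvW) (ih v hvW hv)
  obtain ⟨w, hwW, hw0⟩ := (Submodule.ne_bot_iff W).mp hne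
  set u := aeval y (∏ k, f k) w with hu
  have huW : u ∈ W := spdkerfac_aeval_mem y W hW _ w hwW
  have hu0 : u ≠ 0 := hinj Finset.univ w hwW hw0
  have hfix : y u = u := by
    have h1 : aeval y ((X - 1) * ∏ k, f k) w = 0 := by
      rw [hprod]
      simp [hy]
    rw [map_mul, Module.End.mul_apply] at h1
    have h2 : aeval y (X - 1 : F[X]) u = y u - u := by
      simp
    rw [← hu, h2] at h1
    exact sub_eq_zero.mp h1
  exact hu0 (hff u huW hfix)

end Cfsg.Agent.Lib.Helper19.SPD
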