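import Mathlib
import Cfsg.Agent.Lib.Lead.SPN.Defs
import Cfsg.Agent.Lib.Lead.SPN.Defs2

/-!
# Project SPN (lead; S2096 + S2097), rows C6 (`EE_comm`) and C7 (`XC_comm`), verbatim vs `Lead/SPN/Skel.lean.txt`.  Writer: helper11.
-/

set_option autoImplicit false

namespace Cfsg.Agent.Lib.Lead.SPN

open Cfsg.Agent.Lib.helper15.St2 Cfsg.Agent.Lib.helper3.STC Cfsg.Agent.Lib.Lead.STD Cfsg.Agent.Lib.Helper16
  Cfsg.Agent.Lib.Helper1.OMP

universe u v w

section C

variable {l : ℕ} {F : Type u} [Field F]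

/-- four pairwise anticommuting elements: `A B` commutes with `C D` -/
theorem spnc6_ring {R : Type*} [Ring R] {A B C D : R} (hBC : B * C = -(C * B)) (hBD : B * D = -(D * B))
    (hAC : A * C = -(C * A)) (hAD : A * D = -(D * A)) : A * B * (C * D) = C * D * (A * B) := by
  calc A * B * (C * D) = A * (B * C) * D := by noncomm_ring
    _ = -(A * C * (B * D)) := by rw [hBC]; noncomm_ring
    _ = A * C * D * B := by rw [hBD]; noncomm_ring
    _ = -(C * (A * D) * B) := by rw [hAC]; noncomm_ring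
    _ = C * D * (A * B) := by rw [hAD]; noncomm_ring

/-- the product of two elements `1 + t • x`, `1 + u • y` -/
theorem spnc6_expand {A : Type*} [Ring A] [Algebra F A] (x y : A) (t u : F) :
    (1 + t • x) * (1 + u • y) = 1 + t • x + u • y + (t * u) • (x * y) := by
  rw [mul_add, add_mul, add_mul, one_mul, one_mul, mul_one, smul_mul_smul_comm]
  abel

/-- `ng` is injective -/
theorem spnc6_ng_ne {a b : Fin l ⊕ Fin l} (h : a ≠ b) : ng a ≠ ng b := by
  intro e
  apply h
  have := congrArg ng e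
  rwa [ng_ng, ng_ng] at this

theorem EE_comm {a b c d : Fin l ⊕ Fin l} (hbc : b ≠ c) (had : a ≠ d) (hbd : b ≠ ng d) (hac : a ≠ ng c) :
    EE (F := F) a b * EE c d = EE c d * EE a b := by
  unfold EE
  apply spnc6_ring
  · exact gam_anti (spnc6_ng_ne hbc)
  · apply gam_anti
    rw [ng_ng]
    intro e
    apply hbd
    rw [← e, ng_ng]
  · exact gam_anti hac
  · apply gam_anti
    rw [ng_ng]
    exact had

theorem XC_comm (a b c d : Fin l ⊕ Fin l) (hab : a ≠ b) (hab' : a ≠ ng b) (hcd : c ≠ d) (hcd' : c ≠ ng d) (hbc : b ≠ c) (had : a ≠ d)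
    (hbd : b ≠ ng d) (hac : a ≠ ng c) (t u : F) : XC (F := F) a b t * XC c d u = XC c d u * XC a b t := by
  apply Units.ext
  rw [Units.val_mul, Units.val_mul, XC_val hab hab', XC_val hcd hcd']
  have h := EE_comm (F := F) hbc had hbd hac
  rw [spnc6_expand, spnc6_expand, h, mul_comm t u]
  abel

end C

end Cfsg.Agent.Lib.Lead.SPN
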