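import Mathlib
import Cfsg.Agent.Lib.Lead.SPN.Defs
import Cfsg.Agent.Lib.Lead.SPN.Defs2
import Cfsg.Agent.Lib.Helper11.SPNC6

/-!
# Project SPN (lead; S2096 + S2097), rows C14 (`wOf_XC`) and C15 (`XC_rel`), verbatim vs `Lead/SPN/Skel.lean.txt`.  Writer: helper11.
`spnc14_gpg`, `spnc14_EFE` are OWN-NAME copies of the statements of C1 (`gam_pair_gam`) and C13 (`EE_EFE`), which were not on main when this file was written.
-/

set_option autoImplicit false
set_option linter.unusedVariables false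

namespace Cfsg.Agent.Lib.Lead.SPN

open Cfsg.Agent.Lib.helper15.St2 Cfsg.Agent.Lib.helper3.STC Cfsg.Agent.Lib.Lead.STD Cfsg.Agent.Lib.Helper16
  Cfsg.Agent.Lib.Helper1.OMP

universe u v w

section C

variable {l : ℕ} {F : Type u} [Field F]

/-- own-name copy of C1 `gam_pair_gam` -/
theorem spnc14_gpg (a : Fin l ⊕ Fin l) : gam (F := F) a * gam (ng a) * gam a = gam a := by
  have h := gam_car (F := F) (ng a) a
  rw [if_pos rfl] at h
  have h' : gam (F := F) (ng a) * gam a = 1 - gam a * gam (ng a) := eq_sub_of_add_eq h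
  calc gam (F := F) a * gam (ng a) * gam a = gam a * (gam (ng a) * gam a) := by rw [mul_assoc]
    _ = gam a - gam a * gam a * gam (ng a) := by rw [h']; noncomm_ring
    _ = gam a := by rw [gam_sq]; simp

/-- ring form of C13 -/
theorem spnc14_EFE_ring {R : Type*} [Ring R] {A Am B Bm : R} (hcar : Am * A = 1 - A * Am) (hBA : B * A = -(A * B))
    (hBmA : Bm * A = -(A * Bm)) (hAA : A * A = 0) (hBBB : Bm * B * Bm = Bm) :
    A * Bm * (B * Am) * (A * Bm) = A * Bm := by
  have e1 : A * Bm * B * A = 0 := by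
    calc A * Bm * B * A = A * Bm * (B * A) := by noncomm_ring
      _ = -(A * (Bm * A) * B) := by rw [hBA]; noncomm_ring
      _ = A * A * Bm * B := by rw [hBmA]; noncomm_ring
      _ = 0 := by rw [hAA]; noncomm_ring
  calc A * Bm * (B * Am) * (A * Bm) = A * Bm * B * (Am * A) * Bm := by noncomm_ring
    _ = A * (Bm * B * Bm) - A * Bm * B * A * Am * Bm := by rw [hcar]; noncomm_ring
    _ = A * Bm := by rw [hBBB, e1]; noncomm_ring

/-- own-name copy of C13 `EE_EFE` -/
theorem spnc14_EFE {a b : Fin l ⊕ Fin l} (hab : a ≠ b) (hab' : a ≠ ng b) : EE (F := F) a b * EE b a * EE a b = EE a b := by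
  unfold EE
  apply spnc14_EFE_ring
  · have h := gam_car (F := F) (ng a) a
    rw [if_pos rfl] at h
    exact eq_sub_of_add_eq h
  · apply gam_anti
    intro e
    apply hab'
    rw [e, ng_ng]
  · exact gam_anti (spnc6_ng_ne (Ne.symm hab))
  · exact gam_sq a
  · have := spnc14_gpg (F := F) (ng b)
    rwa [ng_ng] at this

/-- ring form of C14 -/
theorem spnc14_ring {R : Type*} [Ring R] {a b : R} (ha : a * a = 0) (haba : a * b * a = a) :
    (1 + a) * (1 - b) * (1 + a) = 1 - (a * b + b * a) + a - b := by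
  have e : (1 + a) * (1 - b) * (1 + a) = 1 + a - b - a * b + a + a * a - b * a - a * b * a := by noncomm_ring
  rw [e, ha, haba]
  noncomm_ring

theorem wOf_XC {a b : Fin l ⊕ Fin l} (hab : a ≠ b) (hab' : a ≠ ng b) (t : F) (ht : t ≠ 0) :
    ((wOf (XC (l := l) (F := F)) a b t : (Cl l F)ˣ) : Cl l F) =
      1 - (EE a b * EE b a + EE b a * EE a b) + t • EE a b - t⁻¹ • EE b a := by
  have hba' : b ≠ ng a := by
    intro e
    apply hab'
    rw [e, ng_ng]
  unfold wOf
  rw [Units.val_mul, Units.val_mul, XC_val hab hab', XC_val hab.symm hba', neg_smul, ← sub_eq_add_neg]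
  have ha : (t • EE (F := F) a b) * (t • EE a b) = 0 := smul_sq_zero _ (EE_sq hab) t
  have hab1 : (t • EE (F := F) a b) * (t⁻¹ • EE b a) = EE a b * EE b a := by
    rw [smul_mul_smul_comm, mul_inv_cancel₀ ht, one_smul]
  have hba1 : (t⁻¹ • EE (F := F) b a) * (t • EE a b) = EE b a * EE a b := by
    rw [smul_mul_smul_comm, inv_mul_cancel₀ ht, one_smul]
  have haba : (t • EE (F := F) a b) * (t⁻¹ • EE b a) * (t • EE a b) = t • EE a b := by
    rw [hab1, mul_smul_comm, spnc14_EFE hab hab']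
  rw [spnc14_ring ha haba, hab1, hba1]

/-- `W e = -t⁻¹ f e` and `f W = t f e` for `W = 1 - (e f + f e) + t e - t⁻¹ f` -/
theorem spnc15_ring {A : Type*} [Ring A] [Algebra F A] {e f : A} (hE : e * e = 0) (hF : f * f = 0)
    (hEFE : e * f * e = e) (hFEF : f * e * f = f) (t : F) :
    (1 - (e * f + f * e) + t • e - t⁻¹ • f) * e = -(t⁻¹ • (f * e)) ∧
      f * (1 - (e * f + f * e) + t • e - t⁻¹ • f) = t • (f * e) := by
  constructor
  · simp only [sub_mul, add_mul, one_mul, smul_mul_assoc]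
    rw [hEFE, mul_assoc f e e, hE, mul_zero, smul_zero]
    abel
  · simp only [mul_sub, mul_add, mul_one, mul_smul_comm]
    rw [← mul_assoc f e f, hFEF, ← mul_assoc f f e, hF, zero_mul, smul_zero]
    abel

theorem XC_rel (a b : Fin l ⊕ Fin l) (hab : a ≠ b) (hab' : a ≠ ng b) (t u : F) (ht : t ≠ 0) :
    cj (wOf (XC (l := l) (F := F)) a b t) (XC a b u) = XC b a (-(t⁻¹ ^ 2 * u)) := by
  have hba' : b ≠ ng a := by
    intro e
    apply hab'
    rw [e, ng_ng]
  unfold cj
  rw [mul_inv_eq_iff_eq_mul]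
  apply Units.ext
  rw [Units.val_mul, Units.val_mul, wOf_XC hab hab' t ht, XC_val hab hab', XC_val hab.symm hba']
  obtain ⟨h1, h2⟩ := spnc15_ring (F := F) (EE_sq (F := F) hab) (EE_sq (F := F) hab.symm) (spnc14_EFE hab hab')
    (spnc14_EFE hab.symm hba') t
  rw [mul_add, mul_one, mul_smul_comm, h1, add_mul, one_mul, smul_mul_assoc, h2, smul_neg, smul_smul, smul_smul]
  congr 1
  rw [← neg_smul]
  congr 1
  field_simp

end C

end Cfsg.Agent.Lib.Lead.SPN
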