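import Mathlib
import Cfsg.Agent.Lib.Lead.SPN.Defs
import Cfsg.Agent.Lib.Lead.SPN.Defs2
import Cfsg.Agent.Lib.Helper11.SPNC6

/-!
# Project SPN (lead; S2096 + S2097), rows C8 (`EE_bracket`), C9 (`EE_triple`, `EE_ac_bc`) and C10 (`XC_comm3`), verbatim vs `Lead/SPN/Skel.lean.txt`.
Writer: helper11.
-/

set_option autoImplicit false
set_option linter.unusedVariables false

namespace Cfsg.Agent.Lib.Lead.SPN

open Cfsg.Agent.Lib.helper15.St2 Cfsg.Agent.Lib.helper3.STC Cfsg.Agent.Lib.Lead.STD Cfsg.Agent.Lib.Helper16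
  Cfsg.Agent.Lib.Helper1.OMP

universe u v w

section C

variable {l : ℕ} {F : Type u} [Field F]

/-- ring form of C8 -/
theorem spnc8_ring {R : Type*} [Ring R] {A Bm B Cm : R} (hCmA : Cm * A = -(A * Cm)) (hBA : B * A = -(A * B))
    (hCmBm : Cm * Bm = -(Bm * Cm)) (hcar : Bm * B + B * Bm = 1) :
    A * Bm * (B * Cm) - B * Cm * (A * Bm) = A * Cm := by
  have e : B * Cm * (A * Bm) = -(A * (B * Bm) * Cm) := by
    calc B * Cm * (A * Bm) = B * (Cm * A) * Bm := by noncomm_ring
      _ = -((B * A) * Cm * Bm) := by rw [hCmA]; noncomm_ring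
      _ = A * B * (Cm * Bm) := by rw [hBA]; noncomm_ring
      _ = -(A * (B * Bm) * Cm) := by rw [hCmBm]; noncomm_ring
  calc A * Bm * (B * Cm) - B * Cm * (A * Bm) = A * (Bm * B + B * Bm) * Cm := by rw [e]; noncomm_ring
    _ = A * Cm := by rw [hcar, mul_one]

/-- ring form of C9, first statement -/
theorem spnc9_ring {R : Type*} [Ring R] {A Bm B Cm : R} (hCmA : Cm * A = -(A * Cm)) (hBA : B * A = -(A * B))
    (hBmA : Bm * A = -(A * Bm)) (hAA : A * A = 0) : A * Bm * (B * Cm) * (A * Bm) = 0 := by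
  calc A * Bm * (B * Cm) * (A * Bm) = A * Bm * B * (Cm * A) * Bm := by noncomm_ring
    _ = -(A * Bm * (B * A) * Cm * Bm) := by rw [hCmA]; noncomm_ring
    _ = A * (Bm * A) * B * Cm * Bm := by rw [hBA]; noncomm_ring
    _ = -(A * A * Bm * B * Cm * Bm) := by rw [hBmA]; noncomm_ring
    _ = 0 := by rw [hAA]; noncomm_ring

/-- ring form of the mirror statement `E_bc E_ab E_bc = 0` -/
theorem spnc9_ring' {R : Type*} [Ring R] {A Bm B Cm : R} (hBCm : B * Cm = -(Cm * B)) (hBmCm : Bm * Cm = -(Cm * Bm))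
    (hACm : A * Cm = -(Cm * A)) (hCC : Cm * Cm = 0) : B * Cm * (A * Bm) * (B * Cm) = 0 := by
  calc B * Cm * (A * Bm) * (B * Cm) = B * Cm * A * Bm * (B * Cm) := by noncomm_ring
    _ = -(B * Cm * A * (Bm * Cm) * B) := by rw [hBCm]; noncomm_ring
    _ = B * Cm * (A * Cm) * Bm * B := by rw [hBmCm]; noncomm_ring
    _ = -(B * (Cm * Cm) * A * Bm * B) := by rw [hACm]; noncomm_ring
    _ = 0 := by rw [hCC]; noncomm_ring

/-- ring form of C9, second statement -/
theorem spnc9_ring2 {R : Type*} [Ring R] {A B Cm : R} (hCmB : Cm * B = -(B * Cm)) (hCC : Cm * Cm = 0) :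
    A * Cm * (B * Cm) = 0 := by
  calc A * Cm * (B * Cm) = A * (Cm * B) * Cm := by noncomm_ring
    _ = -(A * B * (Cm * Cm)) := by rw [hCmB]; noncomm_ring
    _ = 0 := by rw [hCC]; noncomm_ring

theorem EE_bracket {a b c : Fin l ⊕ Fin l} (hab : a ≠ b) (hab' : a ≠ ng b) (hbc : b ≠ c) (hbc' : b ≠ ng c) (hac : a ≠ c) (hac' : a ≠ ng c) :
    EE (F := F) a b * EE b c - EE b c * EE a b = EE a c := by
  unfold EE
  apply spnc8_ring
  · exact gam_anti (spnc6_ng_ne (Ne.symm hac))
  · apply gam_anti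
    intro e
    apply hab'
    rw [e, ng_ng]
  · apply gam_anti
    rw [ng_ng]
    intro e
    apply hbc'
    rw [← e]
  · have := gam_car (F := F) (ng b) b
    rwa [if_pos rfl] at this

theorem EE_triple {a b c : Fin l ⊕ Fin l} (hab : a ≠ b) (hab' : a ≠ ng b) (hbc : b ≠ c) (hbc' : b ≠ ng c) (hac : a ≠ c) (hac' : a ≠ ng c) :
    EE (F := F) a b * EE b c * EE a b = 0 := by
  unfold EE
  apply spnc9_ring
  · exact gam_anti (spnc6_ng_ne (Ne.symm hac))
  · apply gam_anti
    intro e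
    apply hab'
    rw [e, ng_ng]
  · exact gam_anti (spnc6_ng_ne (Ne.symm hab))
  · exact gam_sq a

/-- the mirror of `EE_triple` -/
theorem spnc9_triple' {a b c : Fin l ⊕ Fin l} (hab : a ≠ b) (hab' : a ≠ ng b) (hbc : b ≠ c) (hbc' : b ≠ ng c) (hac : a ≠ c) (hac' : a ≠ ng c) :
    EE (F := F) b c * EE a b * EE b c = 0 := by
  unfold EE
  apply spnc9_ring'
  · apply gam_anti
    rw [ng_ng]
    exact hbc
  · apply gam_anti
    rw [ng_ng]
    intro e
    apply hbc'
    rw [← e, ng_ng]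
  · apply gam_anti
    rw [ng_ng]
    exact hac
  · exact gam_sq (ng c)

theorem EE_ac_bc {a b c : Fin l ⊕ Fin l} (hbc : b ≠ c) (hac : a ≠ c) :
    EE (F := F) a c * EE b c = 0 ∧ EE (F := F) b c * EE a c = 0 := by
  unfold EE
  constructor
  · apply spnc9_ring2
    · exact gam_anti (spnc6_ng_ne (Ne.symm hbc))
    · exact gam_sq (ng c)
  · apply spnc9_ring2
    · exact gam_anti (spnc6_ng_ne (Ne.symm hac))
    · exact gam_sq (ng c)

/-- ring form of C10: `(1 + A)(1 + B) = (1 + (AB - BA))(1 + B)(1 + A)` -/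
theorem spnc10_ring {R : Type*} [Ring R] {A B : R} (hA : A * A = 0) (hB : B * B = 0) (hABA : A * B * A = 0)
    (hBAB : B * A * B = 0) : (1 + A) * (1 + B) = (1 + (A * B - B * A)) * (1 + B) * (1 + A) := by
  have hCB : (A * B - B * A) * B = 0 := by
    calc (A * B - B * A) * B = A * (B * B) - B * A * B := by noncomm_ring
      _ = 0 := by rw [hB, hBAB]; simp
  have hCA : (A * B - B * A) * A = 0 := by
    calc (A * B - B * A) * A = A * B * A - B * (A * A) := by noncomm_ring
      _ = 0 := by rw [hA, hABA]; simp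
  have e : (1 + (A * B - B * A)) * (1 + B) * (1 + A) =
      1 + A + B + A * B + (A * B - B * A) * B + (A * B - B * A) * A + (A * B - B * A) * B * A := by
    noncomm_ring
  rw [e, hCB, hCA]
  noncomm_ring

/-- the value of the inverse of a root element -/
theorem spnc10_inv_val {a b : Fin l ⊕ Fin l} (hab : a ≠ b) (hab' : a ≠ ng b) (t : F) :
    (((XC a b t)⁻¹ : (Cl l F)ˣ) : Cl l F) = 1 - t • EE a b := by
  unfold XC
  rw [dif_neg (by rintro (h | h); exact hab h; exact hab' h)]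
  rfl

theorem XC_comm3 (a b c : Fin l ⊕ Fin l) (hab : a ≠ b) (hab' : a ≠ ng b) (hbc : b ≠ c) (hbc' : b ≠ ng c) (hac : a ≠ c) (hac' : a ≠ ng c)
    (t u : F) : XC (F := F) a b t * XC b c u * (XC a b t)⁻¹ * (XC b c u)⁻¹ = XC a c (t * u) := by
  have key : XC (F := F) a b t * XC b c u = XC a c (t * u) * XC b c u * XC a b t := by
    apply Units.ext
    rw [Units.val_mul, Units.val_mul, Units.val_mul, XC_val hab hab', XC_val hbc hbc', XC_val hac hac']
    have hA : (t • EE (F := F) a b) * (t • EE a b) = 0 := smul_sq_zero _ (EE_sq hab) t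
    have hB : (u • EE (F := F) b c) * (u • EE b c) = 0 := smul_sq_zero _ (EE_sq hbc) u
    have hABA : (t • EE (F := F) a b) * (u • EE b c) * (t • EE a b) = 0 := by
      rw [smul_mul_smul_comm, smul_mul_smul_comm, EE_triple hab hab' hbc hbc' hac hac', smul_zero]
    have hBAB : (u • EE (F := F) b c) * (t • EE a b) * (u • EE b c) = 0 := by
      rw [smul_mul_smul_comm, smul_mul_smul_comm, spnc9_triple' hab hab' hbc hbc' hac hac', smul_zero]
    have hC : (t • EE (F := F) a b) * (u • EE b c) - (u • EE b c) * (t • EE a b) = (t * u) • EE a c := by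
      rw [smul_mul_smul_comm, smul_mul_smul_comm, mul_comm u t, ← smul_sub, EE_bracket hab hab' hbc hbc' hac hac']
    rw [spnc10_ring hA hB hABA hBAB, hC]
  rw [key]
  group

end C

end Cfsg.Agent.Lib.Lead.SPN
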