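import Mathlib
import Cfsg.Agent.Lib.Lead.SPN.Defs
import Cfsg.Agent.Lib.Lead.SPN.Defs2
import Cfsg.Agent.Lib.Helper9.SPNC1
import Cfsg.Agent.Lib.Helper11.SPNC6
import Cfsg.Agent.Lib.Helper11.SPNC8
import Cfsg.Agent.Lib.Helper11.SPNC14

/-!
# Project SPN (lead; S2096 + S2097), row C16 (`exists_cliffSys`), verbatim vs `Lead/SPN/Skel.lean.txt`.  Writer: helper11.
Assembly of C3 C4 C5 C12 (helper9) and C7 C10 C15 (helper11).
-/

set_option autoImplicit false

namespace Cfsg.Agent.Lib.Lead.SPN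

open Cfsg.Agent.Lib.helper15.St2 Cfsg.Agent.Lib.helper3.STC Cfsg.Agent.Lib.Lead.STD Cfsg.Agent.Lib.Helper16
  Cfsg.Agent.Lib.Helper1.OMP

universe u v w

section C

/-- the Steinberg system of the Clifford algebra -/
noncomputable def spnc16_sys (l : ℕ) (F : Type u) [Field F] : SysD F (Fin l) (Cl l F)ˣ where
  x := XC
  diag := XC_diag
  opp := XC_opp
  sym := XC_sym
  add := XC_add
  comm := XC_comm
  comm3 := XC_comm3
  sso := XC_sso
  rel := XC_rel

theorem exists_cliffSys (l : ℕ) (F : Type u) [Field F] :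
    ∃ S : SysD F (Fin l) (Cl l F)ˣ, (∀ a b t, S.x a b t = XC a b t) ∧ (∀ a b t, S.w a b t = wOf XC a b t) ∧
      (∀ a b t, S.h a b t = hOf XC a b t) :=
  ⟨spnc16_sys l F, fun _ _ _ => rfl, fun _ _ _ => rfl, fun _ _ _ => rfl⟩

end C

end Cfsg.Agent.Lib.Lead.SPN
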