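import Mathlib
import Cfsg.Agent.Lib.Lead.SPN.Defs
import Cfsg.Agent.Lib.Lead.SPN.Defs2
import Cfsg.Agent.Lib.Helper11.SPNC6
import Cfsg.Agent.Lib.Helper11.SPNC14

/-!
# Project SPN (lead; S2096 + S2097), row C18 (`hOf_XC`), verbatim vs `Lead/SPN/Skel.lean.txt`.  Writer: helper11.
-/

set_option autoImplicit false
set_option linter.unusedVariables false

namespace Cfsg.Agent.Lib.Lead.SPN

open Cfsg.Agent.Lib.helper15.St2 Cfsg.Agent.Lib.helper3.STC Cfsg.Agent.Lib.Lead.STD Cfsg.Agent.Lib.Helper16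
  Cfsg.Agent.Lib.Helper1.OMP

universe u v w

section C

variable {l : ℕ} {F : Type u} [Field F]

/-- ring form of C18: `w(t) w(-1) = 1 - P + t e f + t⁻¹ f e` -/
theorem spnc18_ring {A : Type*} [Ring A] [Algebra F A] {e f : A} (hE : e * e = 0) (hF : f * f = 0)
    (hEFE : e * f * e = e) (hFEF : f * e * f = f) (t : F) :
    (1 - (e * f + f * e) + t • e - t⁻¹ • f) * (1 - (e * f + f * e) - e + f) =
      1 - (e * f + f * e) + t • (e * f) + t⁻¹ • (f * e) := by
  have hQe : (1 - (e * f + f * e)) * e = 0 := by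
    rw [sub_mul, one_mul, add_mul, hEFE, mul_assoc f e e, hE, mul_zero, add_zero, sub_self]
  have heQ : e * (1 - (e * f + f * e)) = 0 := by
    rw [mul_sub, mul_one, mul_add, ← mul_assoc e e f, hE, zero_mul, zero_add, ← mul_assoc, hEFE, sub_self]
  have hQf : (1 - (e * f + f * e)) * f = 0 := by
    rw [sub_mul, one_mul, add_mul, mul_assoc e f f, hF, mul_zero, zero_add, hFEF, sub_self]
  have hfQ : f * (1 - (e * f + f * e)) = 0 := by
    rw [mul_sub, mul_one, mul_add, ← mul_assoc f e f, hFEF, ← mul_assoc f f e, hF, zero_mul, add_zero, sub_self]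
  generalize hQ : 1 - (e * f + f * e) = Q at *
  have hQQ : Q * Q = Q := by
    have : Q * Q = Q * 1 - (Q * e * f + Q * f * e) := by
      conv_lhs => rw [← hQ]
      rw [hQ]
      conv_lhs => rw [← hQ]
      rw [mul_sub, mul_add, hQ]
      simp only [mul_assoc]
    rw [this, hQe, hQf, zero_mul, zero_mul, add_zero, sub_zero, mul_one]
  simp only [add_mul, sub_mul, mul_add, mul_sub, smul_mul_assoc, hQQ, hQe, hQf, heQ, hfQ, hE, hF, smul_zero]
  abel

theorem hOf_XC {a b : Fin l ⊕ Fin l} (hab : a ≠ b) (hab' : a ≠ ng b) (t : F) (ht : t ≠ 0) :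
    ((hOf (XC (l := l) (F := F)) a b t : (Cl l F)ˣ) : Cl l F) =
      1 - (EE a b * EE b a + EE b a * EE a b) + t • (EE a b * EE b a) + t⁻¹ • (EE b a * EE a b) := by
  have hba' : b ≠ ng a := by
    intro e
    apply hab'
    rw [e, ng_ng]
  unfold hOf
  rw [Units.val_mul, wOf_XC hab hab' t ht, wOf_XC hab hab' (-1) (neg_ne_zero.2 one_ne_zero), inv_neg_one, neg_one_smul,
    neg_one_smul, sub_neg_eq_add, ← sub_eq_add_neg]
  exact spnc18_ring (F := F) (EE_sq (F := F) hab) (EE_sq (F := F) hab.symm) (spnc14_EFE hab hab')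
    (spnc14_EFE hab.symm hba') t

end C

end Cfsg.Agent.Lib.Lead.SPN
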