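import Mathlib
import Cfsg.Agent.Lib.Lead.SPN.Defs
import Cfsg.Agent.Lib.Lead.SPN.Defs2
import Cfsg.Agent.Lib.Helper11.SPNC6
import Cfsg.Agent.Lib.Helper11.SPNC14
import Cfsg.Agent.Lib.Helper11.SPNC18

/-!
# Project SPN (lead; S2096 + S2097), row C19 (`spin_XC`: the spin element of the Clifford system is `-1`), verbatim vs `Lead/SPN/Skel.lean.txt`.  Writer: helper11.
`spnc19_pp_idem`, `spnc19_pp_add`, `spnc19_pp_comm`, `spnc19_mul_swap` are OWN-NAME copies of the statements of C17, which were not on main when this file was written.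
-/

set_option autoImplicit false
set_option linter.unusedVariables false

namespace Cfsg.Agent.Lib.Lead.SPN

open Cfsg.Agent.Lib.helper15.St2 Cfsg.Agent.Lib.helper3.STC Cfsg.Agent.Lib.Lead.STD Cfsg.Agent.Lib.Helper16
  Cfsg.Agent.Lib.Helper1.OMP

universe u v w

section C

variable {l : ℕ} {F : Type u} [Field F]

/-- own-name copy of C17 `pp_idem` -/
theorem spnc19_pp_idem (a : Fin l ⊕ Fin l) : pp (F := F) a * pp a = pp a := by
  unfold pp
  calc gam (F := F) a * gam (ng a) * (gam a * gam (ng a)) = gam a * gam (ng a) * gam a * gam (ng a) := by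
        noncomm_ring
    _ = gam a * gam (ng a) := by rw [spnc14_gpg]

/-- own-name copy of C17 `pp_add` -/
theorem spnc19_pp_add (a : Fin l ⊕ Fin l) : pp (F := F) a + pp (ng a) = 1 := by
  unfold pp
  rw [ng_ng]
  have h := gam_car (F := F) a (ng a)
  rwa [if_pos (ng_ng a).symm] at h

/-- own-name copy of C17 `pp_comm` -/
theorem spnc19_pp_comm {a b : Fin l ⊕ Fin l} (hab : a ≠ b) (hab' : a ≠ ng b) : pp (F := F) a * pp b = pp b * pp a := by
  unfold pp
  apply spnc6_ring
  · exact gam_anti (spnc6_ng_ne hab)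
  · apply gam_anti
    rw [ng_ng]
    intro e
    apply hab'
    rw [← e, ng_ng]
  · exact gam_anti hab'
  · apply gam_anti
    rw [ng_ng]
    exact hab

/-- ring form of `EE_mul_swap` -/
theorem spnc19_swap_ring {R : Type*} [Ring R] {A Am B Bm : R} (hABm : A * Bm = -(Bm * A)) (hAB : A * B = -(B * A)) :
    A * Bm * (B * Am) = Bm * B * (A * Am) := by
  calc A * Bm * (B * Am) = (A * Bm) * B * Am := by noncomm_ring
    _ = -(Bm * (A * B) * Am) := by rw [hABm]; noncomm_ring
    _ = Bm * B * (A * Am) := by rw [hAB]; noncomm_ring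

/-- own-name copy of C17 `EE_mul_swap` -/
theorem spnc19_mul_swap {a b : Fin l ⊕ Fin l} (hab : a ≠ b) (hab' : a ≠ ng b) : EE (F := F) a b * EE b a = pp (ng b) * pp a := by
  unfold EE pp
  rw [ng_ng]
  apply spnc19_swap_ring
  · apply gam_anti
    rw [ng_ng]
    exact hab
  · exact gam_anti hab'

/-- ring form of C19: commuting idempotents `x y` -/
theorem spnc19_ring {R : Type*} [Ring R] {x y : R} (hx : x * x = x) (hy : y * y = y) (hxy : x * y = y * x) :
    (1 - ((1 - y) * x + (1 - x) * y) - (1 - y) * x - (1 - x) * y) *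
      (1 - (y * x + (1 - x) * (1 - y)) - y * x - (1 - x) * (1 - y)) = -1 := by
  have e1 : 1 - ((1 - y) * x + (1 - x) * y) - (1 - y) * x - (1 - x) * y =
      (1 - x - x) * (1 - y - y) + (y * x - x * y) + (y * x - x * y) := by noncomm_ring
  have e2 : 1 - (y * x + (1 - x) * (1 - y)) - y * x - (1 - x) * (1 - y) =
      -((1 - x - x) * (1 - y - y)) + (x * y - y * x) + (x * y - y * x) := by noncomm_ring
  have huu : (1 - x - x) * (1 - x - x) = 1 := by
    have : (1 - x - x) * (1 - x - x) = 1 + (x * x - x) + (x * x - x) + (x * x - x) + (x * x - x) := by noncomm_ring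
    rw [this, hx]
    simp only [sub_self, add_zero]
  have hvv : (1 - y - y) * (1 - y - y) = 1 := by
    have : (1 - y - y) * (1 - y - y) = 1 + (y * y - y) + (y * y - y) + (y * y - y) + (y * y - y) := by noncomm_ring
    rw [this, hy]
    simp only [sub_self, add_zero]
  have hvu : (1 - y - y) * (1 - x - x) = (1 - x - x) * (1 - y - y) := by
    have : (1 - y - y) * (1 - x - x) =
        (1 - x - x) * (1 - y - y) + (y * x - x * y) + (y * x - x * y) + (y * x - x * y) + (y * x - x * y) := by
      noncomm_ring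
    rw [this, hxy]
    simp only [sub_self, add_zero]
  rw [e1, e2, hxy]
  simp only [sub_self, add_zero]
  calc (1 - x - x) * (1 - y - y) * -((1 - x - x) * (1 - y - y))
      = -((1 - x - x) * ((1 - y - y) * (1 - x - x)) * (1 - y - y)) := by noncomm_ring
    _ = -((1 - x - x) * (1 - x - x) * ((1 - y - y) * (1 - y - y))) := by rw [hvu]; noncomm_ring
    _ = -1 := by rw [huu, hvv, mul_one]

theorem spin_XC {a b : Fin l ⊕ Fin l} (hab : a ≠ b) (hab' : a ≠ ng b) :
    hOf (XC (l := l) (F := F)) a b (-1) * hOf XC a (ng b) (-1) = -1 := by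
  have hba' : b ≠ ng a := by
    intro e
    apply hab'
    rw [e, ng_ng]
  have hanb : a ≠ ng (ng b) := by rw [ng_ng]; exact hab
  have hnba : ng b ≠ a := fun e => hab' e.symm
  have hnba' : ng b ≠ ng a := spnc6_ng_ne (Ne.symm hab)
  have hm1 : (-1 : F) ≠ 0 := neg_ne_zero.2 one_ne_zero
  apply Units.ext
  rw [Units.val_mul, Units.val_neg, Units.val_one, hOf_XC hab hab' (-1) hm1, hOf_XC hab' hanb (-1) hm1, inv_neg_one,
    neg_one_smul, neg_one_smul, neg_one_smul, neg_one_smul]
  rw [spnc19_mul_swap hab hab', spnc19_mul_swap hab.symm hba', spnc19_mul_swap hab' hanb, spnc19_mul_swap hnba hnba', ng_ng]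
  have hpa : pp (F := F) (ng a) = 1 - pp a := by
    rw [← spnc19_pp_add (F := F) a]; abel
  have hpb : pp (F := F) (ng b) = 1 - pp b := by
    rw [← spnc19_pp_add (F := F) b]; abel
  rw [hpa, hpb]
  have := spnc19_ring (spnc19_pp_idem (F := F) a) (spnc19_pp_idem (F := F) b) (spnc19_pp_comm (F := F) hab hab')
  simp only [← sub_eq_add_neg] at this ⊢
  exact this

end C

end Cfsg.Agent.Lib.Lead.SPN
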