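import Mathlib
import Cfsg.Prelude.Def_GeometricClasses
import Cfsg.Agent.Lib.Lead.SPU.Defs

set_option autoImplicit false
set_option linter.unusedVariables false
set_option linter.unusedSectionVars false

/-!
# Project SPU (S5665, leader lead), row REFL : `refl_ex`, `refl_perp`, `refl_fix`, `refl_swap`

Self-contained (the BASIC identities needed are proved here under the names `spurefl_*`).
-/

namespace Cfsg.Agent.Lib.Lead.SPU

open Matrix Cfsg.Agent.S5646 Cfsg.Agent.S5647 Cfsg.Agent.Lib.Helper28.SpPair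

variable {m : ℕ} {F : Type*} [Field F] {j j1 : Matrix (Fin m ⊕ Fin m) (Fin m ⊕ Fin m) F} {c0 : F}
  {M : Subgroup (Matrix.GeneralLinearGroup (Fin m ⊕ Fin m) F)}

/-- (= `js_jj`) -/
theorem spurefl_jj (hJ : JS j c0) (x : Fin m ⊕ Fin m → F) : j *ᵥ (j *ᵥ x) = c0 • x := by
  rw [Matrix.mulVec_mulVec, hJ.sq, Matrix.smul_mulVec, Matrix.one_mulVec]

/-- (= `js_B_symm`) -/
theorem spurefl_B_symm (hJ : JS j c0) (x y : Fin m ⊕ Fin m → F) :
    Cfsg.sympForm m F x (j *ᵥ y) = Cfsg.sympForm m F y (j *ᵥ x) := by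
  rw [Cfsg.Agent.Lib.helper6.sympForm_swap, hJ.adj y x, neg_neg]

/-- `f (j d, x) = - B (d, x)` -/
theorem spurefl_jleft (hJ : JS j c0) (d x : Fin m ⊕ Fin m → F) :
    Cfsg.sympForm m F (j *ᵥ d) x = - Cfsg.sympForm m F d (j *ᵥ x) := hJ.adj d x

/-- the values of the two functionals `f (d, ·)`, `B (d, ·)` on a combination `x - κ (a d + b j d)` -/
theorem spurefl_vals (hJ : JS j c0) (d x : Fin m ⊕ Fin m → F) (κ a b : F) :
    Cfsg.sympForm m F d (x - κ • (a • d + b • (j *ᵥ d))) = Cfsg.sympForm m F d x - κ * b * Qj j d ∧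
    Cfsg.sympForm m F d (j *ᵥ (x - κ • (a • d + b • (j *ᵥ d)))) =
      Cfsg.sympForm m F d (j *ᵥ x) - κ * a * Qj j d := by
  have hdd : Cfsg.sympForm m F d d = 0 := Cfsg.Agent.Lib.helper6.sympForm_self m d
  constructor
  · rw [Cfsg.Agent.Lib.helper6.sympForm_sub_right, Cfsg.Agent.Lib.helper6.sympForm_smul_right,
      Cfsg.Agent.Lib.helper6.sympForm_add_right, Cfsg.Agent.Lib.helper6.sympForm_smul_right,
      Cfsg.Agent.Lib.helper6.sympForm_smul_right, hdd]
    unfold Qj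
    ring
  · rw [Matrix.mulVec_sub, Matrix.mulVec_smul, Matrix.mulVec_add, Matrix.mulVec_smul, Matrix.mulVec_smul,
      spurefl_jj hJ, Cfsg.Agent.Lib.helper6.sympForm_sub_right, Cfsg.Agent.Lib.helper6.sympForm_smul_right,
      Cfsg.Agent.Lib.helper6.sympForm_add_right, Cfsg.Agent.Lib.helper6.sympForm_smul_right,
      Cfsg.Agent.Lib.helper6.sympForm_smul_right, Cfsg.Agent.Lib.helper6.sympForm_smul_right, hdd]
    unfold Qj
    ring

/-- the reflection as a linear map -/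
def spureflLin (j : Matrix (Fin m ⊕ Fin m) (Fin m ⊕ Fin m) F) (d : Fin m ⊕ Fin m → F) :
    (Fin m ⊕ Fin m → F) →ₗ[F] (Fin m ⊕ Fin m → F) where
  toFun := reflAct j d
  map_add' := by
    intro x y
    unfold reflAct
    rw [Matrix.mulVec_add, Cfsg.Agent.Lib.helper6.sympForm_add_right, Cfsg.Agent.Lib.helper6.sympForm_add_right]
    module
  map_smul' := by
    intro c x
    unfold reflAct
    rw [Matrix.mulVec_smul, Cfsg.Agent.Lib.helper6.sympForm_smul_right, Cfsg.Agent.Lib.helper6.sympForm_smul_right,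
      RingHom.id_apply]
    module

/-- the reflection is an involution -/
theorem spurefl_invol (hJ : JS j c0) (d : Fin m ⊕ Fin m → F) (hd : Qj j d ≠ 0) (x : Fin m ⊕ Fin m → F) :
    reflAct j d (reflAct j d x) = x := by
  have h := spurefl_vals hJ d x (2 / Qj j d) (Cfsg.sympForm m F d (j *ᵥ x)) (Cfsg.sympForm m F d x)
  have e1 : reflAct j d x = x - (2 / Qj j d) • (Cfsg.sympForm m F d (j *ᵥ x) • d +
      Cfsg.sympForm m F d x • (j *ᵥ d)) := rfl
  have e2 : reflAct j d (reflAct j d x) = reflAct j d x - (2 / Qj j d) •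
      (Cfsg.sympForm m F d (j *ᵥ (reflAct j d x)) • d + Cfsg.sympForm m F d (reflAct j d x) • (j *ᵥ d)) := rfl
  rw [e2, e1, h.1, h.2]
  have k1 : 2 / Qj j d * Cfsg.sympForm m F d x * Qj j d = 2 * Cfsg.sympForm m F d x := by
    field_simp
  have k2 : 2 / Qj j d * Cfsg.sympForm m F d (j *ᵥ x) * Qj j d = 2 * Cfsg.sympForm m F d (j *ᵥ x) := by
    field_simp
  rw [k1, k2]
  module

/-- the reflection preserves `f` -/
theorem spurefl_iso (hJ : JS j c0) (d : Fin m ⊕ Fin m → F) (hd : Qj j d ≠ 0) (x y : Fin m ⊕ Fin m → F) :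
    Cfsg.sympForm m F (reflAct j d x) (reflAct j d y) = Cfsg.sympForm m F x y := by
  have hdd : Cfsg.sympForm m F d d = 0 := Cfsg.Agent.Lib.helper6.sympForm_self m d
  have e1 : ∀ z, reflAct j d z = z - (2 / Qj j d) • (Cfsg.sympForm m F d (j *ᵥ z) • d +
      Cfsg.sympForm m F d z • (j *ᵥ d)) := fun z => rfl
  have hxd : Cfsg.sympForm m F x d = - Cfsg.sympForm m F d x := Cfsg.Agent.Lib.helper6.sympForm_swap m x d
  have hxjd : Cfsg.sympForm m F x (j *ᵥ d) = Cfsg.sympForm m F d (j *ᵥ x) := spurefl_B_symm hJ x d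
  have hjdy : Cfsg.sympForm m F (j *ᵥ d) y = - Cfsg.sympForm m F d (j *ᵥ y) := hJ.adj d y
  have hjdd : Cfsg.sympForm m F (j *ᵥ d) d = - Qj j d := hJ.adj d d
  have hjdjd : Cfsg.sympForm m F (j *ᵥ d) (j *ᵥ d) = 0 := Cfsg.Agent.Lib.helper6.sympForm_self m _
  have hQ : Cfsg.sympForm m F d (j *ᵥ d) = Qj j d := rfl
  rw [e1 x, e1 y]
  simp only [Cfsg.Agent.Lib.helper6.sympForm_sub_left, Cfsg.Agent.Lib.helper6.sympForm_sub_right,
    Cfsg.Agent.Lib.helper6.sympForm_smul_left, Cfsg.Agent.Lib.helper6.sympForm_smul_right,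
    Cfsg.Agent.Lib.helper6.sympForm_add_left, Cfsg.Agent.Lib.helper6.sympForm_add_right,
    hdd, hxd, hxjd, hjdy, hjdd, hjdjd, hQ]
  field_simp
  ring

/-- the reflection commutes with `j` -/
theorem spurefl_comm (hJ : JS j c0) (d x : Fin m ⊕ Fin m → F) :
    reflAct j d (j *ᵥ x) = j *ᵥ (reflAct j d x) := by
  unfold reflAct
  rw [spurefl_jj hJ, Cfsg.Agent.Lib.helper6.sympForm_smul_right, Matrix.mulVec_sub, Matrix.mulVec_smul,
    Matrix.mulVec_add, Matrix.mulVec_smul, Matrix.mulVec_smul, spurefl_jj hJ]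
  module

/-- REFL [M] : the unitary reflection `R_d` (an involution: its matrix squares to 1; it preserves `f`; it commutes with `j`). -/
theorem refl_ex (hJ : JS j c0) (d : Fin m ⊕ Fin m → F) (hd : Qj j d ≠ 0) :
    ∃ g : Matrix.GeneralLinearGroup (Fin m ⊕ Fin m) F, InC j g ∧
      ∀ x, (g : Matrix (Fin m ⊕ Fin m) (Fin m ⊕ Fin m) F) *ᵥ x = reflAct j d x := by
  have hAA : LinearMap.toMatrix' (spureflLin j d) * LinearMap.toMatrix' (spureflLin j d) = 1 := by
    rw [← LinearMap.toMatrix'_comp]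
    have : (spureflLin j d).comp (spureflLin j d) = LinearMap.id := by
      apply LinearMap.ext
      intro x
      exact spurefl_invol hJ d hd x
    rw [this, LinearMap.toMatrix'_id]
  let g : Matrix.GeneralLinearGroup (Fin m ⊕ Fin m) F :=
    ⟨LinearMap.toMatrix' (spureflLin j d), LinearMap.toMatrix' (spureflLin j d), hAA, hAA⟩
  have hg : ∀ x, (g : Matrix (Fin m ⊕ Fin m) (Fin m ⊕ Fin m) F) *ᵥ x = reflAct j d x := by
    intro x
    show LinearMap.toMatrix' (spureflLin j d) *ᵥ x = reflAct j d x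
    rw [LinearMap.toMatrix'_mulVec]
    rfl
  refine ⟨g, ⟨?_, ?_⟩, hg⟩
  · rw [mem_spGL_iff]
    intro u v
    rw [hg u, hg v]
    exact spurefl_iso hJ d hd u v
  · apply Matrix.ext_iff_mulVec.mpr
    intro x
    rw [← Matrix.mulVec_mulVec, ← Matrix.mulVec_mulVec, hg, hg]
    exact spurefl_comm hJ d x

/-- REFL [S] : `f (w, R_d w) = 0` for ALL `w` (`B` symmetric, `f` alternating). -/
theorem refl_perp (hJ : JS j c0) (d w : Fin m ⊕ Fin m → F) :
    Cfsg.sympForm m F w (reflAct j d w) = 0 := by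
  unfold reflAct
  rw [Cfsg.Agent.Lib.helper6.sympForm_sub_right, Cfsg.Agent.Lib.helper6.sympForm_smul_right,
    Cfsg.Agent.Lib.helper6.sympForm_add_right, Cfsg.Agent.Lib.helper6.sympForm_smul_right,
    Cfsg.Agent.Lib.helper6.sympForm_smul_right, Cfsg.Agent.Lib.helper6.sympForm_self,
    spurefl_B_symm hJ w d, Cfsg.Agent.Lib.helper6.sympForm_swap m w d]
  ring

/-- REFL [S] : `R_d` fixes `d^⊥h`. -/
theorem refl_fix (hJ : JS j c0) (d x : Fin m ⊕ Fin m → F) (h : HOj j d x) : reflAct j d x = x := by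
  unfold reflAct
  rw [h.1, h.2]
  simp

/-- REFL [S] : `R_{x-w}` maps `x` to `w` when `Qj x = Qj w ≠ 0` and `x ⊥_h w` (then `Qj (x - w) = 2 Qj x`). -/
theorem refl_swap (hJ : JS j c0) (x w : Fin m ⊕ Fin m → F) (hx : Qj j x ≠ 0) (hxw : Qj j x = Qj j w)
    (h : HOj j x w) : Qj j (x - w) ≠ 0 ∧ reflAct j (x - w) x = w := by
  have h2 := hJ.two
  have hwx : Cfsg.sympForm m F w (j *ᵥ x) = 0 := by
    rw [spurefl_B_symm hJ w x]
    exact h.2
  have hwx' : Cfsg.sympForm m F w x = 0 := by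
    rw [Cfsg.Agent.Lib.helper6.sympForm_swap, h.1, neg_zero]
  have hQd : Qj j (x - w) = 2 * Qj j x := by
    have e : Qj j (x - w) = Qj j x - Cfsg.sympForm m F x (j *ᵥ w) - Cfsg.sympForm m F w (j *ᵥ x) + Qj j w := by
      unfold Qj
      rw [Matrix.mulVec_sub, Cfsg.Agent.Lib.helper6.sympForm_sub_left, Cfsg.Agent.Lib.helper6.sympForm_sub_right,
        Cfsg.Agent.Lib.helper6.sympForm_sub_right]
      ring
    rw [e, h.2, hwx, ← hxw]
    ring
  have hne : Qj j (x - w) ≠ 0 := by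
    rw [hQd]
    exact mul_ne_zero h2 hx
  refine ⟨hne, ?_⟩
  have e1 : Cfsg.sympForm m F (x - w) (j *ᵥ x) = Qj j x := by
    rw [Cfsg.Agent.Lib.helper6.sympForm_sub_left, hwx, sub_zero]
    rfl
  have e2 : Cfsg.sympForm m F (x - w) x = 0 := by
    rw [Cfsg.Agent.Lib.helper6.sympForm_sub_left, Cfsg.Agent.Lib.helper6.sympForm_self, hwx', sub_zero]
  unfold reflAct
  rw [e1, e2, hQd]
  have k : (2 / (2 * Qj j x)) * Qj j x = 1 := by
    field_simp
  rw [zero_smul, add_zero, smul_smul, k, one_smul]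
  abel

end Cfsg.Agent.Lib.Lead.SPU
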