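import Mathlib
import Cfsg.Prelude.Def_GeometricClasses
import Cfsg.Agent.Lib.Lead.SPU.Defs
import Cfsg.Agent.Lib.Helper28.OsCW
import Cfsg.Agent.Lib.helper6.SPXFSADIM
import Cfsg.Agent.Lib.Helper11.SPUREFL

set_option autoImplicit false
set_option linter.unusedVariables false
set_option linter.unusedSectionVars false

/-!
# Project SPU (S5665, leader lead), row UNIV3 : `univ3`

`A = {a, ja, b, jb, c', jc'}^⊥` has dimension `≥ 2m - 6 ≥ 8`, is `j`-stable.  `c = 0` : Chevalley-Warning on three independent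
vectors of `A`.  `c ≠ 0` : `A` is not totally isotropic (`dim A > m`), hence `Qj t0 ≠ 0` for some `t0 ∈ A`, and the norm of `K` is onto
(Chevalley-Warning again).
-/

namespace Cfsg.Agent.Lib.Lead.SPU

open Matrix Cfsg.Agent.S5646 Cfsg.Agent.S5647 Cfsg.Agent.Lib.Helper28.SpPair

variable {m : ℕ} {F : Type*} [Field F] {j j1 : Matrix (Fin m ⊕ Fin m) (Fin m ⊕ Fin m) F} {c0 : F}
  {M : Subgroup (Matrix.GeneralLinearGroup (Fin m ⊕ Fin m) F)}

/-- (= `js_norm_surj`) the norm form `x² - c0 y²` represents every element (Chevalley-Warning) -/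
theorem spuuniv3_norm_surj [Fintype F] (hJ : JS j c0) (c : F) : ∃ a b : F, a * a - c0 * b * b = c := by
  obtain ⟨x, y, z, hne, h0⟩ := Cfsg.Agent.Lib.Helper28.Os.cw_ternary (1 : F) (-c0) (-c) 0 0 0
  have hz : z ≠ 0 := by
    intro hz
    rw [hz] at h0
    have h1 : x * x = c0 * y * y := by linear_combination h0
    by_cases hy : y = 0
    · rw [hy] at h1
      have hx : x = 0 := by
        have : x * x = 0 := by rw [h1]; ring
        exact mul_self_eq_zero.mp this
      exact hne ⟨hx, hy, hz⟩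
    · apply hJ.nsq (x / y)
      field_simp
      linear_combination h1
  refine ⟨x / z, y / z, ?_⟩
  field_simp
  linear_combination h0

/-- (= `Qj_add`) -/
theorem spuuniv3_Qj_add (hJ : JS j c0) (x y : Fin m ⊕ Fin m → F) :
    Qj j (x + y) = Qj j x + Qj j y + 2 * Cfsg.sympForm m F x (j *ᵥ y) := by
  unfold Qj
  rw [Matrix.mulVec_add, Cfsg.Agent.Lib.helper6.sympForm_add_left, Cfsg.Agent.Lib.helper6.sympForm_add_right,
    Cfsg.Agent.Lib.helper6.sympForm_add_right, spurefl_B_symm hJ y x]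
  ring

/-- (= `Qj_smul`) -/
theorem spuuniv3_Qj_smul (x : Fin m ⊕ Fin m → F) (a : F) : Qj j (a • x) = a * a * Qj j x := by
  unfold Qj
  rw [Matrix.mulVec_smul, Cfsg.Agent.Lib.helper6.sympForm_smul_left, Cfsg.Agent.Lib.helper6.sympForm_smul_right]
  ring

/-- (= `Qj_K`) -/
theorem spuuniv3_Qj_K (hJ : JS j c0) (x : Fin m ⊕ Fin m → F) (a b : F) :
    Qj j (a • x + b • (j *ᵥ x)) = (a * a - c0 * b * b) * Qj j x := by
  rw [spuuniv3_Qj_add hJ, spuuniv3_Qj_smul, spuuniv3_Qj_smul, Matrix.mulVec_smul, spurefl_jj hJ,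
    Cfsg.Agent.Lib.helper6.sympForm_smul_left, Cfsg.Agent.Lib.helper6.sympForm_smul_right,
    Cfsg.Agent.Lib.helper6.sympForm_smul_right, Cfsg.Agent.Lib.helper6.sympForm_self]
  have : Qj j (j *ᵥ x) = - (c0 * Qj j x) := by
    unfold Qj
    rw [spurefl_jj hJ, Cfsg.Agent.Lib.helper6.sympForm_smul_right, hJ.adj x x]
    ring
  rw [this]
  ring

/-- the quadratic form `Qj` on a combination of three vectors -/
theorem spuuniv3_Q3 (hJ : JS j c0) (p₁ p₂ p₃ : Fin m ⊕ Fin m → F) (x₁ x₂ x₃ : F) :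
    Qj j (x₁ • p₁ + x₂ • p₂ + x₃ • p₃) =
      Qj j p₁ * x₁ * x₁ + Qj j p₂ * x₂ * x₂ + Qj j p₃ * x₃ * x₃ +
        (2 * Cfsg.sympForm m F p₁ (j *ᵥ p₂)) * x₁ * x₂ + (2 * Cfsg.sympForm m F p₁ (j *ᵥ p₃)) * x₁ * x₃ +
        (2 * Cfsg.sympForm m F p₂ (j *ᵥ p₃)) * x₂ * x₃ := by
  rw [spuuniv3_Qj_add hJ, spuuniv3_Qj_add hJ, spuuniv3_Qj_smul, spuuniv3_Qj_smul, spuuniv3_Qj_smul,
    Matrix.mulVec_smul, Matrix.mulVec_smul, Cfsg.Agent.Lib.helper6.sympForm_add_left,
    Cfsg.Agent.Lib.helper6.sympForm_smul_left, Cfsg.Agent.Lib.helper6.sympForm_smul_left,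
    Cfsg.Agent.Lib.helper6.sympForm_smul_left, Cfsg.Agent.Lib.helper6.sympForm_smul_right,
    Cfsg.Agent.Lib.helper6.sympForm_smul_right, Cfsg.Agent.Lib.helper6.sympForm_smul_right]
  ring

/-- a totally isotropic subspace has dimension at most `m` -/
theorem spuuniv3_iso_le [Fintype F] (W : Submodule F (Fin m ⊕ Fin m → F))
    (h : ∀ x ∈ W, ∀ y ∈ W, Cfsg.sympForm m F x y = 0) : Module.finrank F W ≤ m := by
  have hfr := LinearMap.BilinForm.finrank_orthogonal (Cfsg.Agent.Lib.helper6.SPX.spxfsadim_nondeg (F := F) m) W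
  have hle : W ≤ LinearMap.BilinForm.orthogonal (Cfsg.Agent.Lib.helper6.SB.sB m F) W := by
    intro x hx
    rw [LinearMap.BilinForm.mem_orthogonal_iff]
    intro y hy
    show Cfsg.Agent.Lib.helper6.SB.sB m F y x = 0
    rw [Cfsg.Agent.Lib.helper6.SB.sB_apply]
    exact h y hy x hx
  have h1 := Submodule.finrank_mono hle
  have hV : Module.finrank F (Fin m ⊕ Fin m → F) = 2 * m := by
    rw [Module.finrank_fintype_fun_eq_card]
    simp only [Fintype.card_sum, Fintype.card_fin]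
    omega
  have h2 := Submodule.finrank_le W
  rw [hV] at hfr h2
  omega

/-- the common `f`-orthogonal of six vectors has codimension at most 6 -/
theorem spuuniv3_perp6 (w : Fin 6 → (Fin m ⊕ Fin m → F)) :
    ∃ A : Submodule F (Fin m ⊕ Fin m → F), (∀ x, x ∈ A ↔ ∀ i, Cfsg.sympForm m F x (w i) = 0) ∧
      2 * m ≤ Module.finrank F A + 6 := by
  let L : (Fin m ⊕ Fin m → F) →ₗ[F] (Fin 6 → F) :=
    LinearMap.pi (fun i => (Cfsg.Agent.Lib.helper6.SB.sB m F).flip (w i))
  have hL : ∀ x i, L x i = Cfsg.sympForm m F x (w i) := by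
    intro x i
    show Cfsg.Agent.Lib.helper6.SB.sB m F x (w i) = _
    rw [Cfsg.Agent.Lib.helper6.SB.sB_apply]
  refine ⟨LinearMap.ker L, ?_, ?_⟩
  · intro x
    rw [LinearMap.mem_ker]
    constructor
    · intro h i
      rw [← hL, h]
      rfl
    · intro h
      funext i
      rw [hL, h i]
      rfl
  · have h1 := LinearMap.finrank_range_add_finrank_ker L
    have hV : Module.finrank F (Fin m ⊕ Fin m → F) = 2 * m := by
      rw [Module.finrank_fintype_fun_eq_card]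
      simp only [Fintype.card_sum, Fintype.card_fin]
      omega
    have h2 : Module.finrank F (LinearMap.range L) ≤ 6 := by
      have := Submodule.finrank_le (LinearMap.range L)
      rwa [Module.finrank_fin_fun] at this
    rw [hV] at h1
    omega

/-- UNIV3 [L] : `{a, b, c'}^⊥h` represents every `c` by a non-zero vector. -/
theorem univ3 [Fintype F] (hm : 7 ≤ m) (hJ : JS j c0) (a b c' : Fin m ⊕ Fin m → F) (c : F) :
    ∃ t : Fin m ⊕ Fin m → F, t ≠ 0 ∧ HOj j t a ∧ HOj j t b ∧ HOj j t c' ∧ Qj j t = c := by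
  classical
  have h2 := hJ.two
  have hc0 : c0 ≠ 0 := by
    intro h
    apply hJ.nsq 0
    rw [h, mul_zero]
  obtain ⟨A, hA, hAdim⟩ := spuuniv3_perp6 (m := m) (F := F) ![a, j *ᵥ a, b, j *ᵥ b, c', j *ᵥ c']
  have hHO : ∀ t ∈ A, HOj j t a ∧ HOj j t b ∧ HOj j t c' := by
    intro t ht
    have h := (hA t).mp ht
    exact ⟨⟨h 0, h 1⟩, ⟨h 2, h 3⟩, ⟨h 4, h 5⟩⟩
  -- `A` is `j`-stable
  have hjA : ∀ t ∈ A, j *ᵥ t ∈ A := by
    intro t ht
    have h := (hA t).mp ht
    rw [hA]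
    intro i
    fin_cases i
    · show Cfsg.sympForm m F (j *ᵥ t) a = 0
      rw [hJ.adj]
      exact neg_eq_zero.mpr (h 1)
    · show Cfsg.sympForm m F (j *ᵥ t) (j *ᵥ a) = 0
      rw [hJ.adj, spurefl_jj hJ, Cfsg.Agent.Lib.helper6.sympForm_smul_right]
      have := h 0
      simp only [Matrix.cons_val_zero] at this
      rw [this]
      ring
    · show Cfsg.sympForm m F (j *ᵥ t) b = 0
      rw [hJ.adj]
      exact neg_eq_zero.mpr (h 3)
    · show Cfsg.sympForm m F (j *ᵥ t) (j *ᵥ b) = 0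
      rw [hJ.adj, spurefl_jj hJ, Cfsg.Agent.Lib.helper6.sympForm_smul_right]
      have : Cfsg.sympForm m F t b = 0 := h 2
      rw [this]
      ring
    · show Cfsg.sympForm m F (j *ᵥ t) c' = 0
      rw [hJ.adj]
      exact neg_eq_zero.mpr (h 5)
    · show Cfsg.sympForm m F (j *ᵥ t) (j *ᵥ c') = 0
      rw [hJ.adj, spurefl_jj hJ, Cfsg.Agent.Lib.helper6.sympForm_smul_right]
      have : Cfsg.sympForm m F t c' = 0 := h 4
      rw [this]
      ring
  by_cases hc : c = 0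
  · -- Chevalley-Warning on three independent vectors of `A`
    have h3 : 3 ≤ Module.finrank F A := by omega
    let e := Module.finBasis F A
    have hinj : Function.Injective (fun i : Fin 3 => (Fin.castLE h3 i : Fin (Module.finrank F A))) :=
      fun i k h => Fin.castLE_injective h3 h
    have hli : LinearIndependent F (fun i : Fin 3 => ((e (Fin.castLE h3 i) : A) : Fin m ⊕ Fin m → F)) := by
      have h1 : LinearIndependent F (fun i => ((e i : A) : Fin m ⊕ Fin m → F)) :=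
        e.linearIndependent.map' A.subtype (Submodule.ker_subtype _)
      exact h1.comp _ hinj
    obtain ⟨x₁, x₂, x₃, hne, hzero⟩ := Cfsg.Agent.Lib.Helper28.Os.cw_ternary
      (Qj j ((e (Fin.castLE h3 0) : A) : Fin m ⊕ Fin m → F))
      (Qj j ((e (Fin.castLE h3 1) : A) : Fin m ⊕ Fin m → F))
      (Qj j ((e (Fin.castLE h3 2) : A) : Fin m ⊕ Fin m → F))
      (2 * Cfsg.sympForm m F ((e (Fin.castLE h3 0) : A) : Fin m ⊕ Fin m → F)
        (j *ᵥ ((e (Fin.castLE h3 1) : A) : Fin m ⊕ Fin m → F)))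
      (2 * Cfsg.sympForm m F ((e (Fin.castLE h3 0) : A) : Fin m ⊕ Fin m → F)
        (j *ᵥ ((e (Fin.castLE h3 2) : A) : Fin m ⊕ Fin m → F)))
      (2 * Cfsg.sympForm m F ((e (Fin.castLE h3 1) : A) : Fin m ⊕ Fin m → F)
        (j *ᵥ ((e (Fin.castLE h3 2) : A) : Fin m ⊕ Fin m → F)))
    have htA : x₁ • ((e (Fin.castLE h3 0) : A) : Fin m ⊕ Fin m → F) +
        x₂ • ((e (Fin.castLE h3 1) : A) : Fin m ⊕ Fin m → F) +
        x₃ • ((e (Fin.castLE h3 2) : A) : Fin m ⊕ Fin m → F) ∈ A :=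
      A.add_mem (A.add_mem (A.smul_mem _ (e _).2) (A.smul_mem _ (e _).2)) (A.smul_mem _ (e _).2)
    obtain ⟨k1, k2, k3⟩ := hHO _ htA
    refine ⟨_, ?_, k1, k2, k3, ?_⟩
    · intro h0
      apply hne
      have h3' := Fintype.linearIndependent_iff.mp hli ![x₁, x₂, x₃] (by
        rw [Fin.sum_univ_three]
        exact h0)
      exact ⟨h3' 0, h3' 1, h3' 2⟩
    · rw [spuuniv3_Q3 hJ, hc]
      exact hzero
  · -- some `t0 ∈ A` has `Qj t0 ≠ 0`
    have hex : ∃ t0 ∈ A, Qj j t0 ≠ 0 := by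
      by_contra hcon
      push Not at hcon
      have hB : ∀ x ∈ A, ∀ y ∈ A, Cfsg.sympForm m F x (j *ᵥ y) = 0 := by
        intro x hx y hy
        have h1 := spuuniv3_Qj_add hJ x y
        rw [hcon x hx, hcon y hy, hcon (x + y) (A.add_mem hx hy)] at h1
        have h3 : 2 * Cfsg.sympForm m F x (j *ᵥ y) = 0 := by linear_combination -h1
        rcases mul_eq_zero.mp h3 with h | h
        · exact absurd h h2
        · exact h
      have hiso : ∀ x ∈ A, ∀ y ∈ A, Cfsg.sympForm m F x y = 0 := by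
        intro x hx y hy
        have h1 := hB x hx (j *ᵥ y) (hjA y hy)
        rw [spurefl_jj hJ, Cfsg.Agent.Lib.helper6.sympForm_smul_right] at h1
        rcases mul_eq_zero.mp h1 with h | h
        · exact absurd h hc0
        · exact h
      have := spuuniv3_iso_le A hiso
      omega
    obtain ⟨t0, ht0, hQ0⟩ := hex
    obtain ⟨α, β, hαβ⟩ := spuuniv3_norm_surj hJ (c / Qj j t0)
    have htA : α • t0 + β • (j *ᵥ t0) ∈ A := A.add_mem (A.smul_mem _ ht0) (A.smul_mem _ (hjA t0 ht0))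
    have hQt : Qj j (α • t0 + β • (j *ᵥ t0)) = c := by
      rw [spuuniv3_Qj_K hJ, hαβ]
      field_simp
    obtain ⟨k1, k2, k3⟩ := hHO _ htA
    refine ⟨_, ?_, k1, k2, k3, hQt⟩
    intro h0
    apply hc
    rw [← hQt, h0]
    unfold Qj
    exact Cfsg.Agent.Lib.helper6.sympForm_zero_left m _

end Cfsg.Agent.Lib.Lead.SPU
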