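import Mathlib
import Cfsg.Prelude.Def_GeometricClasses
import Cfsg.Agent.Lib.Helper27.ASC.Defs

/-! Project LX / ASG, pre-landed pieces: the special linear group is contained in no tensor-product subgroup
(class 4) and in no tensor-wreath subgroup (class 7), general dimension.  One transvection does not have the
required shape. -/

set_option autoImplicit false
set_option linter.unusedVariables false
set_option linter.unusedSectionVars false
set_option linter.deprecated false

namespace Cfsg.Agent.Lib.Helper27.ASC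

open Cfsg Cfsg.Geo
open scoped MatrixGroups Matrix

variable {n : ℕ} {F : Type*} [Field F] [Fintype F]

/-- transport: if no element of `S ≤ GL κ F` is the transvection `1 + E_{x₀ y₀}`, the special linear group is not
inside the conjugate by `P` of the reindexed copy of `S`. -/
theorem lxprt_transport {κ : Type} [Fintype κ] [DecidableEq κ] (S : Subgroup (GL κ F)) (x₀ y₀ : κ)
    (hxy : x₀ ≠ y₀)
    (hS : ∀ g ∈ S, (g : Matrix κ κ F) ≠ Matrix.transvection x₀ y₀ (1 : F))
    (e : Fin n ≃ κ) (P : GL (Fin n) F) :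
    ¬ specialLinear (Fin n) F ≤
      ((S.map (glReindex e.symm).toMonoidHom).map (MulAut.conj P).toMonoidHom) := by
  intro hle
  have hdet : (Matrix.transvection x₀ y₀ (1 : F)).det = 1 := Matrix.det_transvection_of_ne x₀ y₀ hxy 1
  let T : GL κ F := Matrix.GeneralLinearGroup.mk'' (Matrix.transvection x₀ y₀ (1 : F))
    (by rw [hdet]; exact isUnit_one)
  have hT : (T : Matrix κ κ F) = Matrix.transvection x₀ y₀ (1 : F) := rfl
  let g : GL (Fin n) F := P * glReindex e.symm T * P⁻¹
  have hg : g ∈ specialLinear (Fin n) F := by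
    show Matrix.GeneralLinearGroup.det g = 1
    have h1 : Matrix.GeneralLinearGroup.det g = Matrix.GeneralLinearGroup.det (glReindex e.symm T) := by
      show Matrix.GeneralLinearGroup.det (P * glReindex e.symm T * P⁻¹) = _
      rw [map_mul, map_mul, map_inv, mul_comm, ← mul_assoc, inv_mul_cancel, one_mul]
    rw [h1]
    apply Units.ext
    rw [Matrix.GeneralLinearGroup.val_det_apply]
    have h2 : ((glReindex e.symm T : GL (Fin n) F) : Matrix (Fin n) (Fin n) F) =
        Matrix.reindexAlgEquiv F F e.symm (T : Matrix κ κ F) := rfl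
    rw [h2, Matrix.det_reindexAlgEquiv, hT, hdet]
    rfl
  obtain ⟨k, hk, hkg⟩ := hle hg
  obtain ⟨s, hs, hsk⟩ := hk
  have h3 : P * k * P⁻¹ = P * glReindex e.symm T * P⁻¹ := hkg
  have h4 : k = glReindex e.symm T := by
    have := mul_right_cancel h3
    exact mul_left_cancel this
  have h5 : glReindex e.symm s = glReindex e.symm T := by
    rw [← h4]; exact hsk
  have h6 : s = T := (glReindex e.symm).injective h5
  exact hS s hs (by rw [h6, hT])

/-- no Kronecker product is the transvection `1 + E_{(0,0),(0,1)}` -/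
theorem lxprt_kron_ne {n₁ n₂ : ℕ} (h1 : 2 ≤ n₁) (h2 : 2 ≤ n₂)
    (g : GL (Fin n₁ × Fin n₂) F) (hg : g ∈ kroneckerSubgroup n₁ n₂ F) :
    (g : Matrix (Fin n₁ × Fin n₂) (Fin n₁ × Fin n₂) F) ≠
      Matrix.transvection ((⟨0, by omega⟩ : Fin n₁), (⟨0, by omega⟩ : Fin n₂))
        ((⟨0, by omega⟩ : Fin n₁), (⟨1, by omega⟩ : Fin n₂)) (1 : F) := by
  intro hgt
  obtain ⟨a, b, hab⟩ := hg
  rw [hab] at hgt
  set i0 : Fin n₁ := ⟨0, by omega⟩ with hi0
  set i1 : Fin n₁ := ⟨1, by omega⟩ with hi1
  set j0 : Fin n₂ := ⟨0, by omega⟩ with hj0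
  set j1 : Fin n₂ := ⟨1, by omega⟩ with hj1
  have hi : i0 ≠ i1 := by
    intro h; have := congrArg Fin.val h; simp [hi0, hi1] at this
  have hj : j0 ≠ j1 := by
    intro h; have := congrArg Fin.val h; simp [hj0, hj1] at this
  have e1 := congrFun (congrFun hgt (i1, j0)) (i1, j0)
  have e2 := congrFun (congrFun hgt (i0, j0)) (i0, j1)
  have e3 := congrFun (congrFun hgt (i1, j0)) (i1, j1)
  simp only [Matrix.kroneckerMap_apply, Matrix.transvection, Matrix.add_apply, Matrix.one_apply,
    Matrix.single_apply] at e1 e2 e3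
  simp [hi, hj, Ne.symm hj, Prod.ext_iff] at e1 e2 e3
  rcases e3 with h | h
  · rw [h] at e1; simp at e1
  · rw [h] at e2; simp at e2

/-- the class-4 statement, general dimension -/
theorem pr_tensor {n₁ n₂ : ℕ} (h1 : 2 ≤ n₁) (h2 : 2 ≤ n₂) (e : Fin n ≃ Fin n₁ × Fin n₂)
    (P : GL (Fin n) F) : ¬ specialLinear (Fin n) F ≤ tensorProductSubgroup n₁ n₂ e P := by
  have hne : ((⟨0, by omega⟩ : Fin n₁), (⟨0, by omega⟩ : Fin n₂)) ≠
      ((⟨0, by omega⟩ : Fin n₁), (⟨1, by omega⟩ : Fin n₂)) := by
    intro h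
    have := congrArg (fun p => (p.2 : ℕ)) h
    simp at this
  exact lxprt_transport (kroneckerSubgroup n₁ n₂ F) _ _ hne (lxprt_kron_ne h1 h2) e P

/-- the shape of the elements of the standard tensor-wreath group: a "twisted pure tensor" -/
def LxprtShape (m t : ℕ) (M : Matrix (Fin t → Fin m) (Fin t → Fin m) F) : Prop :=
  ∃ (σ : Equiv.Perm (Fin t)) (c : Fin t → Matrix (Fin m) (Fin m) F),
    ∀ x y : Fin t → Fin m, M x y = ∏ i, c i (x i) (y (σ i))

theorem lxprt_shape_one (m t : ℕ) : LxprtShape (F := F) m t 1 := by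
  refine ⟨1, fun _ => 1, fun x y => ?_⟩
  simp only [Matrix.one_apply, Equiv.Perm.coe_one, id_eq]
  by_cases h : x = y
  · subst h; simp
  · rw [if_neg h]
    obtain ⟨i, hi⟩ := Function.ne_iff.mp h
    exact (Finset.prod_eq_zero (Finset.mem_univ i) (by simp [hi])).symm

theorem lxprt_shape_mul (m t : ℕ) (M N : Matrix (Fin t → Fin m) (Fin t → Fin m) F)
    (hM : LxprtShape m t M) (hN : LxprtShape m t N) : LxprtShape m t (M * N) := by
  obtain ⟨σ, a, ha⟩ := hM
  obtain ⟨τ, b, hb⟩ := hN
  refine ⟨τ * σ, fun i => a i * b (σ i), fun x y => ?_⟩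
  rw [Matrix.mul_apply]
  have h1 : ∀ z : Fin t → Fin m, M x z * N z y =
      ∏ i, (a (σ.symm i) (x (σ.symm i)) (z i) * b i (z i) (y (τ i))) := by
    intro z
    rw [ha, hb, Finset.prod_mul_distrib]
    congr 1
    rw [← Equiv.prod_comp σ (fun i => a (σ.symm i) (x (σ.symm i)) (z i))]
    simp
  rw [Finset.sum_congr rfl (fun z _ => h1 z)]
  have h2 := (Finset.prod_univ_sum (fun _ : Fin t => (Finset.univ : Finset (Fin m)))
    (fun i k => a (σ.symm i) (x (σ.symm i)) k * b i k (y (τ i)))).symm
  rw [Fintype.piFinset_univ] at h2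
  rw [h2, ← Equiv.prod_comp σ]
  refine Finset.prod_congr rfl fun i _ => ?_
  simp [Matrix.mul_apply]

theorem lxprt_shape_pow (m t : ℕ) (M : Matrix (Fin t → Fin m) (Fin t → Fin m) F)
    (hM : LxprtShape m t M) (k : ℕ) : LxprtShape m t (M ^ k) := by
  induction k with
  | zero => rw [pow_zero]; exact lxprt_shape_one m t
  | succ k ih => rw [pow_succ]; exact lxprt_shape_mul m t _ _ ih hM

/-- every element of the standard tensor-wreath group has the twisted pure tensor shape -/
theorem lxprt_shape_of_mem (m t : ℕ) (g : GL (Fin t → Fin m) F) (hg : g ∈ tensorWreathStandard m t F) :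
    LxprtShape m t (g : Matrix (Fin t → Fin m) (Fin t → Fin m) F) := by
  classical
  unfold tensorWreathStandard at hg
  refine Subgroup.closure_induction (p := fun (g : GL (Fin t → Fin m) F) _ =>
      LxprtShape m t (g : Matrix (Fin t → Fin m) (Fin t → Fin m) F))
    ?_ ?_ ?_ ?_ hg
  · rintro x (⟨gs, hgs⟩ | ⟨σ, hσ⟩)
    · exact ⟨1, fun i => (gs i : Matrix (Fin m) (Fin m) F), fun x y => by rw [hgs]; simp⟩
    · refine ⟨σ⁻¹, fun _ => 1, fun a b => ?_⟩
      rw [hσ]
      simp only [Matrix.one_apply]
      by_cases h : b = a ∘ σ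
      · rw [if_pos h]
        subst h
        simp
      · rw [if_neg h]
        have : ∃ i, a i ≠ b (σ⁻¹ i) := by
          by_contra hcon
          push Not at hcon
          apply h
          funext i
          have := hcon (σ i)
          simp at this
          simp [this]
        obtain ⟨i, hi⟩ := this
        exact (Finset.prod_eq_zero (Finset.mem_univ i) (by simpa using hi)).symm
  · exact lxprt_shape_one m t
  · intro x y _ _ hx hy
    rw [Units.val_mul]
    exact lxprt_shape_mul m t _ _ hx hy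
  · intro x _ hx
    have hfin : IsOfFinOrder x := isOfFinOrder_of_finite x
    have hpos : 0 < orderOf x := hfin.orderOf_pos
    have hinv : x⁻¹ = x ^ (orderOf x - 1) := by
      rw [eq_comm, ← mul_eq_one_iff_eq_inv, ← pow_succ, Nat.sub_add_cancel hpos, pow_orderOf_eq_one]
    rw [hinv, Units.val_pow_eq_pow_val]
    exact lxprt_shape_pow m t _ hx _

/-- a transvection between two constant index functions is not a twisted pure tensor -/
theorem lxprt_wreath_ne {m t : ℕ} (hm : 2 ≤ m) (ht : 2 ≤ t)
    (g : GL (Fin t → Fin m) F) (hg : g ∈ tensorWreathStandard m t F) :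
    (g : Matrix (Fin t → Fin m) (Fin t → Fin m) F) ≠
      Matrix.transvection (fun _ : Fin t => (⟨0, by omega⟩ : Fin m))
        (fun _ : Fin t => (⟨1, by omega⟩ : Fin m)) (1 : F) := by
  classical
  intro hgt
  obtain ⟨σ, c, hc⟩ := lxprt_shape_of_mem m t g hg
  rw [hgt] at hc
  set a : Fin m := ⟨0, by omega⟩ with ha
  set b : Fin m := ⟨1, by omega⟩ with hb
  set i₁ : Fin t := ⟨0, by omega⟩ with hi₁
  set j₁ : Fin t := ⟨1, by omega⟩ with hj₁
  have hab : a ≠ b := by
    intro h; have := congrArg Fin.val h; simp [ha, hb] at this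
  have hij : i₁ ≠ j₁ := by
    intro h; have := congrArg Fin.val h; simp [hi₁, hj₁] at this
  have hxy : (fun _ : Fin t => a) ≠ (fun _ : Fin t => b) := fun h => hab (congrFun h i₁)
  -- the three evaluations
  have e1 := hc (fun _ => a) (fun _ => b)
  have e2 := hc (fun _ => b) (fun _ => b)
  have e3 := hc (Function.update (fun _ => b) i₁ a) (fun _ => b)
  have hx1 : Function.update (fun _ : Fin t => b) i₁ a ≠ (fun _ : Fin t => b) := by
    intro h
    have := congrFun h i₁
    simp at this
    exact hab this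
  have hx2 : Function.update (fun _ : Fin t => b) i₁ a ≠ (fun _ : Fin t => a) := by
    intro h
    have := congrFun h j₁
    rw [Function.update_of_ne (Ne.symm hij)] at this
    exact hab this.symm
  simp only [Matrix.transvection, Matrix.add_apply, Matrix.one_apply, Matrix.single_apply] at e1 e2 e3
  simp only [hxy, if_false, and_self, if_true, zero_add] at e1
  simp only [hxy, if_true, false_and, if_false, add_zero] at e2
  simp only [hx1, Ne.symm hx2, if_false, false_and, add_zero] at e3
  have f1 : ∀ i, c i a b ≠ 0 := by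
    intro i
    have : (∏ i, c i a b) ≠ 0 := by rw [← e1]; exact one_ne_zero
    exact (Finset.prod_ne_zero_iff.mp this) i (Finset.mem_univ i)
  have f2 : ∀ i, c i b b ≠ 0 := by
    intro i
    have : (∏ i, c i b b) ≠ 0 := by rw [← e2]; exact one_ne_zero
    exact (Finset.prod_ne_zero_iff.mp this) i (Finset.mem_univ i)
  have f3 : (∏ i, c i (Function.update (fun _ : Fin t => b) i₁ a i) b) ≠ 0 := by
    apply Finset.prod_ne_zero_iff.mpr
    intro i _
    by_cases hi : i = i₁
    · subst hi; simp only [Function.update_self]; exact f1 _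
    · rw [Function.update_of_ne hi]; exact f2 i
  exact f3 e3.symm

/-- the class-7 statement, general dimension -/
theorem pr_wreath {m t : ℕ} (hm : 2 ≤ m) (ht : 2 ≤ t) (e : Fin n ≃ (Fin t → Fin m))
    (P : GL (Fin n) F) : ¬ specialLinear (Fin n) F ≤ tensorWreathSubgroup m t e P := by
  have hne : (fun _ : Fin t => (⟨0, by omega⟩ : Fin m)) ≠ (fun _ : Fin t => (⟨1, by omega⟩ : Fin m)) := by
    intro h
    have := congrArg (fun p => ((p ⟨0, by omega⟩ : Fin m) : ℕ)) h
    simp at this
  exact lxprt_transport (tensorWreathStandard m t F) _ _ hne (lxprt_wreath_ne hm ht) e P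

end Cfsg.Agent.Lib.Helper27.ASC
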