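import Mathlib
import Cfsg.Agent.Lib.Lead.STB.Defs
import Cfsg.Agent.Lib.Lead.STB.Defs3
import Cfsg.Agent.Lib.Helper1.STBX1
import Cfsg.Agent.Lib.Helper20.STBH1
import Cfsg.Agent.Lib.Helper20.STBH2
import Cfsg.Agent.Lib.Helper21.STBB3

/-!
# Project STB (lead; family of S2094), rows A3 (`SysB.Lg_eq_bot`) and A4 (`SysB.Phat_decomp_one`), verbatim vs `Lead/STB/Skel2.lean.txt`.  Writer: helper11.
Rank one: every signed index is `o` or `ng o`, so there are no long root elements; `Pg o = ⟨xs o t⟩`, `Hg o = ⟨hs o t⟩`.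
-/

set_option autoImplicit false

namespace Cfsg.Agent.Lib.Lead.STB

open Cfsg.Agent.Lib.helper15.St2 Cfsg.Agent.Lib.helper3.STC Cfsg.Agent.Lib.Lead.STD

universe v w

namespace SysB

variable {K : Type*} [Field K] {ι : Type*} [DecidableEq ι] {G : Type*} [Group G] (S : SysB K ι G)

section A
variable (o : ι ⊕ ι)

omit [DecidableEq ι] in
/-- rank one: every signed index is `o` or `ng o` -/
theorem stba3_all (hι : ∀ i : ι, i = ab o) (a : ι ⊕ ι) : a = o ∨ a = ng o := by
  rcases a with i | i <;> rcases o with j | j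
  · left; rw [hι i]; rfl
  · right; rw [hι i]; rfl
  · right; rw [hι i]; rfl
  · left; rw [hι i]; rfl

omit [DecidableEq ι] in
/-- rank one: there are no long roots -/
theorem stba3_no_long (hι : ∀ i : ι, i = ab o) {a b : ι ⊕ ι} (hab : a ≠ b) (hab' : a ≠ ng b) : False := by
  rcases stba3_all o hι a with ha | ha <;> rcases stba3_all o hι b with hb | hb
  · exact hab (ha.trans hb.symm)
  · apply hab'
    rw [ha, hb, ng_ng]
  · apply hab'
    rw [ha, hb]
  · exact hab (ha.trans hb.symm)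

omit [DecidableEq ι] in
/-- A3 [S-M]  rank one: `Lg o` has no generators (`a ≠ o`, `a ≠ ng o` is impossible: `ab_eq_iff` of STC). -/
theorem Lg_eq_bot (hι : ∀ i : ι, i = ab o) : S.Lg o = ⊥ := by
  unfold Lg XQ
  rw [Subgroup.closure_eq_bot_iff]
  rintro g (⟨a, b, t, hab, hab', -, -⟩ | ⟨a, t, ⟨h1, h2⟩, -⟩)
  · exact (stba3_no_long o hι hab hab').elim
  · rcases stba3_all o hι a with ha | ha
    · exact (h1 ha).elim
    · exact (h2 ha).elim

/-- A4 [M]  **the normal form, rank one**: `Pg o` is generated by the `xs o t` (there are no long root elements: `a ≠ b`, `a ≠ ng b` is impossible), `Hg o` by the `hs o t`; `hs o t * (a * l * hs o c) = cj (hs o t) a * l' * hs o (t * c)` (H2 `isMon_hs`, N3, H1 `hs_mul`). -/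
theorem Phat_decomp_one [Finite K] (hι : ∀ i : ι, i = ab o) : ∀ p ∈ S.Phat o, p ∈ S.ALT o := by
  have h1 : (1 : G) ∈ S.ALT o :=
    ⟨1, one_mem _, 1, one_mem _, 1, one_ne_zero, by rw [S.hs_one, mul_one, mul_one]⟩
  have hA : ∀ s ∈ S.Ag o, ∀ g ∈ S.ALT o, s * g ∈ S.ALT o := by
    rintro s hs g ⟨a, ha, l, hl, c, hc, rfl⟩
    exact ⟨s * a, mul_mem hs ha, l, hl, c, hc, by group⟩
  have hH : ∀ t : K, t ≠ 0 → ∀ g ∈ S.ALT o, S.hs o t * g ∈ S.ALT o := by
    rintro t ht g ⟨a, ha, l, hl, c, hc, rfl⟩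
    have hl1 : l = 1 := by
      rw [S.Lg_eq_bot o hι] at hl
      exact Subgroup.mem_bot.1 hl
    subst hl1
    refine ⟨cj (S.hs o t) a, ?_, 1, one_mem _, t * c, mul_ne_zero ht hc, ?_⟩
    · exact SysB.IsMon.cj_mem_XQ S (S.isMon_hs o t ht) (Q := fun a _ => a = o) (Q' := fun a _ => a = o) (Qs := fun a => a = o)
        (Qs' := fun a => a = o) (fun k l _ _ h => h) (fun k h => h) a ha
    · rw [← S.hs_mul o t c ht hc]
      unfold cj
      group
  have hxs : ∀ t : K, S.xs o t ∈ S.Ag o := fun t => S.xs_mem_XQ (Qs := fun a => a = o) rfl t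
  intro p hp
  have hp' : p ∈ Subgroup.closure
      (({g | ∃ a b t, a ≠ b ∧ a ≠ ng b ∧ (b ≠ o ∧ a ≠ ng o) ∧ g = S.x a b t} ∪ {g | ∃ a t, a ≠ ng o ∧ g = S.xs a t}) ∪
        ({g | ∃ b t, b ≠ o ∧ b ≠ ng o ∧ t ≠ 0 ∧ g = S.h o b t} ∪ {g | ∃ t, t ≠ 0 ∧ g = S.hs o t}) : Set G) := by
    rw [Subgroup.closure_union]
    exact hp
  clear hp
  induction hp' using Subgroup.closure_induction_left with
  | one => exact h1
  | mul_left x hx y _ ih =>
    rcases hx with (⟨a, b, t, hab, hab', -, -⟩ | ⟨a, t, ha, rfl⟩) | (⟨b, t, hb, hb', -, -⟩ | ⟨t, ht, rfl⟩)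
    · exact (stba3_no_long o hι hab hab').elim
    · rcases stba3_all o hι a with ha' | ha'
      · subst ha'
        exact hA _ (hxs t) y ih
      · exact (ha ha').elim
    · rcases stba3_all o hι b with hb1 | hb1
      · exact (hb hb1).elim
      · exact (hb' hb1).elim
    · exact hH t ht y ih
  | inv_mul_cancel x hx y _ ih =>
    rcases hx with (⟨a, b, t, hab, hab', -, -⟩ | ⟨a, t, ha, rfl⟩) | (⟨b, t, hb, hb', -, -⟩ | ⟨t, ht, rfl⟩)
    · exact (stba3_no_long o hι hab hab').elim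
    · rcases stba3_all o hι a with ha' | ha'
      · subst ha'
        exact hA _ (inv_mem (hxs t)) y ih
      · exact (ha ha').elim
    · rcases stba3_all o hι b with hb1 | hb1
      · exact (hb hb1).elim
      · exact (hb' hb1).elim
    · rw [S.hs_inv o t ht]
      exact hH t⁻¹ (inv_ne_zero ht) y ih

end A

end SysB

end Cfsg.Agent.Lib.Lead.STB
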