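import Mathlib
import Cfsg.Agent.Lib.helper23.TD4V.Defs
import Cfsg.Agent.Lib.helper17.P4VG4core
import Cfsg.Agent.Lib.Helper29.P4VG2
import Cfsg.Agent.Lib.Helper18.P4VG3A
import Cfsg.Agent.Lib.Helper18.P4VG3B

/-!
# Project TD4V (designer helper23), row L0 `insig_prod'` (helper11)

Copy of `p4vg4_core` (helper17.P4VG4core) that uses `θ ≠ 0`, `ν ≠ 0` only (not `Good θ ν`), fed with the landed
`conj_companion` (Helper29.P4VG2), `conic_irred` (Helper18.P4VG3A), `conic_split` (Helper18.P4VG3B).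
-/

set_option autoImplicit false

namespace Cfsg.Agent.Lib.helper23.TD4V

open Cfsg.Lie Cfsg.Lie.ChevalleyDatum Matrix
open Cfsg.Agent.Lib.helper8 Cfsg.Agent.Lib.helper8.TD4
open Cfsg.Agent.Lib.helper23.P4V

universe u v

section L

variable {F : Type u} [Field F]

/-- the core of L0 on the statements of P4V G2, G3A, G3B (no finiteness). -/
theorem td4vl0_core (θ ν : F) (hθ : θ ≠ 0) (hν : ν ≠ 0) (B : M2 F) (hB : InSig ν B)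
    (hG2 : ∀ B : M2 F, (¬ ∃ c : F, B = c • (1 : M2 F)) →
      ∃ Q : M2 F, Q.det ≠ 0 ∧ B = Q * !![0, -B.det; 1, B.trace] * Q⁻¹)
    (hG3A : ∀ β : F, (∀ ρ : F, ρ ^ 2 + β * ρ + ν ^ 2 ≠ 0) →
      ∃ x z : F, x ^ 2 + β * x * z + ν ^ 2 * z ^ 2 - θ * x - θ * ν * z + ν = 0)
    (hG3B : ∀ β ρ : F, θ ≠ 0 → ν ≠ 0 → β ≠ 2 * ν → ρ ^ 2 + β * ρ + ν ^ 2 = 0 →
      ∃ x z : F, x ^ 2 + β * x * z + ν ^ 2 * z ^ 2 - θ * x - θ * ν * z + ν = 0) :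
    ∃ A₁ A₂ : M2 F, A₁.trace = θ ∧ A₁.det = ν ∧ A₂.trace = θ ∧ A₂.det = ν ∧ A₁ * A₂ = B := by
  rcases hB with hB | ⟨hdet, htr, hns⟩
  · rw [hB]; exact p4vg4_scalar θ ν
  · obtain ⟨Q, hQ, hBQ⟩ := hG2 B hns
    have hconic : ∃ x z : F,
        x ^ 2 + B.trace * x * z + ν ^ 2 * z ^ 2 - θ * x - θ * ν * z + ν = 0 := by
      by_cases hr : ∃ ρ : F, ρ ^ 2 + B.trace * ρ + ν ^ 2 = 0
      · obtain ⟨ρ, hρ⟩ := hr
        exact hG3B B.trace ρ hθ hν htr hρ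
      · exact hG3A B.trace (fun ρ hρ => hr ⟨ρ, hρ⟩)
    obtain ⟨x, z, hc⟩ := hconic
    obtain ⟨A₁, A₂, h1t, h1d, h2t, h2d, hprod⟩ := p4vg4_companion θ ν B.trace x z hν hc
    have hu : IsUnit Q.det := isUnit_iff_ne_zero.mpr hQ
    refine ⟨Q * A₁ * Q⁻¹, Q * A₂ * Q⁻¹, ?_, ?_, ?_, ?_, ?_⟩
    · rw [(p4vg4_conj Q A₁ hQ).1, h1t]
    · rw [(p4vg4_conj Q A₁ hQ).2, h1d]
    · rw [(p4vg4_conj Q A₂ hQ).1, h2t]
    · rw [(p4vg4_conj Q A₂ hQ).2, h2d]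
    · have : Q * A₁ * Q⁻¹ * (Q * A₂ * Q⁻¹) = Q * (A₁ * A₂) * Q⁻¹ := by
        rw [Matrix.mul_assoc (Q * A₁), ← Matrix.mul_assoc Q⁻¹, ← Matrix.mul_assoc Q⁻¹,
          Matrix.nonsing_inv_mul Q hu, Matrix.one_mul, Matrix.mul_assoc Q A₁, ← Matrix.mul_assoc A₁,
          ← Matrix.mul_assoc Q]
      rw [this, hprod, ← hdet]
      exact hBQ.symm

/-- **L0** [S-M].  The proof of `p4vg4_core` (helper17.P4VG4core) uses of `Good τ ν` only `τ ≠ 0` and `ν ≠ 0`: copy it with `conj_companion`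
(Helper29.P4VG2), `conic_irred` (Helper18.P4VG3A), `conic_split` (Helper18.P4VG3B), `p4vg4_scalar`, `p4vg4_companion`, `p4vg4_conj`. -/
theorem insig_prod' [Fintype F] (θ ν : F) (hθ : θ ≠ 0) (hν : ν ≠ 0) (B : M2 F) (hB : InSig ν B) :
    ∃ A₁ A₂ : M2 F, A₁.trace = θ ∧ A₁.det = ν ∧ A₂.trace = θ ∧ A₂.det = ν ∧ A₁ * A₂ = B :=
  td4vl0_core θ ν hθ hν B hB (fun B hB => conj_companion B hB)
    (fun β hirr => conic_irred θ ν β hirr)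
    (fun β ρ hτ hν hβ hρ => conic_split θ ν β ρ hτ hν hβ hρ)

end L

end Cfsg.Agent.Lib.helper23.TD4V
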