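import Cfsg.Agent.Lib.Helper21.TS.Basic

/-!
# TS / TVCL: closure properties of `TT` (`tt_zero tt_conj tt_smul tt_hyp tt_add3`)
-/

set_option autoImplicit false
set_option linter.unusedSectionVars false
set_option linter.unusedVariables false

namespace Cfsg.Agent.Lib.Helper21.TS

open Matrix
open scoped Kronecker
open Cfsg.Agent.Lib.helper7.TP

variable {ι : Type*} [Fintype ι] [DecidableEq ι] {a b : ℕ} {F : Type*} [Field F]
  {J1 : Matrix (Fin a) (Fin a) F} {J2 : Matrix (Fin b) (Fin b) F}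
  {M : Subgroup (Matrix.GeneralLinearGroup (Fin a × Fin b) F)}

/-- `t_0(c) = 1`. -/
theorem tstvcl_tvm_zero_vec (J : Matrix ι ι F) (c : F) : tvm J 0 c = 1 := by
  rw [Matrix.ext_iff_mulVec]
  intro x
  rw [tvm_mulVec, smul_zero, add_zero, Matrix.one_mulVec]

/-- `t_{λ v}(k) = t_v(λ² k)`. -/
theorem tstvcl_tvm_smul (J : Matrix ι ι F) (v : ι → F) (c k : F) :
    tvm J (c • v) k = tvm J v (c * c * k) := by
  rw [Matrix.ext_iff_mulVec]
  intro x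
  rw [tvm_mulVec, tvm_mulVec, bf_smul_left, smul_smul]
  congr 2
  ring

/-- TVCL [S]. `t_0(c) = 1`. -/
theorem tt_zero : TT J1 J2 M 0 := by
  intro c
  exact ⟨1, M.one_mem, by rw [tstvcl_tvm_zero_vec]; rfl⟩

/-- TVCL [S]. `h t_v(c) h⁻¹ = t_{hv}(c)` (`tvm_conj`). -/
theorem tt_conj (hMS : M ≤ SpV J1 J2) {h : Matrix.GeneralLinearGroup (Fin a × Fin b) F} (hh : h ∈ M)
    {v : Fin a × Fin b → F} (hv : TT J1 J2 M v) :
    TT J1 J2 M ((h : Matrix (Fin a × Fin b) (Fin a × Fin b) F) *ᵥ v) := by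
  intro c
  obtain ⟨g, hgM, hg⟩ := hv c
  refine ⟨h * g * h⁻¹, M.mul_mem (M.mul_mem hh hgM) (M.inv_mem hh), ?_⟩
  rw [Units.val_mul, Units.val_mul, hg]
  exact tvm_conj h (hMS hh) v c

/-- TVCL [S]. `t_{λv}(c) = t_v(λ² c)`. -/
theorem tt_smul {v : Fin a × Fin b → F} (hv : TT J1 J2 M v) (c : F) : TT J1 J2 M (c • v) := by
  intro k
  rw [tstvcl_tvm_smul]
  exact hv (c * c * k)

/-- TVCL [S]. hyperbolic lines: `t_v(s) v' = v' + s f(v,v') v` with `s = 1 / f(v,v')`, then `tt_conj`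
(`t_v(s) ∈ M` by `hv`; `f(v,v) = 0` by `bf_self_alt (JV_transpose C.alt C.sym) C.two`). -/
theorem tt_hyp (C : Ctx J1 J2) (hMS : M ≤ SpV J1 J2) {v v' : Fin a × Fin b → F} (hv : TT J1 J2 M v)
    (hv' : TT J1 J2 M v') (hne : bf (JV J1 J2) v v' ≠ 0) : TT J1 J2 M (v + v') := by
  obtain ⟨g, hgM, hg⟩ := hv (bf (JV J1 J2) v v')⁻¹
  have h1 := tt_conj hMS hgM hv'
  have h2 : (g : Matrix (Fin a × Fin b) (Fin a × Fin b) F) *ᵥ v' = v + v' := by
    rw [hg, tvm_mulVec, inv_mul_cancel₀ hne, one_smul, add_comm]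
  rwa [h2] at h1

/-- TVCL [S-M]. ADD: `v₁ + v₂ = (v₁ + z) + (v₂ - z)`; if `f(v₁,v₂) ≠ 0` use `tt_hyp` directly; otherwise
`v₁ + z`, `v₂ - z ∈ TT` (`tt_hyp`, `tt_smul (-1)`) and `f(v₁ + z, v₂ - z) = f(v₁,v₂) + f(z, v₁ + v₂) ≠ 0`. -/
theorem tt_add3 (C : Ctx J1 J2) (hMS : M ≤ SpV J1 J2) {v₁ v₂ z : Fin a × Fin b → F}
    (h1 : TT J1 J2 M v₁) (h2 : TT J1 J2 M v₂) (hz : TT J1 J2 M z)
    (hz1 : bf (JV J1 J2) z v₁ ≠ 0) (hz2 : bf (JV J1 J2) z v₂ ≠ 0)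
    (hz12 : bf (JV J1 J2) z (v₁ + v₂) ≠ 0) : TT J1 J2 M (v₁ + v₂) := by
  have hJ := JV_transpose C.alt C.sym
  by_cases h12 : bf (JV J1 J2) v₁ v₂ = 0
  · have hzz : bf (JV J1 J2) z z = 0 := bf_self_alt hJ C.two z
    have ha : TT J1 J2 M (v₁ + z) := by
      apply tt_hyp C hMS h1 hz
      rw [bf_alt hJ]
      exact neg_ne_zero.mpr hz1
    have hb : TT J1 J2 M (v₂ + (-1 : F) • z) := by
      apply tt_hyp C hMS h2 (tt_smul hz (-1))
      rw [bf_smul_right, bf_alt hJ]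
      simpa using hz2
    have hab : bf (JV J1 J2) (v₁ + z) (v₂ + (-1 : F) • z) ≠ 0 := by
      have : bf (JV J1 J2) (v₁ + z) (v₂ + (-1 : F) • z) = bf (JV J1 J2) z (v₁ + v₂) := by
        rw [bf_add_left, bf_add_right, bf_add_right, bf_smul_right, bf_smul_right, hzz, h12,
          bf_add_right, bf_alt hJ v₁ z]
        ring
      rw [this]
      exact hz12
    have := tt_hyp C hMS ha hb hab
    have e : v₁ + z + (v₂ + (-1 : F) • z) = v₁ + v₂ := by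
      rw [neg_one_smul]
      abel
    rwa [e] at this
  · exact tt_hyp C hMS h1 h2 h12

end Cfsg.Agent.Lib.Helper21.TS
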