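import Mathlib
import Cfsg.Agent.S0214
import Cfsg.Agent.S1225

/-!
# Project BGL, row SE06 (`se_abs`), verbatim vs `Helper25/BGL/SkelPA.lean.txt`.  Writer: helper11.
-/

set_option autoImplicit false

namespace Cfsg.Agent.Lib.Helper10.BGL

/-- a subgroup containing an element of order two has even order. -/
theorem bglse06_two_dvd {G₀ : Type*} [Group G₀] [Finite G₀] (A : Subgroup G₀) (x : G₀) (hx : x ∈ A)
    (hx2 : orderOf x = 2) : 2 ∣ Nat.card A := by
  have h1 : orderOf (⟨x, hx⟩ : A) = 2 := by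
    rw [← hx2]; exact Subgroup.orderOf_mk x hx
  rw [← h1]; exact orderOf_dvd_natCard _

/-- the strongly embedded subgroup of SE06. -/
theorem bglse06_se {G₀ : Type*} [Group G₀] [Finite G₀] (M₀ : Subgroup G₀) (hne : M₀ ≠ ⊤) (z : G₀) (hz : z ∈ M₀)
    (hz2 : orderOf z = 2)
    (hN : ∀ R : Subgroup G₀, R ≤ M₀ → IsPGroup 2 R → R ≠ ⊥ → Subgroup.normalizer (R : Set G₀) ≤ M₀) :
    Cfsg.IsStronglyEmbedded M₀ := by
  classical
  have : Fact (Nat.Prime 2) := ⟨Nat.prime_two⟩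
  have hz2' : orderOf (⟨z, hz⟩ : M₀) = 2 := by
    rw [← hz2]; exact Subgroup.orderOf_mk z hz
  have hpz : IsPGroup 2 (Subgroup.zpowers (⟨z, hz⟩ : M₀)) := by
    apply IsPGroup.of_card (n := 1)
    rw [Nat.card_zpowers, hz2', pow_one]
  obtain ⟨P, hP⟩ := hpz.exists_le_sylow
  have hPne : (P : Subgroup ↥M₀) ≠ ⊥ := by
    intro hbot
    have h1 : (⟨z, hz⟩ : M₀) ∈ (P : Subgroup ↥M₀) := hP (Subgroup.mem_zpowers _)
    rw [hbot, Subgroup.mem_bot] at h1
    rw [h1, orderOf_one] at hz2'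
    omega
  refine (Cfsg.Agent.S0214.result M₀ hne P hPne).2 ?_
  intro X hXP hXne
  apply hN
  · exact Subgroup.map_subtype_le X
  · exact (P.isPGroup'.to_le hXP).map _
  · intro hbot
    apply hXne
    exact (Subgroup.map_eq_bot_iff_of_injective X M₀.subtype_injective).1 hbot

theorem se_abs {G₀ : Type*} [Group G₀] [Finite G₀] (M₀ : Subgroup G₀) (hne : M₀ ≠ ⊤) (z : G₀) (hz : z ∈ M₀)
    (hz2 : orderOf z = 2)
    (hN : ∀ R : Subgroup G₀, R ≤ M₀ → IsPGroup 2 R → R ≠ ⊥ → Subgroup.normalizer (R : Set G₀) ≤ M₀) :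
    ∀ a b : G₀, orderOf a = 2 → orderOf b = 2 → IsConj a b := by
  classical
  have hSE := bglse06_se M₀ hne z hz hz2 hN
  -- an involution outside `M₀`
  have hex : ∃ u : G₀, orderOf u = 2 ∧ u ∉ M₀ := by
    by_contra hcon
    push Not at hcon
    obtain ⟨g, hg⟩ : ∃ g : G₀, g ∉ M₀ := by
      by_contra h
      push Not at h
      exact hne (eq_top_iff.2 fun x _ => h x)
    have hc2 : orderOf (g * z * g⁻¹) = 2 := by
      have h := MulEquiv.orderOf_eq (MulAut.conj g) z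
      rw [MulAut.conj_apply] at h
      rw [h]; exact hz2
    have hcM : g * z * g⁻¹ ∈ M₀ := hcon _ hc2
    have hcI : g * z * g⁻¹ ∈ M₀ ⊓ M₀.map (MulAut.conj g).toMonoidHom := by
      refine ⟨hcM, ?_⟩
      exact ⟨z, hz, by simp [MulAut.conj_apply]⟩
    have hdvd := bglse06_two_dvd _ _ hcI hc2
    have hodd := hSE.2.2 g hg
    rcases hodd with ⟨k, hk⟩
    omega
  obtain ⟨u, hu, huM⟩ := hex
  exact (Cfsg.Agent.S1225.result M₀ hSE u hu huM z z hz2 hz hz2 hz).2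

end Cfsg.Agent.Lib.Helper10.BGL
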