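import Mathlib
import Cfsg.Agent.Lib.Helper22.C3L.Defs
import Cfsg.Agent.Lib.helper8.C3S.Defs

set_option autoImplicit false
set_option linter.unusedVariables false
set_option linter.unusedSectionVars false

/-!
# C3S piece ALPHA (helper11)

`alpha_ex`, `alpha_not` verbatim from the Skel; extras `c3salpha_*`.
-/

namespace Cfsg.Agent.Lib.helper8.C3S

open Module Cfsg.Agent.Lib.Helper22.C3L

variable {F K V : Type*} [Field F] [Field K] [Algebra F K] [AddCommGroup V] [Module F V] [Module K V]
  [IsScalarTower F K V]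

/-- every `F`-endomorphism of `K` has a trace-adjoint (`K` finite) -/
theorem c3salpha_adj_ex [Finite K] (α : K →ₗ[F] K) : ∃ α' : K →ₗ[F] K, TrAdj α α' := by
  have hnd : (Algebra.traceForm F K).Nondegenerate := traceForm_nondegenerate F K
  refine ⟨(Algebra.traceForm F K).leftAdjointOfNondegenerate hnd α, fun s t => ?_⟩
  have h := LinearMap.BilinForm.isAdjointPairLeftAdjointOfNondegenerate (Algebra.traceForm F K) hnd α t s
  simp only [Algebra.traceForm_apply] at h
  rw [mul_comm (α s) t, ← h, mul_comm]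

/-- the trace-adjoint is unique -/
theorem c3salpha_adj_unique [Finite K] {α α' α'' : K →ₗ[F] K} (h' : TrAdj α α') (h'' : TrAdj α α'') :
    α' = α'' := by
  have hnd : (Algebra.traceForm F K).Nondegenerate := traceForm_nondegenerate F K
  ext t
  have : ∀ s : K, Algebra.traceForm F K s (α' t - α'' t) = 0 := by
    intro s
    simp only [Algebra.traceForm_apply, map_sub]
    rw [← h' s t, ← h'' s t, sub_self]
  have h0 := hnd.2 _ this
  exact sub_eq_zero.mp h0

theorem alpha_ex [Finite K] {g : V ≃ₗ[F] V} {v : V} (hv : v ≠ 0) (hgv : ∀ a : K, ∃ b : K, g (a • v) = b • v) :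
    ∃ α α' : K →ₗ[F] K, (∀ a : K, g (a • v) = α a • v) ∧ TrAdj α α' := by
  choose f hf using hgv
  have hinj : Function.Injective (fun c : K => c • v) := smul_left_injective K hv
  let α : K →ₗ[F] K :=
    { toFun := f
      map_add' := fun a a' => by
        apply hinj
        show f (a + a') • v = (f a + f a') • v
        rw [← hf, add_smul, map_add, hf, hf, add_smul]
      map_smul' := fun c a => by
        apply hinj
        show f (c • a) • v = (c • f a) • v
        rw [← hf, smul_assoc, map_smul, hf, smul_assoc] }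
  obtain ⟨α', hα'⟩ := c3salpha_adj_ex α
  exact ⟨α, α', hf, hα'⟩

theorem alpha_not {g : V ≃ₗ[F] V} {v : V} {α : K →ₗ[F] K} (hgα : ∀ a : K, g (a • v) = α a • v)
    (hgn : ∃ a : K, ∀ b : K, ∃ c : K, g (a • c • v) ≠ b • g (c • v)) :
    ¬ ∃ (c : K) (σ : K ≃ₐ[F] K), ∀ x : K, α x = c * σ x := by
  rintro ⟨c, σ, h⟩
  obtain ⟨a, ha⟩ := hgn
  obtain ⟨x, hx⟩ := ha (σ a)
  apply hx
  rw [smul_smul, hgα, hgα, h, h, map_mul, smul_smul]
  congr 1
  ring

end Cfsg.Agent.Lib.helper8.C3S
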