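import Mathlib
import Cfsg.Agent.Lib.Helper22.C3L.Defs
import Cfsg.Agent.Lib.helper8.C3S.Defs

set_option autoImplicit false
set_option linter.unusedVariables false
set_option linter.unusedSectionVars false

/-!
# C3S piece LS4 (helper11, second writer)

`ls_conjG`, `ls_trace` verbatim from the Skel; extra `c3sls4_tr_ext`.
-/

namespace Cfsg.Agent.Lib.helper8.C3S

open Module Cfsg.Agent.Lib.Helper22.C3L

variable {F K V : Type*} [Field F] [Field K] [Algebra F K] [AddCommGroup V] [Module F V] [Module K V]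
  [IsScalarTower F K V]

/-- the trace form of a finite field extension separates points -/
theorem c3sls4_tr_ext [Finite K] {u u' : K}
    (h : ∀ a : K, Algebra.trace F K (a * u) = Algebra.trace F K (a * u')) : u = u' := by
  have hnd : (Algebra.traceForm F K).Nondegenerate := traceForm_nondegenerate F K
  have : ∀ s : K, Algebra.traceForm F K s (u - u') = 0 := by
    intro s
    simp only [Algebra.traceForm_apply, map_sub]
    rw [h s, sub_self]
  exact sub_eq_zero.mp (hnd.2 _ this)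

theorem ls_conjG [Finite K] (B : V →ₗ[K] V →ₗ[K] K) (H : Subgroup (V ≃ₗ[F] V)) (hH : H ≤ Spf F B)
    {g : V ≃ₗ[F] V} (hg : g ∈ H) {v : V} {α α' : K →ₗ[F] K} (hgα : ∀ a : K, g (a • v) = α a • v)
    (hadj : TrAdj α α') {β : K →ₗ[F] K} (hβ : β ∈ LS B H v) : α ∘ₗ β ∘ₗ α' ∈ LS B H v := by
  obtain ⟨t, ht, htx⟩ := hβ
  have hgS : g ∈ Spf F B := hH hg
  have key : ∀ x : V, B (g⁻¹ x) v = α' (B x v) := by
    intro x
    apply c3sls4_tr_ext (F := F)
    intro a
    have h1 : a * B (g⁻¹ x) v = B (g⁻¹ x) (a • v) := by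
      rw [map_smul, smul_eq_mul]
    have h2 := hgS (g⁻¹ x) (a • v)
    rw [hgα] at h2
    have h3 : g (g⁻¹ x) = x := by
      show (g * g⁻¹) x = x
      rw [mul_inv_cancel]; rfl
    rw [h3, map_smul, smul_eq_mul] at h2
    rw [h1, ← h2, hadj a (B x v)]
  refine ⟨g * t * g⁻¹, H.mul_mem (H.mul_mem hg ht) (H.inv_mem hg), fun x => ?_⟩
  have h3 : g (g⁻¹ x) = x := by
    show (g * g⁻¹) x = x
    rw [mul_inv_cancel]; rfl
  show g (t (g⁻¹ x)) = _
  rw [htx, map_add, h3, hgα, key]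
  rfl

theorem ls_trace (B : V →ₗ[K] V →ₗ[K] K) (H : Subgroup (V ≃ₗ[F] V)) (v : V) (h : trK F K ∈ LS B H v) :
    HasFtv B H v 1 := by
  obtain ⟨g, hg, hgx⟩ := h
  refine ⟨g, hg, fun x => ?_⟩
  rw [hgx, trK_apply, one_mul, algebraMap_smul]

end Cfsg.Agent.Lib.helper8.C3S
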