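import Mathlib
import Cfsg.Agent.Lib.Helper22.C3L.Defs
import Cfsg.Agent.Lib.helper8.C3S.Defs
import Cfsg.Agent.Lib.Helper24.C3SKTV

set_option autoImplicit false
set_option linter.unusedVariables false
set_option linter.unusedSectionVars false

/-!
# C3S piece TRANS (helper11, second writer)

`spb_trans` verbatim from the Skel; extra `c3strans_one`.
-/

namespace Cfsg.Agent.Lib.helper8.C3S

open Module Cfsg.Agent.Lib.Helper22.C3L

variable {F K V : Type*} [Field F] [Field K] [Algebra F K] [AddCommGroup V] [Module F V] [Module K V]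
  [IsScalarTower F K V]

/-- one step: `B v w ≠ 0` gives a `K`-transvection mapping `v` to `w` -/
theorem c3strans_one (B : V →ₗ[K] V →ₗ[K] K) (hB0 : ∀ x, B x x = 0) {v w : V} (h : B v w ≠ 0) :
    ∃ g ∈ SpB F B, g v = w := by
  obtain ⟨g, hg, hgx⟩ := ktv_mem (F := F) B hB0 (w - v) (1 / B v w)
  refine ⟨g, hg, ?_⟩
  rw [hgx, map_sub, hB0, sub_zero, one_div, inv_mul_cancel₀ h, one_smul]
  abel

theorem spb_trans (B : V →ₗ[K] V →ₗ[K] K) (hB0 : ∀ x, B x x = 0) (hBn : ∀ x, x ≠ 0 → ∃ y, B x y ≠ 0) {v w : V}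
    (hv : v ≠ 0) (hw : w ≠ 0) : ∃ g ∈ SpB F B, g v = w := by
  by_cases h : B v w = 0
  · have hz : ∃ z : V, B v z ≠ 0 ∧ B w z ≠ 0 := by
      obtain ⟨p, hp⟩ := hBn v hv
      obtain ⟨q, hq⟩ := hBn w hw
      by_cases h1 : B w p = 0
      · by_cases h2 : B v q = 0
        · refine ⟨p + q, ?_, ?_⟩
          · rw [map_add, h2, add_zero]; exact hp
          · rw [map_add, h1, zero_add]; exact hq
        · exact ⟨q, h2, hq⟩
      · exact ⟨p, hp, h1⟩
    obtain ⟨z, hvz, hwz⟩ := hz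
    have hzw : B z w ≠ 0 := by
      rw [c3sktv_skew B hB0 w z]
      exact neg_ne_zero.mpr hwz
    obtain ⟨g1, hg1, hg1v⟩ := c3strans_one (F := F) B hB0 hvz
    obtain ⟨g2, hg2, hg2z⟩ := c3strans_one (F := F) B hB0 hzw
    refine ⟨g2 * g1, (SpB F B).mul_mem hg2 hg1, ?_⟩
    rw [LinearEquiv.mul_apply, hg1v, hg2z]
  · exact c3strans_one B hB0 h

end Cfsg.Agent.Lib.helper8.C3S
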