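import Mathlib
import Cfsg.Agent.Lib.Helper22.C3L.Defs
import Cfsg.Agent.Lib.helper8.C3S.Defs
import Cfsg.Agent.Lib.Helper24.C3SKTV

set_option autoImplicit false
set_option linter.unusedVariables false
set_option linter.unusedSectionVars false

/-!
# C3S piece UORB (helper11, second writer)

`sp_u_orb` verbatim from the Skel; extra `c3suorb_dual`.
-/

namespace Cfsg.Agent.Lib.helper8.C3S

open Module Cfsg.Agent.Lib.Helper22.C3L

variable {F K V : Type*} [Field F] [Field K] [Algebra F K] [AddCommGroup V] [Module F V] [Module K V]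
  [IsScalarTower F K V]

/-- for `y ∉ K v` (`v ≠ 0`, `B` non-degenerate) and `a : K` some `w` has `B v w = 0`, `B y w = a` -/
theorem c3suorb_dual (B : V →ₗ[K] V →ₗ[K] K)
    (hBn : ∀ x, x ≠ 0 → ∃ y, B x y ≠ 0) {v y : V} (hv : v ≠ 0) (hy : ∀ b : K, b • v ≠ y) (a : K) :
    ∃ w : V, B v w = 0 ∧ B y w = a := by
  obtain ⟨p, hp⟩ := hBn v hv
  have hy'0 : y - (B y p / B v p) • v ≠ 0 := by
    intro h
    exact hy (B y p / B v p) (sub_eq_zero.mp h).symm
  have hy'p : B (y - (B y p / B v p) • v) p = 0 := by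
    simp only [map_sub, map_smul, LinearMap.sub_apply, LinearMap.smul_apply, smul_eq_mul]
    rw [div_mul_cancel₀ _ hp, sub_self]
  obtain ⟨w0, hw0⟩ := hBn _ hy'0
  have hvw1 : B v (w0 - (B v w0 / B v p) • p) = 0 := by
    simp only [map_sub, map_smul, smul_eq_mul]
    rw [div_mul_cancel₀ _ hp, sub_self]
  have hyw1 : B y (w0 - (B v w0 / B v p) • p) ≠ 0 := by
    intro h
    apply hw0
    have h2 : B (y - (B y p / B v p) • v) (w0 - (B v w0 / B v p) • p) = 0 := by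
      rw [map_sub (B), LinearMap.sub_apply, h, map_smul (B), LinearMap.smul_apply, hvw1, smul_zero, sub_zero]
    rw [map_sub, map_smul, hy'p, smul_zero, sub_zero] at h2
    exact h2
  refine ⟨(a / B y (w0 - (B v w0 / B v p) • p)) • (w0 - (B v w0 / B v p) • p), ?_, ?_⟩
  · rw [map_smul, hvw1, smul_zero]
  · rw [map_smul, smul_eq_mul, div_mul_cancel₀ _ hyw1]

theorem sp_u_orb [FiniteDimensional K V] (B : V →ₗ[K] V →ₗ[K] K) (hB0 : ∀ x, B x x = 0)
    (hBn : ∀ x, x ≠ 0 → ∃ y, B x y ≠ 0) {v y z : V} (hy : y ∉ Kl F K v) (hz : z ∈ Kl F K v) :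
    ∃ u ∈ SpB F B, (∀ x ∈ Kl F K v, u x = x) ∧ u y = y + z := by
  obtain ⟨a, rfl⟩ := (mem_Kl F K).mp hz
  by_cases hv : v = 0
  · subst hv
    exact ⟨1, one_mem _, fun x _ => rfl, by simp⟩
  by_cases hyv : B y v = 0
  · have hy' : ∀ b : K, b • v ≠ y := fun b hb => hy ((mem_Kl F K).mpr ⟨b, hb⟩)
    obtain ⟨w, hvw, hyw⟩ := c3suorb_dual B hBn hv hy' a
    obtain ⟨g, hg, hgx⟩ := siegel_mem (F := F) B hB0 hvw
    refine ⟨g, hg, ?_, ?_⟩
    · intro x hx
      obtain ⟨b, rfl⟩ := (mem_Kl F K).mp hx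
      rw [hgx, map_smul, LinearMap.smul_apply, LinearMap.smul_apply, hB0, hvw]
      simp
    · rw [hgx, hyv, hyw]
      simp
  · obtain ⟨g, hg, hgx⟩ := ktv_mem (F := F) B hB0 v (a / B y v)
    refine ⟨g, hg, ?_, ?_⟩
    · intro x hx
      obtain ⟨b, rfl⟩ := (mem_Kl F K).mp hx
      rw [hgx, map_smul, LinearMap.smul_apply, hB0]
      simp
    · rw [hgx, div_mul_cancel₀ _ hyv]

end Cfsg.Agent.Lib.helper8.C3S
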