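import Mathlib
import Cfsg.Agent.Lib.Helper22.C3L.Defs
import Cfsg.Agent.Lib.helper8.C3S.Defs

set_option autoImplicit false
set_option linter.unusedVariables false
set_option linter.unusedSectionVars false

/-!
# C3S piece JDEC (helper11): `End_F(K) = ⊕_σ K σ`

`jdec_exists`, `jdec_unique` verbatim from the Skel; extras `c3sjdec_*`.
-/

namespace Cfsg.Agent.Lib.helper8.C3S

open Module Cfsg.Agent.Lib.Helper22.C3L

variable {F K V : Type*} [Field F] [Field K] [Algebra F K] [AddCommGroup V] [Module F V] [Module K V]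
  [IsScalarTower F K V]

/-- Dedekind: the automorphisms are `K`-linearly independent in `End_F(K)` -/
theorem c3sjdec_li : LinearIndependent K (fun σ : K ≃ₐ[F] K => (σ : K →ₐ[F] K).toLinearMap) :=
  (linearIndependent_toLinearMap F K K).comp _ (AlgEquiv.coe_toAlgHom_injective)

/-- Dedekind, pointwise form: a `K`-combination of automorphisms vanishing identically has zero coefficients -/
theorem c3sjdec_dedekind [FiniteDimensional F K] {a : (K ≃ₐ[F] K) → K}
    (h : ∀ x : K, ∑ σ : K ≃ₐ[F] K, a σ * σ x = 0) : a = 0 := by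
  have hli := c3sjdec_li (F := F) (K := K)
  rw [Fintype.linearIndependent_iff] at hli
  have := hli a (by
    ext x
    simpa using h x)
  funext σ
  exact this σ

theorem jdec_unique [FiniteDimensional F K] {γ : K →ₗ[F] K} {a a' : (K ≃ₐ[F] K) → K} (h : Coef γ a) (h' : Coef γ a') :
    a = a' := by
  have : (fun σ => a σ - a' σ) = 0 := c3sjdec_dedekind (fun x => by
    simp only [sub_mul, Finset.sum_sub_distrib, ← h x, ← h' x, sub_self])
  funext σ
  exact sub_eq_zero.mp (congrFun this σ)

theorem jdec_exists [Finite K] [FiniteDimensional F K] (γ : K →ₗ[F] K) : ∃ a : (K ≃ₐ[F] K) → K, Coef γ a := by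
  have hli := c3sjdec_li (F := F) (K := K)
  have hcard : Fintype.card (K ≃ₐ[F] K) = finrank K (K →ₗ[F] K) := by
    rw [Module.finrank_linearMap_self, ← Nat.card_eq_fintype_card, IsGalois.card_aut_eq_finrank]
  have hspan := hli.span_eq_top_of_card_eq_finrank' hcard
  have hγ : γ ∈ Submodule.span K (Set.range (fun σ : K ≃ₐ[F] K => (σ : K →ₐ[F] K).toLinearMap)) := by
    rw [hspan]; trivial
  obtain ⟨c, hc⟩ := (Submodule.mem_span_range_iff_exists_fun K).mp hγ
  refine ⟨c, fun x => ?_⟩
  rw [← hc]
  simp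

open Classical in
/-- the coefficient function of the identity -/
theorem c3sjdec_coef_one [FiniteDimensional F K] :
    Coef (LinearMap.id : K →ₗ[F] K) (fun σ : K ≃ₐ[F] K => if σ = 1 then (1 : K) else 0) := by
  intro x
  simp

open Classical in
/-- the coefficient function of `k σ` -/
theorem c3sjdec_coef_single [FiniteDimensional F K] (k : K) (τ : K ≃ₐ[F] K) :
    Coef (LinearMap.mulLeft F k ∘ₗ τ.toLinearMap) (fun σ : K ≃ₐ[F] K => if σ = τ then k else 0) := by
  intro x
  simp

/-- coefficient functions add -/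
theorem c3sjdec_coef_add [FiniteDimensional F K] {γ γ' : K →ₗ[F] K} {a a' : (K ≃ₐ[F] K) → K}
    (h : Coef γ a) (h' : Coef γ' a') : Coef (γ + γ') (fun σ => a σ + a' σ) := by
  intro x
  simp only [LinearMap.add_apply, h x, h' x, add_mul, Finset.sum_add_distrib]

/-- the coefficient function of `(k ·) ∘ γ` -/
theorem c3sjdec_coef_mulLeft [FiniteDimensional F K] {γ : K →ₗ[F] K} {a : (K ≃ₐ[F] K) → K}
    (h : Coef γ a) (k : K) : Coef (LinearMap.mulLeft F k ∘ₗ γ) (fun σ => k * a σ) := by
  intro x
  simp only [LinearMap.comp_apply, LinearMap.mulLeft_apply, h x, Finset.mul_sum, mul_assoc]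

/-- the coefficient function of `γ ∘ (k ·)` -/
theorem c3sjdec_coef_mulRight [FiniteDimensional F K] {γ : K →ₗ[F] K} {a : (K ≃ₐ[F] K) → K}
    (h : Coef γ a) (k : K) : Coef (γ ∘ₗ LinearMap.mulLeft F k) (fun σ => a σ * σ k) := by
  intro x
  simp only [LinearMap.comp_apply, LinearMap.mulLeft_apply, h (k * x), map_mul, mul_assoc]

end Cfsg.Agent.Lib.helper8.C3S
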