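import Mathlib
import Cfsg.Agent.Lib.Helper10.C3Q.Defs

set_option autoImplicit false

/-!
# Project C3Q, row FRDET (helper11): `frame_det`, verbatim.
The Gram matrix of a frame `(e j, A e j)` is block diagonal with blocks `[[a, b], [b, δ a]]`; its determinant is `c² det (Gram of the standard basis)`.
-/

namespace Cfsg.Agent.Lib.Helper10.C3Q

open Matrix Module

universe u

variable {F : Type u} [Field F] {ι : Type} [Fintype ι] [DecidableEq ι]

/-- the Gram matrix of a family `v` in terms of the Gram matrix of the standard basis -/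
theorem c3qfrdet_gram (Q : QuadraticForm F (ι → F)) (v : ι → (ι → F)) :
    (Matrix.of fun k l : ι => v l k)ᵀ *
      (Matrix.of fun k l : ι => QuadraticMap.polar (⇑Q) (Pi.single k 1) (Pi.single l 1)) *
      (Matrix.of fun k l : ι => v l k) =
    Matrix.of fun k l : ι => QuadraticMap.polar (⇑Q) (v k) (v l) := by
  set P : Matrix ι ι F := Matrix.of fun k l : ι => v l k with hP
  have hM : (Matrix.of fun k l : ι => QuadraticMap.polar (⇑Q) (Pi.single k 1) (Pi.single l 1)) =
      LinearMap.BilinForm.toMatrix' (QuadraticMap.polarBilin Q) := by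
    ext k l
    rw [LinearMap.BilinForm.toMatrix'_apply, QuadraticMap.polarBilin_apply_apply]
    rfl
  have h1 := LinearMap.BilinForm.toMatrix'_comp (QuadraticMap.polarBilin Q) (Matrix.toLin' P)
    (Matrix.toLin' P)
  rw [LinearMap.toMatrix'_toLin'] at h1
  rw [hM, ← h1]
  ext k l
  rw [LinearMap.BilinForm.toMatrix'_apply, LinearMap.BilinForm.comp_apply,
    QuadraticMap.polarBilin_apply_apply, Matrix.toLin'_apply, Matrix.toLin'_apply,
    Matrix.mulVec_single_one, Matrix.mulVec_single_one]
  rfl

/-- FRDET [M-L] -/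
theorem frame_det (Q : QuadraticForm F (ι → F)) (δ : F) (A : Matrix ι ι F) (hA : Gen (⇑Q) δ A) {n : ℕ}
    (e : Fin n → (ι → F)) (he : IsFrame (⇑Q) A e) :
    ∃ c : F, c ≠ 0 ∧
      ∏ j, (δ * QuadraticMap.polar (⇑Q) (e j) (e j) ^ 2 - QuadraticMap.polar (⇑Q) (e j) (A *ᵥ e j) ^ 2) =
        c ^ 2 * (Matrix.of fun k l : ι => QuadraticMap.polar (⇑Q) (Pi.single k 1) (Pi.single l 1)).det := by
  classical
  set b : Fin n × Fin 2 → (ι → F) := fun p => if p.2 = 0 then e p.1 else A *ᵥ e p.1 with hb
  have hli : LinearIndependent F b := he.li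
  have hsp : ⊤ ≤ Submodule.span F (Set.range b) := he.span
  have hcard : Fintype.card (Fin n × Fin 2) = Fintype.card ι := by
    have h1 := Module.finrank_eq_card_basis (Module.Basis.mk hli hsp)
    rw [Module.finrank_fintype_fun_eq_card] at h1
    exact h1.symm
  set σ : Fin n × Fin 2 ≃ ι := Fintype.equivOfCardEq hcard with hσ
  set v : ι → (ι → F) := fun l => b (σ.symm l) with hv
  set P : Matrix ι ι F := Matrix.of fun k l : ι => v l k with hP
  have hPb : P = (Pi.basisFun F ι).toMatrix v := by
    ext k l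
    rw [Module.Basis.toMatrix_apply, Pi.basisFun_repr]
    rfl
  have hdet : IsUnit P.det := by
    rw [hPb, ← Module.Basis.det_apply]
    apply (Module.Basis.is_basis_iff_det _).mp
    constructor
    · exact hli.comp _ σ.symm.injective
    · have : Set.range v = Set.range b := Function.Surjective.range_comp σ.symm.surjective b
      rw [this]
      exact top_le_iff.mp hsp
  refine ⟨P.det, hdet.ne_zero, ?_⟩
  have hG := c3qfrdet_gram Q v
  have hdetG : (Matrix.of fun k l : ι => QuadraticMap.polar (⇑Q) (v k) (v l)).det =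
      P.det ^ 2 * (Matrix.of fun k l : ι =>
        QuadraticMap.polar (⇑Q) (Pi.single k 1) (Pi.single l 1)).det := by
    rw [← hG, Matrix.det_mul, Matrix.det_mul, Matrix.det_transpose]
    ring
  rw [← hdetG]
  -- the Gram matrix of `b`
  set G' : Matrix (Fin n × Fin 2) (Fin n × Fin 2) F :=
    Matrix.of fun p p' => QuadraticMap.polar (⇑Q) (b p) (b p') with hG'
  have h1 : (Matrix.of fun k l : ι => QuadraticMap.polar (⇑Q) (v k) (v l)) =
      G'.submatrix σ.symm σ.symm := by
    ext k l
    rfl
  rw [h1, Matrix.det_submatrix_equiv_self]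
  -- block diagonal
  set D : Fin n → Matrix (Fin 2) (Fin 2) F := fun j =>
    !![QuadraticMap.polar (⇑Q) (e j) (e j), QuadraticMap.polar (⇑Q) (e j) (A *ᵥ e j);
       QuadraticMap.polar (⇑Q) (e j) (A *ᵥ e j), δ * QuadraticMap.polar (⇑Q) (e j) (e j)] with hD
  have hAA : ∀ j, QuadraticMap.polar (⇑Q) (A *ᵥ e j) (A *ᵥ e j) =
      δ * QuadraticMap.polar (⇑Q) (e j) (e j) := by
    intro j
    rw [hA.sa (e j) (A *ᵥ e j), Matrix.mulVec_mulVec, hA.sq, Matrix.smul_mulVec, Matrix.one_mulVec,
      QuadraticMap.polar_smul_right]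
    rfl
  have h2 : G' = (Matrix.blockDiagonal D).submatrix (Equiv.prodComm (Fin n) (Fin 2))
      (Equiv.prodComm (Fin n) (Fin 2)) := by
    ext ⟨j, s⟩ ⟨j', s'⟩
    simp only [Matrix.submatrix_apply, Equiv.prodComm_apply, Prod.swap_prod_mk,
      Matrix.blockDiagonal_apply, hG', Matrix.of_apply]
    by_cases hjj : j = j'
    · subst hjj
      rw [if_pos rfl]
      fin_cases s <;> fin_cases s'
      · simp [hb, hD]
      · simp [hb, hD]
      · simp only [hb, hD]
        simp
        exact QuadraticMap.polar_comm _ _ _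
      · simp only [hb, hD]
        simp [-QuadraticMap.polar_self]
        exact hAA j
    · rw [if_neg hjj]
      obtain ⟨o1, o2, o3⟩ := he.orth j j' hjj
      obtain ⟨o1', o2', o3'⟩ := he.orth j' j (fun h => hjj h.symm)
      fin_cases s <;> fin_cases s'
      · simpa [hb] using o1
      · simpa [hb] using o2
      · simp only [hb]
        simp
        rw [QuadraticMap.polar_comm]
        exact o2'
      · simpa [hb] using o3
  rw [h2, Matrix.det_submatrix_equiv_self, Matrix.det_blockDiagonal]
  apply Finset.prod_congr rfl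
  intro j _
  rw [hD]
  simp only [Matrix.det_fin_two_of]
  ring

end Cfsg.Agent.Lib.Helper10.C3Q
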