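import Mathlib
import Cfsg.Agent.Lib.Helper10.C3Q.Defs

set_option autoImplicit false

/-!
# Project C3Q, row KDIAG (helper11): `k_diag`, verbatim.
An orthogonal basis with values `1, …, 1, *` of a non-degenerate symmetric form over a finite field of odd characteristic.
-/

namespace Cfsg.Agent.Lib.Helper10.C3Q

open Matrix Module

/-- a non-degenerate symmetric form on a space of dimension `≥ 2` over a finite field of odd characteristic represents `1` -/
theorem c3qkdiag_one {K : Type*} [Field K] [Fintype K] (h2 : (2 : K) ≠ 0) {W : Type*} [AddCommGroup W]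
    [Module K W] [FiniteDimensional K W] (β : LinearMap.BilinForm K W)
    (hs : ∀ u v, β u v = β v u) (hn : β.Nondegenerate) (hW : 2 ≤ Module.finrank K W) :
    ∃ w : W, β w w = 1 := by
  classical
  have : Invertible (2 : K) := invertibleOfNonzero h2
  have hsymm : LinearMap.IsSymm β := ⟨fun u v => by simpa using hs u v⟩
  obtain ⟨v, hv⟩ := LinearMap.BilinForm.exists_orthogonal_basis hsymm
  have hne := LinearMap.BilinForm.iIsOrtho.not_isOrtho_basis_self_of_nondegenerate hv hn
  have hcard : Fintype.card K % 2 = 1 := by
    apply FiniteField.odd_card_of_char_ne_two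
    intro hch
    apply h2
    have := ringChar.Nat.cast_ringChar (R := K)
    rw [hch] at this
    exact_mod_cast this
  let i0 : Fin (finrank K W) := ⟨0, by omega⟩
  let i1 : Fin (finrank K W) := ⟨1, by omega⟩
  have h01 : i0 ≠ i1 := by
    intro h
    have := congrArg Fin.val h
    simp [i0, i1] at this
  set s0 := β (v i0) (v i0) with hs0
  set s1 := β (v i1) (v i1) with hs1
  have hs0ne : s0 ≠ 0 := hne i0
  have hs1ne : s1 ≠ 0 := hne i1
  have hf : (Polynomial.C s0 * Polynomial.X ^ 2 : Polynomial K).degree = 2 := by
    rw [Polynomial.degree_C_mul_X_pow 2 hs0ne]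
    rfl
  have hg : (Polynomial.C s1 * Polynomial.X ^ 2 - Polynomial.C 1 : Polynomial K).degree = 2 := by
    rw [Polynomial.degree_sub_C]
    · rw [Polynomial.degree_C_mul_X_pow 2 hs1ne]
      rfl
    · rw [Polynomial.degree_C_mul_X_pow 2 hs1ne]
      norm_num
  obtain ⟨x, y, hxy⟩ := FiniteField.exists_root_sum_quadratic hf hg hcard
  simp only [Polynomial.eval_mul, Polynomial.eval_C, Polynomial.eval_pow, Polynomial.eval_X,
    Polynomial.eval_sub] at hxy
  refine ⟨x • v i0 + y • v i1, ?_⟩
  have h1 : β (v i0) (v i1) = 0 := hv h01
  have h2' : β (v i1) (v i0) = 0 := hv h01.symm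
  simp only [map_add, map_smul, LinearMap.add_apply, LinearMap.smul_apply, smul_eq_mul, h1, h2',
    ← hs0, ← hs1]
  linear_combination hxy

/-- KDIAG [M-L] -/
theorem k_diag {K : Type*} [Field K] [Fintype K] (h2 : (2 : K) ≠ 0) {W : Type*} [AddCommGroup W]
    [Module K W] [FiniteDimensional K W] (β : LinearMap.BilinForm K W)
    (hs : ∀ u v, β u v = β v u) (hn : β.Nondegenerate) (n : ℕ) (hW : Module.finrank K W = n + 1) :
    ∃ v : Module.Basis (Fin (n + 1)) K W, (∀ i j, i ≠ j → β (v i) (v j) = 0) ∧
      ∀ i, i ≠ Fin.last n → β (v i) (v i) = 1 := by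
  classical
  induction n generalizing W with
  | zero =>
    refine ⟨Module.finBasisOfFinrankEq K W hW, ?_, ?_⟩
    · intro i j hij
      exact absurd (Fin.ext (by omega)) hij
    · intro i hi
      exact absurd (Fin.ext (by simp)) hi
  | succ n ih =>
    obtain ⟨w, hw⟩ := c3qkdiag_one h2 β hs hn (by omega)
    have hw0 : β w w ≠ 0 := by rw [hw]; exact one_ne_zero
    have hrefl : β.IsRefl := fun u v h => by rw [hs]; exact h
    set P := β.orthogonal (K ∙ w) with hP
    have hPnd := LinearMap.BilinForm.restrict_nondegenerate_orthogonal_spanSingleton β hn hrefl hw0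
    have hwne : w ≠ 0 := by
      rintro rfl
      exact hw0 (by simp)
    have hPdim : finrank K P = n + 1 := by
      rw [hP, LinearMap.BilinForm.finrank_orthogonal hn, hW, finrank_span_singleton hwne]
      omega
    obtain ⟨v', hv'o, hv'1⟩ := ih (β.restrict P) (fun u v => hs u v) hPnd hPdim
    have hv'ne : ∀ i, β (v' i : W) (v' i : W) ≠ 0 := by
      intro i
      have := LinearMap.BilinForm.iIsOrtho.not_isOrtho_basis_self_of_nondegenerate
        (B := β.restrict P) (v := v') (fun i j hij => hv'o i j hij) hPnd i
      exact this
    have hwv : ∀ i, β w (v' i : W) = 0 := by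
      intro i
      have hmem : (v' i : W) ∈ β.orthogonal (K ∙ w) := (v' i).2
      rw [LinearMap.BilinForm.mem_orthogonal_iff] at hmem
      exact hmem w (Submodule.mem_span_singleton_self w)
    let u : Fin (n + 1 + 1) → W := Fin.cons w (fun i => (v' i : W))
    have huo : ∀ i j, i ≠ j → β (u i) (u j) = 0 := by
      intro i j hij
      induction i using Fin.cases with
      | zero =>
        induction j using Fin.cases with
        | zero => exact absurd rfl hij
        | succ j => simpa [u] using hwv j
      | succ i =>
        induction j using Fin.cases with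
        | zero =>
          have := hwv i
          rw [hs] at this
          simpa [u] using this
        | succ j =>
          have hij' : i ≠ j := fun h => hij (by rw [h])
          simpa [u] using hv'o i j hij'
    have hune : ∀ i, β (u i) (u i) ≠ 0 := by
      intro i
      induction i using Fin.cases with
      | zero => simpa [u] using hw0
      | succ i => simpa [u] using hv'ne i
    have hli : LinearIndependent K u :=
      LinearMap.BilinForm.linearIndependent_of_iIsOrtho (B := β) (fun i j hij => huo i j hij) hune
    have hcard : Fintype.card (Fin (n + 1 + 1)) = finrank K W := by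
      rw [Fintype.card_fin, hW]
    refine ⟨basisOfLinearIndependentOfCardEqFinrank hli hcard, ?_, ?_⟩
    · intro i j hij
      rw [coe_basisOfLinearIndependentOfCardEqFinrank]
      exact huo i j hij
    · intro i hi
      rw [coe_basisOfLinearIndependentOfCardEqFinrank]
      induction i using Fin.cases with
      | zero => simpa [u] using hw
      | succ i =>
        have hi' : i ≠ Fin.last n := by
          intro h
          apply hi
          rw [h]
          rfl
        simpa [u] using hv'1 i hi'

end Cfsg.Agent.Lib.Helper10.C3Q
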