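import Mathlib
import Cfsg.Agent.Lib.helper6.SSCONJ.Defs

/-!
# SSCONJ row CYCINV (helper11): `cyc_invt`
-/

set_option autoImplicit false

open Polynomial

namespace Cfsg.Agent.Lib.helper6.SSCONJ

variable {F : Type*} [Field F]

/-- the generators lie in the cyclic subspace -/
theorem ssconjcycinv_gen_mem {V : Type*} [AddCommGroup V] [Module F V] (φ : Module.End F V) (v : V) (d k : ℕ)
    (hk : k < d) : (φ ^ k) v ∈ cyc φ v d :=
  Submodule.subset_span ⟨⟨k, hk⟩, rfl⟩

/-- `aeval φ p v` as an explicit sum -/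
theorem ssconjcycinv_aeval_apply {V : Type*} [AddCommGroup V] [Module F V] (φ : Module.End F V) (v : V)
    (p : F[X]) : aeval φ p v = p.sum fun j a => a • (φ ^ j) v := by
  rw [aeval_def, eval₂_eq_sum, Polynomial.sum, Polynomial.sum, LinearMap.sum_apply]
  refine Finset.sum_congr rfl fun j _ => ?_
  rw [Module.End.mul_apply, Module.algebraMap_end_apply]

/-- the relation: a monic `f` killing `v` expresses `φ ^ deg f v` through the lower powers -/
theorem ssconjcycinv_pow_natDegree {V : Type*} [AddCommGroup V] [Module F V] (φ : Module.End F V) (v : V)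
    (f : F[X]) (hm : f.Monic) (hv : aeval φ f v = 0) :
    (φ ^ f.natDegree) v = - ∑ j ∈ Finset.range f.natDegree, f.coeff j • (φ ^ j) v := by
  have h2 : aeval φ f v
      = (φ ^ f.natDegree) v + ∑ j ∈ Finset.range f.natDegree, f.coeff j • (φ ^ j) v := by
    conv_lhs => rw [hm.as_sum]
    rw [map_add, map_sum, LinearMap.add_apply, LinearMap.sum_apply, map_pow, aeval_X]
    congr 1
    refine Finset.sum_congr rfl fun j _ => ?_
    rw [map_mul, aeval_C, map_pow, aeval_X, Module.End.mul_apply, Module.algebraMap_end_apply]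
  rw [hv] at h2
  exact eq_neg_of_add_eq_zero_left h2.symm

/-- `φ ^ deg f v` lies in the cyclic subspace -/
theorem ssconjcycinv_pow_natDegree_mem {V : Type*} [AddCommGroup V] [Module F V] (φ : Module.End F V) (v : V)
    (f : F[X]) (hm : f.Monic) (hv : aeval φ f v = 0) : (φ ^ f.natDegree) v ∈ cyc φ v f.natDegree := by
  rw [ssconjcycinv_pow_natDegree φ v f hm hv]
  refine Submodule.neg_mem _ (Submodule.sum_mem _ fun j hj => Submodule.smul_mem _ _ ?_)
  exact ssconjcycinv_gen_mem φ v _ j (Finset.mem_range.mp hj)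

theorem cyc_invt {V : Type*} [AddCommGroup V] [Module F V] (φ : Module.End F V) (v : V)
    (f : F[X]) (hm : f.Monic) (hv : aeval φ f v = 0) : ∀ x ∈ cyc φ v f.natDegree, φ x ∈ cyc φ v f.natDegree := by
  intro x hx
  unfold cyc at hx
  induction hx using Submodule.span_induction with
  | mem y hy =>
    obtain ⟨k, rfl⟩ := hy
    have hk : (k : ℕ) + 1 ≤ f.natDegree := k.2
    have : φ ((φ ^ (k : ℕ)) v) = (φ ^ ((k : ℕ) + 1)) v := by
      rw [pow_succ', Module.End.mul_apply]
    rw [this]
    rcases Nat.lt_or_ge ((k : ℕ) + 1) f.natDegree with h | h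
    · exact ssconjcycinv_gen_mem φ v _ _ h
    · have : (k : ℕ) + 1 = f.natDegree := le_antisymm hk h
      rw [this]
      exact ssconjcycinv_pow_natDegree_mem φ v f hm hv
  | zero => rw [map_zero]; exact Submodule.zero_mem _
  | add y z _ _ hy hz => rw [map_add]; exact Submodule.add_mem _ hy hz
  | smul a y _ hy => rw [map_smul]; exact Submodule.smul_mem _ _ hy

end Cfsg.Agent.Lib.helper6.SSCONJ
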