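import Mathlib
import Cfsg.Agent.Lib.helper6.SSCONJ.Defs
import Cfsg.Agent.Lib.Helper11.SSCONJCYCINV

/-!
# SSCONJ row CYCCHAR (helper11): `cyc_charpoly`
-/

set_option autoImplicit false

open Polynomial

namespace Cfsg.Agent.Lib.helper6.SSCONJ

variable {F : Type*} [Field F]

/-- `aeval` of a restriction is the restriction of `aeval` -/
theorem ssconjcycchar_aeval_restrict {V : Type*} [AddCommGroup V] [Module F V] (φ : Module.End F V)
    (U : Submodule F V) (hU : ∀ x ∈ U, φ x ∈ U) (p : F[X]) (u : U) :
    ((aeval (φ.restrict hU) p u : U) : V) = aeval φ p (u : V) := by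
  induction p using Polynomial.induction_on' with
  | add p q hp hq =>
    rw [map_add, map_add, LinearMap.add_apply, LinearMap.add_apply, Submodule.coe_add, hp, hq]
  | monomial n a =>
    rw [aeval_monomial, aeval_monomial, Module.End.mul_apply, Module.End.mul_apply,
      Module.algebraMap_end_apply, Module.algebraMap_end_apply, Submodule.coe_smul,
      Module.End.pow_restrict n hU]
    rfl

/-- `aeval φ f` kills the whole cyclic subspace of a vector it kills -/
theorem ssconjcycchar_aeval_cyc {V : Type*} [AddCommGroup V] [Module F V] (φ : Module.End F V) (v : V)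
    (f : F[X]) (hv : aeval φ f v = 0) (d : ℕ) : ∀ x ∈ cyc φ v d, aeval φ f x = 0 := by
  intro x hx
  unfold cyc at hx
  induction hx using Submodule.span_induction with
  | mem y hy =>
    obtain ⟨k, rfl⟩ := hy
    have hc : aeval φ f * φ ^ (k : ℕ) = φ ^ (k : ℕ) * aeval φ f := by
      have h1 : aeval φ (f * X ^ (k : ℕ)) = aeval φ f * φ ^ (k : ℕ) := by
        rw [map_mul, map_pow, aeval_X]
      have h2 : aeval φ (X ^ (k : ℕ) * f) = φ ^ (k : ℕ) * aeval φ f := by
        rw [map_mul, map_pow, aeval_X]
      rw [← h1, ← h2, mul_comm]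
    have : aeval φ f ((φ ^ (k : ℕ)) v) = (aeval φ f * φ ^ (k : ℕ)) v := by
      rw [Module.End.mul_apply]
    rw [this, hc, Module.End.mul_apply, hv, map_zero]
  | zero => rw [map_zero]
  | add y z _ _ hy hz => rw [map_add, hy, hz, add_zero]
  | smul a y _ hy => rw [map_smul, hy, smul_zero]

/-- the cyclic subspace has dimension at most `d` -/
theorem ssconjcycchar_finrank_le {V : Type*} [AddCommGroup V] [Module F V] (φ : Module.End F V) (v : V)
    (d : ℕ) : Module.finrank F (cyc φ v d) ≤ d := by
  unfold cyc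
  have := finrank_range_le_card (R := F) (fun k : Fin d => (φ ^ (k : ℕ)) v)
  rw [Fintype.card_fin] at this
  exact this

theorem cyc_charpoly {V : Type*} [AddCommGroup V] [Module F V] [FiniteDimensional F V] (φ : Module.End F V) (v : V) (hv0 : v ≠ 0)
    (f : F[X]) (hm : f.Monic) (hf : Irreducible f) (hv : aeval φ f v = 0) (hU : ∀ x ∈ cyc φ v f.natDegree, φ x ∈ cyc φ v f.natDegree) :
    (φ.restrict hU).charpoly = f := by
  have hdpos : 0 < f.natDegree := hf.natDegree_pos
  -- `v ∈ U`
  have hvU : v ∈ cyc φ v f.natDegree := by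
    have := ssconjcycinv_gen_mem φ v f.natDegree 0 hdpos
    simpa using this
  -- `U` is nontrivial
  have : Nontrivial (cyc φ v f.natDegree) :=
    ⟨⟨⟨v, hvU⟩, 0, fun h => hv0 (congrArg Subtype.val h)⟩⟩
  -- `f` kills the restriction
  have hkill : aeval (φ.restrict hU) f = 0 := by
    apply LinearMap.ext
    intro u
    apply Subtype.ext
    rw [ssconjcycchar_aeval_restrict, LinearMap.zero_apply, Submodule.coe_zero]
    exact ssconjcycchar_aeval_cyc φ v f hv _ _ u.2
  have hmin : f = minpoly F (φ.restrict hU) := minpoly.eq_of_irreducible_of_monic hf hkill hm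
  have hdvd : f ∣ (φ.restrict hU).charpoly := by
    conv_lhs => rw [hmin]
    exact LinearMap.minpoly_dvd_charpoly _
  have hdeg : (φ.restrict hU).charpoly.natDegree ≤ f.natDegree := by
    rw [LinearMap.charpoly_natDegree]
    exact ssconjcycchar_finrank_le φ v _
  exact eq_of_monic_of_dvd_of_natDegree_le hm (LinearMap.charpoly_monic _) hdvd hdeg

/-- consequence: the cyclic subspace has dimension exactly `deg f` -/
theorem ssconjcycchar_finrank_eq {V : Type*} [AddCommGroup V] [Module F V] [FiniteDimensional F V] (φ : Module.End F V) (v : V) (hv0 : v ≠ 0)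
    (f : F[X]) (hm : f.Monic) (hf : Irreducible f) (hv : aeval φ f v = 0) (hU : ∀ x ∈ cyc φ v f.natDegree, φ x ∈ cyc φ v f.natDegree) :
    Module.finrank F (cyc φ v f.natDegree) = f.natDegree := by
  have := cyc_charpoly φ v hv0 f hm hf hv hU
  rw [← LinearMap.charpoly_natDegree (φ.restrict hU), this]

end Cfsg.Agent.Lib.helper6.SSCONJ
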