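import Mathlib
import Cfsg.Agent.Lib.Helper10.C6P.Defs
import Cfsg.Agent.Lib.helper23.C6PLCHAR1
import Cfsg.Agent.Lib.helper23.C6PLONE
import Cfsg.Agent.Lib.Helper27.C6PEROOT
import Cfsg.Agent.Lib.helper7.C6PWSMUL

set_option autoImplicit false
set_option linter.unusedVariables false
set_option linter.unusedSectionVars false

/-!
# Project C6P (S6000; designer helper10), row E3W (`wit_three`), CORE: order-3 elements of both types in `N(R)`, with the conclusions of WUB / WUA as hypotheses (helper11).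
-/

namespace Cfsg.Agent.Lib.Helper10.C6P

open Polynomial Matrix

variable {F : Type*} [Field F]

/-- transport of a witness along the conjugation of `HasStd` -/
theorem c6pe3w_transport (R : Subgroup (GL (Fin 4) F)) (P : GL (Fin 4) F) (y0 : M4 F) (n : ℕ)
    (hN : Nrm (R.map (MulAut.conj P).toMonoidHom) y0) (hn : y0 ^ n = 1) :
    Nrm R (((P⁻¹ : GL (Fin 4) F) : M4 F) * y0 * (P : M4 F)) ∧
    (((P⁻¹ : GL (Fin 4) F) : M4 F) * y0 * (P : M4 F)) ^ n = 1 ∧
    (((P⁻¹ : GL (Fin 4) F) : M4 F) * y0 * (P : M4 F)).charpoly = y0.charpoly := by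
  refine ⟨nrm_transport R P y0 hN, ?_, ?_⟩
  · rw [Units.conj_pow', hn, mul_one, Units.inv_mul]
  · have := Matrix.charpoly_units_conj (P⁻¹ : GL (Fin 4) F) y0
    rw [← Matrix.coe_units_inv, inv_inv] at this
    exact this

theorem c6pe3w_deg_quad : (X ^ 2 + X + 1 : F[X]).natDegree = 2 := by
  compute_degree!

theorem c6pe3w_monic_quad : (X ^ 2 + X + 1 : F[X]).Monic := by
  monicity!

theorem c6pe3w_quad_of_UB (h2 : (2 : F) ≠ 0) (A : M4 F) (hA : A * A + (2 : F) • A + (4 : F) • (1 : M4 F) = 0) :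
    ((2 : F)⁻¹ • A) ^ 2 + (2 : F)⁻¹ • A + 1 = 0 ∧ ((2 : F)⁻¹ • A) ^ 3 = 1 := by
  have h4 : (4 : F) ≠ 0 := by
    have : (4 : F) = 2 * 2 := by norm_num
    rw [this]; exact mul_ne_zero h2 h2
  have e1 : ((2 : F)⁻¹ • A) ^ 2 + (2 : F)⁻¹ • A + 1 = (4 : F)⁻¹ • (A * A + (2 : F) • A + (4 : F) • (1 : M4 F)) := by
    rw [pow_two, smul_mul_smul_comm, smul_add, smul_add, smul_smul, smul_smul, inv_mul_cancel₀ h4, one_smul]
    congr 2
    · congr 1
      field_simp
      norm_num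
    · congr 1
      field_simp
      norm_num
  have e2 : ((2 : F)⁻¹ • A) ^ 2 + (2 : F)⁻¹ • A + 1 = 0 := by rw [e1, hA, smul_zero]
  refine ⟨e2, ?_⟩
  generalize (2 : F)⁻¹ • A = y at e2 ⊢
  have e3 : y ^ 3 - 1 = (y - 1) * (y ^ 2 + y + 1) := by
    noncomm_ring
  rw [e2, mul_zero, sub_eq_zero] at e3
  exact e3

section fin

variable [Fintype F] {p : ℕ} [Fact p.Prime] [CharP F p]

theorem c6pe3w_three_ne (hp3 : p % 3 = 2) : (3 : F) ≠ 0 := by
  intro h3
  have h3' : ((3 : ℕ) : F) = 0 := by exact_mod_cast h3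
  rw [CharP.cast_eq_zero_iff F p 3] at h3'
  have hp : p = 3 := ((Nat.prime_dvd_prime_iff_eq (Fact.out : p.Prime) Nat.prime_three).mp h3')
  omega

/-- core of E3W: the conclusions of `nrm_UB`, `nrm_UA` for the standard group `R.map (conj P)` as hypotheses -/
theorem c6pe3w_core (hF : Fintype.card F = p) (hp3 : p % 3 = 2) {i : F} {R : Subgroup (GL (Fin 4) F)} (P : GL (Fin 4) F) (h2 : (2 : F) ≠ 0)
    (hUB : Nrm (R.map (MulAut.conj P).toMonoidHom) (UB i) ∧ UB i * UB i + (2 : F) • UB i + (4 : F) • (1 : M4 F) = 0)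
    (hUA : Nrm (R.map (MulAut.conj P).toMonoidHom) (UA i) ∧ UA i ^ 3 = (64 : F) • (1 : M4 F) ∧ (UA i - (4 : F) • (1 : M4 F)).det = 0 ∧
      UA i ≠ (4 : F) • (1 : M4 F)) :
    (∃ y : M4 F, Nrm R y ∧ y ^ 3 = 1 ∧ y.charpoly = (X ^ 2 + X + 1 : F[X]) ^ 2) ∧
    (∃ y : M4 F, Nrm R y ∧ y ^ 3 = 1 ∧ y.charpoly = (X - C (1 : F)) ^ 2 * (X ^ 2 + X + 1 : F[X])) := by
  have h4 : (4 : F) ≠ 0 := by
    have : (4 : F) = 2 * 2 := by norm_num
    rw [this]; exact mul_ne_zero h2 h2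
  have h3 : (3 : F) ≠ 0 := c6pe3w_three_ne hp3
  have hirr : Irreducible (X ^ 2 + X + 1 : F[X]) := irr_three hF hp3
  have hmon : (X ^ 2 + X + 1 : F[X]).Monic := c6pe3w_monic_quad
  constructor
  · obtain ⟨hN, hq⟩ := hUB
    obtain ⟨e2, e3⟩ := c6pe3w_quad_of_UB h2 (UB i) hq
    have hN' := nrm_smul _ (UB i) hN (2 : F)⁻¹ (inv_ne_zero h2)
    obtain ⟨t1, t2, t3⟩ := c6pe3w_transport R P _ 3 hN' e3
    refine ⟨_, t1, t2, ?_⟩
    rw [t3]
    have hae : aeval ((2 : F)⁻¹ • UB i) (X ^ 2 + X + 1 : F[X]) = 0 := by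
      simp only [map_add, map_pow, aeval_X, map_one]
      exact e2
    obtain ⟨k, hk⟩ := lchar_one ((2 : F)⁻¹ • UB i) _ hmon hirr hae
    have hdeg := Matrix.charpoly_natDegree_eq_dim ((2 : F)⁻¹ • UB i)
    rw [hk, hmon.natDegree_pow, c6pe3w_deg_quad, Fintype.card_fin] at hdeg
    have hk2 : k = 2 := by omega
    rw [hk, hk2]
  · obtain ⟨hN, hc, hd, hne⟩ := hUA
    have hN' := nrm_smul _ (UA i) hN (4 : F)⁻¹ (inv_ne_zero h4)
    have e3 : ((4 : F)⁻¹ • UA i) ^ 3 = 1 := by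
      rw [_root_.smul_pow, hc, smul_smul]
      have : ((4 : F)⁻¹) ^ 3 * 64 = 1 := by
        field_simp
        norm_num
      rw [this, one_smul]
    obtain ⟨t1, t2, t3⟩ := c6pe3w_transport R P _ 3 hN' e3
    refine ⟨_, t1, t2, ?_⟩
    rw [t3]
    have hne1 : (4 : F)⁻¹ • UA i ≠ 1 := by
      intro h1
      apply hne
      rw [← one_smul F (UA i), ← mul_inv_cancel₀ h4, ← smul_smul, h1]
    have hdet : ((4 : F)⁻¹ • UA i - (1 : F) • (1 : M4 F)).det = 0 := by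
      have : (4 : F)⁻¹ • UA i - (1 : F) • (1 : M4 F) = (4 : F)⁻¹ • (UA i - (4 : F) • (1 : M4 F)) := by
        rw [smul_sub, smul_smul, inv_mul_cancel₀ h4]
      rw [this, Matrix.det_smul, hd, mul_zero]
    have hXm : (X - C (1 : F)).Monic := monic_X_sub_C 1
    have hXi : Irreducible (X - C (1 : F)) := irreducible_X_sub_C 1
    have hae : aeval ((4 : F)⁻¹ • UA i) ((X - C (1 : F)) * (X ^ 2 + X + 1 : F[X])) = 0 := by
      have : ((X - C (1 : F)) * (X ^ 2 + X + 1 : F[X])) = X ^ 3 - 1 := by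
        rw [map_one]; ring
      rw [this]
      simp only [map_sub, map_pow, aeval_X, map_one]
      rw [e3, sub_self]
    obtain ⟨j, k, hjk⟩ := lchar_two ((4 : F)⁻¹ • UA i) _ _ hXm hmon hXi hirr hae
    have hdeg := Matrix.charpoly_natDegree_eq_dim ((4 : F)⁻¹ • UA i)
    rw [hjk, (hXm.pow j).natDegree_mul (hmon.pow k), hXm.natDegree_pow, hmon.natDegree_pow, c6pe3w_deg_quad,
      natDegree_X_sub_C, Fintype.card_fin] at hdeg
    have hlone := lone ((4 : F)⁻¹ • UA i) 3 (by exact_mod_cast h3) e3 hne1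
    have hroot := lroot ((4 : F)⁻¹ • UA i) 1 hdet
    have hk0 : k ≠ 0 := by
      intro hk0
      apply hlone
      have hj4 : j = 4 := by omega
      rw [hjk, hk0, hj4, pow_zero, mul_one]
    have hj0 : j ≠ 0 := by
      intro hj0
      rw [hjk, hj0, pow_zero, one_mul, dvd_iff_isRoot, IsRoot.def, eval_pow] at hroot
      simp at hroot
      apply h3
      have h111 : (1 : F) + 1 + 1 = 0 := hroot.1
      linear_combination h111
    have hk1 : k = 1 := by omega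
    have hj2 : j = 2 := by omega
    rw [hjk, hk1, hj2, pow_one]

end fin

end Cfsg.Agent.Lib.Helper10.C6P
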