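import Mathlib
import Cfsg.Agent.Lib.Helper10.C6P.Defs
import Cfsg.Agent.Lib.helper23.C6PLCHAR1
import Cfsg.Agent.Lib.helper23.C6PLONE
import Cfsg.Agent.Lib.Helper27.C6PEROOT
import Cfsg.Agent.Lib.Helper11.C6PE3Wcore

set_option autoImplicit false
set_option linter.unusedVariables false
set_option linter.unusedSectionVars false

/-!
# Project C6P (S6000; designer helper10), row E5W (`wit_five`), CORE: an order-5 element with characteristic polynomial `Φ_5` in `N(R)`, with the conclusion of WY5 as hypothesis (helper11).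
-/

namespace Cfsg.Agent.Lib.Helper10.C6P

open Polynomial Matrix

variable {F : Type*} [Field F]

section fin

variable [Fintype F] {p : ℕ} [Fact p.Prime] [CharP F p]

theorem c6pe5w_arith (h5 : orderOf (p : ZMod 5) = 4) : p ≠ 5 ∧ Nat.Coprime 5 (p - 1) := by
  have hp : p.Prime := Fact.out
  have : Fact (1 < 5) := ⟨by norm_num⟩
  constructor
  · intro hp5
    rw [hp5] at h5
    have : ((5 : ℕ) : ZMod 5) = 0 := by decide
    rw [this, orderOf_zero] at h5
    omega
  · rw [Nat.Prime.coprime_iff_not_dvd Nat.prime_five]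
    intro hdvd
    have h2 : 2 ≤ p := hp.two_le
    have hcast : ((p - 1 : ℕ) : ZMod 5) = 0 := (ZMod.natCast_eq_zero_iff _ _).mpr hdvd
    have hp1 : (p : ZMod 5) = 1 := by
      have : p = (p - 1) + 1 := by omega
      rw [this, Nat.cast_add, hcast, zero_add, Nat.cast_one]
    rw [hp1, orderOf_one] at h5
    omega

/-- core of E5W: the conclusion of `nrm_Y5` for the standard group `R.map (conj P)` as hypothesis -/
theorem c6pe5w_core (hF : Fintype.card F = p) (h5 : orderOf (p : ZMod 5) = 4) {i : F} {R : Subgroup (GL (Fin 4) F)} (P : GL (Fin 4) F)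
    (hi : i * i = -1) (h2 : (2 : F) ≠ 0)
    (hY5 : Nrm (R.map (MulAut.conj P).toMonoidHom) (Y5 i) ∧ Y5 i ^ 5 = ((32 : F) * i) • (1 : M4 F) ∧ ∀ c : F, Y5 i ≠ c • (1 : M4 F)) :
    ∃ y : M4 F, Nrm R y ∧ y ^ 5 = 1 ∧ y.charpoly = cyclotomic 5 F := by
  obtain ⟨hp5, hcop⟩ := c6pe5w_arith (p := p) h5
  have hi0 : i ≠ 0 := by
    intro h0
    rw [h0, mul_zero] at hi
    exact one_ne_zero (neg_eq_zero.mp hi.symm)
  have h32 : (32 : F) ≠ 0 := by
    have : (32 : F) = 2 ^ 5 := by norm_num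
    rw [this]; exact pow_ne_zero 5 h2
  have hz : (32 : F) * i ≠ 0 := mul_ne_zero h32 hi0
  obtain ⟨w, hw0, hw⟩ := exists_root hF 5 hcop ((32 : F) * i) hz
  have h5F : ((5 : ℕ) : F) ≠ 0 := by
    intro h50
    rw [CharP.cast_eq_zero_iff F p 5] at h50
    exact hp5 ((Nat.prime_dvd_prime_iff_eq (Fact.out : p.Prime) Nat.prime_five).mp h50)
  obtain ⟨hN, hc, hns⟩ := hY5
  have hN' := nrm_smul _ (Y5 i) hN w⁻¹ (inv_ne_zero hw0)
  have e5 : (w⁻¹ • Y5 i) ^ 5 = 1 := by
    rw [_root_.smul_pow, hc, smul_smul, inv_pow, hw, inv_mul_cancel₀ hz, one_smul]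
  obtain ⟨t1, t2, t3⟩ := c6pe3w_transport R P _ 5 hN' e5
  refine ⟨_, t1, t2, ?_⟩
  rw [t3]
  have hne1 : w⁻¹ • Y5 i ≠ 1 := by
    intro h1
    apply hns w
    rw [← one_smul F (Y5 i), ← mul_inv_cancel₀ hw0, ← smul_smul, h1]
  have hXm : (X - C (1 : F)).Monic := monic_X_sub_C 1
  have hXi : Irreducible (X - C (1 : F)) := irreducible_X_sub_C 1
  have hcm : (cyclotomic 5 F).Monic := cyclotomic.monic 5 F
  have hci : Irreducible (cyclotomic 5 F) := irr_five hF h5
  have hae : aeval (w⁻¹ • Y5 i) ((X - C (1 : F)) * cyclotomic 5 F) = 0 := by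
    have : Fact (Nat.Prime 5) := ⟨Nat.prime_five⟩
    have : ((X - C (1 : F)) * cyclotomic 5 F) = X ^ 5 - 1 := by
      rw [map_one, mul_comm, cyclotomic_prime_mul_X_sub_one]
    rw [this]
    simp only [map_sub, map_pow, aeval_X, map_one]
    rw [e5, sub_self]
  obtain ⟨j, k, hjk⟩ := lchar_two (w⁻¹ • Y5 i) _ _ hXm hcm hXi hci hae
  have hdeg := Matrix.charpoly_natDegree_eq_dim (w⁻¹ • Y5 i)
  have hdc : (cyclotomic 5 F).natDegree = 4 := by
    rw [natDegree_cyclotomic, Nat.totient_prime Nat.prime_five]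
  rw [hjk, (hXm.pow j).natDegree_mul (hcm.pow k), hXm.natDegree_pow, hcm.natDegree_pow, hdc,
    natDegree_X_sub_C, Fintype.card_fin] at hdeg
  have hlone := lone (w⁻¹ • Y5 i) 5 h5F e5 hne1
  have hk0 : k ≠ 0 := by
    intro hk0
    apply hlone
    have hj4 : j = 4 := by omega
    rw [hjk, hk0, hj4, pow_zero, mul_one]
  have hk1 : k = 1 := by omega
  have hj0 : j = 0 := by omega
  rw [hjk, hk1, hj0, pow_zero, one_mul, pow_one]

end fin

end Cfsg.Agent.Lib.Helper10.C6P
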