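import Mathlib
import Cfsg.Prelude.Def_Characters
import Cfsg.Agent.Lib.Helper11.BrauerCount
import Cfsg.Agent.Lib.Helper11.CyclicSZ
import Cfsg.Agent.S1512

set_option autoImplicit false
open scoped ComplexConjugate

namespace Cfsg.Agent.Lib.Helper11

open Cfsg.Agent.Lib.helper7 Cfsg.Agent.Lib.Helper25

theorem card_centralizer_of_isConj {K : Type*} [Group K] [Finite K] {n w : K}
    (h : IsConj w n) :
    Nat.card (Subgroup.centralizer ({n} : Set K)) =
      Nat.card (Subgroup.centralizer ({w} : Set K)) := by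
  have h1 := card_conj_mul_card_centralizer n
  have h2 := card_conj_mul_card_centralizer w
  have h3 : Nat.card {x : K // IsConj n x} = Nat.card {x : K // IsConj w x} := by
    apply Nat.card_congr
    apply Equiv.subtypeEquivRight
    intro x
    exact ⟨fun hx => h.trans hx, fun hx => h.symm.trans hx⟩
  rw [h3] at h1
  have hpos : 0 < Nat.card {x : K // IsConj w x} := by
    have : Nonempty {x : K // IsConj w x} := ⟨⟨w, IsConj.refl w⟩⟩
    exact Nat.card_pos
  exact Nat.eq_of_mul_eq_mul_left hpos (h1.trans h2.symm)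

theorem sum_card_centralizer_class {K : Type*} [Group K] [Fintype K]
    [DecidableRel (IsConj : K → K → Prop)] (w : K) :
    ∑ n : K, (if IsConj w n then Nat.card (Subgroup.centralizer ({n} : Set K)) else 0) =
      Nat.card K := by
  have h1 : ∀ n : K, (if IsConj w n then Nat.card (Subgroup.centralizer ({n} : Set K)) else 0) =
      if IsConj w n then Nat.card (Subgroup.centralizer ({w} : Set K)) else 0 := by
    intro n
    by_cases h : IsConj w n
    · rw [if_pos h, if_pos h, card_centralizer_of_isConj h]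
    · rw [if_neg h, if_neg h]
  rw [Finset.sum_congr rfl (fun n _ => h1 n), ← Finset.sum_filter, Finset.sum_const,
    smul_eq_mul, ← card_conj_mul_card_centralizer w]
  congr 1
  rw [Nat.card_eq_fintype_card, Fintype.card_subtype]

/-- elements of the centralizer of a coprime automorphism that are conjugate in `K` are equal,
when this centralizer is abelian -/
theorem eq_of_conj_in_fixed {L : Type*} [Group L] [Finite L] (K W₂ : Subgroup L)
    [hK : K.Normal] (x : L) (hcop : Nat.Coprime (orderOf x) (Nat.card K))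
    (hW : K ⊓ Subgroup.centralizer ({x} : Set L) = W₂)
    (hab : ∀ a ∈ W₂, ∀ b ∈ W₂, a * b = b * a) (w w' k : L) (hw : w ∈ W₂) (hw' : w' ∈ W₂)
    (hk : k ∈ K) (h : k * w * k⁻¹ = w') : w = w' := by
  have hxw : x * w = w * x := by
    have : w ∈ K ⊓ Subgroup.centralizer ({x} : Set L) := by rw [hW]; exact hw
    exact (Subgroup.mem_centralizer_singleton_iff.mp (Subgroup.mem_inf.mp this).2).symm
  have hxw' : x * w' = w' * x := by
    have : w' ∈ K ⊓ Subgroup.centralizer ({x} : Set L) := by rw [hW]; exact hw'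
    exact (Subgroup.mem_centralizer_singleton_iff.mp (Subgroup.mem_inf.mp this).2).symm
  have hxinvw : x⁻¹ * w = w * x⁻¹ := by
    calc x⁻¹ * w = x⁻¹ * (w * x) * x⁻¹ := by group
      _ = x⁻¹ * (x * w) * x⁻¹ := by rw [hxw]
      _ = w * x⁻¹ := by group
  have hg : x ∈ Subgroup.normalizer ((K ⊓ Subgroup.centralizer ({w} : Set L) : Subgroup L) :
      Set L) := by
    rw [Subgroup.mem_normalizer_iff]
    intro c
    constructor
    · intro hc
      obtain ⟨hcK, hcw⟩ := Subgroup.mem_inf.mp hc
      have hcw' := Subgroup.mem_centralizer_singleton_iff.mp hcw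
      refine Subgroup.mem_inf.mpr ⟨hK.conj_mem c hcK x, ?_⟩
      rw [Subgroup.mem_centralizer_singleton_iff]
      calc x * c * x⁻¹ * w = x * c * (x⁻¹ * w) := by group
        _ = x * c * (w * x⁻¹) := by rw [hxinvw]
        _ = x * (c * w) * x⁻¹ := by group
        _ = x * (w * c) * x⁻¹ := by rw [hcw']
        _ = (x * w) * c * x⁻¹ := by group
        _ = (w * x) * c * x⁻¹ := by rw [hxw]
        _ = w * (x * c * x⁻¹) := by group
    · intro hc
      obtain ⟨hcK, hcw⟩ := Subgroup.mem_inf.mp hc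
      have hcw' := Subgroup.mem_centralizer_singleton_iff.mp hcw
      have hcK' : c ∈ K := by
        have := hK.conj_mem _ hcK x⁻¹
        simpa [mul_assoc] using this
      refine Subgroup.mem_inf.mpr ⟨hcK', ?_⟩
      rw [Subgroup.mem_centralizer_singleton_iff]
      calc c * w = x⁻¹ * ((x * c * x⁻¹) * (x * w)) := by group
        _ = x⁻¹ * ((x * c * x⁻¹) * (w * x)) := by rw [hxw]
        _ = x⁻¹ * (((x * c * x⁻¹) * w) * x) := by group
        _ = x⁻¹ * ((w * (x * c * x⁻¹)) * x) := by rw [hcw']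
        _ = (x⁻¹ * w) * x * c := by group
        _ = (w * x⁻¹) * x * c := by rw [hxinvw]
        _ = w * c := by group
  have hy : (k⁻¹ * x * k) * x⁻¹ ∈ K ⊓ Subgroup.centralizer ({w} : Set L) := by
    refine Subgroup.mem_inf.mpr ⟨?_, ?_⟩
    · have h1 : k⁻¹ * x * k * x⁻¹ = k⁻¹ * (x * k * x⁻¹) := by group
      rw [h1]
      exact K.mul_mem (K.inv_mem hk) (hK.conj_mem k hk x)
    · rw [Subgroup.mem_centralizer_singleton_iff]
      have hw'eq : w = k⁻¹ * w' * k := by rw [← h]; group
      calc k⁻¹ * x * k * x⁻¹ * w = k⁻¹ * x * k * (x⁻¹ * w) := by group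
        _ = k⁻¹ * x * k * (w * x⁻¹) := by rw [hxinvw]
        _ = k⁻¹ * x * (k * w * k⁻¹) * k * x⁻¹ := by group
        _ = k⁻¹ * (x * w') * k * x⁻¹ := by rw [h]; group
        _ = k⁻¹ * (w' * x) * k * x⁻¹ := by rw [hxw']
        _ = (k⁻¹ * w' * k) * (k⁻¹ * x * k * x⁻¹) := by group
        _ = w * (k⁻¹ * x * k * x⁻¹) := by rw [← hw'eq]
  have hxn : x ^ orderOf x = 1 := pow_orderOf_eq_one x
  have hyn : (k⁻¹ * x * k) ^ orderOf x = 1 := by
    have : k⁻¹ * x * k = k⁻¹ * x * k⁻¹⁻¹ := by rw [inv_inv]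
    rw [this, conj_pow, hxn]
    group
  have hcop' : (orderOf x).Coprime (Nat.card ↥(K ⊓ Subgroup.centralizer ({w} : Set L))) :=
    Nat.Coprime.coprime_dvd_right (Subgroup.card_dvd_of_le inf_le_left) hcop
  obtain ⟨c, hc, hcx⟩ := conj_of_coprime (orderOf x) _ x (k⁻¹ * x * k) hg hy hxn hyn hcop'
  obtain ⟨hcK, hcw⟩ := Subgroup.mem_inf.mp hc
  have hcw' := Subgroup.mem_centralizer_singleton_iff.mp hcw
  have hw₂ : k * c⁻¹ ∈ W₂ := by
    rw [← hW]
    refine Subgroup.mem_inf.mpr ⟨K.mul_mem hk (K.inv_mem hcK), ?_⟩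
    rw [Subgroup.mem_centralizer_singleton_iff]
    calc k * c⁻¹ * x = k * c⁻¹ * (c * (k⁻¹ * x * k) * c⁻¹) := by rw [hcx]
      _ = x * (k * c⁻¹) := by group
  have hcwc : c * w * c⁻¹ = w := by
    calc c * w * c⁻¹ = (c * w) * c⁻¹ := by group
      _ = (w * c) * c⁻¹ := by rw [hcw']
      _ = w := by group
  calc w = (k * c⁻¹) * w * (k * c⁻¹)⁻¹ := by
        have := hab _ hw₂ w hw
        calc w = w * (k * c⁻¹) * (k * c⁻¹)⁻¹ := by group
          _ = (k * c⁻¹) * w * (k * c⁻¹)⁻¹ := by rw [← this]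
    _ = k * (c⁻¹ * w * c) * k⁻¹ := by group
    _ = k * w * k⁻¹ := by
        have : c⁻¹ * w * c = w := by
          calc c⁻¹ * w * c = c⁻¹ * (c * w * c⁻¹) * c := by rw [hcwc]
            _ = w := by group
        rw [this]
    _ = w' := h

/-- the number of irreducible characters of `K` fixed by a coprime element `y` whose centralizer
in `K` is the abelian group `W₂` is `|W₂|` -/
theorem card_fixed_irr_eq {L : Type*} [Group L] [Fintype L] (K W₂ : Subgroup L)
    [hK : K.Normal] [Fintype K] [Fintype (Cfsg.IrrCharacter K)] [DecidableEq (K → ℂ)]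
    (y : L) (hcop : Nat.Coprime (orderOf y) (Nat.card K))
    (hW : K ⊓ Subgroup.centralizer ({y} : Set L) = W₂)
    (hab : ∀ a ∈ W₂, ∀ b ∈ W₂, a * b = b * a) :
    (Finset.univ.filter
      (fun θ : Cfsg.IrrCharacter K => cj K (θ : K → ℂ) y = (θ : K → ℂ))).card =
      Nat.card W₂ := by
  classical
  have : Fintype W₂ := Fintype.ofFinite _
  have hcount := card_fixed_mul_card K y
  have hWK : ∀ w : W₂, (w : L) ∈ K := fun w => by
    have : (w : L) ∈ K ⊓ Subgroup.centralizer ({y} : Set L) := by rw [hW]; exact w.2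
    exact (Subgroup.mem_inf.mp this).1
  have hWy : ∀ w : W₂, y * (w : L) * y⁻¹ = w := fun w => by
    have : (w : L) ∈ K ⊓ Subgroup.centralizer ({y} : Set L) := by rw [hW]; exact w.2
    have h1 := Subgroup.mem_centralizer_singleton_iff.mp (Subgroup.mem_inf.mp this).2
    rw [← h1]
    group
  -- each fixed class contains exactly one element of `W₂`
  have hterm : ∀ n : K, (if IsConj n (cjElt K y n) then
      Nat.card (Subgroup.centralizer ({n} : Set K)) else 0) =
      ∑ w : W₂, if IsConj (⟨(w : L), hWK w⟩ : K) n then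
        Nat.card (Subgroup.centralizer ({n} : Set K)) else 0 := by
    intro n
    by_cases hn : IsConj n (cjElt K y n)
    · rw [if_pos hn]
      obtain ⟨u, hu⟩ := isConj_iff.mp hn.symm
      have hu' : (u : L) * (y * (n : L) * y⁻¹) * (u : L)⁻¹ = n := by
        have := congrArg Subtype.val hu
        simpa [cjElt] using this
      obtain ⟨v, hvK, hv⟩ := Cfsg.Agent.S1512.fixed_rep K y hcop n u n.2 u.2 hu'
      have hk'K : v * (n : L) * v⁻¹ ∈ K := hK.conj_mem _ n.2 v
      have hk'W : v * (n : L) * v⁻¹ ∈ W₂ := by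
        rw [← hW]
        refine Subgroup.mem_inf.mpr ⟨hk'K, ?_⟩
        rw [Subgroup.mem_centralizer_singleton_iff]
        exact hv.symm
      rw [Finset.sum_eq_single (⟨v * (n : L) * v⁻¹, hk'W⟩ : W₂)]
      · rw [if_pos]
        rw [isConj_iff]
        refine ⟨⟨v, hvK⟩⁻¹, ?_⟩
        apply Subtype.ext
        simp only [Subgroup.coe_mul, Subgroup.coe_inv, inv_inv]
        group
      · intro w _ hne
        rw [if_neg]
        intro hwn
        apply hne
        obtain ⟨k, hk⟩ := isConj_iff.mp hwn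
        have hk' : (k : L) * (w : L) * (k : L)⁻¹ = n := by
          have := congrArg Subtype.val hk
          simpa using this
        have h1 : (v * (k : L)) * (w : L) * (v * (k : L))⁻¹ = v * (n : L) * v⁻¹ := by
          rw [← hk']
          group
        have := eq_of_conj_in_fixed K W₂ y hcop hW hab (w : L) (v * (n : L) * v⁻¹)
          (v * (k : L)) w.2 hk'W (K.mul_mem hvK k.2) h1
        exact Subtype.ext this
      · intro h
        exact absurd (Finset.mem_univ _) h
    · rw [if_neg hn]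
      symm
      apply Finset.sum_eq_zero
      intro w _
      rw [if_neg]
      intro hwn
      apply hn
      obtain ⟨k, hk⟩ := isConj_iff.mp hwn
      have hk' : (k : L) * (w : L) * (k : L)⁻¹ = n := by
        have := congrArg Subtype.val hk
        simpa using this
      rw [isConj_iff]
      refine ⟨⟨y * (k : L) * y⁻¹, hK.conj_mem _ k.2 y⟩ * k⁻¹, ?_⟩
      apply Subtype.ext
      simp only [Subgroup.coe_mul, Subgroup.coe_inv, cjElt]
      rw [← hk']
      have := hWy w
      calc y * (k : L) * y⁻¹ * (k : L)⁻¹ * ((k : L) * (w : L) * (k : L)⁻¹) *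
            (y * (k : L) * y⁻¹ * (k : L)⁻¹)⁻¹
          = y * (k : L) * (y⁻¹ * (w : L) * y) * (k : L)⁻¹ * y⁻¹ := by group
        _ = y * (k : L) * (y⁻¹ * (y * (w : L) * y⁻¹) * y) * (k : L)⁻¹ * y⁻¹ := by rw [this]
        _ = y * ((k : L) * (w : L) * (k : L)⁻¹) * y⁻¹ := by group
  rw [Finset.sum_congr rfl (fun n _ => hterm n), Finset.sum_comm] at hcount
  have h2 : ∀ w : W₂, ∑ n : K, (if IsConj (⟨(w : L), hWK w⟩ : K) n then
      Nat.card (Subgroup.centralizer ({n} : Set K)) else 0) = Nat.card K :=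
    fun w => sum_card_centralizer_class _
  rw [Finset.sum_congr rfl (fun w _ => h2 w), Finset.sum_const, Finset.card_univ,
    smul_eq_mul, ← Nat.card_eq_fintype_card] at hcount
  exact Nat.eq_of_mul_eq_mul_right Nat.card_pos hcount

end Cfsg.Agent.Lib.Helper11
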