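import Mathlib

set_option autoImplicit false

namespace Cfsg.Agent.Lib.Helper11.OrbitSum

open Classical in
/-- weighted sums of an invariant function over an invariant finite set: the weights
`|stabilizer| / |group|` add up to `1` on each orbit -/
theorem orbit_sum {Γ X V : Type*} [Group Γ] [Fintype Γ] [MulAction Γ X]
    [AddCommGroup V] [Module ℂ V]
    (P : V → Prop) (hP0 : P 0) (hPadd : ∀ u v, P u → P v → P (u + v))
    (f : X → V) :
    ∀ (n : ℕ) (s : Finset X), s.card ≤ n → (∀ (γ : Γ) (x : X), x ∈ s → γ • x ∈ s) →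
      (∀ (γ : Γ) (x : X), x ∈ s → f (γ • x) = f x) →
      (∀ x ∈ s, P (f x)) →
      P (∑ x ∈ s, ((Nat.card (MulAction.stabilizer Γ x) : ℂ) / (Nat.card Γ : ℂ)) • f x) := by
  intro n
  induction n with
  | zero =>
    intro s hs _ _ _
    rw [Finset.card_eq_zero.mp (Nat.le_zero.mp hs), Finset.sum_empty]
    exact hP0
  | succ n ih =>
    intro s hs hinv hf hPf
    rcases Finset.eq_empty_or_nonempty s with rfl | ⟨x₀, hx₀⟩
    · rw [Finset.sum_empty]; exact hP0
    haveI : Fintype ↑(MulAction.orbit Γ x₀) :=
      (Set.finite_range (fun γ : Γ => γ • x₀)).fintype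
    rw [← Finset.sum_filter_add_sum_filter_not s (fun y => y ∈ MulAction.orbit Γ x₀)]
    apply hPadd
    · -- the orbit of x₀
      have hO : s.filter (fun y => y ∈ MulAction.orbit Γ x₀) =
          (MulAction.orbit Γ x₀).toFinset := by
        ext y
        rw [Finset.mem_filter, Set.mem_toFinset]
        constructor
        · exact fun h => h.2
        · intro h
          obtain ⟨γ, rfl⟩ := h
          exact ⟨hinv γ x₀ hx₀, ⟨γ, rfl⟩⟩
      have h1 : ∀ y ∈ s.filter (fun y => y ∈ MulAction.orbit Γ x₀),
          ((Nat.card (MulAction.stabilizer Γ y) : ℂ) / (Nat.card Γ : ℂ)) • f y =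
          ((Nat.card (MulAction.stabilizer Γ x₀) : ℂ) / (Nat.card Γ : ℂ)) • f x₀ := by
        intro y hy
        obtain ⟨γ, rfl⟩ := (Finset.mem_filter.mp hy).2
        have h2 : Nat.card (MulAction.stabilizer Γ (γ • x₀)) =
            Nat.card (MulAction.stabilizer Γ x₀) := by
          rw [MulAction.stabilizer_smul_eq_stabilizer_map_conj]
          exact Nat.card_congr
            ((MulAction.stabilizer Γ x₀).equivMapOfInjective (MulAut.conj γ).toMonoidHom
              (MulAut.conj γ).injective).toEquiv.symm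
        show ((Nat.card (MulAction.stabilizer Γ (γ • x₀)) : ℂ) / (Nat.card Γ : ℂ)) • f (γ • x₀) = _
        rw [h2, hf γ x₀ hx₀]
      rw [Finset.sum_congr rfl h1, Finset.sum_const, hO, Set.toFinset_card]
      have h3 := MulAction.card_orbit_mul_card_stabilizer_eq_card_group Γ x₀
      have hΓ : (Nat.card Γ : ℂ) ≠ 0 := by exact_mod_cast Nat.card_pos.ne'
      have h4 : (Fintype.card (MulAction.orbit Γ x₀) : ℂ) *
          (Nat.card (MulAction.stabilizer Γ x₀) : ℂ) = (Nat.card Γ : ℂ) := by
        rw [Nat.card_eq_fintype_card, Nat.card_eq_fintype_card]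
        exact_mod_cast h3
      rw [← Nat.cast_smul_eq_nsmul ℂ, smul_smul]
      have h5 : (Fintype.card (MulAction.orbit Γ x₀) : ℂ) *
          ((Nat.card (MulAction.stabilizer Γ x₀) : ℂ) / (Nat.card Γ : ℂ)) = 1 := by
        rw [← mul_div_assoc, h4, div_self hΓ]
      rw [h5, one_smul]
      exact hPf x₀ hx₀
    · apply ih
      · have h1 : (s.filter (fun y => ¬ y ∈ MulAction.orbit Γ x₀)).card < s.card := by
          apply Finset.card_lt_card
          refine ⟨Finset.filter_subset _ _, fun h => ?_⟩
          have := h hx₀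
          exact (Finset.mem_filter.mp this).2 (MulAction.mem_orbit_self x₀)
        omega
      · intro γ x hx
        obtain ⟨hxs, hxo⟩ := Finset.mem_filter.mp hx
        rw [Finset.mem_filter]
        refine ⟨hinv γ x hxs, fun h => hxo ?_⟩
        obtain ⟨δ, hδ⟩ := h
        refine ⟨γ⁻¹ * δ, ?_⟩
        show (γ⁻¹ * δ) • x₀ = x
        rw [mul_smul]
        have : δ • x₀ = γ • x := hδ
        rw [this, inv_smul_smul]
      · intro γ x hx
        exact hf γ x (Finset.mem_filter.mp hx).1
      · intro x hx
        exact hPf x (Finset.mem_filter.mp hx).1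

end Cfsg.Agent.Lib.Helper11.OrbitSum
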