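import Mathlib
import Cfsg.Prelude.Def_Characters
import Cfsg.Prelude.Def_OddOrderChar
import Cfsg.Agent.S1528
import Cfsg.Agent.Lib.Helper25.CharOrth
import Cfsg.Agent.Lib.Helper25.CharLinear
import Cfsg.Agent.Lib.helper2.CharInt
import Cfsg.Agent.Lib.helper2.CharNat
import Cfsg.Agent.Lib.Helper11.IndNormal
import Cfsg.Agent.Lib.Helper11.AbelianQuot
import Cfsg.Agent.Lib.Helper11.Coherence
import Cfsg.Agent.Lib.Helper11.VirtChar

set_option autoImplicit false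
open scoped ComplexConjugate

namespace Cfsg.Agent.Lib.Helper11

open Cfsg.Agent.Lib.helper7 Cfsg.Agent.Lib.Helper25 Cfsg.Agent.Lib.helper2

/-- the irreducible characters of `N` that are not constant on the normal subgroup `K` -/
def tifnSet {N : Type*} [Group N] (K : Subgroup N) : Set (N → ℂ) :=
  {χ | Cfsg.IsIrrCharacter N χ ∧ ∃ k : N, k ∈ K ∧ χ k ≠ χ 1}

theorem tifn_induced {N : Type*} [Group N] [Fintype N] (K : Subgroup N) [K.Normal]
    (hC : ∀ k ∈ K, k ≠ 1 → Subgroup.centralizer ({k} : Set N) ≤ K) {χ : N → ℂ}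
    (hχ : χ ∈ tifnSet K) :
    ∃ θ : K → ℂ, Cfsg.IsIrrCharacter K θ ∧ χ = Cfsg.indFun K θ := by
  obtain ⟨k, hk, h⟩ := hχ.2
  exact Cfsg.Agent.S1528.result K hC χ hχ.1 ⟨k, hk, h⟩

theorem tifn_vanish {N : Type*} [Group N] [Fintype N] (K : Subgroup N) [K.Normal]
    (hC : ∀ k ∈ K, k ≠ 1 → Subgroup.centralizer ({k} : Set N) ≤ K) {χ : N → ℂ}
    (hχ : χ ∈ tifnSet K) (x : N) (hx : x ∉ K) : χ x = 0 := by
  obtain ⟨θ, -, rfl⟩ := tifn_induced K hC hχ
  exact indFun_eq_zero_of_not_mem K θ x hx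

theorem tifn_degree {N : Type*} [Group N] [Fintype N] (K : Subgroup N) [K.Normal]
    (hC : ∀ k ∈ K, k ≠ 1 → Subgroup.centralizer ({k} : Set N) ≤ K) {χ : N → ℂ}
    (hχ : χ ∈ tifnSet K) :
    ∃ t : ℕ, 0 < t ∧ χ 1 = (K.index : ℂ) * (t : ℂ) ∧ t ∣ Nat.card K := by
  obtain ⟨θ, hθ, rfl⟩ := tifn_induced K hC hχ
  obtain ⟨t, ht, h1, h2⟩ := irr_degree_dvd_card (⟨θ, hθ⟩ : Cfsg.IrrCharacter K)
  refine ⟨t, ht, ?_, h2⟩
  rw [h7_indFun_one]
  rw [show θ 1 = (t : ℂ) from h1]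

theorem sum_indFun_normal {N : Type*} [Group N] [Fintype N] (K : Subgroup N) [hK : K.Normal]
    [Fintype K] (θ : K → ℂ) :
    ∑ k : K, Cfsg.indFun K θ k = (K.index : ℂ) * ∑ k : K, θ k := by
  have hKne : (Nat.card K : ℂ) ≠ 0 := by exact_mod_cast Nat.card_pos.ne'
  simp only [indFun_normal_apply]
  rw [← Finset.mul_sum, Finset.sum_comm]
  have h1 : ∀ x : N, ∑ k : K, cj K θ x k = ∑ k : K, θ k := by
    intro x
    rw [← Equiv.sum_comp (MulAut.conjNormal x : K ≃* K).toEquiv θ]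
    apply Finset.sum_congr rfl
    intro k _
    rw [cj_apply]
    congr 1
  rw [Finset.sum_congr rfl (fun x _ => h1 x), Finset.sum_const, Finset.card_univ, nsmul_eq_mul]
  have hidx : (Fintype.card N : ℂ) = (K.index : ℂ) * (Nat.card K : ℂ) := by
    rw [← Nat.card_eq_fintype_card, ← Subgroup.index_mul_card K]; push_cast; ring
  rw [hidx]
  field_simp

theorem tifn_sum_zero {N : Type*} [Group N] [Fintype N] (K : Subgroup N) [hK : K.Normal]
    [Fintype K]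
    (hC : ∀ k ∈ K, k ≠ 1 → Subgroup.centralizer ({k} : Set N) ≤ K) {χ : N → ℂ}
    (hχ : χ ∈ tifnSet K) : ∑ k : K, χ k = 0 := by
  obtain ⟨θ, hθ, rfl⟩ := tifn_induced K hC hχ
  rw [sum_indFun_normal]
  by_cases htriv : θ = fun _ => 1
  · exfalso
    obtain ⟨k, hk, hne⟩ := hχ.2
    apply hne
    have hval : ∀ y : K, Cfsg.indFun K θ y = (Nat.card K : ℂ)⁻¹ * (Fintype.card N : ℂ) := by
      intro y
      rw [indFun_normal_apply]
      congr 1
      have : ∀ x : N, cj K θ x y = 1 := by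
        intro x
        rw [cj_apply, htriv]
      rw [Finset.sum_congr rfl (fun x _ => this x)]
      simp
    have h1 := hval ⟨k, hk⟩
    have h2 := hval 1
    simp only [Subgroup.coe_one] at h1 h2
    rw [h1, h2]
  · have h1 := irr_classInner (⟨θ, hθ⟩ : Cfsg.IrrCharacter K) (trivIrr K)
    rw [if_neg] at h1
    · unfold Cfsg.classInner at h1
      have hKne : (Nat.card K : ℂ) ≠ 0 := by exact_mod_cast Nat.card_pos.ne'
      have h2 : ∑ k : K, θ k = 0 := by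
        have := (mul_eq_zero.mp h1).resolve_left (inv_ne_zero hKne)
        simpa using this
      rw [h2, mul_zero]
    · intro h
      apply htriv
      have := congrArg Subtype.val h
      exact this

theorem irr_sum_deg_mul {N : Type*} [Group N] [Fintype N] [Fintype (Cfsg.IrrCharacter N)]
    (k : N) (hk : k ≠ 1) :
    ∑ ζ : Cfsg.IrrCharacter N, (ζ : N → ℂ) 1 * (ζ : N → ℂ) k = 0 := by
  classical
  have h := irr_column_orthogonality (G := N) k 1
  rw [if_neg] at h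
  · rw [← h]
    apply Finset.sum_congr rfl
    intro ζ _
    obtain ⟨n, -, hn⟩ := irr_one_eq_finrank ζ
    rw [hn, Complex.conj_natCast, mul_comm]
  · intro hc
    apply hk
    obtain ⟨c, hc⟩ := isConj_iff.mp hc
    rw [← hc]
    simp

theorem tifn_not_mem {N : Type*} [Group N] (K : Subgroup N) (ζ : Cfsg.IrrCharacter N)
    (h : (ζ : N → ℂ) ∉ tifnSet K) (k : N) (hk : k ∈ K) : (ζ : N → ℂ) k = (ζ : N → ℂ) 1 := by
  by_contra hne
  exact h ⟨ζ.2, k, hk, hne⟩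

theorem tifn_const {N : Type*} [Group N] [Fintype N] (K : Subgroup N)
    (f : N → ℂ) (hf : Cfsg.IsClassFunction N f) {χ₀ : N → ℂ} (hχ₀ : χ₀ ∈ tifnSet K)
    (horth : ∀ β ∈ Cfsg.zspanOn (tifnSet K) ({1}ᶜ : Set N), Cfsg.classInner f β = 0)
    (k k' : N) (hk : k ∈ K) (hk' : k' ∈ K) (hk1 : k ≠ 1) (hk'1 : k' ≠ 1) : f k = f k' := by
  classical
  have := Fintype.ofFinite (Cfsg.IrrCharacter N)
  obtain ⟨n₀, hn₀pos, hn₀⟩ := irr_one_eq_finrank (⟨χ₀, hχ₀.1⟩ : Cfsg.IrrCharacter N)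
  change χ₀ 1 = (n₀ : ℂ) at hn₀
  have hn₀ne : (n₀ : ℂ) ≠ 0 := by exact_mod_cast hn₀pos.ne'
  have hrel : ∀ ζ : Cfsg.IrrCharacter N, (ζ : N → ℂ) ∈ tifnSet K →
      Cfsg.classInner f (ζ : N → ℂ) = (Cfsg.classInner f χ₀ / (n₀ : ℂ)) * (ζ : N → ℂ) 1 := by
    intro ζ hζ
    obtain ⟨n, -, hn⟩ := irr_one_eq_finrank ζ
    have hβ : ((n₀ : ℤ) • (ζ : N → ℂ) - (n : ℤ) • χ₀) ∈
        Cfsg.zspanOn (tifnSet K) ({1}ᶜ : Set N) := by
      refine ⟨zspan_sub (zspan_zsmul _ (zspan_of_mem hζ)) (zspan_zsmul _ (zspan_of_mem hχ₀)), ?_⟩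
      intro x hx
      have hx1 : x = 1 := by
        by_contra h
        exact hx h
      subst hx1
      change (n₀ : ℤ) • (ζ : N → ℂ) 1 - (n : ℤ) • χ₀ 1 = 0
      rw [hn, hn₀, zsmul_eq_mul, zsmul_eq_mul]
      push_cast
      ring
    have h0 := horth _ hβ
    rw [classInner_sub_right'', classInner_zsmul_right, classInner_zsmul_right] at h0
    rw [hn]
    have h1 : (n₀ : ℂ) * Cfsg.classInner f (ζ : N → ℂ) = (n : ℂ) * Cfsg.classInner f χ₀ := by
      have := sub_eq_zero.mp h0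
      simpa using this
    field_simp
    rw [mul_comm, h1]
    ring
  have hexp := classFunction_expansion f hf
  have hval : ∀ y : N, f y = ∑ ζ : Cfsg.IrrCharacter N,
      Cfsg.classInner f (ζ : N → ℂ) * (ζ : N → ℂ) y := by
    intro y
    have := congrFun hexp y
    rw [Finset.sum_apply] at this
    simpa using this
  have hdiff : f k - f k' = ∑ ζ : Cfsg.IrrCharacter N,
      (Cfsg.classInner f χ₀ / (n₀ : ℂ)) *
        ((ζ : N → ℂ) 1 * (ζ : N → ℂ) k - (ζ : N → ℂ) 1 * (ζ : N → ℂ) k') := by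
    rw [hval k, hval k', ← Finset.sum_sub_distrib]
    apply Finset.sum_congr rfl
    intro ζ _
    by_cases hζ : (ζ : N → ℂ) ∈ tifnSet K
    · rw [hrel ζ hζ]
      ring
    · rw [tifn_not_mem K ζ hζ k hk, tifn_not_mem K ζ hζ k' hk']
      ring
  rw [← Finset.mul_sum, Finset.sum_sub_distrib, irr_sum_deg_mul k hk1,
    irr_sum_deg_mul k' hk'1] at hdiff
  have := sub_eq_zero.mp (hdiff.trans (by ring))
  exact this

theorem irr_sum_deg_sq {N : Type*} [Group N] [Fintype N] [Fintype (Cfsg.IrrCharacter N)] :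
    ∑ ζ : Cfsg.IrrCharacter N, (ζ : N → ℂ) 1 * (ζ : N → ℂ) 1 = (Nat.card N : ℂ) := by
  classical
  have h := irr_column_orthogonality (G := N) 1 1
  rw [if_pos (IsConj.refl 1)] at h
  have hc : Subgroup.centralizer ({1} : Set N) = ⊤ := by
    rw [eq_top_iff]
    intro x _
    rw [Subgroup.mem_centralizer_iff]
    intro y hy
    rw [Set.mem_singleton_iff] at hy
    subst hy
    simp
  rw [hc, Subgroup.card_top] at h
  rw [← h]
  apply Finset.sum_congr rfl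
  intro ζ _
  obtain ⟨n, -, hn⟩ := irr_one_eq_finrank ζ
  rw [hn, Complex.conj_natCast]

theorem tifn_sum_sq {N : Type*} [Group N] [Fintype N] [Fintype (Cfsg.IrrCharacter N)]
    (K : Subgroup N) [hK : K.Normal]
    (hC : ∀ k ∈ K, k ≠ 1 → Subgroup.centralizer ({k} : Set N) ≤ K)
    [DecidablePred fun ζ : Cfsg.IrrCharacter N => (ζ : N → ℂ) ∈ tifnSet K] :
    ∑ ζ : Cfsg.IrrCharacter N,
      (if (ζ : N → ℂ) ∈ tifnSet K then (ζ : N → ℂ) 1 * (ζ : N → ℂ) 1 else 0) =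
      (K.index : ℂ) * ((Nat.card K : ℂ) - 1) := by
  classical
  have := Fintype.ofFinite K
  have hKne : (Nat.card K : ℂ) ≠ 0 := by exact_mod_cast Nat.card_pos.ne'
  -- sum over `k ∈ K` of the column orthogonality relation
  have h1 : ∑ k : K, ∑ ζ : Cfsg.IrrCharacter N, (ζ : N → ℂ) 1 * (ζ : N → ℂ) k =
      (Nat.card N : ℂ) := by
    rw [Finset.sum_eq_single (1 : K)]
    · exact irr_sum_deg_sq
    · intro k _ hk
      apply irr_sum_deg_mul
      intro h
      apply hk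
      exact Subtype.ext h
    · intro h
      exact absurd (Finset.mem_univ _) h
  rw [Finset.sum_comm] at h1
  have h2 : ∀ ζ : Cfsg.IrrCharacter N, ∑ k : K, (ζ : N → ℂ) 1 * (ζ : N → ℂ) k =
      if (ζ : N → ℂ) ∈ tifnSet K then 0 else
        (Nat.card K : ℂ) * ((ζ : N → ℂ) 1 * (ζ : N → ℂ) 1) := by
    intro ζ
    rw [← Finset.mul_sum]
    split_ifs with hζ
    · rw [tifn_sum_zero K hC hζ, mul_zero]
    · rw [Finset.sum_congr rfl (fun (k : K) _ => tifn_not_mem K ζ hζ (k : N) k.2), Finset.sum_const,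
        Finset.card_univ, nsmul_eq_mul, Nat.card_eq_fintype_card]
      ring
  rw [Finset.sum_congr rfl (fun ζ _ => h2 ζ)] at h1
  have hA : ∑ ζ : Cfsg.IrrCharacter N,
      (if (ζ : N → ℂ) ∈ tifnSet K then (ζ : N → ℂ) 1 * (ζ : N → ℂ) 1 else 0) +
      ∑ ζ : Cfsg.IrrCharacter N,
      (if (ζ : N → ℂ) ∈ tifnSet K then 0 else (ζ : N → ℂ) 1 * (ζ : N → ℂ) 1) =
      (Nat.card N : ℂ) := by
    rw [← irr_sum_deg_sq (N := N), ← Finset.sum_add_distrib]
    apply Finset.sum_congr rfl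
    intro ζ _
    split_ifs <;> simp
  have hB : (Nat.card K : ℂ) * ∑ ζ : Cfsg.IrrCharacter N,
      (if (ζ : N → ℂ) ∈ tifnSet K then 0 else (ζ : N → ℂ) 1 * (ζ : N → ℂ) 1) =
      (Nat.card N : ℂ) := by
    rw [← h1, Finset.mul_sum]
    apply Finset.sum_congr rfl
    intro ζ _
    split_ifs <;> simp
  have hidx : (Nat.card N : ℂ) = (K.index : ℂ) * (Nat.card K : ℂ) := by
    rw [← Subgroup.index_mul_card K]; push_cast; ring
  rw [hidx] at hA hB
  have hB' : ∑ ζ : Cfsg.IrrCharacter N,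
      (if (ζ : N → ℂ) ∈ tifnSet K then 0 else (ζ : N → ℂ) 1 * (ζ : N → ℂ) 1) = (K.index : ℂ) := by
    apply mul_left_cancel₀ hKne
    rw [hB]
    ring
  rw [hB'] at hA
  rw [eq_sub_of_add_eq hA]
  ring

end Cfsg.Agent.Lib.Helper11
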