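import Mathlib
import Cfsg.Prelude.Def_Characters
import Cfsg.Prelude.Def_OddOrderChar
import Cfsg.Agent.Lib.Helper11.TIFN
import Cfsg.Agent.Lib.Helper11.CyclicTI

set_option autoImplicit false
open scoped ComplexConjugate

namespace Cfsg.Agent.Lib.Helper11

open Cfsg.Agent.Lib.helper7 Cfsg.Agent.Lib.Helper25 Cfsg.Agent.Lib.helper2

theorem isIntegral_of_mul_of_sq (x : ℂ) (n : ℕ) (h1 : IsIntegral ℤ (x * (n : ℂ)))
    (h2 : IsIntegral ℤ (x ^ 2 * ((n : ℂ) - 1))) : IsIntegral ℤ x := by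
  have hn : IsIntegral ℤ (n : ℂ) := by
    have h := isIntegral_algebraMap (R := ℤ) (A := ℂ) (x := (n : ℤ))
    simpa using h
  have h3 : x ^ 2 = (x * (n : ℂ)) ^ 2 - (x ^ 2 * ((n : ℂ) - 1)) * (n : ℂ) -
      x ^ 2 * ((n : ℂ) - 1) := by ring
  have h4 : IsIntegral ℤ (x ^ 2) := by
    rw [h3]
    exact ((h1.pow 2).sub (h2.mul hn)).sub h2
  exact IsIntegral.of_pow (by norm_num : 0 < 2) h4

theorem int_of_rat_of_isIntegral (x : ℂ) (q : ℚ) (hq : x = (q : ℂ)) (h : IsIntegral ℤ x) :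
    ∃ m : ℤ, x = (m : ℂ) := by
  have hq' : IsIntegral ℤ q := by
    rw [← isIntegral_algebraMap_iff (algebraMap ℚ ℂ).injective]
    simpa [hq] using h
  obtain ⟨z, hz⟩ := IsIntegrallyClosed.isIntegral_iff.mp hq'
  refine ⟨z, ?_⟩
  rw [hq, ← hz]
  simp

theorem isCharacter_integral {G : Type*} [Group G] [Finite G] {χ : G → ℂ}
    (hχ : Cfsg.IsCharacter G χ) (g : G) : IsIntegral ℤ (χ g) := by
  obtain ⟨n, ρ, rfl⟩ := hχ
  exact char_integral ρ g

theorem genChar_integral {G : Type*} [Group G] [Finite G] {θ : G → ℂ}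
    (hθ : Cfsg.IsGeneralizedCharacter G θ) (g : G) : IsIntegral ℤ (θ g) := by
  obtain ⟨χ, ψ, hχ, hψ, rfl⟩ := hθ
  exact (isCharacter_integral hχ g).sub (isCharacter_integral hψ g)

theorem genChar_one_int {G : Type*} [Group G] {θ : G → ℂ}
    (hθ : Cfsg.IsGeneralizedCharacter G θ) : ∃ z : ℤ, θ 1 = (z : ℂ) := by
  obtain ⟨χ, ψ, hχ, hψ, rfl⟩ := hθ
  obtain ⟨a, ha⟩ := isCharacter_one_eq_nat hχ
  obtain ⟨b, hb⟩ := isCharacter_one_eq_nat hψ
  exact ⟨(a : ℤ) - b, by rw [Pi.sub_apply, ha, hb]; push_cast; ring⟩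

theorem genChar_comp_hom {G H : Type*} [Group G] [Group H] {θ : G → ℂ}
    (hθ : Cfsg.IsGeneralizedCharacter G θ) (f : H →* G) :
    Cfsg.IsGeneralizedCharacter H (fun h => θ (f h)) := by
  obtain ⟨χ, ψ, hχ, hψ, rfl⟩ := hθ
  exact ⟨_, _, isCharacter_comp_hom hχ f, isCharacter_comp_hom hψ f, rfl⟩

/-- the standing hypotheses: `K` is a normal subgroup of `N ≤ G` containing the centralizers in
`N` of its non-identity elements, induction from `N` to `G` restricts back to the identity on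
class functions supported on `K \ {1}`, and `star` is a coherent extension of induction -/
structure TIFNSetup {G : Type*} [Group G] [Fintype G] (N : Subgroup G) [Fintype N]
    (K : Subgroup N) (star : (N → ℂ) → (G → ℂ)) : Prop where
  normal : K.Normal
  hC : ∀ k ∈ K, k ≠ 1 → Subgroup.centralizer ({k} : Set N) ≤ K
  hstar : Cfsg.IsLinearIsometryOn (Cfsg.zspan (tifnSet K)) star
  hext : ∀ α ∈ Cfsg.zspanOn (tifnSet K) ({1}ᶜ : Set N), star α = Cfsg.indFun N α
  hind : ∀ ϑ : N → ℂ, Cfsg.IsClassFunction N ϑ → (∀ x : N, x ∉ K → ϑ x = 0) → ϑ 1 = 0 →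
    ∀ x : N, Cfsg.indFun N ϑ x = ϑ x

section setup

variable {G : Type*} [Group G] [Fintype G] {N : Subgroup G} [Fintype N]
  {K : Subgroup N} {star : (N → ℂ) → (G → ℂ)}

theorem tifn_zspan_vanish (h : TIFNSetup N K star) {α : N → ℂ}
    (hα : α ∈ Cfsg.zspan (tifnSet K)) (x : N) (hx : x ∉ K) : α x = 0 := by
  have := h.normal
  induction hα using Submodule.span_induction with
  | mem χ hχ => exact tifn_vanish K h.hC hχ x hx
  | zero => rfl
  | add a b _ _ iha ihb => rw [Pi.add_apply, iha, ihb, add_zero]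
  | smul n a _ iha => rw [Pi.smul_apply, iha, smul_zero]

omit [Fintype G] [Fintype N] in
theorem tifn_zspan_class {α : N → ℂ}
    (hα : α ∈ Cfsg.zspan (tifnSet K)) : Cfsg.IsClassFunction N α := by
  induction hα using Submodule.span_induction with
  | mem χ hχ => exact isCharacter_isClassFunction (h7_irr_isCharacter hχ.1)
  | zero => intro g x; rfl
  | add a b _ _ iha ihb => intro g x; rw [Pi.add_apply, Pi.add_apply, iha g x, ihb g x]
  | smul n a _ iha => intro g x; rw [Pi.smul_apply, Pi.smul_apply, iha g x]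

theorem tifn_star_apply (h : TIFNSetup N K star) {α : N → ℂ}
    (hα : α ∈ Cfsg.zspanOn (tifnSet K) ({1}ᶜ : Set N)) (x : N) : star α x = α x := by
  rw [h.hext α hα]
  exact h.hind α (tifn_zspan_class hα.1) (tifn_zspan_vanish h hα.1) (hα.2 1 (by simp)) x

theorem tifn_inner_restrict (h : TIFNSetup N K star) (ψ : G → ℂ)
    (hψ : Cfsg.IsClassFunction G ψ) {β : N → ℂ}
    (hβ : β ∈ Cfsg.zspanOn (tifnSet K) ({1}ᶜ : Set N)) :
    Cfsg.classInner (fun n : N => ψ n) β = conj (Cfsg.classInner (star β) ψ) := by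
  rw [h.hext β hβ, h7_frobenius_reciprocity N β ψ hψ, ← classInner_conj_symm]

theorem tifn_gamma_orth (h : TIFNSetup N K star) {χ : N → ℂ} (hχ : χ ∈ tifnSet K) {β : N → ℂ}
    (hβ : β ∈ Cfsg.zspanOn (tifnSet K) ({1}ᶜ : Set N)) :
    Cfsg.classInner (fun n : N => star χ n - χ n) β = 0 := by
  have hcl : Cfsg.IsClassFunction G (star χ) :=
    genChar_classFunction _ (h.hstar.2.2.2 χ (zspan_of_mem hχ))
  have h1 : (fun n : N => star χ n - χ n) = (fun n : N => star χ n) - χ := rfl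
  rw [h1, Cfsg.Agent.Lib.Helper25.classInner_sub_left, tifn_inner_restrict h _ hcl hβ,
    h.hstar.2.2.1 β hβ.1 χ (zspan_of_mem hχ), ← classInner_conj_symm, sub_self]

theorem tifn_gamma_class (h : TIFNSetup N K star) {χ : N → ℂ} (hχ : χ ∈ tifnSet K) :
    Cfsg.IsClassFunction N (fun n : N => star χ n - χ n) := by
  have hcl : Cfsg.IsClassFunction G (star χ) :=
    genChar_classFunction _ (h.hstar.2.2.2 χ (zspan_of_mem hχ))
  have hcl' : Cfsg.IsClassFunction N χ := isCharacter_isClassFunction (h7_irr_isCharacter hχ.1)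
  intro g x
  change star χ ((x * g * x⁻¹ : N) : G) - χ (x * g * x⁻¹) = star χ g - χ g
  rw [hcl' g x]
  have := hcl (g : G) (x : G)
  simp only [Subgroup.coe_mul, Subgroup.coe_inv]
  rw [this]

theorem tifn_gamma_const (h : TIFNSetup N K star) {χ : N → ℂ} (hχ : χ ∈ tifnSet K)
    (k k' : N) (hk : k ∈ K) (hk' : k' ∈ K) (hk1 : k ≠ 1) (hk'1 : k' ≠ 1) :
    star χ k - χ k = star χ k' - χ k' :=
  tifn_const K (fun n : N => star χ n - χ n) (tifn_gamma_class h hχ) hχ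
    (fun _ hβ => tifn_gamma_orth h hχ hβ) k k' hk hk' hk1 hk'1

theorem tifn_gamma_prop (h : TIFNSetup N K star) {χ ξ : N → ℂ} (hχ : χ ∈ tifnSet K)
    (hξ : ξ ∈ tifnSet K) (x : N) :
    ξ 1 * (star χ x - χ x) = χ 1 * (star ξ x - ξ x) := by
  obtain ⟨a, -, ha⟩ := irr_one_eq_finrank (⟨χ, hχ.1⟩ : Cfsg.IrrCharacter N)
  obtain ⟨b, -, hb⟩ := irr_one_eq_finrank (⟨ξ, hξ.1⟩ : Cfsg.IrrCharacter N)
  change χ 1 = (a : ℂ) at ha
  change ξ 1 = (b : ℂ) at hb
  have hα : ((b : ℤ) • χ - (a : ℤ) • ξ) ∈ Cfsg.zspanOn (tifnSet K) ({1}ᶜ : Set N) := by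
    refine ⟨zspan_sub (zspan_zsmul _ (zspan_of_mem hχ)) (zspan_zsmul _ (zspan_of_mem hξ)), ?_⟩
    intro y hy
    have hy1 : y = 1 := by
      by_contra h'
      exact hy h'
    subst hy1
    change (b : ℤ) • χ 1 - (a : ℤ) • ξ 1 = 0
    rw [ha, hb, zsmul_eq_mul, zsmul_eq_mul]
    push_cast
    ring
  have h1 := tifn_star_apply h hα x
  rw [isoOn_map_sub h.hstar (zspan_zsmul _ (zspan_of_mem hχ)) (zspan_zsmul _ (zspan_of_mem hξ)),
    h.hstar.2.1 χ (zspan_of_mem hχ), h.hstar.2.1 ξ (zspan_of_mem hξ)] at h1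
  simp only [Pi.sub_apply, Pi.smul_apply] at h1
  simp only [zsmul_eq_mul] at h1
  push_cast at h1
  rw [ha, hb]
  linear_combination h1

theorem isIntegral_nat (n : ℕ) : IsIntegral ℤ (n : ℂ) := by
  have h := isIntegral_algebraMap (R := ℤ) (A := ℂ) (x := (n : ℤ))
  simpa using h

theorem tifn_exceptional_values (h : TIFNSetup N K star) {χ₀ : N → ℂ} (hχ₀ : χ₀ ∈ tifnSet K) :
    ∃ m : ℤ, ∀ χ ∈ tifnSet K, ∀ k : N, k ∈ K → k ≠ 1 →
      star χ k - χ k = (m : ℂ) * χ 1 / (K.index : ℂ) := by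
  classical
  have hKn := h.normal
  have := Fintype.ofFinite K
  have := Fintype.ofFinite (Cfsg.IrrCharacter N)
  obtain ⟨k₀, hk₀, hne₀⟩ := hχ₀.2
  have hk₀1 : k₀ ≠ 1 := by
    rintro rfl
    exact hne₀ rfl
  obtain ⟨t₀, ht₀pos, hd₀, ht₀dvd⟩ := tifn_degree K h.hC hχ₀
  have he : (K.index : ℂ) ≠ 0 := by
    have : K.index ≠ 0 := Subgroup.index_ne_zero_of_finite
    exact_mod_cast this
  have ht₀ne : (t₀ : ℂ) ≠ 0 := by exact_mod_cast ht₀pos.ne'
  have hd₀ne : χ₀ 1 ≠ 0 := by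
    rw [hd₀]
    exact mul_ne_zero he ht₀ne
  obtain ⟨c, hc⟩ : ∃ c : ℂ, c = (star χ₀ k₀ - χ₀ k₀) / χ₀ 1 := ⟨_, rfl⟩
  have claim1 : ∀ χ ∈ tifnSet K, ∀ k : N, k ∈ K → k ≠ 1 → star χ k - χ k = χ 1 * c := by
    intro χ hχ k hk hk1
    have h1 := tifn_gamma_prop h hχ hχ₀ k
    have h2 := tifn_gamma_const h hχ₀ k k₀ hk hk₀ hk1 hk₀1
    rw [h2] at h1
    rw [hc]
    field_simp
    linear_combination h1
  have claim2 : ∀ ζ ∈ tifnSet K, IsIntegral ℤ (ζ 1 * c) := by
    intro ζ hζ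
    rw [← claim1 ζ hζ k₀ hk₀ hk₀1]
    exact (genChar_integral (h.hstar.2.2.2 ζ (zspan_of_mem hζ)) _).sub
      (isCharacter_integral (h7_irr_isCharacter hζ.1) _)
  have hKcard : 2 ≤ Nat.card K := by
    have : K ≠ ⊥ := by
      intro hb
      apply hk₀1
      rw [hb] at hk₀
      exact Subgroup.mem_bot.mp hk₀
    have := (Subgroup.one_lt_card_iff_ne_bot K).mpr this
    omega
  have claim3 : ∃ q : ℚ, c = (q : ℂ) := by
    have hgen : Cfsg.IsGeneralizedCharacter K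
        (fun k : K => star χ₀ ((k : N) : G) - χ₀ (k : N)) := by
      have h1 := genChar_comp_hom (h.hstar.2.2.2 χ₀ (zspan_of_mem hχ₀))
        (N.subtype.comp K.subtype)
      have h2 : Cfsg.IsGeneralizedCharacter K (fun k : K => χ₀ (k : N)) :=
        genChar_comp_hom (⟨χ₀, 0, h7_irr_isCharacter hχ₀.1, isCharacter_zero N, by simp⟩)
          K.subtype
      exact genChar_sub h1 h2
    obtain ⟨z, hz⟩ := genChar_inner_int _ hgen (trivIrr K)
    obtain ⟨w, hw⟩ := genChar_one_int (h.hstar.2.2.2 χ₀ (zspan_of_mem hχ₀))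
    have hKne : (Nat.card K : ℂ) ≠ 0 := by exact_mod_cast Nat.card_pos.ne'
    have hsum : ∑ k : K, (star χ₀ ((k : N) : G) - χ₀ (k : N)) = (Nat.card K : ℂ) * (z : ℂ) := by
      rw [← hz]
      unfold Cfsg.classInner
      rw [← mul_assoc, mul_inv_cancel₀ hKne, one_mul]
      apply Finset.sum_congr rfl
      intro k _
      simp
    have hsplit : ∑ k : K, (star χ₀ ((k : N) : G) - χ₀ (k : N)) =
        (star χ₀ 1 - χ₀ 1) + ((Nat.card K : ℂ) - 1) * (χ₀ 1 * c) := by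
      rw [← Finset.add_sum_erase Finset.univ _ (Finset.mem_univ (1 : K))]
      congr 1
      have hc' : ∀ k ∈ (Finset.univ : Finset K).erase 1,
          (star χ₀ ((k : N) : G) - χ₀ (k : N)) = χ₀ 1 * c := by
        intro k hk
        have hk1 : (k : N) ≠ 1 := by
          intro h'
          exact (Finset.mem_erase.mp hk).1 (Subtype.ext h')
        exact claim1 χ₀ hχ₀ k k.2 hk1
      rw [Finset.sum_congr rfl hc', Finset.sum_const, Finset.card_erase_of_mem (Finset.mem_univ _),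
        Finset.card_univ, nsmul_eq_mul, Nat.card_eq_fintype_card, Nat.cast_sub Fintype.card_pos]
      simp
    rw [hsum, hw, hd₀] at hsplit
    have hK1 : ((Nat.card K : ℂ) - 1) ≠ 0 := by
      intro h0
      have h1 : (Nat.card K : ℂ) = 1 := by linear_combination h0
      have h2 : Nat.card K = 1 := by exact_mod_cast h1
      omega
    refine ⟨((Nat.card K : ℚ) * z - w + (K.index : ℚ) * t₀) /
      (((Nat.card K : ℚ) - 1) * ((K.index : ℚ) * t₀)), ?_⟩
    push_cast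
    rw [eq_div_iff (mul_ne_zero hK1 (mul_ne_zero he ht₀ne))]
    linear_combination -hsplit
  obtain ⟨q, hq⟩ := claim3
  obtain ⟨s, hs⟩ := ht₀dvd
  have claim4 : IsIntegral ℤ ((K.index : ℂ) * c * (Nat.card K : ℂ)) := by
    have : (K.index : ℂ) * c * (Nat.card K : ℂ) = (χ₀ 1 * c) * (s : ℂ) := by
      rw [hs, hd₀]
      push_cast
      ring
    rw [this]
    exact (claim2 χ₀ hχ₀).mul (isIntegral_nat s)
  have claim5 : IsIntegral ℤ (((K.index : ℂ) * c) ^ 2 * ((Nat.card K : ℂ) - 1)) := by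
    have h5 := tifn_sum_sq K h.hC
    have : ((K.index : ℂ) * c) ^ 2 * ((Nat.card K : ℂ) - 1) =
        ∑ ζ : Cfsg.IrrCharacter N,
          (if (ζ : N → ℂ) ∈ tifnSet K then (K.index : ℂ) * ((ζ : N → ℂ) 1 * c) ^ 2 else 0) := by
      have h6 : ((K.index : ℂ) * c) ^ 2 * ((Nat.card K : ℂ) - 1) =
          ((K.index : ℂ) * c ^ 2) * ((K.index : ℂ) * ((Nat.card K : ℂ) - 1)) := by ring
      rw [h6, ← h5, Finset.mul_sum]
      apply Finset.sum_congr rfl
      intro ζ _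
      split_ifs
      · ring
      · simp
    rw [this]
    apply IsIntegral.sum
    intro ζ _
    split_ifs with hζ
    · exact (isIntegral_nat _).mul ((claim2 _ hζ).pow 2)
    · exact isIntegral_zero
  have hint := isIntegral_of_mul_of_sq _ _ claim4 claim5
  obtain ⟨m, hm⟩ := int_of_rat_of_isIntegral ((K.index : ℂ) * c) ((K.index : ℚ) * q)
    (by rw [hq]; push_cast; ring) hint
  refine ⟨m, ?_⟩
  intro χ hχ k hk hk1
  rw [claim1 χ hχ k hk hk1, ← hm]
  field_simp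

end setup

end Cfsg.Agent.Lib.Helper11
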