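import Mathlib
import Cfsg.Prelude.Def_OddOrderLocal
import Cfsg.Prelude.Def_Characters
import Cfsg.Agent.Lib.Helper11.OrbitSum
import Cfsg.Agent.Lib.Helper11.TIFNStar
import Cfsg.Agent.Lib.Helper25.CharOrth
import Cfsg.Agent.Lib.helper7.ClassSum

set_option autoImplicit false

namespace Cfsg.Agent.Lib.Helper11.TISylCong

open Cfsg.Agent.Lib.Helper11 Cfsg.Agent.Lib.Helper25 Cfsg.Agent.Lib.helper7 Cfsg.Agent.Lib.helper2

section GroupTheory

variable {G : Type*} [Group G] {p : ℕ} (P : Sylow p G)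

theorem cent_le_normalizer (hTI : Cfsg.IsTISubset ((P : Subgroup G) : Set G)) {z : G}
    (hz : z ∈ (P : Subgroup G)) (hz1 : z ≠ 1) {g : G}
    (hg : g * z * g⁻¹ = z) : g ∈ Subgroup.normalizer ((P : Subgroup G) : Set G) := by
  by_contra h
  exact hz1 (hTI g h z hz (by rw [hg]; exact hz))

theorem pElem_mem {v : G} (hv : v ∈ Subgroup.normalizer ((P : Subgroup G) : Set G)) (k : ℕ)
    (hk : orderOf v = p ^ k) : v ∈ (P : Subgroup G) := by
  have h1 : IsPGroup p (Subgroup.zpowers v) := by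
    apply IsPGroup.of_card (n := k)
    rw [Nat.card_zpowers, hk]
  have h2 : Subgroup.zpowers v ≤ Subgroup.normalizer ((P : Subgroup G) : Set G) := by
    rw [Subgroup.zpowers_le]
    exact hv
  have h3 := IsPGroup.to_sup_of_normal_right' h1 P.2 h2
  have h4 := P.is_maximal' h3 le_sup_right
  rw [← h4]
  exact Subgroup.mem_sup_left (Subgroup.mem_zpowers v)

theorem conj_mem_Z [Fact p.Prime] (hTI : Cfsg.IsTISubset ((P : Subgroup G) : Set G)) (Z : Subgroup G)
    (hZP : Z ≤ P)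
    (hZn : ∀ x ∈ Subgroup.normalizer ((P : Subgroup G) : Set G), ∀ z ∈ Z, x * z * x⁻¹ ∈ Z)
    {z : G} (hz : z ∈ Z) (hz1 : z ≠ 1) {x u : G} (hx : IsConj z x) (hu : u ∈ (P : Subgroup G))
    (hu1 : u ≠ 1) (hux : u * x * u⁻¹ = x) : x ∈ Z := by
  obtain ⟨t, rfl⟩ := isConj_iff.mp hx
  have hv : (t⁻¹ * u * t) * z * (t⁻¹ * u * t)⁻¹ = z := by
    calc (t⁻¹ * u * t) * z * (t⁻¹ * u * t)⁻¹ = t⁻¹ * (u * (t * z * t⁻¹) * u⁻¹) * t := by group
      _ = t⁻¹ * (t * z * t⁻¹) * t := by rw [hux]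
      _ = z := by group
  have hvN := cent_le_normalizer P hTI (hZP hz) hz1 hv
  obtain ⟨k, hk⟩ := (IsPGroup.iff_orderOf.mp P.2) ⟨u, hu⟩
  have hord : orderOf (t⁻¹ * u * t) = p ^ k := by
    have h1 : orderOf (t⁻¹ * u * t) = orderOf u := by
      have := orderOf_injective (MulAut.conj t⁻¹).toMonoidHom (MulAut.conj t⁻¹).injective u
      simpa [MulAut.conj_apply] using this
    rw [h1, ← hk, Subgroup.orderOf_mk]
  have hvP := pElem_mem P hvN k hord
  have ht : t⁻¹ ∈ Subgroup.normalizer ((P : Subgroup G) : Set G) := by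
    by_contra h
    have := hTI t⁻¹ h u hu (by rw [inv_inv]; exact hvP)
    exact hu1 this
  have ht' : t ∈ Subgroup.normalizer ((P : Subgroup G) : Set G) := by
    have := Subgroup.inv_mem _ ht
    simpa using this
  exact hZn t ht' z hz

theorem not_real [Finite G] (hTI : Cfsg.IsTISubset ((P : Subgroup G) : Set G))
    (hodd : Odd (Nat.card (Subgroup.normalizer ((P : Subgroup G) : Set G)))) {z : G}
    (hz : z ∈ (P : Subgroup G)) (hz1 : z ≠ 1) : ¬ IsConj z z⁻¹ := by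
  intro h
  obtain ⟨t, ht⟩ := isConj_iff.mp h
  have htN : t ∈ Subgroup.normalizer ((P : Subgroup G) : Set G) := by
    by_contra hn
    exact hz1 (hTI t hn z hz (by rw [ht]; exact Subgroup.inv_mem _ hz))
  have h2 : Commute (t ^ 2) z := by
    have h3 : t ^ 2 * z * (t ^ 2)⁻¹ = z := by
      calc t ^ 2 * z * (t ^ 2)⁻¹ = t * (t * z * t⁻¹) * t⁻¹ := by rw [pow_two]; group
        _ = t * z⁻¹ * t⁻¹ := by rw [ht]
        _ = (t * z * t⁻¹)⁻¹ := by group
        _ = z := by rw [ht, inv_inv]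
    show t ^ 2 * z = z * t ^ 2
    calc t ^ 2 * z = (t ^ 2 * z * (t ^ 2)⁻¹) * t ^ 2 := by group
      _ = z * t ^ 2 := by rw [h3]
  have hto : Odd (orderOf t) := by
    have h4 : orderOf t ∣ Nat.card (Subgroup.normalizer ((P : Subgroup G) : Set G)) :=
      Subgroup.orderOf_dvd_natCard _ htN
    exact Odd.of_dvd_nat hodd h4
  obtain ⟨j, hj⟩ := hto
  have h5 : (t ^ 2) ^ (j + 1) = t := by
    rw [← pow_mul]
    have : 2 * (j + 1) = orderOf t + 1 := by omega
    rw [this, pow_succ, pow_orderOf_eq_one, one_mul]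
  have h6 : Commute t z := by
    rw [← h5]
    exact h2.pow_left _
  have h7 : z = z⁻¹ := by
    rw [← ht]
    calc z = (z * t) * t⁻¹ := by group
      _ = t * z * t⁻¹ := by rw [← h6.eq]
  have h8 : z ^ 2 = 1 := by
    rw [pow_two]
    calc z * z = z * z⁻¹ := by rw [← h7]
      _ = 1 := mul_inv_cancel z
  have h9 : orderOf z ∣ 2 := orderOf_dvd_of_pow_eq_one h8
  have h10 : orderOf z ∣ Nat.card (Subgroup.normalizer ((P : Subgroup G) : Set G)) :=
    Subgroup.orderOf_dvd_natCard _ (Subgroup.le_normalizer hz)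
  have h11 : Odd (orderOf z) := Odd.of_dvd_nat hodd h10
  have h12 : orderOf z = 1 := by
    rcases (Nat.dvd_prime Nat.prime_two).mp h9 with h | h
    · exact h
    · rw [h] at h11
      exact absurd h11 (by decide)
  exact hz1 (orderOf_eq_one_iff.mp h12)

end GroupTheory

section Sums

variable {G : Type*} [Group G] [Fintype G]

open Classical in
/-- the conjugacy class of `z` as a finset -/
noncomputable def Cl (z : G) : Finset G := Finset.univ.filter (fun x => IsConj z x)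

theorem mem_Cl {z x : G} : x ∈ Cl z ↔ IsConj z x := by
  classical
  unfold Cl
  simp

/-- the double class sum -/
noncomputable def SS (ψ : G → ℂ) (z z' : G) : ℂ := ∑ x ∈ Cl z, ∑ y ∈ Cl z', ψ (x * y)

open Classical in
theorem SS_eq (ψ : Cfsg.IrrCharacter G) (z z' : G) :
    (Nat.card (Subgroup.centralizer ({z} : Set G)) : ℂ) *
      (Nat.card (Subgroup.centralizer ({z'} : Set G)) : ℂ) * SS (ψ : G → ℂ) z z' =
      (Nat.card G : ℂ) ^ 2 * (ψ : G → ℂ) z * (ψ : G → ℂ) z' / (ψ : G → ℂ) 1 := by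
  rw [← irr_sum_conj_conj ψ z z']
  have h1 : ∀ a : G, ∑ b : G, (ψ : G → ℂ) (a * z * a⁻¹ * (b * z' * b⁻¹)) =
      (Nat.card (Subgroup.centralizer ({z'} : Set G)) : ℂ) *
        ∑ y ∈ Cl z', (ψ : G → ℂ) (a * z * a⁻¹ * y) := by
    intro a
    have := h7_sum_conj z' (fun y => (ψ : G → ℂ) (a * z * a⁻¹ * y))
    rw [this, nsmul_eq_mul]
    rfl
  rw [Finset.sum_congr rfl (fun a _ => h1 a)]
  have h2 := h7_sum_conj z (fun x => (Nat.card (Subgroup.centralizer ({z'} : Set G)) : ℂ) *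
        ∑ y ∈ Cl z', (ψ : G → ℂ) (x * y))
  rw [h2, nsmul_eq_mul]
  unfold SS
  rw [← Finset.mul_sum]
  have : Cl z = Finset.univ.filter (fun x => IsConj z x) := rfl
  rw [this]
  ring

/-- a copy of the subgroup `P`, acting on pairs by simultaneous conjugation -/
def CP (P : Subgroup G) : Type _ := ↥P

instance cpGroup (P : Subgroup G) : Group (CP P) := inferInstanceAs (Group ↥P)

noncomputable instance cpFintype (P : Subgroup G) : Fintype (CP P) :=
  Fintype.ofFinite ↥P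

/-- the underlying element -/
def cpVal {P : Subgroup G} (u : CP P) : G := Subtype.val (show ↥P from u)

theorem cpVal_mem {P : Subgroup G} (u : CP P) : cpVal u ∈ P := Subtype.property (show ↥P from u)

theorem cpVal_one {P : Subgroup G} : cpVal (1 : CP P) = 1 := rfl

theorem cpVal_mul {P : Subgroup G} (u v : CP P) : cpVal (u * v) = cpVal u * cpVal v := rfl

theorem cpVal_eq_one {P : Subgroup G} {u : CP P} (h : cpVal u = 1) : u = 1 :=
  Subtype.ext (a1 := (show ↥P from u)) (a2 := (1 : ↥P)) h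

/-- simultaneous conjugation of pairs -/
instance cpAct (P : Subgroup G) : MulAction (CP P) (G × G) where
  smul u w := (cpVal u * w.1 * (cpVal u)⁻¹, cpVal u * w.2 * (cpVal u)⁻¹)
  one_smul w := by
    show (cpVal (1 : CP P) * w.1 * (cpVal (1 : CP P))⁻¹,
      cpVal (1 : CP P) * w.2 * (cpVal (1 : CP P))⁻¹) = w
    rw [cpVal_one]
    simp
  mul_smul u v w := by
    show (cpVal (u * v) * w.1 * (cpVal (u * v))⁻¹, cpVal (u * v) * w.2 * (cpVal (u * v))⁻¹) =
      (cpVal u * (cpVal v * w.1 * (cpVal v)⁻¹) * (cpVal u)⁻¹,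
        cpVal u * (cpVal v * w.2 * (cpVal v)⁻¹) * (cpVal u)⁻¹)
    rw [cpVal_mul]
    simp [mul_assoc]

open Classical in
theorem decomp {p : ℕ} [Fact p.Prime] (P : Sylow p G)
    (hTI : Cfsg.IsTISubset ((P : Subgroup G) : Set G)) (Z : Subgroup G) (hZP : Z ≤ P)
    (hZn : ∀ x ∈ Subgroup.normalizer ((P : Subgroup G) : Set G), ∀ z ∈ Z, x * z * x⁻¹ ∈ Z)
    (ψ : Cfsg.IrrCharacter G)
    (hconst : ∀ z ∈ Z, ∀ z' ∈ Z, z ≠ 1 → z' ≠ 1 → (ψ : G → ℂ) z = (ψ : G → ℂ) z')
    {z z' : G} (hz : z ∈ Z) (hz1 : z ≠ 1) (hz' : z' ∈ Z) (hz'1 : z' ≠ 1) :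
    ∃ β : ℂ, IsIntegral ℤ β ∧ SS (ψ : G → ℂ) z z' =
      (ψ : G → ℂ) z * (((Cl z).card : ℂ) * ((Cl z').card : ℂ)) +
      ((ψ : G → ℂ) 1 - (ψ : G → ℂ) z) *
        (((Cl z ×ˢ Cl z').filter (fun w : G × G => w.1 * w.2 = 1)).card : ℂ) +
      (Nat.card (P : Subgroup G) : ℂ) * β := by
  have hcl : ∀ g h : G, (ψ : G → ℂ) (h * g * h⁻¹) = (ψ : G → ℂ) g := irr_conj_invariant ψ
  have hint : ∀ g : G, IsIntegral ℤ ((ψ : G → ℂ) g) :=
    fun g => isCharacter_integral (isCharacter_of_irr ψ) g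
  obtain ⟨f, hf⟩ : ∃ f : G × G → ℂ, f = fun w => (ψ : G → ℂ) (w.1 * w.2) - (ψ : G → ℂ) z :=
    ⟨_, rfl⟩
  obtain ⟨inT, hinT⟩ : ∃ inT : G → Prop, inT = fun g => ∃ t : G, t * g * t⁻¹ ∈ Z := ⟨_, rfl⟩
  obtain ⟨s, hs⟩ : ∃ s : Finset (G × G),
      s = (Cl z ×ˢ Cl z').filter (fun w => ¬ inT (w.1 * w.2)) := ⟨_, rfl⟩
  have hsmul : ∀ (u : CP (P : Subgroup G)) (w : G × G),
      u • w = (cpVal u * w.1 * (cpVal u)⁻¹, cpVal u * w.2 * (cpVal u)⁻¹) := fun u w => rfl
  have hprod : ∀ (u : G) (w : G × G), (u * w.1 * u⁻¹) * (u * w.2 * u⁻¹) =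
      u * (w.1 * w.2) * u⁻¹ := by
    intro u w; group
  have hcardP : Nat.card (CP (P : Subgroup G)) = Nat.card (P : Subgroup G) := rfl
  -- the orbit sum
  have horb := Cfsg.Agent.Lib.Helper11.OrbitSum.orbit_sum (Γ := CP (P : Subgroup G))
    (X := G × G)
    (fun v : ℂ => IsIntegral ℤ v) isIntegral_zero (fun u v hu hv => hu.add hv) f s.card s le_rfl
    (by
      intro u w hw
      rw [hs, Finset.mem_filter, Finset.mem_product] at hw ⊢
      rw [hsmul]
      refine ⟨⟨?_, ?_⟩, ?_⟩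
      · exact mem_Cl.mpr ((mem_Cl.mp hw.1.1).trans (isConj_iff.mpr ⟨cpVal u, rfl⟩))
      · exact mem_Cl.mpr ((mem_Cl.mp hw.1.2).trans (isConj_iff.mpr ⟨cpVal u, rfl⟩))
      · intro h
        apply hw.2
        rw [hinT] at h ⊢
        obtain ⟨t, ht⟩ := h
        refine ⟨t * cpVal u, ?_⟩
        simp only at ht
        rw [hprod] at ht
        have e : t * cpVal u * (w.1 * w.2) * (t * cpVal u)⁻¹ =
            t * (cpVal u * (w.1 * w.2) * (cpVal u)⁻¹) * t⁻¹ := by group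
        rw [e]
        exact ht)
    (by
      intro u w _
      rw [hf, hsmul]
      simp only
      rw [hprod, hcl])
    (by
      intro w _
      rw [hf]
      exact (hint _).sub (hint _))
  -- the stabilizers are trivial
  have hstab : ∀ w ∈ s, Nat.card (MulAction.stabilizer (CP (P : Subgroup G)) w) = 1 := by
    intro w hw
    rw [hs, Finset.mem_filter, Finset.mem_product, mem_Cl, mem_Cl] at hw
    have : MulAction.stabilizer (CP (P : Subgroup G)) w = ⊥ := by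
      rw [Subgroup.eq_bot_iff_forall]
      intro u hu
      by_contra hu1
      rw [MulAction.mem_stabilizer_iff, hsmul] at hu
      have h1 : cpVal u * w.1 * (cpVal u)⁻¹ = w.1 := congrArg Prod.fst hu
      have h2 : cpVal u * w.2 * (cpVal u)⁻¹ = w.2 := congrArg Prod.snd hu
      have hu1' : cpVal u ≠ 1 := fun h => hu1 (cpVal_eq_one h)
      have hx := conj_mem_Z P hTI Z hZP hZn hz hz1 hw.1.1 (cpVal_mem u) hu1' h1
      have hy := conj_mem_Z P hTI Z hZP hZn hz' hz'1 hw.1.2 (cpVal_mem u) hu1' h2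
      apply hw.2
      rw [hinT]
      exact ⟨1, by simpa using Z.mul_mem hx hy⟩
    rw [this]
    exact Subgroup.card_bot
  have hP : (Nat.card (P : Subgroup G) : ℂ) ≠ 0 := by exact_mod_cast Nat.card_pos.ne'
  refine ⟨_, horb, ?_⟩
  have h1 : (Nat.card (P : Subgroup G) : ℂ) * ∑ w ∈ s,
      ((Nat.card (MulAction.stabilizer (CP (P : Subgroup G)) w) : ℂ) /
        (Nat.card (CP (P : Subgroup G)) : ℂ)) • f w = ∑ w ∈ s, f w := by
    rw [Finset.mul_sum, hcardP]
    apply Finset.sum_congr rfl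
    intro w hw
    rw [hstab w hw, smul_eq_mul]
    push_cast
    field_simp
  rw [h1]
  -- now the elementary decomposition
  unfold SS
  rw [← Finset.sum_product']
  have h2 : ∀ w ∈ Cl z ×ˢ Cl z', (ψ : G → ℂ) (w.1 * w.2) = (ψ : G → ℂ) z + f w := by
    intro w _
    rw [hf]; ring
  rw [Finset.sum_congr rfl h2, Finset.sum_add_distrib, Finset.sum_const, Finset.card_product,
    nsmul_eq_mul]
  rw [← Finset.sum_filter_add_sum_filter_not (Cl z ×ˢ Cl z') (fun w => inT (w.1 * w.2)) f, ← hs]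
  have h3 : ∑ w ∈ (Cl z ×ˢ Cl z').filter (fun w => inT (w.1 * w.2)), f w =
      ((ψ : G → ℂ) 1 - (ψ : G → ℂ) z) *
        (((Cl z ×ˢ Cl z').filter (fun w : G × G => w.1 * w.2 = 1)).card : ℂ) := by
    have h4 : ∀ w ∈ (Cl z ×ˢ Cl z').filter (fun w => inT (w.1 * w.2)), f w =
        if w.1 * w.2 = 1 then (ψ : G → ℂ) 1 - (ψ : G → ℂ) z else 0 := by
      intro w hw
      have hw2 := (Finset.mem_filter.mp hw).2
      rw [hinT] at hw2
      obtain ⟨t, ht⟩ := hw2
      rw [hf]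
      simp only
      by_cases h1 : w.1 * w.2 = 1
      · rw [if_pos h1, h1]
      · rw [if_neg h1, ← hcl (w.1 * w.2) t]
        have hne : t * (w.1 * w.2) * t⁻¹ ≠ 1 := by
          intro h
          apply h1
          have : w.1 * w.2 = t⁻¹ * (t * (w.1 * w.2) * t⁻¹) * t := by group
          rw [this, h]; group
        rw [hconst _ ht z hz hne hz1, sub_self]
    rw [Finset.sum_congr rfl h4, Finset.sum_filter]
    have h5 : ∀ w ∈ Cl z ×ˢ Cl z', (if inT (w.1 * w.2) then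
        (if w.1 * w.2 = 1 then (ψ : G → ℂ) 1 - (ψ : G → ℂ) z else 0) else 0) =
        if w.1 * w.2 = 1 then (ψ : G → ℂ) 1 - (ψ : G → ℂ) z else 0 := by
      intro w _
      by_cases h1 : w.1 * w.2 = 1
      · have : inT (w.1 * w.2) := by
          rw [hinT, h1]
          exact ⟨1, by simpa using Z.one_mem⟩
        rw [if_pos this]
      · rw [if_neg h1]
        split_ifs <;> rfl
    rw [Finset.sum_congr rfl h5, ← Finset.sum_filter, Finset.sum_const, nsmul_eq_mul, mul_comm]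
  rw [h3]
  push_cast
  ring


theorem isConj_inv_inv {a b : G} (h : IsConj a b) : IsConj a⁻¹ b⁻¹ := by
  obtain ⟨t, rfl⟩ := isConj_iff.mp h
  exact isConj_iff.mpr ⟨t, by group⟩

open Classical in
theorem card_pairs_inv (z : G) :
    ((Cl z ×ˢ Cl z⁻¹).filter (fun w : G × G => w.1 * w.2 = 1)).card = (Cl z).card := by
  have h : (Cl z ×ˢ Cl z⁻¹).filter (fun w : G × G => w.1 * w.2 = 1) =
      (Cl z).image (fun x => (x, x⁻¹)) := by
    ext w
    rw [Finset.mem_filter, Finset.mem_product, Finset.mem_image, mem_Cl, mem_Cl]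
    constructor
    · rintro ⟨⟨h1, _⟩, h3⟩
      refine ⟨w.1, mem_Cl.mpr h1, ?_⟩
      have : w.2 = w.1⁻¹ := eq_inv_of_mul_eq_one_right h3
      rw [← this]
    · rintro ⟨x, hx, rfl⟩
      rw [mem_Cl] at hx
      exact ⟨⟨hx, isConj_inv_inv hx⟩, mul_inv_cancel x⟩
  rw [h, Finset.card_image_of_injective]
  intro x y hxy
  exact congrArg Prod.fst hxy

open Classical in
theorem card_pairs_self {z : G} (hz : ¬ IsConj z z⁻¹) :
    ((Cl z ×ˢ Cl z).filter (fun w : G × G => w.1 * w.2 = 1)).card = 0 := by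
  rw [Finset.card_eq_zero, Finset.filter_eq_empty_iff]
  intro w hw h3
  rw [Finset.mem_product, mem_Cl, mem_Cl] at hw
  apply hz
  have : w.2 = w.1⁻¹ := eq_inv_of_mul_eq_one_right h3
  have h4 : IsConj z⁻¹ w.1 := by
    have h5 := isConj_inv_inv hw.2
    rw [this, inv_inv] at h5
    exact h5
  exact hw.1.trans h4.symm

theorem card_Cl_inv (z : G) : (Cl z⁻¹).card = (Cl z).card := by
  classical
  have h : Cl z⁻¹ = (Cl z).image (fun x => x⁻¹) := by
    ext x
    rw [Finset.mem_image, mem_Cl]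
    constructor
    · intro hx
      refine ⟨x⁻¹, mem_Cl.mpr ?_, inv_inv x⟩
      have := isConj_inv_inv hx
      rwa [inv_inv] at this
    · rintro ⟨y, hy, rfl⟩
      exact isConj_inv_inv (mem_Cl.mp hy)
  rw [h, Finset.card_image_of_injective _ inv_injective]

theorem centralizer_inv (z : G) :
    Subgroup.centralizer ({z⁻¹} : Set G) = Subgroup.centralizer ({z} : Set G) := by
  ext g
  simp only [Subgroup.mem_centralizer_iff, Set.mem_singleton_iff, forall_eq]
  constructor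
  · intro h
    calc z * g = z * (g * z⁻¹) * z := by group
      _ = z * (z⁻¹ * g) * z := by rw [h]
      _ = g * z := by group
  · intro h
    calc z⁻¹ * g = z⁻¹ * (g * z) * z⁻¹ := by group
      _ = z⁻¹ * (z * g) * z⁻¹ := by rw [h]
      _ = g * z⁻¹ := by group

theorem card_Cl_eq_index (z : G) :
    (Cl z).card = (Subgroup.centralizer ({z} : Set G)).index := by
  classical
  rw [h7_index_centralizer_eq_card_class, Nat.card_eq_fintype_card, Fintype.card_subtype]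
  rfl

omit [Fintype G] in
theorem value_int [Finite G] {ψ : G → ℂ} (hψ : Cfsg.IsCharacter G ψ) (Z : Subgroup G)
    (hconst : ∀ z ∈ Z, ∀ z' ∈ Z, z ≠ 1 → z' ≠ 1 → ψ z = ψ z') {z : G} (hz : z ∈ Z)
    (hz1 : z ≠ 1) : ∃ n : ℤ, ψ z = n := by
  classical
  have hint : IsIntegral ℤ (ψ z) := isCharacter_integral hψ z
  obtain ⟨k, ρ, rfl⟩ := hψ
  haveI : Fintype ↥Z := Fintype.ofFinite _
  haveI : Invertible ((Nat.card ↥Z : ℂ)) :=
    invertibleOfNonzero (by exact_mod_cast Nat.card_pos.ne')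
  have h1 := Representation.card_inv_mul_sum_char_eq_finrank
    (ρ := (MonoidHom.comp ρ Z.subtype : Representation ℂ ↥Z (Fin k → ℂ)))
  have h2 : ∀ x : ↥Z, Representation.character
      (MonoidHom.comp ρ Z.subtype : Representation ℂ ↥Z (Fin k → ℂ)) x =
      ρ.character (x : G) := fun x => rfl
  rw [Finset.sum_congr rfl (fun x _ => h2 x)] at h1
  have h3 : ∑ x : ↥Z, ρ.character (x : G) =
      ρ.character 1 + ((Nat.card ↥Z : ℂ) - 1) * ρ.character z := by
    rw [← Finset.add_sum_erase Finset.univ _ (Finset.mem_univ (1 : ↥Z))]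
    congr 1
    have h4 : ∀ x ∈ Finset.univ.erase (1 : ↥Z), ρ.character (x : G) = ρ.character z := by
      intro x hx
      have hx1 : x ≠ 1 := (Finset.mem_erase.mp hx).1
      exact hconst _ x.2 _ hz (fun h => hx1 (Subtype.ext h)) hz1
    rw [Finset.sum_congr rfl h4, Finset.sum_const, Finset.card_erase_of_mem (Finset.mem_univ _),
      Finset.card_univ, nsmul_eq_mul, Nat.card_eq_fintype_card]
    have : 1 ≤ Fintype.card ↥Z := Fintype.card_pos
    push_cast [Nat.cast_sub this]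
    ring
  rw [h3] at h1
  obtain ⟨d, hd⟩ := isCharacter_one_eq_nat (⟨k, ρ, rfl⟩ : Cfsg.IsCharacter G ρ.character)
  have hZ2 : 2 ≤ Nat.card ↥Z := by
    rw [Nat.card_eq_fintype_card]
    have : (1 : ↥Z) ≠ ⟨z, hz⟩ := fun h => hz1 (congrArg Subtype.val h).symm
    exact Fintype.one_lt_card_iff_nontrivial.mpr ⟨⟨1, ⟨z, hz⟩, this⟩⟩
  have hne : ((Nat.card ↥Z : ℂ) - 1) ≠ 0 := by
    intro h
    have h5 : (Nat.card ↥Z : ℂ) = ((1 : ℕ) : ℂ) := by
      push_cast
      linear_combination h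
    have h6 : Nat.card ↥Z = 1 := by exact_mod_cast h5
    omega
  have hne2 : (Nat.card ↥Z : ℂ) ≠ 0 := by exact_mod_cast Nat.card_pos.ne'
  obtain ⟨m, hm⟩ : ∃ m : ℕ, (m : ℂ) = Module.finrank ℂ
      (Representation.invariants
        (MonoidHom.comp ρ Z.subtype : Representation ℂ ↥Z (Fin k → ℂ))) := ⟨_, rfl⟩
  rw [← hm, hd] at h1
  have h6 : ρ.character z = (((Nat.card ↥Z : ℚ) * m - d) / ((Nat.card ↥Z : ℚ) - 1) : ℚ) := by
    push_cast
    rw [eq_div_iff hne]
    have : (d : ℂ) + ((Nat.card ↥Z : ℂ) - 1) * ρ.character z = (Nat.card ↥Z : ℂ) * m := by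
      rw [← h1]
      field_simp
    linear_combination this
  exact int_of_rat_of_isIntegral _ _ h6 hint


theorem main {p : ℕ} [Fact p.Prime] (P : Sylow p G)
    (hTI : Cfsg.IsTISubset ((P : Subgroup G) : Set G))
    (hodd : Odd (Nat.card (Subgroup.normalizer ((P : Subgroup G) : Set G))))
    (Z : Subgroup G) (hZP : Z ≤ P)
    (hZn : ∀ x ∈ Subgroup.normalizer ((P : Subgroup G) : Set G), ∀ z ∈ Z, x * z * x⁻¹ ∈ Z)
    (hZc : ∀ z ∈ Z, ∀ y ∈ (P : Subgroup G), z * y = y * z)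
    (ψ : Cfsg.IrrCharacter G)
    (hconst : ∀ z ∈ Z, ∀ z' ∈ Z, z ≠ 1 → z' ≠ 1 → (ψ : G → ℂ) z = (ψ : G → ℂ) z')
    {z : G} (hz : z ∈ Z) (hz1 : z ≠ 1) :
    ∃ n d : ℤ, (ψ : G → ℂ) z = n ∧ (ψ : G → ℂ) 1 = d ∧
      (Nat.card (P : Subgroup G) : ℤ) ∣ d - n := by
  classical
  have hchar : Cfsg.IsCharacter G (ψ : G → ℂ) := isCharacter_of_irr ψ
  obtain ⟨n, hn⟩ := value_int hchar Z hconst hz hz1
  obtain ⟨d, hd⟩ := isCharacter_one_eq_nat hchar
  refine ⟨n, (d : ℤ), hn, by rw [hd]; push_cast; rfl, ?_⟩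
  have hzi : z⁻¹ ∈ Z := Z.inv_mem hz
  have hzi1 : z⁻¹ ≠ 1 := fun h => hz1 (inv_eq_one.mp h)
  obtain ⟨β₁, hβ₁, e₁⟩ := decomp P hTI Z hZP hZn ψ hconst hz hz1 hzi hzi1
  obtain ⟨β₂, hβ₂, e₂⟩ := decomp P hTI Z hZP hZn ψ hconst hz hz1 hz hz1
  rw [card_pairs_inv, card_Cl_inv] at e₁
  rw [card_pairs_self (not_real P hTI hodd (hZP hz) hz1)] at e₂
  -- the two double class sums agree
  have hSS : SS (ψ : G → ℂ) z z⁻¹ = SS (ψ : G → ℂ) z z := by
    have h1 := SS_eq ψ z z⁻¹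
    have h2 := SS_eq ψ z z
    rw [centralizer_inv, ← hconst z hz z⁻¹ hzi hz1 hzi1] at h1
    have hC : (Nat.card (Subgroup.centralizer ({z} : Set G)) : ℂ) ≠ 0 := by
      exact_mod_cast Nat.card_pos.ne'
    have h3 := h1.trans h2.symm
    exact mul_left_cancel₀ (mul_ne_zero hC hC) h3
  rw [hSS, e₂] at e₁
  -- so `c * (d - n) = |P| * (β₂ - β₁)`
  have hP : (Nat.card (P : Subgroup G) : ℂ) ≠ 0 := by exact_mod_cast Nat.card_pos.ne'
  have key : (((Cl z).card : ℤ) * ((d : ℤ) - n) : ℤ) =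
      (Nat.card (P : Subgroup G) : ℂ) * (β₂ - β₁) := by
    rw [hn, hd] at e₁
    push_cast at e₁ ⊢
    linear_combination -e₁
  have hβ : IsIntegral ℤ (β₂ - β₁) := hβ₂.sub hβ₁
  obtain ⟨m, hm⟩ := int_of_rat_of_isIntegral (β₂ - β₁)
    (((((Cl z).card : ℤ) * ((d : ℤ) - n) : ℤ) : ℚ) / (Nat.card (P : Subgroup G) : ℚ))
    (by
      push_cast
      rw [eq_div_iff hP]
      push_cast at key
      linear_combination -key) hβ
  rw [hm] at key
  have key' : ((Cl z).card : ℤ) * ((d : ℤ) - n) = (Nat.card (P : Subgroup G) : ℤ) * m := by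
    exact_mod_cast key
  -- coprimality
  have hle : (P : Subgroup G) ≤ Subgroup.centralizer ({z} : Set G) := by
    intro y hy
    rw [Subgroup.mem_centralizer_iff]
    intro x hx
    rw [Set.mem_singleton_iff] at hx
    subst hx
    exact hZc x hz y hy
  have hcop : Nat.Coprime (Nat.card (P : Subgroup G)) (Cl z).card := by
    rw [card_Cl_eq_index]
    exact Nat.Coprime.coprime_dvd_right (Subgroup.index_dvd_of_le hle) P.card_coprime_index
  have hcop' : IsCoprime (Nat.card (P : Subgroup G) : ℤ) ((Cl z).card : ℤ) :=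
    Nat.isCoprime_iff_coprime.mpr hcop
  exact hcop'.dvd_of_dvd_mul_left ⟨m, key'⟩

end Sums

end Cfsg.Agent.Lib.Helper11.TISylCong
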