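import Mathlib
import Cfsg.Prelude.Def_OddOrderLocal
import Cfsg.Agent.S1466

set_option autoImplicit false

namespace Cfsg.Agent.Lib.Helper11.PuigAmbient

variable {G : Type*} [Group G] {G' : Type*} [Group G']

/-- ambient Puig step: generated by the abelian subgroups of `H` normalised by `X` -/
def stepIn (H X : Subgroup G) : Subgroup G :=
  sSup {A : Subgroup G | A ≤ H ∧ IsMulCommutative A ∧ X ≤ Subgroup.normalizer (A : Set G)}

/-- ambient Puig series of `H` -/
def seqIn (H : Subgroup G) : ℕ → Subgroup G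
  | 0 => ⊥
  | n + 1 => stepIn H (seqIn H n)

def lowIn (H : Subgroup G) : Subgroup G := ⨆ n : ℕ, seqIn H (2 * n)

def upIn (H : Subgroup G) : Subgroup G := ⨅ n : ℕ, seqIn H (2 * n + 1)

/-- the centre of `K`, as a subgroup of the ambient group -/
def zOf (K : Subgroup G) : Subgroup G := K ⊓ Subgroup.centralizer (K : Set G)

theorem stepIn_le (H X : Subgroup G) : stepIn H X ≤ H :=
  sSup_le fun _ hA => hA.1

theorem stepIn_anti (H : Subgroup G) {X Y : Subgroup G} (h : X ≤ Y) : stepIn H Y ≤ stepIn H X :=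
  sSup_le_sSup fun _ hA => ⟨hA.1, hA.2.1, h.trans hA.2.2⟩

theorem stepIn_mono_left {H K : Subgroup G} (h : H ≤ K) (X : Subgroup G) :
    stepIn H X ≤ stepIn K X :=
  sSup_le_sSup fun _ hA => ⟨hA.1.trans h, hA.2.1, hA.2.2⟩

theorem le_stepIn {H X A : Subgroup G} (hA : A ≤ H) (hc : IsMulCommutative A)
    (hX : X ≤ Subgroup.normalizer (A : Set G)) : A ≤ stepIn H X :=
  le_sSup ⟨hA, hc, hX⟩

theorem seqIn_succ (H : Subgroup G) (n : ℕ) : seqIn H (n + 1) = stepIn H (seqIn H n) := rfl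

theorem seqIn_zero (H : Subgroup G) : seqIn H 0 = ⊥ := rfl

theorem seqIn_le (H : Subgroup G) (n : ℕ) : seqIn H n ≤ H := by
  cases n with
  | zero => exact bot_le
  | succ n => exact stepIn_le _ _

theorem lowIn_le (H : Subgroup G) : lowIn H ≤ H := iSup_le fun _ => seqIn_le _ _

theorem upIn_le (H : Subgroup G) : upIn H ≤ H := (iInf_le _ 0).trans (seqIn_le _ _)

theorem puigStep_eq (X : Subgroup G) : Cfsg.puigStep X = stepIn ⊤ X := by
  unfold Cfsg.puigStep stepIn
  congr 1
  ext A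
  simp

theorem puigSeq_eq (n : ℕ) : Cfsg.puigSeq G n = seqIn ⊤ n := by
  induction n with
  | zero => rfl
  | succ n ih =>
    show Cfsg.puigStep (Cfsg.puigSeq G n) = stepIn ⊤ (seqIn ⊤ n)
    rw [ih, puigStep_eq]

theorem puigLower_eq : Cfsg.puigLower G = lowIn ⊤ := by
  unfold Cfsg.puigLower lowIn
  simp only [puigSeq_eq]

theorem puigSubgroup_eq : Cfsg.puigSubgroup G = upIn ⊤ := by
  unfold Cfsg.puigSubgroup upIn
  simp only [puigSeq_eq]

/-- images under a homomorphism injective on `H` -/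
theorem map_stepIn (f : G →* G') (H X : Subgroup G) (hinj : ∀ x ∈ H, f x = 1 → x = 1)
    (hX : X ≤ H) : (stepIn H X).map f = stepIn (H.map f) (X.map f) := by
  have hinj' : ∀ x ∈ H, ∀ y ∈ H, f x = f y → x = y := by
    intro x hx y hy hxy
    have h1 : f (x * y⁻¹) = 1 := by rw [map_mul, map_inv, hxy, mul_inv_cancel]
    have h2 := hinj _ (mul_mem hx (inv_mem hy)) h1
    exact mul_inv_eq_one.mp h2
  apply le_antisymm
  · rw [Subgroup.map_le_iff_le_comap]
    apply sSup_le
    rintro A ⟨hAH, hAc, hXA⟩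
    rw [← Subgroup.map_le_iff_le_comap]
    exact le_stepIn (Subgroup.map_mono hAH) (Subgroup.map_isMulCommutative A f)
      ((Subgroup.map_mono hXA).trans (Subgroup.le_normalizer_map f))
  · apply sSup_le
    rintro B ⟨hBH, hBc, hXB⟩
    have hAB : (B.comap f ⊓ H).map f = B := by
      apply le_antisymm
      · rintro _ ⟨a, ha, rfl⟩
        exact ha.1
      · intro b hb
        obtain ⟨h, hh, rfl⟩ := hBH hb
        exact ⟨h, ⟨hb, hh⟩, rfl⟩
    rw [← hAB]
    apply Subgroup.map_mono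
    refine le_stepIn inf_le_right ?_ ?_
    · refine ⟨⟨?_⟩⟩
      rintro ⟨a, ha⟩ ⟨b, hb⟩
      apply Subtype.ext
      show a * b = b * a
      apply hinj' _ (mul_mem ha.2 hb.2) _ (mul_mem hb.2 ha.2)
      rw [map_mul, map_mul]
      exact congrArg Subtype.val (hBc.is_comm.comm ⟨f a, ha.1⟩ ⟨f b, hb.1⟩)
    · intro x hx
      have key : ∀ y ∈ X, ∀ a ∈ B.comap f ⊓ H, y * a * y⁻¹ ∈ B.comap f ⊓ H := by
        intro y hy a ha
        obtain ⟨ha1, ha2⟩ := Subgroup.mem_inf.mp ha
        refine Subgroup.mem_inf.mpr ⟨?_, mul_mem (mul_mem (hX hy) ha2) (inv_mem (hX hy))⟩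
        show f (y * a * y⁻¹) ∈ B
        rw [map_mul, map_mul, map_inv]
        exact (Subgroup.mem_set_normalizer_iff.mp (hXB (Subgroup.mem_map_of_mem f hy)) (f a)).mp
          ha1
      rw [Subgroup.mem_set_normalizer_iff]
      intro a
      constructor
      · exact key x hx a
      · intro ha
        have := key x⁻¹ (inv_mem hx) _ ha
        simpa [mul_assoc] using this

theorem map_seqIn (f : G →* G') (H : Subgroup G) (hinj : ∀ x ∈ H, f x = 1 → x = 1) (n : ℕ) :
    (seqIn H n).map f = seqIn (H.map f) n := by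
  induction n with
  | zero => simp [seqIn_zero]
  | succ n ih =>
    rw [seqIn_succ, seqIn_succ, map_stepIn f H _ hinj (seqIn_le H n), ih]

theorem map_lowIn (f : G →* G') (H : Subgroup G) (hinj : ∀ x ∈ H, f x = 1 → x = 1) :
    (lowIn H).map f = lowIn (H.map f) := by
  unfold lowIn
  rw [Subgroup.map_iSup]
  simp only [map_seqIn f H hinj]

theorem map_upIn (f : G →* G') (H : Subgroup G) (hinj : ∀ x ∈ H, f x = 1 → x = 1) :
    (upIn H).map f = upIn (H.map f) := by
  have hinj' : ∀ x ∈ H, ∀ y ∈ H, f x = f y → x = y := by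
    intro x hx y hy hxy
    have h1 : f (x * y⁻¹) = 1 := by rw [map_mul, map_inv, hxy, mul_inv_cancel]
    have h2 := hinj _ (mul_mem hx (inv_mem hy)) h1
    exact mul_inv_eq_one.mp h2
  unfold upIn
  apply le_antisymm
  · apply le_iInf
    intro n
    rw [← map_seqIn f H hinj]
    exact Subgroup.map_mono (iInf_le _ n)
  · intro y hy
    rw [Subgroup.mem_iInf] at hy
    have h0 := hy 0
    rw [← map_seqIn f H hinj] at h0
    obtain ⟨k, hk, rfl⟩ := Subgroup.mem_map.mp h0
    refine Subgroup.mem_map.mpr ⟨k, ?_, rfl⟩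
    rw [Subgroup.mem_iInf]
    intro n
    have hn := hy n
    rw [← map_seqIn f H hinj] at hn
    obtain ⟨k', hk', hkk'⟩ := Subgroup.mem_map.mp hn
    have := hinj' k' (seqIn_le H _ hk') k (seqIn_le H _ hk) hkk'
    rw [← this]
    exact hk'

theorem zOf_le (K : Subgroup G) : zOf K ≤ K := inf_le_left

theorem map_zOf (f : G →* G') (K : Subgroup G) (hinj : ∀ x ∈ K, f x = 1 → x = 1) :
    (zOf K).map f = zOf (K.map f) := by
  have hinj' : ∀ x ∈ K, ∀ y ∈ K, f x = f y → x = y := by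
    intro x hx y hy hxy
    have h1 : f (x * y⁻¹) = 1 := by rw [map_mul, map_inv, hxy, mul_inv_cancel]
    have h2 := hinj _ (mul_mem hx (inv_mem hy)) h1
    exact mul_inv_eq_one.mp h2
  unfold zOf
  apply le_antisymm
  · intro y hy
    obtain ⟨z, hz, rfl⟩ := Subgroup.mem_map.mp hy
    obtain ⟨hzK, hzC⟩ := Subgroup.mem_inf.mp hz
    refine Subgroup.mem_inf.mpr ⟨Subgroup.mem_map_of_mem f hzK, ?_⟩
    rw [Subgroup.mem_centralizer_iff]
    intro y hy
    obtain ⟨k, hk, rfl⟩ := Subgroup.mem_map.mp hy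
    rw [← map_mul, ← map_mul, Subgroup.mem_centralizer_iff.mp hzC k hk]
  · intro y hy
    obtain ⟨hy1, hyC⟩ := Subgroup.mem_inf.mp hy
    obtain ⟨z, hzK, rfl⟩ := Subgroup.mem_map.mp hy1
    refine Subgroup.mem_map.mpr ⟨z, Subgroup.mem_inf.mpr ⟨hzK, ?_⟩, rfl⟩
    rw [Subgroup.mem_centralizer_iff]
    intro k hk
    apply hinj' _ (mul_mem hk hzK) _ (mul_mem hzK hk)
    rw [map_mul, map_mul]
    exact Subgroup.mem_centralizer_iff.mp hyC (f k) (Subgroup.mem_map_of_mem f hk)

theorem subtype_inj (H : Subgroup G) : ∀ x ∈ (⊤ : Subgroup ↥H), H.subtype x = 1 → x = 1 := by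
  intro x _ hx
  exact Subtype.ext (by simpa using hx)

theorem map_subtype_top (H : Subgroup G) : (⊤ : Subgroup ↥H).map H.subtype = H := by
  rw [← MonoidHom.range_eq_map, Subgroup.range_subtype]

theorem map_subtype_puigSeq (H : Subgroup G) (n : ℕ) :
    (Cfsg.puigSeq ↥H n).map H.subtype = seqIn H n := by
  rw [puigSeq_eq, map_seqIn H.subtype ⊤ (subtype_inj H) n, map_subtype_top]

theorem map_subtype_puigLower (H : Subgroup G) :
    (Cfsg.puigLower ↥H).map H.subtype = lowIn H := by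
  rw [puigLower_eq, map_lowIn H.subtype ⊤ (subtype_inj H), map_subtype_top]

theorem map_subtype_puigSubgroup (H : Subgroup G) :
    (Cfsg.puigSubgroup ↥H).map H.subtype = upIn H := by
  rw [puigSubgroup_eq, map_upIn H.subtype ⊤ (subtype_inj H), map_subtype_top]

theorem map_subtype_center (H : Subgroup G) (K : Subgroup ↥H) :
    ((Subgroup.center ↥K).map K.subtype).map H.subtype = zOf (K.map H.subtype) := by
  ext x
  constructor
  · intro hx
    obtain ⟨y, hy, rfl⟩ := Subgroup.mem_map.mp hx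
    obtain ⟨z, hz, rfl⟩ := Subgroup.mem_map.mp hy
    refine Subgroup.mem_inf.mpr ⟨Subgroup.mem_map_of_mem _ z.2, ?_⟩
    rw [Subgroup.mem_centralizer_iff]
    intro w hw
    obtain ⟨k, hk, rfl⟩ := Subgroup.mem_map.mp hw
    have h1 := Subgroup.mem_center_iff.mp hz ⟨k, hk⟩
    have h2 := congrArg (fun t : ↥K => ((t : ↥H) : G)) h1
    simpa using h2
  · intro hx
    obtain ⟨hx1, hx2⟩ := Subgroup.mem_inf.mp hx
    obtain ⟨k, hk, rfl⟩ := Subgroup.mem_map.mp hx1
    refine Subgroup.mem_map.mpr ⟨k, Subgroup.mem_map.mpr ⟨⟨k, hk⟩, ?_, rfl⟩, rfl⟩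
    rw [Subgroup.mem_center_iff]
    intro k'
    apply Subtype.ext
    apply Subtype.ext
    have := Subgroup.mem_centralizer_iff.mp hx2 _ (Subgroup.mem_map_of_mem H.subtype k'.2)
    simpa using this

theorem conj_inj (g : G) (H : Subgroup G) :
    ∀ x ∈ H, (MulAut.conj g).toMonoidHom x = 1 → x = 1 := by
  intro x _ hx
  have : (MulAut.conj g) x = 1 := hx
  simpa using this

theorem seqIn_map_conj (H : Subgroup G) (g : G) (hg : g ∈ Subgroup.normalizer (H : Set G))
    (n : ℕ) : (seqIn H n).map (MulAut.conj g).toMonoidHom = seqIn H n := by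
  have hH : H.map (MulAut.conj g).toMonoidHom = H := Subgroup.mem_normalizer_iff_map_conj_eq.mp hg
  rw [map_seqIn _ H (conj_inj g H) n, hH]

theorem upIn_map_conj (H : Subgroup G) (g : G) (hg : g ∈ Subgroup.normalizer (H : Set G)) :
    (upIn H).map (MulAut.conj g).toMonoidHom = upIn H := by
  have hH : H.map (MulAut.conj g).toMonoidHom = H := Subgroup.mem_normalizer_iff_map_conj_eq.mp hg
  rw [map_upIn _ H (conj_inj g H), hH]

theorem lowIn_map_conj (H : Subgroup G) (g : G) (hg : g ∈ Subgroup.normalizer (H : Set G)) :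
    (lowIn H).map (MulAut.conj g).toMonoidHom = lowIn H := by
  have hH : H.map (MulAut.conj g).toMonoidHom = H := Subgroup.mem_normalizer_iff_map_conj_eq.mp hg
  rw [map_lowIn _ H (conj_inj g H), hH]

theorem zOf_map_conj (K : Subgroup G) (g : G)
    (hg : K.map (MulAut.conj g).toMonoidHom = K) :
    (zOf K).map (MulAut.conj g).toMonoidHom = zOf K := by
  rw [map_zOf _ K (conj_inj g K), hg]

theorem normalizer_le_normalizer_seqIn (H : Subgroup G) (n : ℕ) :
    Subgroup.normalizer (H : Set G) ≤ Subgroup.normalizer (seqIn H n : Set G) :=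
  fun g hg => Subgroup.mem_normalizer_iff_map_conj_eq.mpr (seqIn_map_conj H g hg n)

theorem normalizer_le_normalizer_upIn (H : Subgroup G) :
    Subgroup.normalizer (H : Set G) ≤ Subgroup.normalizer (upIn H : Set G) :=
  fun g hg => Subgroup.mem_normalizer_iff_map_conj_eq.mpr (upIn_map_conj H g hg)

theorem normalizer_le_normalizer_lowIn (H : Subgroup G) :
    Subgroup.normalizer (H : Set G) ≤ Subgroup.normalizer (lowIn H : Set G) :=
  fun g hg => Subgroup.mem_normalizer_iff_map_conj_eq.mpr (lowIn_map_conj H g hg)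

theorem normalizer_le_normalizer_zOf (K : Subgroup G) :
    Subgroup.normalizer (K : Set G) ≤ Subgroup.normalizer (zOf K : Set G) :=
  fun g hg => Subgroup.mem_normalizer_iff_map_conj_eq.mpr
    (zOf_map_conj K g (Subgroup.mem_normalizer_iff_map_conj_eq.mp hg))

theorem seqIn_normal (H : Subgroup G) [hH : H.Normal] (n : ℕ) : (seqIn H n).Normal := by
  rw [← Subgroup.normalizer_eq_top_iff, eq_top_iff]
  refine le_trans ?_ (normalizer_le_normalizer_seqIn H n)
  rw [Subgroup.normalizer_eq_top_iff.mpr hH]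

theorem upIn_normal (H : Subgroup G) [hH : H.Normal] : (upIn H).Normal := by
  rw [← Subgroup.normalizer_eq_top_iff, eq_top_iff]
  refine le_trans ?_ (normalizer_le_normalizer_upIn H)
  rw [Subgroup.normalizer_eq_top_iff.mpr hH]

theorem lowIn_normal (H : Subgroup G) [hH : H.Normal] : (lowIn H).Normal := by
  rw [← Subgroup.normalizer_eq_top_iff, eq_top_iff]
  refine le_trans ?_ (normalizer_le_normalizer_lowIn H)
  rw [Subgroup.normalizer_eq_top_iff.mpr hH]

theorem zOf_normal (K : Subgroup G) [hK : K.Normal] : (zOf K).Normal := by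
  rw [← Subgroup.normalizer_eq_top_iff, eq_top_iff]
  refine le_trans ?_ (normalizer_le_normalizer_zOf K)
  rw [Subgroup.normalizer_eq_top_iff.mpr hK]

theorem zOf_comm (K : Subgroup G) : IsMulCommutative ↥(zOf K) := by
  refine ⟨⟨?_⟩⟩
  rintro ⟨a, ha⟩ ⟨b, hb⟩
  apply Subtype.ext
  show a * b = b * a
  exact (Subgroup.mem_centralizer_iff.mp (Subgroup.mem_inf.mp ha).2 b (Subgroup.mem_inf.mp hb).1).symm

theorem lowIn_le_upIn [Finite G] (H : Subgroup G) : lowIn H ≤ upIn H := by
  obtain ⟨_, _, _, _, h5, _, _⟩ := Cfsg.Agent.S1467.result (G := ↥H)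
  rw [← map_subtype_puigLower, ← map_subtype_puigSubgroup]
  exact Subgroup.map_mono h5

theorem stepIn_lowIn [Finite G] (H : Subgroup G) : stepIn H (lowIn H) = upIn H := by
  obtain ⟨_, _, _, _, _, h6, _⟩ := Cfsg.Agent.S1467.result (G := ↥H)
  have := map_stepIn H.subtype ⊤ (Cfsg.puigLower ↥H) (subtype_inj H) le_top
  rw [map_subtype_top, map_subtype_puigLower, ← puigStep_eq, h6, map_subtype_puigSubgroup] at this
  exact this.symm

theorem stepIn_upIn [Finite G] (H : Subgroup G) : stepIn H (upIn H) = lowIn H := by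
  obtain ⟨_, _, _, _, _, _, h7⟩ := Cfsg.Agent.S1467.result (G := ↥H)
  have := map_stepIn H.subtype ⊤ (Cfsg.puigSubgroup ↥H) (subtype_inj H) le_top
  rw [map_subtype_top, map_subtype_puigSubgroup, ← puigStep_eq, h7, map_subtype_puigLower] at this
  exact this.symm

/-- a generator of `stepIn K X` lying in `H` is in `stepIn H Y` for `Y ≤ X` -/
theorem stepIn_le_of_le {H K X Y : Subgroup G} (hYX : Y ≤ X) (hle : stepIn K X ≤ H) :
    stepIn K X ≤ stepIn H Y := by
  apply sSup_le
  rintro A ⟨hAK, hAc, hXA⟩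
  have hA : A ≤ stepIn K X := le_stepIn hAK hAc hXA
  exact le_stepIn (hA.trans hle) hAc (hYX.trans hXA)

theorem compare (H K : Subgroup G) (hHK : H ≤ K)
    (hB : ∀ n : ℕ, seqIn H (2 * n + 1) ≤ seqIn K (2 * n + 1) → seqIn K (2 * n + 2) ≤ H) :
    ∀ n : ℕ, seqIn K (2 * n) ≤ seqIn H (2 * n) ∧ seqIn H (2 * n + 1) ≤ seqIn K (2 * n + 1) := by
  intro n
  induction n with
  | zero =>
    refine ⟨le_of_eq rfl, ?_⟩
    exact stepIn_mono_left hHK _
  | succ n ih =>
    obtain ⟨ih1, ih2⟩ := ih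
    have h1 : seqIn K (2 * (n + 1)) ≤ seqIn H (2 * (n + 1)) := by
      have hle := hB n ih2
      show stepIn K (seqIn K (2 * n + 1)) ≤ stepIn H (seqIn H (2 * n + 1))
      exact stepIn_le_of_le ih2 hle
    refine ⟨h1, ?_⟩
    show stepIn H (seqIn H (2 * (n + 1))) ≤ stepIn K (seqIn K (2 * (n + 1)))
    exact (stepIn_anti H h1).trans (stepIn_mono_left hHK _)

theorem compare_low (H K : Subgroup G) (hHK : H ≤ K)
    (hB : ∀ n : ℕ, seqIn H (2 * n + 1) ≤ seqIn K (2 * n + 1) → seqIn K (2 * n + 2) ≤ H) :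
    lowIn K ≤ lowIn H :=
  iSup_le fun n => ((compare H K hHK hB n).1).trans (le_iSup (fun n => seqIn H (2 * n)) n)

theorem compare_up (H K : Subgroup G) (hHK : H ≤ K)
    (hB : ∀ n : ℕ, seqIn H (2 * n + 1) ≤ seqIn K (2 * n + 1) → seqIn K (2 * n + 2) ≤ H) :
    upIn H ≤ upIn K :=
  le_iInf fun n => (iInf_le (fun n => seqIn H (2 * n + 1)) n).trans ((compare H K hHK hB n).2)

theorem closed_pair (R S U W : Subgroup G) (hRS : R ≤ S) (hWR : W ≤ R) (hUW : U ≤ W)
    (h1 : stepIn S W = U) (h2 : stepIn S U = W) :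
    ∀ n : ℕ, seqIn R (2 * n) ≤ U ∧ W ≤ seqIn R (2 * n + 1) := by
  have e1 : stepIn R W = U := by
    apply le_antisymm
    · rw [← h1]; exact stepIn_mono_left hRS _
    · rw [← h1]
      exact stepIn_le_of_le le_rfl (by rw [h1]; exact hUW.trans hWR)
  have e2 : stepIn R U = W := by
    apply le_antisymm
    · rw [← h2]; exact stepIn_mono_left hRS _
    · rw [← h2]
      exact stepIn_le_of_le le_rfl (by rw [h2]; exact hWR)
  intro n
  induction n with
  | zero =>
    refine ⟨bot_le, ?_⟩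
    show W ≤ stepIn R ⊥
    rw [← e2]
    exact stepIn_anti R bot_le
  | succ n ih =>
    obtain ⟨ih1, ih2⟩ := ih
    have h3 : seqIn R (2 * (n + 1)) ≤ U := by
      show stepIn R (seqIn R (2 * n + 1)) ≤ U
      rw [← e1]
      exact stepIn_anti R ih2
    refine ⟨h3, ?_⟩
    show W ≤ stepIn R (seqIn R (2 * (n + 1)))
    rw [← e2]
    exact stepIn_anti R h3

/-- `L(S) ≤ R ≤ S` implies `L(R) = L(S)` -/
theorem upIn_eq_of_between [Finite G] (R S : Subgroup G) (hRS : R ≤ S) (hLR : upIn S ≤ R) :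
    upIn R = upIn S := by
  apply le_antisymm
  · apply compare_up R S hRS
    intro n _
    have h1 : seqIn S (2 * n + 2) ≤ lowIn S := le_iSup (fun n => seqIn S (2 * n)) (n + 1)
    exact (h1.trans (lowIn_le_upIn S)).trans hLR
  · apply le_iInf
    intro n
    exact (closed_pair R S (lowIn S) (upIn S) hRS hLR (lowIn_le_upIn S) (stepIn_upIn S)
      (stepIn_lowIn S) n).2

end Cfsg.Agent.Lib.Helper11.PuigAmbient
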