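import Mathlib
import Cfsg.Prelude.Def_OddOrderLocal
import Cfsg.Agent.S1465
import Cfsg.Agent.Lib.Helper11.PuigAmbient

set_option autoImplicit false

namespace Cfsg.Agent.Lib.Helper11.PuigSolvable

open Cfsg.Agent.Lib.Helper11.PuigAmbient

variable {G : Type*} [Group G]

theorem centralizer_stepIn_le [Finite G] (p : ℕ) [Fact p.Prime] (T : Subgroup G)
    (hT : IsPGroup p T) (Y : Subgroup G) (hY : Y ≤ T) :
    T ⊓ Subgroup.centralizer (stepIn T Y : Set G) ≤ stepIn T Y := by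
  have hnil : Group.IsNilpotent ↥T := hT.isNilpotent
  have hmap : (Cfsg.puigStep (Y.subgroupOf T)).map T.subtype = stepIn T Y := by
    rw [puigStep_eq, map_stepIn T.subtype ⊤ _ (subtype_inj T) le_top, map_subtype_top,
      Subgroup.map_subgroupOf_eq_of_le hY]
  intro t ht
  obtain ⟨htT, htC⟩ := Subgroup.mem_inf.mp ht
  have h1 : (⟨t, htT⟩ : ↥T) ∈ Subgroup.centralizer
      ((Cfsg.puigStep (Y.subgroupOf T) : Subgroup ↥T) : Set ↥T) := by
    rw [Subgroup.mem_centralizer_iff]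
    intro w hw
    apply Subtype.ext
    have hw' : (w : G) ∈ stepIn T Y := by
      rw [← hmap]
      exact Subgroup.mem_map_of_mem T.subtype hw
    exact Subgroup.mem_centralizer_iff.mp htC _ hw'
  have h2 := Cfsg.Agent.S1466.centralizer_puigStep_le (Y.subgroupOf T) h1
  rw [← hmap]
  exact Subgroup.mem_map.mpr ⟨⟨t, htT⟩, h2, rfl⟩

theorem stepIn_sylow_le_pCore [Finite G] [Group.IsSolvable G] (hodd : Odd (Nat.card G)) (p : ℕ)
    [Fact p.Prime] (hp : p ≠ 2) (hO : Cfsg.pPrimeCore p G = ⊥) (S : Sylow p G)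
    (X : Subgroup G) [X.Normal] (hXp : IsPGroup p X)
    (hXc : Cfsg.pCore p G ⊓ Subgroup.centralizer (X : Set G) ≤ X) :
    stepIn (S : Subgroup G) X ≤ Cfsg.pCore p G :=
  (Cfsg.Agent.S1465.result hodd p hp X hXp
    {A : Subgroup G | A ≤ (S : Subgroup G) ∧ IsMulCommutative A ∧
      X ≤ Subgroup.normalizer (A : Set G)}
    (fun _ hB => ⟨hB.2.1, S.isPGroup'.to_le hB.1, hB.2.2⟩)).2 hO hXc

theorem pCore_le_sylow (p : ℕ) [Fact p.Prime] (S : Sylow p G) [Finite G] :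
    Cfsg.pCore p G ≤ (S : Subgroup G) :=
  Cfsg.Agent.Lib.Helper1.pCore_le_sylow p S

theorem puig_compare_hB [Finite G] [Group.IsSolvable G] (hodd : Odd (Nat.card G)) (p : ℕ)
    [Fact p.Prime] (hp : p ≠ 2) (hO : Cfsg.pPrimeCore p G = ⊥) (S : Sylow p G) :
    ∀ n : ℕ, seqIn (Cfsg.pCore p G) (2 * n + 1) ≤ seqIn (S : Subgroup G) (2 * n + 1) →
      seqIn (S : Subgroup G) (2 * n + 2) ≤ Cfsg.pCore p G := by
  intro n h
  have hTp : IsPGroup p ↥(Cfsg.pCore p G) := Cfsg.Agent.Lib.Helper1.pCore_isPGroup p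
  have hXn : (seqIn (Cfsg.pCore p G) (2 * n + 1)).Normal := seqIn_normal _ _
  have hXT : seqIn (Cfsg.pCore p G) (2 * n + 1) ≤ Cfsg.pCore p G := seqIn_le _ _
  have hXc : Cfsg.pCore p G ⊓ Subgroup.centralizer (seqIn (Cfsg.pCore p G) (2 * n + 1) : Set G) ≤
      seqIn (Cfsg.pCore p G) (2 * n + 1) :=
    centralizer_stepIn_le p _ hTp _ (seqIn_le _ _)
  have h1 := stepIn_sylow_le_pCore hodd p hp hO S (seqIn (Cfsg.pCore p G) (2 * n + 1))
    (hTp.to_le hXT) hXc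
  exact (stepIn_anti (S : Subgroup G) h).trans h1

theorem puig_low [Finite G] [Group.IsSolvable G] (hodd : Odd (Nat.card G)) (p : ℕ)
    [Fact p.Prime] (hp : p ≠ 2) (hO : Cfsg.pPrimeCore p G = ⊥) (S : Sylow p G) :
    lowIn (S : Subgroup G) ≤ lowIn (Cfsg.pCore p G) :=
  compare_low _ _ (pCore_le_sylow p S) (puig_compare_hB hodd p hp hO S)

theorem puig_up [Finite G] [Group.IsSolvable G] (hodd : Odd (Nat.card G)) (p : ℕ)
    [Fact p.Prime] (hp : p ≠ 2) (hO : Cfsg.pPrimeCore p G = ⊥) (S : Sylow p G) :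
    upIn (Cfsg.pCore p G) ≤ upIn (S : Subgroup G) :=
  compare_up _ _ (pCore_le_sylow p S) (puig_compare_hB hodd p hp hO S)

end Cfsg.Agent.Lib.Helper11.PuigSolvable
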