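import Mathlib
import Cfsg.Prelude.Def_OddOrderLocal
import Cfsg.Agent.Lib.Helper11.PuigSolvable
import Cfsg.Agent.Lib.Helper1.PLength

set_option autoImplicit false

namespace Cfsg.Agent.Lib.Helper11.PuigCenter

open Cfsg.Agent.Lib.Helper11.PuigAmbient Cfsg.Agent.Lib.Helper11.PuigSolvable

variable {G : Type*} [Group G]

theorem relIndex_mul_index_sup [Finite G] (N T : Subgroup G) [N.Normal] :
    T.relIndex N * (T ⊔ N).index = T.index := by
  have hA : (T ⊓ N).relIndex N * N.index = (T ⊓ N).index :=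
    Subgroup.relIndex_mul_index inf_le_right
  have hB : (T ⊓ N).relIndex T * T.index = (T ⊓ N).index :=
    Subgroup.relIndex_mul_index inf_le_left
  have hC : N.relIndex (T ⊔ N) * (T ⊔ N).index = N.index :=
    Subgroup.relIndex_mul_index le_sup_right
  rw [Subgroup.inf_relIndex_right] at hA
  rw [Subgroup.inf_relIndex_left, ← Subgroup.relIndex_sup_right T N] at hB
  have hne : N.relIndex (T ⊔ N) ≠ 0 := by
    intro h0
    have h1 : N.relIndex (T ⊔ N) ∣ Nat.card (T ⊔ N : Subgroup G) := Subgroup.relIndex_dvd_card _ _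
    rw [h0] at h1
    have := Nat.eq_zero_of_zero_dvd h1
    have hpos : 0 < Nat.card (T ⊔ N : Subgroup G) := Nat.card_pos
    omega
  have key : N.relIndex (T ⊔ N) * (T.relIndex N * (T ⊔ N).index) =
      N.relIndex (T ⊔ N) * T.index := by
    rw [hB, ← hA, ← hC]; ring
  exact Nat.eq_of_mul_eq_mul_left (Nat.pos_of_ne_zero hne) key

theorem not_dvd_relIndex_sylow [Finite G] (p : ℕ) [Fact p.Prime] (S : Sylow p G)
    (D : Subgroup G) [D.Normal] : ¬ p ∣ ((S : Subgroup G) ⊓ D).relIndex D := by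
  rw [Subgroup.inf_relIndex_right]
  intro h
  have h1 := relIndex_mul_index_sup D (S : Subgroup G)
  exact S.not_dvd_index (h1 ▸ Dvd.dvd.mul_right h _)

/-- Frattini argument for `S ∩ D` -/
theorem frattini_inf [Finite G] (p : ℕ) [Fact p.Prime] (S : Sylow p G)
    (D : Subgroup G) [D.Normal] :
    Subgroup.normalizer (((S : Subgroup G) ⊓ D : Subgroup G) : Set G) ⊔ D = ⊤ := by
  have hp1 : IsPGroup p ↥((((S : Subgroup G) ⊓ D).subgroupOf D)) :=
    (S.isPGroup'.to_le inf_le_left).comap_of_injective _ (Subgroup.subtype_injective _)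
  have hp2 : ¬ p ∣ (((S : Subgroup G) ⊓ D).subgroupOf D).index := not_dvd_relIndex_sylow p S D
  have := Sylow.normalizer_sup_eq_top (hp1.toSylow hp2)
  rw [IsPGroup.toSylow_coe, Subgroup.map_subgroupOf_eq_of_le inf_le_right] at this
  exact this

theorem relIndex_comap_mk (C : Subgroup G) [C.Normal]
    (Q : Subgroup (G ⧸ C)) : C.relIndex (Q.comap (QuotientGroup.mk' C)) = Nat.card Q := by
  have h := Subgroup.relIndex_comap (⊥ : Subgroup (G ⧸ C)) (QuotientGroup.mk' C)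
    (Q.comap (QuotientGroup.mk' C))
  rw [MonoidHom.comap_bot, QuotientGroup.ker_mk', Subgroup.map_comap_eq_self_of_surjective
      (QuotientGroup.mk'_surjective _), Subgroup.relIndex_bot_left] at h
  exact h

theorem comap_pCore_le_sup [Finite G] (p : ℕ) [Fact p.Prime] (S : Sylow p G)
    (C : Subgroup G) [C.Normal] :
    (Cfsg.pCore p (G ⧸ C)).comap (QuotientGroup.mk' C) ≤
      C ⊔ ((S : Subgroup G) ⊓ (Cfsg.pCore p (G ⧸ C)).comap (QuotientGroup.mk' C)) := by
  obtain ⟨D, hD⟩ : ∃ D : Subgroup G, D = (Cfsg.pCore p (G ⧸ C)).comap (QuotientGroup.mk' C) :=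
    ⟨_, rfl⟩
  rw [← hD]
  have hDn : D.Normal := by
    rw [hD]
    exact (Cfsg.pCore_normal p (G ⧸ C)).comap _
  have hpp : p.Prime := Fact.out
  have h1 : (C ⊔ ((S : Subgroup G) ⊓ D)).relIndex D ∣ C.relIndex D :=
    Subgroup.relIndex_dvd_of_le_left D le_sup_left
  have h2 : (C ⊔ ((S : Subgroup G) ⊓ D)).relIndex D ∣ ((S : Subgroup G) ⊓ D).relIndex D :=
    Subgroup.relIndex_dvd_of_le_left D le_sup_right
  have h3 : C.relIndex D = Nat.card ↥(Cfsg.pCore p (G ⧸ C)) := by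
    rw [hD]; exact relIndex_comap_mk C _
  obtain ⟨k, hk⟩ := IsPGroup.iff_card.mp (Cfsg.Agent.Lib.Helper1.pCore_isPGroup (G := G ⧸ C) p)
  rw [h3, hk] at h1
  obtain ⟨j, _, hj⟩ := (Nat.dvd_prime_pow hpp).mp h1
  have hj0 : j = 0 := by
    by_contra hj0
    have h4 : p ∣ (C ⊔ ((S : Subgroup G) ⊓ D)).relIndex D := by
      rw [hj]; exact dvd_pow_self p hj0
    exact not_dvd_relIndex_sylow p S D (h4.trans h2)
  rw [hj0, pow_zero] at hj
  exact Subgroup.relIndex_eq_one.mp hj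

/-- Puig: `Z(L(S))` is normal when `O_{p'}(G) = 1` -/
theorem puig_center_normal [Finite G] [Group.IsSolvable G] (hodd : Odd (Nat.card G)) (p : ℕ)
    [Fact p.Prime] (hp : p ≠ 2) (hO : Cfsg.pPrimeCore p G = ⊥) (S : Sylow p G) :
    (zOf (upIn (S : Subgroup G))).Normal := by
  have hTS : Cfsg.pCore p G ≤ (S : Subgroup G) := pCore_le_sylow p S
  have hTp : IsPGroup p ↥(Cfsg.pCore p G) := Cfsg.Agent.Lib.Helper1.pCore_isPGroup p
  have hlow := puig_low hodd p hp hO S
  have hup := puig_up hodd p hp hO S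
  have hmid : lowIn (Cfsg.pCore p G) ≤ upIn (Cfsg.pCore p G) := lowIn_le_upIn _
  have hLTn : (upIn (Cfsg.pCore p G)).Normal := upIn_normal _
  obtain ⟨Y, hY⟩ : ∃ Y : Subgroup G, Y = zOf (upIn (Cfsg.pCore p G)) := ⟨_, rfl⟩
  have hYn : Y.Normal := by rw [hY]; exact zOf_normal _
  have hYc : IsMulCommutative ↥Y := by rw [hY]; exact zOf_comm _
  have hYT : Y ≤ Cfsg.pCore p G := by rw [hY]; exact (zOf_le _).trans (upIn_le _)
  have hYp : IsPGroup p ↥Y := hTp.to_le hYT
  have hYlow : Y ≤ lowIn (S : Subgroup G) := by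
    rw [← stepIn_upIn (S : Subgroup G)]
    refine le_stepIn (hYT.trans hTS) hYc ?_
    rw [Subgroup.normalizer_eq_top_iff.mpr hYn]
    exact le_top
  obtain ⟨Z, hZ⟩ : ∃ Z : Subgroup G, Z = zOf (upIn (S : Subgroup G)) := ⟨_, rfl⟩
  rw [← hZ]
  have hZlow : Z ≤ lowIn (S : Subgroup G) := by
    rw [← stepIn_upIn (S : Subgroup G), hZ]
    refine le_stepIn ((zOf_le _).trans (upIn_le _)) (zOf_comm _) ?_
    exact (Subgroup.le_normalizer).trans (normalizer_le_normalizer_zOf (upIn (S : Subgroup G)))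
  have hZY : Z ≤ Y := by
    intro z hz
    rw [hY]
    refine Subgroup.mem_inf.mpr ⟨hmid (hlow (hZlow hz)), ?_⟩
    have hz2 : z ∈ Subgroup.centralizer (upIn (S : Subgroup G) : Set G) := by
      rw [hZ] at hz
      exact (Subgroup.mem_inf.mp hz).2
    exact Subgroup.centralizer_le hup hz2
  -- p-stability
  have hstab := (Cfsg.Agent.S1465.result hodd p hp Y hYp
    {A : Subgroup G | A ≤ (S : Subgroup G) ∧ IsMulCommutative A ∧
      lowIn (S : Subgroup G) ≤ Subgroup.normalizer (A : Set G)}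
    (fun _ hB => ⟨hB.2.1, S.isPGroup'.to_le hB.1, hYlow.trans hB.2.2⟩)).1
  have hCn : (Subgroup.centralizer (Y : Set G)).Normal := Subgroup.normal_centralizer
  obtain ⟨D, hD⟩ : ∃ D : Subgroup G, D = (Cfsg.pCore p (G ⧸ Subgroup.centralizer (Y : Set G))).comap
      (QuotientGroup.mk' (Subgroup.centralizer (Y : Set G))) := ⟨_, rfl⟩
  have hLD : upIn (S : Subgroup G) ≤ D := by
    rw [← stepIn_lowIn (S : Subgroup G), hD]
    exact Subgroup.map_le_iff_le_comap.mp hstab
  have hDn : D.Normal := by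
    rw [hD]
    exact (Cfsg.pCore_normal p _).comap _
  have hLR : upIn (S : Subgroup G) ≤ (S : Subgroup G) ⊓ D := le_inf (upIn_le _) hLD
  have hLeq : upIn ((S : Subgroup G) ⊓ D) = upIn (S : Subgroup G) :=
    upIn_eq_of_between _ _ inf_le_left hLR
  have hNR : Subgroup.normalizer (((S : Subgroup G) ⊓ D : Subgroup G) : Set G) ≤
      Subgroup.normalizer (Z : Set G) := by
    have := (normalizer_le_normalizer_upIn ((S : Subgroup G) ⊓ D)).trans
      (normalizer_le_normalizer_zOf (upIn ((S : Subgroup G) ⊓ D)))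
    rwa [hLeq, ← hZ] at this
  have hCZ : Subgroup.centralizer (Y : Set G) ≤ Subgroup.normalizer (Z : Set G) :=
    (Subgroup.centralizer_le hZY).trans (Subgroup.centralizer_le_normalizer _)
  have hfr := frattini_inf p S D
  have hDle : D ≤ Subgroup.centralizer (Y : Set G) ⊔ ((S : Subgroup G) ⊓ D) := by
    rw [hD]
    exact comap_pCore_le_sup p S _
  rw [← Subgroup.normalizer_eq_top_iff, eq_top_iff, ← hfr]
  refine sup_le hNR (hDle.trans (sup_le hCZ ?_))
  exact (Subgroup.le_normalizer).trans hNR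

theorem relIndex_sup_eq [Finite G] (K Z : Subgroup G) [K.Normal] :
    Z.relIndex (Z ⊔ K) = Z.relIndex K := by
  have h1 := relIndex_mul_index_sup K Z
  have h2 : Z.relIndex (Z ⊔ K) * (Z ⊔ K).index = Z.index :=
    Subgroup.relIndex_mul_index le_sup_left
  have hne : (Z ⊔ K).index ≠ 0 := Subgroup.index_ne_zero_of_finite
  exact Nat.eq_of_mul_eq_mul_right (Nat.pos_of_ne_zero hne) (h2.trans h1.symm)

/-- Puig factorisation: `G = O_{p'}(G) N_G(Z(L(S)))` -/
theorem puig_factorization [Finite G] [Group.IsSolvable G] (hodd : Odd (Nat.card G)) (p : ℕ)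
    [Fact p.Prime] (hp : p ≠ 2) (S : Sylow p G) :
    Cfsg.pPrimeCore p G ⊔ Subgroup.normalizer (zOf (upIn (S : Subgroup G)) : Set G) = ⊤ := by
  have hpp : p.Prime := Fact.out
  have hKcop : (Nat.card ↥(Cfsg.pPrimeCore p G)).Coprime p :=
    Cfsg.Agent.Lib.Helper1.pPrimeCore_card_coprime p
  have hSK : (S : Subgroup G) ⊓ Cfsg.pPrimeCore p G = ⊥ := by
    apply disjoint_iff.mp
    apply Subgroup.disjoint_of_coprime_natCard
    obtain ⟨k, hk⟩ := IsPGroup.iff_card.mp S.isPGroup'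
    rw [hk]
    exact (Nat.Coprime.pow_right k hKcop).symm
  have hinjS : ∀ x ∈ (S : Subgroup G), QuotientGroup.mk' (Cfsg.pPrimeCore p G) x = 1 → x = 1 := by
    intro x hx h1
    have hxK : x ∈ Cfsg.pPrimeCore p G := by
      rwa [QuotientGroup.mk'_apply, QuotientGroup.eq_one_iff] at h1
    have : x ∈ (S : Subgroup G) ⊓ Cfsg.pPrimeCore p G := Subgroup.mem_inf.mpr ⟨hx, hxK⟩
    rw [hSK] at this
    exact Subgroup.mem_bot.mp this
  have hπ : Function.Surjective (QuotientGroup.mk' (Cfsg.pPrimeCore p G)) :=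
    QuotientGroup.mk'_surjective _
  have hodd' : Odd (Nat.card (G ⧸ Cfsg.pPrimeCore p G)) :=
    Odd.of_dvd_nat hodd (Subgroup.card_quotient_dvd_card _)
  have hO : Cfsg.pPrimeCore p (G ⧸ Cfsg.pPrimeCore p G) = ⊥ :=
    Cfsg.Agent.Lib.Helper1.pPrimeCore_quotient_eq_bot p
  have hnorm := puig_center_normal hodd' p hp hO (S.mapSurjective hπ)
  rw [Sylow.coe_mapSurjective, ← map_upIn _ _ hinjS,
    ← map_zOf _ _ (fun x hx => hinjS x (upIn_le _ hx))] at hnorm
  obtain ⟨Z, hZ⟩ : ∃ Z : Subgroup G, Z = zOf (upIn (S : Subgroup G)) := ⟨_, rfl⟩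
  rw [← hZ] at hnorm ⊢
  have hZS : Z ≤ (S : Subgroup G) := by rw [hZ]; exact (zOf_le _).trans (upIn_le _)
  have hNn : (Z ⊔ Cfsg.pPrimeCore p G).Normal := by
    have h1 := hnorm.comap (QuotientGroup.mk' (Cfsg.pPrimeCore p G))
    rwa [Subgroup.comap_map_eq, QuotientGroup.ker_mk'] at h1
  have hp1 : IsPGroup p ↥(Z.subgroupOf (Z ⊔ Cfsg.pPrimeCore p G)) :=
    (S.isPGroup'.to_le hZS).comap_of_injective _ (Subgroup.subtype_injective _)
  have hp2 : ¬ p ∣ (Z.subgroupOf (Z ⊔ Cfsg.pPrimeCore p G)).index := by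
    show ¬ p ∣ Z.relIndex (Z ⊔ Cfsg.pPrimeCore p G)
    rw [relIndex_sup_eq]
    intro h
    have h2 : p ∣ Nat.card ↥(Cfsg.pPrimeCore p G) := h.trans (Subgroup.relIndex_dvd_card _ _)
    exact (Nat.Prime.coprime_iff_not_dvd hpp).mp hKcop.symm h2
  have hfr := Sylow.normalizer_sup_eq_top (hp1.toSylow hp2)
  rw [IsPGroup.toSylow_coe, Subgroup.map_subgroupOf_eq_of_le le_sup_left] at hfr
  rw [eq_top_iff, ← hfr]
  refine sup_le le_sup_right (sup_le ?_ le_sup_left)
  exact (Subgroup.le_normalizer).trans le_sup_right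

end Cfsg.Agent.Lib.Helper11.PuigCenter
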