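import Mathlib
import Cfsg.Agent.Lib.Helper18.PRL.Defs
import Cfsg.Agent.Lib.helper23.PRLCH1

set_option autoImplicit false

namespace Cfsg.Agent.Lib.Helper18.PRL

open scoped commutatorElement

universe u

theorem h11prl_comm_mul {X : Type*} [Group X] (a b c : X) :
    ⁅a * b, c⁆ = a * ⁅b, c⁆ * a⁻¹ * ⁅a, c⁆ := by
  simp only [commutatorElement_def]; group

theorem h11prl_comm_inv {X : Type*} [Group X] (a c : X) :
    ⁅a⁻¹, c⁆ = a⁻¹ * ⁅a, c⁆⁻¹ * a := by
  simp only [commutatorElement_def]; group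

/-- `{g ∈ M | ⁅g, s⁆ ∈ N}` for a normal subgroup `N` -/
def h11prl_K {X : Type*} [Group X] (M N : Subgroup X) [N.Normal] (s : X) : Subgroup X where
  carrier := {g | g ∈ M ∧ ⁅g, s⁆ ∈ N}
  one_mem' := ⟨M.one_mem, by rw [commutatorElement_one_left]; exact N.one_mem⟩
  mul_mem' := by
    rintro a b ⟨ha, ha'⟩ ⟨hb, hb'⟩
    refine ⟨M.mul_mem ha hb, ?_⟩
    rw [h11prl_comm_mul]
    exact N.mul_mem (Subgroup.Normal.conj_mem inferInstance _ hb' a) ha'
  inv_mem' := by
    rintro a ⟨ha, ha'⟩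
    refine ⟨M.inv_mem ha, ?_⟩
    rw [h11prl_comm_inv]
    have := Subgroup.Normal.conj_mem (inferInstance : N.Normal) _ (N.inv_mem ha') a⁻¹
    rwa [inv_inv] at this

/-- `{g | ∀ z ∈ M, ⁅g, z⁆ ∈ N}` for a normal subgroup `N` -/
def h11prl_C {X : Type*} [Group X] (M N : Subgroup X) [N.Normal] : Subgroup X where
  carrier := {g | ∀ z ∈ M, ⁅g, z⁆ ∈ N}
  one_mem' := fun z _ => by rw [commutatorElement_one_left]; exact N.one_mem
  mul_mem' := by
    intro a b ha hb z hz
    rw [h11prl_comm_mul]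
    exact N.mul_mem (Subgroup.Normal.conj_mem inferInstance _ (hb z hz) a) (ha z hz)
  inv_mem' := by
    intro a ha z hz
    rw [h11prl_comm_inv]
    have := Subgroup.Normal.conj_mem (inferInstance : N.Normal) _ (N.inv_mem (ha z hz)) a⁻¹
    rwa [inv_inv] at this

/-- a subgroup strictly containing a subgroup of prime index is everything -/
theorem h11prl_top_of_index_prime {X : Type*} [Group X] {p : ℕ} (hp : p.Prime) (H C : Subgroup X)
    (hH : H.index = p) (hHC : H ≤ C) (s : X) (hsC : s ∈ C) (hsH : s ∉ H) : C = ⊤ := by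
  have hrel := Subgroup.relIndex_mul_index hHC
  rw [hH] at hrel
  have hdvd : C.index ∣ p := Dvd.intro_left _ hrel
  rcases (Nat.dvd_prime hp).1 hdvd with h1 | h1
  · exact Subgroup.index_eq_one.1 h1
  · exfalso
    rw [h1] at hrel
    have h2 : H.relIndex C = 1 := by
      have hp0 : 0 < p := hp.pos
      exact Nat.eq_of_mul_eq_mul_right hp0 (by rw [hrel, one_mul])
    exact hsH (Subgroup.relIndex_eq_one.1 h2 hsC)

section chain
variable {p : ℕ} [Fact p.Prime] {G : Type u} [Group G] [Finite G] {n : ℕ}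

/-- PRL-UNI -/
theorem unif_of_notMem (h : MC p G n) (hn : 4 ≤ n) (H : Subgroup G) (hH : H.index = p)
    (hyp : Hyp G n H) (s : G) (hsH : s ∉ H) (hsM : s ∉ G1 G) : Unif G n s := by
  have hp : p.Prime := Fact.out
  intro j hj2 hjn g hg hg' hcomm
  have c1 := card_Z h (by omega) j hjn
  have c2 := card_Z h (by omega) (j - 1) (by omega)
  have hj1 : j - 1 = (j - 2) + 1 := by omega
  -- some element of `Z_j` has commutator with `s` outside `Z_{j-2}`
  have hex : ∃ z0 ∈ Z G j, ⁅z0, s⁆ ∉ Z G (j - 2) := by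
    by_contra hne0
    have hne : ∀ z0 ∈ Z G j, ⁅z0, s⁆ ∈ Z G (j - 2) := by
      intro z0 hz0
      by_contra hc
      exact hne0 ⟨z0, hz0, hc⟩
    rcases Nat.eq_or_lt_of_le hj2 with hj | hj
    · subst hj
      apply hsM
      rw [G1, Subgroup.mem_centralizer_iff]
      intro z hz
      have h1 := hne z hz
      have h0 : Z G (2 - 2) = ⊥ := rfl
      rw [h0, Subgroup.mem_bot, commutatorElement_eq_one_iff_mul_comm] at h1
      exact h1
    · have hHC : H ≤ h11prl_C (Z G j) (Z G (j - 2)) :=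
        fun a ha z hz => hyp j (by omega) hjn a ha z hz
      have hsC : s ∈ h11prl_C (Z G j) (Z G (j - 2)) := by
        intro z hz
        rw [← commutatorElement_inv]
        exact inv_mem (hne z hz)
      have hCtop := h11prl_top_of_index_prime hp H _ hH hHC s hsC hsH
      have hle : Z G j ≤ Z G (j - 1) := by
        intro z hz
        rw [hj1]
        show z ∈ Subgroup.upperCentralSeries G ((j - 2) + 1)
        rw [Subgroup.mem_upperCentralSeries_succ_iff]
        intro y
        have hy : y ∈ h11prl_C (Z G j) (Z G (j - 2)) := hCtop ▸ Subgroup.mem_top y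
        have h2 := inv_mem (hy z hz)
        rw [commutatorElement_inv] at h2
        exact h2
      have hcard := Subgroup.card_le_of_le hle
      rw [c1, c2] at hcard
      exact absurd hcard (not_le.mpr (Nat.pow_lt_pow_right hp.one_lt (by omega)))
  obtain ⟨z0, hz0, hz0'⟩ := hex
  have hK1 : Z G (j - 1) ≤ h11prl_K (Z G j) (Z G (j - 2)) s := by
    intro a ha
    refine ⟨Subgroup.upperCentralSeries_mono G (by omega : j - 1 ≤ j) ha, ?_⟩
    rw [hj1] at ha
    exact (Subgroup.mem_upperCentralSeries_succ_iff.1 ha) s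
  have hK2 : h11prl_K (Z G j) (Z G (j - 2)) s ≤ Z G j := fun a ha => ha.1
  have hgK : g ∈ h11prl_K (Z G j) (Z G (j - 2)) s := ⟨hg, hcomm⟩
  have hz0K : z0 ∉ h11prl_K (Z G j) (Z G (j - 2)) s := fun hh => hz0' hh.2
  have d1 : Nat.card (h11prl_K (Z G j) (Z G (j - 2)) s) ∣ p ^ j := by
    rw [← c1]; exact Subgroup.card_dvd_of_le hK2
  have d2 : p ^ (j - 1) ∣ Nat.card (h11prl_K (Z G j) (Z G (j - 2)) s) := by
    rw [← c2]; exact Subgroup.card_dvd_of_le hK1
  obtain ⟨a, ha, hKa⟩ := (Nat.dvd_prime_pow hp).1 d1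
  rw [hKa] at d2
  have ha' : j - 1 ≤ a := (Nat.pow_dvd_pow_iff_le_right hp.one_lt).1 d2
  rcases (by omega : a = j ∨ a = j - 1) with rfl | rfl
  · have : h11prl_K (Z G a) (Z G (a - 2)) s = Z G a :=
      Subgroup.eq_of_le_of_card_ge hK2 (by rw [c1, hKa])
    exact hz0K (by rw [this]; exact hz0)
  · have : Z G (j - 1) = h11prl_K (Z G j) (Z G (j - 2)) s :=
      Subgroup.eq_of_le_of_card_ge hK1 (by rw [c2, hKa])
    exact hg' (by rw [this]; exact hgK)

end chain

end Cfsg.Agent.Lib.Helper18.PRL
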