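import Mathlib
import Cfsg.Agent.Lib.helper7.BR.Defs

/-!
# S0978 (order 5040), easy part, generic lemmas: fixed points of subgroups of `C_G(P)` on `Sylow p G`.
-/

set_option autoImplicit false
set_option linter.unusedVariables false
set_option linter.unusedSectionVars false

namespace Cfsg.Agent.Lib.Helper11.O5040E

open Cfsg.Agent.Lib.helper7.BR

universe u

variable {G : Type u} [Group G] [Fintype G]

/-- The fixed points of a subgroup `K ≤ C_G(P)` on `Sylow p G`: their number is `≡ 1 mod p`
(`P` acts on them, with the only fixed point `P`). -/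
theorem o5040e_fix_mod {p : ℕ} [Fact p.Prime] (P : Sylow p G) (K : Subgroup G) (hK : K ≤ cen P) :
    Nat.card ↥(MulAction.fixedPoints K (Sylow p G)) ≡ 1 [MOD p] := by
  have hKc : ∀ κ ∈ K, ∀ x ∈ (P : Subgroup G), x * κ = κ * x := by
    intro κ hκ x hx
    exact Subgroup.mem_centralizer_iff.mp (hK hκ) x hx
  have hstab : ∀ (x : (P : Subgroup G)) (Q : Sylow p G), Q ∈ MulAction.fixedPoints K (Sylow p G) →
      (x : G) • Q ∈ MulAction.fixedPoints K (Sylow p G) := by
    intro x Q hQ
    rw [MulAction.mem_fixedPoints] at hQ ⊢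
    intro κ
    have h1 := hQ κ
    rw [Subgroup.smul_def] at h1 ⊢
    rw [← mul_smul, ← hKc κ κ.2 x x.2, mul_smul, h1]
  let act : MulAction (P : Subgroup G) ↥(MulAction.fixedPoints K (Sylow p G)) :=
    { smul := fun x Q => ⟨(x : G) • Q.1, hstab x Q.1 Q.2⟩
      one_smul := fun Q => by
        apply Subtype.ext
        show ((1 : (P : Subgroup G)) : G) • Q.1 = Q.1
        rw [Subgroup.coe_one, one_smul]
      mul_smul := fun x y Q => by
        apply Subtype.ext
        show ((x * y : (P : Subgroup G)) : G) • Q.1 = (x : G) • ((y : G) • Q.1)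
        rw [Subgroup.coe_mul, mul_smul] }
  have hPp : IsPGroup p (P : Subgroup G) := P.isPGroup'
  have hFp := @IsPGroup.card_modEq_card_fixedPoints p (P : Subgroup G) _ hPp _
    ↥(MulAction.fixedPoints K (Sylow p G)) act _
  have hPF : P ∈ MulAction.fixedPoints K (Sylow p G) := by
    rw [MulAction.mem_fixedPoints]
    intro κ
    rw [Subgroup.smul_def, Sylow.smul_eq_iff_mem_normalizer]
    exact Subgroup.centralizer_le_normalizer _ (hK κ.2)
  have hfix1 : Nat.card ↥(@MulAction.fixedPoints (P : Subgroup G)
      ↥(MulAction.fixedPoints K (Sylow p G)) _ act) = 1 := by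
    rw [Nat.card_eq_one_iff_unique]
    refine ⟨⟨?_⟩, ⟨⟨⟨P, hPF⟩, ?_⟩⟩⟩
    · rintro ⟨⟨Q, hQF⟩, hQ⟩ ⟨⟨Q', hQF'⟩, hQ'⟩
      have key : ∀ (R : Sylow p G) (hRF : R ∈ MulAction.fixedPoints K (Sylow p G)),
          (⟨R, hRF⟩ : ↥(MulAction.fixedPoints K (Sylow p G))) ∈
            @MulAction.fixedPoints (P : Subgroup G) ↥(MulAction.fixedPoints K (Sylow p G)) _ act →
          R = P := by
        intro R hRF hR
        have h1 : R ∈ MulAction.fixedPoints (P : Subgroup G) (Sylow p G) := by
          rw [MulAction.mem_fixedPoints]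
          intro x
          have := hR x
          have h2 := congrArg Subtype.val this
          rw [Subgroup.smul_def]
          exact h2
        have h3 : (P : Subgroup G) ≤ (R : Subgroup G) := hPp.sylow_mem_fixedPoints_iff.mp h1
        exact Sylow.ext (P.is_maximal' R.isPGroup' h3)
      have e1 := key Q hQF hQ
      have e2 := key Q' hQF' hQ'
      subst e1
      subst e2
      rfl
    · intro x
      apply Subtype.ext
      show (x : G) • P = P
      rw [Sylow.smul_eq_iff_mem_normalizer]
      exact Subgroup.le_normalizer x.2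
  rw [hfix1] at hFp
  exact hFp

/-- In a simple group whose Sylow `p`-subgroups are not normal, a non-trivial subgroup moves some Sylow
`p`-subgroup. -/
theorem o5040e_fix_lt [IsSimpleGroup G] {p : ℕ} [Fact p.Prime] (P : Sylow p G)
    (hPn : ¬ (P : Subgroup G).Normal) (K : Subgroup G) (hK : K ≠ ⊥) :
    Nat.card ↥(MulAction.fixedPoints K (Sylow p G)) < Nat.card (Sylow p G) := by
  by_cases huniv : MulAction.fixedPoints K (Sylow p G) = Set.univ
  · exfalso
    have hker : K ≤ (MulAction.toPermHom G (Sylow p G)).ker := by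
      intro k hk
      rw [MonoidHom.mem_ker]
      apply Equiv.ext
      intro Q
      have hQ : Q ∈ MulAction.fixedPoints K (Sylow p G) := by
        rw [huniv]; exact Set.mem_univ Q
      have := (MulAction.mem_fixedPoints.mp hQ) ⟨k, hk⟩
      rw [Subgroup.smul_def] at this
      exact this
    rcases (MonoidHom.normal_ker (MulAction.toPermHom G (Sylow p G))).eq_bot_or_eq_top with hb | ht
    · rw [hb] at hker
      exact hK (le_bot_iff.mp hker)
    · have hle : (MulAction.toPermHom G (Sylow p G)).ker ≤ nrm P := by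
        intro g hg
        rw [MonoidHom.mem_ker] at hg
        have := congrArg (fun σ : Equiv.Perm (Sylow p G) => σ P) hg
        have h2 : g • P = P := by simpa using this
        exact Sylow.smul_eq_iff_mem_normalizer.mp h2
      rw [ht] at hle
      have hN : nrm P = ⊤ := top_le_iff.mp hle
      exact hPn (Subgroup.normalizer_eq_top_iff.mp hN)
  · have hss : (MulAction.fixedPoints K (Sylow p G)) ⊂ Set.univ := by
      refine ⟨Set.subset_univ _, fun h => huniv ?_⟩
      exact Set.eq_univ_of_univ_subset h
    have := Set.ncard_lt_ncard hss (Set.toFinite _)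
    rw [Set.ncard_univ] at this
    rwa [← Nat.card_coe_set_eq] at this

/-- the fixed points of `zpowers c` are the fixed points of `c` -/
theorem o5040e_fixedPoints_zpowers {α : Type*} [MulAction G α] (c : G) :
    MulAction.fixedPoints (Subgroup.zpowers c) α = MulAction.fixedBy α c := by
  ext Q
  rw [MulAction.mem_fixedPoints, MulAction.mem_fixedBy]
  constructor
  · intro h
    have := h ⟨c, Subgroup.mem_zpowers c⟩
    rwa [Subgroup.smul_def] at this
  · rintro h ⟨k, hk⟩
    obtain ⟨j, rfl⟩ := Subgroup.mem_zpowers_iff.mp hk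
    rw [Subgroup.smul_def]
    exact MulAction.mem_fixedBy_zpow (MulAction.mem_fixedBy.mpr h) j

end Cfsg.Agent.Lib.Helper11.O5040E
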