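import Mathlib
import Cfsg.Agent.Lib.helper7.BR.Defs
import Cfsg.Agent.Lib.Helper16.BRSET2
import Cfsg.Agent.Lib.Helper1.BRSET3
import Cfsg.Agent.Lib.Helper11.O5040FIX

/-!
# S0978 (order 5040), easy part: the Sylow 7-configuration of a simple group of order 5040 is one of
`(n_7, |N:C|, |C|) = (36, 2, 70), (120, 2, 21), (120, 3, 14), (120, 6, 7)`.
-/

set_option autoImplicit false
set_option linter.unusedVariables false
set_option linter.unusedSectionVars false
set_option linter.style.haveILetI false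

namespace Cfsg.Agent.Lib.Helper11.O5040E

open Cfsg.Agent.Lib.helper7.BR

universe u

variable {G : Type u} [Group G] [Fintype G]

instance o5040e_fact7 : Fact (Nat.Prime 7) := ⟨by norm_num⟩

/-- `n_7 = 8` is impossible when `3 ∣ |C_G(P)|`. -/
theorem o5040e_n8 [IsSimpleGroup G] (P : Sylow 7 G) (hPn : ¬ (P : Subgroup G).Normal)
    (hidx : (nrm P).index = 8) (h3 : 3 ∣ Nat.card ↥(cen P)) : False := by
  have hcardS : Nat.card (Sylow 7 G) = 8 := by
    rw [Sylow.card_eq_index_normalizer P]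
    exact hidx
  haveI : Fact (Nat.Prime 3) := ⟨by norm_num⟩
  obtain ⟨k, hk⟩ := exists_prime_orderOf_dvd_card' 3 h3
  have hkG : orderOf (k : G) = 3 := by
    rw [Subgroup.orderOf_coe]
    exact hk
  set K : Subgroup G := Subgroup.zpowers (k : G) with hKdef
  have hK3 : IsPGroup 3 K := IsPGroup.of_card (n := 1) (by rw [Nat.card_zpowers, hkG, pow_one])
  have hKle : K ≤ cen P := by
    rw [hKdef, Subgroup.zpowers_le]
    exact k.2
  have hKne : K ≠ ⊥ := by
    intro h
    have : Nat.card ↥K = 3 := by rw [Nat.card_zpowers, hkG]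
    rw [h, Subgroup.card_bot] at this
    omega
  have h1 := hK3.card_modEq_card_fixedPoints (Sylow 7 G)
  have h2 := o5040e_fix_mod P K hKle
  have h3 := o5040e_fix_lt P hPn K hKne
  rw [hcardS] at h1 h3
  unfold Nat.ModEq at h1 h2
  omega

/-- `n_7 = 15` is impossible when `4 ∣ |C_G(P)|`. -/
theorem o5040e_n15 [IsSimpleGroup G] (P : Sylow 7 G) (hPn : ¬ (P : Subgroup G).Normal)
    (hidx : (nrm P).index = 15) (h4 : 4 ∣ Nat.card ↥(cen P)) : False := by
  classical
  have hcardS : Nat.card (Sylow 7 G) = 15 := by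
    rw [Sylow.card_eq_index_normalizer P]
    exact hidx
  haveI : Fact (Nat.Prime 2) := ⟨Nat.prime_two⟩
  obtain ⟨S₀, hS₀⟩ := Sylow.exists_subgroup_card_pow_prime (G := ↥(cen P)) 2 (n := 2)
    (by
      have : (2 : ℕ) ^ 2 = 4 := by norm_num
      rw [this]
      exact h4)
  set S : Subgroup G := S₀.map (cen P).subtype with hSdef
  have hScard : Nat.card ↥S = 4 := by
    rw [hSdef, Subgroup.card_map_of_injective (Subgroup.subtype_injective _), hS₀]
    norm_num
  have hSle : S ≤ cen P := by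
    rw [hSdef]
    exact Subgroup.map_subtype_le S₀
  have hS2 : IsPGroup 2 S := IsPGroup.of_card (n := 2) (by rw [hScard]; norm_num)
  -- every non-identity element of `S` has exactly one fixed point
  have hone : ∀ s : S, s ≠ 1 → Nat.card ↥(MulAction.fixedBy (Sylow 7 G) s) = 1 := by
    intro s hs
    set K : Subgroup G := Subgroup.zpowers (s : G) with hKdef
    have hKS : K ≤ S := by
      rw [hKdef, Subgroup.zpowers_le]
      exact s.2
    have hK2 : IsPGroup 2 K := hS2.to_le hKS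
    have hKne : K ≠ ⊥ := by
      intro h
      apply hs
      have : (s : G) ∈ K := Subgroup.mem_zpowers _
      rw [h, Subgroup.mem_bot] at this
      exact Subtype.ext this
    have h1 := hK2.card_modEq_card_fixedPoints (Sylow 7 G)
    have h2 := o5040e_fix_mod P K (hKS.trans hSle)
    have h3 := o5040e_fix_lt P hPn K hKne
    rw [hcardS] at h1 h3
    have hset : MulAction.fixedBy (Sylow 7 G) s = MulAction.fixedPoints K (Sylow 7 G) := by
      rw [hKdef, o5040e_fixedPoints_zpowers]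
      rfl
    rw [hset]
    unfold Nat.ModEq at h1 h2
    omega
  have hfix1 : Nat.card ↥(MulAction.fixedBy (Sylow 7 G) (1 : S)) = 15 := by
    have : MulAction.fixedBy (Sylow 7 G) (1 : S) = Set.univ := by
      ext Q
      simp
    rw [this, Nat.card_coe_set_eq, Set.ncard_univ, hcardS]
  -- Burnside
  haveI : Fintype ↥S := Fintype.ofFinite _
  haveI : Fintype (Sylow 7 G) := Fintype.ofFinite _
  have hB := MulAction.sum_card_fixedBy_eq_card_orbits_mul_card_group (↥S) (Sylow 7 G)
  have hcard4 : Fintype.card ↥S = 4 := by rw [← Nat.card_eq_fintype_card, hScard]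
  rw [hcard4] at hB
  have hsum : ∑ s : ↥S, Fintype.card ↥(MulAction.fixedBy (Sylow 7 G) s) = 18 := by
    rw [← Finset.add_sum_erase Finset.univ _ (Finset.mem_univ (1 : ↥S))]
    have e1 : Fintype.card ↥(MulAction.fixedBy (Sylow 7 G) (1 : ↥S)) = 15 := by
      rw [← Nat.card_eq_fintype_card, hfix1]
    have e2 : ∑ s ∈ (Finset.univ : Finset ↥S).erase 1,
        Fintype.card ↥(MulAction.fixedBy (Sylow 7 G) s) = 3 := by
      have : ∀ s ∈ (Finset.univ : Finset ↥S).erase 1,
          Fintype.card ↥(MulAction.fixedBy (Sylow 7 G) s) = 1 := by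
        intro s hs
        rw [← Nat.card_eq_fintype_card]
        exact hone s (Finset.ne_of_mem_erase hs)
      rw [Finset.sum_congr rfl this, Finset.sum_const, Finset.card_erase_of_mem (Finset.mem_univ _),
        Finset.card_univ, hcard4]
      rfl
    rw [e1, e2]
  rw [hsum] at hB
  omega

/-- the arithmetic of the order formula `5040 = 7 q w (1 + 7 n)` -/
theorem o5040e_num (q w n : ℕ) (hq : q = 2 ∨ q = 3 ∨ q = 6) (hw : 1 ≤ w) (hn : 1 ≤ n)
    (h : 5040 = 7 * q * w * (1 + n * 7)) :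
    (n = 1 ∧ 3 ∣ w) ∨ (n = 2 ∧ 4 ∣ w) ∨ (n = 5 ∧ q = 2 ∧ w = 10) ∨
      (n = 17 ∧ ((q = 2 ∧ w = 3) ∨ (q = 3 ∧ w = 2) ∨ (q = 6 ∧ w = 1))) := by
  rcases hq with rfl | rfl | rfl
  · have hn' : n ≤ 51 := by nlinarith
    interval_cases n <;> omega
  · have hn' : n ≤ 51 := by nlinarith
    interval_cases n <;> omega
  · have hn' : n ≤ 51 := by nlinarith
    interval_cases n <;> omega

/-- EASY: the Sylow 7-configuration of a simple group of order 5040. -/
theorem o5040e_cases [IsSimpleGroup G] (hG : Nat.card G = 5040) (hperf : commutator G = ⊤)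
    (P : Sylow 7 G) (hP : Nat.card ↥(P : Subgroup G) = 7) (hPn : ¬ (P : Subgroup G).Normal) :
    ((nrm P).index = 36 ∧ (cen P).relIndex (nrm P) = 2 ∧ Nat.card ↥(cen P) = 70) ∨
    ((nrm P).index = 120 ∧ (cen P).relIndex (nrm P) = 2 ∧ Nat.card ↥(cen P) = 21) ∨
    ((nrm P).index = 120 ∧ (cen P).relIndex (nrm P) = 3 ∧ Nat.card ↥(cen P) = 14) ∨
    ((nrm P).index = 120 ∧ (cen P).relIndex (nrm P) = 6 ∧ Nat.card ↥(cen P) = 7) := by
  obtain ⟨q, w, n, hqdvd, hq1, hw1, hn1, hqrel, hC, hN, hNidx, hCidx, hGcard⟩ :=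
    order_formula P hP hPn
  have hne1 : q ≠ 1 := by
    have := relIndex_ne_one hperf P hP
    rwa [hqrel] at this
  have hq6 : q ≤ 6 := Nat.le_of_dvd (by norm_num) hqdvd
  have hq : q = 2 ∨ q = 3 ∨ q = 6 := by
    interval_cases q
    · exact absurd rfl hne1
    · exact Or.inl rfl
    · exact Or.inr (Or.inl rfl)
    · norm_num at hqdvd
    · norm_num at hqdvd
    · exact Or.inr (Or.inr rfl)
  rw [hG] at hGcard
  rcases o5040e_num q w n hq hw1 hn1 hGcard with ⟨rfl, h3⟩ | ⟨rfl, h4⟩ | ⟨rfl, rfl, rfl⟩ | ⟨rfl, h⟩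
  · exfalso
    refine o5040e_n8 P hPn (by rw [hNidx]) ?_
    rw [hC]
    exact Dvd.dvd.mul_left h3 7
  · exfalso
    refine o5040e_n15 P hPn (by rw [hNidx]) ?_
    rw [hC]
    exact Dvd.dvd.mul_left h4 7
  · left
    exact ⟨by rw [hNidx], hqrel, by rw [hC]⟩
  · right
    rcases h with ⟨rfl, rfl⟩ | ⟨rfl, rfl⟩ | ⟨rfl, rfl⟩
    · left
      exact ⟨by rw [hNidx], hqrel, by rw [hC]⟩
    · right; left
      exact ⟨by rw [hNidx], hqrel, by rw [hC]⟩
    · right; right
      exact ⟨by rw [hNidx], hqrel, by rw [hC]⟩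

end Cfsg.Agent.Lib.Helper11.O5040E
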