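import Mathlib

/-!
# S0978 (order 5040), configuration `|C_G(P_7)| = 21`: abstract lemmas on groups of order 315 and 630.
-/

set_option autoImplicit false
set_option linter.unusedVariables false
set_option linter.unusedSectionVars false
set_option linter.style.haveILetI false

namespace Cfsg.Agent.Lib.Helper11.O5040E

/-- an element whose `7`-th and `4`-th powers are trivial is trivial -/
theorem o5040c21_pow_aux {M : Type*} [Monoid M] (a : M) (h7 : a ^ 7 = 1) (h4 : a ^ 4 = 1) : a = 1 := by
  have h8 : a ^ 8 = 1 := by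
    have : a ^ 8 = (a ^ 4) ^ 2 := by rw [← pow_mul]
    rw [this, h4, one_pow]
  calc a = a ^ 8 := by
        have : a ^ 8 = a ^ 7 * a := pow_succ a 7
        rw [this, h7, one_mul]
    _ = 1 := h8

/-- A group of order `315` in which `N(P_7) ≤ C(P_7)` has an element of order `5` centralizing `P_7`. -/
theorem o5040c21_B {L : Type*} [Group L] [Finite L] (hL : Nat.card L = 315) (P : Sylow 7 L)
    (hNC : Subgroup.normalizer ((P : Subgroup L) : Set L) ≤
      Subgroup.centralizer ((P : Subgroup L) : Set L)) :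
    ∃ r : L, orderOf r = 5 ∧ ∀ x ∈ (P : Subgroup L), r * x = x * r := by
  haveI : Fact (Nat.Prime 7) := ⟨by norm_num⟩
  haveI : Fact (Nat.Prime 5) := ⟨by norm_num⟩
  set M : Subgroup L := (MonoidHom.transferSylow P hNC).ker with hMdef
  have hcompl : Subgroup.IsComplement' M (P : Subgroup L) :=
    MonoidHom.ker_transferSylow_isComplement' P hNC
  have hcard := hcompl.card_mul_card
  rw [hL] at hcard
  have hM7 : ¬ 7 ∣ Nat.card ↥M := MonoidHom.not_dvd_card_ker_transferSylow P hNC
  -- `|P| = 7`, `|M| = 45`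
  obtain ⟨k, hk⟩ := IsPGroup.iff_card.mp P.isPGroup'
  have hP7 : Nat.card ↥(P : Subgroup L) = 7 := by
    rcases Nat.lt_or_ge k 2 with hk2 | hk2
    · interval_cases k
      · exfalso
        rw [hk, pow_zero, mul_one] at hcard
        rw [hcard] at hM7
        norm_num at hM7
      · rw [hk]; norm_num
    · exfalso
      have h1 : Nat.card ↥(P : Subgroup L) ∣ 315 := ⟨Nat.card ↥M, by rw [← hcard]; ring⟩
      have h49 : 7 ^ 2 ∣ 315 := (pow_dvd_pow 7 hk2).trans (hk ▸ h1)
      norm_num at h49
  have hM45 : Nat.card ↥M = 45 := by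
    rw [hP7] at hcard
    omega
  haveI hMn : M.Normal := MonoidHom.normal_ker _
  -- the Sylow 5-subgroup of `M` is unique
  have hn5 : Nat.card (Sylow 5 ↥M) = 1 := by
    have h1 : Nat.card (Sylow 5 ↥M) ≡ 1 [MOD 5] := card_sylow_modEq_one 5 ↥M
    have R₀ : Sylow 5 ↥M := default
    have h2 : Nat.card (Sylow 5 ↥M) ∣ 45 := by
      have := (Sylow.card_dvd_index R₀).trans (Subgroup.index_dvd_card _)
      rwa [hM45] at this
    have h3 : Nat.card (Sylow 5 ↥M) ≤ 45 := Nat.le_of_dvd (by norm_num) h2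
    unfold Nat.ModEq at h1
    generalize Nat.card (Sylow 5 ↥M) = n at *
    interval_cases n <;> omega
  haveI : Subsingleton (Sylow 5 ↥M) := (Nat.card_eq_one_iff_unique.mp hn5).1
  let R₀ : Sylow 5 ↥M := default
  haveI hchar : (R₀ : Subgroup ↥M).Characteristic := Sylow.characteristic_of_subsingleton R₀
  set R : Subgroup L := (R₀ : Subgroup ↥M).map M.subtype with hRdef
  haveI hRn : R.Normal := ConjAct.normal_of_characteristic_of_normal
  -- `|R| = 5`
  have hR5 : Nat.card ↥R = 5 := by
    rw [hRdef, Subgroup.card_map_of_injective (Subgroup.subtype_injective _)]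
    obtain ⟨j, hj⟩ := IsPGroup.iff_card.mp R₀.isPGroup'
    have h5 : 5 ∣ Nat.card ↥(R₀ : Subgroup ↥M) := R₀.dvd_card_of_dvd_card (by rw [hM45]; norm_num)
    have hdvd : Nat.card ↥(R₀ : Subgroup ↥M) ∣ 45 := by
      rw [← hM45]
      exact Subgroup.card_subgroup_dvd_card _
    rcases Nat.lt_or_ge j 2 with hj2 | hj2
    · interval_cases j
      · rw [hj] at h5
        norm_num at h5
      · rw [hj]; norm_num
    · exfalso
      have h25 : 5 ^ 2 ∣ 45 := (pow_dvd_pow 5 hj2).trans (hj ▸ hdvd)
      norm_num at h25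
  -- a generator
  obtain ⟨r', hr'⟩ := exists_prime_orderOf_dvd_card' (G := ↥R) 5 (by rw [hR5])
  refine ⟨(r' : L), by rw [Subgroup.orderOf_coe]; exact hr', ?_⟩
  intro x hx
  -- the conjugation action of `x` on `R` is trivial
  haveI : IsCyclic ↥R := isCyclic_of_prime_card hR5
  have hAut : Nat.card (MulAut ↥R) = 4 := by
    rw [IsCyclic.card_mulAut, hR5]
    decide
  have hx7 : x ^ 7 = 1 := by
    have := pow_card_eq_one' (G := ↥(P : Subgroup L)) (x := ⟨x, hx⟩)
    rw [hP7] at this
    exact congrArg Subtype.val this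
  have hφ7 : (MulAut.conjNormal (H := R) x) ^ 7 = 1 := by
    rw [← map_pow, hx7, map_one]
  have hφ4 : (MulAut.conjNormal (H := R) x) ^ 4 = 1 := by
    have := pow_card_eq_one' (G := MulAut ↥R) (x := MulAut.conjNormal (H := R) x)
    rwa [hAut] at this
  have hφ : MulAut.conjNormal (H := R) x = 1 := o5040c21_pow_aux _ hφ7 hφ4
  have h1 := MulAut.conjNormal_apply (H := R) x r'
  rw [hφ] at h1
  have h2 : (r' : L) = x * (r' : L) * x⁻¹ := h1
  calc (r' : L) * x = x * (r' : L) * x⁻¹ * x := by rw [← h2]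
    _ = x * (r' : L) := by group

/-- A group of order `315` or `630` in which the odd-order elements of `N(P_7)` centralize `P_7` has an element
of order `5` centralizing `P_7`. -/
theorem o5040c21_D {L : Type*} [Group L] [Finite L] (hL : Nat.card L = 315 ∨ Nat.card L = 630)
    (P : Sylow 7 L)
    (hodd : ∀ g ∈ Subgroup.normalizer ((P : Subgroup L) : Set L), Odd (orderOf g) →
      g ∈ Subgroup.centralizer ((P : Subgroup L) : Set L)) :
    ∃ r : L, orderOf r = 5 ∧ ∀ x ∈ (P : Subgroup L), r * x = x * r := by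
  haveI : Fact (Nat.Prime 7) := ⟨by norm_num⟩
  haveI : Fact (Nat.Prime 2) := ⟨by norm_num⟩
  rcases hL with hL | hL
  · refine o5040c21_B hL P ?_
    intro g hg
    refine hodd g hg ?_
    have hdvd : orderOf g ∣ 315 := by
      rw [← hL]
      exact orderOf_dvd_natCard g
    rcases Nat.even_or_odd (orderOf g) with he | ho
    · exfalso
      have h2 : 2 ∣ 315 := (even_iff_two_dvd.mp he).trans hdvd
      norm_num at h2
    · exact ho
  · -- the subgroup of index `2`
    let S₂ : Sylow 2 L := default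
    obtain ⟨k, hk⟩ := IsPGroup.iff_card.mp S₂.isPGroup'
    have hS2dvd : Nat.card ↥(S₂ : Subgroup L) ∣ 630 := by
      rw [← hL]
      exact Subgroup.card_subgroup_dvd_card _
    have h2S : 2 ∣ Nat.card ↥(S₂ : Subgroup L) := S₂.dvd_card_of_dvd_card (by rw [hL]; norm_num)
    have hS2 : Nat.card ↥(S₂ : Subgroup L) = 2 := by
      rcases Nat.lt_or_ge k 2 with hk2 | hk2
      · interval_cases k
        · rw [hk] at h2S
          norm_num at h2S
        · rw [hk]; norm_num
      · exfalso
        have h4 : 2 ^ 2 ∣ 630 := (pow_dvd_pow 2 hk2).trans (hk ▸ hS2dvd)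
        norm_num at h4
    have hcyc : IsCyclic ↥(S₂ : Subgroup L) := isCyclic_of_prime_card hS2
    have hmin : (Nat.card L).minFac = 2 := by
      rw [hL]
      norm_num
    have hNC₂ := IsCyclic.normalizer_le_centralizer hmin hcyc
    set L₀ : Subgroup L := (MonoidHom.transferSylow S₂ hNC₂).ker with hL₀def
    have hcompl : Subgroup.IsComplement' L₀ (S₂ : Subgroup L) :=
      MonoidHom.ker_transferSylow_isComplement' S₂ hNC₂
    have hcard := hcompl.card_mul_card
    rw [hL, hS2] at hcard
    have hL₀ : Nat.card ↥L₀ = 315 := by omega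
    -- odd-order elements lie in `L₀`
    have hoddL₀ : ∀ g : L, Odd (orderOf g) → g ∈ L₀ := by
      intro g hg
      rw [hL₀def, MonoidHom.mem_ker]
      set τ := MonoidHom.transferSylow S₂ hNC₂ g with hτ
      have h1 : τ ^ orderOf g = 1 := by
        rw [hτ, ← map_pow, pow_orderOf_eq_one, map_one]
      have h2 : τ ^ 2 = 1 := by
        have := pow_card_eq_one' (G := ↥(S₂ : Subgroup L)) (x := τ)
        rwa [hS2] at this
      obtain ⟨m, hm⟩ := hg
      rw [hm, pow_succ, pow_mul, h2, one_pow, one_mul] at h1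
      exact h1
    have hPL₀ : (P : Subgroup L) ≤ L₀ := by
      intro x hx
      apply hoddL₀
      have hdvd : orderOf x ∣ 7 ^ 1 := by
        obtain ⟨j, hj⟩ := P.isPGroup' ⟨x, hx⟩
        have h7 : x ^ 7 ^ j = 1 := congrArg Subtype.val hj
        have hd : orderOf x ∣ 7 ^ j := orderOf_dvd_of_pow_eq_one h7
        have hd2 : orderOf x ∣ 630 := by
          rw [← hL]; exact orderOf_dvd_natCard x
        obtain ⟨i, hi, hxi⟩ := (Nat.dvd_prime_pow (by norm_num : Nat.Prime 7)).mp hd
        rw [hxi]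
        rcases Nat.lt_or_ge i 2 with hi2 | hi2
        · exact pow_dvd_pow 7 (by omega)
        · exfalso
          have h49 : 7 ^ 2 ∣ 630 := (pow_dvd_pow 7 hi2).trans (hxi ▸ hd2)
          norm_num at h49
      rw [pow_one] at hdvd
      rcases (Nat.dvd_prime (by norm_num : Nat.Prime 7)).mp hdvd with h | h
      · rw [h]; exact odd_one
      · rw [h]; decide
    -- apply the `315` case to `L₀`
    let P₀ : Sylow 7 ↥L₀ := P.subtype hPL₀
    have hP₀ : (P₀ : Subgroup ↥L₀) = (P : Subgroup L).subgroupOf L₀ := Sylow.coe_subtype _ _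
    have hNC₀ : Subgroup.normalizer ((P₀ : Subgroup ↥L₀) : Set ↥L₀) ≤
        Subgroup.centralizer ((P₀ : Subgroup ↥L₀) : Set ↥L₀) := by
      intro g hg
      have hgN : (g : L) ∈ Subgroup.normalizer ((P : Subgroup L) : Set L) := by
        rw [hP₀, ← Subgroup.subgroupOf_normalizer_eq hPL₀] at hg
        exact Subgroup.mem_subgroupOf.mp hg
      have hgodd : Odd (orderOf (g : L)) := by
        have hdvd : orderOf (g : L) ∣ 315 := by
          rw [Subgroup.orderOf_coe, ← hL₀]
          exact orderOf_dvd_natCard g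
        rcases Nat.even_or_odd (orderOf (g : L)) with he | ho
        · exfalso
          have h2 : 2 ∣ 315 := (even_iff_two_dvd.mp he).trans hdvd
          norm_num at h2
        · exact ho
      have hgC := hodd (g : L) hgN hgodd
      rw [Subgroup.mem_centralizer_iff] at hgC ⊢
      intro y hy
      rw [SetLike.mem_coe, hP₀, Subgroup.mem_subgroupOf] at hy
      apply Subtype.ext
      exact hgC (y : L) hy
    obtain ⟨r₀, hr₀, hcomm⟩ := o5040c21_B hL₀ P₀ hNC₀
    refine ⟨(r₀ : L), by rw [Subgroup.orderOf_coe]; exact hr₀, ?_⟩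
    intro x hx
    have hx₀ : (⟨x, hPL₀ hx⟩ : ↥L₀) ∈ (P₀ : Subgroup ↥L₀) := by
      rw [hP₀, Subgroup.mem_subgroupOf]
      exact hx
    exact congrArg Subtype.val (hcomm ⟨x, hPL₀ hx⟩ hx₀)

end Cfsg.Agent.Lib.Helper11.O5040E
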