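import Mathlib
import Cfsg.Agent.Lib.helper7.BR.Defs
import Cfsg.Agent.Lib.Helper11.O5040EASY

/-!
# S0978 (order 5040): SETUP (copy of helper13's O5760SETUP): a simple group of order 5040 is perfect, not cyclic,
has trivial centre, its Sylow 7-subgroups have order 7 and are not normal; and the Sylow 7-configuration.
-/

set_option autoImplicit false
set_option linter.unusedVariables false
set_option linter.unusedSectionVars false
set_option linter.style.haveILetI false
open Classical

namespace Cfsg.Agent.Lib.Helper11.O5040E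

open Cfsg.Agent.Lib.helper7.BR

universe u

variable {G : Type u} [Group G] [Fintype G]

/-- SETUP [S] -/
theorem o5040e_setup [IsSimpleGroup G] (hG : Nat.card G = 5040) :
    commutator G = ⊤ ∧ ¬ IsCyclic G ∧ Subgroup.center G = ⊥ ∧
      ∀ P : Sylow 7 G, Nat.card ↥(P : Subgroup G) = 7 ∧ ¬ (P : Subgroup G).Normal := by
  -- the centre is not everything
  have hcne : Subgroup.center G ≠ ⊤ := by
    intro h
    haveI : Fact (Nat.Prime 2) := ⟨Nat.prime_two⟩
    obtain ⟨x, hx⟩ := exists_prime_orderOf_dvd_card' (G := G) 2 (by rw [hG]; norm_num)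
    have hxn : (Subgroup.zpowers x).Normal := by
      refine ⟨fun n _ g => ?_⟩
      have hc : n ∈ Subgroup.center G := by rw [h]; exact Subgroup.mem_top n
      rw [Subgroup.mem_center_iff] at hc
      rw [hc g, mul_inv_cancel_right]
      assumption
    have hcard : Nat.card ↥(Subgroup.zpowers x) = 2 := by rw [Nat.card_zpowers, hx]
    rcases hxn.eq_bot_or_eq_top with h1 | h1
    · rw [h1, Subgroup.card_bot] at hcard
      omega
    · rw [h1, Subgroup.card_top, hG] at hcard
      omega
  have hZ : Subgroup.center G = ⊥ := by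
    rcases (inferInstance : (Subgroup.center G).Normal).eq_bot_or_eq_top with h | h
    · exact h
    · exact absurd h hcne
  refine ⟨?_, ?_, hZ, ?_⟩
  · have hn : (commutator G).Normal := by
      rw [commutator_def]
      exact Subgroup.commutator_normal ⊤ ⊤
    rcases hn.eq_bot_or_eq_top with h | h
    · exfalso
      rw [commutator_eq_bot_iff_center_eq_top] at h
      exact hcne h
    · exact h
  · intro hcyc
    apply hcne
    letI : CommGroup G := IsCyclic.commGroup
    exact CommGroup.center_eq_top
  · intro P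
    have hcard : Nat.card ↥(P : Subgroup G) = 7 := by
      obtain ⟨k, hk⟩ := IsPGroup.iff_card.mp P.isPGroup'
      have hdvd : Nat.card ↥(P : Subgroup G) ∣ 5040 := by
        rw [← hG]
        exact Subgroup.card_subgroup_dvd_card _
      have h5 : 7 ∣ Nat.card ↥(P : Subgroup G) := P.dvd_card_of_dvd_card (by rw [hG]; norm_num)
      rcases Nat.lt_or_ge k 2 with hk2 | hk2
      · interval_cases k
        · rw [hk] at h5
          norm_num at h5
        · rw [hk]
          norm_num
      · exfalso
        have h25 : 7 ^ 2 ∣ 5040 := (pow_dvd_pow 7 hk2).trans (hk ▸ hdvd)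
        norm_num at h25
    refine ⟨hcard, fun hN => ?_⟩
    rcases hN.eq_bot_or_eq_top with h1 | h1
    · rw [h1, Subgroup.card_bot] at hcard
      omega
    · rw [h1, Subgroup.card_top, hG] at hcard
      omega

/-- the Sylow 7-configuration of a simple group of order 5040 (SETUP + EASY) -/
theorem o5040e_config [IsSimpleGroup G] (hG : Nat.card G = 5040) (P : Sylow 7 G) :
    ((nrm P).index = 36 ∧ (cen P).relIndex (nrm P) = 2 ∧ Nat.card ↥(cen P) = 70) ∨
    ((nrm P).index = 120 ∧ (cen P).relIndex (nrm P) = 2 ∧ Nat.card ↥(cen P) = 21) ∨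
    ((nrm P).index = 120 ∧ (cen P).relIndex (nrm P) = 3 ∧ Nat.card ↥(cen P) = 14) ∨
    ((nrm P).index = 120 ∧ (cen P).relIndex (nrm P) = 6 ∧ Nat.card ↥(cen P) = 7) := by
  obtain ⟨hperf, _, _, hS⟩ := o5040e_setup hG
  obtain ⟨hP, hPn⟩ := hS P
  exact o5040e_cases hG hperf P hP hPn

end Cfsg.Agent.Lib.Helper11.O5040E
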