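import Mathlib
import Cfsg.Agent.Lib.helper7.BR.Defs
import Cfsg.Agent.Lib.helper8.SylowConj
import Cfsg.Agent.Lib.Helper18.J1A
import Cfsg.Agent.Lib.Helper11.O5040SETUP
import Cfsg.Agent.Lib.Helper11.O5040C21a

/-!
# S0978 (order 5040): the configuration `n_7 = 120`, `|N(P) : C(P)| = 2`, `|C(P)| = 21` is impossible
(elementary: `c ∈ C(P)` of order `3`, `H = C_G(c)` has order `315` or `630`, transfer).
-/

set_option autoImplicit false
set_option linter.unusedVariables false
set_option linter.unusedSectionVars false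
set_option linter.style.haveILetI false

namespace Cfsg.Agent.Lib.Helper11.O5040E

open Cfsg.Agent.Lib.helper7.BR Cfsg.Agent.Lib.helper8

universe u

variable {G : Type u} [Group G] [Fintype G]

/-- an odd-order element of `N(P)` centralizes `P` when `|N(P) : C(P)| = 2` -/
theorem o5040c21_odd {p : ℕ} (P : Sylow p G) (hq : (cen P).relIndex (nrm P) = 2) (g : G)
    (hg : g ∈ nrm P) (hodd : Odd (orderOf g)) : g ∈ cen P := by
  have h1 := Subgroup.mul_self_mem_of_index_two (H := (cen P).subgroupOf (nrm P)) hq ⟨g, hg⟩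
  rw [Subgroup.mem_subgroupOf] at h1
  have h2 : g * g ∈ cen P := h1
  obtain ⟨m, hm⟩ := hodd
  have h3 : g ^ (2 * m + 1) = 1 := by rw [← hm]; exact pow_orderOf_eq_one g
  have h4 : g = (g * g) ^ (m + 1) := by
    have : (g * g) ^ (m + 1) = g ^ (2 * m + 1) * g := by
      rw [← pow_two, ← pow_mul, ← pow_succ]
      congr 1
    rw [this, h3, one_mul]
  rw [h4]
  exact Subgroup.pow_mem _ h2 _

/-- C21 : the configuration `|C_G(P_7)| = 21` -/
theorem o5040_c21 [IsSimpleGroup G] (hG : Nat.card G = 5040) (P : Sylow 7 G)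
    (hidx : (nrm P).index = 120) (hq : (cen P).relIndex (nrm P) = 2)
    (hC : Nat.card ↥(cen P) = 21) : False := by
  obtain ⟨hperf, _, hZ, hS⟩ := o5040e_setup hG
  obtain ⟨hP, hPn⟩ := hS P
  have hcardS : Nat.card (Sylow 7 G) = 120 := by
    rw [Sylow.card_eq_index_normalizer P]
    exact hidx
  have hN42 : Nat.card ↥(nrm P) = 42 := by
    have := Subgroup.card_mul_index (nrm P)
    rw [hidx, hG] at this
    omega
  -- every Sylow 7-subgroup has the same configuration
  have hallq : ∀ Q : Sylow 7 G, (cen Q).relIndex (nrm Q) = 2 := by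
    intro Q
    obtain ⟨g, rfl⟩ := MulAction.exists_smul_eq G P Q
    have hcQ : Nat.card ↥(cen (g • P)) = 21 := by
      rw [← hC]
      exact Cfsg.Agent.Lib.Helper18.J1.card_centralizer_smul 7 g P
    rcases o5040e_config hG (g • P) with h | h | h | h
    · rw [hcQ] at h; omega
    · exact h.2.1
    · rw [hcQ] at h; omega
    · rw [hcQ] at h; omega
  -- the element `c` of order `3`
  haveI : Fact (Nat.Prime 3) := ⟨by norm_num⟩
  obtain ⟨k, hk⟩ := exists_prime_orderOf_dvd_card' (G := ↥(cen P)) 3 (by rw [hC]; norm_num)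
  have hc3 : orderOf (k : G) = 3 := by
    rw [Subgroup.orderOf_coe]
    exact hk
  set c : G := (k : G) with hcdef
  have hcC : c ∈ cen P := k.2
  set K : Subgroup G := Subgroup.zpowers c with hKdef
  have hK3 : IsPGroup 3 K := IsPGroup.of_card (n := 1) (by rw [Nat.card_zpowers, hc3, pow_one])
  have hKle : K ≤ cen P := by
    rw [hKdef, Subgroup.zpowers_le]
    exact hcC
  have hKne : K ≠ ⊥ := by
    intro h
    have : Nat.card ↥K = 3 := by rw [Nat.card_zpowers, hc3]
    rw [h, Subgroup.card_bot] at this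
    omega
  have h1 := hK3.card_modEq_card_fixedPoints (Sylow 7 G)
  have h2 := o5040e_fix_mod P K hKle
  have h3 := o5040e_fix_lt P hPn K hKne
  rw [hcardS] at h1 h3
  -- `H = C_G(c)`
  set H : Subgroup G := Subgroup.centralizer (K : Set G) with hHdef
  have hPH : (P : Subgroup G) ≤ H := by
    intro x hx
    rw [hHdef, Subgroup.mem_centralizer_iff]
    intro κ hκ
    exact (Subgroup.mem_centralizer_iff.mp (hKle hκ) x hx).symm
  have hcH : c ∈ H := by
    rw [hHdef, Subgroup.mem_centralizer_iff]
    intro κ hκ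
    obtain ⟨j, rfl⟩ := Subgroup.mem_zpowers_iff.mp hκ
    exact ((Commute.refl c).zpow_left j).eq
  -- the orbit of `P` under `H` is the set of fixed points of `K`
  have horb : MulAction.orbit ↥H P = MulAction.fixedPoints K (Sylow 7 G) := by
    ext Q
    constructor
    · rintro ⟨h, rfl⟩
      rw [MulAction.mem_fixedPoints]
      intro κ
      have hcomm : (κ : G) * (h : G) = (h : G) * (κ : G) := by
        have := Subgroup.mem_centralizer_iff.mp h.2 (κ : G) κ.2
        exact this
      have hκP : (κ : G) • P = P := by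
        rw [Sylow.smul_eq_iff_mem_normalizer]
        exact Subgroup.centralizer_le_normalizer _ (hKle κ.2)
      show (κ : G) • ((h : G) • P) = (h : G) • P
      rw [← mul_smul, hcomm, mul_smul, hκP]
    · intro hQ
      rw [MulAction.mem_fixedPoints] at hQ
      have hcN : c ∈ nrm Q := by
        have := hQ ⟨c, Subgroup.mem_zpowers c⟩
        rw [Subgroup.smul_def] at this
        exact Sylow.smul_eq_iff_mem_normalizer.mp this
      have hcQ : c ∈ cen Q := o5040c21_odd Q (hallq Q) c hcN (by rw [hc3]; decide)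
      have hKQ : K ≤ cen Q := by
        rw [hKdef, Subgroup.zpowers_le]
        exact hcQ
      have hQH : (Q : Subgroup G) ≤ H := by
        intro x hx
        rw [hHdef, Subgroup.mem_centralizer_iff]
        intro κ hκ
        exact (Subgroup.mem_centralizer_iff.mp (hKQ hκ) x hx).symm
      obtain ⟨n, hn, hconj⟩ := h8_sylow_conj_in_subgroup 7 H Q hQH (P : Subgroup G) P.isPGroup' hPH
      refine ⟨⟨n, hn⟩, ?_⟩
      show n • P = Q
      have hle : ((n • P : Sylow 7 G) : Subgroup G) ≤ (Q : Subgroup G) := by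
        intro y hy
        rw [h8_mem_smul_sylow] at hy
        have := hconj _ hy
        have e : n * (n⁻¹ * y * n) * n⁻¹ = y := by group
        rwa [e] at this
      exact (Sylow.ext ((n • P).is_maximal' Q.isPGroup' hle)).symm
  -- orbit-stabilizer
  have hos : Nat.card ↥(MulAction.orbit ↥H P) * Nat.card ↥(MulAction.stabilizer ↥H P) =
      Nat.card ↥H := by
    rw [← Nat.card_prod]
    exact Nat.card_congr (MulAction.orbitProdStabilizerEquivGroup ↥H P)
  rw [horb] at hos
  -- the stabilizer
  set St : Subgroup G := (MulAction.stabilizer ↥H P).map H.subtype with hStdef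
  have hStcard : Nat.card ↥St = Nat.card ↥(MulAction.stabilizer ↥H P) :=
    Subgroup.card_map_of_injective (Subgroup.subtype_injective _)
  have hStN : St ≤ nrm P := by
    rintro _ ⟨h, hh, rfl⟩
    have : (h : G) • P = P := MulAction.mem_stabilizer_iff.mp hh
    exact Sylow.smul_eq_iff_mem_normalizer.mp this
  have hmemSt : ∀ x : G, x ∈ H → x ∈ nrm P → x ∈ St := by
    intro x hxH hxN
    refine ⟨⟨x, hxH⟩, ?_, rfl⟩
    rw [SetLike.mem_coe, MulAction.mem_stabilizer_iff]
    show x • P = P
    exact Sylow.smul_eq_iff_mem_normalizer.mpr hxN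
  have hPSt : (P : Subgroup G) ≤ St := fun x hx => hmemSt x (hPH hx) (Subgroup.le_normalizer hx)
  have hcSt : c ∈ St := hmemSt c hcH (Subgroup.centralizer_le_normalizer _ hcC)
  have h7St : 7 ∣ Nat.card ↥St := by
    have := Subgroup.card_dvd_of_le hPSt
    rwa [hP] at this
  have h3St : 3 ∣ Nat.card ↥St := by
    have := orderOf_dvd_natCard (⟨c, hcSt⟩ : ↥St)
    rwa [← Subgroup.orderOf_coe, hc3] at this
  have h21St : 21 ∣ Nat.card ↥St :=
    Nat.Coprime.mul_dvd_of_dvd_of_dvd (by norm_num : Nat.Coprime 3 7) h3St h7St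
  have h42St : Nat.card ↥St ∣ 42 := by
    rw [← hN42]
    exact Subgroup.card_dvd_of_le hStN
  have hHdvd : Nat.card ↥H ∣ 5040 := by
    rw [← hG]
    exact Subgroup.card_subgroup_dvd_card H
  rw [← hStcard] at hos
  -- arithmetic
  have hHcard : Nat.card ↥H = 315 ∨ Nat.card ↥H = 630 := by
    obtain ⟨m, hm⟩ := hHdvd
    rw [← hos] at hm ⊢
    have hs : Nat.card ↥St = 21 ∨ Nat.card ↥St = 42 := by
      obtain ⟨a, ha⟩ := h21St
      obtain ⟨b, hb⟩ := h42St
      rw [ha] at hb
      have : a = 1 ∨ a = 2 := by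
        have hab : a * b = 2 := by nlinarith
        have ha2 : a ≤ 2 := Nat.le_of_dvd (by norm_num) ⟨b, hab.symm⟩
        have ha0 : a ≠ 0 := by
          rintro rfl
          omega
        omega
      rcases this with rfl | rfl
      · left; omega
      · right; omega
    unfold Nat.ModEq at h1 h2
    generalize Nat.card ↥(MulAction.fixedPoints K (Sylow 7 G)) = f at *
    rcases hs with hs | hs
    · rw [hs] at hm ⊢
      interval_cases f <;> omega
    · rw [hs] at hm ⊢
      interval_cases f <;> omega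
  -- apply the abstract lemma to `H`
  let P₀ : Sylow 7 ↥H := P.subtype hPH
  have hP₀ : (P₀ : Subgroup ↥H) = (P : Subgroup G).subgroupOf H := Sylow.coe_subtype _ _
  obtain ⟨r, hr5, hrcomm⟩ := o5040c21_D hHcard P₀ (by
    intro g hg hodd
    have hgN : (g : G) ∈ nrm P := by
      rw [hP₀, ← Subgroup.subgroupOf_normalizer_eq hPH] at hg
      exact Subgroup.mem_subgroupOf.mp hg
    have hgodd : Odd (orderOf (g : G)) := by
      rw [Subgroup.orderOf_coe]
      exact hodd
    have hgC := o5040c21_odd P hq (g : G) hgN hgodd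
    rw [Subgroup.mem_centralizer_iff] at hgC ⊢
    intro y hy
    rw [SetLike.mem_coe, hP₀, Subgroup.mem_subgroupOf] at hy
    apply Subtype.ext
    exact hgC (y : G) hy)
  -- `r` centralizes `P`
  have hrC : (r : G) ∈ cen P := by
    rw [Subgroup.mem_centralizer_iff]
    intro x hx
    have hx₀ : (⟨x, hPH hx⟩ : ↥H) ∈ (P₀ : Subgroup ↥H) := by
      rw [hP₀, Subgroup.mem_subgroupOf]
      exact hx
    exact (congrArg Subtype.val (hrcomm ⟨x, hPH hx⟩ hx₀)).symm
  have h5 : 5 ∣ Nat.card ↥(cen P) := by
    have := orderOf_dvd_natCard (⟨(r : G), hrC⟩ : ↥(cen P))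
    rwa [Subgroup.orderOf_mk, Subgroup.orderOf_coe, hr5] at this
  rw [hC] at h5
  norm_num at h5

end Cfsg.Agent.Lib.Helper11.O5040E
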