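import Mathlib
import Cfsg.Prelude.Def_GeometricClasses
import Cfsg.Agent.Lib.Helper27.ASC.Defs
import Cfsg.Agent.Lib.helper23.ASCO.Defs
import Cfsg.Agent.Lib.Lead.Reindex
import Cfsg.Agent.Lib.Helper28.OGenQ

/-!
# Project ASCO, piece PRA : `Ω` is irreducible

Every vector is a sum of two singular vectors; `Ω` is transitive on singular points, so an `Ω`-stable subspace
containing a non-zero singular vector is everything; a Siegel element moves a non-zero `w` by a non-zero singular vector.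
-/

set_option autoImplicit false
set_option linter.unusedVariables false
set_option linter.unusedSectionVars false

namespace Cfsg.Agent.Lib.helper23.ASCO

open Cfsg Cfsg.Geo Cfsg.Agent.Lib.Helper27.ASC
open scoped MatrixGroups Matrix

variable {n : ℕ} {F : Type*} [Field F] [Fintype F]

open Cfsg.Agent.Lib.Helper28.OQ Cfsg.Agent.Lib.Helper28.OMax Cfsg.Agent.Lib.Helper28.OMax2
  Cfsg.Agent.Lib.Helper28.OIwa2 Cfsg.Agent.Lib.Helper28.OGenQ Cfsg.Agent.S0795 in
omit [Fintype F] in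
/-- moving `y` along a singular vector `s` not orthogonal to it makes it singular -/
theorem ascopra_adjust (Q : QuadraticForm F (Fin n → F)) (y s : Fin n → F) (hs : Q s = 0)
    (h : QuadraticMap.polar (⇑Q) y s ≠ 0) :
    Q (y + (-(Q y / QuadraticMap.polar (⇑Q) y s)) • s) = 0 := by
  have h1 : Q (y + (-(Q y / QuadraticMap.polar (⇑Q) y s)) • s) =
      Q y + Q ((-(Q y / QuadraticMap.polar (⇑Q) y s)) • s) +
        QuadraticMap.polar (⇑Q) y ((-(Q y / QuadraticMap.polar (⇑Q) y s)) • s) := by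
    unfold QuadraticMap.polar
    ring
  rw [h1, QuadraticMap.map_smul, hs, QuadraticMap.polar_smul_right, smul_eq_mul, smul_eq_mul]
  field_simp
  ring

open Cfsg.Agent.Lib.Helper28.OQ Cfsg.Agent.Lib.Helper28.OMax Cfsg.Agent.Lib.Helper28.OMax2
  Cfsg.Agent.Lib.Helper28.OIwa2 Cfsg.Agent.Lib.Helper28.OGenQ Cfsg.Agent.S0795 in
omit [Fintype F] in
/-- every vector is a sum of two singular vectors -/
theorem ascopra_sum_sing (Q : QuadraticForm F (Fin n → F)) (vf : VFacts (⇑Q) (pf Q)) (y : Fin n → F) :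
    ∃ y₁ y₂ : Fin n → F, y₁ + y₂ = y ∧ Q y₁ = 0 ∧ Q y₂ = 0 := by
  obtain ⟨s, hs, hs0⟩ := vf.sing
  by_cases h : pf Q y s = 0
  · obtain ⟨y₁, y₂, e, h1, h2, _, _⟩ := vf.decomp s y hs hs0 h
    exact ⟨y₁, y₂, e, h1, h2⟩
  · have h' : QuadraticMap.polar (⇑Q) y s ≠ 0 := h
    refine ⟨y + (-(Q y / QuadraticMap.polar (⇑Q) y s)) • s, (Q y / QuadraticMap.polar (⇑Q) y s) • s, ?_,
      ascopra_adjust Q y s hs h', ?_⟩
    · rw [neg_smul]; abel
    · rw [QuadraticMap.map_smul, hs, smul_zero]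

open Cfsg.Agent.Lib.Helper28.OQ Cfsg.Agent.Lib.Helper28.OMax Cfsg.Agent.Lib.Helper28.OMax2
  Cfsg.Agent.Lib.Helper28.OIwa2 Cfsg.Agent.Lib.Helper28.OGenQ Cfsg.Agent.S0795 in
omit [Fintype F] in
/-- a non-zero vector is not orthogonal to all singular vectors -/
theorem ascopra_exists_nonorth (Q : QuadraticForm F (Fin n → F))
    (hQ : (QuadraticMap.polarBilin Q).Nondegenerate) (vf : VFacts (⇑Q) (pf Q)) (w : Fin n → F)
    (hw : w ≠ 0) : ∃ u : Fin n → F, Q u = 0 ∧ QuadraticMap.polar (⇑Q) u w ≠ 0 := by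
  by_contra hcon
  push Not at hcon
  apply hw
  apply hQ.2 w
  intro y
  obtain ⟨y₁, y₂, e, h1, h2⟩ := ascopra_sum_sing Q vf y
  rw [QuadraticMap.polarBilin_apply_apply, ← e, QuadraticMap.polar_add_left, hcon y₁ h1, hcon y₂ h2,
    add_zero]

open Cfsg.Agent.Lib.Helper28.OQ Cfsg.Agent.Lib.Helper28.OMax Cfsg.Agent.Lib.Helper28.OMax2
  Cfsg.Agent.Lib.Helper28.OIwa2 Cfsg.Agent.Lib.Helper28.OGenQ Cfsg.Agent.S0795 in
/-- an `Ω`-stable subspace containing a non-zero singular vector is everything -/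
theorem ascopra_stable_top (hn : 7 ≤ n) (Q : QuadraticForm F (Fin n → F))
    (hQ : (QuadraticMap.polarBilin Q).Nondegenerate) (U : Submodule F (Fin n → F))
    (hU : ∀ g ∈ omegaGL (⇑Q), ∀ x ∈ U, (g : Matrix (Fin n) (Fin n) F) *ᵥ x ∈ U)
    (u : Fin n → F) (huU : u ∈ U) (hu : Q u = 0) (hu0 : u ≠ 0) : U = ⊤ := by
  have hq := qf_of_quad Q hQ
  have vf := vfacts_quad hn Q hQ
  have hG := sgGroupQ_quad hn Q hQ
  have hsing : ∀ u' : Fin n → F, Q u' = 0 → u' ∈ U := by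
    intro u' hu'
    by_cases hu'0 : u' = 0
    · rw [hu'0]; exact U.zero_mem
    · obtain ⟨g, hg, a, ha, e⟩ := trans_sing_q hq vf hG u u' hu hu0 hu' hu'0
      have h1 := hU g hg u huU
      rw [e] at h1
      have h2 := U.smul_mem a⁻¹ h1
      rwa [smul_smul, inv_mul_cancel₀ ha, one_smul] at h2
  rw [eq_top_iff]
  intro y _
  obtain ⟨y₁, y₂, e, h1, h2⟩ := ascopra_sum_sing Q vf y
  rw [← e]
  exact U.add_mem (hsing y₁ h1) (hsing y₂ h2)

open Cfsg.Agent.Lib.Helper28.OQ Cfsg.Agent.Lib.Helper28.OMax Cfsg.Agent.Lib.Helper28.OMax2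
  Cfsg.Agent.Lib.Helper28.OIwa2 Cfsg.Agent.Lib.Helper28.OGenQ Cfsg.Agent.S0795 in
/-- PRA : `Ω` is irreducible. -/
theorem omega_not_le_stab (hn : 7 ≤ n) (h2 : (2 : F) ≠ 0) (Q : QuadraticForm F (Fin n → F))
    (hQ : (QuadraticMap.polarBilin Q).Nondegenerate) (W : Submodule F (Fin n → F))
    (h0 : W ≠ ⊥) (h1 : W ≠ ⊤) : ¬ omegaGL (⇑Q) ≤ subspaceStabilizer W := by
  intro hle
  have hq := qf_of_quad Q hQ
  have vf := vfacts_quad hn Q hQ
  have hG := sgGroupQ_quad hn Q hQ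
  have hf := hq.sym
  have hU : ∀ g ∈ omegaGL (⇑Q), ∀ x ∈ W, (g : Matrix (Fin n) (Fin n) F) *ᵥ x ∈ W := by
    intro g hg x hx
    exact ((hle hg) x).mp hx
  -- a non-zero vector of `W`
  obtain ⟨w, hwW, hw0⟩ := (Submodule.ne_bot_iff W).mp h0
  -- a singular `u` with `f u w ≠ 0`
  obtain ⟨u, hu, huw⟩ := ascopra_exists_nonorth Q hQ vf w hw0
  -- `w' = w + c u` singular, `(u, w')` a hyperbolic pair
  have huw' : QuadraticMap.polar (⇑Q) w u ≠ 0 := by rwa [QuadraticMap.polar_comm]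
  set c : F := -(Q w / QuadraticMap.polar (⇑Q) w u) with hc
  have hw' : Q (w + c • u) = 0 := ascopra_adjust Q w u hu huw'
  have huu : QuadraticMap.polar (⇑Q) u u = 0 := by
    have := f_sing hq hu
    exact this
  have hpair : pf Q u (w + c • u) ≠ 0 := by
    show QuadraticMap.polar (⇑Q) u (w + c • u) ≠ 0
    rw [QuadraticMap.polar_add_right, QuadraticMap.polar_smul_right, huu, smul_zero, add_zero]
    exact huw
  obtain ⟨v, s', hv, _, hvu, hvw', _, _, hs'v⟩ := vf.hyp_perp u (w + c • u) hu hw' hpair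
  have hv0 : v ≠ 0 := by
    rintro rfl
    rw [Cfsg.Agent.Lib.Helper28.HForm.f_zero_right hf] at hs'v
    exact zero_ne_one hs'v
  have hvu' : QuadraticMap.polar (⇑Q) v u = 0 := hvu
  have hvw : QuadraticMap.polar (⇑Q) v w = 0 := by
    have h3 : QuadraticMap.polar (⇑Q) v (w + c • u) = 0 := hvw'
    rw [QuadraticMap.polar_add_right, QuadraticMap.polar_smul_right, hvu', smul_zero, add_zero] at h3
    exact h3
  -- the Siegel element
  have huv : pf Q u v = 0 := by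
    show QuadraticMap.polar (⇑Q) u v = 0
    rw [QuadraticMap.polar_comm]; exact hvu'
  obtain ⟨t, ht⟩ := hG.ex u v 1 hu hv huv
  have htΩ : t ∈ omegaGL (⇑Q) := hG.sg t u v 1 hu hv huv ht
  have h4 := hU t htΩ w hwW
  rw [ht w] at h4
  unfold Tv at h4
  have h5 : pf Q u w • v ∈ W := by
    have e : pf Q u w • v = (w + (1 : F) • (pf Q u w • v - pf Q v w • u)) - w := by
      have : pf Q v w = 0 := hvw
      rw [this, zero_smul, sub_zero, one_smul]; abel
    rw [e]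
    exact W.sub_mem h4 hwW
  have hvW : v ∈ W := by
    have h6 := W.smul_mem (pf Q u w)⁻¹ h5
    rwa [smul_smul, inv_mul_cancel₀ (show pf Q u w ≠ 0 from huw), one_smul] at h6
  exact h1 (ascopra_stable_top hn Q hQ W hU v hvW hv hv0)

end Cfsg.Agent.Lib.helper23.ASCO
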