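import Mathlib
import Cfsg.Agent.Lib.helper7.BD.D1Defs
import Cfsg.Agent.Lib.helper7.BD.D1Defs3
import Cfsg.Agent.Lib.Helper13.BD3IBLK
import Cfsg.Agent.Lib.Helper13.BD2ROOTU

set_option autoImplicit false
set_option linter.unusedVariables false
set_option linter.unusedSectionVars false

namespace Cfsg.Agent.Lib.helper7.BD

open Cfsg.Agent.Lib.helper7

universe u

section root

variable {G : Type u} [Group G] [Fintype G] {M : Ideal Cfsg.AlgInt} {p : ℕ} [Fact p.Prime]

/-- a canonical character whose block induces `B` gives root data -/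
theorem bd5fib_rootHyp (hM : Cfsg.IsPModular p M) (P : Sylow p G) (hP : Nat.card P = p)
    (B : Set (Cfsg.IrrCharacter G)) (hB : Cfsg.IsPBlock M B)
    (hBP : Cfsg.IsDefectGroup p M B (P : Subgroup G))
    (θ : Cfsg.IrrCharacter (Subgroup.centralizer ((P : Subgroup G) : Set G)))
    (hθ : θ ∈ canonSet P)
    (hind : Cfsg.IsInducedBlock M (Subgroup.centralizer ((P : Subgroup G) : Set G))
      (Cfsg.blockOf M (θ : ↥(Subgroup.centralizer ((P : Subgroup G) : Set G)) → ℂ)) B) :
    RootHyp p M P B (Cfsg.blockOf M (θ : ↥(Subgroup.centralizer ((P : Subgroup G) : Set G)) → ℂ)) θ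
      (stabT P θ) :=
  { hM := hM
    card_P := hP
    hB := hB
    hBP := hBP
    hind := hind
    hθ := by
      have : Fintype ↥(Subgroup.centralizer ((P : Subgroup G) : Set G)) := Fintype.ofFinite _
      have : Fintype (Cfsg.IrrCharacter ↥(Subgroup.centralizer ((P : Subgroup G) : Set G))) :=
        Fintype.ofFinite _
      exact h7_sameBlock_refl hM.2.1.isPrime _
    hθP := hθ
    hT := fun g => mem_stabT P θ g }

/-- the centralizer of `P` stabilizes every character of itself -/
theorem bd5fib_C_le_stabT (P : Sylow p G)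
    (θ : Cfsg.IrrCharacter (Subgroup.centralizer ((P : Subgroup G) : Set G))) :
    Subgroup.centralizer ((P : Subgroup G) : Set G) ≤ stabT P θ := by
  intro c hc
  rw [mem_stabT]
  refine ⟨Subgroup.centralizer_le_normalizer _ hc, fun x x' hx => ?_⟩
  have : x' = ⟨c, hc⟩ * x * ⟨c, hc⟩⁻¹ := by
    apply Subtype.ext
    rw [hx]
    rfl
  rw [this]
  exact Cfsg.Agent.Lib.Helper25.irr_conj_invariant θ x ⟨c, hc⟩

theorem bd5fib_stabT_le (P : Sylow p G)
    (θ : Cfsg.IrrCharacter (Subgroup.centralizer ((P : Subgroup G) : Set G))) :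
    stabT P θ ≤ Subgroup.normalizer ((P : Subgroup G) : Set G) :=
  fun g hg => ((mem_stabT P θ g).1 hg).1

/-- conjugates of canonical characters are canonical -/
theorem bd5fib_cjIrr_canon (P : Sylow p G) (n : G)
    (hn : n ∈ Subgroup.normalizer ((P : Subgroup G) : Set G))
    (θ : Cfsg.IrrCharacter (Subgroup.centralizer ((P : Subgroup G) : Set G)))
    (hθ : θ ∈ canonSet P) :
    cjIrr (Subgroup.centralizer ((P : Subgroup G) : Set G)) n θ ∈ canonSet P := by
  have hn' : n ∈ Subgroup.normalizer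
      ((Subgroup.centralizer ((P : Subgroup G) : Set G) : Subgroup G) : Set G) :=
    Cfsg.Agent.Lib.Helper24.ci_normalizer_le (P : Subgroup G) hn
  intro x hx
  have hxP : n⁻¹ * (x : G) * n ∈ (P : Subgroup G) := by
    have := (Subgroup.mem_normalizer_iff.1 (Subgroup.inv_mem _ hn) (x : G)).1 hx
    rwa [inv_inv] at this
  have hxC : n⁻¹ * (x : G) * n ∈ Subgroup.centralizer ((P : Subgroup G) : Set G) := by
    have := conj_mem_centralizer_of_mem_normalizer (P : Subgroup G)
      (Subgroup.inv_mem _ hn) x.2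
    rwa [inv_inv] at this
  rw [cjIrr_conj _ hn' θ ⟨n⁻¹ * (x : G) * n, hxC⟩ x (by
      show (x : G) = n * (n⁻¹ * (x : G) * n) * n⁻¹
      group),
    cjIrr_conj _ hn' θ 1 1 (by
      show ((1 : ↥(Subgroup.centralizer ((P : Subgroup G) : Set G))) : G) = n * ((1 : ↥(Subgroup.centralizer ((P : Subgroup G) : Set G))) : G) * n⁻¹
      simp)]
  exact hθ ⟨n⁻¹ * (x : G) * n, hxC⟩ hxP

/-- a `finsum` of a constant over a finite set -/
theorem bd5fib_finsum_const {α : Type*} (s : Set α) (hs : s.Finite) (c : ℕ) :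
    ∑ᶠ a ∈ s, c = Nat.card s * c := by
  rw [finsum_mem_eq_finite_toFinset_sum _ hs, Finset.sum_const, smul_eq_mul,
    Nat.card_eq_card_finite_toFinset hs]

/-- the numerical consequence of the main theorem on blocks of defect one -/
theorem bd5fib_arith (p e t ε cB : ℕ) (hp : 2 ≤ p) (h1 : e * t = p - 1) (h2 : cB = e + t)
    (h3 : cB = ε + (p - 1) / e) : e = ε ∧ e ^ 2 + (p - 1) = e * cB := by
  have he : 0 < e := by
    rcases Nat.eq_zero_or_pos e with h0 | h0
    · rw [h0, zero_mul] at h1; omega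
    · exact h0
  have h4 : (p - 1) / e = t := by rw [← h1]; exact Nat.mul_div_cancel_left t he
  rw [h4] at h3
  constructor
  · omega
  · rw [h2, ← h1]; ring

/-- FIB, core: the sum over the canonical characters belonging to the roots of `B`, from the main theorem
(`hmain`, `hK`) and the existence of a root (`hex`) -/
theorem bd5fib_core (hM : Cfsg.IsPModular p M) (P : Sylow p G) (hP : Nat.card P = p)
    (B : Set (Cfsg.IrrCharacter G)) (hB : Cfsg.IsPBlock M B)
    (hBP : Cfsg.IsDefectGroup p M B (P : Subgroup G))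
    (hex : ∃ θ₀ : Cfsg.IrrCharacter (Subgroup.centralizer ((P : Subgroup G) : Set G)),
      RootHyp p M P B
        (Cfsg.blockOf M (θ₀ : ↥(Subgroup.centralizer ((P : Subgroup G) : Set G)) → ℂ)) θ₀
        (stabT P θ₀))
    (hmain : ∀ θ : Cfsg.IrrCharacter (Subgroup.centralizer ((P : Subgroup G) : Set G)),
      RootHyp p M P B
        (Cfsg.blockOf M (θ : ↥(Subgroup.centralizer ((P : Subgroup G) : Set G)) → ℂ)) θ
        (stabT P θ) →
      ∃ t : ℕ, (Subgroup.centralizer ((P : Subgroup G) : Set G)).relIndex (stabT P θ) * t = p - 1 ∧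
        Nat.card B = (Subgroup.centralizer ((P : Subgroup G) : Set G)).relIndex (stabT P θ) + t)
    (hK : ∀ θ : Cfsg.IrrCharacter (Subgroup.centralizer ((P : Subgroup G) : Set G)),
      RootHyp p M P B
        (Cfsg.blockOf M (θ : ↥(Subgroup.centralizer ((P : Subgroup G) : Set G)) → ℂ)) θ
        (stabT P θ) →
      Nat.card B = Cfsg.blockRank p B +
        (p - 1) / (Subgroup.centralizer ((P : Subgroup G) : Set G)).relIndex (stabT P θ)) :
    ∑ᶠ θ ∈ {θ : Cfsg.IrrCharacter (Subgroup.centralizer ((P : Subgroup G) : Set G)) |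
        θ ∈ canonSet P ∧
        Cfsg.IsInducedBlock M (Subgroup.centralizer ((P : Subgroup G) : Set G))
          (Cfsg.blockOf M (θ : ↥(Subgroup.centralizer ((P : Subgroup G) : Set G)) → ℂ)) B},
      ((Subgroup.centralizer ((P : Subgroup G) : Set G)).relIndex (stabT P θ) ^ 2 + (p - 1)) =
    (Subgroup.centralizer ((P : Subgroup G) : Set G)).relIndex
      (Subgroup.normalizer ((P : Subgroup G) : Set G)) * Nat.card B := by
  classical
  have hp : p.Prime := Fact.out
  have hMp : M.IsPrime := hM.2.1.isPrime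
  obtain ⟨θ₀, h₀⟩ := hex
  have hfin : Finite (Cfsg.IrrCharacter (Subgroup.centralizer ((P : Subgroup G) : Set G))) :=
    inferInstance
  -- every member of the index set gives root data, hence the same `e`
  have hroot : ∀ θ ∈ {θ : Cfsg.IrrCharacter (Subgroup.centralizer ((P : Subgroup G) : Set G)) |
        θ ∈ canonSet P ∧
        Cfsg.IsInducedBlock M (Subgroup.centralizer ((P : Subgroup G) : Set G))
          (Cfsg.blockOf M (θ : ↥(Subgroup.centralizer ((P : Subgroup G) : Set G)) → ℂ)) B},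
      RootHyp p M P B
        (Cfsg.blockOf M (θ : ↥(Subgroup.centralizer ((P : Subgroup G) : Set G)) → ℂ)) θ
        (stabT P θ) := fun θ hθ => bd5fib_rootHyp hM P hP B hB hBP θ hθ.1 hθ.2
  have hval : ∀ θ : Cfsg.IrrCharacter (Subgroup.centralizer ((P : Subgroup G) : Set G)),
      RootHyp p M P B
        (Cfsg.blockOf M (θ : ↥(Subgroup.centralizer ((P : Subgroup G) : Set G)) → ℂ)) θ
        (stabT P θ) →
      (Subgroup.centralizer ((P : Subgroup G) : Set G)).relIndex (stabT P θ) = Cfsg.blockRank p B ∧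
      (Subgroup.centralizer ((P : Subgroup G) : Set G)).relIndex (stabT P θ) ^ 2 + (p - 1) =
        (Subgroup.centralizer ((P : Subgroup G) : Set G)).relIndex (stabT P θ) * Nat.card B := by
    intro θ hθ
    obtain ⟨t, ht1, ht2⟩ := hmain θ hθ
    exact bd5fib_arith p _ t _ _ hp.two_le ht1 ht2 (hK θ hθ)
  have hsum : ∑ᶠ θ ∈ {θ : Cfsg.IrrCharacter (Subgroup.centralizer ((P : Subgroup G) : Set G)) |
        θ ∈ canonSet P ∧
        Cfsg.IsInducedBlock M (Subgroup.centralizer ((P : Subgroup G) : Set G))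
          (Cfsg.blockOf M (θ : ↥(Subgroup.centralizer ((P : Subgroup G) : Set G)) → ℂ)) B},
      ((Subgroup.centralizer ((P : Subgroup G) : Set G)).relIndex (stabT P θ) ^ 2 + (p - 1)) =
      ∑ᶠ θ ∈ {θ : Cfsg.IrrCharacter (Subgroup.centralizer ((P : Subgroup G) : Set G)) |
        θ ∈ canonSet P ∧
        Cfsg.IsInducedBlock M (Subgroup.centralizer ((P : Subgroup G) : Set G))
          (Cfsg.blockOf M (θ : ↥(Subgroup.centralizer ((P : Subgroup G) : Set G)) → ℂ)) B},
      (Cfsg.blockRank p B * Nat.card B) := by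
    refine finsum_mem_congr rfl fun θ hθ => ?_
    obtain ⟨h1, h2⟩ := hval θ (hroot θ hθ)
    rw [h2, h1]
  rw [hsum, bd5fib_finsum_const _ (Set.toFinite _)]
  -- the index set is in bijection with the blocks of `C` inducing `B`
  obtain ⟨hiblk1, hiblk2⟩ := root_blocks_inducing h₀
  have hcard : Nat.card {θ : Cfsg.IrrCharacter (Subgroup.centralizer ((P : Subgroup G) : Set G)) |
        θ ∈ canonSet P ∧
        Cfsg.IsInducedBlock M (Subgroup.centralizer ((P : Subgroup G) : Set G))
          (Cfsg.blockOf M (θ : ↥(Subgroup.centralizer ((P : Subgroup G) : Set G)) → ℂ)) B} =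
      Nat.card {b' : Set (Cfsg.IrrCharacter (Subgroup.centralizer ((P : Subgroup G) : Set G))) |
        Cfsg.IsInducedBlock M (Subgroup.centralizer ((P : Subgroup G) : Set G)) b' B} := by
    refine Nat.card_congr (Equiv.ofBijective
      (fun θ => ⟨Cfsg.blockOf M
        ((θ : Cfsg.IrrCharacter (Subgroup.centralizer ((P : Subgroup G) : Set G))) :
          ↥(Subgroup.centralizer ((P : Subgroup G) : Set G)) → ℂ), θ.2.2⟩) ⟨?_, ?_⟩)
    · rintro ⟨θ, hθ⟩ ⟨θ', hθ'⟩ heq
      have heq' : Cfsg.blockOf M (θ : ↥(Subgroup.centralizer ((P : Subgroup G) : Set G)) → ℂ) =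
          Cfsg.blockOf M (θ' : ↥(Subgroup.centralizer ((P : Subgroup G) : Set G)) → ℂ) :=
        congrArg Subtype.val heq
      have hr := hroot θ hθ
      have hr' := hroot θ' hθ'
      have hmem : θ' ∈ Cfsg.blockOf M
          (θ : ↥(Subgroup.centralizer ((P : Subgroup G) : Set G)) → ℂ) := by
        rw [heq']; exact hr'.hθ
      have := root_unique hr θ' hmem hθ'.1
      exact Subtype.ext this.symm
    · rintro ⟨b', hb'⟩
      obtain ⟨n, hn, rfl⟩ := (hiblk1 b').1 hb'
      have hn' : n ∈ Subgroup.normalizer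
          ((Subgroup.centralizer ((P : Subgroup G) : Set G) : Subgroup G) : Set G) :=
        Cfsg.Agent.Lib.Helper24.ci_normalizer_le (P : Subgroup G) hn
      have hcanon := bd5fib_cjIrr_canon P n hn θ₀ h₀.hθP
      have hmem : cjIrr (Subgroup.centralizer ((P : Subgroup G) : Set G)) n θ₀ ∈
          cjSet (Subgroup.centralizer ((P : Subgroup G) : Set G)) n
            (Cfsg.blockOf M (θ₀ : ↥(Subgroup.centralizer ((P : Subgroup G) : Set G)) → ℂ)) :=
        ⟨θ₀, h₀.hθ, rfl⟩
      obtain ⟨χ, hχ⟩ := hb'.1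
      have hblk : Cfsg.blockOf M ((cjIrr (Subgroup.centralizer ((P : Subgroup G) : Set G)) n θ₀ :
          Cfsg.IrrCharacter (Subgroup.centralizer ((P : Subgroup G) : Set G))) :
            ↥(Subgroup.centralizer ((P : Subgroup G) : Set G)) → ℂ) =
          cjSet (Subgroup.centralizer ((P : Subgroup G) : Set G)) n
            (Cfsg.blockOf M (θ₀ : ↥(Subgroup.centralizer ((P : Subgroup G) : Set G)) → ℂ)) := by
        have : Fintype ↥(Subgroup.centralizer ((P : Subgroup G) : Set G)) := Fintype.ofFinite _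
        have : Fintype (Cfsg.IrrCharacter ↥(Subgroup.centralizer ((P : Subgroup G) : Set G))) :=
          Fintype.ofFinite _
        rw [hχ] at hmem ⊢
        exact (h7_blockOf_eq_of_mem hMp χ _ hmem).symm
      refine ⟨⟨cjIrr (Subgroup.centralizer ((P : Subgroup G) : Set G)) n θ₀, hcanon, ?_⟩, ?_⟩
      · rw [hblk]; exact hb'
      · exact Subtype.ext hblk
  rw [hcard, hiblk2]
  have he0 := (hval θ₀ h₀).1
  rw [← he0, ← mul_assoc, mul_comm ((stabT P θ₀).relIndex _), 
    Subgroup.relIndex_mul_relIndex _ _ _ (bd5fib_C_le_stabT P θ₀) (bd5fib_stabT_le P θ₀)]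

end root

end Cfsg.Agent.Lib.helper7.BD
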