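import Mathlib
import Cfsg.Agent.Lib.helper7.BD.D1Defs3
import Cfsg.Agent.Lib.Helper11.BD5FIBcore
import Cfsg.Agent.Lib.helper4.BD5ROOTEXP
import Cfsg.Agent.Lib.Helper20.BD3K
import Cfsg.Agent.Lib.helper7.BD.RootMain

set_option autoImplicit false
set_option linter.unusedVariables false
set_option linter.unusedSectionVars false
set_option linter.style.haveILetI false

namespace Cfsg.Agent.Lib.helper7.BD

open Cfsg.Agent.Lib.helper7

universe u

section root

variable {G : Type u} [Group G] [Fintype G] {M : Ideal Cfsg.AlgInt} {p : ℕ} [Fact p.Prime]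

/-- FIB : the canonical characters belonging to the roots of `B` form one `N`-orbit -/
theorem root_fibre_sum (hM : Cfsg.IsPModular p M) (P : Sylow p G) (hP : Nat.card P = p)
    (B : Set (Cfsg.IrrCharacter G)) (hB : Cfsg.IsPBlock M B)
    (hBP : Cfsg.IsDefectGroup p M B (P : Subgroup G)) :
    ∑ᶠ θ ∈ {θ : Cfsg.IrrCharacter (Subgroup.centralizer ((P : Subgroup G) : Set G)) |
        θ ∈ canonSet P ∧
        Cfsg.IsInducedBlock M (Subgroup.centralizer ((P : Subgroup G) : Set G))
          (Cfsg.blockOf M (θ : ↥(Subgroup.centralizer ((P : Subgroup G) : Set G)) → ℂ)) B},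
      ((Subgroup.centralizer ((P : Subgroup G) : Set G)).relIndex (stabT P θ) ^ 2 + (p - 1)) =
    (Subgroup.centralizer ((P : Subgroup G) : Set G)).relIndex
      (Subgroup.normalizer ((P : Subgroup G) : Set G)) * Nat.card B := by
  classical
  haveI : Fintype ↥(Subgroup.centralizer ((P : Subgroup G) : Set G)) := Fintype.ofFinite _
  haveI : Fintype ↥(Subgroup.normalizer ((P : Subgroup G) : Set G)) := Fintype.ofFinite _
  refine bd5fib_core hM P hP B hB hBP (root_exists_of_defect hM P hP B hB hBP) ?_
    (fun θ h => root_card_eq h)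
  intro θ h
  obtain ⟨t, r, X, y, ε, hr, -, -, -, -, hc, -⟩ := root_main h
  exact ⟨t, hr.et, hc⟩

end root

end Cfsg.Agent.Lib.helper7.BD
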