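import Mathlib
import Cfsg.Agent.Lib.Helper10.PGM.Defs
import Cfsg.Agent.Lib.Helper10.PGMNat0

set_option autoImplicit false

/-!
# PGM row AC2e (`ac_two_e`): two orbits, `l₁ = 1`, `m₁ ≥ 4`.
-/

namespace Cfsg.Agent.Lib.Helper10.PGM

open Cfsg.Agent.Lib.helper15.UNat

/-- `q ^ (n + 1) + q ^ n + 1 ≤ q ^ (n + 2)` for `q ≥ 2`, `n ≥ 1`... in the form used below -/
theorem pgmac2e_pow (q n : ℕ) (hq : 2 ≤ q) (hn : 1 ≤ n) : q ^ (n + 1) + q ^ n + 1 ≤ q ^ (n + 2) := by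
  have h1 : 2 ≤ q ^ n := by
    calc 2 = 2 ^ 1 := by norm_num
      _ ≤ q ^ 1 := Nat.pow_le_pow_left hq 1
      _ ≤ q ^ n := Nat.pow_le_pow_right (by omega) hn
  have h2 : q ^ (n + 1) = q * q ^ n := by ring
  have h3 : q ^ (n + 2) = q * q ^ (n + 1) := by ring
  have h4 : 2 * q ^ n ≤ q ^ (n + 1) := by rw [h2]; exact Nat.mul_le_mul_right _ hq
  have h5 : 2 * q ^ (n + 1) ≤ q ^ (n + 2) := by rw [h3]; exact Nat.mul_le_mul_right _ hq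
  omega

theorem ac_two_e (p f d : ℕ) (hp : p.Prime) (hf : 1 ≤ f) (hd : 3 ≤ d)
    (m₁ l₂ m₂ : ℕ) (h2 : 4 ≤ m₁) (h3 : 1 ≤ l₂) (h4 : 1 ≤ m₂) (hm : m₂ ≤ m₁)
    (hsum : 1 * m₁ + l₂ * m₂ = d) :
    p ^ Nat.clog p m₁ * Nat.lcm (Qn (p ^ f) 1) (Qn (p ^ f) l₂) ≤ Mx p f d := by
  have hp2 : 2 ≤ p := hp.two_le
  have hq : 2 ≤ p ^ f := by
    calc 2 ≤ p := hp2
      _ = p ^ 1 := (pow_one p).symm
      _ ≤ p ^ f := Nat.pow_le_pow_right (by omega) hf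
  set q := p ^ f with hqdef
  -- the lcm is `Qn q l₂`
  have hQ1 : Qn q 1 = q + 1 := by rw [Qn_odd q 1 (by decide), pow_one]
  have hdvd : Qn q 1 ∣ Qn q l₂ := by rw [hQ1]; exact succ_dvd_Qn q l₂ (by omega)
  have hlcm : Nat.lcm (Qn q 1) (Qn q l₂) = Qn q l₂ := Nat.lcm_eq_right hdvd
  rw [hlcm]
  -- the `p`-part
  have hpc : p ^ Nat.clog p m₁ ≤ q ^ (m₁ - 2) := by
    calc p ^ Nat.clog p m₁ ≤ p ^ (m₁ - 2) := pclog_four p m₁ hp2 h2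
      _ ≤ q ^ (m₁ - 2) := Nat.pow_le_pow_left (by
          calc p = p ^ 1 := (pow_one p).symm
            _ ≤ p ^ f := Nat.pow_le_pow_right (by omega) hf) _
  have hQl : Qn q l₂ ≤ q ^ l₂ + 1 := Qn_le q l₂
  have hl2 : l₂ ≤ l₂ * m₂ := Nat.le_mul_of_pos_right _ (by omega)
  have hd5 : m₁ + l₂ ≤ d := by omega
  -- `B ≤ q ^ (d - 2) + q ^ (d - 3)`
  have hB : p ^ Nat.clog p m₁ * Qn q l₂ ≤ q ^ (d - 2) + q ^ (d - 3) := by
    calc p ^ Nat.clog p m₁ * Qn q l₂ ≤ q ^ (m₁ - 2) * (q ^ l₂ + 1) := Nat.mul_le_mul hpc hQl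
      _ = q ^ (m₁ - 2 + l₂) + q ^ (m₁ - 2) := by rw [mul_add, mul_one, pow_add]
      _ ≤ q ^ (d - 2) + q ^ (d - 3) :=
          Nat.add_le_add (Nat.pow_le_pow_right (by omega) (by omega))
            (Nat.pow_le_pow_right (by omega) (by omega))
  have hpow := pgmac2e_pow q (d - 3) hq (by omega)
  have e1 : d - 3 + 1 = d - 2 := by omega
  have e2 : d - 3 + 2 = d - 1 := by omega
  rw [e1, e2] at hpow
  have hMx := Mx_ge p f d hp2 hf hd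
  rw [← hqdef] at hMx
  omega

end Cfsg.Agent.Lib.Helper10.PGM
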