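import Mathlib
import Cfsg.Agent.Lib.Helper10.RES.Defs
import Cfsg.Agent.Lib.Helper11.RESGZ2
import Cfsg.Agent.Lib.Helper16.RESGA6a

set_option autoImplicit false

namespace Cfsg.Agent.Lib.Helper10.RES

variable {Ω : Type*} [Group Ω]

section G
variable {p n s : ℕ} [Fact p.Prime] {S : Subgroup Ω} {x y z : Ω}

/-- **GZ1**. `z^p` is central, `ζ = z^(p^(n-3))` is a central element of order `p` in `Z`. -/
theorem F2Set.zp_central (hF : F2Set p n s S x y z) :
    (∀ g ∈ S, g * z ^ p = z ^ p * g) ∧ z ^ p ^ (n - 3) ≠ 1 ∧ (z ^ p ^ (n - 3)) ^ p = 1 ∧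
      z ^ p ^ (n - 3) ∈ ZZ p z := by
  have hp : p.Prime := Fact.out
  have h4 := hF.hn4
  refine ⟨?_, ?_, ?_, ?_⟩
  · have hle : S ≤ Subgroup.centralizer ({z ^ p} : Set Ω) := by
      rw [← hF.gen, Subgroup.closure_le]
      intro g hg
      rw [SetLike.mem_coe, Subgroup.mem_centralizer_iff]
      intro h hh
      rw [Set.mem_singleton_iff] at hh
      subst hh
      rcases hg with rfl | rfl | rfl
      · have := resgz2_x_zp hF
        calc z ^ p * g = g * (g⁻¹ * z ^ p * g) := by group
          _ = g * z ^ p := by rw [this]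
      · have hyz : Commute g z := hF.yz
        exact (hyz.pow_right p).eq.symm
      · exact ((Commute.refl g).pow_right p).eq.symm
    intro g hg
    have := hle hg
    rw [Subgroup.mem_centralizer_iff] at this
    exact (this _ rfl).symm
  · intro h1
    have hord := hF.orders.1
    have hdvd : orderOf z ∣ p ^ (n - 3) := orderOf_dvd_of_pow_eq_one h1
    rw [hord, Nat.pow_dvd_pow_iff_le_right hp.one_lt] at hdvd
    omega
  · rw [← pow_mul, ← pow_succ]
    have : n - 3 + 1 = n - 2 := by omega
    rw [this]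
    exact hF.zp
  · have : p ^ (n - 3) = p * p ^ (n - 4) := by
      have : n - 3 = (n - 4) + 1 := by omega
      rw [this, pow_succ]; ring
    rw [this, pow_mul]
    exact Subgroup.pow_mem _ (Subgroup.mem_zpowers _) _

end G

end Cfsg.Agent.Lib.Helper10.RES
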