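import Mathlib
import Cfsg.Agent.Lib.Helper10.RES.Defs
import Cfsg.Agent.Lib.Helper11.RESGZ2

set_option autoImplicit false

namespace Cfsg.Agent.Lib.Helper10.RES

variable {Ω : Type*} [Group Ω]

/-- multiplying normal forms in two commuting elements -/
theorem resgz5_mul {y z : Ω} (h : Commute y z) (a b c d : ℕ) :
    (y ^ a * z ^ b) * (y ^ c * z ^ d) = y ^ (a + c) * z ^ (b + d) := by
  have h1 : Commute (z ^ b) (y ^ c) := (h.pow_pow c b).symm
  calc (y ^ a * z ^ b) * (y ^ c * z ^ d) = y ^ a * (z ^ b * y ^ c) * z ^ d := by group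
    _ = y ^ a * (y ^ c * z ^ b) * z ^ d := by rw [h1.eq]
    _ = y ^ (a + c) * z ^ (b + d) := by rw [pow_add, pow_add]; group

/-- powers of normal forms in two commuting elements -/
theorem resgz5_pow {y z : Ω} (h : Commute y z) (a b m : ℕ) :
    (y ^ a * z ^ b) ^ m = y ^ (a * m) * z ^ (b * m) := by
  rw [(h.pow_pow a b).mul_pow, ← pow_mul, ← pow_mul]

/-- `2 * C(r,2) + r = r²` -/
theorem resgz5_choose (r : ℕ) : r.choose 2 * 2 + r = r * r := by
  induction r with
  | zero => simp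
  | succ r ih =>
    have hc2 : (r + 1).choose 2 = r + r.choose 2 := by
      rw [Nat.choose_succ_succ' r 1, Nat.choose_one_right]
    rw [hc2]
    nlinarith [ih]

theorem resgz5_sum1 (i j k m : ℕ) :
    ∑ t ∈ Finset.range m, (j + i * t * k) = m * j + i * k * ∑ t ∈ Finset.range m, t := by
  induction m with
  | zero => simp
  | succ m ih =>
    rw [Finset.sum_range_succ, Finset.sum_range_succ, ih]
    ring

theorem resgz5_sum2 (W i j k m : ℕ) :
    ∑ t ∈ Finset.range m, (k + W * (i * t * j + (i * t).choose 2 * k)) =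
      m * k + W * (i * j * (∑ t ∈ Finset.range m, t) +
        k * ∑ t ∈ Finset.range m, (i * t).choose 2) := by
  induction m with
  | zero => simp
  | succ m ih =>
    rw [Finset.sum_range_succ, Finset.sum_range_succ, Finset.sum_range_succ, ih]
    ring

theorem resgz5_sum3 (i m : ℕ) :
    (∑ t ∈ Finset.range m, (i * t).choose 2) * 2 + i * ∑ t ∈ Finset.range m, t =
      i * i * ∑ t ∈ Finset.range m, t * t := by
  induction m with
  | zero => simp
  | succ m ih =>
    rw [Finset.sum_range_succ, Finset.sum_range_succ, Finset.sum_range_succ]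
    have := resgz5_choose (i * m)
    nlinarith [ih, this]

theorem resgz5_sum4 (m : ℕ) : (∑ t ∈ Finset.range (m + 1), t) * 2 = m * (m + 1) := by
  induction m with
  | zero => simp
  | succ m ih =>
    rw [Finset.sum_range_succ, add_mul, ih]
    ring

theorem resgz5_sum5 (m : ℕ) :
    (∑ t ∈ Finset.range (m + 1), t * t) * 6 = m * (m + 1) * (2 * m + 1) := by
  induction m with
  | zero => simp
  | succ m ih =>
    rw [Finset.sum_range_succ, add_mul, ih]
    ring

/-- for a prime `p ≥ 5`, `p` divides `∑_{t<p} t`, and `∑_{t<p} C(it,2)` -/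
theorem resgz5_dvd (p : ℕ) (hp : p.Prime) (hp5 : 5 ≤ p) (i : ℕ) :
    p ∣ ∑ t ∈ Finset.range p, t ∧ p ∣ ∑ t ∈ Finset.range p, (i * t).choose 2 := by
  obtain ⟨m, rfl⟩ : ∃ m, p = m + 1 := ⟨p - 1, by omega⟩
  have c2 : Nat.Coprime (m + 1) 2 := (Nat.coprime_primes hp Nat.prime_two).2 (by omega)
  have c3 : Nat.Coprime (m + 1) 3 := (Nat.coprime_primes hp Nat.prime_three).2 (by omega)
  have c6 : Nat.Coprime (m + 1) 6 := by
    have : (6 : ℕ) = 2 * 3 := by norm_num
    rw [this]; exact Nat.Coprime.mul_right c2 c3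
  have h1 : (m + 1) ∣ ∑ t ∈ Finset.range (m + 1), t := by
    apply c2.dvd_of_dvd_mul_right
    rw [resgz5_sum4]
    exact Dvd.intro_left m rfl
  have h2 : (m + 1) ∣ ∑ t ∈ Finset.range (m + 1), t * t := by
    apply c6.dvd_of_dvd_mul_right
    rw [resgz5_sum5]
    exact ⟨m * (2 * m + 1), by ring⟩
  refine ⟨h1, ?_⟩
  apply c2.dvd_of_dvd_mul_right
  have h3 := resgz5_sum3 i (m + 1)
  have h4 : (m + 1) ∣ (∑ t ∈ Finset.range (m + 1), (i * t).choose 2) * 2 +
      i * ∑ t ∈ Finset.range (m + 1), t := by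
    rw [h3]; exact Dvd.dvd.mul_left h2 _
  exact (Nat.dvd_add_left (Dvd.dvd.mul_left h1 _)).mp h4

section G
variable {p n s : ℕ} [Fact p.Prime] {S : Subgroup Ω} {x y z : Ω}

/-- conjugating `y^j z^k` by a power of `x` -/
theorem resgz5_conj (hF : F2Set p n s S x y z) (r j k : ℕ) :
    (x ^ r)⁻¹ * (y ^ j * z ^ k) * x ^ r =
      y ^ (j + r * k) * z ^ (k + s * p ^ (n - 3) * (r * j + r.choose 2 * k)) := by
  have hyz : Commute y z := hF.yz
  obtain ⟨hz, hy⟩ := hF.conj_pow r
  have e1 : (x ^ r)⁻¹ * (y ^ j * z ^ k) * x ^ r =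
      ((x ^ r)⁻¹ * y * x ^ r) ^ j * ((x ^ r)⁻¹ * z * x ^ r) ^ k := by
    rw [← resgz2_conj_pow', ← resgz2_conj_pow']; group
  have e2 : (x ^ r)⁻¹ * y * x ^ r = y ^ 1 * z ^ (s * p ^ (n - 3) * r) := by
    rw [hy, pow_one, ← pow_mul]
  have e3 : (x ^ r)⁻¹ * z * x ^ r = y ^ r * z ^ (1 + s * p ^ (n - 3) * r.choose 2) := by
    rw [hz, ← pow_mul, pow_add, pow_one]
    have h1 : Commute z (y ^ r) := (hyz.pow_left r).symm
    rw [← mul_assoc, h1.eq, mul_assoc]
  rw [e1, e2, e3, resgz5_pow hyz, resgz5_pow hyz, resgz5_mul hyz]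
  congr 2 <;> ring_nf

/-- the power formula before evaluation -/
theorem resgz5_pow_formula (hF : F2Set p n s S x y z) (i j k m : ℕ) :
    (x ^ i * (y ^ j * z ^ k)) ^ m = x ^ (i * m) *
      (y ^ (∑ t ∈ Finset.range m, (j + i * t * k)) *
        z ^ (∑ t ∈ Finset.range m, (k + s * p ^ (n - 3) * (i * t * j + (i * t).choose 2 * k)))) := by
  have hyz : Commute y z := hF.yz
  induction m with
  | zero => simp
  | succ m ih =>
    rw [pow_succ', ih, Finset.sum_range_succ, Finset.sum_range_succ]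
    have e1 : ∀ B : Ω, x ^ i * (y ^ j * z ^ k) * (x ^ (i * m) * B) =
        x ^ (i * (m + 1)) * (((x ^ (i * m))⁻¹ * (y ^ j * z ^ k) * x ^ (i * m)) * B) := by
      intro B
      rw [mul_add, mul_one, add_comm, pow_add]; group
    rw [e1, resgz5_conj hF, resgz5_mul hyz]
    congr 2 <;> ring_nf

/-- **GZ5**. the `p`-th power formula (`p ≥ 5`: the class is `3 < p`). -/
theorem F2Set.pow_p (hF : F2Set p n s S x y z) (hp5 : 5 ≤ p) (i j k : ℕ) :
    (x ^ i * (y ^ j * z ^ k)) ^ p = z ^ (k * p) := by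
  have hp : p.Prime := Fact.out
  have h4 := hF.hn4
  obtain ⟨d1, d2⟩ := resgz5_dvd p hp hp5 i
  rw [resgz5_pow_formula hF, resgz5_sum1, resgz5_sum2]
  have hx : x ^ (i * p) = 1 := by rw [pow_mul', hF.xp, one_pow]
  have hy : y ^ (p * j + i * k * ∑ t ∈ Finset.range p, t) = 1 := by
    obtain ⟨c, hc⟩ := d1
    rw [hc, show p * j + i * k * (p * c) = p * (j + i * k * c) by ring, pow_mul, hF.yp, one_pow]
  have hz : z ^ (s * p ^ (n - 3) * (i * j * (∑ t ∈ Finset.range p, t) +
      k * ∑ t ∈ Finset.range p, (i * t).choose 2)) = 1 := by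
    obtain ⟨c, hc⟩ := d1
    obtain ⟨c', hc'⟩ := d2
    rw [hc, hc']
    have : s * p ^ (n - 3) * (i * j * (p * c) + k * (p * c')) =
        p ^ (n - 2) * (s * (i * j * c + k * c')) := by
      have : n - 2 = (n - 3) + 1 := by omega
      rw [this, pow_succ]; ring
    rw [this, pow_mul, hF.zp, one_pow]
  rw [hx, hy, one_mul, one_mul, pow_add, hz, mul_one, mul_comm p k]

end G

end Cfsg.Agent.Lib.Helper10.RES
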