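import Mathlib
import Cfsg.Agent.Lib.Helper18.SDM.Defs
import Cfsg.Agent.Lib.Helper18.SDM.Defs2
import Cfsg.Agent.Lib.Helper20.SDMB0
import Cfsg.Agent.Lib.Helper20.SDMB1

/-!
# Project SDM (designer helper18), row R4 (`Uk_subset_BQ`, `Uk_inv_mem`, `Uk_nontrivial`), written by helper11.
Self-contained on B0 / B1: the three facts on Siegel elements that are needed (inverse, membership in `B`, non-triviality)
are proved here directly (`sdmr4_sgX_inv`, `sdmr4_sgX_mem_BQ`, `sdmr4_sgX_xv`).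
-/

set_option autoImplicit false
set_option linter.unusedSectionVars false
set_option linter.unusedVariables false

namespace Cfsg.Agent.Lib.Helper18.QBN

open Cfsg.Agent.Lib.helper14.UBN QuadraticMap

universe u v

variable {F : Type u} [Field F] {W : Type v} [AddCommGroup W] [Module F W] {n : ℕ}

/-- `pa k` lies in the lower half -/
theorem sdmr4_pa_lower (hn : Even n) (k : Fin (n / 2)) : rk (pa k) < rk (rv (pa k)) := by
  have h1 := rk_add_rv (pa k)
  have hk := k.2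
  rw [rk_pa] at h1 ⊢
  obtain ⟨m, hm⟩ := hn
  omega

/-- the parameters of `U_k` vanish at the positions of rank `≥ rk (rv (pa k))` -/
theorem sdmr4_Yk_supp (hn : Even n) (k : Fin (n / 2)) {y : QV F n W} (hy : y ∈ Yk F W k) :
    ∀ i : Fin n, rk (rv (pa k)) ≤ rk i → y.1 i = 0 := by
  intro i hi
  by_cases h : pc k = rv (pa k)
  · obtain ⟨w, rfl⟩ := hy.2 h
    rfl
  · obtain ⟨t, rfl⟩ := hy.1 h
    rw [Prod.smul_fst, Pi.smul_apply, xv_fst, if_neg, smul_zero]
    intro e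
    have h1 := (rk_rv_lt_iff (pc k) (pa k)).mpr (rk_pa_lt_pc k)
    rw [← e] at h1
    omega

/-- the image of a frame vector under a Siegel element -/
theorem sdmr4_sgX_xv (hn : Even n) (Q₀ : QuadraticForm F W) (a : Fin n) (y : QV F n W)
    (hy : y.1 (rv a) = 0) (i : Fin n) :
    le (sgX hn Q₀ a y hy) (xv W i) =
      xv W i + y.1 (rv i) • xv W a - (if rv a = i then (1 : F) else 0) • (y + frQ n Q₀ y • xv W a) := by
  rw [sgX_apply, polar_comm, polar_xv hn, xv_fst]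

/-- the inverse of a Siegel element (the statement of `sgX_inv`, row R0a) -/
theorem sdmr4_sgX_inv (hn : Even n) (Q₀ : QuadraticForm F W) (a : Fin n) (y : QV F n W)
    (hy : y.1 (rv a) = 0) (hy' : (-y).1 (rv a) = 0) :
    (sgX hn Q₀ a y hy)⁻¹ = sgX hn Q₀ a (-y) hy' := by
  apply inv_eq_of_mul_eq_one_right
  apply GQ_ext
  intro v
  have hu : frQ n Q₀ (xv W a) = 0 := frQ_xv Q₀ hn a
  have h1 : polar (frQ n Q₀) (xv W a) y = 0 := by rw [polar_comm, polar_xv hn, hy]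
  have h2 : polar (frQ n Q₀) (xv W a) (-y) = 0 := by rw [polar_neg_right, h1, neg_zero]
  have e1 : ∀ (z : QV F n W) (hz : z.1 (rv a) = 0) (v : QV F n W),
      le (sgX hn Q₀ a z hz) v = siegL (frQ n Q₀) (xv W a) z v := by
    intro z hz v
    rw [sgX_apply, siegL_apply, polar_xv hn]
  rw [le_mul, le_one, e1, e1, siegL_comp (frQ n Q₀) hu h1 h2, add_neg_cancel, siegL_zero]

/-- a Siegel element centred at `x_{pa k}` with parameter in `Yk` lies in `B` -/
theorem sdmr4_sgX_mem_BQ (hn : Even n) (Q₀ : QuadraticForm F W) (k : Fin (n / 2)) (y : QV F n W)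
    (hy : y ∈ Yk F W k) : sgX hn Q₀ (pa k) y (Yk_perp hn k hy) ∈ BQ n Q₀ := by
  rw [mem_BQ_iff, isUpQ_iff]
  intro i hi
  have hlow := sdmr4_pa_lower hn k
  have hsum := rk_add_rv (pa k)
  have hsumi := rk_add_rv i
  have hm := hn
  obtain ⟨m, hm⟩ := hm
  rw [sdmr4_sgX_xv, if_neg, zero_smul, sub_zero]
  · apply (Vfl F n W (rk i + 1)).add_mem (xv_mem_Vfl i _ (Nat.lt_succ_self _))
    by_cases h : rk (pa k) ≤ rk i
    · exact (Vfl F n W (rk i + 1)).smul_mem _ (xv_mem_Vfl (pa k) _ (by omega))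
    · rw [sdmr4_Yk_supp hn k hy (rv i) (by omega), zero_smul]
      exact (Vfl F n W (rk i + 1)).zero_mem
  · intro e
    rw [← e] at hi
    omega

theorem Uk_subset_BQ (hn : Even n) (Q₀ : QuadraticForm F W) (k : Fin (n / 2)) (u : GQ n Q₀)
    (hu : u ∈ Uk hn Q₀ k) : u ∈ BQ n Q₀ := by
  obtain ⟨y, hy, rfl⟩ := hu
  exact sdmr4_sgX_mem_BQ hn Q₀ k y hy

/-- `Yk` is closed under negation -/
theorem sdmr4_Yk_neg (k : Fin (n / 2)) {y : QV F n W} (hy : y ∈ Yk F W k) : -y ∈ Yk F W k := by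
  refine ⟨fun h => ?_, fun h => ?_⟩
  · obtain ⟨t, rfl⟩ := hy.1 h
    exact ⟨-t, by rw [neg_smul]⟩
  · obtain ⟨w, rfl⟩ := hy.2 h
    exact ⟨-w, by
      apply Prod.ext
      · funext i
        simp
      · simp⟩

theorem Uk_inv_mem (hn : Even n) (Q₀ : QuadraticForm F W) (k : Fin (n / 2)) (u : GQ n Q₀)
    (hu : u ∈ Uk hn Q₀ k) : u⁻¹ ∈ Uk hn Q₀ k := by
  obtain ⟨y, hy, rfl⟩ := hu
  have hy' := sdmr4_Yk_neg k hy
  exact ⟨-y, hy', sdmr4_sgX_inv hn Q₀ (pa k) y (Yk_perp hn k hy) (Yk_perp hn k hy')⟩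

theorem Uk_nontrivial (hn : Even n) (Q₀ : QuadraticForm F W) (hW : ∃ w : W, w ≠ 0) (k : Fin (n / 2)) :
    ∃ u ∈ Uk hn Q₀ k, u ≠ 1 := by
  obtain ⟨w, hw⟩ := hW
  by_cases h : pc k = rv (pa k)
  · have hy : (wv F n w : QV F n W) ∈ Yk F W k :=
      ⟨fun h' => absurd h h', fun _ => ⟨w, rfl⟩⟩
    refine ⟨sgX hn Q₀ (pa k) (wv F n w) (Yk_perp hn k hy), ⟨_, hy, rfl⟩, ?_⟩
    intro e
    have h1 := congrArg (fun g : GQ n Q₀ => (le g (xv W (rv (pa k)))).2) e
    simp only [le_one, sdmr4_sgX_xv, if_true, one_smul, Prod.snd_sub, Prod.snd_add, Prod.smul_snd,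
      xv_snd, wv_snd, smul_zero, add_zero, zero_sub, neg_eq_zero] at h1
    exact hw h1
  · have hy : ((1 : F) • xv W (rv (pc k)) : QV F n W) ∈ Yk F W k :=
      ⟨fun _ => ⟨1, rfl⟩, fun h' => absurd h' h⟩
    refine ⟨sgX hn Q₀ (pa k) ((1 : F) • xv W (rv (pc k))) (Yk_perp hn k hy), ⟨_, hy, rfl⟩, ?_⟩
    intro e
    have h1 := congrArg (fun g : GQ n Q₀ => (le g (xv W (pc k))).1 (pa k)) e
    have hne : rv (pa k) ≠ pc k := fun e' => h e'.symm
    simp only [le_one, sdmr4_sgX_xv, if_neg hne, zero_smul, sub_zero, Prod.fst_add, Pi.add_apply,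
      Prod.smul_fst, Pi.smul_apply, xv_fst, if_true, if_neg (pa_ne_pc k), smul_eq_mul, mul_one,
      zero_add] at h1
    exact one_ne_zero h1

end Cfsg.Agent.Lib.Helper18.QBN
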