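import Mathlib
import Cfsg.Agent.Lib.Helper10.SLB.Defs

/-!
# Project SLB (S4538 / S2440, designer helper10), row L01 (`charpoly_updateRow`), verbatim statement
-/

set_option autoImplicit false

open Polynomial

namespace Cfsg.Agent.Lib.Helper10.SLB

open Cfsg.Agent.Lib.Helper16.AP

universe u

section L

variable {F : Type u} [Field F]

/-- cofactor expansion of a determinant with one row replaced: the cofactors do not see that row. -/
theorem slbl01_det_updateRow {ι : Type*} [Fintype ι] [DecidableEq ι] {R : Type*} [CommRing R]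
    (B : Matrix ι ι R) (i₀ : ι) (v : ι → R) :
    (B.updateRow i₀ v).det = ∑ j, v j * B.adjugate j i₀ := by
  rw [Matrix.det_eq_sum_mul_adjugate_row (B.updateRow i₀ v) i₀]
  refine Finset.sum_congr rfl fun j _ => ?_
  rw [Matrix.updateRow_self, Matrix.adjugate_apply, Matrix.adjugate_apply, Matrix.updateRow_idem]

theorem slbl01_charmatrix_updateRow {ι : Type*} [Fintype ι] [DecidableEq ι] (A : Matrix ι ι F)
    (i₀ : ι) (r : ι → F) :
    Matrix.charmatrix (A.updateRow i₀ r) =
      (Matrix.charmatrix A).updateRow i₀ (fun j => (if j = i₀ then (X : F[X]) else 0) - C (r j)) := by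
  ext i j
  by_cases hi : i = i₀
  · subst hi
    rw [Matrix.charmatrix_apply, Matrix.updateRow_self, Matrix.updateRow_self, Matrix.diagonal_apply]
    by_cases hj : j = i
    · subst hj; simp
    · rw [if_neg (Ne.symm hj), if_neg hj]
  · rw [Matrix.charmatrix_apply, Matrix.updateRow_ne hi, Matrix.updateRow_ne hi,
      Matrix.charmatrix_apply]

theorem charpoly_updateRow {ι : Type*} [Fintype ι] [DecidableEq ι] (A : Matrix ι ι F) (i₀ : ι) :
    ∃ (c₀ : F[X]) (c : ι → F[X]), ∀ r : ι → F,
      (A.updateRow i₀ r).charpoly = c₀ - ∑ j, C (r j) * c j := by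
  refine ⟨X * (Matrix.charmatrix A).adjugate i₀ i₀, fun j => (Matrix.charmatrix A).adjugate j i₀,
    fun r => ?_⟩
  rw [Matrix.charpoly, slbl01_charmatrix_updateRow, slbl01_det_updateRow]
  simp only [sub_mul, Finset.sum_sub_distrib, ite_mul, zero_mul, Finset.sum_ite_eq',
    Finset.mem_univ, if_true]

end L

end Cfsg.Agent.Lib.Helper10.SLB
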