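import Mathlib
import Cfsg.Agent.Lib.Helper10.SLB.Defs

/-!
# Project SLB (S4538 / S2440, designer helper10), row L02 (`fibre_card_modEq`), verbatim statement
-/

set_option autoImplicit false

open Polynomial

namespace Cfsg.Agent.Lib.Helper10.SLB

open Cfsg.Agent.Lib.Helper16.AP

universe u

section L

variable {F : Type u} [Field F]

/-- the linear part `ρ ↦ Σ_k ρ k • c k`. -/
noncomputable def slbl02_lin {m : ℕ} (c : Fin m → F[X]) : (Fin m → F) →ₗ[F] F[X] :=
  ∑ k, (LinearMap.proj k : (Fin m → F) →ₗ[F] F).smulRight (c k)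

theorem slbl02_lin_apply {m : ℕ} (c : Fin m → F[X]) (ρ : Fin m → F) :
    slbl02_lin c ρ = ∑ k, C (ρ k) * c k := by
  unfold slbl02_lin
  rw [LinearMap.sum_apply]
  refine Finset.sum_congr rfl fun k _ => ?_
  rw [LinearMap.smulRight_apply, LinearMap.proj_apply, Polynomial.smul_eq_C_mul]

/-- a non-empty fibre of `ρ ↦ c₀ - L ρ` is a coset of `ker L`. -/
theorem slbl02_fibre_card {m : ℕ} (c₀ : F[X]) (c : Fin m → F[X]) (f : F[X]) (ρ₀ : Fin m → F)
    (h₀ : c₀ - ∑ k, C (ρ₀ k) * c k = f) :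
    Nat.card {ρ : Fin m → F // c₀ - ∑ k, C (ρ k) * c k = f} =
      Nat.card (LinearMap.ker (slbl02_lin c)) := by
  refine Nat.card_congr ((Equiv.subRight ρ₀).subtypeEquiv ?_)
  intro ρ
  show _ ↔ ρ - ρ₀ ∈ LinearMap.ker (slbl02_lin c)
  rw [LinearMap.mem_ker, map_sub, slbl02_lin_apply, slbl02_lin_apply, ← h₀]
  constructor
  · intro h
    have := sub_right_injective h
    rw [this, sub_self]
  · intro h
    rw [sub_eq_zero.1 h]

theorem fibre_card_modEq [Fintype F] (p : ℕ) [Fact p.Prime] [CharP F p] {m : ℕ} (c₀ : F[X])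
    (c : Fin m → F[X]) (T : Set F[X]) (hT : Nat.card T = Fintype.card F ^ m)
    (hmaps : ∀ ρ : Fin m → F, c₀ - ∑ k, C (ρ k) * c k ∈ T) (f f' : F[X]) (hf : f ∈ T)
    (hf' : f' ∈ T) :
    Nat.card {ρ : Fin m → F // c₀ - ∑ k, C (ρ k) * c k = f} ≡
      Nat.card {ρ : Fin m → F // c₀ - ∑ k, C (ρ k) * c k = f'} [MOD p] := by
  classical
  by_cases hinj : Function.Injective (slbl02_lin c)
  · -- bijective onto `T`: every fibre over `T` has exactly one element
    have hTfin : Finite T := by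
      apply Nat.finite_of_card_ne_zero
      rw [hT]
      exact pow_ne_zero _ Fintype.card_ne_zero
    have hΦinj : Function.Injective
        (fun ρ : Fin m → F => (⟨c₀ - ∑ k, C (ρ k) * c k, hmaps ρ⟩ : T)) := by
      intro ρ ρ' h
      have h' : c₀ - ∑ k, C (ρ k) * c k = c₀ - ∑ k, C (ρ' k) * c k := congrArg Subtype.val h
      have := sub_right_injective h'
      rw [← slbl02_lin_apply, ← slbl02_lin_apply] at this
      exact hinj this
    have hΦbij := hΦinj.bijective_of_nat_card_le (by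
      rw [hT, Nat.card_eq_fintype_card, Fintype.card_fun, Fintype.card_fin])
    have key : ∀ g : F[X], g ∈ T →
        Nat.card {ρ : Fin m → F // c₀ - ∑ k, C (ρ k) * c k = g} = 1 := by
      intro g hg
      rw [Nat.card_eq_one_iff_unique]
      constructor
      · constructor
        rintro ⟨ρ, hρ⟩ ⟨ρ', hρ'⟩
        apply Subtype.ext
        apply hΦinj
        apply Subtype.ext
        show c₀ - ∑ k, C (ρ k) * c k = c₀ - ∑ k, C (ρ' k) * c k
        rw [hρ, hρ']
      · obtain ⟨ρ, hρ⟩ := hΦbij.2 ⟨g, hg⟩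
        exact ⟨⟨ρ, congrArg Subtype.val hρ⟩⟩
    rw [key f hf, key f' hf']
  · -- the kernel is a non-zero subspace: every fibre has `0 mod p` elements
    have hker : LinearMap.ker (slbl02_lin c) ≠ ⊥ := by
      intro h
      exact hinj (LinearMap.ker_eq_bot.1 h)
    have hdvd : p ∣ Nat.card (LinearMap.ker (slbl02_lin c)) := by
      rw [Module.natCard_eq_pow_finrank (K := F)]
      have hpos : 0 < Module.finrank F (LinearMap.ker (slbl02_lin c)) := by
        rw [Module.finrank_pos_iff]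
        exact (Submodule.nontrivial_iff_ne_bot).2 hker
      obtain ⟨n, _, hn⟩ := FiniteField.card F p
      rw [Nat.card_eq_fintype_card, hn, ← pow_mul]
      exact dvd_pow_self p (Nat.mul_ne_zero n.ne_zero hpos.ne')
    have key : ∀ g : F[X], p ∣ Nat.card {ρ : Fin m → F // c₀ - ∑ k, C (ρ k) * c k = g} := by
      intro g
      by_cases hne : Nonempty {ρ : Fin m → F // c₀ - ∑ k, C (ρ k) * c k = g}
      · obtain ⟨⟨ρ₀, h₀⟩⟩ := hne
        rw [slbl02_fibre_card c₀ c g ρ₀ h₀]
        exact hdvd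
      · rw [not_nonempty_iff] at hne
        rw [Nat.card_of_isEmpty]
        exact dvd_zero p
    exact ((Nat.modEq_zero_iff_dvd).2 (key f)).trans ((Nat.modEq_zero_iff_dvd).2 (key f')).symm

end L

end Cfsg.Agent.Lib.Helper10.SLB
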