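import Mathlib
import Cfsg.Agent.Lib.Helper9.A2S.Defs

set_option autoImplicit false

namespace Cfsg.Agent.Lib.Helper9.A2S

open Equiv

/-- `sigmaCongrRight` of a single swap is a swap. -/
theorem h11_sigmaCongrRight_mulSingle_swap {J : Type*} [DecidableEq J] (β : J → Type*)
    [∀ j, DecidableEq (β j)] (j : J) (a b : β j) :
    Perm.sigmaCongrRightHom β (Pi.mulSingle j (Equiv.swap a b)) =
      Equiv.swap (⟨j, a⟩ : Σ j, β j) ⟨j, b⟩ := by
  apply Equiv.ext
  rintro ⟨i, c⟩
  by_cases hij : i = j
  · subst hij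
    have h1 : (Perm.sigmaCongrRightHom β (Pi.mulSingle i (Equiv.swap a b))) ⟨i, c⟩ =
        ⟨i, Equiv.swap a b c⟩ := by
      simp [Perm.sigmaCongrRightHom, Perm.sigmaCongrRight]
    rw [h1]
    by_cases hca : c = a
    · subst hca; simp
    · by_cases hcb : c = b
      · subst hcb; simp
      · rw [Equiv.swap_apply_of_ne_of_ne hca hcb, Equiv.swap_apply_of_ne_of_ne]
        · intro h; exact hca (by simpa using h)
        · intro h; exact hcb (by simpa using h)
  · have h1 : (Perm.sigmaCongrRightHom β (Pi.mulSingle j (Equiv.swap a b))) ⟨i, c⟩ = ⟨i, c⟩ := by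
      simp [Perm.sigmaCongrRightHom, Perm.sigmaCongrRight, Pi.mulSingle_eq_of_ne hij]
    rw [h1, Equiv.swap_apply_of_ne_of_ne]
    · intro h; exact hij (congrArg Sigma.fst h)
    · intro h; exact hij (congrArg Sigma.fst h)

/-- A2S-PS1 -/
theorem sign_sigmaCongrRight {J : Type*} [Fintype J] [DecidableEq J] (β : J → Type*)
    [∀ j, Fintype (β j)] [∀ j, DecidableEq (β j)] (σ : ∀ j, Perm (β j)) :
    Perm.sign (Perm.sigmaCongrRightHom β σ) = ∏ j, Perm.sign (σ j) := by
  set g : (∀ j, Perm (β j)) →* ℤˣ := Perm.sign.comp (Perm.sigmaCongrRightHom β) with hg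
  set h : (∀ j, Perm (β j)) →* ℤˣ :=
    ∏ j, (Perm.sign (α := β j)).comp (Pi.evalMonoidHom (fun j => Perm (β j)) j) with hh
  have hgh : g = h := by
    apply MonoidHom.pi_ext
    intro j t
    have hR : h (Pi.mulSingle j t) = Perm.sign t := by
      rw [hh, MonoidHom.finsetProd_apply]
      rw [Finset.prod_eq_single j]
      · simp
      · intro i _ hij
        simp [Pi.mulSingle_eq_of_ne hij]
      · intro hj; exact absurd (Finset.mem_univ j) hj
    have hL : ∀ t : Perm (β j), g (Pi.mulSingle j t) = Perm.sign t := by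
      intro t
      induction t using Equiv.Perm.swap_induction_on with
      | one => simp [hg]
      | swap_mul f a b hab ih =>
        have hmul : (Pi.mulSingle j (Equiv.swap a b * f) : ∀ j, Perm (β j)) =
            Pi.mulSingle j (Equiv.swap a b) * Pi.mulSingle j f := by
          rw [← Pi.mulSingle_mul]
        rw [hmul, map_mul, ih, Perm.sign_mul, Perm.sign_swap hab]
        congr 1
        rw [hg, MonoidHom.comp_apply, h11_sigmaCongrRight_mulSingle_swap, Perm.sign_swap]
        intro hcon
        apply hab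
        have := Sigma.mk.inj_iff.mp hcon
        exact eq_of_heq this.2
    rw [hR, hL]
  have := DFunLike.congr_fun hgh σ
  rw [hg, hh, MonoidHom.finsetProd_apply] at this
  simpa using this

end Cfsg.Agent.Lib.Helper9.A2S
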