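import Mathlib
import Cfsg.Agent.Lib.Helper9.A2S.Defs

set_option autoImplicit false

namespace Cfsg.Agent.Lib.Helper9.A2S

open Equiv

/-- the concrete embedding `(∀ j, T j) →* Perm (Σ j, β j)` -/
def h11_sigmaHom {J : Type*} (β : J → Type*) (T : ∀ j, Subgroup (Perm (β j))) :
    (∀ j, ↥(T j)) →* Perm (Σ j, β j) :=
  (Perm.sigmaCongrRightHom β).comp
    (MonoidHom.pi (fun j => (T j).subtype.comp (Pi.evalMonoidHom (fun j => ↥(T j)) j)))

theorem h11_sigmaHom_apply {J : Type*} (β : J → Type*) (T : ∀ j, Subgroup (Perm (β j)))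
    (f : ∀ j, ↥(T j)) :
    h11_sigmaHom β T f = Perm.sigmaCongrRightHom β (fun j => ((f j : ↥(T j)) : Perm (β j))) := rfl

theorem h11_sigmaHom_injective {J : Type*} (β : J → Type*) (T : ∀ j, Subgroup (Perm (β j))) :
    Function.Injective (h11_sigmaHom β T) := by
  intro f g hfg
  rw [h11_sigmaHom_apply, h11_sigmaHom_apply] at hfg
  have := Perm.sigmaCongrRightHom_injective hfg
  funext j
  exact Subtype.ext (congrFun this j)

theorem h11_sigmaHom_range {J : Type*} (β : J → Type*) (T : ∀ j, Subgroup (Perm (β j))) :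
    (h11_sigmaHom β T).range = sigmaSub β T := by
  ext w
  constructor
  · rintro ⟨f, rfl⟩
    refine ⟨fun j => ((f j : ↥(T j)) : Perm (β j)), ?_, rfl⟩
    intro j _
    exact (f j).2
  · rintro ⟨σ, hσ, rfl⟩
    refine ⟨fun j => ⟨σ j, hσ j (Set.mem_univ j)⟩, rfl⟩

/-- the concrete isomorphism `(∀ j, T j) ≃* sigmaSub β T` -/
noncomputable def h11_sigmaEquiv {J : Type*} (β : J → Type*) (T : ∀ j, Subgroup (Perm (β j))) :
    (∀ j, ↥(T j)) ≃* ↥(sigmaSub β T) :=
  (MonoidHom.ofInjective (h11_sigmaHom_injective β T)).trans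
    (MulEquiv.subgroupCongr (h11_sigmaHom_range β T))

theorem h11_sigmaEquiv_coe {J : Type*} (β : J → Type*) (T : ∀ j, Subgroup (Perm (β j)))
    (f : ∀ j, ↥(T j)) :
    ((h11_sigmaEquiv β T f : ↥(sigmaSub β T)) : Perm (Σ j, β j)) = h11_sigmaHom β T f := rfl

/-- A2S-PS3 -/
theorem sigmaSub_equiv_pi {J : Type*} [Fintype J] [DecidableEq J] (β : J → Type*)
    [∀ j, Fintype (β j)] [∀ j, DecidableEq (β j)] (T : ∀ j, Subgroup (Perm (β j))) :
    Nonempty (↥(sigmaSub β T) ≃* (∀ j, ↥(T j))) :=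
  ⟨(h11_sigmaEquiv β T).symm⟩

/-- A2S-PS2 -/
theorem card_sigmaSub {J : Type*} [Fintype J] [DecidableEq J] (β : J → Type*)
    [∀ j, Fintype (β j)] [∀ j, DecidableEq (β j)] (T : ∀ j, Subgroup (Perm (β j))) :
    Nat.card ↥(sigmaSub β T) = ∏ j, Nat.card ↥(T j) := by
  rw [← Nat.card_congr (h11_sigmaEquiv β T).toEquiv, Nat.card_pi]

end Cfsg.Agent.Lib.Helper9.A2S
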