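import Mathlib
import Cfsg.Agent.Lib.Helper9.A2S.Defs
import Cfsg.Agent.Lib.Helper11.A2SPS1
import Cfsg.Agent.Lib.Helper11.A2SPS23

set_option autoImplicit false

namespace Cfsg.Agent.Lib.Helper9.A2S

open Equiv

theorem h11_sign_sigmaHom {J : Type*} [Fintype J] [DecidableEq J] (β : J → Type*)
    [∀ j, Fintype (β j)] [∀ j, DecidableEq (β j)] (T : ∀ j, Subgroup (Perm (β j)))
    (f : ∀ j, ↥(T j)) :
    Perm.sign (h11_sigmaHom β T f) = signPi (fun j => ↥(T j)) (fun j => sgnOn (T j)) f := by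
  rw [h11_sigmaHom_apply, sign_sigmaCongrRight, signPi, MonoidHom.finsetProd_apply]
  rfl

/-- A2S-PS4 -/
theorem sigmaSub_even_equiv {J : Type*} [Fintype J] [DecidableEq J] (β : J → Type*)
    [∀ j, Fintype (β j)] [∀ j, DecidableEq (β j)] (T : ∀ j, Subgroup (Perm (β j))) :
    Nonempty (↥(sigmaSub β T ⊓ alternatingGroup (Σ j, β j)) ≃*
      ↥(evenKer (fun j => ↥(T j)) (fun j => sgnOn (T j)))) := by
  set E := evenKer (fun j => ↥(T j)) (fun j => sgnOn (T j)) with hE
  -- the restriction of the embedding to the even part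
  let φ : ↥E →* Perm (Σ j, β j) := (h11_sigmaHom β T).comp E.subtype
  have hφinj : Function.Injective φ := by
    intro a b hab
    exact Subtype.ext (h11_sigmaHom_injective β T hab)
  have hφrange : φ.range = sigmaSub β T ⊓ alternatingGroup (Σ j, β j) := by
    ext w
    constructor
    · rintro ⟨f, rfl⟩
      refine ⟨?_, ?_⟩
      · rw [← h11_sigmaHom_range]
        exact ⟨f.1, rfl⟩
      · change φ f ∈ alternatingGroup (Σ j, β j)
        rw [Perm.mem_alternatingGroup]
        change Perm.sign (h11_sigmaHom β T f.1) = 1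
        rw [h11_sign_sigmaHom]
        exact f.2
    · rintro ⟨hw1, hw2⟩
      rw [← h11_sigmaHom_range] at hw1
      obtain ⟨f, rfl⟩ := hw1
      have hf : f ∈ E := by
        rw [hE, evenKer, MonoidHom.mem_ker, ← h11_sign_sigmaHom]
        exact Perm.mem_alternatingGroup.mp hw2
      exact ⟨⟨f, hf⟩, rfl⟩
  exact ⟨((MonoidHom.ofInjective hφinj).trans (MulEquiv.subgroupCongr hφrange)).symm⟩

end Cfsg.Agent.Lib.Helper9.A2S
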