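import Mathlib
import Cfsg.Agent.Lib.helper8.A7R.Defs
import Cfsg.Agent.Lib.helper8.SimpleEmbed

set_option autoImplicit false

/-!
# Project A7R (designer helper8), row G1 (`small_index`), written by helper11.
-/

namespace Cfsg.Agent.Lib.helper8.A7R

universe u

variable {G : Type u} [Group G]

theorem a7rg1_fact (n : ℕ) (h : 2 * 2520 ∣ n.factorial) : 7 ≤ n := by
  by_contra hlt
  push Not at hlt
  have h7 : (7 : ℕ) ∣ n.factorial := dvd_trans (by norm_num) h
  have := (Nat.Prime.dvd_factorial (by norm_num : Nat.Prime 7)).mp h7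
  omega

theorem small_index (hS : Std G) (H : Subgroup G) (hH : H ≠ ⊤) : 8 ≤ H.index := by
  have := hS.finite
  have := hS.simple
  have hnc : ¬ IsMulCommutative G := Cfsg.Agent.Lib.helper8.h8_not_comm_of_card (by rw [hS.card]; norm_num)
  have h1 := Cfsg.Agent.Lib.helper8.h8_simple_two_mul_card_dvd_factorial hnc H hH
  rw [hS.card] at h1
  have h7 := a7rg1_fact _ h1
  have hne := hS.no7 H
  omega

end Cfsg.Agent.Lib.helper8.A7R
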