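import Mathlib
import Cfsg.Agent.Lib.Helper19.AMO.Defs

/-! Project AMO (S2262), pieces M1a, M1b: the number of fixed points of a field automorphism `σ` of a
finite field `F` is a power `q₀` of the characteristic, and `q₀ ^ |σ| = |F|`. -/

set_option autoImplicit false
set_option linter.unusedVariables false
set_option linter.unusedSectionVars false
set_option linter.style.haveILetI false

namespace Cfsg.Agent.Lib.Helper19.AMO

open Matrix Cfsg.Agent.Lib.Helper16.PG Cfsg.Agent.Lib.Helper16.AP Cfsg.Agent.Lib.Helper16.PU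

universe u

section
variable {F : Type u} [Field F] [Fintype F]

/-- an element fixed by `σ` is fixed by every power of `σ` -/
theorem amoM1_fixed_of_mem_zpowers (σ : RingAut F) (x : F) (hx : σ x = x) (g : RingAut F)
    (hg : g ∈ Subgroup.zpowers σ) : g x = x := by
  have h1 : Subgroup.zpowers σ ≤ MulAction.stabilizer (RingAut F) x := by
    rw [Subgroup.zpowers_le]
    exact MulAction.mem_stabilizer_iff.mpr hx
  exact MulAction.mem_stabilizer_iff.mp (h1 hg)

/-- AMO-M1a -/
theorem qf_pow_orderOf (σ : RingAut F) : qf σ ^ orderOf σ = Fintype.card F := by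
  classical
  haveI := finite_ringAut F
  haveI : Fintype ↥(Subgroup.zpowers σ) := Fintype.ofFinite _
  have h1 : Module.finrank (FixedPoints.subfield ↥(Subgroup.zpowers σ) F) F =
      Fintype.card ↥(Subgroup.zpowers σ) :=
    FixedPoints.finrank_eq_card ↥(Subgroup.zpowers σ) F
  have h2 : Fintype.card ↥(Subgroup.zpowers σ) = orderOf σ := by
    rw [← Nat.card_eq_fintype_card, Nat.card_zpowers]
  haveI : Fintype (FixedPoints.subfield ↥(Subgroup.zpowers σ) F) := Fintype.ofFinite _
  have h3 : Fintype.card F = Fintype.card (FixedPoints.subfield ↥(Subgroup.zpowers σ) F) ^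
      Module.finrank (FixedPoints.subfield ↥(Subgroup.zpowers σ) F) F :=
    Module.card_eq_pow_finrank (K := FixedPoints.subfield ↥(Subgroup.zpowers σ) F) (V := F)
  have h4 : Fintype.card (FixedPoints.subfield ↥(Subgroup.zpowers σ) F) = qf σ := by
    unfold qf
    rw [← Nat.card_eq_fintype_card]
    apply Nat.card_congr
    refine Equiv.subtypeEquivRight (fun x => ?_)
    constructor
    · intro hx
      exact hx ⟨σ, Subgroup.mem_zpowers σ⟩
    · intro hx g
      exact amoM1_fixed_of_mem_zpowers σ x hx (g : RingAut F) g.2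
  rw [h3, h1, h2, h4]

/-- AMO-M1b -/
theorem qf_eq_prime_pow (p : ℕ) [Fact p.Prime] [CharP F p] (σ : F ≃+* F) :
    ∃ f0 : ℕ, 1 ≤ f0 ∧ qf σ = p ^ f0 := by
  classical
  haveI : Fintype (RingHom.eqLocusField (σ : F →+* F) (RingHom.id F)) := Fintype.ofFinite _
  haveI : CharP (RingHom.eqLocusField (σ : F →+* F) (RingHom.id F)) p := Subfield.charP _ p
  obtain ⟨n, _, hn⟩ := FiniteField.card (RingHom.eqLocusField (σ : F →+* F) (RingHom.id F)) p
  refine ⟨n, n.pos, ?_⟩
  rw [← hn, ← Nat.card_eq_fintype_card]
  rfl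

end

end Cfsg.Agent.Lib.Helper19.AMO
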