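import Mathlib
import Cfsg.Agent.Lib.Helper19.AMO.Defs

/-! Project AMO (S2262), piece TF: an involutory automorphism `τ` of a finite field with `q₀` fixed
points is `x ↦ x ^ q₀`. -/

set_option autoImplicit false
set_option linter.unusedVariables false
set_option linter.unusedSectionVars false
set_option linter.style.haveILetI false

namespace Cfsg.Agent.Lib.Helper19.AMO

open Matrix Cfsg.Agent.Lib.Helper16.PG Cfsg.Agent.Lib.Helper16.AP Cfsg.Agent.Lib.Helper16.PU

universe u

section
variable {F : Type u} [Field F] [Fintype F]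

/-- fixed elements satisfy `c ^ qf τ = c` -/
theorem amoTF_pow_of_fixed (τ : F ≃+* F) (c : F) (hc : τ c = c) : c ^ qf τ = c := by
  classical
  haveI : Fintype (RingHom.eqLocusField (τ : F →+* F) (RingHom.id F)) := Fintype.ofFinite _
  have hcard : Fintype.card (RingHom.eqLocusField (τ : F →+* F) (RingHom.id F)) = qf τ := by
    rw [← Nat.card_eq_fintype_card]
    rfl
  have hmem : c ∈ RingHom.eqLocusField (τ : F →+* F) (RingHom.id F) := hc
  have h := FiniteField.pow_card (⟨c, hmem⟩ : RingHom.eqLocusField (τ : F →+* F) (RingHom.id F))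
  rw [hcard] at h
  have := congrArg Subtype.val h
  simpa using this

/-- conversely an element with `x ^ qf τ = x` is fixed (root counting) -/
theorem amoTF_fixed_of_pow (τ : F ≃+* F) (x : F) (hx : x ^ qf τ = x) : τ x = x := by
  classical
  have hq : 1 < qf τ := two_le_qf τ
  set P : Polynomial F := Polynomial.X ^ qf τ - Polynomial.X with hP
  have hP0 : P ≠ 0 := FiniteField.X_pow_card_sub_X_ne_zero F hq
  have hdeg : P.natDegree = qf τ := FiniteField.X_pow_card_sub_X_natDegree_eq F hq
  have hroot : ∀ y : F, y ∈ P.roots.toFinset ↔ y ^ qf τ = y := by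
    intro y
    rw [Multiset.mem_toFinset, Polynomial.mem_roots hP0, Polynomial.IsRoot.def, hP]
    simp [sub_eq_zero]
  set S : Finset F := Finset.univ.filter (fun y => τ y = y) with hS
  have hSsub : S ⊆ P.roots.toFinset := by
    intro y hy
    rw [hS, Finset.mem_filter] at hy
    rw [hroot]
    exact amoTF_pow_of_fixed τ y hy.2
  have hScard : S.card = qf τ := by
    unfold qf
    rw [Nat.card_eq_fintype_card, Fintype.card_subtype]
  have hle : P.roots.toFinset.card ≤ S.card := by
    rw [hScard]
    calc P.roots.toFinset.card ≤ Multiset.card P.roots := Multiset.toFinset_card_le _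
      _ ≤ P.natDegree := Polynomial.card_roots' P
      _ = qf τ := hdeg
  have heq : S = P.roots.toFinset := Finset.eq_of_subset_of_card_le hSsub hle
  have hxS : x ∈ S := by
    rw [heq, hroot]
    exact hx
  rw [hS, Finset.mem_filter] at hxS
  exact hxS.2

/-- AMO-TF -/
theorem tau_eq_frob (p f0 : ℕ) [Fact p.Prime] [CharP F p] (τ : RingAut F) (hqf : qf τ = p ^ f0)
    (h2 : τ * τ = 1) (x : F) : τ x = x ^ qf τ := by
  have hττ : ∀ y : F, τ (τ y) = y := by
    intro y
    have := congrArg (fun e : RingAut F => e y) h2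
    simpa using this
  -- the Frobenius `φ y = y ^ qf τ` is a ring homomorphism
  have hφ : ∀ y : F, iterateFrobenius F p f0 y = y ^ qf τ := by
    intro y
    rw [iterateFrobenius_def, hqf]
  set s : F := x + τ x with hs
  set n : F := x * τ x with hn
  have hsfix : τ s = s := by rw [hs, map_add, hττ, add_comm]
  have hnfix : τ n = n := by rw [hn, map_mul, hττ, mul_comm]
  have hs' : s ^ qf τ = s := amoTF_pow_of_fixed τ s hsfix
  have hn' : n ^ qf τ = n := amoTF_pow_of_fixed τ n hnfix
  have hquad : x ^ 2 - s * x + n = 0 := by rw [hs, hn]; ring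
  have hquad' : (x ^ qf τ) ^ 2 - s * x ^ qf τ + n = 0 := by
    have := congrArg (iterateFrobenius F p f0) hquad
    rw [map_add, map_sub, map_mul, map_pow, map_zero, hφ, hφ, hφ, hs', hn'] at this
    exact this
  have hprod : (x ^ qf τ - x) * (x ^ qf τ - τ x) = 0 := by
    have : (x ^ qf τ - x) * (x ^ qf τ - τ x) = (x ^ qf τ) ^ 2 - s * x ^ qf τ + n := by
      rw [hs, hn]; ring
    rw [this, hquad']
  rcases mul_eq_zero.mp hprod with h | h
  · have hx : x ^ qf τ = x := sub_eq_zero.mp h
    rw [hx]
    exact amoTF_fixed_of_pow τ x hx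
  · exact (sub_eq_zero.mp h).symm

end

end Cfsg.Agent.Lib.Helper19.AMO
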