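import Mathlib

set_option autoImplicit false
set_option linter.style.haveILetI false
open scoped ComplexConjugate

namespace Cfsg.Agent.Lib.Helper11

/-- A large multiplicatively closed subset `U ⊆ F ∖ {0}` of a finite field of odd
characteristic contains a nontrivial three term arithmetic progression `x, z, y`. -/
theorem exists_three_ap {F : Type*} [Field F] [Fintype F] [DecidableEq F] (h2 : (2 : F) ≠ 0)
    (U : Finset F) (h0 : (0 : F) ∉ U) (hmul : ∀ x ∈ U, ∀ y ∈ U, x * y ∈ U)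
    (hn2 : (Fintype.card F : ℝ) ≤ (U.card : ℝ) ^ 2)
    (hbig : ((Fintype.card F : ℝ) - U.card) ^ 3 < ((U.card : ℝ) ^ 2 - Fintype.card F) ^ 2) :
    ∃ x ∈ U, ∃ y ∈ U, ∃ z ∈ U, x + y = 2 * z ∧ x ≠ y := by
  classical
  by_contra hcon
  push Not at hcon
  set ψ : AddChar F ℂ := AddChar.FiniteField.primitiveChar_to_Complex F with hψdef
  have hψ : ψ.IsPrimitive := AddChar.FiniteField.primitiveChar_to_Complex_isPrimitive F
  set Q : ℕ := Fintype.card F with hQ
  set n : ℕ := U.card with hn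
  have orth : ∀ t : F, ∑ c : F, ψ (c * t) = if t = 0 then (Q : ℂ) else 0 := by
    intro t
    rw [AddChar.sum_mulShift t hψ]
    split_ifs <;> simp [hQ]
  set S : F → ℂ := fun c => ∑ x ∈ U, ψ (c * x) with hS
  have hS0 : S 0 = (n : ℂ) := by
    simp [hS, hn]
  -- invariance
  have himg : ∀ w ∈ U, U.image (fun x => w * x) = U := by
    intro w hw
    have hw0 : w ≠ 0 := fun h => h0 (h ▸ hw)
    apply Finset.eq_of_subset_of_card_le
    · intro x hx
      obtain ⟨x', hx', rfl⟩ := Finset.mem_image.mp hx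
      exact hmul w hw x' hx'
    · rw [Finset.card_image_of_injective _ (mul_right_injective₀ hw0)]
  have hinv : ∀ c : F, ∀ w ∈ U, S (c * w) = S c := by
    intro c w hw
    have hw0 : w ≠ 0 := fun h => h0 (h ▸ hw)
    simp only [hS]
    conv_rhs => rw [← himg w hw]
    rw [Finset.sum_image (fun x _ y _ h => mul_right_injective₀ hw0 h)]
    refine Finset.sum_congr rfl fun x _ => ?_
    rw [mul_assoc]
  -- Parseval
  have hconj : ∀ t : F, conj (ψ t) = ψ (-t) := fun t => (AddChar.map_neg_eq_conj ψ t).symm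
  have hpars : ∑ c : F, S c * conj (S c) = (Q : ℂ) * n := by
    have : ∀ c : F, S c * conj (S c) = ∑ x ∈ U, ∑ x' ∈ U, ψ (c * (x - x')) := by
      intro c
      simp only [hS, map_sum, Finset.sum_mul_sum]
      refine Finset.sum_congr rfl fun x _ => Finset.sum_congr rfl fun x' _ => ?_
      rw [hconj, ← AddChar.map_add_eq_mul]
      congr 1; ring
    simp_rw [this]
    rw [Finset.sum_comm]
    have : ∀ x ∈ U, ∑ c : F, ∑ x' ∈ U, ψ (c * (x - x')) = (Q : ℂ) := by
      intro x hx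
      rw [Finset.sum_comm]
      simp_rw [orth, sub_eq_zero]
      rw [Finset.sum_ite_eq U x]
      simp [hx]
    rw [Finset.sum_congr rfl this]
    simp [hn, mul_comm]
  have hparsR : ∑ c : F, ‖S c‖ ^ 2 = (Q : ℝ) * n := by
    have h1 : ∀ c : F, S c * conj (S c) = ((‖S c‖ ^ 2 : ℝ) : ℂ) := by
      intro c
      rw [Complex.mul_conj, Complex.normSq_eq_norm_sq]
    simp_rw [h1] at hpars
    have : ((∑ c : F, ‖S c‖ ^ 2 : ℝ) : ℂ) = (((Q : ℝ) * n : ℝ) : ℂ) := by
      push_cast at hpars ⊢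
      exact hpars
    exact_mod_cast this
  have hnpos : 0 < n := by
    rw [hn, Finset.card_pos]
    by_contra hne
    rw [Finset.not_nonempty_iff_eq_empty] at hne
    have hn0 : n = 0 := by rw [hn, hne]; rfl
    rw [hn0] at hn2
    have hQpos : (0 : ℝ) < Q := by exact_mod_cast Fintype.card_pos
    norm_num at hn2
    exact Fintype.card_ne_zero hn2
  -- the pointwise bound
  have hbound : ∀ c : F, c ≠ 0 → ‖S c‖ ^ 2 ≤ (Q : ℝ) - n := by
    intro c hc
    have h1 : (n : ℝ) * ‖S c‖ ^ 2 = ∑ c' ∈ U.image (fun w => c * w), ‖S c'‖ ^ 2 := by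
      rw [Finset.sum_image (fun x _ y _ h => mul_right_injective₀ hc h)]
      rw [Finset.sum_congr rfl (fun w hw => by rw [hinv c w hw])]
      simp [hn]
    have h2 : ∑ c' ∈ U.image (fun w => c * w), ‖S c'‖ ^ 2 ≤
        ∑ c' ∈ Finset.univ.erase (0 : F), ‖S c'‖ ^ 2 := by
      apply Finset.sum_le_sum_of_subset_of_nonneg
      · intro c' hc'
        obtain ⟨w, hw, rfl⟩ := Finset.mem_image.mp hc'
        have hw0 : w ≠ 0 := fun h => h0 (h ▸ hw)
        exact Finset.mem_erase.mpr ⟨mul_ne_zero hc hw0, Finset.mem_univ _⟩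
      · intro _ _ _; positivity
    have h3 : ∑ c' ∈ Finset.univ.erase (0 : F), ‖S c'‖ ^ 2 = (Q : ℝ) * n - (n : ℝ) ^ 2 := by
      have := Finset.add_sum_erase Finset.univ (fun c' => ‖S c'‖ ^ 2) (Finset.mem_univ (0 : F))
      rw [hparsR, hS0] at this
      simp only [Complex.norm_natCast] at this
      linarith
    have h4 : (n : ℝ) * ‖S c‖ ^ 2 ≤ (n : ℝ) * ((Q : ℝ) - n) := by
      rw [h1]; refine le_trans h2 ?_; rw [h3]; ring_nf; rfl
    have hnR : (0 : ℝ) < n := by exact_mod_cast hnpos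
    exact le_of_mul_le_mul_left h4 hnR
  -- the count
  have hcount : ∑ c : F, S c * S c * conj (S (2 * c)) = (Q : ℂ) * n := by
    have : ∀ c : F, S c * S c * conj (S (2 * c)) =
        ∑ x ∈ U, ∑ y ∈ U, ∑ z ∈ U, ψ (c * (x + y - 2 * z)) := by
      intro c
      show (∑ x ∈ U, ψ (c * x)) * (∑ y ∈ U, ψ (c * y)) * conj (∑ z ∈ U, ψ (2 * c * z)) = _
      rw [map_sum, Finset.sum_mul_sum, Finset.sum_mul]
      refine Finset.sum_congr rfl fun x _ => ?_
      rw [Finset.sum_mul]
      refine Finset.sum_congr rfl fun y _ => ?_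
      rw [Finset.mul_sum]
      refine Finset.sum_congr rfl fun z _ => ?_
      rw [hconj, ← AddChar.map_add_eq_mul, ← AddChar.map_add_eq_mul]
      congr 1; ring
    simp_rw [this]
    have e1 : ∑ c : F, ∑ x ∈ U, ∑ y ∈ U, ∑ z ∈ U, ψ (c * (x + y - 2 * z)) =
        ∑ x ∈ U, ∑ y ∈ U, ∑ z ∈ U, ∑ c : F, ψ (c * (x + y - 2 * z)) := by
      rw [Finset.sum_comm]
      refine Finset.sum_congr rfl fun x _ => ?_
      rw [Finset.sum_comm]
      refine Finset.sum_congr rfl fun y _ => ?_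
      rw [Finset.sum_comm]
    rw [e1]
    simp_rw [orth]
    have e2 : ∀ x ∈ U, ∑ y ∈ U, ∑ z ∈ U, (if x + y - 2 * z = 0 then (Q : ℂ) else 0) = (Q : ℂ) := by
      intro x hx
      have : ∀ y ∈ U, ∑ z ∈ U, (if x + y - 2 * z = 0 then (Q : ℂ) else 0) =
          if x = y then (Q : ℂ) else 0 := by
        intro y hy
        by_cases hxy : x = y
        · subst hxy
          rw [if_pos rfl]
          have : ∀ z ∈ U, (if x + x - 2 * z = 0 then (Q : ℂ) else 0) = if x = z then (Q : ℂ) else 0 := by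
            intro z _
            congr 1
            apply propext
            constructor
            · intro h
              have : 2 * (x - z) = 0 := by linear_combination h
              rcases mul_eq_zero.mp this with h' | h'
              · exact absurd h' h2
              · exact sub_eq_zero.mp h'
            · intro h; rw [h]; ring
          rw [Finset.sum_congr rfl this, Finset.sum_ite_eq U x]
          simp [hx]
        · rw [if_neg hxy]
          apply Finset.sum_eq_zero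
          intro z hz
          rw [if_neg]
          intro h
          exact hxy (hcon x hx y hy z hz (by linear_combination h))
      rw [Finset.sum_congr rfl this, Finset.sum_ite_eq U x]
      simp [hx]
    rw [Finset.sum_congr rfl e2]
    simp [hn, mul_comm]
  -- split off c = 0
  have hsplit := Finset.add_sum_erase Finset.univ (fun c => S c * S c * conj (S (2 * c)))
    (Finset.mem_univ (0 : F))
  simp only [mul_zero, hS0] at hsplit
  rw [hcount] at hsplit
  set R : ℂ := ∑ c ∈ Finset.univ.erase (0 : F), S c * S c * conj (S (2 * c)) with hR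
  have hRval : R = (Q : ℂ) * n - (n : ℂ) ^ 3 := by
    have : conj ((n : ℂ)) = n := Complex.conj_natCast n
    rw [this] at hsplit
    linear_combination hsplit
  have hQn : (0 : ℝ) ≤ (Q : ℝ) - n := by
    have hQn' : n ≤ Q := by
      rw [hn, hQ]; exact Finset.card_le_univ U
    have : (n : ℝ) ≤ Q := by exact_mod_cast hQn'
    linarith
  have hRnorm : ‖R‖ ≤ Real.sqrt ((Q : ℝ) - n) * ((Q : ℝ) * n - (n : ℝ) ^ 2) := by
    have h1 : ‖R‖ ≤ ∑ c ∈ Finset.univ.erase (0 : F), ‖S c‖ ^ 2 * Real.sqrt ((Q : ℝ) - n) := by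
      rw [hR]
      refine le_trans (norm_sum_le _ _) ?_
      apply Finset.sum_le_sum
      intro c hc
      have hc0 : c ≠ 0 := (Finset.mem_erase.mp hc).1
      have h2c : 2 * c ≠ 0 := mul_ne_zero h2 hc0
      rw [norm_mul, norm_mul, RCLike.norm_conj, ← sq]
      apply mul_le_mul_of_nonneg_left _ (by positivity)
      apply Real.le_sqrt_of_sq_le
      exact hbound (2 * c) h2c
    have h3 : ∑ c' ∈ Finset.univ.erase (0 : F), ‖S c'‖ ^ 2 = (Q : ℝ) * n - (n : ℝ) ^ 2 := by
      have := Finset.add_sum_erase Finset.univ (fun c' => ‖S c'‖ ^ 2) (Finset.mem_univ (0 : F))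
      rw [hparsR, hS0] at this
      simp only [Complex.norm_natCast] at this
      linarith
    rw [← Finset.sum_mul, h3] at h1
    linarith
  have hRnorm2 : ‖R‖ = (n : ℝ) * ((n : ℝ) ^ 2 - Q) := by
    rw [hRval]
    have : ((Q : ℂ) * n - (n : ℂ) ^ 3) = (((Q : ℝ) * n - (n : ℝ) ^ 3 : ℝ) : ℂ) := by push_cast; ring
    rw [this, Complex.norm_real, Real.norm_eq_abs]
    have hnR : (0 : ℝ) ≤ n := by positivity
    have : (Q : ℝ) * n - (n : ℝ) ^ 3 = -((n : ℝ) * ((n : ℝ) ^ 2 - Q)) := by ring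
    rw [this, abs_neg, abs_of_nonneg]
    apply mul_nonneg hnR
    linarith
  rw [hRnorm2] at hRnorm
  have hnR : (0 : ℝ) < n := by exact_mod_cast hnpos
  have h5 : (n : ℝ) ^ 2 - Q ≤ Real.sqrt ((Q : ℝ) - n) * ((Q : ℝ) - n) := by
    have : (n : ℝ) * ((n : ℝ) ^ 2 - Q) ≤ (n : ℝ) * (Real.sqrt ((Q : ℝ) - n) * ((Q : ℝ) - n)) := by
      calc (n : ℝ) * ((n : ℝ) ^ 2 - Q) ≤ Real.sqrt ((Q : ℝ) - n) * ((Q : ℝ) * n - (n : ℝ) ^ 2) := hRnorm
        _ = (n : ℝ) * (Real.sqrt ((Q : ℝ) - n) * ((Q : ℝ) - n)) := by ring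
    exact le_of_mul_le_mul_left this hnR
  have h6 : ((n : ℝ) ^ 2 - Q) ^ 2 ≤ ((Q : ℝ) - n) ^ 3 := by
    have hA : (0 : ℝ) ≤ (n : ℝ) ^ 2 - Q := by linarith
    have := pow_le_pow_left₀ hA h5 2
    rw [mul_pow, Real.sq_sqrt hQn] at this
    calc ((n : ℝ) ^ 2 - Q) ^ 2 ≤ ((Q : ℝ) - n) * ((Q : ℝ) - n) ^ 2 := this
      _ = ((Q : ℝ) - n) ^ 3 := by ring
  linarith

end Cfsg.Agent.Lib.Helper11
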