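import Mathlib
import Cfsg.Agent.Lib.Helper24.APF.Defs

set_option autoImplicit false

namespace Cfsg.Agent.Lib.Helper24.APF

open Equiv

/-- disjoint transpositions commute -/
theorem h11_apf_swap_comm {α : Type*} [DecidableEq α] (a b c d : α) (hac : a ≠ c) (had : a ≠ d)
    (hbc : b ≠ c) (hbd : b ≠ d) : swap a b * swap c d = swap c d * swap a b := by
  rw [Equiv.mul_swap_eq_swap_mul, swap_apply_of_ne_of_ne hac.symm hbc.symm,
    swap_apply_of_ne_of_ne had.symm hbd.symm]

/-- rotating the description of a 3-cycle -/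
theorem h11_apf_rot {α : Type*} [DecidableEq α] (a b c : α) (hab : a ≠ b) (hbc : b ≠ c)
    (hac : a ≠ c) : swap a b * swap b c = swap b c * swap c a := by
  ext x
  rw [Perm.mul_apply, Perm.mul_apply]
  by_cases hxa : x = a
  · subst hxa
    rw [swap_apply_of_ne_of_ne hab hac, swap_apply_left, swap_apply_right, swap_apply_right]
  · by_cases hxb : x = b
    · subst hxb
      rw [swap_apply_left, swap_apply_of_ne_of_ne hac.symm hbc.symm,
        swap_apply_of_ne_of_ne hbc hxa, swap_apply_left]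
    · by_cases hxc : x = c
      · subst hxc
        rw [swap_apply_right, swap_apply_right, swap_apply_left,
          swap_apply_of_ne_of_ne hab hac]
      · rw [swap_apply_of_ne_of_ne hxb hxc, swap_apply_of_ne_of_ne hxa hxb,
          swap_apply_of_ne_of_ne hxc hxa, swap_apply_of_ne_of_ne hxb hxc]

/-- rotating twice -/
theorem h11_apf_rot2 {α : Type*} [DecidableEq α] (a b c : α) (hab : a ≠ b) (hbc : b ≠ c)
    (hac : a ≠ c) : swap a b * swap b c = swap c a * swap a b := by
  rw [h11_apf_rot a b c hab hbc hac, h11_apf_rot b c a hbc hac.symm hab.symm]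

/-- an element interchanging two distinct points has no odd power fixing them -/
theorem h11_apf_odd_pow {α : Type*} (g : Perm α) (x y : α) (hxy : g x = y) (hyx : g y = x)
    (hne : x ≠ y) (m : ℕ) (hm : Odd m) : (g ^ m) x ≠ x := by
  obtain ⟨i, rfl⟩ := hm
  have h2 : ∀ i : ℕ, (g ^ (2 * i)) x = x := by
    intro i
    induction i with
    | zero => simp
    | succ i ih =>
      rw [show 2 * (i + 1) = 2 * i + 2 by ring, pow_add, Perm.mul_apply]
      have : (g ^ 2) x = x := by
        rw [pow_two, Perm.mul_apply, hxy, hyx]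
      rw [this, ih]
  rw [pow_succ, Perm.mul_apply, hxy]
  intro h
  have h3 := h2 i
  -- g^(2i) y = x and g^(2i) x = x
  have : (g ^ (2 * i)) y = (g ^ (2 * i)) x := by rw [h, h3]
  exact hne ((g ^ (2 * i)).injective this).symm

/-- distinct small naturals are distinct in `ZMod ℓ` -/
theorem h11_apf_cast_ne (ℓ a b : ℕ) (ha : a < ℓ) (hb : b < ℓ) (hab : a ≠ b) :
    (a : ZMod ℓ) ≠ (b : ZMod ℓ) := by
  intro h
  rw [ZMod.natCast_eq_natCast_iff'] at h
  rw [Nat.mod_eq_of_lt ha, Nat.mod_eq_of_lt hb] at h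
  exact hab h

/-- naturals are distinct in `ZMod ℓ` unless `ℓ` divides the difference -/
theorem h11_apf_cast_ne' (ℓ a b : ℕ) (hab : a ≤ b) (hd : ¬ ℓ ∣ b - a) :
    (a : ZMod ℓ) ≠ (b : ZMod ℓ) := by
  intro h
  rw [ZMod.natCast_eq_natCast_iff, Nat.modEq_iff_dvd' hab] at h
  exact hd h

/-- the translation `x ↦ x + 1` and its powers -/
theorem h11_apf_sigma_pow_apply (ℓ : ℕ) (n : ℕ) (x : ZMod ℓ) :
    ((Equiv.addRight (1 : ZMod ℓ)) ^ n) x = x + (n : ZMod ℓ) := by
  simp

/-- conjugating a transposition by a power of the translation -/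
theorem h11_apf_sigma_conj_swap (ℓ : ℕ) (n : ℕ) (a b : ZMod ℓ) :
    (Equiv.addRight (1 : ZMod ℓ)) ^ n * swap a b =
      swap (a + (n : ZMod ℓ)) (b + (n : ZMod ℓ)) * (Equiv.addRight (1 : ZMod ℓ)) ^ n := by
  rw [Equiv.mul_swap_eq_swap_mul, h11_apf_sigma_pow_apply, h11_apf_sigma_pow_apply]

end Cfsg.Agent.Lib.Helper24.APF
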