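import Mathlib
import Cfsg.Agent.Lib.Helper24.APF.Defs
import Cfsg.Agent.Lib.Helper11.APFAux
import Cfsg.Agent.Lib.Helper13.APFCERT1
import Cfsg.Agent.Lib.Helper25.APFNPP

set_option autoImplicit false

namespace Cfsg.Agent.Lib.Helper24.APF

open Equiv

private theorem h11_c1b_ndvd (ℓ d : ℕ) (hℓ : Odd ℓ) (h5 : 5 ≤ ℓ)
    (hd : d = 1 ∨ d = 2 ∨ d = 3 ∨ d = 4 ∨ d = 6 ∨ d = 8) : ¬ ℓ ∣ d := by
  intro h
  have hd0 : 0 < d := by omega
  have hle := Nat.le_of_dvd hd0 h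
  have hodd : ℓ % 2 = 1 := Nat.odd_iff.mp hℓ
  have h8 : ℓ ≤ 8 := by omega
  interval_cases ℓ <;> rcases hd with rfl | rfl | rfl | rfl | rfl | rfl <;> omega

private theorem h11_c1b_ne (ℓ a b : ℕ) (hℓ : Odd ℓ) (h5 : 5 ≤ ℓ) (hab : a ≤ b)
    (hd : b - a = 1 ∨ b - a = 2 ∨ b - a = 3 ∨ b - a = 4 ∨ b - a = 6 ∨ b - a = 8) :
    (a : ZMod ℓ) ≠ (b : ZMod ℓ) :=
  h11_apf_cast_ne' ℓ a b hab (h11_c1b_ndvd ℓ (b - a) hℓ h5 hd)

theorem good_of_interval (p ℓ : ℕ) [NeZero ℓ] (hp : Odd p) (hℓ : Odd ℓ) (h5 : 5 ≤ ℓ)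
    (V : Perm (ZMod ℓ)) (j : ℕ) (hj : Odd j)
    (hc : (Equiv.addRight (1 : ZMod ℓ) * V) ^ j = 1)
    (hfix : ∀ i : ZMod ℓ, i ∈ ({1, 2, 3, 4} : Finset (ZMod ℓ)) →
      (Equiv.addRight (1 : ZMod ℓ) * V) i = i) :
    Good p (Equiv.addRight (1 : ZMod ℓ)) (swap 1 3 * V * (swap (1 : ZMod ℓ) 3)⁻¹) := by
  -- distinctness
  have n12 : (1 : ZMod ℓ) ≠ 2 := by
    exact_mod_cast h11_c1b_ne ℓ 1 2 hℓ h5 (by norm_num) (by norm_num)
  have n13 : (1 : ZMod ℓ) ≠ 3 := by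
    exact_mod_cast h11_c1b_ne ℓ 1 3 hℓ h5 (by norm_num) (by norm_num)
  have n14 : (1 : ZMod ℓ) ≠ 4 := by
    exact_mod_cast h11_c1b_ne ℓ 1 4 hℓ h5 (by norm_num) (by norm_num)
  have n15 : (1 : ZMod ℓ) ≠ 5 := by
    exact_mod_cast h11_c1b_ne ℓ 1 5 hℓ h5 (by norm_num) (by norm_num)
  have n17 : (1 : ZMod ℓ) ≠ 7 := by
    exact_mod_cast h11_c1b_ne ℓ 1 7 hℓ h5 (by norm_num) (by norm_num)
  have n19 : (1 : ZMod ℓ) ≠ 9 := by
    exact_mod_cast h11_c1b_ne ℓ 1 9 hℓ h5 (by norm_num) (by norm_num)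
  have n23 : (2 : ZMod ℓ) ≠ 3 := by
    exact_mod_cast h11_c1b_ne ℓ 2 3 hℓ h5 (by norm_num) (by norm_num)
  have n25 : (2 : ZMod ℓ) ≠ 5 := by
    exact_mod_cast h11_c1b_ne ℓ 2 5 hℓ h5 (by norm_num) (by norm_num)
  have n34 : (3 : ZMod ℓ) ≠ 4 := by
    exact_mod_cast h11_c1b_ne ℓ 3 4 hℓ h5 (by norm_num) (by norm_num)
  have n35 : (3 : ZMod ℓ) ≠ 5 := by
    exact_mod_cast h11_c1b_ne ℓ 3 5 hℓ h5 (by norm_num) (by norm_num)
  have n37 : (3 : ZMod ℓ) ≠ 7 := by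
    exact_mod_cast h11_c1b_ne ℓ 3 7 hℓ h5 (by norm_num) (by norm_num)
  have n39 : (3 : ZMod ℓ) ≠ 9 := by
    exact_mod_cast h11_c1b_ne ℓ 3 9 hℓ h5 (by norm_num) (by norm_num)
  have n45 : (4 : ZMod ℓ) ≠ 5 := by
    exact_mod_cast h11_c1b_ne ℓ 4 5 hℓ h5 (by norm_num) (by norm_num)
  have n57 : (5 : ZMod ℓ) ≠ 7 := by
    exact_mod_cast h11_c1b_ne ℓ 5 7 hℓ h5 (by norm_num) (by norm_num)
  have n59 : (5 : ZMod ℓ) ≠ 9 := by
    exact_mod_cast h11_c1b_ne ℓ 5 9 hℓ h5 (by norm_num) (by norm_num)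
  have n79 : (7 : ZMod ℓ) ≠ 9 := by
    exact_mod_cast h11_c1b_ne ℓ 7 9 hℓ h5 (by norm_num) (by norm_num)
  -- fixed points of c
  have f1 : (Equiv.addRight (1 : ZMod ℓ) * V) 1 = 1 := hfix 1 (by simp)
  have f2 : (Equiv.addRight (1 : ZMod ℓ) * V) 2 = 2 := hfix 2 (by simp)
  have f3 : (Equiv.addRight (1 : ZMod ℓ) * V) 3 = 3 := hfix 3 (by simp)
  have f4 : (Equiv.addRight (1 : ZMod ℓ) * V) 4 = 4 := hfix 4 (by simp)
  -- c commutes with the two transpositions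
  have c13 : (Equiv.addRight (1 : ZMod ℓ) * V) * swap 1 3 =
      swap 1 3 * (Equiv.addRight (1 : ZMod ℓ) * V) := by
    rw [Equiv.mul_swap_eq_swap_mul, f1, f3]
  have c24 : (Equiv.addRight (1 : ZMod ℓ) * V) * swap 2 4 =
      swap 2 4 * (Equiv.addRight (1 : ZMod ℓ) * V) := by
    rw [Equiv.mul_swap_eq_swap_mul, f2, f4]
  -- σ * swap = swap * σ
  have s13 : Equiv.addRight (1 : ZMod ℓ) * swap 1 3 = swap 2 4 * Equiv.addRight (1 : ZMod ℓ) := by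
    have := h11_apf_sigma_conj_swap ℓ 1 (1 : ZMod ℓ) 3
    rw [pow_one] at this
    rw [this]
    congr 2 <;> push_cast <;> norm_num
  have s24 : Equiv.addRight (1 : ZMod ℓ) * swap 2 4 = swap 3 5 * Equiv.addRight (1 : ZMod ℓ) := by
    have := h11_apf_sigma_conj_swap ℓ 1 (2 : ZMod ℓ) 4
    rw [pow_one] at this
    rw [this]
    congr 2 <;> push_cast <;> norm_num
  -- the product σ * W
  have hA : Equiv.addRight (1 : ZMod ℓ) * (swap 1 3 * V * (swap (1 : ZMod ℓ) 3)⁻¹) =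
      swap 2 4 * (Equiv.addRight (1 : ZMod ℓ) * V) * swap 1 3 := by
    rw [swap_inv]
    calc Equiv.addRight (1 : ZMod ℓ) * (swap 1 3 * V * swap (1 : ZMod ℓ) 3)
        = (Equiv.addRight (1 : ZMod ℓ) * swap 1 3) * V * swap (1 : ZMod ℓ) 3 := by
          simp only [mul_assoc]
      _ = swap 2 4 * Equiv.addRight (1 : ZMod ℓ) * V * swap (1 : ZMod ℓ) 3 := by rw [s13]
      _ = swap 2 4 * (Equiv.addRight (1 : ZMod ℓ) * V) * swap 1 3 := by simp only [mul_assoc]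
  have hB : Equiv.addRight (1 : ZMod ℓ) * (swap 1 3 * V * (swap (1 : ZMod ℓ) 3)⁻¹) =
      (Equiv.addRight (1 : ZMod ℓ) * V) * (swap 2 4 * swap 1 3) := by
    rw [hA, ← c24, mul_assoc]
  have t13_24 : swap (1 : ZMod ℓ) 3 * swap 2 4 = swap 2 4 * swap 1 3 :=
    h11_apf_swap_comm 1 3 2 4 n12 n14 n23.symm n34
  have t35_24 : swap (3 : ZMod ℓ) 5 * swap 2 4 = swap 2 4 * swap 3 5 :=
    h11_apf_swap_comm 3 5 2 4 n23.symm n34 n25.symm n45.symm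
  have tt : (swap (2 : ZMod ℓ) 4 * swap 1 3) * (swap 2 4 * swap 1 3) = 1 := by
    calc (swap (2 : ZMod ℓ) 4 * swap 1 3) * (swap 2 4 * swap 1 3)
        = swap 2 4 * (swap 1 3 * swap 2 4) * swap 1 3 := by simp only [mul_assoc]
      _ = swap 2 4 * (swap 2 4 * swap 1 3) * swap 1 3 := by rw [t13_24]
      _ = (swap 2 4 * swap 2 4) * (swap 1 3 * swap 1 3) := by simp only [mul_assoc]
      _ = 1 := by rw [swap_mul_self, swap_mul_self, one_mul]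
  constructor
  · -- the product interchanges 1 and 3
    apply not_ppow_of_odd_pow p hp _ (1 : ZMod ℓ)
    apply h11_apf_odd_pow _ (1 : ZMod ℓ) 3 _ _ n13
    · rw [hA, Perm.mul_apply, Perm.mul_apply, swap_apply_left, f3,
        swap_apply_of_ne_of_ne n23.symm n34]
    · rw [hA, Perm.mul_apply, Perm.mul_apply, swap_apply_right, f1,
        swap_apply_of_ne_of_ne n12 n14]
  · have hσ : Equiv.addRight (1 : ZMod ℓ) ∈
        Subgroup.closure ({Equiv.addRight (1 : ZMod ℓ),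
          swap 1 3 * V * (swap (1 : ZMod ℓ) 3)⁻¹} : Set (Perm (ZMod ℓ))) :=
      Subgroup.subset_closure (by simp)
    have hWm : swap 1 3 * V * (swap (1 : ZMod ℓ) 3)⁻¹ ∈
        Subgroup.closure ({Equiv.addRight (1 : ZMod ℓ),
          swap 1 3 * V * (swap (1 : ZMod ℓ) 3)⁻¹} : Set (Perm (ZMod ℓ))) :=
      Subgroup.subset_closure (by simp)
    -- t ∈ K
    have ht : swap (2 : ZMod ℓ) 4 * swap 1 3 ∈
        Subgroup.closure ({Equiv.addRight (1 : ZMod ℓ),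
          swap 1 3 * V * (swap (1 : ZMod ℓ) 3)⁻¹} : Set (Perm (ZMod ℓ))) := by
      have hg := Subgroup.pow_mem _ (Subgroup.mul_mem _ hσ hWm) j
      rw [hB] at hg
      have hcomm : Commute (Equiv.addRight (1 : ZMod ℓ) * V) (swap 2 4 * swap 1 3) := by
        unfold Commute SemiconjBy
        rw [← mul_assoc, c24, mul_assoc, c13, mul_assoc]
      rw [hcomm.mul_pow, hc, one_mul] at hg
      obtain ⟨i, rfl⟩ := hj
      rw [pow_succ, pow_mul, pow_two, tt, one_pow, one_mul] at hg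
      exact hg
    -- ρ = t * σ t σ⁻¹
    have hρ : (swap (2 : ZMod ℓ) 4 * swap 1 3) * (Equiv.addRight (1 : ZMod ℓ) *
        (swap (2 : ZMod ℓ) 4 * swap 1 3) * (Equiv.addRight (1 : ZMod ℓ))⁻¹) =
        swap 1 3 * swap 3 5 := by
      have h1 : Equiv.addRight (1 : ZMod ℓ) * (swap (2 : ZMod ℓ) 4 * swap 1 3) *
          (Equiv.addRight (1 : ZMod ℓ))⁻¹ = swap 3 5 * swap 2 4 := by
        rw [← mul_assoc, s24, mul_assoc (swap _ _), s13, ← mul_assoc, mul_inv_cancel_right]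
      rw [h1, t35_24]
      calc swap (2 : ZMod ℓ) 4 * swap 1 3 * (swap 2 4 * swap 3 5)
          = swap 2 4 * (swap 1 3 * swap 2 4) * swap 3 5 := by simp only [mul_assoc]
        _ = swap 2 4 * (swap 2 4 * swap 1 3) * swap 3 5 := by rw [t13_24]
        _ = (swap 2 4 * swap 2 4) * swap 1 3 * swap 3 5 := by simp only [mul_assoc]
        _ = swap 1 3 * swap 3 5 := by rw [swap_mul_self, one_mul]
    have hρm : swap (1 : ZMod ℓ) 3 * swap 3 5 ∈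
        Subgroup.closure ({Equiv.addRight (1 : ZMod ℓ),
          swap 1 3 * V * (swap (1 : ZMod ℓ) 3)⁻¹} : Set (Perm (ZMod ℓ))) := by
      rw [← hρ]
      exact Subgroup.mul_mem _ ht
        (Subgroup.mul_mem _ (Subgroup.mul_mem _ hσ ht) (Subgroup.inv_mem _ hσ))
    have hρ' : swap (1 : ZMod ℓ) 3 * swap 3 5 = swap 5 1 * swap 1 3 :=
      h11_apf_rot2 1 3 5 n13 n35 n15
    have hconj : Equiv.addRight (1 : ZMod ℓ) ^ 4 * (swap (1 : ZMod ℓ) 3 * swap 3 5) *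
        (Equiv.addRight (1 : ZMod ℓ) ^ 4)⁻¹ = swap (5 : ZMod ℓ) 7 * swap 7 9 := by
      rw [← mul_assoc, h11_apf_sigma_conj_swap, mul_assoc (swap _ _),
        h11_apf_sigma_conj_swap, ← mul_assoc, mul_inv_cancel_right]
      have e1 : (1 : ZMod ℓ) + ((4 : ℕ) : ZMod ℓ) = 5 := by push_cast; norm_num
      have e2 : (3 : ZMod ℓ) + ((4 : ℕ) : ZMod ℓ) = 7 := by push_cast; norm_num
      have e3 : (5 : ZMod ℓ) + ((4 : ℕ) : ZMod ℓ) = 9 := by push_cast; norm_num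
      rw [e1, e2, e3]
    apply not_solvable_of_threeCycles _ (5 : ZMod ℓ) 1 3 7 9
    · simp only [List.nodup_cons, List.mem_cons, List.not_mem_nil, or_false, not_or,
        List.nodup_nil, and_true, not_false_eq_true]
      exact ⟨⟨n15.symm, n35.symm, n57, n59⟩, ⟨n13, n17, n19⟩, ⟨n37, n39⟩, n79⟩
    · rw [← hρ']; exact hρm
    · rw [← hconj]
      exact Subgroup.mul_mem _ (Subgroup.mul_mem _ (Subgroup.pow_mem _ hσ 4) hρm)
        (Subgroup.inv_mem _ (Subgroup.pow_mem _ hσ 4))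

end Cfsg.Agent.Lib.Helper24.APF
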