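import Mathlib
import Cfsg.Agent.Lib.Helper24.APF.Defs
import Cfsg.Agent.Lib.Helper11.APFAux
import Cfsg.Agent.Lib.Helper13.APFCERT1
import Cfsg.Agent.Lib.Helper25.APFCYC
import Cfsg.Agent.Lib.Helper25.APFNPP
import Cfsg.Agent.Lib.Helper29.APFLOC0

set_option autoImplicit false

namespace Cfsg.Agent.Lib.Helper24.APF

open Equiv

theorem cfg_cycle_three (ℓ : ℕ) (h : 7 ≤ ℓ) (hℓ : Odd ℓ) : Cfg 3 {ℓ} {3} ℓ := by
  have : NeZero ℓ := ⟨by omega⟩
  -- distinctness of the small points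
  have n01 : (0 : ZMod ℓ) ≠ 1 := by
    exact_mod_cast h11_apf_cast_ne ℓ 0 1 (by omega) (by omega) (by norm_num)
  have n02 : (0 : ZMod ℓ) ≠ 2 := by
    exact_mod_cast h11_apf_cast_ne ℓ 0 2 (by omega) (by omega) (by norm_num)
  have n03 : (0 : ZMod ℓ) ≠ 3 := by
    exact_mod_cast h11_apf_cast_ne ℓ 0 3 (by omega) (by omega) (by norm_num)
  have n05 : (0 : ZMod ℓ) ≠ 5 := by
    exact_mod_cast h11_apf_cast_ne ℓ 0 5 (by omega) (by omega) (by norm_num)
  have n12 : (1 : ZMod ℓ) ≠ 2 := by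
    exact_mod_cast h11_apf_cast_ne ℓ 1 2 (by omega) (by omega) (by norm_num)
  have n13 : (1 : ZMod ℓ) ≠ 3 := by
    exact_mod_cast h11_apf_cast_ne ℓ 1 3 (by omega) (by omega) (by norm_num)
  have n15 : (1 : ZMod ℓ) ≠ 5 := by
    exact_mod_cast h11_apf_cast_ne ℓ 1 5 (by omega) (by omega) (by norm_num)
  have n23 : (2 : ZMod ℓ) ≠ 3 := by
    exact_mod_cast h11_apf_cast_ne ℓ 2 3 (by omega) (by omega) (by norm_num)
  have n25 : (2 : ZMod ℓ) ≠ 5 := by
    exact_mod_cast h11_apf_cast_ne ℓ 2 5 (by omega) (by omega) (by norm_num)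
  have n35 : (3 : ZMod ℓ) ≠ 5 := by
    exact_mod_cast h11_apf_cast_ne ℓ 3 5 (by omega) (by omega) (by norm_num)
  have hW : (swap (3 : ZMod ℓ) 1 * swap 1 0).cycleType = {3} := by
    have h3 : Perm.IsThreeCycle (swap (1 : ZMod ℓ) 3 * swap 1 0) :=
      Perm.isThreeCycle_swap_mul_swap_same n13 n01.symm n03.symm
    rw [swap_comm] 
    exact h3
  have hgood : Good 3 (Equiv.addRight (1 : ZMod ℓ)) (swap (3 : ZMod ℓ) 1 * swap 1 0) := by
    constructor
    · apply not_ppow_of_odd_pow 3 (by decide) _ (2 : ZMod ℓ)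
      apply h11_apf_odd_pow _ (2 : ZMod ℓ) 3 _ _ n23
      · rw [Perm.mul_apply, Perm.mul_apply, swap_apply_of_ne_of_ne n12.symm n02.symm,
          swap_apply_of_ne_of_ne n23 n12.symm, Equiv.coe_addRight]
        norm_num
      · rw [Perm.mul_apply, Perm.mul_apply, swap_apply_of_ne_of_ne n13.symm n03.symm,
          swap_apply_left, Equiv.coe_addRight]
        norm_num
    · have hσ : Equiv.addRight (1 : ZMod ℓ) ∈
          Subgroup.closure ({Equiv.addRight (1 : ZMod ℓ), swap (3 : ZMod ℓ) 1 * swap 1 0} :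
            Set (Perm (ZMod ℓ))) := Subgroup.subset_closure (by simp)
      have hWm : swap (3 : ZMod ℓ) 1 * swap 1 0 ∈
          Subgroup.closure ({Equiv.addRight (1 : ZMod ℓ), swap (3 : ZMod ℓ) 1 * swap 1 0} :
            Set (Perm (ZMod ℓ))) := Subgroup.subset_closure (by simp)
      apply not_solvable_of_threeCycles _ (3 : ZMod ℓ) 1 0 2 5 _ hWm
      · -- the conjugate by σ²
        have hconj : Equiv.addRight (1 : ZMod ℓ) ^ 2 * (swap (3 : ZMod ℓ) 1 * swap 1 0) *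
            (Equiv.addRight (1 : ZMod ℓ) ^ 2)⁻¹ = swap (3 : ZMod ℓ) 2 * swap 2 5 := by
          rw [← mul_assoc, h11_apf_sigma_conj_swap, mul_assoc (swap _ _),
            h11_apf_sigma_conj_swap, ← mul_assoc, mul_inv_cancel_right]
          have e1 : (3 : ZMod ℓ) + ((2 : ℕ) : ZMod ℓ) = 5 := by push_cast; norm_num
          have e2 : (1 : ZMod ℓ) + ((2 : ℕ) : ZMod ℓ) = 3 := by push_cast; norm_num
          have e3 : (0 : ZMod ℓ) + ((2 : ℕ) : ZMod ℓ) = 2 := by push_cast; norm_num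
          rw [e1, e2, e3]
          exact h11_apf_rot (5 : ZMod ℓ) 3 2 n35.symm n23.symm n25.symm
        rw [← hconj]
        exact Subgroup.mul_mem _ (Subgroup.mul_mem _ (Subgroup.pow_mem _ hσ 2) hWm)
          (Subgroup.inv_mem _ (Subgroup.pow_mem _ hσ 2))
      · simp only [List.nodup_cons, List.mem_cons, List.not_mem_nil, or_false, not_or,
          List.nodup_nil, and_true, not_false_eq_true]
        exact ⟨⟨n13.symm, n03.symm, n23.symm, n35⟩, ⟨n01.symm, n12, n15⟩, ⟨n02, n05⟩, n25⟩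
  have hcfg := cfg_of_fintype 3 _ _ hgood
  rw [cycleType_addRight_one ℓ (by omega), hW, ZMod.card] at hcfg
  exact hcfg

end Cfsg.Agent.Lib.Helper24.APF
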