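import Mathlib
import Cfsg.Agent.Lib.Helper24.APF.Defs

set_option autoImplicit false

namespace Cfsg.Agent.Lib.Helper24.APF

open Equiv

private theorem h11_c6a_epos (ℓ e : ℕ) [NeZero ℓ] (hℓ : ℓ = 3 * e) : 0 < e := by
  rcases Nat.eq_zero_or_pos e with h | h
  · exfalso
    apply NeZero.ne ℓ
    omega
  · exact h

private theorem h11_c6a_val_add (ℓ e : ℕ) [NeZero ℓ] (hℓ : ℓ = 3 * e) (x : ZMod ℓ) :
    (x + (e : ZMod ℓ)).val % e = x.val % e := by
  have he : 0 < e := h11_c6a_epos ℓ e hℓ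
  rw [ZMod.val_add, ZMod.val_natCast]
  have h1 : e % ℓ = e := Nat.mod_eq_of_lt (by omega)
  have h2 : e ∣ ℓ := ⟨3, by omega⟩
  rw [h1, Nat.mod_mod_of_dvd _ h2, Nat.add_mod_right]

private theorem h11_c6a_val_k (ℓ e k : ℕ) [NeZero ℓ] (hℓ : ℓ = 3 * e) (hk : k < e) :
    ((k : ℕ) : ZMod ℓ).val % e = k := by
  rw [ZMod.val_natCast, Nat.mod_eq_of_lt (by omega : k < ℓ), Nat.mod_eq_of_lt hk]

private theorem h11_c6a_mem (ℓ e k : ℕ) [NeZero ℓ] (hℓ : ℓ = 3 * e) (x : ZMod ℓ)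
    (hx : x.val % e = k) :
    x = (k : ZMod ℓ) ∨ x = (k : ZMod ℓ) + (e : ZMod ℓ) ∨
      x = (k : ZMod ℓ) + (e : ZMod ℓ) + (e : ZMod ℓ) := by
  have hlt : x.val < ℓ := ZMod.val_lt x
  have hdm : e * (x.val / e) + x.val % e = x.val := Nat.div_add_mod x.val e
  have he : 0 < e := by omega
  have hq : x.val / e < 3 := by
    rw [Nat.div_lt_iff_lt_mul he]
    omega
  have hxc : x = ((x.val : ℕ) : ZMod ℓ) := (ZMod.natCast_zmod_val x).symm
  rw [hx] at hdm
  have h3 : x.val / e = 0 ∨ x.val / e = 1 ∨ x.val / e = 2 := by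
    generalize x.val / e = q at hq
    omega
  rcases h3 with h | h | h
  · left
    rw [h] at hdm
    rw [hxc, ← hdm]
    push_cast
    ring
  · right; left
    rw [h] at hdm
    rw [hxc, ← hdm]
    push_cast
    ring
  · right; right
    rw [h] at hdm
    rw [hxc, ← hdm]
    push_cast
    ring

private theorem h11_c6a_three (ℓ e : ℕ) [NeZero ℓ] (hℓ : ℓ = 3 * e) (x : ZMod ℓ) :
    x + (e : ZMod ℓ) + (e : ZMod ℓ) + (e : ZMod ℓ) = x := by
  have : ((3 * e : ℕ) : ZMod ℓ) = 0 := by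
    rw [← hℓ]; exact ZMod.natCast_self ℓ
  push_cast at this
  linear_combination this

private theorem h11_c6a_ne (ℓ e : ℕ) [NeZero ℓ] (hℓ : ℓ = 3 * e) (x : ZMod ℓ) :
    x + (e : ZMod ℓ) ≠ x ∧ x + (e : ZMod ℓ) + (e : ZMod ℓ) ≠ x := by
  have he : 0 < e := h11_c6a_epos ℓ e hℓ
  have h1 : (e : ZMod ℓ) ≠ 0 := by
    intro h
    rw [ZMod.natCast_eq_zero_iff] at h
    have := Nat.le_of_dvd he h
    omega
  have h2 : ((2 * e : ℕ) : ZMod ℓ) ≠ 0 := by
    intro h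
    rw [ZMod.natCast_eq_zero_iff] at h
    have := Nat.le_of_dvd (by omega) h
    omega
  constructor
  · intro h
    apply h1
    linear_combination h
  · intro h
    apply h2
    push_cast
    linear_combination h

private theorem h11_c6a_tau (ℓ e : ℕ) [NeZero ℓ] (hℓ : ℓ = 3 * e) (a x : ZMod ℓ) :
    (swap a (a + (e : ZMod ℓ)) * swap (a + (e : ZMod ℓ)) (a + 2 * (e : ZMod ℓ))) x =
      if x = a ∨ x = a + (e : ZMod ℓ) ∨ x = a + (e : ZMod ℓ) + (e : ZMod ℓ) then x + (e : ZMod ℓ)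
      else x := by
  have h3 := h11_c6a_three ℓ e hℓ a
  obtain ⟨n1, n2⟩ := h11_c6a_ne ℓ e hℓ a
  obtain ⟨n3, n4⟩ := h11_c6a_ne ℓ e hℓ (a + (e : ZMod ℓ))
  have e2 : a + 2 * (e : ZMod ℓ) = a + (e : ZMod ℓ) + (e : ZMod ℓ) := by ring
  rw [e2, Perm.mul_apply]
  by_cases hx1 : x = a
  · subst hx1
    rw [if_pos (Or.inl rfl), swap_apply_of_ne_of_ne n1.symm n2.symm, swap_apply_left]
  · by_cases hx2 : x = a + (e : ZMod ℓ)
    · subst hx2
      rw [if_pos (Or.inr (Or.inl rfl)), swap_apply_left,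
        swap_apply_of_ne_of_ne n2 n3]
    · by_cases hx3 : x = a + (e : ZMod ℓ) + (e : ZMod ℓ)
      · subst hx3
        rw [if_pos (Or.inr (Or.inr rfl)), swap_apply_right, swap_apply_right, h3]
      · rw [if_neg (by tauto), swap_apply_of_ne_of_ne hx2 hx3, swap_apply_of_ne_of_ne hx1 hx2]

theorem c6V_apply (ℓ e k : ℕ) [NeZero ℓ] (hℓ : ℓ = 3 * e) (hke : k ≤ e) (x : ZMod ℓ) :
    c6V ℓ e k x = if x.val % e < k then x + (e : ZMod ℓ) else x := by
  induction k generalizing x with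
  | zero => simp [c6V]
  | succ k ih =>
    have hk : k < e := hke
    have hstep : c6V ℓ e (k + 1) =
        c6V ℓ e k * (swap (k : ZMod ℓ) ((k : ZMod ℓ) + (e : ZMod ℓ)) *
          swap ((k : ZMod ℓ) + (e : ZMod ℓ)) ((k : ZMod ℓ) + 2 * (e : ZMod ℓ))) := by
      unfold c6V
      rw [List.range_succ, List.map_append, List.prod_append]
      simp
    rw [hstep, Perm.mul_apply, h11_c6a_tau ℓ e hℓ]
    by_cases hx : x.val % e = k
    · have hmem := h11_c6a_mem ℓ e k hℓ x hx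
      rw [if_pos hmem, ih (by omega), h11_c6a_val_add ℓ e hℓ x, hx, if_neg (lt_irrefl k),
        if_pos (Nat.lt_succ_self k)]
    · have hnm : ¬ (x = (k : ZMod ℓ) ∨ x = (k : ZMod ℓ) + (e : ZMod ℓ) ∨
          x = (k : ZMod ℓ) + (e : ZMod ℓ) + (e : ZMod ℓ)) := by
        rintro (h | h | h)
        · apply hx; rw [h]; exact h11_c6a_val_k ℓ e k hℓ hk
        · apply hx; rw [h, h11_c6a_val_add ℓ e hℓ]; exact h11_c6a_val_k ℓ e k hℓ hk
        · apply hx; rw [h, h11_c6a_val_add ℓ e hℓ, h11_c6a_val_add ℓ e hℓ]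
          exact h11_c6a_val_k ℓ e k hℓ hk
      rw [if_neg hnm, ih (by omega)]
      by_cases hlt : x.val % e < k
      · rw [if_pos hlt, if_pos (by omega)]
      · rw [if_neg hlt, if_neg (by omega)]

end Cfsg.Agent.Lib.Helper24.APF
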