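import Mathlib
import Cfsg.Prelude.Def_GeometricClasses
import Cfsg.Agent.Lib.Helper27.ASC.Defs
import Cfsg.Agent.Lib.helper23.ASCO.Defs
import Cfsg.Agent.Lib.Lead.Reindex
import Cfsg.Agent.Lib.Helper19.ASCUUCLIFFS

/-!
# Project ASCO, piece CLIFFD : the characters of `N` on an eigenbasis are pairwise distinct
(from helper19's `ascucliffs_perm`)
-/

set_option autoImplicit false
set_option linter.unusedVariables false
set_option linter.unusedSectionVars false

namespace Cfsg.Agent.Lib.helper23.ASCO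

open Cfsg Cfsg.Geo Cfsg.Agent.Lib.Helper27.ASC
open scoped MatrixGroups Matrix

variable {n : ℕ} {F : Type*} [Field F] [Fintype F]

/-- CLIFFD : the characters of `N` on the lines of an eigenbasis are pairwise distinct. -/
theorem clifford_char_inj {r : ℕ} (hr : r.Prime) {H N : Subgroup (GL (Fin r) F)} (hH : Irr H)
    (hN : NormalIn N H) (h2 : ¬ N ≤ scalars (Fin r) F) (v : Fin r → (Fin r → F))
    (hli : LinearIndependent F v)
    (hv : ∀ i, ∀ x ∈ N, ∃ c : F, (x : Matrix (Fin r) (Fin r) F) *ᵥ v i = c • v i)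
    (i k : Fin r)
    (hik : ∀ x ∈ N, ∀ c : F, (x : Matrix (Fin r) (Fin r) F) *ᵥ v i = c • v i →
      (x : Matrix (Fin r) (Fin r) F) *ᵥ v k = c • v k) : k = i := by
  choose ch hch using fun (i : Fin r) (x : N) => hv i x x.2
  apply (Cfsg.Agent.Lib.Lead.ASCU.ascucliffs_perm hr hH hN h2 v hli ch hch).2 i k
  funext x
  have h1 := hik x x.2 (ch i x) (hch i x)
  have h3 : (ch k x - ch i x) • v k = 0 := by
    rw [sub_smul, ← hch k x, ← h1, sub_self]
  rcases smul_eq_zero.mp h3 with h4 | h4
  · exact sub_eq_zero.mp h4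
  · exact absurd h4 (hli.ne_zero k)

end Cfsg.Agent.Lib.helper23.ASCO
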