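import Mathlib
import Cfsg.Prelude.Def_GeometricClasses
import Cfsg.Agent.Lib.Helper27.ASC.Defs
import Cfsg.Agent.Lib.helper23.ASCO.Defs
import Cfsg.Agent.Lib.Lead.Reindex
import Cfsg.Agent.Lib.Helper28.OGenQ
import Cfsg.Agent.Lib.Helper11.ASCOPRA

/-!
# Project ASCO, piece PRC5 : `Ω` lies in no proper subfield group

Siegel elements `t_c = 1 + c N` (`N² = 0`, `N ≠ 0`) lie in `Ω` for all `c ∈ F`.  If `P⁻¹ t_c P = λ G` with `G` over `F₀`,
then `N' = P⁻¹ N P` has a non-zero off-diagonal entry, and the `(i,j)` entry of `M² = 2 M - 1` (`M = 1 + c N'`) gives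
`λ ∈ F₀`; so `c N'_ij ∈ F₀` for all `c`.
-/

set_option autoImplicit false
set_option linter.unusedVariables false
set_option linter.unusedSectionVars false

namespace Cfsg.Agent.Lib.helper23.ASCO

open Cfsg Cfsg.Geo Cfsg.Agent.Lib.Helper27.ASC
open scoped MatrixGroups Matrix

variable {n : ℕ} {F : Type*} [Field F] [Fintype F]

omit [Fintype F] in
/-- membership in a subfield group, in matrix form -/
theorem ascoprc5_mem (F₀ : Subfield F) (P g : GL (Fin n) F) (hg : g ∈ subfieldSubgroup F₀ P) :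
    ∃ (l : F) (G0 : Matrix (Fin n) (Fin n) F₀), l ≠ 0 ∧
      ((P⁻¹ : GL (Fin n) F) : Matrix (Fin n) (Fin n) F) * (g : Matrix (Fin n) (Fin n) F) *
        (P : Matrix (Fin n) (Fin n) F) = l • G0.map (fun x : F₀ => (x : F)) := by
  unfold subfieldSubgroup at hg
  obtain ⟨m, hm, hmt⟩ := hg
  have hmt' : m = P⁻¹ * g * P := by
    have h1 : P * m * P⁻¹ = g := hmt
    rw [← h1]; group
  have hnorm : (scalars (Fin n) F).Normal := scalars_normal
  rw [SetLike.mem_coe, Subgroup.mem_sup_of_normal_right] at hm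
  obtain ⟨g0, hg0, c, hc, hgc⟩ := hm
  obtain ⟨g00, rfl⟩ := hg0
  obtain ⟨cc, hcc⟩ := (mem_scalars_iff c).mp hc
  refine ⟨(cc : F), (g00 : Matrix (Fin n) (Fin n) F₀), cc.ne_zero, ?_⟩
  have hmat : (m : Matrix (Fin n) (Fin n) F) =
      ((Matrix.GeneralLinearGroup.map (F₀.subtype : F₀ →+* F) g00 : GL (Fin n) F) :
        Matrix (Fin n) (Fin n) F) * (c : Matrix (Fin n) (Fin n) F) := by
    rw [← hgc]; rfl
  rw [hcc, Matrix.mul_smul, Matrix.mul_one] at hmat
  rw [← Units.val_mul, ← Units.val_mul, ← hmt', hmat]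
  rfl

omit [Fintype F] in
/-- a non-zero matrix of square zero has a non-zero off-diagonal entry -/
theorem ascoprc5_offdiag (N : Matrix (Fin n) (Fin n) F) (hN2 : N * N = 0) (hN : N ≠ 0) :
    ∃ i j : Fin n, i ≠ j ∧ N i j ≠ 0 := by
  by_contra hcon
  push Not at hcon
  apply hN
  ext i j
  by_cases hij : i = j
  · subst hij
    have h1 : (N * N) i i = 0 := by rw [hN2]; rfl
    rw [Matrix.mul_apply, Finset.sum_eq_single i] at h1
    · exact mul_self_eq_zero.mp h1
    · intro k _ hk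
      rw [hcon i k (Ne.symm hk), zero_mul]
    · intro h; exact absurd (Finset.mem_univ i) h
  · exact hcon i j hij

omit [Fintype F] in
/-- the scalar of a unipotent element `1 + N`, `N² = 0`, of a subfield group lies in the subfield -/
theorem ascoprc5_lambda (h2 : (2 : F) ≠ 0) (F₀ : Subfield F) (N : Matrix (Fin n) (Fin n) F)
    (hN2 : N * N = 0) (l : F) (G0 : Matrix (Fin n) (Fin n) F₀) (hl : l ≠ 0)
    (hM : 1 + N = l • G0.map (fun x : F₀ => (x : F))) (i j : Fin n) (hij : i ≠ j) (hNij : N i j ≠ 0) :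
    l ∈ F₀ := by
  have hsq : (1 + N) * (1 + N) = 1 + (2 : F) • N := by
    rw [mul_add, add_mul, add_mul, hN2, one_mul, mul_one, Matrix.one_mul, add_zero, two_smul]
    abel
  -- entry `(i, j)` of `M`
  have e1 : N i j = l * ((G0 i j : F₀) : F) := by
    have := congrFun (congrFun hM i) j
    simpa [Matrix.add_apply, Matrix.one_apply_ne hij] using this
  -- entry `(i, j)` of `M * M`
  have hGG : (G0.map (fun x : F₀ => (x : F))) * (G0.map (fun x : F₀ => (x : F))) =
      (G0 * G0).map (fun x : F₀ => (x : F)) := by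
    have := Matrix.map_mul (L := G0) (M := G0) (f := (F₀.subtype : F₀ →+* F))
    exact this.symm
  have e2 : (2 : F) * N i j = l * l * (((G0 * G0) i j : F₀) : F) := by
    have h3 := congrFun (congrFun hsq i) j
    rw [hM, Matrix.smul_mul, Matrix.mul_smul, hGG] at h3
    simp only [Matrix.smul_apply, Matrix.add_apply, Matrix.one_apply_ne hij, zero_add, smul_eq_mul,
      Matrix.map_apply] at h3
    rw [← h3, mul_assoc]
  have hg : ((G0 i j : F₀) : F) ≠ 0 := by
    intro h
    rw [h, mul_zero] at e1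
    exact hNij e1
  rw [e1] at e2
  -- `2 g = l S`
  have e3 : (2 : F) * ((G0 i j : F₀) : F) = l * (((G0 * G0) i j : F₀) : F) := by
    have : l * ((2 : F) * ((G0 i j : F₀) : F)) = l * (l * (((G0 * G0) i j : F₀) : F)) := by
      linear_combination e2
    exact mul_left_cancel₀ hl this
  have hS : (((G0 * G0) i j : F₀) : F) ≠ 0 := by
    intro h
    rw [h, mul_zero] at e3
    exact (mul_ne_zero h2 hg) e3
  have e4 : l = (2 : F) * ((G0 i j : F₀) : F) * (((G0 * G0) i j : F₀) : F)⁻¹ := by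
    rw [e3, mul_assoc, mul_inv_cancel₀ hS, mul_one]
  rw [e4]
  have h2mem : (2 : F) ∈ F₀ := by
    have : (2 : F) = 1 + 1 := by norm_num
    rw [this]
    exact F₀.add_mem F₀.one_mem F₀.one_mem
  exact F₀.mul_mem (F₀.mul_mem h2mem (SetLike.coe_mem _)) (F₀.inv_mem (SetLike.coe_mem _))

open Cfsg.Agent.Lib.Helper28.OQ Cfsg.Agent.Lib.Helper28.OMax Cfsg.Agent.Lib.Helper28.OMax2
  Cfsg.Agent.Lib.Helper28.OIwa2 Cfsg.Agent.Lib.Helper28.OGenQ Cfsg.Agent.Lib.Helper28.OGen
  Cfsg.Agent.S0795 in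
/-- PRC5 : `Ω` lies in no proper subfield group. -/
theorem omega_not_le_subfield (hn : 7 ≤ n) (h2 : (2 : F) ≠ 0) (Q : QuadraticForm F (Fin n → F))
    (hQ : (QuadraticMap.polarBilin Q).Nondegenerate) (F₀ : Subfield F) (h0 : F₀ ≠ ⊤)
    (P : GL (Fin n) F) : ¬ omegaGL (⇑Q) ≤ subfieldSubgroup F₀ P := by
  intro hle
  have hq := qf_of_quad Q hQ
  have vf := vfacts_quad hn Q hQ
  have hG := sgGroupQ_quad hn Q hQ
  have hf := hq.sym
  -- singular `u ≠ 0`, singular `v ⊥ u`, and `s'` with `f s' u = 0`, `f s' v = 1`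
  obtain ⟨u, hu, hu0⟩ := vf.sing
  obtain ⟨u', hu', huu'⟩ := ascopra_exists_nonorth Q hQ vf u hu0
  have hpair : pf Q u u' ≠ 0 := by
    show QuadraticMap.polar (⇑Q) u u' ≠ 0
    rwa [QuadraticMap.polar_comm]
  obtain ⟨v, s', hv, hs', hvu, _, hs'u, _, hs'v⟩ := vf.hyp_perp u u' hu hu' hpair
  have huv : pf Q u v = 0 := by rw [s_symm hf]; exact hvu
  have puv : QuadraticMap.polar (⇑Q) u v = 0 := huv
  have pvu : QuadraticMap.polar (⇑Q) v u = 0 := hvu
  have puu : QuadraticMap.polar (⇑Q) u u = 0 := f_sing hq hu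
  have pvv : QuadraticMap.polar (⇑Q) v v = 0 := f_sing hq hv
  -- the Siegel elements
  choose t ht using fun c : F => hG.ex u v c hu hv huv
  have htΩ : ∀ c, t c ∈ omegaGL (⇑Q) := fun c => hG.sg (t c) u v c hu hv huv (ht c)
  set N : Matrix (Fin n) (Fin n) F := ((t 1 : GL (Fin n) F) : Matrix (Fin n) (Fin n) F) - 1 with hN
  have hNx : ∀ x, N *ᵥ x =
      QuadraticMap.polar (⇑Q) u x • v - QuadraticMap.polar (⇑Q) v x • u := by
    intro x
    rw [hN, Matrix.sub_mulVec, Matrix.one_mulVec, ht 1 x]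
    unfold Tv
    rw [one_smul]
    show x + (QuadraticMap.polar (⇑Q) u x • v - QuadraticMap.polar (⇑Q) v x • u) - x = _
    abel
  have htc : ∀ c, ((t c : GL (Fin n) F) : Matrix (Fin n) (Fin n) F) = 1 + c • N := by
    intro c
    apply Matrix.mulVec_injective
    funext x
    rw [ht c x, Matrix.add_mulVec, Matrix.one_mulVec, Matrix.smul_mulVec, hNx]
    rfl
  have hN2 : N * N = 0 := by
    apply Matrix.mulVec_injective
    funext x
    rw [← Matrix.mulVec_mulVec, hNx x, hNx, Matrix.zero_mulVec]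
    rw [QuadraticMap.polar_sub_right, QuadraticMap.polar_smul_right, QuadraticMap.polar_smul_right,
      QuadraticMap.polar_sub_right, QuadraticMap.polar_smul_right, QuadraticMap.polar_smul_right,
      puv, puu, pvv, pvu]
    simp
  have hN0 : N ≠ 0 := by
    intro h
    have h1 := hNx s'
    rw [h, Matrix.zero_mulVec] at h1
    have e1 : QuadraticMap.polar (⇑Q) u s' = 0 := by
      rw [QuadraticMap.polar_comm]; exact hs'u
    have e2 : QuadraticMap.polar (⇑Q) v s' = 1 := by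
      rw [QuadraticMap.polar_comm]; exact hs'v
    rw [e1, e2, zero_smul, one_smul, zero_sub] at h1
    exact hu0 (neg_eq_zero.mp h1.symm)
  -- conjugate by `P`
  have hPiP : ((P⁻¹ : GL (Fin n) F) : Matrix (Fin n) (Fin n) F) * (P : Matrix (Fin n) (Fin n) F) = 1 := by
    rw [← Units.val_mul, inv_mul_cancel, Units.val_one]
  have hPPi : (P : Matrix (Fin n) (Fin n) F) * ((P⁻¹ : GL (Fin n) F) : Matrix (Fin n) (Fin n) F) = 1 := by
    rw [← Units.val_mul, mul_inv_cancel, Units.val_one]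
  set N' : Matrix (Fin n) (Fin n) F :=
    ((P⁻¹ : GL (Fin n) F) : Matrix (Fin n) (Fin n) F) * N * (P : Matrix (Fin n) (Fin n) F) with hN'
  have hN'2 : N' * N' = 0 := by
    have e : N' * N' = ((P⁻¹ : GL (Fin n) F) : Matrix (Fin n) (Fin n) F) *
        (N * ((P : Matrix (Fin n) (Fin n) F) * ((P⁻¹ : GL (Fin n) F) : Matrix (Fin n) (Fin n) F)) * N) *
        (P : Matrix (Fin n) (Fin n) F) := by
      rw [hN']; simp only [Matrix.mul_assoc]
    rw [e, hPPi, Matrix.mul_one, hN2, Matrix.mul_zero, Matrix.zero_mul]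
  have hN'0 : N' ≠ 0 := by
    intro h
    apply hN0
    have e : N = (P : Matrix (Fin n) (Fin n) F) * N' * ((P⁻¹ : GL (Fin n) F) : Matrix (Fin n) (Fin n) F) := by
      rw [hN']
      have : (P : Matrix (Fin n) (Fin n) F) *
          (((P⁻¹ : GL (Fin n) F) : Matrix (Fin n) (Fin n) F) * N * (P : Matrix (Fin n) (Fin n) F)) *
          ((P⁻¹ : GL (Fin n) F) : Matrix (Fin n) (Fin n) F) =
          ((P : Matrix (Fin n) (Fin n) F) * ((P⁻¹ : GL (Fin n) F) : Matrix (Fin n) (Fin n) F)) * N *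
          ((P : Matrix (Fin n) (Fin n) F) * ((P⁻¹ : GL (Fin n) F) : Matrix (Fin n) (Fin n) F)) := by
        simp only [Matrix.mul_assoc]
      rw [this, hPPi, Matrix.one_mul, Matrix.mul_one]
    rw [e, h, Matrix.mul_zero, Matrix.zero_mul]
  obtain ⟨i, j, hij, hNij⟩ := ascoprc5_offdiag N' hN'2 hN'0
  -- an element outside `F₀`
  obtain ⟨a, ha⟩ : ∃ a : F, a ∉ F₀ := by
    by_contra hcon
    push Not at hcon
    exact h0 (eq_top_iff.mpr fun x _ => hcon x)
  have ha0 : a ≠ 0 := by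
    rintro rfl
    exact ha F₀.zero_mem
  set c : F := a / N' i j with hc
  obtain ⟨l, G0, hl, hM⟩ := ascoprc5_mem F₀ P (t c) (hle (htΩ c))
  have hM' : 1 + c • N' = l • G0.map (fun x : F₀ => (x : F)) := by
    rw [← hM, htc c, Matrix.mul_add, Matrix.add_mul, Matrix.mul_one, hPiP, Matrix.mul_smul,
      Matrix.smul_mul, hN']
  have hcN2 : (c • N') * (c • N') = 0 := by
    rw [Matrix.smul_mul, Matrix.mul_smul, hN'2, smul_zero, smul_zero]
  have hcNij : (c • N') i j = a := by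
    rw [Matrix.smul_apply, smul_eq_mul, hc, div_mul_cancel₀ a hNij]
  have hlmem : l ∈ F₀ :=
    ascoprc5_lambda h2 F₀ (c • N') hcN2 l G0 hl hM' i j hij (by rw [hcNij]; exact ha0)
  apply ha
  have e := congrFun (congrFun hM' i) j
  simp only [Matrix.add_apply, Matrix.one_apply_ne hij, zero_add, Matrix.smul_apply, smul_eq_mul,
    Matrix.map_apply] at e
  have e' : a = l * ((G0 i j : F₀) : F) := by
    rw [← hcNij, Matrix.smul_apply, smul_eq_mul]; exact e
  rw [e']
  exact F₀.mul_mem hlmem (SetLike.coe_mem _)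

end Cfsg.Agent.Lib.helper23.ASCO
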