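import Mathlib
import Cfsg.Prelude.Def_GeometricClasses
import Cfsg.Agent.Lib.Helper27.ASC.Defs

/-! Project ASC, piece PR1: the special linear group stabilises no proper nonzero subspace (one transvection). -/

set_option autoImplicit false
set_option linter.unusedVariables false
set_option linter.unusedSectionVars false
set_option linter.deprecated false

namespace Cfsg.Agent.Lib.Helper27.ASC

open Cfsg Cfsg.Geo
open scoped MatrixGroups Matrix

variable {n : ℕ} {F : Type*} [Field F] [Fintype F]

/-- the transvection `1 + E_ij` as an element of the special linear group -/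
theorem ascpr1_transvection_mem (i j : Fin n) (hij : i ≠ j) :
    ∃ g : GL (Fin n) F, g ∈ specialLinear (Fin n) F ∧
      (g : Matrix (Fin n) (Fin n) F) = Matrix.transvection i j (1 : F) := by
  have hdet : (Matrix.transvection i j (1 : F)).det = 1 := Matrix.det_transvection_of_ne i j hij 1
  refine ⟨Matrix.GeneralLinearGroup.mk'' (Matrix.transvection i j (1 : F)) (by rw [hdet]; exact isUnit_one),
    ?_, rfl⟩
  show Matrix.GeneralLinearGroup.det _ = 1
  apply Units.ext
  rw [Matrix.GeneralLinearGroup.val_det_apply]
  exact hdet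

/-- PR1 -/
theorem pr_subspace (W : Submodule F (Fin n → F)) (h0 : W ≠ ⊥) (h1 : W ≠ ⊤) :
    ¬ specialLinear (Fin n) F ≤ subspaceStabilizer W := by
  intro hle
  -- a basis vector outside `W`
  obtain ⟨i, hi⟩ : ∃ i : Fin n, (Pi.single i (1 : F) : Fin n → F) ∉ W := by
    by_contra hcon
    push Not at hcon
    apply h1
    rw [eq_top_iff]
    intro v _
    have : v = ∑ k : Fin n, v k • (Pi.single k (1 : F) : Fin n → F) := by
      funext l
      rw [Finset.sum_apply]
      simp [Pi.single_apply]
    rw [this]
    exact W.sum_mem fun k _ => W.smul_mem _ (hcon k)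
  obtain ⟨w, hw, hw0⟩ := Submodule.exists_mem_ne_zero_of_ne_bot h0
  by_cases hj : ∃ j : Fin n, j ≠ i ∧ w j ≠ 0
  · obtain ⟨j, hji, hwj⟩ := hj
    obtain ⟨g, hg, hgm⟩ := ascpr1_transvection_mem (F := F) i j (Ne.symm hji)
    have hstab := hle hg
    have hgw : (glToMat (Fin n) F g) *ᵥ w ∈ (W : Set (Fin n → F)) := (hstab w).mp hw
    have hcomp : (glToMat (Fin n) F g) *ᵥ w = w + w j • (Pi.single i (1 : F) : Fin n → F) := by
      show (g : Matrix (Fin n) (Fin n) F) *ᵥ w = _
      rw [hgm, Matrix.transvection, Matrix.add_mulVec, Matrix.one_mulVec, Matrix.single_mulVec]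
      congr 1
      funext l
      by_cases hl : l = i
      · subst hl
        simp
      · simp [hl]
    rw [hcomp] at hgw
    have h3 : w j • (Pi.single i (1 : F) : Fin n → F) ∈ W := by
      have := W.sub_mem hgw hw
      rwa [add_sub_cancel_left] at this
    have h4 : (Pi.single i (1 : F) : Fin n → F) ∈ W := by
      have := W.smul_mem (w j)⁻¹ h3
      rwa [smul_smul, inv_mul_cancel₀ hwj, one_smul] at this
    exact hi h4
  · push Not at hj
    -- `w` is a multiple of the basis vector `e_i`
    have hwi : w = w i • (Pi.single i (1 : F) : Fin n → F) := by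
      funext l
      by_cases hl : l = i
      · subst hl
        simp
      · rw [hj l hl]
        simp [hl]
    have hwi0 : w i ≠ 0 := by
      intro h
      apply hw0
      rw [hwi, h, zero_smul]
    have h4 : (Pi.single i (1 : F) : Fin n → F) ∈ W := by
      have h5 : w i • (Pi.single i (1 : F) : Fin n → F) ∈ W := by
        rw [← hwi]; exact hw
      have := W.smul_mem (w i)⁻¹ h5
      rwa [smul_smul, inv_mul_cancel₀ hwi0, one_smul] at this
    exact hi h4

end Cfsg.Agent.Lib.Helper27.ASC
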