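import Mathlib
import Cfsg.Prelude.Def_GeometricClasses
import Cfsg.Agent.Lib.Helper27.ASC.Defs

/-! Project ASC, piece RED: a subgroup of `GL_n(F)` that is not irreducible stabilises a proper nonzero subspace. -/

set_option autoImplicit false
set_option linter.unusedVariables false
set_option linter.unusedSectionVars false
set_option linter.deprecated false

namespace Cfsg.Agent.Lib.Helper27.ASC

open Cfsg Cfsg.Geo
open scoped MatrixGroups Matrix

variable {n : ℕ} {F : Type*} [Field F] [Fintype F]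

/-- RED -/
theorem red_case (H : Subgroup (GL (Fin n) F)) (h : ¬ Irr H) :
    ∃ W : Submodule F (Fin n → F), W ≠ ⊥ ∧ W ≠ ⊤ ∧ H ≤ subspaceStabilizer W := by
  unfold Irr ActsIrreducibly at h
  push Not at h
  obtain ⟨W, hW, h0, h1⟩ := h
  refine ⟨W, h0, h1, fun g hg => ?_⟩
  have hinv : ∀ g' ∈ H, ∀ v ∈ W, (g' : Matrix (Fin n) (Fin n) F) *ᵥ v ∈ W := by
    intro g' hg' v hv
    have := hW (g' : Matrix (Fin n) (Fin n) F) ⟨g', hg', rfl⟩
    apply this
    refine ⟨v, hv, ?_⟩
    rw [Matrix.toLin'_apply]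
  show ∀ v, v ∈ (W : Set (Fin n → F)) ↔ (glToMat (Fin n) F g) *ᵥ v ∈ (W : Set (Fin n → F))
  intro v
  constructor
  · intro hv
    exact hinv g hg v hv
  · intro hv
    have h2 := hinv g⁻¹ (H.inv_mem hg) _ hv
    have e : ((g⁻¹ : GL (Fin n) F) : Matrix (Fin n) (Fin n) F) *ᵥ ((glToMat (Fin n) F g) *ᵥ v) = v := by
      rw [Matrix.mulVec_mulVec]
      have : ((g⁻¹ : GL (Fin n) F) : Matrix (Fin n) (Fin n) F) * (glToMat (Fin n) F g) = 1 := by
        show ((g⁻¹ : GL (Fin n) F) : Matrix (Fin n) (Fin n) F) * (g : Matrix (Fin n) (Fin n) F) = 1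
        rw [← Units.val_mul, inv_mul_cancel, Units.val_one]
      rw [this, Matrix.one_mulVec]
    rw [e] at h2
    exact h2

end Cfsg.Agent.Lib.Helper27.ASC
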