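import Mathlib
import Cfsg.Prelude.Def_GeometricClasses
import Cfsg.Agent.Lib.Helper27.ASC.Defs
import Cfsg.Agent.Lib.Helper25.ASCCENT
import Cfsg.Agent.Lib.helper23.ASCSCHURA

/-!
# Project ASC, piece SIMPLE (core) : `P / (P ⊓ scalars)` is simple non-abelian

`P` minimal non-scalar `H`-normal, perfect, every `H`-normal subgroup scalar or absolutely irreducible, prime dimension.
The core takes the statement of `clifford_comm` (piece CLIFF) as a hypothesis.
-/

set_option autoImplicit false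
set_option linter.unusedVariables false

namespace Cfsg.Agent.Lib.Helper27.ASC

open Cfsg Cfsg.Geo
open scoped MatrixGroups Matrix commutatorElement

/-! ### pure group theory -/

/-- if the members of a family of subgroups commute pairwise modulo the normal subgroup `S`, so does their join -/
theorem ascsimple_comm_iSup {G : Type*} [Group G] {ι : Sort*} (S : Subgroup G) [S.Normal] (X : ι → Subgroup G)
    (hX : ∀ i j, ⁅X i, X j⁆ ≤ S) : ⁅⨆ i, X i, ⨆ i, X i⁆ ≤ S := by
  rw [Subgroup.commutator_le]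
  have step1 : ∀ i, ∀ a ∈ X i, ∀ g₂ ∈ ⨆ i, X i, ⁅a, g₂⁆ ∈ S := by
    intro i a ha g₂ hg₂
    induction hg₂ using Subgroup.iSup_induction' with
    | hp j b hb => exact hX i j (Subgroup.commutator_mem_commutator ha hb)
    | h1 => simp
    | hmul b c hb hc ihb ihc =>
      have e : ⁅a, b * c⁆ = ⁅a, b⁆ * (b * ⁅a, c⁆ * b⁻¹) := by
        simp only [commutatorElement_def]; group
      rw [e]
      exact S.mul_mem ihb (Subgroup.Normal.conj_mem inferInstance _ ihc b)
  intro g₁ hg₁ g₂ hg₂
  induction hg₁ using Subgroup.iSup_induction' with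
  | hp i a ha => exact step1 i a ha g₂ hg₂
  | h1 => simp
  | hmul b c hb hc ihb ihc =>
    have e : ⁅b * c, g₂⁆ = (b * ⁅c, g₂⁆ * b⁻¹) * ⁅b, g₂⁆ := by
      simp only [commutatorElement_def]; group
    rw [e]
    exact S.mul_mem (Subgroup.Normal.conj_mem inferInstance _ ihc b) ihb

/-- two subgroups normalised by `P` : their commutator lies in their intersection -/
theorem ascsimple_comm_le_inf {G : Type*} [Group G] {A B P : Subgroup G} (hA : NormalIn A P) (hB : NormalIn B P) :
    ⁅A, B⁆ ≤ A ⊓ B := by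
  rw [Subgroup.commutator_le]
  intro a ha b hb
  refine ⟨?_, ?_⟩
  · have h1 : b * a⁻¹ * b⁻¹ ∈ A := hA.2 b (hB.1 hb) a⁻¹ (A.inv_mem ha)
    have e : ⁅a, b⁆ = a * (b * a⁻¹ * b⁻¹) := by simp only [commutatorElement_def]; group
    rw [e]; exact A.mul_mem ha h1
  · have h1 : a * b * a⁻¹ ∈ B := hB.2 a (hA.1 ha) b hb
    have e : ⁅a, b⁆ = (a * b * a⁻¹) * b⁻¹ := by simp only [commutatorElement_def]
    rw [e]; exact B.mul_mem h1 (B.inv_mem hb)

/-- the intersection of two subgroups normalised by `P` is normalised by `P` -/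
theorem ascsimple_inf_normalIn {G : Type*} [Group G] {A B P : Subgroup G} (hA : NormalIn A P) (hB : NormalIn B P) :
    NormalIn (A ⊓ B) P :=
  ⟨inf_le_left.trans hA.1, fun h hh x hx => ⟨hA.2 h hh x hx.1, hB.2 h hh x hx.2⟩⟩

/-- conjugating a `P`-normal subgroup by an element normalising `P` -/
theorem ascsimple_cj_normalIn {G : Type*} [Group G] {M P H : Subgroup G} (hP : NormalIn P H) (hM : NormalIn M P)
    {h : G} (hh : h ∈ H) : NormalIn (M.map (MulAut.conj h).toMonoidHom) P := by
  refine ⟨?_, ?_⟩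
  · rintro _ ⟨m, hm, rfl⟩
    simpa [MulAut.conj_apply] using hP.2 h hh m (hM.1 hm)
  · rintro p hp _ ⟨m, hm, rfl⟩
    have h1 : h⁻¹ * p * h⁻¹⁻¹ ∈ P := hP.2 h⁻¹ (H.inv_mem hh) p hp
    have h2 := hM.2 _ h1 m hm
    refine ⟨_, h2, ?_⟩
    simp only [MulEquiv.coe_toMonoidHom, MulAut.conj_apply]
    group

/-- a quotient is simple when every normal subgroup is inside the kernel or everything -/
theorem ascsimple_quot_simple {Q : Type*} [Group Q] (Z : Subgroup Q) [Z.Normal] (hne : ∃ q : Q, q ∉ Z)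
    (hmin : ∀ K : Subgroup Q, K.Normal → K ≤ Z ∨ K = ⊤) : IsSimpleGroup (Q ⧸ Z) := by
  obtain ⟨q, hq⟩ := hne
  have hnontriv : Nontrivial (Q ⧸ Z) := by
    refine ⟨⟨(QuotientGroup.mk q : Q ⧸ Z), 1, ?_⟩⟩
    intro h
    rw [QuotientGroup.eq_one_iff] at h
    exact hq h
  refine { exists_pair_ne := hnontriv.exists_pair_ne, eq_bot_or_eq_top_of_normal := ?_ }
  intro K hK
  rcases hmin (K.comap (QuotientGroup.mk' Z)) (hK.comap _) with h1 | h1
  · left
    rw [eq_bot_iff]
    intro x hx
    obtain ⟨y, rfl⟩ := QuotientGroup.mk_surjective x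
    rw [Subgroup.mem_bot, QuotientGroup.eq_one_iff]
    exact h1 (Subgroup.mem_comap.mpr hx)
  · right
    rw [eq_top_iff]
    intro x _
    obtain ⟨y, rfl⟩ := QuotientGroup.mk_surjective x
    have hy : y ∈ K.comap (QuotientGroup.mk' Z) := by rw [h1]; exact Subgroup.mem_top y
    exact Subgroup.mem_comap.mp hy

/-- in a commutative quotient all commutators die -/
theorem ascsimple_quot_comm {Q : Type*} [Group Q] (Z : Subgroup Q) [Z.Normal] (h : IsMulCommutative (Q ⧸ Z))
    (a b : Q) : ⁅a, b⁆ ∈ Z := by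
  have h1 : (QuotientGroup.mk' Z) ⁅a, b⁆ = 1 := by
    rw [map_commutatorElement, commutatorElement_eq_one_iff_mul_comm]
    exact h.is_comm.comm _ _
  exact (QuotientGroup.eq_one_iff _).mp h1

/-- a normal subgroup of `↥P`, pushed to the ambient group, is normalised by `P` -/
theorem ascsimple_map_subtype_normalIn {G : Type*} [Group G] (P : Subgroup G) (K : Subgroup P) (hK : K.Normal) :
    NormalIn (K.map P.subtype) P := by
  refine ⟨Subgroup.map_subtype_le _, ?_⟩
  intro p hp y hy
  obtain ⟨x, hx, rfl⟩ := Subgroup.mem_map.mp hy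
  exact Subgroup.mem_map.mpr ⟨⟨p, hp⟩ * x * ⟨p, hp⟩⁻¹, hK.conj_mem _ hx _, by simp⟩


/-! ### in `GL`, modulo the scalars -/

variable {n : ℕ} {F : Type*} [Field F]

/-- a conjugate of `M` is scalar only if `M` is -/
theorem ascsimple_cj_scalar {M : Subgroup (GL (Fin n) F)} {h : GL (Fin n) F}
    (hs : M.map (MulAut.conj h).toMonoidHom ≤ scalars (Fin n) F) : M ≤ scalars (Fin n) F := by
  intro m hm
  have h1 : h * m * h⁻¹ ∈ scalars (Fin n) F := hs ⟨m, hm, by simp [MulAut.conj_apply]⟩
  have h2 := (scalars_normal (ι := Fin n) (F := F)).conj_mem _ h1 h⁻¹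
  have e : h⁻¹ * (h * m * h⁻¹) * h⁻¹⁻¹ = m := by group
  rwa [e] at h2

/-- a conjugate (by an element normalising `P`) of a minimal non-scalar `P`-normal subgroup is one -/
theorem ascsimple_cj_min {M P H : Subgroup (GL (Fin n) F)} (hP : NormalIn P H) (hM : MinNonscalar M P)
    {h : GL (Fin n) F} (hh : h ∈ H) : MinNonscalar (M.map (MulAut.conj h).toMonoidHom) P := by
  refine ⟨ascsimple_cj_normalIn hP hM.1 hh, fun hs => hM.2.1 (ascsimple_cj_scalar hs), fun K hK hKM => ?_⟩
  have hK' : NormalIn (K.map (MulAut.conj h⁻¹).toMonoidHom) P := ascsimple_cj_normalIn hP hK (H.inv_mem hh)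
  have hle : K.map (MulAut.conj h⁻¹).toMonoidHom ≤ M := by
    rintro _ ⟨k, hk, rfl⟩
    obtain ⟨m, hm, rfl⟩ := hKM hk
    have e : (MulAut.conj h⁻¹).toMonoidHom ((MulAut.conj h).toMonoidHom m) = m := by
      simp only [MulEquiv.coe_toMonoidHom, MulAut.conj_apply]; group
    rw [e]; exact hm
  rcases hM.2.2 _ hK' hle with h1 | h1
  · exact Or.inl (ascsimple_cj_scalar h1)
  · right
    rw [← h1]
    ext x
    constructor
    · intro hx
      refine ⟨h⁻¹ * x * h⁻¹⁻¹, ⟨x, hx, by simp⟩, ?_⟩
      simp only [MulEquiv.coe_toMonoidHom, MulAut.conj_apply]; group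
    · rintro ⟨_, ⟨k, hk, rfl⟩, rfl⟩
      have e : (MulAut.conj h).toMonoidHom ((MulAut.conj h⁻¹).toMonoidHom k) = k := by
        simp only [MulEquiv.coe_toMonoidHom, MulAut.conj_apply]; group
      rw [e]; exact hk

/-- two minimal non-scalar `P`-normal subgroups are equal or meet in scalars -/
theorem ascsimple_min_inf {A B P : Subgroup (GL (Fin n) F)} (hA : MinNonscalar A P) (hB : MinNonscalar B P) :
    A = B ∨ A ⊓ B ≤ scalars (Fin n) F := by
  have hI := ascsimple_inf_normalIn hA.1 hB.1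
  rcases hA.2.2 _ hI inf_le_left with h1 | h1
  · exact Or.inr h1
  · rcases hB.2.2 _ hI inf_le_right with h2 | h2
    · exact Or.inr h2
    · exact Or.inl (h1.symm.trans h2)

/-- a minimal non-scalar `P`-normal subgroup is all of `P` -/
theorem ascsimple_no_proper [Fintype F] {r : ℕ} (hr : r.Prime)
    (hcliff : ∀ {H N : Subgroup (GL (Fin r) F)}, Irr H → NormalIn N H → ¬ Irr N →
      ∀ x ∈ N, ∀ y ∈ N, x * y = y * x)
    {H P M : Subgroup (GL (Fin r) F)} (hD : AllNormalAbsIrr H) (hP : MinNonscalar P H) (hperf : ⁅P, P⁆ = P)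
    (hM : MinNonscalar M P) : M = P := by
  by_contra hne
  let X : H → Subgroup (GL (Fin r) F) := fun h => M.map (MulAut.conj (h : GL (Fin r) F)).toMonoidHom
  have hXmin : ∀ h : H, MinNonscalar (X h) P := fun h => ascsimple_cj_min hP.1 hM h.2
  have hX1 : X 1 = M := by
    ext x
    simp [X]
  have hM_le : M ≤ ⨆ h, X h := by
    have := le_iSup X 1
    rwa [hX1] at this
  -- the join of the conjugates is `P`
  have hsup : (⨆ h, X h) = P := by
    have hle : (⨆ h, X h) ≤ P := iSup_le fun h => (hXmin h).1.1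
    have hnorm : NormalIn (⨆ h, X h) H := by
      refine ⟨hle.trans hP.1.1, fun g hg x hx => ?_⟩
      have hmap : (⨆ h, X h).map (MulAut.conj g).toMonoidHom ≤ ⨆ h, X h := by
        rw [Subgroup.map_iSup]
        refine iSup_le fun h => ?_
        refine le_trans ?_ (le_iSup X (⟨g, hg⟩ * h))
        rintro _ ⟨_, ⟨m, hm, rfl⟩, rfl⟩
        refine ⟨m, hm, ?_⟩
        simp only [MulEquiv.coe_toMonoidHom, MulAut.conj_apply, Subgroup.coe_mul]
        group
      have := hmap ⟨x, hx, rfl⟩
      simpa [MulAut.conj_apply] using this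
    rcases hP.2.2 _ hnorm hle with h1 | h1
    · exact absurd (hM_le.trans h1) hM.2.1
    · exact h1
  -- `⁅M, M⁆` is not scalar
  have hMM : ¬ ⁅M, M⁆ ≤ scalars (Fin r) F := by
    intro hc
    have hpair : ∀ i j, ⁅X i, X j⁆ ≤ scalars (Fin r) F := by
      intro i j
      rcases ascsimple_min_inf (hXmin i) (hXmin j) with h1 | h1
      · rw [← h1]
        have e : ⁅X i, X i⁆ = (⁅M, M⁆).map (MulAut.conj (i : GL (Fin r) F)).toMonoidHom :=
          (Subgroup.map_commutator _ _ _).symm
        rw [e]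
        rintro _ ⟨m, hm, rfl⟩
        have := (scalars_normal (ι := Fin r) (F := F)).conj_mem m (hc hm) i
        simpa [MulAut.conj_apply] using this
      · exact (ascsimple_comm_le_inf (hXmin i).1 (hXmin j).1).trans h1
    have h2 := ascsimple_comm_iSup (scalars (Fin r) F) X hpair
    rw [hsup, hperf] at h2
    exact hP.2.1 h2
  have hMperf : ⁅M, M⁆ = M := by
    rcases hM.2.2 _ (commutator_normalIn hM.1) (Subgroup.commutator_le_self M) with h1 | h1
    · exact absurd h1 hMM
    · exact h1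
  -- some conjugate differs from `M`
  obtain ⟨h, hh⟩ : ∃ h : H, X h ≠ M := by
    by_contra hall
    push Not at hall
    apply hne
    rw [← hsup]
    exact le_antisymm hM_le (iSup_le fun h => (hall h).le)
  have hBmin := hXmin h
  have hinf : X h ⊓ M ≤ scalars (Fin r) F := by
    rcases ascsimple_min_inf hBmin hM with h1 | h1
    · exact absurd h1 hh
    · exact h1
  have hBM : ⁅X h, M⁆ ≤ scalars (Fin r) F := (ascsimple_comm_le_inf hBmin.1 hM.1).trans hinf
  -- `X h` centralises `M`
  have hcent : ∀ b ∈ X h, ∀ a ∈ M, a * b = b * a := by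
    intro b hb
    have hcomm : ∀ x ∈ M, b * x * b⁻¹ * x⁻¹ ∈ scalars (Fin r) F := fun x hx => by
      have := hBM (Subgroup.commutator_mem_commutator hb hx)
      rwa [commutatorElement_def] at this
    have hle : ⁅M, M⁆ ≤ Subgroup.centralizer ({b} : Set (GL (Fin r) F)) := by
      rw [Subgroup.commutator_le]
      intro x hx y hy
      rw [Subgroup.mem_centralizer_singleton_iff, commutatorElement_def]
      have hxa := hcomm x hx
      have hyb := hcomm y hy
      have h1 := asccent_conj_comm b x y (b * x * b⁻¹ * x⁻¹) (b * y * b⁻¹ * y⁻¹)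
        (asccent_scalar_central _ hxa) (asccent_scalar_central _ hyb) (by group) (by group)
      calc x * y * x⁻¹ * y⁻¹ * b = (b * (x * y * x⁻¹ * y⁻¹) * b⁻¹) * b := by rw [h1]
        _ = b * (x * y * x⁻¹ * y⁻¹) := by group
    intro a ha
    have ha' : a ∈ ⁅M, M⁆ := by rw [hMperf]; exact ha
    exact Subgroup.mem_centralizer_singleton_iff.mp (hle ha')
  -- `P` is irreducible
  have hPirr : Irr P := by
    rcases hD P hP.1 with h1 | h1
    · exact absurd h1 hP.2.1
    · exact h1.1
  -- `M` is not commutative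
  have hMnc : ¬ ∀ x ∈ M, ∀ y ∈ M, x * y = y * x := by
    intro hc
    apply hMM
    have e : ⁅M, M⁆ = ⊥ := by
      rw [Subgroup.commutator_eq_bot_iff_le_centralizer]
      intro x hx
      rw [Subgroup.mem_centralizer_iff]
      intro y hy
      exact hc y hy x hx
    rw [e]; exact bot_le
  have hMirr : Irr M := by
    by_contra hni
    exact hMnc (hcliff hPirr hM.1 hni)
  have hcomm := (schur_comm_inv hr.pos hMirr).1
  -- so `X h` is commutative
  have hBc : ∀ x ∈ X h, ∀ y ∈ X h, x * y = y * x := by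
    have mem : ∀ b ∈ X h, (b : Matrix (Fin r) (Fin r) F) ∈ centAlg M := by
      intro b hb
      rw [Subalgebra.mem_centralizer_iff]
      rintro _ ⟨a, ha, rfl⟩
      have h2 := hcent b hb a ha
      have h3 := congrArg (fun u : GL (Fin r) F => (u : Matrix (Fin r) (Fin r) F)) h2
      simpa only [Units.val_mul] using h3
    intro x hx y hy
    apply Units.ext
    rw [Units.val_mul, Units.val_mul]
    exact hcomm _ (mem x hx) _ (mem y hy)
  -- but it is a conjugate of `M`
  apply hMnc
  intro x hx y hy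
  have h4 := hBc ((h : GL (Fin r) F) * x * (h : GL (Fin r) F)⁻¹) ⟨x, hx, by simp [MulAut.conj_apply]⟩
    ((h : GL (Fin r) F) * y * (h : GL (Fin r) F)⁻¹) ⟨y, hy, by simp [MulAut.conj_apply]⟩
  have e1 : x * y = (h : GL (Fin r) F)⁻¹ * (((h : GL (Fin r) F) * x * (h : GL (Fin r) F)⁻¹) *
      ((h : GL (Fin r) F) * y * (h : GL (Fin r) F)⁻¹)) * (h : GL (Fin r) F) := by group
  rw [e1, h4]; group

/-- SIMPLE, with the statement of `clifford_comm` as a hypothesis -/
theorem ascsimple_core [Fintype F] {r : ℕ} (hr : r.Prime)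
    (hcliff : ∀ {H N : Subgroup (GL (Fin r) F)}, Irr H → NormalIn N H → ¬ Irr N →
      ∀ x ∈ N, ∀ y ∈ N, x * y = y * x)
    {H P : Subgroup (GL (Fin r) F)} (hD : AllNormalAbsIrr H)
    (hP : MinNonscalar P H) (hperf : ⁅P, P⁆ = P) :
    IsSimpleGroup (P ⧸ (scalars (Fin r) F).subgroupOf P) ∧
      ¬ IsMulCommutative (P ⧸ (scalars (Fin r) F).subgroupOf P) := by
  obtain ⟨M, hM⟩ := exists_minNonscalar P hP.2.1
  have hMP : M = P := ascsimple_no_proper hr hcliff hD hP hperf hM
  rw [hMP] at hM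
  refine ⟨?_, ?_⟩
  · apply ascsimple_quot_simple
    · obtain ⟨p, hp, hps⟩ := SetLike.not_le_iff_exists.mp hP.2.1
      exact ⟨⟨p, hp⟩, fun h => hps (Subgroup.mem_subgroupOf.mp h)⟩
    · intro K hK
      have hK' := ascsimple_map_subtype_normalIn P K hK
      rcases hM.2.2 _ hK' hK'.1 with h1 | h1
      · left
        intro x hx
        exact Subgroup.mem_subgroupOf.mpr (h1 (Subgroup.mem_map.mpr ⟨x, hx, rfl⟩))
      · right
        rw [eq_top_iff]
        intro x _
        have hx : (x : GL (Fin r) F) ∈ K.map P.subtype := by rw [h1]; exact x.2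
        obtain ⟨y, hy, hyx⟩ := Subgroup.mem_map.mp hx
        have e : y = x := Subtype.ext hyx
        rw [← e]; exact hy
  · intro hcomm
    apply hP.2.1
    rw [← hperf, Subgroup.commutator_le]
    intro x hx y hy
    have h2 := ascsimple_quot_comm _ hcomm (⟨x, hx⟩ : P) ⟨y, hy⟩
    have h3 := Subgroup.mem_subgroupOf.mp h2
    simpa [commutatorElement_def] using h3

end Cfsg.Agent.Lib.Helper27.ASC
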