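import Mathlib
import Cfsg.Prelude.Def_GeometricClasses
import Cfsg.Agent.Lib.Helper27.ASC.Defs
import Cfsg.Agent.Lib.Helper19.ASCCLIFFA
import Cfsg.Agent.Lib.Helper11.ASCSIMPLEcore

/-!
# Project ASC, piece SIMPLE : `P / (P ⊓ scalars)` is simple non-abelian (verbatim statement)
-/

set_option autoImplicit false
set_option linter.unusedVariables false

namespace Cfsg.Agent.Lib.Helper27.ASC

open Cfsg Cfsg.Geo
open scoped MatrixGroups Matrix

variable {n : ℕ} {F : Type*} [Field F] [Fintype F]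

/-- SIMPLE -/
theorem perfect_case_simple {r : ℕ} (hr : r.Prime) {H P : Subgroup (GL (Fin r) F)} (hD : AllNormalAbsIrr H)
    (hP : MinNonscalar P H) (hperf : ⁅P, P⁆ = P) :
    IsSimpleGroup (P ⧸ (scalars (Fin r) F).subgroupOf P) ∧
      ¬ IsMulCommutative (P ⧸ (scalars (Fin r) F).subgroupOf P) :=
  ascsimple_core hr (fun hH hN h1 => clifford_comm hr hH hN h1) hD hP hperf

end Cfsg.Agent.Lib.Helper27.ASC
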