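import Mathlib
import Cfsg.Prelude.Def_GeometricClasses
import Cfsg.Agent.Lib.Helper27.ASC.Defs
import Cfsg.Agent.Lib.helper23.ASCO.Defs
import Cfsg.Agent.Lib.Lead.Reindex
import Cfsg.Agent.Lib.Helper28.OGenQ
import Cfsg.Agent.Lib.Helper11.ASCOPRA

/-!
# Pre-landed for project ASE (even-dimensional orthogonal groups, any characteristic): `Ω` is irreducible, with no hypothesis
on the characteristic (same proof as `omega_not_le_stab`, `Helper11.ASCOPRA`, which never used `2 ≠ 0`).
-/

set_option autoImplicit false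
set_option linter.unusedVariables false
set_option linter.unusedSectionVars false

namespace Cfsg.Agent.Lib.helper23.ASCO

open Cfsg Cfsg.Geo Cfsg.Agent.Lib.Helper27.ASC
open scoped MatrixGroups Matrix

variable {n : ℕ} {F : Type*} [Field F] [Fintype F]

open Cfsg.Agent.Lib.Helper28.OQ Cfsg.Agent.Lib.Helper28.OMax Cfsg.Agent.Lib.Helper28.OMax2
  Cfsg.Agent.Lib.Helper28.OIwa2 Cfsg.Agent.Lib.Helper28.OGenQ Cfsg.Agent.S0795 in
/-- `Ω` is irreducible, any characteristic (the hypothesis `2 ≠ 0` of `omega_not_le_stab` is not needed). -/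
theorem asepra_omega_not_le_stab (hn : 7 ≤ n) (Q : QuadraticForm F (Fin n → F))
    (hQ : (QuadraticMap.polarBilin Q).Nondegenerate) (W : Submodule F (Fin n → F))
    (h0 : W ≠ ⊥) (h1 : W ≠ ⊤) : ¬ omegaGL (⇑Q) ≤ subspaceStabilizer W := by
  intro hle
  have hq := qf_of_quad Q hQ
  have vf := vfacts_quad hn Q hQ
  have hG := sgGroupQ_quad hn Q hQ
  have hf := hq.sym
  have hU : ∀ g ∈ omegaGL (⇑Q), ∀ x ∈ W, (g : Matrix (Fin n) (Fin n) F) *ᵥ x ∈ W := by
    intro g hg x hx
    exact ((hle hg) x).mp hx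
  -- a non-zero vector of `W`
  obtain ⟨w, hwW, hw0⟩ := (Submodule.ne_bot_iff W).mp h0
  -- a singular `u` with `f u w ≠ 0`
  obtain ⟨u, hu, huw⟩ := ascopra_exists_nonorth Q hQ vf w hw0
  -- `w' = w + c u` singular, `(u, w')` a hyperbolic pair
  have huw' : QuadraticMap.polar (⇑Q) w u ≠ 0 := by rwa [QuadraticMap.polar_comm]
  set c : F := -(Q w / QuadraticMap.polar (⇑Q) w u) with hc
  have hw' : Q (w + c • u) = 0 := ascopra_adjust Q w u hu huw'
  have huu : QuadraticMap.polar (⇑Q) u u = 0 := by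
    have := f_sing hq hu
    exact this
  have hpair : pf Q u (w + c • u) ≠ 0 := by
    show QuadraticMap.polar (⇑Q) u (w + c • u) ≠ 0
    rw [QuadraticMap.polar_add_right, QuadraticMap.polar_smul_right, huu, smul_zero, add_zero]
    exact huw
  obtain ⟨v, s', hv, _, hvu, hvw', _, _, hs'v⟩ := vf.hyp_perp u (w + c • u) hu hw' hpair
  have hv0 : v ≠ 0 := by
    rintro rfl
    rw [Cfsg.Agent.Lib.Helper28.HForm.f_zero_right hf] at hs'v
    exact zero_ne_one hs'v
  have hvu' : QuadraticMap.polar (⇑Q) v u = 0 := hvu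
  have hvw : QuadraticMap.polar (⇑Q) v w = 0 := by
    have h3 : QuadraticMap.polar (⇑Q) v (w + c • u) = 0 := hvw'
    rw [QuadraticMap.polar_add_right, QuadraticMap.polar_smul_right, hvu', smul_zero, add_zero] at h3
    exact h3
  -- the Siegel element
  have huv : pf Q u v = 0 := by
    show QuadraticMap.polar (⇑Q) u v = 0
    rw [QuadraticMap.polar_comm]; exact hvu'
  obtain ⟨t, ht⟩ := hG.ex u v 1 hu hv huv
  have htΩ : t ∈ omegaGL (⇑Q) := hG.sg t u v 1 hu hv huv ht
  have h4 := hU t htΩ w hwW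
  rw [ht w] at h4
  unfold Tv at h4
  have h5 : pf Q u w • v ∈ W := by
    have e : pf Q u w • v = (w + (1 : F) • (pf Q u w • v - pf Q v w • u)) - w := by
      have : pf Q v w = 0 := hvw
      rw [this, zero_smul, sub_zero, one_smul]; abel
    rw [e]
    exact W.sub_mem h4 hwW
  have hvW : v ∈ W := by
    have h6 := W.smul_mem (pf Q u w)⁻¹ h5
    rwa [smul_smul, inv_mul_cancel₀ (show pf Q u w ≠ 0 from huw), one_smul] at h6
  exact h1 (ascopra_stable_top hn Q hQ W hU v hvW hv hv0)

end Cfsg.Agent.Lib.helper23.ASCO
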