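import Mathlib
import Cfsg.Prelude.Def_GeometricClasses
import Cfsg.Agent.Lib.Helper27.ASC.Defs
import Cfsg.Agent.Lib.helper23.ASCO.Defs
import Cfsg.Agent.Lib.Lead.Reindex
import Cfsg.Agent.Lib.Helper28.OGenQ
import Cfsg.Agent.Lib.Helper11.ASCOPRA
import Cfsg.Agent.Lib.Helper11.ASCOPRC5
import Cfsg.Agent.Lib.Helper11.ASEPRA
import Cfsg.Agent.Lib.Helper13.O9FLDcore
import Cfsg.Agent.Lib.Helper13.O9CENT

/-!
# Pre-landed for project ASE (even-dimensional orthogonal groups, any characteristic): the positive rows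
`Ω ≰ subfield group`, `Ω ≰ normaliser of an extension field`, and `C(Ω)` = scalars, with no hypothesis on the characteristic
(`7 ≤ n`).  Same proofs as `omega_not_le_subfield` (`Helper11.ASCOPRC5`), `omega_cent_scalar` (`Helper13.O9CENT`),
`omega_not_le_field` (`Helper13.O9FLD`); the only use of `2 ≠ 0` was in `ascoprc5_lambda`, replaced by `asepr_lambda`
(in characteristic 2: `(1 + N)² = 1`, so `l² ∈ F₀`, and `F₀` is perfect).
-/

set_option autoImplicit false
set_option linter.unusedVariables false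
set_option linter.unusedSectionVars false

namespace Cfsg.Agent.Lib.helper23.ASCO

open Cfsg Cfsg.Geo Cfsg.Agent.Lib.Helper27.ASC
open scoped MatrixGroups Matrix

variable {n : ℕ} {F : Type*} [Field F] [Fintype F]

/-- in characteristic 2 a finite subfield contains the square roots of its elements -/
theorem asepr_sqrt_mem (h2 : (2 : F) = 0) (F₀ : Subfield F) (l : F) (hl : l * l ∈ F₀) : l ∈ F₀ := by
  classical
  have hinj : Function.Injective (fun x : F₀ => x * x) := by
    intro x y hxy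
    have h1 : (x : F) * (x : F) = (y : F) * (y : F) := by
      have := congrArg (fun z : F₀ => (z : F)) hxy
      simpa using this
    have h3 : ((x : F) - (y : F)) * ((x : F) - (y : F)) = 0 := by
      linear_combination h1 + ((y : F) * (y : F) - (x : F) * (y : F)) * h2
    have h4 : (x : F) - (y : F) = 0 := mul_self_eq_zero.mp h3
    exact Subtype.ext (sub_eq_zero.mp h4)
  have hsurj : Function.Surjective (fun x : F₀ => x * x) := Finite.injective_iff_surjective.mp hinj
  obtain ⟨m, hm⟩ := hsurj ⟨l * l, hl⟩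
  have h1 : (m : F) * (m : F) = l * l := by
    have := congrArg (fun z : F₀ => (z : F)) hm
    simpa using this
  have h3 : ((m : F) - l) * ((m : F) - l) = 0 := by
    linear_combination h1 + (l * l - (m : F) * l) * h2
  have h4 : (m : F) - l = 0 := mul_self_eq_zero.mp h3
  have : l = (m : F) := (sub_eq_zero.mp h4).symm
  rw [this]
  exact SetLike.coe_mem m

/-- the scalar of a unipotent element `1 + N`, `N² = 0`, of a subfield group lies in the subfield (any characteristic) -/
theorem asepr_lambda (F₀ : Subfield F) (N : Matrix (Fin n) (Fin n) F)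
    (hN2 : N * N = 0) (l : F) (G0 : Matrix (Fin n) (Fin n) F₀) (hl : l ≠ 0)
    (hM : 1 + N = l • G0.map (fun x : F₀ => (x : F))) (i j : Fin n) (hij : i ≠ j) (hNij : N i j ≠ 0) :
    l ∈ F₀ := by
  by_cases h2 : (2 : F) = 0
  · have hsq : (1 + N) * (1 + N) = 1 := by
      rw [mul_add, add_mul, add_mul, hN2, one_mul, mul_one, Matrix.one_mul, add_zero]
      have : N + N = (2 : F) • N := (two_smul F N).symm
      rw [add_assoc, this, h2, zero_smul, add_zero]
    have hGG : (G0.map (fun x : F₀ => (x : F))) * (G0.map (fun x : F₀ => (x : F))) =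
        (G0 * G0).map (fun x : F₀ => (x : F)) := by
      have := Matrix.map_mul (L := G0) (M := G0) (f := (F₀.subtype : F₀ →+* F))
      exact this.symm
    have e2 : l * l * (((G0 * G0) i i : F₀) : F) = 1 := by
      have h3 := congrFun (congrFun hsq i) i
      rw [hM, Matrix.smul_mul, Matrix.mul_smul, hGG] at h3
      simp only [Matrix.smul_apply, Matrix.one_apply_eq, smul_eq_mul, Matrix.map_apply] at h3
      rw [← h3, mul_assoc]
    have hS : (((G0 * G0) i i : F₀) : F) ≠ 0 := by
      intro h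
      rw [h, mul_zero] at e2
      exact zero_ne_one e2
    have e4 : l * l = (((G0 * G0) i i : F₀) : F)⁻¹ := eq_inv_of_mul_eq_one_left e2
    apply asepr_sqrt_mem h2 F₀ l
    rw [e4]
    exact F₀.inv_mem (SetLike.coe_mem _)
  · exact ascoprc5_lambda h2 F₀ N hN2 l G0 hl hM i j hij hNij

/-- a matrix commuting with `Ω` is a scalar (any characteristic) -/
theorem asepr_cent_scalar (hn : 7 ≤ n) (Q : QuadraticForm F (Fin n → F))
    (hQ : (QuadraticMap.polarBilin Q).Nondegenerate) (k : Matrix (Fin n) (Fin n) F)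
    (hk : ∀ g ∈ omegaGL (⇑Q), k * (g : Matrix (Fin n) (Fin n) F) = (g : Matrix (Fin n) (Fin n) F) * k) :
    ∃ c : F, k = c • (1 : Matrix (Fin n) (Fin n) F) := by
  classical
  obtain ⟨z, b, hz0, hkz⟩ := Cfsg.Agent.Lib.Helper25.O9.o9cent_eigen hn Q hQ k hk
  let E : Submodule F (Fin n → F) := LinearMap.ker (Matrix.toLin' k - b • LinearMap.id)
  have hE : ∀ x, x ∈ E ↔ k *ᵥ x = b • x := by
    intro x
    rw [LinearMap.mem_ker, LinearMap.sub_apply, Matrix.toLin'_apply, LinearMap.smul_apply, LinearMap.id_apply,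
      sub_eq_zero]
  have h0 : E ≠ ⊥ := by
    intro h
    have hz : z ∈ E := (hE z).mpr hkz
    rw [h, Submodule.mem_bot] at hz
    exact hz0 hz
  have hle : omegaGL (⇑Q) ≤ subspaceStabilizer E := by
    apply Cfsg.Agent.Lib.Helper18.ASP.aspred_stab_of_maps
    intro g hg x hx
    rw [hE] at hx ⊢
    rw [Matrix.mulVec_mulVec, hk g hg, ← Matrix.mulVec_mulVec, hx, Matrix.mulVec_smul]
  have htop : E = ⊤ := by
    by_contra h1
    exact asepra_omega_not_le_stab hn Q hQ E h0 h1 hle
  refine ⟨b, ?_⟩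
  apply Matrix.toLin'.injective
  apply LinearMap.ext
  intro x
  have hx : x ∈ E := by rw [htop]; exact Submodule.mem_top
  rw [Matrix.toLin'_apply, (hE x).mp hx, Matrix.toLin'_apply, Matrix.smul_mulVec, Matrix.one_mulVec]

/-- `Ω` normalises no extension field (any characteristic) -/
theorem asepr_omega_not_le_field (hn : 7 ≤ n) (Q : QuadraticForm F (Fin n → F))
    (hQ : (QuadraticMap.polarBilin Q).Nondegenerate) {d : ℕ} (hd : 2 ≤ d)
    (K : Subalgebra F (Matrix (Fin n) (Fin n) F)) (hK : IsFieldSubalgebra d K) :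
    ¬ omegaGL (⇑Q) ≤ subalgebraNormalizer K :=
  Cfsg.Agent.Lib.Helper25.O9.o9fld_core hn Q hQ hd K hK (fun k hk => asepr_cent_scalar hn Q hQ k hk)

open Cfsg.Agent.Lib.Helper28.OQ Cfsg.Agent.Lib.Helper28.OMax Cfsg.Agent.Lib.Helper28.OMax2
  Cfsg.Agent.Lib.Helper28.OIwa2 Cfsg.Agent.Lib.Helper28.OGenQ Cfsg.Agent.Lib.Helper28.OGen
  Cfsg.Agent.S0795 in
/-- `Ω` lies in no proper subfield group, any characteristic. -/
theorem asepr_omega_not_le_subfield (hn : 7 ≤ n) (Q : QuadraticForm F (Fin n → F))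
    (hQ : (QuadraticMap.polarBilin Q).Nondegenerate) (F₀ : Subfield F) (h0 : F₀ ≠ ⊤)
    (P : GL (Fin n) F) : ¬ omegaGL (⇑Q) ≤ subfieldSubgroup F₀ P := by
  intro hle
  have hq := qf_of_quad Q hQ
  have vf := vfacts_quad hn Q hQ
  have hG := sgGroupQ_quad hn Q hQ
  have hf := hq.sym
  -- singular `u ≠ 0`, singular `v ⊥ u`, and `s'` with `f s' u = 0`, `f s' v = 1`
  obtain ⟨u, hu, hu0⟩ := vf.sing
  obtain ⟨u', hu', huu'⟩ := ascopra_exists_nonorth Q hQ vf u hu0
  have hpair : pf Q u u' ≠ 0 := by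
    show QuadraticMap.polar (⇑Q) u u' ≠ 0
    rwa [QuadraticMap.polar_comm]
  obtain ⟨v, s', hv, hs', hvu, _, hs'u, _, hs'v⟩ := vf.hyp_perp u u' hu hu' hpair
  have huv : pf Q u v = 0 := by rw [s_symm hf]; exact hvu
  have puv : QuadraticMap.polar (⇑Q) u v = 0 := huv
  have pvu : QuadraticMap.polar (⇑Q) v u = 0 := hvu
  have puu : QuadraticMap.polar (⇑Q) u u = 0 := f_sing hq hu
  have pvv : QuadraticMap.polar (⇑Q) v v = 0 := f_sing hq hv
  -- the Siegel elements
  choose t ht using fun c : F => hG.ex u v c hu hv huv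
  have htΩ : ∀ c, t c ∈ omegaGL (⇑Q) := fun c => hG.sg (t c) u v c hu hv huv (ht c)
  set N : Matrix (Fin n) (Fin n) F := ((t 1 : GL (Fin n) F) : Matrix (Fin n) (Fin n) F) - 1 with hN
  have hNx : ∀ x, N *ᵥ x =
      QuadraticMap.polar (⇑Q) u x • v - QuadraticMap.polar (⇑Q) v x • u := by
    intro x
    rw [hN, Matrix.sub_mulVec, Matrix.one_mulVec, ht 1 x]
    unfold Tv
    rw [one_smul]
    show x + (QuadraticMap.polar (⇑Q) u x • v - QuadraticMap.polar (⇑Q) v x • u) - x = _
    abel
  have htc : ∀ c, ((t c : GL (Fin n) F) : Matrix (Fin n) (Fin n) F) = 1 + c • N := by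
    intro c
    apply Matrix.mulVec_injective
    funext x
    rw [ht c x, Matrix.add_mulVec, Matrix.one_mulVec, Matrix.smul_mulVec, hNx]
    rfl
  have hN2 : N * N = 0 := by
    apply Matrix.mulVec_injective
    funext x
    rw [← Matrix.mulVec_mulVec, hNx x, hNx, Matrix.zero_mulVec]
    rw [QuadraticMap.polar_sub_right, QuadraticMap.polar_smul_right, QuadraticMap.polar_smul_right,
      QuadraticMap.polar_sub_right, QuadraticMap.polar_smul_right, QuadraticMap.polar_smul_right,
      puv, puu, pvv, pvu]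
    simp
  have hN0 : N ≠ 0 := by
    intro h
    have h1 := hNx s'
    rw [h, Matrix.zero_mulVec] at h1
    have e1 : QuadraticMap.polar (⇑Q) u s' = 0 := by
      rw [QuadraticMap.polar_comm]; exact hs'u
    have e2 : QuadraticMap.polar (⇑Q) v s' = 1 := by
      rw [QuadraticMap.polar_comm]; exact hs'v
    rw [e1, e2, zero_smul, one_smul, zero_sub] at h1
    exact hu0 (neg_eq_zero.mp h1.symm)
  -- conjugate by `P`
  have hPiP : ((P⁻¹ : GL (Fin n) F) : Matrix (Fin n) (Fin n) F) * (P : Matrix (Fin n) (Fin n) F) = 1 := by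
    rw [← Units.val_mul, inv_mul_cancel, Units.val_one]
  have hPPi : (P : Matrix (Fin n) (Fin n) F) * ((P⁻¹ : GL (Fin n) F) : Matrix (Fin n) (Fin n) F) = 1 := by
    rw [← Units.val_mul, mul_inv_cancel, Units.val_one]
  set N' : Matrix (Fin n) (Fin n) F :=
    ((P⁻¹ : GL (Fin n) F) : Matrix (Fin n) (Fin n) F) * N * (P : Matrix (Fin n) (Fin n) F) with hN'
  have hN'2 : N' * N' = 0 := by
    have e : N' * N' = ((P⁻¹ : GL (Fin n) F) : Matrix (Fin n) (Fin n) F) *
        (N * ((P : Matrix (Fin n) (Fin n) F) * ((P⁻¹ : GL (Fin n) F) : Matrix (Fin n) (Fin n) F)) * N) *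
        (P : Matrix (Fin n) (Fin n) F) := by
      rw [hN']; simp only [Matrix.mul_assoc]
    rw [e, hPPi, Matrix.mul_one, hN2, Matrix.mul_zero, Matrix.zero_mul]
  have hN'0 : N' ≠ 0 := by
    intro h
    apply hN0
    have e : N = (P : Matrix (Fin n) (Fin n) F) * N' * ((P⁻¹ : GL (Fin n) F) : Matrix (Fin n) (Fin n) F) := by
      rw [hN']
      have : (P : Matrix (Fin n) (Fin n) F) *
          (((P⁻¹ : GL (Fin n) F) : Matrix (Fin n) (Fin n) F) * N * (P : Matrix (Fin n) (Fin n) F)) *
          ((P⁻¹ : GL (Fin n) F) : Matrix (Fin n) (Fin n) F) =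
          ((P : Matrix (Fin n) (Fin n) F) * ((P⁻¹ : GL (Fin n) F) : Matrix (Fin n) (Fin n) F)) * N *
          ((P : Matrix (Fin n) (Fin n) F) * ((P⁻¹ : GL (Fin n) F) : Matrix (Fin n) (Fin n) F)) := by
        simp only [Matrix.mul_assoc]
      rw [this, hPPi, Matrix.one_mul, Matrix.mul_one]
    rw [e, h, Matrix.mul_zero, Matrix.zero_mul]
  obtain ⟨i, j, hij, hNij⟩ := ascoprc5_offdiag N' hN'2 hN'0
  -- an element outside `F₀`
  obtain ⟨a, ha⟩ : ∃ a : F, a ∉ F₀ := by
    by_contra hcon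
    push Not at hcon
    exact h0 (eq_top_iff.mpr fun x _ => hcon x)
  have ha0 : a ≠ 0 := by
    rintro rfl
    exact ha F₀.zero_mem
  set c : F := a / N' i j with hc
  obtain ⟨l, G0, hl, hM⟩ := ascoprc5_mem F₀ P (t c) (hle (htΩ c))
  have hM' : 1 + c • N' = l • G0.map (fun x : F₀ => (x : F)) := by
    rw [← hM, htc c, Matrix.mul_add, Matrix.add_mul, Matrix.mul_one, hPiP, Matrix.mul_smul,
      Matrix.smul_mul, hN']
  have hcN2 : (c • N') * (c • N') = 0 := by
    rw [Matrix.smul_mul, Matrix.mul_smul, hN'2, smul_zero, smul_zero]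
  have hcNij : (c • N') i j = a := by
    rw [Matrix.smul_apply, smul_eq_mul, hc, div_mul_cancel₀ a hNij]
  have hlmem : l ∈ F₀ :=
    asepr_lambda F₀ (c • N') hcN2 l G0 hl hM' i j hij (by rw [hcNij]; exact ha0)
  apply ha
  have e := congrFun (congrFun hM' i) j
  simp only [Matrix.add_apply, Matrix.one_apply_ne hij, zero_add, Matrix.smul_apply, smul_eq_mul,
    Matrix.map_apply] at e
  have e' : a = l * ((G0 i j : F₀) : F) := by
    rw [← hcNij, Matrix.smul_apply, smul_eq_mul]; exact e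
  rw [e']
  exact F₀.mul_mem hlmem (SetLike.coe_mem _)

end Cfsg.Agent.Lib.helper23.ASCO
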