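import Mathlib
import Cfsg.Prelude.Def_GeometricClasses
import Cfsg.Agent.Lib.Helper27.ASC.Defs
import Cfsg.Agent.Lib.helper23.ASCO.Defs
import Cfsg.Agent.Lib.Lead.Reindex
import Cfsg.Agent.Lib.Helper28.OGenQ
import Cfsg.Agent.Lib.Helper11.ASCOPRA
import Cfsg.Agent.Lib.Helper11.ASEPRA

/-!
# Pre-landed for project ASE (even-dimensional orthogonal groups, any characteristic): `Ω` stabilises no decomposition
`V = D 0 ⊕ ... ⊕ D (t-1)` into blocks of dimension `k` as soon as `3 ≤ |F|` or `3 ≤ k` (`7 ≤ n`).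

* `3 ≤ |F|` : two Siegel elements `1 + c N`, `1 + c' N` (`c ≠ c'` non-zero) of the same root group cannot both permute the
  blocks unless each of them fixes every block: for `w ∈ D i`, `c' (w + c N w) - c (w + c' N w) = (c' - c) w`.
* `3 ≤ k` : a Siegel element `g` has `g w - w ∈ span {u, v}`; if it moves the block `D i` then `w ↦ g w - w` is injective on
  `D i`, so `k ≤ 2`.
-/

set_option autoImplicit false
set_option linter.unusedVariables false
set_option linter.unusedSectionVars false

namespace Cfsg.Agent.Lib.helper23.ASCO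

open Cfsg Cfsg.Geo Cfsg.Agent.Lib.Helper27.ASC
open scoped MatrixGroups Matrix

variable {n : ℕ} {F : Type*} [Field F]

/-- the blocks of a decomposition are non-zero -/
theorem asepr_dec_ne_bot {t k : ℕ} (D : Fin t → Submodule F (Fin n → F)) (hD : IsMDecomposition k D) (i : Fin t) :
    D i ≠ ⊥ := by
  intro h
  have h1 := hD.finrank_eq i
  rw [h, finrank_bot] at h1
  have := hD.pos
  omega

/-- an invertible matrix is injective -/
theorem asepr_gl_inj (g : GL (Fin n) F) (w : Fin n → F) (hw : (g : Matrix (Fin n) (Fin n) F) *ᵥ w = 0) : w = 0 := by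
  have h1 : ((g⁻¹ : GL (Fin n) F) : Matrix (Fin n) (Fin n) F) *ᵥ ((g : Matrix (Fin n) (Fin n) F) *ᵥ w) = w := by
    rw [Matrix.mulVec_mulVec, ← Units.val_mul, inv_mul_cancel, Units.val_one, Matrix.one_mulVec]
  rw [hw, Matrix.mulVec_zero] at h1
  exact h1.symm

/-- two elements `1 + c N`, `1 + c' N` (`c ≠ c'` non-zero) permuting the blocks: the first one fixes every block -/
theorem asepr_root_blocks (g g' : GL (Fin n) F) (N : (Fin n → F) → (Fin n → F)) (c c' : F) (hc : c ≠ 0) (hc' : c' ≠ 0)
    (hcc : c ≠ c')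
    (hg : ∀ x, (g : Matrix (Fin n) (Fin n) F) *ᵥ x = x + c • N x)
    (hg' : ∀ x, (g' : Matrix (Fin n) (Fin n) F) *ᵥ x = x + c' • N x)
    {t k : ℕ} (D : Fin t → Submodule F (Fin n → F)) (hD : IsMDecomposition k D)
    (hgD : g ∈ decompositionStabilizer D) (hgD' : g' ∈ decompositionStabilizer D) (i : Fin t) :
    (D i).map (Matrix.toLin' (g : Matrix (Fin n) (Fin n) F)) = D i := by
  classical
  obtain ⟨σ, hσ⟩ := hgD
  obtain ⟨σ', hσ'⟩ := hgD'
  have hmap : ∀ w ∈ D i, (g : Matrix (Fin n) (Fin n) F) *ᵥ w ∈ D (σ i) := by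
    intro w hw
    rw [← hσ i]
    exact ⟨w, hw, by rw [Matrix.toLin'_apply]⟩
  have hmap' : ∀ w ∈ D i, (g' : Matrix (Fin n) (Fin n) F) *ᵥ w ∈ D (σ' i) := by
    intro w hw
    rw [← hσ' i]
    exact ⟨w, hw, by rw [Matrix.toLin'_apply]⟩
  have hσ1 : σ i = i := by
    by_contra hne
    obtain ⟨w, hw, hw0⟩ := (Submodule.ne_bot_iff _).mp (asepr_dec_ne_bot D hD i)
    have ha := hmap w hw
    have hb := hmap' w hw
    have hrel : c' • ((g : Matrix (Fin n) (Fin n) F) *ᵥ w) - c • ((g' : Matrix (Fin n) (Fin n) F) *ᵥ w) =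
        (c' - c) • w := by
      rw [hg, hg', smul_add, smul_add, smul_smul, smul_smul, mul_comm c' c, sub_smul]
      abel
    have hdisj := Submodule.disjoint_def.mp (hD.indep i)
    by_cases hi' : σ' i = i
    · -- `g' w ∈ D i`, so `g w ∈ D i ⊓ D (σ i)`
      rw [hi'] at hb
      have h1 : c' • ((g : Matrix (Fin n) (Fin n) F) *ᵥ w) ∈ D i := by
        have : c' • ((g : Matrix (Fin n) (Fin n) F) *ᵥ w) =
            (c' - c) • w + c • ((g' : Matrix (Fin n) (Fin n) F) *ᵥ w) := by
          rw [← hrel]; abel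
        rw [this]
        exact Submodule.add_mem _ (Submodule.smul_mem _ _ hw) (Submodule.smul_mem _ _ hb)
      have h2 : (g : Matrix (Fin n) (Fin n) F) *ᵥ w ∈ D i := by
        have := Submodule.smul_mem (D i) c'⁻¹ h1
        rwa [smul_smul, inv_mul_cancel₀ hc', one_smul] at this
      have h3 : (g : Matrix (Fin n) (Fin n) F) *ᵥ w ∈ ⨆ (j) (_ : j ≠ i), D j :=
        (le_iSup₂_of_le (σ i) hne le_rfl : D (σ i) ≤ _) ha
      exact hw0 (asepr_gl_inj g w (hdisj _ h2 h3))
    · have h1 : (c' - c) • w ∈ ⨆ (j) (_ : j ≠ i), D j := by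
        rw [← hrel]
        apply Submodule.sub_mem
        · exact Submodule.smul_mem _ _ ((le_iSup₂_of_le (σ i) hne le_rfl : D (σ i) ≤ _) ha)
        · exact Submodule.smul_mem _ _ ((le_iSup₂_of_le (σ' i) hi' le_rfl : D (σ' i) ≤ _) hb)
      have h2 : (c' - c) • w ∈ D i := Submodule.smul_mem _ _ hw
      have h3 := hdisj _ h2 h1
      rcases smul_eq_zero.mp h3 with h | h
      · exact hcc (sub_eq_zero.mp h).symm
      · exact hw0 h
  have := hσ i
  rw [hσ1] at this
  exact this

/-- an element `g` with `g x - x ∈ span {u, v}` permuting blocks of dimension `≥ 3` fixes every block -/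
theorem asepr_rank_blocks (g : GL (Fin n) F) (u v : Fin n → F)
    (hg : ∀ x, (g : Matrix (Fin n) (Fin n) F) *ᵥ x - x ∈ Submodule.span F ({u, v} : Set (Fin n → F)))
    {t k : ℕ} (hk : 3 ≤ k) (D : Fin t → Submodule F (Fin n → F)) (hD : IsMDecomposition k D)
    (hgD : g ∈ decompositionStabilizer D) (i : Fin t) :
    (D i).map (Matrix.toLin' (g : Matrix (Fin n) (Fin n) F)) = D i := by
  classical
  obtain ⟨σ, hσ⟩ := hgD
  have hmap : ∀ w ∈ D i, (g : Matrix (Fin n) (Fin n) F) *ᵥ w ∈ D (σ i) := by
    intro w hw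
    rw [← hσ i]
    exact ⟨w, hw, by rw [Matrix.toLin'_apply]⟩
  have hσ1 : σ i = i := by
    by_contra hne
    have hdisj := Submodule.disjoint_def.mp (hD.indep i)
    let S : Submodule F (Fin n → F) := Submodule.span F ({u, v} : Set (Fin n → F))
    let φ : (D i) →ₗ[F] S :=
      LinearMap.codRestrict S ((Matrix.toLin' (g : Matrix (Fin n) (Fin n) F) - LinearMap.id).comp (D i).subtype)
        (fun w => by
          simp only [LinearMap.coe_comp, Function.comp_apply, Submodule.subtype_apply, LinearMap.sub_apply,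
            Matrix.toLin'_apply, LinearMap.id_apply]
          exact hg w)
    have hφinj : Function.Injective φ := by
      rw [← LinearMap.ker_eq_bot, LinearMap.ker_eq_bot']
      intro w hw
      have h1 : (g : Matrix (Fin n) (Fin n) F) *ᵥ (w : Fin n → F) - (w : Fin n → F) = 0 := by
        have := congrArg (fun z : S => (z : Fin n → F)) hw
        simpa [φ] using this
      have h2 : (g : Matrix (Fin n) (Fin n) F) *ᵥ (w : Fin n → F) = (w : Fin n → F) := sub_eq_zero.mp h1
      have h3 : (w : Fin n → F) ∈ ⨆ (j) (_ : j ≠ i), D j := by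
        have := (le_iSup₂_of_le (σ i) hne le_rfl : D (σ i) ≤ ⨆ (j) (_ : j ≠ i), D j) (hmap w w.2)
        rwa [h2] at this
      exact Subtype.ext (hdisj _ w.2 h3)
    have h1 : Module.finrank F (D i) ≤ Module.finrank F S := LinearMap.finrank_le_finrank_of_injective hφinj
    have h2 : Module.finrank F S ≤ 2 := by
      have := finrank_span_le_card (R := F) ({u, v} : Set (Fin n → F))
      refine le_trans this ?_
      rw [Set.toFinset_card]
      refine le_trans (Fintype.card_le_of_surjective (fun b : Bool => (if b then ⟨u, by simp⟩ else ⟨v, by simp⟩ :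
        ({u, v} : Set (Fin n → F)))) ?_) (by simp)
      rintro ⟨x, hx⟩
      rcases hx with rfl | hx
      · exact ⟨true, rfl⟩
      · rw [Set.mem_singleton_iff] at hx
        subst hx
        exact ⟨false, rfl⟩
    rw [hD.finrank_eq i] at h1
    omega
  have := hσ i
  rw [hσ1] at this
  exact this

variable [Fintype F]

/-- `Ω` stabilises no decomposition into blocks of dimension `k`, if `3 ≤ |F|` or `3 ≤ k` (any characteristic) -/
theorem asepr_omega_not_le_dec (hn : 7 ≤ n) (Q : QuadraticForm F (Fin n → F))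
    (hQ : (QuadraticMap.polarBilin Q).Nondegenerate) {t k : ℕ} (D : Fin t → Submodule F (Fin n → F))
    (hD : IsMDecomposition k D) (hqk : 3 ≤ Fintype.card F ∨ 3 ≤ k) :
    ¬ omegaGL (⇑Q) ≤ decompositionStabilizer D := by
  classical
  intro hle
  have sg := Cfsg.Agent.Lib.Helper28.OGenQ.sgGroupQ_quad hn Q hQ
  have ht := hD.two_le
  let i₀ : Fin t := ⟨0, by omega⟩
  let i₁ : Fin t := ⟨1, by omega⟩
  have h01 : i₁ ≠ i₀ := by
    intro h
    have := congrArg Fin.val h
    simp [i₀, i₁] at this
  have hbot : ∀ i, D i ≠ ⊥ := asepr_dec_ne_bot D hD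
  have htop : D i₀ ≠ ⊤ := by
    intro h
    have h1 := hD.indep i₁
    have h3 : D i₁ ≤ ⨆ (j) (_ : j ≠ i₁), D j := by
      refine le_trans ?_ (le_iSup₂_of_le i₀ (fun h => h01 h.symm) le_rfl)
      rw [h]
      exact le_top
    have := h1 le_rfl h3
    exact hbot i₁ (le_bot_iff.mp this)
  refine asepra_omega_not_le_stab hn Q hQ (D i₀) (hbot i₀) htop ?_
  apply sg.gen
  intro g u v c hu hv huv hg
  have hgΩ := sg.sg g u v c hu hv huv hg
  have hTx : ∀ x, (g : Matrix (Fin n) (Fin n) F) *ᵥ x =
      x + c • (Cfsg.Agent.S0795.pf Q u x • v - Cfsg.Agent.S0795.pf Q v x • u) := by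
    intro x
    have := hg x
    unfold Cfsg.Agent.Lib.Helper28.OMax.Tv at this
    exact this
  have hblk : (D i₀).map (Matrix.toLin' (g : Matrix (Fin n) (Fin n) F)) = D i₀ := by
    rcases hqk with hq3 | hk3
    · by_cases hc : c = 0
      · have h1 : (g : Matrix (Fin n) (Fin n) F) = 1 := by
          apply Matrix.mulVec_injective
          funext x
          rw [hTx x, hc, zero_smul, add_zero, Matrix.one_mulVec]
        rw [h1, Matrix.toLin'_one, Submodule.map_id]
      · -- a third scalar
        obtain ⟨c', hc'0, hc'c⟩ : ∃ c' : F, c' ≠ 0 ∧ c ≠ c' := by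
          by_contra hcon
          push Not at hcon
          have hsub : (Finset.univ : Finset F) ⊆ {0, c} := by
            intro x _
            by_cases hx : x = 0
            · simp [hx]
            · have := hcon x hx
              simp [this]
          have h1 := Finset.card_le_card hsub
          have h2 : ({0, c} : Finset F).card ≤ 2 := Finset.card_le_two
          rw [Finset.card_univ] at h1
          omega
        obtain ⟨g', hg'⟩ := sg.ex u v c' hu hv huv
        have hg'Ω := sg.sg g' u v c' hu hv huv hg'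
        have hTx' : ∀ x, (g' : Matrix (Fin n) (Fin n) F) *ᵥ x =
            x + c' • (Cfsg.Agent.S0795.pf Q u x • v - Cfsg.Agent.S0795.pf Q v x • u) := by
          intro x
          have := hg' x
          unfold Cfsg.Agent.Lib.Helper28.OMax.Tv at this
          exact this
        exact asepr_root_blocks g g'
          (fun x => Cfsg.Agent.S0795.pf Q u x • v - Cfsg.Agent.S0795.pf Q v x • u) c c' hc hc'0 hc'c hTx hTx' D hD
          (hle hgΩ) (hle hg'Ω) i₀
    · refine asepr_rank_blocks g u v ?_ hk3 D hD (hle hgΩ) i₀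
      intro x
      rw [hTx x, add_sub_cancel_left]
      apply Submodule.smul_mem
      apply Submodule.sub_mem
      · exact Submodule.smul_mem _ _ (Submodule.subset_span (by simp))
      · exact Submodule.smul_mem _ _ (Submodule.subset_span (by simp))
  intro x
  change x ∈ D i₀ ↔ (g : Matrix (Fin n) (Fin n) F) *ᵥ x ∈ D i₀
  constructor
  · intro hx
    rw [← hblk]
    exact ⟨x, hx, by rw [Matrix.toLin'_apply]⟩
  · intro hx
    rw [← hblk] at hx
    obtain ⟨w, hw, hwx⟩ := hx
    rw [Matrix.toLin'_apply] at hwx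
    have : w - x = 0 := asepr_gl_inj g _ (by rw [Matrix.mulVec_sub, hwx, sub_self])
    rw [sub_eq_zero] at this
    rw [← this]
    exact hw

end Cfsg.Agent.Lib.helper23.ASCO
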