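import Mathlib
import Cfsg.Prelude.Def_GeometricClasses
import Cfsg.Agent.Lib.Helper27.ASC.Defs
import Cfsg.Agent.Lib.helper23.ASCO.Defs
import Cfsg.Agent.Lib.Lead.Reindex
import Cfsg.Agent.Lib.Helper25.O9.Defs
import Cfsg.Agent.Lib.Helper28.OGenQ
import Cfsg.Agent.Lib.Helper11.LXPRT

set_option autoImplicit false
set_option linter.unusedVariables false
set_option linter.unusedSectionVars false

/-!
# Project O9, piece WR : `omega_not_le_wreath32`

`Ω_9` lies in no tensor-wreath group `GL_3 ≀ S_2`: a Siegel element `g` has a fixed space of dimension `≥ 7`;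
the square of its preimage `M` is a pure tensor `a ⊗ b`, every vector of `F^3` is an eigenvector of `a` (of `b`), so `a`, `b`
are scalar, `M * M = 1`, `M = 1`.
-/

namespace Cfsg.Agent.Lib.Helper25.O9

open Cfsg Cfsg.Geo Cfsg.Agent.Lib.Helper27.ASC Cfsg.Agent.Lib.helper23.ASCO
open scoped MatrixGroups Matrix

variable {n : ℕ} {F : Type*} [Field F] [Fintype F]

/-- the product of two twisted pure tensors, with explicit permutation and factors -/
theorem o9wr_shape_mul (m t : ℕ) (M N : Matrix (Fin t → Fin m) (Fin t → Fin m) F)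
    (σ τ : Equiv.Perm (Fin t)) (a b : Fin t → Matrix (Fin m) (Fin m) F)
    (ha : ∀ x y, M x y = ∏ i, a i (x i) (y (σ i))) (hb : ∀ x y, N x y = ∏ i, b i (x i) (y (τ i))) :
    ∀ x y, (M * N) x y = ∏ i, (a i * b (σ i)) (x i) (y ((τ * σ) i)) := by
  intro x y
  rw [Matrix.mul_apply]
  have h1 : ∀ z : Fin t → Fin m, M x z * N z y =
      ∏ i, (a (σ.symm i) (x (σ.symm i)) (z i) * b i (z i) (y (τ i))) := by
    intro z
    rw [ha, hb, Finset.prod_mul_distrib]
    congr 1
    rw [← Equiv.prod_comp σ (fun i => a (σ.symm i) (x (σ.symm i)) (z i))]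
    simp
  rw [Finset.sum_congr rfl (fun z _ => h1 z)]
  have h2 := (Finset.prod_univ_sum (fun _ : Fin t => (Finset.univ : Finset (Fin m)))
    (fun i k => a (σ.symm i) (x (σ.symm i)) k * b i k (y (τ i)))).symm
  rw [Fintype.piFinset_univ] at h2
  rw [h2, ← Equiv.prod_comp σ]
  refine Finset.prod_congr rfl fun i _ => ?_
  simp [Matrix.mul_apply]

/-- the pure tensor `u ⊗ w` as a vector indexed by `Fin 2 → Fin 3` -/
def o9wrTens (u w : Fin 3 → F) : (Fin 2 → Fin 3) → F := fun x => u (x 0) * w (x 1)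

theorem o9wr_mulVec_tens (N : Matrix (Fin 2 → Fin 3) (Fin 2 → Fin 3) F) (a b : Matrix (Fin 3) (Fin 3) F)
    (hN : ∀ x y, N x y = a (x 0) (y 0) * b (x 1) (y 1)) (u w : Fin 3 → F) :
    N *ᵥ o9wrTens u w = o9wrTens (a *ᵥ u) (b *ᵥ w) := by
  funext x
  show ∑ y, N x y * o9wrTens u w y = (∑ j, a (x 0) j * u j) * (∑ k, b (x 1) k * w k)
  rw [Finset.sum_mul_sum, ← Finset.sum_product']
  refine Fintype.sum_equiv (piFinTwoEquiv (fun _ => Fin 3)) _ _ (fun y => ?_)
  simp only [o9wrTens, hN, piFinTwoEquiv_apply]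
  ring

theorem o9wr_tens_ne_zero (u w : Fin 3 → F) (hu : u ≠ 0) (hw : w ≠ 0) : o9wrTens u w ≠ 0 := by
  obtain ⟨j, hj⟩ := Function.ne_iff.mp hu
  obtain ⟨k, hk⟩ := Function.ne_iff.mp hw
  intro h
  have := congrFun h ![j, k]
  simp only [o9wrTens, Matrix.cons_val_zero, Matrix.cons_val_one, Pi.zero_apply] at this
  rcases mul_eq_zero.mp this with h' | h'
  · exact hj h'
  · exact hk h'

theorem o9wr_tens_eq_left (u u' w w' : Fin 3 → F) (hu : u ≠ 0) (hw : w ≠ 0)
    (h : o9wrTens u' w' = o9wrTens u w) : ∃ l : F, u' = l • u := by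
  obtain ⟨j0, hj0⟩ := Function.ne_iff.mp hu
  obtain ⟨k, hk⟩ := Function.ne_iff.mp hw
  have hjk : ∀ j, u' j * w' k = u j * w k := by
    intro j
    have := congrFun h ![j, k]
    simpa only [o9wrTens, Matrix.cons_val_zero, Matrix.cons_val_one] using this
  have hw'k : w' k ≠ 0 := by
    intro h0
    have := hjk j0
    rw [h0, mul_zero] at this
    rcases mul_eq_zero.mp this.symm with h' | h'
    · exact hj0 h'
    · exact hk h'
  refine ⟨w k / w' k, ?_⟩
  funext j
  simp only [Pi.smul_apply, smul_eq_mul]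
  field_simp
  have := hjk j
  linear_combination this

theorem o9wr_tens_eq_right (u u' w w' : Fin 3 → F) (hu : u ≠ 0) (hw : w ≠ 0)
    (h : o9wrTens u' w' = o9wrTens u w) : ∃ l : F, w' = l • w := by
  obtain ⟨j, hj⟩ := Function.ne_iff.mp hu
  obtain ⟨k0, hk0⟩ := Function.ne_iff.mp hw
  have hjk : ∀ k, u' j * w' k = u j * w k := by
    intro k
    have := congrFun h ![j, k]
    simpa only [o9wrTens, Matrix.cons_val_zero, Matrix.cons_val_one] using this
  have hu'j : u' j ≠ 0 := by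
    intro h0
    have := hjk k0
    rw [h0, zero_mul] at this
    rcases mul_eq_zero.mp this.symm with h' | h'
    · exact hj h'
    · exact hk0 h'
  refine ⟨u j / u' j, ?_⟩
  funext k
  simp only [Pi.smul_apply, smul_eq_mul]
  field_simp
  have := hjk k
  linear_combination this

/-- a matrix all of whose vectors are eigenvectors is a scalar -/
theorem o9wr_scalar_of_eigen {m : ℕ} (a : Matrix (Fin m) (Fin m) F)
    (h : ∀ u : Fin m → F, ∃ l : F, a *ᵥ u = l • u) : ∃ α : F, a = α • (1 : Matrix (Fin m) (Fin m) F) := by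
  classical
  -- the columns
  have hcol : ∀ i j, i ≠ j → a i j = 0 := by
    intro i j hij
    obtain ⟨l, hl⟩ := h (Pi.single j 1)
    have := congrFun hl i
    rw [Matrix.mulVec_single_one] at this
    simpa [Pi.single_apply, hij] using this
  have hdiag : ∀ i j, a i i = a j j := by
    intro i j
    by_cases hij : i = j
    · rw [hij]
    obtain ⟨l, hl⟩ := h (Pi.single i 1 + Pi.single j 1)
    have h1 := congrFun hl i
    have h2 := congrFun hl j
    rw [Matrix.mulVec_add, Matrix.mulVec_single_one, Matrix.mulVec_single_one] at h1 h2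
    simp only [Pi.add_apply, Matrix.col_apply, Pi.smul_apply, smul_eq_mul, Pi.single_apply] at h1 h2
    rw [hcol i j hij] at h1
    rw [hcol j i (Ne.symm hij)] at h2
    simp [hij, Ne.symm hij] at h1 h2
    rw [h1, h2]
  by_cases hm : 0 < m
  · refine ⟨a ⟨0, hm⟩ ⟨0, hm⟩, ?_⟩
    ext i j
    simp only [Matrix.smul_apply, Matrix.one_apply, smul_eq_mul]
    by_cases hij : i = j
    · subst hij
      simp [hdiag i ⟨0, hm⟩]
    · simp [hij, hcol i j hij]
  · refine ⟨0, ?_⟩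
    ext i j
    exact absurd i.pos (by omega)

/-- a subspace of dimension `≥ 7` of `F^9` meets the image of an injective linear map from `F^3` -/
theorem o9wr_meet (K : Submodule F (Fin 9 → F)) (hK : 7 ≤ Module.finrank F K)
    (L : (Fin 3 → F) →ₗ[F] (Fin 9 → F)) (hL : Function.Injective L) : ∃ w, w ≠ 0 ∧ L w ∈ K := by
  have h3 : Module.finrank F (LinearMap.range L) = 3 := by
    rw [LinearMap.finrank_range_of_inj hL, Module.finrank_fin_fun]
  have h4 := Submodule.finrank_sup_add_finrank_inf_eq K (LinearMap.range L)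
  have h5 : Module.finrank F ((K ⊔ LinearMap.range L : Submodule F (Fin 9 → F))) ≤ 9 := by
    have := Submodule.finrank_le (K ⊔ LinearMap.range L)
    rwa [Module.finrank_fin_fun] at this
  have h6 : 0 < Module.finrank F ((K ⊓ LinearMap.range L : Submodule F (Fin 9 → F))) := by omega
  obtain ⟨⟨v, hv⟩, hv0⟩ := Module.finrank_pos_iff_exists_ne_zero.mp h6
  obtain ⟨w, hw⟩ := hv.2
  refine ⟨w, ?_, ?_⟩
  · rintro rfl
    apply hv0
    apply Subtype.ext
    show v = 0
    rw [← hw, map_zero]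
  · rw [hw]
    exact hv.1

/-- the common kernel of two linear forms on `F^9` has dimension `≥ 7` -/
theorem o9wr_ker_two (l₁ l₂ : (Fin 9 → F) →ₗ[F] F) :
    7 ≤ Module.finrank F (LinearMap.ker (l₁.prod l₂)) := by
  have h1 := LinearMap.finrank_range_add_finrank_ker (l₁.prod l₂)
  rw [Module.finrank_fin_fun] at h1
  have h2 : Module.finrank F (LinearMap.range (l₁.prod l₂)) ≤ 2 := by
    have := Submodule.finrank_le (LinearMap.range (l₁.prod l₂))
    rwa [Module.finrank_prod, Module.finrank_self] at this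
  omega

/-- `w ↦ u ⊗ w` as a linear map -/
def o9wrTensR (u : Fin 3 → F) : (Fin 3 → F) →ₗ[F] ((Fin 2 → Fin 3) → F) where
  toFun w := o9wrTens u w
  map_add' w w' := by
    funext x
    simp only [o9wrTens, Pi.add_apply]
    ring
  map_smul' c w := by
    funext x
    simp only [o9wrTens, Pi.smul_apply, smul_eq_mul, RingHom.id_apply]
    ring

/-- `u ↦ u ⊗ w` as a linear map -/
def o9wrTensL (w : Fin 3 → F) : (Fin 3 → F) →ₗ[F] ((Fin 2 → Fin 3) → F) where
  toFun u := o9wrTens u w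
  map_add' u u' := by
    funext x
    simp only [o9wrTens, Pi.add_apply]
    ring
  map_smul' c u := by
    funext x
    simp only [o9wrTens, Pi.smul_apply, smul_eq_mul, RingHom.id_apply]
    ring

theorem o9wr_tensR_inj (u : Fin 3 → F) (hu : u ≠ 0) : Function.Injective (o9wrTensR u) := by
  rw [injective_iff_map_eq_zero]
  intro w hw
  by_contra hw0
  exact o9wr_tens_ne_zero u w hu hw0 hw

theorem o9wr_tensL_inj (w : Fin 3 → F) (hw : w ≠ 0) : Function.Injective (o9wrTensL w) := by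
  rw [injective_iff_map_eq_zero]
  intro u hu
  by_contra hu0
  exact o9wr_tens_ne_zero u w hu0 hw hu

/-- the algebraic core: a matrix `M` of twisted pure tensor shape on `F^3 ⊗ F^3` with `M² + 1 = 2 M` that fixes a non-zero vector
in the image of every injective linear map from `F^3` is the identity. -/
theorem o9wr_core (h2 : (2 : F) ≠ 0) (Mm : Matrix (Fin 2 → Fin 3) (Fin 2 → Fin 3) F)
    (hshape : LxprtShape 3 2 Mm)
    (hMM : ∀ v, Mm *ᵥ (Mm *ᵥ v) + v = (2 : F) • (Mm *ᵥ v))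
    (key : ∀ L : (Fin 3 → F) →ₗ[F] ((Fin 2 → Fin 3) → F), Function.Injective L →
      ∃ w, w ≠ 0 ∧ Mm *ᵥ (L w) = L w) : ∀ v, Mm *ᵥ v = v := by
  classical
  obtain ⟨σ, c, hc⟩ := hshape
  have hN := o9wr_shape_mul 3 2 Mm Mm σ σ c c hc hc
  have hσσ' : ∀ τ : Equiv.Perm (Fin 2), τ * τ = 1 := by decide
  have hσσ : σ * σ = 1 := hσσ' σ
  set N : Matrix (Fin 2 → Fin 3) (Fin 2 → Fin 3) F := Mm * Mm with hNdef
  set a : Matrix (Fin 3) (Fin 3) F := c 0 * c (σ 0) with hadef
  set b : Matrix (Fin 3) (Fin 3) F := c 1 * c (σ 1) with hbdef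
  have hNab : ∀ x y, N x y = a (x 0) (y 0) * b (x 1) (y 1) := by
    intro x y
    rw [hN, Fin.prod_univ_two, hσσ]
    rfl
  have hNfix : ∀ v, Mm *ᵥ v = v → N *ᵥ v = v := by
    intro v hv
    rw [hNdef, ← Matrix.mulVec_mulVec, hv, hv]
  -- `a` is scalar
  have ha : ∀ u : Fin 3 → F, ∃ l : F, a *ᵥ u = l • u := by
    intro u
    by_cases hu : u = 0
    · exact ⟨0, by rw [hu, Matrix.mulVec_zero, smul_zero]⟩
    obtain ⟨w, hw0, hw⟩ := key (o9wrTensR u) (o9wr_tensR_inj u hu)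
    have h1 := hNfix _ hw
    change N *ᵥ o9wrTens u w = o9wrTens u w at h1
    rw [o9wr_mulVec_tens N a b hNab] at h1
    exact o9wr_tens_eq_left u _ w _ hu hw0 h1
  have hb : ∀ w : Fin 3 → F, ∃ l : F, b *ᵥ w = l • w := by
    intro w
    by_cases hw : w = 0
    · exact ⟨0, by rw [hw, Matrix.mulVec_zero, smul_zero]⟩
    obtain ⟨u, hu0, hu⟩ := key (o9wrTensL w) (o9wr_tensL_inj w hw)
    have h1 := hNfix _ hu
    change N *ᵥ o9wrTens u w = o9wrTens u w at h1
    rw [o9wr_mulVec_tens N a b hNab] at h1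
    exact o9wr_tens_eq_right u _ w _ hu0 hw h1
  obtain ⟨α, hα⟩ := o9wr_scalar_of_eigen a ha
  obtain ⟨β, hβ⟩ := o9wr_scalar_of_eigen b hb
  -- `α β = 1`
  have hαβ : α * β = 1 := by
    have hu : (Pi.single 0 1 : Fin 3 → F) ≠ 0 := by
      intro h
      have := congrFun h 0
      simp at this
    obtain ⟨w, hw0, hw⟩ := key (o9wrTensR (Pi.single 0 1)) (o9wr_tensR_inj _ hu)
    have h1 := hNfix _ hw
    change N *ᵥ o9wrTens (Pi.single 0 1) w = o9wrTens (Pi.single 0 1) w at h1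
    rw [o9wr_mulVec_tens N a b hNab, hα, hβ, Matrix.smul_mulVec, Matrix.smul_mulVec, Matrix.one_mulVec,
      Matrix.one_mulVec] at h1
    obtain ⟨k, hk⟩ := Function.ne_iff.mp hw0
    have := congrFun h1 ![0, k]
    simp only [o9wrTens, Matrix.cons_val_zero, Matrix.cons_val_one, Pi.smul_apply, smul_eq_mul,
      Pi.single_eq_same, mul_one, one_mul] at this
    have hk' : w k ≠ 0 := hk
    have h3 : (α * β - 1) * w k = 0 := by linear_combination this
    rcases mul_eq_zero.mp h3 with h | h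
    · linear_combination h
    · exact absurd h hk'
  -- `N = 1`
  have hN1 : N = 1 := by
    ext x y
    rw [hNab, hα, hβ]
    simp only [Matrix.smul_apply, Matrix.one_apply, smul_eq_mul]
    by_cases hxy : x = y
    · subst hxy
      simp [hαβ]
    · rw [if_neg hxy]
      have : ¬ (x 0 = y 0 ∧ x 1 = y 1) := by
        rintro ⟨h0, h1⟩
        apply hxy
        funext i
        fin_cases i
        · exact h0
        · exact h1
      by_cases h0 : x 0 = y 0
      · have h1 : x 1 ≠ y 1 := fun h1 => this ⟨h0, h1⟩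
        simp [h1]
      · simp [h0]
  intro v
  have h1 := hMM v
  rw [Matrix.mulVec_mulVec, ← hNdef, hN1, Matrix.one_mulVec] at h1
  have h3 : (2 : F) • (Mm *ᵥ v - v) = 0 := by
    rw [smul_sub, ← h1, two_smul]
    abel
  rcases smul_eq_zero.mp h3 with h | h
  · exact absurd h h2
  · exact sub_eq_zero.mp h

/-- WR -/
theorem omega_not_le_wreath32 (h2 : (2 : F) ≠ 0) (Q : QuadraticForm F (Fin 9 → F))
    (hQ : (QuadraticMap.polarBilin Q).Nondegenerate) (e : Fin 9 ≃ (Fin 2 → Fin 3)) (P : GL (Fin 9) F) :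
    ¬ omegaGL (⇑Q) ≤ tensorWreathSubgroup 3 2 e P := by
  classical
  intro hle
  have hn : 7 ≤ 9 := by norm_num
  have hq := Cfsg.Agent.Lib.Helper28.OGenQ.qf_of_quad Q hQ
  have vf := Cfsg.Agent.Lib.Helper28.OGenQ.vfacts_quad hn Q hQ
  have sg := Cfsg.Agent.Lib.Helper28.OGenQ.sgGroupQ_quad hn Q hQ
  have hsym := hq.sym
  obtain ⟨z, hz, hz0⟩ := vf.sing
  obtain ⟨w, hw, hwz⟩ := Cfsg.Agent.Lib.Helper28.OQ.hyp_partner_q hq z hz0 hz
  have hzw : Cfsg.Agent.S0795.pf Q z w = 1 := by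
    rw [Cfsg.Agent.Lib.Helper28.OGen.s_symm hsym]
    exact hwz
  obtain ⟨s, s', hs, hs', hsz, hsw, hs'z, hs'w, hs's⟩ :=
    vf.hyp_perp z w hz hw (by rw [hzw]; exact one_ne_zero)
  have hzs : Cfsg.Agent.S0795.pf Q z s = 0 := by
    rw [Cfsg.Agent.Lib.Helper28.OGen.s_symm hsym]
    exact hsz
  obtain ⟨g, hg⟩ := sg.ex z s 1 hz hs hzs
  have hgΩ := sg.sg g z s 1 hz hs hzs hg
  have hTx : ∀ x, (g : Matrix (Fin 9) (Fin 9) F) *ᵥ x =
      x + (Cfsg.Agent.S0795.pf Q z x • s - Cfsg.Agent.S0795.pf Q s x • z) := by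
    intro x
    have := hg x
    unfold Cfsg.Agent.Lib.Helper28.OMax.Tv at this
    rw [one_smul] at this
    exact this
  have hzz : Cfsg.Agent.S0795.pf Q z z = 0 := Cfsg.Agent.Lib.Helper28.OQ.f_sing hq hz
  have hss : Cfsg.Agent.S0795.pf Q s s = 0 := Cfsg.Agent.Lib.Helper28.OQ.f_sing hq hs
  have hTT : ∀ x, (g : Matrix (Fin 9) (Fin 9) F) *ᵥ ((g : Matrix (Fin 9) (Fin 9) F) *ᵥ x) + x =
      (2 : F) • ((g : Matrix (Fin 9) (Fin 9) F) *ᵥ x) := by
    intro x
    have h1 : (g : Matrix (Fin 9) (Fin 9) F) *ᵥ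
        (Cfsg.Agent.S0795.pf Q z x • s - Cfsg.Agent.S0795.pf Q s x • z) =
        Cfsg.Agent.S0795.pf Q z x • s - Cfsg.Agent.S0795.pf Q s x • z := by
      rw [hTx]
      rw [Cfsg.Agent.Lib.Helper28.HForm.f_sub_right hsym, Cfsg.Agent.Lib.Helper28.HForm.f_sub_right hsym,
        Cfsg.Agent.Lib.Helper28.OGen.s_smul_right hsym, Cfsg.Agent.Lib.Helper28.OGen.s_smul_right hsym,
        Cfsg.Agent.Lib.Helper28.OGen.s_smul_right hsym, Cfsg.Agent.Lib.Helper28.OGen.s_smul_right hsym,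
        hzs, hzz, hss, hsz]
      simp
    rw [hTx x, Matrix.mulVec_add, h1, hTx x, two_smul]
    abel
  -- the preimage in the standard group
  obtain ⟨k, hk, hkg⟩ := hle hgΩ
  obtain ⟨M, hM, hMk⟩ := hk
  set Mm : Matrix (Fin 2 → Fin 3) (Fin 2 → Fin 3) F := (M : Matrix (Fin 2 → Fin 3) (Fin 2 → Fin 3) F) with hMm
  have hkmat : (k : Matrix (Fin 9) (Fin 9) F) = Mm.submatrix e e := by
    rw [← hMk]
    show Matrix.reindexAlgEquiv F F e.symm (M : Matrix (Fin 2 → Fin 3) (Fin 2 → Fin 3) F) = _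
    rw [Matrix.coe_reindexAlgEquiv, Matrix.reindex_apply]
    rfl
  have hgmat : (g : Matrix (Fin 9) (Fin 9) F) =
      (P : Matrix (Fin 9) (Fin 9) F) * (Mm.submatrix e e) * ((P⁻¹ : GL (Fin 9) F) : Matrix (Fin 9) (Fin 9) F) := by
    rw [← hkg, ← hkmat]
    rfl
  -- the transport map
  let ψ : ((Fin 2 → Fin 3) → F) →ₗ[F] (Fin 9 → F) :=
    (Matrix.toLin' (P : Matrix (Fin 9) (Fin 9) F)).comp (LinearMap.funLeft F F e)
  have hψ : ∀ v, ψ v = (P : Matrix (Fin 9) (Fin 9) F) *ᵥ (v ∘ e) := fun v => rfl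
  have hPinv : ∀ x : Fin 9 → F, ((P⁻¹ : GL (Fin 9) F) : Matrix (Fin 9) (Fin 9) F) *ᵥ
      ((P : Matrix (Fin 9) (Fin 9) F) *ᵥ x) = x := by
    intro x
    rw [Matrix.mulVec_mulVec, ← Units.val_mul, inv_mul_cancel, Units.val_one, Matrix.one_mulVec]
  have hPinv' : ∀ x : Fin 9 → F, (P : Matrix (Fin 9) (Fin 9) F) *ᵥ
      (((P⁻¹ : GL (Fin 9) F) : Matrix (Fin 9) (Fin 9) F) *ᵥ x) = x := by
    intro x
    rw [Matrix.mulVec_mulVec, ← Units.val_mul, mul_inv_cancel, Units.val_one, Matrix.one_mulVec]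
  have hψinj : Function.Injective ψ := by
    intro v v' hvv
    rw [hψ, hψ] at hvv
    have h1 := congrArg (fun x => ((P⁻¹ : GL (Fin 9) F) : Matrix (Fin 9) (Fin 9) F) *ᵥ x) hvv
    simp only [hPinv] at h1
    funext x
    have := congrFun h1 (e.symm x)
    simpa using this
  have hψsurj : ∀ x : Fin 9 → F, ∃ v, ψ v = x := by
    intro x
    refine ⟨(((P⁻¹ : GL (Fin 9) F) : Matrix (Fin 9) (Fin 9) F) *ᵥ x) ∘ e.symm, ?_⟩
    rw [hψ]
    have : ((((P⁻¹ : GL (Fin 9) F) : Matrix (Fin 9) (Fin 9) F) *ᵥ x) ∘ e.symm) ∘ e =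
        ((P⁻¹ : GL (Fin 9) F) : Matrix (Fin 9) (Fin 9) F) *ᵥ x := by
      funext i
      simp
    rw [this, hPinv']
  have hgψ : ∀ v, (g : Matrix (Fin 9) (Fin 9) F) *ᵥ ψ v = ψ (Mm *ᵥ v) := by
    intro v
    rw [hψ, hψ, hgmat, ← Matrix.mulVec_mulVec, ← Matrix.mulVec_mulVec, hPinv]
    congr 1
    rw [Matrix.submatrix_mulVec_equiv]
    congr 2
    funext x
    simp
  have hMM : ∀ v, Mm *ᵥ (Mm *ᵥ v) + v = (2 : F) • (Mm *ᵥ v) := by
    intro v
    apply hψinj
    rw [map_add, map_smul, ← hgψ, ← hgψ]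
    exact hTT (ψ v)
  -- the fixed space of `g`
  set B : LinearMap.BilinForm F (Fin 9 → F) := QuadraticMap.polarBilin Q with hBdef
  have hBapp : ∀ x y : Fin 9 → F, B x y = Cfsg.Agent.S0795.pf Q x y := fun x y => rfl
  set K : Submodule F (Fin 9 → F) := LinearMap.ker ((B z).prod (B s)) with hKdef
  have hK7 : 7 ≤ Module.finrank F K := o9wr_ker_two (B z) (B s)
  have hKfix : ∀ x ∈ K, (g : Matrix (Fin 9) (Fin 9) F) *ᵥ x = x := by
    intro x hx
    rw [hKdef, LinearMap.mem_ker, LinearMap.prod_apply, Prod.mk_eq_zero] at hx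
    have hx1 : B z x = 0 := hx.1
    have hx2 : B s x = 0 := hx.2
    rw [hTx, ← hBapp, ← hBapp, hx1, hx2]
    simp
  have key : ∀ L : (Fin 3 → F) →ₗ[F] ((Fin 2 → Fin 3) → F), Function.Injective L →
      ∃ w, w ≠ 0 ∧ Mm *ᵥ (L w) = L w := by
    intro L hL
    obtain ⟨w, hw0, hwK⟩ := o9wr_meet K hK7 (ψ.comp L) (hψinj.comp hL)
    refine ⟨w, hw0, ?_⟩
    apply hψinj
    rw [← hgψ]
    exact hKfix _ hwK
  have hone := o9wr_core h2 Mm (lxprt_shape_of_mem 3 2 M hM) hMM key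
  -- `g = 1`, contradiction
  have hg1 : ∀ x, (g : Matrix (Fin 9) (Fin 9) F) *ᵥ x = x := by
    intro x
    obtain ⟨v, rfl⟩ := hψsurj x
    rw [hgψ, hone]
  have h3 := hg1 w
  rw [hTx w, hzw, hsw, one_smul, zero_smul, sub_zero] at h3
  have hs0 : s = 0 := by
    have := congrArg (fun v => v - w) h3
    simpa using this
  rw [hs0, Cfsg.Agent.Lib.Helper28.HForm.f_zero_right hsym] at hs's
  exact zero_ne_one hs's

end Cfsg.Agent.Lib.Helper25.O9
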