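import Mathlib
import Cfsg.Prelude.Def_GeometricClasses
import Cfsg.Agent.Lib.Helper27.ASC.Defs
import Cfsg.Agent.Lib.helper23.ASCO.Defs
import Cfsg.Agent.Lib.Lead.Reindex
import Cfsg.Agent.Lib.Helper28.OGenQ
import Cfsg.Agent.Lib.Helper28.OTens
import Cfsg.Agent.Lib.Helper10.ASGCSWAP
import Cfsg.Agent.Lib.Helper20.ASGCMEM
import Cfsg.Agent.Lib.Helper20.ASPCACT
import Cfsg.Agent.Lib.Helper11.O9WR
import Cfsg.Agent.Lib.Helper11.ASEPRB
import Cfsg.Agent.Lib.Helper11.ASEPRC

/-!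
# Pre-landed for project ASE (even-dimensional orthogonal groups, any characteristic): `Ω` lies in no tensor product subgroup
`tensorProductSubgroup k d e P`, `2 ≤ k`, `2 ≤ d` (`7 ≤ n`).

A Siegel element `g = P R(a ⊗ b) P⁻¹` fixes the vectors orthogonal to `u, v`; if `3 ≤ d`, for every `x` there is `y ≠ 0` with
`x ⊗ y` (transported) orthogonal to `u, v`, so `(a x) ⊗ (b y) = x ⊗ y` and `x` is an eigenvector of `a`: `a` is a scalar.  Hence all
Siegel elements, so `Ω`, commute with `P R(m ⊗ 1) P⁻¹` for a non-scalar `m`, contradicting `asepr_cent_scalar`.  The case `d = 2`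
(`k ≥ 4`) follows by swapping the factors (`tensor_swap`).
-/

set_option autoImplicit false
set_option linter.unusedVariables false
set_option linter.unusedSectionVars false

namespace Cfsg.Agent.Lib.helper23.ASCO

open Cfsg Cfsg.Geo Cfsg.Agent.Lib.Helper27.ASC
open scoped MatrixGroups Matrix Kronecker

variable {n : ℕ} {F : Type*} [Field F] [Fintype F]

open Cfsg.Agent.Lib.Helper28.OTens in
/-- an element of a tensor product subgroup (`3 ≤ d`) fixing the common kernel of two functionals has a scalar first factor -/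
theorem asepr_tensor_scalar (φu φv : (Fin n → F) →ₗ[F] F) (g : GL (Fin n) F)
    (hfix : ∀ w, φu w = 0 → φv w = 0 → (g : Matrix (Fin n) (Fin n) F) *ᵥ w = w)
    {k d : ℕ} (hd : 3 ≤ d) (e : Fin n ≃ Fin k × Fin d) (P : GL (Fin n) F)
    (a : GL (Fin k) F) (b : GL (Fin d) F)
    (hact : ∀ α y, (g : Matrix (Fin n) (Fin n) F) *ᵥ tau e P α y =
      tau e P ((a : Matrix (Fin k) (Fin k) F) *ᵥ α) ((b : Matrix (Fin d) (Fin d) F) *ᵥ y)) :
    ∃ α₀ : F, (a : Matrix (Fin k) (Fin k) F) = α₀ • (1 : Matrix (Fin k) (Fin k) F) := by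
  classical
  apply Cfsg.Agent.Lib.Helper25.O9.o9wr_scalar_of_eigen
  intro x
  let φ : (Fin d → F) →ₗ[F] (Fin 2 → F) :=
    LinearMap.pi ![φu.comp (tauLin e P x), φv.comp (tauLin e P x)]
  have hker : LinearMap.ker φ ≠ ⊥ := by
    apply LinearMap.ker_ne_bot_of_finrank_lt
    rw [Module.finrank_fin_fun, Module.finrank_fin_fun]
    omega
  obtain ⟨y, hy, hy0⟩ := (Submodule.ne_bot_iff _).mp hker
  rw [LinearMap.mem_ker] at hy
  have h0 : φu (tau e P x y) = 0 := by
    have := congrFun hy 0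
    simpa [φ, tauLin] using this
  have h1 : φv (tau e P x y) = 0 := by
    have := congrFun hy 1
    simpa [φ, tauLin] using this
  have h2 := hfix _ h0 h1
  rw [hact x y] at h2
  have h3 := tau_pt e P h2
  have hby : (b : Matrix (Fin d) (Fin d) F) *ᵥ y ≠ 0 := fun h => hy0 (asepr_gl_inj b y h)
  obtain ⟨j, hj⟩ : ∃ j, ((b : Matrix (Fin d) (Fin d) F) *ᵥ y) j ≠ 0 := by
    by_contra hcon
    push Not at hcon
    exact hby (funext hcon)
  refine ⟨y j / ((b : Matrix (Fin d) (Fin d) F) *ᵥ y) j, ?_⟩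
  funext i
  have h4 := congrFun h3 (i, j)
  simp only [pt] at h4
  simp only [Pi.smul_apply, smul_eq_mul]
  field_simp
  linear_combination h4

/-- `(P X P⁻¹) (P Y P⁻¹) = P (X Y) P⁻¹` -/
theorem asepr_conj_mul (P : GL (Fin n) F) (X Y : Matrix (Fin n) (Fin n) F) :
    ((P : Matrix (Fin n) (Fin n) F) * X * ((P⁻¹ : GL (Fin n) F) : Matrix (Fin n) (Fin n) F)) *
      ((P : Matrix (Fin n) (Fin n) F) * Y * ((P⁻¹ : GL (Fin n) F) : Matrix (Fin n) (Fin n) F)) =
    (P : Matrix (Fin n) (Fin n) F) * (X * Y) * ((P⁻¹ : GL (Fin n) F) : Matrix (Fin n) (Fin n) F) := by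
  have h : ((P⁻¹ : GL (Fin n) F) : Matrix (Fin n) (Fin n) F) * (P : Matrix (Fin n) (Fin n) F) = 1 := by
    rw [← Units.val_mul, inv_mul_cancel, Units.val_one]
  calc ((P : Matrix (Fin n) (Fin n) F) * X * ((P⁻¹ : GL (Fin n) F) : Matrix (Fin n) (Fin n) F)) *
      ((P : Matrix (Fin n) (Fin n) F) * Y * ((P⁻¹ : GL (Fin n) F) : Matrix (Fin n) (Fin n) F))
      = (P : Matrix (Fin n) (Fin n) F) * X * (((P⁻¹ : GL (Fin n) F) : Matrix (Fin n) (Fin n) F) *
          (P : Matrix (Fin n) (Fin n) F)) * Y * ((P⁻¹ : GL (Fin n) F) : Matrix (Fin n) (Fin n) F) := by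
        simp only [mul_assoc]
    _ = _ := by rw [h, mul_one]; simp only [mul_assoc]

open Cfsg.Agent.Lib.Helper28.OTens Cfsg.Agent.Lib.Helper19.ASG Cfsg.Agent.Lib.Helper18.ASP
  Cfsg.Agent.Lib.Helper28.OMax Cfsg.Agent.Lib.Helper28.OMax2 Cfsg.Agent.S0795 in
/-- `Ω` lies in no tensor product subgroup with second factor of dimension `≥ 3` -/
theorem asepr_tensor_aux (hn : 7 ≤ n) (Q : QuadraticForm F (Fin n → F))
    (hQ : (QuadraticMap.polarBilin Q).Nondegenerate) {k d : ℕ} (hk : 2 ≤ k) (hd : 3 ≤ d)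
    (e : Fin n ≃ Fin k × Fin d) (P : GL (Fin n) F) :
    ¬ omegaGL (⇑Q) ≤ tensorProductSubgroup k d e P := by
  classical
  intro hle
  have sg := Cfsg.Agent.Lib.Helper28.OGenQ.sgGroupQ_quad hn Q hQ
  let i0 : Fin k := ⟨0, by omega⟩
  let i1 : Fin k := ⟨1, by omega⟩
  let j0 : Fin d := ⟨0, by omega⟩
  have hi01 : i0 ≠ i1 := by
    intro h
    have := congrArg Fin.val h
    simp [i0, i1] at this
  let m : Matrix (Fin k) (Fin k) F := Matrix.single i0 i1 1
  let Z : Matrix (Fin n) (Fin n) F :=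
    (P : Matrix (Fin n) (Fin n) F) * Matrix.reindexAlgEquiv F F e.symm (m ⊗ₖ (1 : Matrix (Fin d) (Fin d) F)) *
      ((P⁻¹ : GL (Fin n) F) : Matrix (Fin n) (Fin n) F)
  let C : Subgroup (GL (Fin n) F) :=
    { carrier := {g | Z * (g : Matrix (Fin n) (Fin n) F) = (g : Matrix (Fin n) (Fin n) F) * Z}
      mul_mem' := by
        intro x y hx hy
        show Z * ((x * y : GL (Fin n) F) : Matrix (Fin n) (Fin n) F) = ((x * y : GL (Fin n) F) : Matrix (Fin n) (Fin n) F) * Z
        have hx' : Z * (x : Matrix (Fin n) (Fin n) F) = (x : Matrix (Fin n) (Fin n) F) * Z := hx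
        have hy' : Z * (y : Matrix (Fin n) (Fin n) F) = (y : Matrix (Fin n) (Fin n) F) * Z := hy
        rw [Units.val_mul, ← mul_assoc, hx', mul_assoc, hy', mul_assoc]
      one_mem' := by
        show Z * ((1 : GL (Fin n) F) : Matrix (Fin n) (Fin n) F) = ((1 : GL (Fin n) F) : Matrix (Fin n) (Fin n) F) * Z
        rw [Units.val_one, mul_one, one_mul]
      inv_mem' := by
        intro x hx
        show Z * ((x⁻¹ : GL (Fin n) F) : Matrix (Fin n) (Fin n) F) = ((x⁻¹ : GL (Fin n) F) : Matrix (Fin n) (Fin n) F) * Z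
        have hx' : Z * (x : Matrix (Fin n) (Fin n) F) = (x : Matrix (Fin n) (Fin n) F) * Z := hx
        have h1 : ((x⁻¹ : GL (Fin n) F) : Matrix (Fin n) (Fin n) F) * (x : Matrix (Fin n) (Fin n) F) = 1 := by
          rw [← Units.val_mul, inv_mul_cancel, Units.val_one]
        have h2 : (x : Matrix (Fin n) (Fin n) F) * ((x⁻¹ : GL (Fin n) F) : Matrix (Fin n) (Fin n) F) = 1 := by
          rw [← Units.val_mul, mul_inv_cancel, Units.val_one]
        calc Z * ((x⁻¹ : GL (Fin n) F) : Matrix (Fin n) (Fin n) F)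
            = ((x⁻¹ : GL (Fin n) F) : Matrix (Fin n) (Fin n) F) * ((x : Matrix (Fin n) (Fin n) F) * Z) *
                ((x⁻¹ : GL (Fin n) F) : Matrix (Fin n) (Fin n) F) := by
              rw [← mul_assoc, h1, one_mul]
          _ = ((x⁻¹ : GL (Fin n) F) : Matrix (Fin n) (Fin n) F) * (Z * (x : Matrix (Fin n) (Fin n) F)) *
                ((x⁻¹ : GL (Fin n) F) : Matrix (Fin n) (Fin n) F) := by rw [hx']
          _ = ((x⁻¹ : GL (Fin n) F) : Matrix (Fin n) (Fin n) F) * Z := by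
              rw [mul_assoc, mul_assoc, h2, mul_one] }
  have hΩC : omegaGL (⇑Q) ≤ C := by
    apply sg.gen
    intro g u v c hu hv huv hg
    have hgΩ := sg.sg g u v c hu hv huv hg
    obtain ⟨a, b, hab⟩ := (mem_tensorProductSubgroup_iff e P g).mp (hle hgΩ)
    have hact : ∀ α y, (g : Matrix (Fin n) (Fin n) F) *ᵥ tau e P α y =
        tau e P ((a : Matrix (Fin k) (Fin k) F) *ᵥ α) ((b : Matrix (Fin d) (Fin d) F) *ᵥ y) := by
      intro α y
      unfold tau
      rw [hab, spc_kr_act, kron_mulVec_pt]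
    have hfix : ∀ w, QuadraticMap.polarBilin Q u w = 0 → QuadraticMap.polarBilin Q v w = 0 →
        (g : Matrix (Fin n) (Fin n) F) *ᵥ w = w := by
      intro w h1 h2
      have h3 := hg w
      unfold Tv at h3
      have e1 : pf Q u w = 0 := h1
      have e2 : pf Q v w = 0 := h2
      rw [h3, e1, e2, zero_smul, zero_smul, sub_zero, smul_zero, add_zero]
    obtain ⟨α₀, ha⟩ := asepr_tensor_scalar (QuadraticMap.polarBilin Q u) (QuadraticMap.polarBilin Q v) g hfix hd e P a b hact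
    show Z * (g : Matrix (Fin n) (Fin n) F) = (g : Matrix (Fin n) (Fin n) F) * Z
    rw [hab]
    simp only [Z]
    rw [asepr_conj_mul, asepr_conj_mul, ← map_mul, ← map_mul, ← Matrix.mul_kronecker_mul, ← Matrix.mul_kronecker_mul,
      ha, Matrix.mul_smul, Matrix.smul_mul]
    simp only [mul_one, one_mul]
  obtain ⟨c₀, hc₀⟩ := asepr_cent_scalar hn Q hQ Z (fun g hg => hΩC hg)
  -- evaluate at a pure tensor
  have h1 : Z *ᵥ tau e P (Pi.single i1 1) (Pi.single j0 1) = tau e P (Pi.single i0 1) (Pi.single j0 1) := by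
    simp only [Z]
    unfold tau
    rw [spc_kr_act, kron_mulVec_pt, Matrix.one_mulVec]
    congr 3
    rw [Matrix.single_mulVec_eq]
    simp
  have h2 : Z *ᵥ tau e P (Pi.single i1 1) (Pi.single j0 1) = tau e P (c₀ • Pi.single i1 1) (Pi.single j0 1) := by
    rw [hc₀, Matrix.smul_mulVec, Matrix.one_mulVec, tau_smul_left]
  rw [h1] at h2
  have h3 := congrFun (tau_pt e P h2) (i0, j0)
  simp [pt, hi01] at h3

open Cfsg.Agent.Lib.Helper19.ASG in
/-- `Ω` lies in no tensor product subgroup (any characteristic, `7 ≤ n`) -/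
theorem asepr_omega_not_le_tensor (hn : 7 ≤ n) (Q : QuadraticForm F (Fin n → F))
    (hQ : (QuadraticMap.polarBilin Q).Nondegenerate) {k d : ℕ} (hk : 2 ≤ k) (hd : 2 ≤ d)
    (e : Fin n ≃ Fin k × Fin d) (P : GL (Fin n) F) :
    ¬ omegaGL (⇑Q) ≤ tensorProductSubgroup k d e P := by
  have hcard : n = k * d := by
    have := Fintype.card_congr e
    simpa using this
  by_cases hd3 : 3 ≤ d
  · exact asepr_tensor_aux hn Q hQ hk hd3 e P
  · have hd2 : d = 2 := by omega
    have hk3 : 3 ≤ k := by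
      subst hd2
      omega
    rw [tensor_swap e P]
    exact asepr_tensor_aux hn Q hQ hd hk3 _ P

end Cfsg.Agent.Lib.helper23.ASCO
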