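import Mathlib
import Cfsg.Prelude.Def_GeometricClasses
import Cfsg.Agent.Lib.Helper27.ASC.Defs
import Cfsg.Agent.Lib.helper23.ASCO.Defs
import Cfsg.Agent.Lib.Lead.Reindex
import Cfsg.Agent.Lib.Helper28.OGenQ
import Cfsg.Agent.Lib.Helper11.ASCOPRA
import Cfsg.Agent.Lib.Helper11.ASEPRA
import Cfsg.Agent.Lib.Helper11.ASEPRC

/-!
# Pre-landed for project ASE (even-dimensional orthogonal groups, any characteristic): `Ω` stabilises no decomposition into
blocks of dimension 2, over ANY finite field (in particular `|F| = 2`, the case left out by `asepr_omega_not_le_dec`).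

A Siegel element `g = T_{u,v}(c)` moving a block `D i` of dimension 2: `w ↦ g w - w` is a bijection from `D i` onto `span {u, v}`, so
`g` exchanges `D i` and `D (σ i)` and fixes every other block: the permutation of the blocks is a transposition.  But `g` is a
commutator `h t h⁻¹ t⁻¹` of two Siegel elements of `Ω` (`VFacts.perfect`, `isSg_commutator'`), so its permutation is even.
-/

set_option autoImplicit false
set_option linter.unusedVariables false
set_option linter.unusedSectionVars false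

namespace Cfsg.Agent.Lib.helper23.ASCO

open Cfsg Cfsg.Geo Cfsg.Agent.Lib.Helper27.ASC
open scoped MatrixGroups Matrix

variable {n : ℕ} {F : Type*} [Field F]

/-- composition of block permutations -/
theorem asepr_perm_mul {t : ℕ} (D : Fin t → Submodule F (Fin n → F)) (g g' : GL (Fin n) F) (σ σ' : Equiv.Perm (Fin t))
    (h : ∀ i, (D i).map (Matrix.toLin' (g : Matrix (Fin n) (Fin n) F)) = D (σ i))
    (h' : ∀ i, (D i).map (Matrix.toLin' (g' : Matrix (Fin n) (Fin n) F)) = D (σ' i)) :
    ∀ i, (D i).map (Matrix.toLin' ((g * g' : GL (Fin n) F) : Matrix (Fin n) (Fin n) F)) = D ((σ * σ') i) := by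
  intro i
  rw [Units.val_mul, Matrix.toLin'_mul, Submodule.map_comp, h', h, Equiv.Perm.mul_apply]

/-- inverse of a block permutation -/
theorem asepr_perm_inv {t : ℕ} (D : Fin t → Submodule F (Fin n → F)) (g : GL (Fin n) F) (σ : Equiv.Perm (Fin t))
    (h : ∀ i, (D i).map (Matrix.toLin' (g : Matrix (Fin n) (Fin n) F)) = D (σ i)) :
    ∀ i, (D i).map (Matrix.toLin' ((g⁻¹ : GL (Fin n) F) : Matrix (Fin n) (Fin n) F)) = D (σ⁻¹ i) := by
  intro i
  have h1 : D i = (D (σ⁻¹ i)).map (Matrix.toLin' (g : Matrix (Fin n) (Fin n) F)) := by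
    rw [h, Equiv.Perm.inv_def, Equiv.apply_symm_apply]
  conv_lhs => rw [h1]
  rw [← Submodule.map_comp, ← Matrix.toLin'_mul, ← Units.val_mul, inv_mul_cancel, Units.val_one, Matrix.toLin'_one,
    Submodule.map_id]

/-- the block permutation is unique -/
theorem asepr_perm_unique {t k : ℕ} (D : Fin t → Submodule F (Fin n → F)) (hD : IsMDecomposition k D)
    (g : GL (Fin n) F) (σ σ' : Equiv.Perm (Fin t))
    (h : ∀ i, (D i).map (Matrix.toLin' (g : Matrix (Fin n) (Fin n) F)) = D (σ i))
    (h' : ∀ i, (D i).map (Matrix.toLin' (g : Matrix (Fin n) (Fin n) F)) = D (σ' i)) : σ = σ' := by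
  have hinj : Function.Injective D := hD.indep.injective (asepr_dec_ne_bot D hD)
  ext i
  have : D (σ i) = D (σ' i) := by rw [← h, ← h']
  rw [hinj this]

/-- an element `g` with `g x - x ∈ span {u, v}` moving a block of dimension 2 acts on the blocks as a transposition -/
theorem asepr_swap_of_moved (g : GL (Fin n) F) (u v : Fin n → F)
    (hg : ∀ x, (g : Matrix (Fin n) (Fin n) F) *ᵥ x - x ∈ Submodule.span F ({u, v} : Set (Fin n → F)))
    {t : ℕ} (D : Fin t → Submodule F (Fin n → F)) (hD : IsMDecomposition 2 D) (σ : Equiv.Perm (Fin t))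
    (hσ : ∀ i, (D i).map (Matrix.toLin' (g : Matrix (Fin n) (Fin n) F)) = D (σ i)) (i : Fin t) (hi : σ i ≠ i) :
    σ = Equiv.swap i (σ i) := by
  classical
  have hmap : ∀ l, ∀ w ∈ D l, (g : Matrix (Fin n) (Fin n) F) *ᵥ w ∈ D (σ l) := by
    intro l w hw
    rw [← hσ l]
    exact ⟨w, hw, by rw [Matrix.toLin'_apply]⟩
  have hdisj : ∀ l, ∀ x, x ∈ D l → x ∈ ⨆ (j) (_ : j ≠ l), D j → x = 0 := fun l =>
    Submodule.disjoint_def.mp (hD.indep l)
  have hsup : ∀ l j, j ≠ l → D j ≤ ⨆ (j) (_ : j ≠ l), D j := fun l j hj => le_iSup₂_of_le j hj le_rfl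
  let S : Submodule F (Fin n → F) := Submodule.span F ({u, v} : Set (Fin n → F))
  have hS2 : Module.finrank F S ≤ 2 := by
    have := finrank_span_le_card (R := F) ({u, v} : Set (Fin n → F))
    refine le_trans this ?_
    rw [Set.toFinset_card]
    refine le_trans (Fintype.card_le_of_surjective (fun b : Bool => (if b then ⟨u, by simp⟩ else ⟨v, by simp⟩ :
      ({u, v} : Set (Fin n → F)))) ?_) (by simp)
    rintro ⟨x, hx⟩
    rcases hx with rfl | hx
    · exact ⟨true, rfl⟩
    · rw [Set.mem_singleton_iff] at hx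
      subst hx
      exact ⟨false, rfl⟩
  -- for a moved block `l`, every element of `S` is `g w - w` with `w ∈ D l`, and `w ↦ g w - w` is injective on `D l`
  have hkey : ∀ l, σ l ≠ l → (∀ w ∈ D l, (g : Matrix (Fin n) (Fin n) F) *ᵥ w - w = 0 → w = 0) ∧
      ∀ s ∈ S, ∃ w ∈ D l, (g : Matrix (Fin n) (Fin n) F) *ᵥ w - w = s := by
    intro l hl
    have hinj0 : ∀ w ∈ D l, (g : Matrix (Fin n) (Fin n) F) *ᵥ w - w = 0 → w = 0 := by
      intro w hw h0
      have h2 : (g : Matrix (Fin n) (Fin n) F) *ᵥ w = w := sub_eq_zero.mp h0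
      have h3 : w ∈ ⨆ (j) (_ : j ≠ l), D j := by
        have := hsup l (σ l) hl (hmap l w hw)
        rwa [h2] at this
      exact hdisj l w hw h3
    refine ⟨hinj0, ?_⟩
    let φ : (D l) →ₗ[F] S :=
      LinearMap.codRestrict S ((Matrix.toLin' (g : Matrix (Fin n) (Fin n) F) - LinearMap.id).comp (D l).subtype)
        (fun w => by
          simp only [LinearMap.coe_comp, Function.comp_apply, Submodule.subtype_apply, LinearMap.sub_apply,
            Matrix.toLin'_apply, LinearMap.id_apply]
          exact hg w)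
    have hφinj : Function.Injective φ := by
      rw [← LinearMap.ker_eq_bot, LinearMap.ker_eq_bot']
      intro w hw
      have h1 : (g : Matrix (Fin n) (Fin n) F) *ᵥ (w : Fin n → F) - (w : Fin n → F) = 0 := by
        have := congrArg (fun z : S => (z : Fin n → F)) hw
        simpa [φ] using this
      exact Subtype.ext (hinj0 _ w.2 h1)
    have h1 : Module.finrank F (D l) ≤ Module.finrank F S := LinearMap.finrank_le_finrank_of_injective hφinj
    have h2 : Module.finrank F (D l) = Module.finrank F S := by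
      rw [hD.finrank_eq l] at h1 ⊢
      omega
    have hφsurj : Function.Surjective φ :=
      (LinearMap.injective_iff_surjective_of_finrank_eq_finrank h2).mp hφinj
    intro s hs
    obtain ⟨w, hw⟩ := hφsurj ⟨s, hs⟩
    refine ⟨(w : Fin n → F), w.2, ?_⟩
    have := congrArg (fun z : S => (z : Fin n → F)) hw
    simpa [φ] using this
  -- a non-zero vector of `D i`
  obtain ⟨w, hw, hw0⟩ := (Submodule.ne_bot_iff _).mp (asepr_dec_ne_bot D hD i)
  have hs0 : (g : Matrix (Fin n) (Fin n) F) *ᵥ w - w ≠ 0 := fun h => hw0 ((hkey i hi).1 w hw h)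
  have hsS : (g : Matrix (Fin n) (Fin n) F) *ᵥ w - w ∈ S := hg w
  have hgw : (g : Matrix (Fin n) (Fin n) F) *ᵥ w ∈ D (σ i) := hmap i w hw
  -- every other block is fixed
  have hfixed : ∀ l, l ≠ i → l ≠ σ i → σ l = l := by
    intro l hli hlj
    by_contra hl
    obtain ⟨w', hw', hww'⟩ := (hkey l hl).2 _ hsS
    have hgw' : (g : Matrix (Fin n) (Fin n) F) *ᵥ w' ∈ D (σ l) := hmap l w' hw'
    have e1 : (g : Matrix (Fin n) (Fin n) F) *ᵥ w' + w = (g : Matrix (Fin n) (Fin n) F) *ᵥ w + w' :=
      sub_eq_sub_iff_add_eq_add.mp hww'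
    by_cases hσl : σ l = i
    · -- `w' = g w' + w - g w ∈ D i + D i + D (σ i)`, all different from `l`
      have h1 : w' = (g : Matrix (Fin n) (Fin n) F) *ᵥ w' + w - (g : Matrix (Fin n) (Fin n) F) *ᵥ w := by
        rw [e1]; abel
      have h2 : w' ∈ ⨆ (j) (_ : j ≠ l), D j := by
        rw [h1]
        apply Submodule.sub_mem
        · apply Submodule.add_mem
          · rw [hσl] at hgw'
            exact hsup l i (Ne.symm hli) hgw'
          · exact hsup l i (Ne.symm hli) hw
        · exact hsup l (σ i) (Ne.symm hlj) hgw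
      have h3 : w' = 0 := hdisj l w' hw' h2
      apply hs0
      rw [← hww', h3, Matrix.mulVec_zero, sub_zero]
    · -- `w = g w + w' - g w' ∈ D (σ i) + D l + D (σ l)`, all different from `i`
      have h1 : w = (g : Matrix (Fin n) (Fin n) F) *ᵥ w + w' - (g : Matrix (Fin n) (Fin n) F) *ᵥ w' := by
        rw [← e1]; abel
      have h2 : w ∈ ⨆ (j) (_ : j ≠ i), D j := by
        rw [h1]
        apply Submodule.sub_mem
        · apply Submodule.add_mem
          · exact hsup i (σ i) hi hgw
          · exact hsup i l hli hw'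
        · exact hsup i (σ l) hσl hgw'
      exact hw0 (hdisj i w hw h2)
  -- `σ (σ i) = i`
  have hσσ : σ (σ i) = i := by
    by_contra hne
    have h1 : σ (σ i) ≠ σ i := fun h => hi (σ.injective h)
    have h2 := hfixed (σ (σ i)) hne h1
    exact h1 (σ.injective h2)
  ext l
  by_cases hli : l = i
  · rw [hli, Equiv.swap_apply_left]
  · by_cases hlj : l = σ i
    · rw [hlj, Equiv.swap_apply_right, hσσ]
    · rw [Equiv.swap_apply_of_ne_of_ne hli hlj, hfixed l hli hlj]

variable [Fintype F]

open Cfsg.Agent.Lib.Helper28.OQ Cfsg.Agent.Lib.Helper28.OMax Cfsg.Agent.Lib.Helper28.OMax2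
  Cfsg.Agent.Lib.Helper28.OIwa2 Cfsg.Agent.Lib.Helper28.OGenQ Cfsg.Agent.Lib.Helper28.OGen
  Cfsg.Agent.Lib.Helper28.OIwa Cfsg.Agent.S0795 in
/-- `Ω` stabilises no decomposition into blocks of dimension 2 (any finite field, any characteristic) -/
theorem asepr_omega_not_le_dec2 (hn : 7 ≤ n) (Q : QuadraticForm F (Fin n → F))
    (hQ : (QuadraticMap.polarBilin Q).Nondegenerate) {t : ℕ} (D : Fin t → Submodule F (Fin n → F))
    (hD : IsMDecomposition 2 D) : ¬ omegaGL (⇑Q) ≤ decompositionStabilizer D := by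
  classical
  intro hle
  have hq := qf_of_quad Q hQ
  have vf := vfacts_quad hn Q hQ
  have sg := sgGroupQ_quad hn Q hQ
  have hf := hq.sym
  have ht := hD.two_le
  let i₀ : Fin t := ⟨0, by omega⟩
  let i₁ : Fin t := ⟨1, by omega⟩
  have h01 : i₁ ≠ i₀ := by
    intro h
    have := congrArg Fin.val h
    simp [i₀, i₁] at this
  have hbot : ∀ i, D i ≠ ⊥ := asepr_dec_ne_bot D hD
  have htop : D i₀ ≠ ⊤ := by
    intro h
    have h1 := hD.indep i₁
    have h3 : D i₁ ≤ ⨆ (j) (_ : j ≠ i₁), D j := by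
      refine le_trans ?_ (le_iSup₂_of_le i₀ (fun h => h01 h.symm) le_rfl)
      rw [h]
      exact le_top
    have := h1 le_rfl h3
    exact hbot i₁ (le_bot_iff.mp this)
  refine asepra_omega_not_le_stab hn Q hQ (D i₀) (hbot i₀) htop ?_
  apply sg.gen
  intro g u v c hu hv huv hg
  have hgΩ := sg.sg g u v c hu hv huv hg
  have hTx : ∀ x, (g : Matrix (Fin n) (Fin n) F) *ᵥ x =
      x + c • (pf Q u x • v - pf Q v x • u) := by
    intro x
    have := hg x
    unfold Tv at this
    exact this
  have hone : g = 1 → (D i₀).map (Matrix.toLin' (g : Matrix (Fin n) (Fin n) F)) = D i₀ := by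
    intro h1
    rw [h1, Units.val_one, Matrix.toLin'_one, Submodule.map_id]
  have hblk : (D i₀).map (Matrix.toLin' (g : Matrix (Fin n) (Fin n) F)) = D i₀ := by
    by_cases hu0 : u = 0
    · rw [hu0] at hg
      exact hone (isSg_one_of_zero hf hg)
    by_cases hs : v ∈ Submodule.span F {u}
    · obtain ⟨b, rfl⟩ := Submodule.mem_span_singleton.1 hs
      exact hone (isSg_one_of_dep hf hg)
    obtain ⟨z, w, hz, hw, hzu, hzv, hwu, hwv, hzw⟩ := vf.perfect u v hu hv huv hu0 hs
    have hvz : pf Q v z = 0 := by rw [s_symm hf, hzv]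
    have huw : pf Q u w = 0 := by rw [s_symm hf, hwu]
    obtain ⟨h, hh⟩ := sg.ex v z 1 hv hz hvz
    obtain ⟨t', ht'⟩ := sg.ex u w c hu hw huw
    have hhΩ := sg.sg h v z 1 hv hz hvz hh
    have htΩ := sg.sg t' u w c hu hw huw ht'
    have h5 := isSg_commutator' hf (iso_f hq h (sg.iso h hhΩ)) (f_sing hq hu) (f_sing hq hw) huv hzu hwu hwv hzw
      hh ht'
    have e : g = h * t' * h⁻¹ * t'⁻¹ := by
      apply gl_ext
      intro x
      rw [hg x, h5 x]
    obtain ⟨σh, hσh⟩ := hle hhΩ
    obtain ⟨σt, hσt⟩ := hle htΩ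
    obtain ⟨σ, hσ⟩ := hle hgΩ
    have hcomm := asepr_perm_mul D _ _ _ _
      (asepr_perm_mul D _ _ _ _ (asepr_perm_mul D h t' σh σt hσh hσt) (asepr_perm_inv D h σh hσh))
      (asepr_perm_inv D t' σt hσt)
    rw [← e] at hcomm
    have hσeq := asepr_perm_unique D hD g σ _ hσ hcomm
    have hsign : Equiv.Perm.sign σ = 1 := by
      rw [hσeq, map_mul, map_mul, map_mul, map_inv, map_inv,
        mul_right_comm (Equiv.Perm.sign σh) (Equiv.Perm.sign σt) (Equiv.Perm.sign σh)⁻¹, mul_inv_cancel, one_mul,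
        mul_inv_cancel]
    have hfix : σ i₀ = i₀ := by
      by_contra hne
      have hgspan : ∀ x, (g : Matrix (Fin n) (Fin n) F) *ᵥ x - x ∈ Submodule.span F ({u, v} : Set (Fin n → F)) := by
        intro x
        rw [hTx x, add_sub_cancel_left]
        apply Submodule.smul_mem
        apply Submodule.sub_mem
        · exact Submodule.smul_mem _ _ (Submodule.subset_span (by simp))
        · exact Submodule.smul_mem _ _ (Submodule.subset_span (by simp))
      have hsw := asepr_swap_of_moved g u v hgspan D hD σ hσ i₀ hne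
      rw [hsw, Equiv.Perm.sign_swap (Ne.symm hne)] at hsign
      exact absurd hsign (by decide)
    have := hσ i₀
    rw [hfix] at this
    exact this
  intro x
  change x ∈ D i₀ ↔ (g : Matrix (Fin n) (Fin n) F) *ᵥ x ∈ D i₀
  constructor
  · intro hx
    rw [← hblk]
    exact ⟨x, hx, by rw [Matrix.toLin'_apply]⟩
  · intro hx
    rw [← hblk] at hx
    obtain ⟨w, hw, hwx⟩ := hx
    rw [Matrix.toLin'_apply] at hwx
    have : w - x = 0 := asepr_gl_inj g _ (by rw [Matrix.mulVec_sub, hwx, sub_self])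
    rw [sub_eq_zero] at this
    rw [← this]
    exact hw

/-- `Ω` stabilises no decomposition into blocks of dimension `k ≥ 2` (any finite field, any characteristic) -/
theorem asepr_omega_not_le_dec_ge2 (hn : 7 ≤ n) (Q : QuadraticForm F (Fin n → F))
    (hQ : (QuadraticMap.polarBilin Q).Nondegenerate) {t k : ℕ} (D : Fin t → Submodule F (Fin n → F))
    (hD : IsMDecomposition k D) (hk : 2 ≤ k) : ¬ omegaGL (⇑Q) ≤ decompositionStabilizer D := by
  by_cases hk3 : 3 ≤ k
  · exact asepr_omega_not_le_dec hn Q hQ D hD (Or.inr hk3)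
  · have hk2 : k = 2 := by omega
    subst hk2
    exact asepr_omega_not_le_dec2 hn Q hQ D hD

end Cfsg.Agent.Lib.helper23.ASCO
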