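import Mathlib
import Cfsg.Prelude.Def_GeometricClasses
import Cfsg.Agent.Lib.Helper27.ASC.Defs
import Cfsg.Agent.Lib.helper23.ASCO.Defs
import Cfsg.Agent.Lib.Helper28.Ld.Trans
import Cfsg.Agent.Lib.Helper10.ASCOFRSUBcore

/-!
# Pre-landed for the even-dimensional orthogonal rows (S5850 / S5847 / S5871): the isometries stabilising an orthogonal frame of
isometric lines lie in the subfield group of ANY subfield `F₁`, for the basis of frame vectors, and the `F₁`-structure carries a
non-zero multiple of `Q` (signed permutation matrices).  Wrapper of `Helper10.ASCOFRSUBcore` `ascofrsub_final` applied to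
`c⁻¹ • Q` (`c` the common norm of the frame vectors); no parity hypothesis on `n`, no `GramPrime`.
-/

set_option autoImplicit false
set_option linter.unusedVariables false
set_option linter.unusedSectionVars false

namespace Cfsg.Agent.Lib.helper23.ASCO

open Cfsg Cfsg.Geo Cfsg.Agent.Lib.Helper27.ASC
open scoped MatrixGroups Matrix

variable {n : ℕ} {F : Type*} [Field F] [Fintype F]

/-- an orthogonal decomposition for `Q` is one for `a • Q`, `a ≠ 0` -/
theorem asepr_odec_smul (Q : QuadraticForm F (Fin n → F)) (a : F) (ha : a ≠ 0) {t k : ℕ}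
    (D : Fin t → Submodule F (Fin n → F)) (hD : IsOrthogonalMDecomposition (⇑Q) k D) :
    IsOrthogonalMDecomposition (⇑(a • Q)) k D := by
  have hpol : ∀ x y, QuadraticMap.polar (⇑(a • Q)) x y = a * QuadraticMap.polar (⇑Q) x y := by
    intro x y
    simp only [QuadraticMap.polar, smul_apply, smul_eq_mul]
    ring
  refine ⟨⟨hD.decomp.decomp, ?_, ?_⟩, ?_⟩
  · intro i w hw hw0
    obtain ⟨⟨x, hx, hxw⟩, ⟨y, hy, hwy⟩⟩ := hD.decomp.nondegenerate i w hw hw0
    refine ⟨⟨x, hx, ?_⟩, ⟨y, hy, ?_⟩⟩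
    · rw [hpol]; exact mul_ne_zero ha hxw
    · rw [hpol]; exact mul_ne_zero ha hwy
  · intro i j hij u hu v hv
    rw [hpol, hD.decomp.orthogonal i j hij u hu v hv, mul_zero]
  · intro i j
    obtain ⟨e, he⟩ := hD.isometric i j
    refine ⟨e, fun w => ?_⟩
    simp only [smul_apply, smul_eq_mul]
    rw [he w]

/-- FRAMESUB, any parity of `n`: the isometries stabilising an orthogonal frame of isometric lines lie in the subfield group of any
subfield `F₁` (basis = the frame vectors), whose structure carries a non-zero multiple of `Q` -/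
theorem asepr_frame_subfield (h2 : (2 : F) ≠ 0) (Q : QuadraticForm F (Fin n → F)) (F₁ : Subfield F)
    {t : ℕ} (D : Fin t → Submodule F (Fin n → F)) (hD : IsOrthogonalMDecomposition (⇑Q) 1 D) :
    ∃ (B : GL (Fin n) F) (ζ : F), ζ ≠ 0 ∧ IsQuadFormRationalStructure (fun v => ζ * Q v) F₁ B ∧
      decompositionStabilizer D ⊓ isometryGroup F (⇑Q) ≤ subfieldSubgroup F₁ B := by
  have ht : t = n := by
    have := Cfsg.Agent.Lib.Helper28.Ld.card_eq D hD.decomp.decomp
    omega
  subst ht
  obtain ⟨d, c, hc, hdD, hQd⟩ := ascofrsub_vectors h2 Q D hD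
  have hc' : c⁻¹ ≠ 0 := inv_ne_zero hc
  have hD' := asepr_odec_smul Q c⁻¹ hc' D hD
  have hQd' : ∀ i, (c⁻¹ • Q) (d i) = 1 := by
    intro i
    rw [smul_apply, hQd i, smul_eq_mul, inv_mul_cancel₀ hc]
  obtain ⟨B, hrat, hle⟩ := ascofrsub_final h2 (c⁻¹ • Q) F₁ D hD' d 1 one_ne_zero hdD hQd' 1 one_ne_zero
    (by rw [one_pow, one_mul]; exact F₁.one_mem)
  refine ⟨B, c⁻¹, hc', ?_, ?_⟩
  · intro u hu
    have := hrat u hu
    simpa [smul_apply, smul_eq_mul] using this
  · intro g hg
    apply hle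
    refine ⟨hg.1, ?_⟩
    intro u v
    have h1 := hg.2 u v
    show (c⁻¹ • Q) (_ *ᵥ u) = (c⁻¹ • Q) u
    rw [smul_apply, smul_apply]
    exact congrArg (fun z => c⁻¹ • z) h1

end Cfsg.Agent.Lib.helper23.ASCO
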