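import Mathlib
import Cfsg.Prelude.Def_GeometricClasses
import Cfsg.Agent.Lib.Helper27.ASC.Defs
import Cfsg.Agent.Lib.Helper19.ASG.Defs
import Cfsg.Agent.Lib.Helper20.ASGALG

set_option autoImplicit false
set_option linter.unusedVariables false

/-! Project ASG, block C, piece C-SN: Skolem–Noether for `M_k(F)` (wrapper of helper20's `asgalg_aut_inner`). -/

namespace Cfsg.Agent.Lib.Helper19.ASG

open Cfsg Cfsg.Geo Cfsg.Agent.Lib.Helper27.ASC
open scoped MatrixGroups Matrix Kronecker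

variable {n : ℕ} {F : Type*} [Field F]

/-- C-SN (easy-medium) : Skolem–Noether for `M_k(F)`. -/
theorem skolem_noether_matrix {k : ℕ} (α : Matrix (Fin k) (Fin k) F ≃ₐ[F] Matrix (Fin k) (Fin k) F) :
    ∃ c : GL (Fin k) F, ∀ a : Matrix (Fin k) (Fin k) F,
      α a = (c : Matrix (Fin k) (Fin k) F) * a * ((c⁻¹ : GL (Fin k) F) : Matrix (Fin k) (Fin k) F) :=
  Cfsg.Agent.Lib.Helper20.ASGALG.asgalg_aut_inner α.toAlgHom

end Cfsg.Agent.Lib.Helper19.ASG
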