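import Mathlib
import Cfsg.Prelude.Def_GeometricClasses
import Cfsg.Agent.Lib.Helper27.ASC.Defs
import Cfsg.Agent.Lib.Helper19.ASG.Defs

set_option autoImplicit false
set_option linter.unusedVariables false

/-! Project ASG, block C, piece C-STD2: from the intertwining linear equivalence to `(e, P)`. -/

namespace Cfsg.Agent.Lib.Helper19.ASG

open Cfsg Cfsg.Geo Cfsg.Agent.Lib.Helper27.ASC
open scoped MatrixGroups Matrix Kronecker

variable {n : ℕ} {F : Type*} [Field F]

/-- reindexing commutes with `mulVec` -/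
theorem asgcstd2_reindex_mulVec {κ : Type} [Fintype κ] [DecidableEq κ] (e : Fin n ≃ κ) (M : Matrix κ κ F)
    (y : Fin n → F) (p : κ) :
    (Matrix.reindexAlgEquiv F F e.symm M *ᵥ y) (e.symm p) = (M *ᵥ (fun q => y (e.symm q))) p := by
  simp only [Matrix.mulVec, dotProduct, Matrix.coe_reindexAlgEquiv, Matrix.reindex_apply,
    Matrix.submatrix_apply, Equiv.symm_symm, Equiv.apply_symm_apply]
  rw [← Equiv.sum_comp e.symm]
  simp

/-- C-STD2 (medium) : from the intertwining linear equivalence to `(e, P)`. -/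
theorem std_of_basis {k d : ℕ} (ψ : Matrix (Fin k) (Fin k) F →ₐ[F] Matrix (Fin n) (Fin n) F)
    (T : (Fin k × Fin d → F) ≃ₗ[F] (Fin n → F))
    (hT : ∀ (a : Matrix (Fin k) (Fin k) F) (x : Fin k × Fin d → F),
      (ψ a) *ᵥ (T x) = T ((a ⊗ₖ (1 : Matrix (Fin d) (Fin d) F)) *ᵥ x)) :
    ∃ (e : Fin n ≃ Fin k × Fin d) (P : GL (Fin n) F), ∀ a : Matrix (Fin k) (Fin k) F,
      ψ a = (P : Matrix (Fin n) (Fin n) F) *
        Matrix.reindexAlgEquiv F F e.symm (a ⊗ₖ (1 : Matrix (Fin d) (Fin d) F)) *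
        ((P⁻¹ : GL (Fin n) F) : Matrix (Fin n) (Fin n) F) := by
  classical
  have hcard : Fintype.card (Fin n) = Fintype.card (Fin k × Fin d) := by
    have h := T.finrank_eq
    rw [Module.finrank_fintype_fun_eq_card, Module.finrank_fintype_fun_eq_card] at h
    exact h.symm
  let e : Fin n ≃ Fin k × Fin d := Fintype.equivOfCardEq hcard
  let L : (Fin n → F) ≃ₗ[F] (Fin k × Fin d → F) := LinearEquiv.funCongrLeft F F e.symm
  have hL : ∀ (y : Fin n → F) (p : Fin k × Fin d), L y p = y (e.symm p) := fun y p => rfl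
  let S : (Fin n → F) ≃ₗ[F] (Fin n → F) := L.trans T
  let Pm : Matrix (Fin n) (Fin n) F := LinearMap.toMatrix' (S : (Fin n → F) →ₗ[F] (Fin n → F))
  let Pi : Matrix (Fin n) (Fin n) F := LinearMap.toMatrix' (S.symm : (Fin n → F) →ₗ[F] (Fin n → F))
  have h1 : Pm * Pi = 1 := by
    rw [← LinearMap.toMatrix'_comp]
    have : (S : (Fin n → F) →ₗ[F] (Fin n → F)).comp (S.symm : (Fin n → F) →ₗ[F] (Fin n → F)) = LinearMap.id := by
      ext y : 1
      simp
    rw [this, LinearMap.toMatrix'_id]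
  have h2 : Pi * Pm = 1 := by
    rw [← LinearMap.toMatrix'_comp]
    have : (S.symm : (Fin n → F) →ₗ[F] (Fin n → F)).comp (S : (Fin n → F) →ₗ[F] (Fin n → F)) = LinearMap.id := by
      ext y : 1
      simp
    rw [this, LinearMap.toMatrix'_id]
  let P : GL (Fin n) F := ⟨Pm, Pi, h1, h2⟩
  have hPm : ∀ y : Fin n → F, Pm *ᵥ y = T (L y) := by
    intro y
    have : Pm *ᵥ y = (S : (Fin n → F) →ₗ[F] (Fin n → F)) y := by
      rw [← Matrix.toLin'_apply, Matrix.toLin'_toMatrix']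
    rw [this]
    rfl
  refine ⟨e, P, fun a => ?_⟩
  have hPinv : ((P⁻¹ : GL (Fin n) F) : Matrix (Fin n) (Fin n) F) = Pi := rfl
  have hPval : (P : Matrix (Fin n) (Fin n) F) = Pm := rfl
  rw [hPinv, hPval]
  have key : ψ a * Pm = Pm * Matrix.reindexAlgEquiv F F e.symm (a ⊗ₖ (1 : Matrix (Fin d) (Fin d) F)) := by
    apply Matrix.toLin'.injective
    apply LinearMap.ext
    intro y
    rw [Matrix.toLin'_apply, Matrix.toLin'_apply, ← Matrix.mulVec_mulVec, ← Matrix.mulVec_mulVec, hPm, hPm, hT]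
    congr 1
    funext p
    rw [hL]
    exact (asgcstd2_reindex_mulVec e _ y p).symm
  calc ψ a = ψ a * (Pm * Pi) := by rw [h1, mul_one]
    _ = (ψ a * Pm) * Pi := by rw [mul_assoc]
    _ = _ := by rw [key]

end Cfsg.Agent.Lib.Helper19.ASG
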