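import Mathlib
import Cfsg.Prelude.Def_GeometricClasses
import Cfsg.Agent.Lib.Helper27.ASC.Defs
import Cfsg.Agent.Lib.Helper19.ASG.Defs
import Cfsg.Agent.Lib.Helper26.ASGD1.Defs
import Cfsg.Agent.Lib.Helper11.ASGD1INDEP

set_option autoImplicit false
set_option linter.unusedVariables false

/-! Project ASG, block D1, piece UNIQ: uniqueness of the representation with a given central character
(averaged intertwiner over coset representatives modulo scalars). -/

namespace Cfsg.Agent.Lib.Helper19.ASG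

open Cfsg Cfsg.Geo Cfsg.Agent.Lib.Helper27.ASC
open scoped MatrixGroups Matrix

variable {n : ℕ} {F : Type*} [Field F] [Fintype F]

/-- the summand `ρ(y) C y⁻¹` -/
def asgd1uniqPhi {R : Subgroup (GL (Fin n) F)} (ρ : R →* GL (Fin n) F) (C : Matrix (Fin n) (Fin n) F) (y : R) :
    Matrix (Fin n) (Fin n) F :=
  ((ρ y : GL (Fin n) F) : Matrix (Fin n) (Fin n) F) * C *
    (((y : GL (Fin n) F)⁻¹ : GL (Fin n) F) : Matrix (Fin n) (Fin n) F)

/-- the summand only depends on the coset modulo scalars -/
theorem asgd1uniq_phi_coset {R : Subgroup (GL (Fin n) F)} (ρ : R →* GL (Fin n) F)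
    (hρ : ∀ x : R, (x : GL (Fin n) F) ∈ scalars (Fin n) F → ρ x = x) (C : Matrix (Fin n) (Fin n) F)
    (y y' : R) (h : y⁻¹ * y' ∈ (scalars (Fin n) F).subgroupOf R) :
    asgd1uniqPhi ρ C y' = asgd1uniqPhi ρ C y := by
  have hz : ((y⁻¹ * y' : R) : GL (Fin n) F) ∈ scalars (Fin n) F := h
  obtain ⟨c, hc⟩ := (mem_scalars_iff_d1scal _).mp hz
  have hy' : y' = y * (y⁻¹ * y') := by group
  have h1 : ρ y' = ρ y * d1scal c := by
    conv_lhs => rw [hy']
    rw [map_mul, hρ _ hz, hc]
  have h2 : ((y' : R) : GL (Fin n) F)⁻¹ = d1scal c⁻¹ * ((y : R) : GL (Fin n) F)⁻¹ := by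
    have : ((y' : R) : GL (Fin n) F) = (y : GL (Fin n) F) * d1scal c := by
      rw [← hc]
      conv_lhs => rw [hy']
      rfl
    rw [this, mul_inv_rev, d1scal_inv]
  unfold asgd1uniqPhi
  rw [h1, h2, Units.val_mul, Units.val_mul, d1scal_coe, d1scal_coe]
  simp only [Matrix.mul_smul, Matrix.smul_mul, mul_one, one_mul, smul_smul]
  rw [Units.val_inv_eq_inv_val, inv_mul_cancel₀ c.ne_zero, one_smul]

/-- D1-UNIQ -/
theorem d1_uniq {R : Subgroup (GL (Fin n) F)} (hA : AbsIrr R) (hc : ⁅R, R⁆ ≤ scalars (Fin n) F)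
    (ρ : R →* GL (Fin n) F) (hρ : ∀ x : R, (x : GL (Fin n) F) ∈ scalars (Fin n) F → ρ x = x) :
    ∃ T : GL (Fin n) F, ∀ x : R, ρ x * T = T * x := by
  classical
  rcases Nat.eq_zero_or_pos n with hn | hn
  · subst hn
    exact ⟨1, fun x => Subsingleton.elim _ _⟩
  let Z : Subgroup R := (scalars (Fin n) F).subgroupOf R
  have hfinQ : Fintype (R ⧸ Z) := Fintype.ofFinite _
  let TC : Matrix (Fin n) (Fin n) F → Matrix (Fin n) (Fin n) F :=
    fun C => ∑ q : R ⧸ Z, asgd1uniqPhi ρ C q.out
  -- intertwining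
  have hint : ∀ (C : Matrix (Fin n) (Fin n) F) (x : R),
      ((ρ x : GL (Fin n) F) : Matrix (Fin n) (Fin n) F) * TC C =
        TC C * ((x : GL (Fin n) F) : Matrix (Fin n) (Fin n) F) := by
    intro C x
    show ((ρ x : GL (Fin n) F) : Matrix (Fin n) (Fin n) F) * ∑ q : R ⧸ Z, asgd1uniqPhi ρ C q.out =
      (∑ q : R ⧸ Z, asgd1uniqPhi ρ C q.out) * ((x : GL (Fin n) F) : Matrix (Fin n) (Fin n) F)
    rw [Finset.mul_sum, Finset.sum_mul]
    rw [← Equiv.sum_comp (MulAction.toPerm x : Equiv.Perm (R ⧸ Z))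
      (fun q => asgd1uniqPhi ρ C q.out * ((x : GL (Fin n) F) : Matrix (Fin n) (Fin n) F))]
    refine Finset.sum_congr rfl fun q _ => ?_
    have h1 : asgd1uniqPhi ρ C ((MulAction.toPerm x : Equiv.Perm (R ⧸ Z)) q).out =
        asgd1uniqPhi ρ C (x * q.out) := by
      symm
      apply asgd1uniq_phi_coset ρ hρ C
      rw [← QuotientGroup.eq, QuotientGroup.out_eq']
      show x • q = ((x * q.out : R) : R ⧸ Z)
      rw [← smul_eq_mul, ← MulAction.Quotient.mk_smul_out]
    rw [h1]
    unfold asgd1uniqPhi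
    have h2 : (((x * q.out : R) : GL (Fin n) F)⁻¹ : GL (Fin n) F) =
        ((q.out : R) : GL (Fin n) F)⁻¹ * ((x : R) : GL (Fin n) F)⁻¹ := by
      rw [Subgroup.coe_mul, mul_inv_rev]
    rw [map_mul, h2, Units.val_mul, Units.val_mul]
    simp only [mul_assoc]
    rw [← Units.val_mul, inv_mul_cancel, Units.val_one, mul_one]
  -- some `T_C` is non-zero
  have hne : ∃ C, TC C ≠ 0 := by
    by_contra hall
    push Not at hall
    -- linear independence of the inverses of the representatives
    have hli := d1_indep hn hA hc (fun q : R ⧸ Z => ((q.out : R) : GL (Fin n) F)⁻¹)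
      (fun q => R.inv_mem q.out.2) (by
        intro q q' hqq
        rw [inv_inv] at hqq
        have h1 : ((q'.out : R) : GL (Fin n) F)⁻¹ * (q.out : R) ∈ scalars (Fin n) F := by
          have := (scalars_normal (ι := Fin n) (F := F)).conj_mem _ hqq ((q'.out : R) : GL (Fin n) F)⁻¹
          simpa [mul_assoc] using this
        have h2 : (q'.out : R)⁻¹ * q.out ∈ Z := h1
        have := (QuotientGroup.eq (s := Z)).mpr h2
        rw [QuotientGroup.out_eq', QuotientGroup.out_eq'] at this
        exact this.symm)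
    rw [linearIndependent_iff'] at hli
    -- all entries of `ρ (out 1)` vanish
    let q₀ : R ⧸ Z := ((1 : R) : R ⧸ Z)
    have hzero : ∀ a j, ((ρ q₀.out : GL (Fin n) F) : Matrix (Fin n) (Fin n) F) a j = 0 := by
      intro a j
      have hsum : ∑ q : R ⧸ Z, ((ρ q.out : GL (Fin n) F) : Matrix (Fin n) (Fin n) F) a j •
          ((((q.out : R) : GL (Fin n) F)⁻¹ : GL (Fin n) F) : Matrix (Fin n) (Fin n) F) = 0 := by
        ext k b
        have h1 := congrFun (congrFun (hall (Matrix.single j k (1 : F))) a) b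
        simp only [TC, asgd1uniqPhi, Matrix.sum_apply, Matrix.zero_apply] at h1
        rw [Matrix.sum_apply, Matrix.zero_apply]
        rw [← h1]
        refine Finset.sum_congr rfl fun q _ => ?_
        rw [Matrix.smul_apply, smul_eq_mul, Matrix.mul_apply]
        simp only [Matrix.mul_apply, Matrix.single_apply]
        rw [Finset.sum_eq_single k]
        · rw [Finset.sum_eq_single j]
          · simp
          · intro b' _ hb'
            simp only [mul_ite, mul_one, mul_zero, and_true]
            rw [if_neg (fun h => hb' h.symm)]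
          · intro h; exact absurd (Finset.mem_univ _) h
        · intro b' _ hb'
          have : ∑ x : Fin n, ((ρ q.out : GL (Fin n) F) : Matrix (Fin n) (Fin n) F) a x *
              (if j = x ∧ k = b' then (1 : F) else 0) = 0 := by
            apply Finset.sum_eq_zero
            intro x _
            rw [if_neg (fun h => hb' h.2.symm), mul_zero]
          rw [this, zero_mul]
        · intro h; exact absurd (Finset.mem_univ _) h
      exact hli Finset.univ _ hsum q₀ (Finset.mem_univ _)
    have hmat : ((ρ q₀.out : GL (Fin n) F) : Matrix (Fin n) (Fin n) F) = 0 := by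
      ext a j; exact hzero a j
    have h1 : ((ρ q₀.out : GL (Fin n) F) : Matrix (Fin n) (Fin n) F) *
        (((ρ q₀.out)⁻¹ : GL (Fin n) F) : Matrix (Fin n) (Fin n) F) = 1 := by
      rw [← Units.val_mul, mul_inv_cancel, Units.val_one]
    rw [hmat, zero_mul] at h1
    have := congrFun (congrFun h1 ⟨0, hn⟩) ⟨0, hn⟩
    simp at this
  obtain ⟨C, hC⟩ := hne
  -- the kernel of `T_C` is `R`-invariant
  have hker : LinearMap.ker (Matrix.toLin' (TC C)) = ⊥ := by
    rcases hA.1 (LinearMap.ker (Matrix.toLin' (TC C))) (by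
      rintro s ⟨g, hg, rfl⟩ _ ⟨v, hv, rfl⟩
      rw [SetLike.mem_coe, LinearMap.mem_ker] at hv
      rw [LinearMap.mem_ker, Matrix.toLin'_apply, Matrix.toLin'_apply, Matrix.mulVec_mulVec]
      have := hint C ⟨g, hg⟩
      rw [← this, ← Matrix.mulVec_mulVec]
      rw [Matrix.toLin'_apply] at hv
      rw [hv, Matrix.mulVec_zero]) with h | h
    · exact h
    · exfalso
      apply hC
      apply Matrix.toLin'.injective
      rw [map_zero]
      exact LinearMap.ker_eq_top.mp h
  have hdet : IsUnit (TC C).det := by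
    have hinj : Function.Injective (Matrix.toLin' (TC C)) := LinearMap.ker_eq_bot.mp hker
    have hinj' : Function.Injective (TC C).mulVec := by
      intro v w hvw
      apply hinj
      rw [Matrix.toLin'_apply, Matrix.toLin'_apply]
      exact hvw
    exact (Matrix.isUnit_iff_isUnit_det _).mp (Matrix.mulVec_injective_iff_isUnit.mp hinj')
  refine ⟨Matrix.GeneralLinearGroup.mk'' (TC C) hdet, fun x => ?_⟩
  apply Units.ext
  rw [Units.val_mul, Units.val_mul]
  exact hint C x

end Cfsg.Agent.Lib.Helper19.ASG
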