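import Mathlib
import Cfsg.Prelude.Def_GeometricClasses
import Cfsg.Agent.Lib.Helper27.ASC.Defs
import Cfsg.Agent.Lib.Helper19.ASG.Defs
import Cfsg.Agent.Lib.Helper26.ASGD1.Defs
import Cfsg.Agent.Lib.Helper11.ASGD1UNIQ
import Cfsg.Agent.Lib.Helper28.UHerm

set_option autoImplicit false
set_option linter.unusedVariables false

/-! Project ASG, block D1, piece UNITG (core, with `d1_herm` as a hypothesis): `ρ(x) = σ(x⁻¹)ᵀ` agrees with the identity on
the scalars of `R`; `d1_uniq` gives an invertible `σ`-sesquilinear Gram matrix fixed by `R`. -/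

namespace Cfsg.Agent.Lib.Helper19.ASG

open Cfsg Cfsg.Geo Cfsg.Agent.Lib.Helper27.ASC
open scoped MatrixGroups Matrix

variable {n : ℕ} {F : Type*} [Field F] [Fintype F]

theorem asgd1unitg_map_mul (σ : F ≃+* F) (M N : Matrix (Fin n) (Fin n) F) :
    (M * N).map σ = M.map σ * N.map σ :=
  map_mul (σ.mapMatrix (m := Fin n)) M N

theorem asgd1unitg_map_one (σ : F ≃+* F) : (1 : Matrix (Fin n) (Fin n) F).map σ = 1 :=
  map_one (σ.mapMatrix (m := Fin n))

/-- `g ↦ (σ(g)⁻¹)ᵀ` as an element of `GL_n(F)` -/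
def asgd1unitgTI (σ : F ≃+* F) (g : GL (Fin n) F) : GL (Fin n) F where
  val := (((g⁻¹ : GL (Fin n) F) : Matrix (Fin n) (Fin n) F).map σ)ᵀ
  inv := ((g : Matrix (Fin n) (Fin n) F).map σ)ᵀ
  val_inv := by
    rw [← Matrix.transpose_mul, ← asgd1unitg_map_mul, ← Units.val_mul, mul_inv_cancel, Units.val_one,
      asgd1unitg_map_one, Matrix.transpose_one]
  inv_val := by
    rw [← Matrix.transpose_mul, ← asgd1unitg_map_mul, ← Units.val_mul, inv_mul_cancel, Units.val_one,
      asgd1unitg_map_one, Matrix.transpose_one]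

theorem asgd1unitgTI_val (σ : F ≃+* F) (g : GL (Fin n) F) :
    ((asgd1unitgTI σ g : GL (Fin n) F) : Matrix (Fin n) (Fin n) F) =
      (((g⁻¹ : GL (Fin n) F) : Matrix (Fin n) (Fin n) F).map σ)ᵀ := rfl

theorem asgd1unitgTI_mul (σ : F ≃+* F) (g h : GL (Fin n) F) :
    asgd1unitgTI σ (g * h) = asgd1unitgTI σ g * asgd1unitgTI σ h := by
  apply Units.ext
  rw [Units.val_mul, asgd1unitgTI_val, asgd1unitgTI_val, asgd1unitgTI_val, mul_inv_rev, Units.val_mul,
    asgd1unitg_map_mul, Matrix.transpose_mul]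

/-- the twisted dual representation -/
def asgd1unitgRho (σ : F ≃+* F) (R : Subgroup (GL (Fin n) F)) : R →* GL (Fin n) F :=
  MonoidHom.mk' (fun x => asgd1unitgTI σ (x : GL (Fin n) F)) (fun x y => by
    rw [Subgroup.coe_mul, asgd1unitgTI_mul])

/-- UNITG with `d1_herm` as a hypothesis -/
theorem asgd1unitg_core {r k : ℕ} {R : Subgroup (GL (Fin n) F)}
    (hherm : ∀ (σ : F ≃+* F), σ ≠ RingEquiv.refl F → (∀ a : F, σ (σ a) = a) →
      ∀ A : Matrix (Fin n) (Fin n) F, IsUnit A.det →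
      (∀ x ∈ R, (x : Matrix (Fin n) (Fin n) F)ᵀ * A * (x : Matrix (Fin n) (Fin n) F).map σ = A) →
      ∃ f : (Fin n → F) → (Fin n → F) → F, IsUnitaryForm σ f ∧ FixesForm (matrixSet R) f)
    (hR : D1Core r k R) (q₀ : ℕ)
    (hq : Fintype.card F = q₀ ^ 2) (h : ∀ c : Fˣ, c ^ k = 1 → c ^ (q₀ + 1) = 1) :
    ∃ (σ : F ≃+* F) (f : (Fin n → F) → (Fin n → F) → F), IsUnitaryForm σ f ∧ FixesForm (matrixSet R) f := by
  classical
  obtain ⟨σ, hσq, hσU⟩ := Cfsg.Agent.Lib.Helper28.UHerm.herm_unitary hq 0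
  have hσ1 : σ ≠ RingEquiv.refl F := hσU.ne_refl
  have hσ2 : ∀ a : F, σ (σ a) = a := hσU.involutive
  rcases Nat.eq_zero_or_pos n with hn | hn
  · subst hn
    refine ⟨σ, fun _ _ => 0, ⟨hσ1, hσ2, fun _ _ _ => by simp, fun _ _ _ => by simp, fun _ _ => by simp, ?_⟩,
      fun _ _ _ _ => rfl⟩
    intro v hv
    exact absurd (Subsingleton.elim v 0) hv
  refine ⟨σ, ?_⟩
  -- the twisted dual agrees with the identity on scalars of `R`
  have hρ : ∀ x : R, (x : GL (Fin n) F) ∈ scalars (Fin n) F → asgd1unitgRho σ R x = x := by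
    intro x hx
    obtain ⟨c, hc⟩ := (mem_scalars_iff_d1scal _).mp hx
    have hck : c ^ k = 1 := by
      apply d1scal_injective (F := F) hn
      rw [d1scal_pow, ← hc, hR.pow _ x.2, d1scal_one]
    have hcq : c ^ (q₀ + 1) = 1 := h c hck
    have hσc : σ ((c⁻¹ : Fˣ) : F) = (c : F) := by
      rw [hσq]
      have h1 : ((c : F)) ^ (q₀ + 1) = 1 := by
        have := congrArg (fun u : Fˣ => (u : F)) hcq
        simpa using this
      have hc0 : (c : F) ≠ 0 := c.ne_zero
      rw [Units.val_inv_eq_inv_val, inv_pow]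
      rw [pow_succ] at h1
      field_simp
      exact h1.symm
    apply Units.ext
    show ((asgd1unitgTI σ (x : GL (Fin n) F) : GL (Fin n) F) : Matrix (Fin n) (Fin n) F) = _
    rw [asgd1unitgTI_val, hc, ← d1scal_inv, d1scal_coe, d1scal_coe]
    ext i j
    simp only [Matrix.transpose_apply, Matrix.map_apply, Matrix.smul_apply, Matrix.one_apply, smul_eq_mul]
    by_cases hij : j = i
    · subst hij
      rw [if_pos rfl, mul_one, mul_one, hσc]
    · rw [if_neg hij, if_neg (Ne.symm hij), mul_zero, mul_zero, map_zero]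
  obtain ⟨T, hT⟩ := d1_uniq hR.absIrr hR.comm (asgd1unitgRho σ R) hρ
  -- the Gram matrix
  have hTx : ∀ x ∈ R, (((x : GL (Fin n) F) : Matrix (Fin n) (Fin n) F).map σ)ᵀ * (T : Matrix (Fin n) (Fin n) F) *
      (x : Matrix (Fin n) (Fin n) F) = (T : Matrix (Fin n) (Fin n) F) := by
    intro x hx
    have h1 := hT ⟨x⁻¹, R.inv_mem hx⟩
    have h2 := congrArg (fun g : GL (Fin n) F => (g : Matrix (Fin n) (Fin n) F)) h1
    simp only [Units.val_mul] at h2
    have h3 : ((asgd1unitgRho σ R ⟨x⁻¹, R.inv_mem hx⟩ : GL (Fin n) F) : Matrix (Fin n) (Fin n) F) =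
        (((x : GL (Fin n) F) : Matrix (Fin n) (Fin n) F).map σ)ᵀ := by
      show ((asgd1unitgTI σ x⁻¹ : GL (Fin n) F) : Matrix (Fin n) (Fin n) F) = _
      rw [asgd1unitgTI_val, inv_inv]
    rw [h3] at h2
    rw [h2, mul_assoc]
    show (T : Matrix (Fin n) (Fin n) F) * (((x⁻¹ : GL (Fin n) F) : Matrix (Fin n) (Fin n) F) *
      (x : Matrix (Fin n) (Fin n) F)) = _
    rw [← Units.val_mul, inv_mul_cancel, Units.val_one, mul_one]
  apply hherm σ hσ1 hσ2 ((T : Matrix (Fin n) (Fin n) F).map σ)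
  · have hdet : ((T : Matrix (Fin n) (Fin n) F).map σ).det = σ ((T : Matrix (Fin n) (Fin n) F).det) := by
      have := RingHom.map_det (σ : F →+* F) (T : Matrix (Fin n) (Fin n) F)
      exact this.symm
    rw [hdet]
    have hu : IsUnit (T : Matrix (Fin n) (Fin n) F).det :=
      (Matrix.isUnit_iff_isUnit_det _).mp ⟨T, rfl⟩
    exact hu.map σ
  · intro x hx
    have h1 := congrArg (fun M : Matrix (Fin n) (Fin n) F => M.map σ) (hTx x hx)
    simp only [asgd1unitg_map_mul] at h1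
    rw [← h1]
    congr 2
    ext i j
    simp [Matrix.map_apply, Matrix.transpose_apply, hσ2]

end Cfsg.Agent.Lib.Helper19.ASG
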