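import Mathlib
import Cfsg.Prelude.Def_GeometricClasses
import Cfsg.Agent.Lib.Helper27.ASC.Defs
import Cfsg.Agent.Lib.Helper19.ASG.Defs
import Cfsg.Agent.Lib.Helper26.ASGD1.Defs
import Cfsg.Agent.Lib.Helper11.ASGD1UNITGcore
import Cfsg.Agent.Lib.Helper29.ASGD1HERM

set_option autoImplicit false
set_option linter.unusedVariables false

/-! Project ASG, block D1, piece UNITG (verbatim wrapper): `asgd1unitg_core` + helper29's `d1_herm`. -/

namespace Cfsg.Agent.Lib.Helper19.ASG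

open Cfsg Cfsg.Geo Cfsg.Agent.Lib.Helper27.ASC
open scoped MatrixGroups Matrix

variable {n : ℕ} {F : Type*} [Field F] [Fintype F]

/-- D1-UNITG : `ρ(x) = σ(x⁻¹)ᵀ` agrees with the identity on the scalars of `R`; `d1_uniq`, `d1_herm` -/
theorem d1_unitary {r k : ℕ} {R : Subgroup (GL (Fin n) F)} (hR : D1Core r k R) (q₀ : ℕ)
    (hq : Fintype.card F = q₀ ^ 2) (h : ∀ c : Fˣ, c ^ k = 1 → c ^ (q₀ + 1) = 1) :
    ∃ (σ : F ≃+* F) (f : (Fin n → F) → (Fin n → F) → F), IsUnitaryForm σ f ∧ FixesForm (matrixSet R) f :=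
  asgd1unitg_core (fun σ hσ1 hσ A hAu hfix => d1_herm hR.absIrr σ hσ1 hσ A hAu hfix) hR q₀ hq h

end Cfsg.Agent.Lib.Helper19.ASG
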