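import Mathlib
import Cfsg.Prelude.Def_GeometricClasses
import Cfsg.Agent.Lib.Helper27.ASC.Defs
import Cfsg.Agent.Lib.Helper19.ASG.Defs
import Cfsg.Agent.Lib.Helper18.ASCSYMP

set_option autoImplicit false
set_option linter.unusedVariables false

/-! Project ASG, piece D2S-SYMP: wrapper around helper18's pre-landed `Helper27.ASC.symp_of_fixes`. -/

namespace Cfsg.Agent.Lib.Helper19.ASG

open Cfsg Cfsg.Geo Cfsg.Agent.Lib.Helper27.ASC
open scoped MatrixGroups Matrix

variable {n : ℕ} {F : Type*} [Field F] [Fintype F]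

/-- D2S-SYMP : the analogue of `unit_of_fixes` for symplectic forms -/
theorem symp_of_fixes {H P : Subgroup (GL (Fin n) F)} (hP : NormalIn P H) (hA : AbsIrr P)
    (f : (Fin n → F) → (Fin n → F) → F) (hf : IsSymplecticForm f)
    (hfix : FixesForm (matrixSet P) f) : H ≤ similarityGroup f :=
  Cfsg.Agent.Lib.Helper27.ASC.symp_of_fixes hP hA f hf hfix

end Cfsg.Agent.Lib.Helper19.ASG
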