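import Mathlib
import Cfsg.Prelude.Def_GeometricClasses
import Cfsg.Agent.Lib.Helper27.ASC.Defs
import Cfsg.Agent.Lib.Helper19.ASG.Defs
import Cfsg.Agent.Lib.Helper9.ASGD2T.Defs

set_option autoImplicit false
set_option linter.unusedVariables false

/-! Project ASG, block D2T, piece TNORM (core): transport of TSTD (`wreath_std`, here a hypothesis) along `e`, `B`. -/

namespace Cfsg.Agent.Lib.Helper19.ASG

open Cfsg Cfsg.Geo Cfsg.Agent.Lib.Helper27.ASC
open scoped MatrixGroups Matrix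

variable {n : ℕ} {F : Type*} [Field F]

/-- TNORM with `wreath_std` as a hypothesis -/
theorem asgd2ttnorm_core {m t : ℕ}
    (hstd : ∀ (u : GL (Fin t → Fin m) F) (π : Equiv.Perm (Fin t)),
      (∀ (i : Fin t) (a : Matrix (Fin m) (Fin m) F), ∃ a' : Matrix (Fin m) (Fin m) F,
        (u : Matrix (Fin t → Fin m) (Fin t → Fin m) F) * ptMat (Pi.mulSingle i a) *
          ((u⁻¹ : GL (Fin t → Fin m) F) : Matrix (Fin t → Fin m) (Fin t → Fin m) F) =
            ptMat (Pi.mulSingle (π i) a')) → u ∈ tensorWreathStandard m t F)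
    (e : Fin n ≃ (Fin t → Fin m)) (B : GL (Fin n) F)
    (h : GL (Fin n) F) (π : Equiv.Perm (Fin t))
    (hperm : ∀ (i : Fin t) (a : Matrix (Fin m) (Fin m) F), ∃ a' : Matrix (Fin m) (Fin m) F,
      (h : Matrix (Fin n) (Fin n) F) *
          ((B : Matrix (Fin n) (Fin n) F) * Matrix.reindex e.symm e.symm (ptMat (Pi.mulSingle i a)) *
            ((B⁻¹ : GL (Fin n) F) : Matrix (Fin n) (Fin n) F)) *
          ((h⁻¹ : GL (Fin n) F) : Matrix (Fin n) (Fin n) F) =
        (B : Matrix (Fin n) (Fin n) F) * Matrix.reindex e.symm e.symm (ptMat (Pi.mulSingle (π i) a')) *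
          ((B⁻¹ : GL (Fin n) F) : Matrix (Fin n) (Fin n) F)) :
    h ∈ tensorWreathSubgroup m t e B := by
  classical
  let R : Matrix (Fin t → Fin m) (Fin t → Fin m) F ≃ₐ[F] Matrix (Fin n) (Fin n) F :=
    Matrix.reindexAlgEquiv F F e.symm
  have hR : ∀ A, Matrix.reindex e.symm e.symm A = R A := fun A => rfl
  let v : GL (Fin n) F := B⁻¹ * h * B
  let u : GL (Fin t → Fin m) F := (glReindex e.symm).symm v
  have huv : glReindex e.symm u = v := (glReindex e.symm).apply_symm_apply v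
  have hcoe : ∀ w : GL (Fin t → Fin m) F,
      ((glReindex e.symm w : GL (Fin n) F) : Matrix (Fin n) (Fin n) F) =
        R (w : Matrix (Fin t → Fin m) (Fin t → Fin m) F) := fun w => rfl
  have hBB : ((B⁻¹ : GL (Fin n) F) : Matrix (Fin n) (Fin n) F) * (B : Matrix (Fin n) (Fin n) F) = 1 := by
    rw [← Units.val_mul, inv_mul_cancel, Units.val_one]
  have hBB' : (B : Matrix (Fin n) (Fin n) F) * ((B⁻¹ : GL (Fin n) F) : Matrix (Fin n) (Fin n) F) = 1 := by
    rw [← Units.val_mul, mul_inv_cancel, Units.val_one]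
  have hu : u ∈ tensorWreathStandard m t F := by
    apply hstd u π
    intro i a
    obtain ⟨a', ha'⟩ := hperm i a
    refine ⟨a', ?_⟩
    apply R.injective
    rw [map_mul, map_mul, ← hcoe u, ← hcoe u⁻¹, map_inv, huv]
    show ((B⁻¹ * h * B : GL (Fin n) F) : Matrix (Fin n) (Fin n) F) * R (ptMat (Pi.mulSingle i a)) *
        (((B⁻¹ * h * B)⁻¹ : GL (Fin n) F) : Matrix (Fin n) (Fin n) F) = R (ptMat (Pi.mulSingle (π i) a'))
    rw [mul_inv_rev, mul_inv_rev, inv_inv, Units.val_mul, Units.val_mul, Units.val_mul, Units.val_mul]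
    rw [hR, hR] at ha'
    calc ((B⁻¹ : GL (Fin n) F) : Matrix (Fin n) (Fin n) F) * (h : Matrix (Fin n) (Fin n) F) *
          (B : Matrix (Fin n) (Fin n) F) * R (ptMat (Pi.mulSingle i a)) *
          (((B⁻¹ : GL (Fin n) F) : Matrix (Fin n) (Fin n) F) *
            (((h⁻¹ : GL (Fin n) F) : Matrix (Fin n) (Fin n) F) * (B : Matrix (Fin n) (Fin n) F)))
        = ((B⁻¹ : GL (Fin n) F) : Matrix (Fin n) (Fin n) F) *
            ((h : Matrix (Fin n) (Fin n) F) *
              ((B : Matrix (Fin n) (Fin n) F) * R (ptMat (Pi.mulSingle i a)) *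
                ((B⁻¹ : GL (Fin n) F) : Matrix (Fin n) (Fin n) F)) *
              ((h⁻¹ : GL (Fin n) F) : Matrix (Fin n) (Fin n) F)) * (B : Matrix (Fin n) (Fin n) F) := by
          simp only [mul_assoc]
      _ = ((B⁻¹ : GL (Fin n) F) : Matrix (Fin n) (Fin n) F) *
            ((B : Matrix (Fin n) (Fin n) F) * R (ptMat (Pi.mulSingle (π i) a')) *
                ((B⁻¹ : GL (Fin n) F) : Matrix (Fin n) (Fin n) F)) * (B : Matrix (Fin n) (Fin n) F) := by
          rw [ha']
      _ = (((B⁻¹ : GL (Fin n) F) : Matrix (Fin n) (Fin n) F) * (B : Matrix (Fin n) (Fin n) F)) *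
            R (ptMat (Pi.mulSingle (π i) a')) *
            (((B⁻¹ : GL (Fin n) F) : Matrix (Fin n) (Fin n) F) * (B : Matrix (Fin n) (Fin n) F)) := by
          simp only [mul_assoc]
      _ = R (ptMat (Pi.mulSingle (π i) a')) := by rw [hBB, one_mul, mul_one]
  refine ⟨glReindex e.symm u, ⟨u, hu, rfl⟩, ?_⟩
  show B * glReindex e.symm u * B⁻¹ = h
  rw [huv]
  show B * (B⁻¹ * h * B) * B⁻¹ = h
  group

end Cfsg.Agent.Lib.Helper19.ASG
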