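import Mathlib
import Cfsg.Prelude.Def_GeometricClasses
import Cfsg.Agent.Lib.Helper27.ASC.Defs
import Cfsg.Agent.Lib.Helper19.ASG.Defs
import Cfsg.Agent.Lib.Helper9.ASGD2T.Defs
import Cfsg.Agent.Lib.Helper11.ASGD2TTNORMcore
import Cfsg.Agent.Lib.helper23.ASGD2TTSTD

set_option autoImplicit false
set_option linter.unusedVariables false

/-! Project ASG, block D2T, piece TNORM: transport of TSTD along `e` and `B` (verbatim wrapper). -/

namespace Cfsg.Agent.Lib.Helper19.ASG

open Cfsg Cfsg.Geo Cfsg.Agent.Lib.Helper27.ASC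
open scoped MatrixGroups Matrix

variable {n : ℕ} {F : Type*} [Field F]

/-- D2T-TNORM : transport of TSTD along `e` and `B` -/
theorem wreath_of_permutes {m t : ℕ} (ht : 0 < t) (e : Fin n ≃ (Fin t → Fin m)) (B : GL (Fin n) F)
    (h : GL (Fin n) F) (π : Equiv.Perm (Fin t))
    (hperm : ∀ (i : Fin t) (a : Matrix (Fin m) (Fin m) F), ∃ a' : Matrix (Fin m) (Fin m) F,
      (h : Matrix (Fin n) (Fin n) F) *
          ((B : Matrix (Fin n) (Fin n) F) * Matrix.reindex e.symm e.symm (ptMat (Pi.mulSingle i a)) *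
            ((B⁻¹ : GL (Fin n) F) : Matrix (Fin n) (Fin n) F)) *
          ((h⁻¹ : GL (Fin n) F) : Matrix (Fin n) (Fin n) F) =
        (B : Matrix (Fin n) (Fin n) F) * Matrix.reindex e.symm e.symm (ptMat (Pi.mulSingle (π i) a')) *
          ((B⁻¹ : GL (Fin n) F) : Matrix (Fin n) (Fin n) F)) :
    h ∈ tensorWreathSubgroup m t e B :=
  asgd2ttnorm_core (fun u π' hu => wreath_std ht u π' hu) e B h π hperm

end Cfsg.Agent.Lib.Helper19.ASG
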