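import Mathlib
import Cfsg.Prelude.Def_GeometricClasses
import Cfsg.Agent.Lib.Helper27.ASC.Defs
import Cfsg.Agent.Lib.Helper19.ASG.Defs
import Cfsg.Agent.Lib.Helper9.ASGD2T.Defs
import Cfsg.Agent.Lib.Helper11.ASGD2TPTMUL
import Cfsg.Agent.Lib.Helper11.ASGCSTD2

set_option autoImplicit false
set_option linter.unusedVariables false

/-! Project ASG, block D2T, piece TWO: tensor factors of dimension 2; the tensor power of the determinant form. -/

namespace Cfsg.Agent.Lib.Helper19.ASG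

open Cfsg Cfsg.Geo Cfsg.Agent.Lib.Helper27.ASC
open scoped MatrixGroups Matrix

variable {n : ℕ} {F : Type*} [Field F]

/-- the Gram matrix of the determinant form on `F²` -/
def asgd2ttwoJ (F : Type*) [Field F] : Matrix (Fin 2) (Fin 2) F := !![0, 1; -1, 0]

/-- the Gram matrix of its `t`-th tensor power -/
def asgd2ttwoG (F : Type*) [Field F] (t : ℕ) : Matrix (Fin t → Fin 2) (Fin t → Fin 2) F :=
  ptMat (fun _ => asgd2ttwoJ F)

theorem asgd2ttwo_J_skew (a b : Fin 2) : asgd2ttwoJ F b a = - asgd2ttwoJ F a b := by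
  fin_cases a <;> fin_cases b <;> simp [asgd2ttwoJ]

theorem asgd2ttwo_J_diag (a : Fin 2) : asgd2ttwoJ F a a = 0 := by
  fin_cases a <;> simp [asgd2ttwoJ]

theorem asgd2ttwo_J_inv : (- asgd2ttwoJ F) * asgd2ttwoJ F = 1 := by
  ext a b
  fin_cases a <;> fin_cases b <;> simp [asgd2ttwoJ, Matrix.mul_apply, Fin.sum_univ_two]

theorem asgd2ttwo_J_det (a : Matrix (Fin 2) (Fin 2) F) (ha : a.det = 1) :
    aᵀ * asgd2ttwoJ F * a = asgd2ttwoJ F := by
  rw [Matrix.det_fin_two] at ha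
  ext i j
  fin_cases i <;> fin_cases j <;>
    simp [asgd2ttwoJ, Matrix.mul_apply, Fin.sum_univ_two] <;>
    first
      | ring1
      | linear_combination ha
      | linear_combination -ha

theorem asgd2ttwo_G_swap (t : ℕ) (x y : Fin t → Fin 2) :
    asgd2ttwoG F t y x = (-1) ^ t * asgd2ttwoG F t x y := by
  unfold asgd2ttwoG
  rw [ptMat_apply, ptMat_apply]
  have : ∀ i : Fin t, asgd2ttwoJ F (y i) (x i) = (-1) * asgd2ttwoJ F (x i) (y i) := by
    intro i; rw [asgd2ttwo_J_skew]; ring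
  rw [Finset.prod_congr rfl (fun i _ => this i), Finset.prod_mul_distrib, Finset.prod_const, Finset.card_univ,
    Fintype.card_fin]

theorem asgd2ttwo_G_diag {t : ℕ} (ht : 0 < t) (x : Fin t → Fin 2) : asgd2ttwoG F t x x = 0 := by
  unfold asgd2ttwoG
  rw [ptMat_apply]
  exact Finset.prod_eq_zero (Finset.mem_univ (⟨0, ht⟩ : Fin t)) (asgd2ttwo_J_diag _)

theorem asgd2ttwo_G_transpose (t : ℕ) : (asgd2ttwoG F t)ᵀ = ((-1 : F) ^ t) • asgd2ttwoG F t := by
  ext x y
  rw [Matrix.transpose_apply, Matrix.smul_apply, smul_eq_mul, asgd2ttwo_G_swap]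

theorem asgd2ttwo_G_inv (t : ℕ) : ptMat (fun _ : Fin t => - asgd2ttwoJ F) * asgd2ttwoG F t = 1 := by
  unfold asgd2ttwoG
  rw [← ptMat_mul]
  have : ((fun _ : Fin t => - asgd2ttwoJ F) * fun _ : Fin t => asgd2ttwoJ F) = 1 := by
    funext i
    exact asgd2ttwo_J_inv
  rw [this, ptMat_one]

theorem asgd2ttwo_ptMat_transpose {m t : ℕ} (c : Fin t → Matrix (Fin m) (Fin m) F) :
    (ptMat c)ᵀ = ptMat (fun j => (c j)ᵀ) := by
  ext x y
  rw [Matrix.transpose_apply, ptMat_apply, ptMat_apply]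
  rfl

/-- the factor embeddings of determinant one matrices preserve the Gram matrix -/
theorem asgd2ttwo_G_inv_of_det {t : ℕ} (i : Fin t) (a : Matrix (Fin 2) (Fin 2) F) (ha : a.det = 1) :
    (ptMat (Pi.mulSingle i a))ᵀ * asgd2ttwoG F t * ptMat (Pi.mulSingle i a) = asgd2ttwoG F t := by
  classical
  unfold asgd2ttwoG
  rw [asgd2ttwo_ptMat_transpose, ← ptMat_mul, ← ptMat_mul]
  congr 1
  funext j
  simp only [Pi.mul_apply]
  by_cases hj : j = i
  · subst hj
    rw [Pi.mulSingle_eq_same]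
    exact asgd2ttwo_J_det a ha
  · rw [Pi.mulSingle_eq_of_ne hj]
    simp

/-- the form in standard coordinates -/
def asgd2ttwoF0 (F : Type*) [Field F] (t : ℕ) (x y : (Fin t → Fin 2) → F) : F :=
  x ⬝ᵥ (asgd2ttwoG F t *ᵥ y)

theorem asgd2ttwo_F0_swap (t : ℕ) (x y : (Fin t → Fin 2) → F) :
    asgd2ttwoF0 F t y x = (-1) ^ t * asgd2ttwoF0 F t x y := by
  unfold asgd2ttwoF0
  rw [Matrix.dotProduct_mulVec, ← Matrix.mulVec_transpose, dotProduct_comm, asgd2ttwo_G_transpose,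
    Matrix.smul_mulVec, dotProduct_smul, smul_eq_mul]

theorem asgd2ttwo_F0_inv {t : ℕ} (A : Matrix (Fin t → Fin 2) (Fin t → Fin 2) F)
    (hA : Aᵀ * asgd2ttwoG F t * A = asgd2ttwoG F t) (x y : (Fin t → Fin 2) → F) :
    asgd2ttwoF0 F t (A *ᵥ x) (A *ᵥ y) = asgd2ttwoF0 F t x y := by
  unfold asgd2ttwoF0
  rw [dotProduct_comm, Matrix.dotProduct_mulVec, dotProduct_comm, ← Matrix.mulVec_transpose,
    Matrix.mulVec_mulVec, Matrix.mulVec_mulVec, hA]

theorem asgd2ttwo_F0_alt {t : ℕ} (ht : 0 < t) (hs : ((-1 : F)) ^ t = -1) (x : (Fin t → Fin 2) → F) :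
    asgd2ttwoF0 F t x x = 0 := by
  classical
  unfold asgd2ttwoF0
  simp only [dotProduct, Matrix.mulVec, Finset.mul_sum]
  rw [← Finset.sum_product']
  apply Finset.sum_involution (fun a _ => Prod.swap a)
  · intro a _
    simp only [Prod.fst_swap, Prod.snd_swap]
    rw [asgd2ttwo_G_swap t a.1 a.2, hs]
    ring
  · intro a _ hne hsw
    apply hne
    have h12 : a.2 = a.1 := congrArg Prod.fst hsw
    rw [h12, asgd2ttwo_G_diag ht]
    ring
  · intro a _
    exact Finset.mem_univ _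
  · intro a _
    exact Prod.swap_swap a

theorem asgd2ttwo_G_mulVec_ne {t : ℕ} (y : (Fin t → Fin 2) → F) (hy : y ≠ 0) : asgd2ttwoG F t *ᵥ y ≠ 0 := by
  intro h
  apply hy
  have := congrArg (fun z => ptMat (fun _ : Fin t => - asgd2ttwoJ F) *ᵥ z) h
  simp only [Matrix.mulVec_mulVec, asgd2ttwo_G_inv, Matrix.one_mulVec, Matrix.mulVec_zero] at this
  exact this

/-- the coordinate change `u ↦ (B⁻¹ u) ∘ e.symm` -/
def asgd2ttwoTau {κ : Type} (e : Fin n ≃ κ) (B : GL (Fin n) F) (u : Fin n → F) : κ → F :=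
  fun p => (((B⁻¹ : GL (Fin n) F) : Matrix (Fin n) (Fin n) F) *ᵥ u) (e.symm p)

theorem asgd2ttwo_tau_add {κ : Type} (e : Fin n ≃ κ) (B : GL (Fin n) F) (u v : Fin n → F) :
    asgd2ttwoTau e B (u + v) = asgd2ttwoTau e B u + asgd2ttwoTau e B v := by
  funext p
  simp [asgd2ttwoTau, Matrix.mulVec_add]

theorem asgd2ttwo_tau_smul {κ : Type} (e : Fin n ≃ κ) (B : GL (Fin n) F) (c : F) (u : Fin n → F) :
    asgd2ttwoTau e B (c • u) = c • asgd2ttwoTau e B u := by
  funext p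
  simp [asgd2ttwoTau, Matrix.mulVec_smul]

theorem asgd2ttwo_tau_inj {κ : Type} (e : Fin n ≃ κ) (B : GL (Fin n) F) (u : Fin n → F)
    (h : asgd2ttwoTau e B u = 0) : u = 0 := by
  have h1 : ((B⁻¹ : GL (Fin n) F) : Matrix (Fin n) (Fin n) F) *ᵥ u = 0 := by
    funext i
    have := congrFun h (e i)
    simpa [asgd2ttwoTau] using this
  have h2 := congrArg (fun z => (B : Matrix (Fin n) (Fin n) F) *ᵥ z) h1
  simp only [Matrix.mulVec_mulVec, Matrix.mulVec_zero] at h2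
  rw [← Units.val_mul, mul_inv_cancel, Units.val_one, Matrix.one_mulVec] at h2
  exact h2

theorem asgd2ttwo_tau_surj {κ : Type} (e : Fin n ≃ κ) (B : GL (Fin n) F) (y : κ → F) :
    asgd2ttwoTau e B ((B : Matrix (Fin n) (Fin n) F) *ᵥ (fun i => y (e i))) = y := by
  funext p
  simp only [asgd2ttwoTau, Matrix.mulVec_mulVec]
  rw [← Units.val_mul, inv_mul_cancel, Units.val_one, Matrix.one_mulVec, Equiv.apply_symm_apply]

theorem asgd2ttwo_tau_conj {κ : Type} [Fintype κ] [DecidableEq κ] (e : Fin n ≃ κ) (B : GL (Fin n) F)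
    (A : Matrix κ κ F) (u : Fin n → F) :
    asgd2ttwoTau e B (((B : Matrix (Fin n) (Fin n) F) * Matrix.reindex e.symm e.symm A *
      ((B⁻¹ : GL (Fin n) F) : Matrix (Fin n) (Fin n) F)) *ᵥ u) = A *ᵥ asgd2ttwoTau e B u := by
  funext p
  have h1 : ((B⁻¹ : GL (Fin n) F) : Matrix (Fin n) (Fin n) F) *ᵥ
      (((B : Matrix (Fin n) (Fin n) F) * Matrix.reindex e.symm e.symm A *
        ((B⁻¹ : GL (Fin n) F) : Matrix (Fin n) (Fin n) F)) *ᵥ u) =
      Matrix.reindex e.symm e.symm A *ᵥ (((B⁻¹ : GL (Fin n) F) : Matrix (Fin n) (Fin n) F) *ᵥ u) := by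
    rw [Matrix.mulVec_mulVec, Matrix.mulVec_mulVec, ← mul_assoc, ← mul_assoc, ← Units.val_mul,
      inv_mul_cancel, Units.val_one, one_mul]
  show (((B⁻¹ : GL (Fin n) F) : Matrix (Fin n) (Fin n) F) *ᵥ _) (e.symm p) = _
  rw [h1]
  exact asgcstd2_reindex_mulVec e A _ p

/-- the transported form -/
def asgd2ttwoForm {t : ℕ} (e : Fin n ≃ (Fin t → Fin 2)) (B : GL (Fin n) F) (u v : Fin n → F) : F :=
  asgd2ttwoF0 F t (asgd2ttwoTau e B u) (asgd2ttwoTau e B v)

theorem asgd2ttwo_form_bilinear {t : ℕ} (e : Fin n ≃ (Fin t → Fin 2)) (B : GL (Fin n) F) :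
    IsBilinearForm (asgd2ttwoForm e B) := by
  refine ⟨?_, ?_, ?_, ?_⟩
  · intro x y v
    simp only [asgd2ttwoForm, asgd2ttwoF0, asgd2ttwo_tau_add, add_dotProduct]
  · intro c x v
    simp only [asgd2ttwoForm, asgd2ttwoF0, asgd2ttwo_tau_smul, smul_dotProduct, smul_eq_mul]
  · intro v x y
    simp only [asgd2ttwoForm, asgd2ttwoF0, asgd2ttwo_tau_add, Matrix.mulVec_add, dotProduct_add]
  · intro c v x
    simp only [asgd2ttwoForm, asgd2ttwoF0, asgd2ttwo_tau_smul, Matrix.mulVec_smul, dotProduct_smul, smul_eq_mul]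

theorem asgd2ttwo_form_swap {t : ℕ} (e : Fin n ≃ (Fin t → Fin 2)) (B : GL (Fin n) F) (u v : Fin n → F) :
    asgd2ttwoForm e B v u = (-1) ^ t * asgd2ttwoForm e B u v :=
  asgd2ttwo_F0_swap t _ _

theorem asgd2ttwo_form_inv {t : ℕ} (e : Fin n ≃ (Fin t → Fin 2)) (B : GL (Fin n) F) (i : Fin t)
    (a : Matrix (Fin 2) (Fin 2) F) (ha : a.det = 1) (u v : Fin n → F) :
    asgd2ttwoForm e B
        (((B : Matrix (Fin n) (Fin n) F) * Matrix.reindex e.symm e.symm (ptMat (Pi.mulSingle i a)) *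
            ((B⁻¹ : GL (Fin n) F) : Matrix (Fin n) (Fin n) F)) *ᵥ u)
        (((B : Matrix (Fin n) (Fin n) F) * Matrix.reindex e.symm e.symm (ptMat (Pi.mulSingle i a)) *
            ((B⁻¹ : GL (Fin n) F) : Matrix (Fin n) (Fin n) F)) *ᵥ v) = asgd2ttwoForm e B u v := by
  unfold asgd2ttwoForm
  rw [asgd2ttwo_tau_conj, asgd2ttwo_tau_conj]
  exact asgd2ttwo_F0_inv _ (asgd2ttwo_G_inv_of_det i a ha) _ _

theorem asgd2ttwo_form_nondeg {t : ℕ} (e : Fin n ≃ (Fin t → Fin 2)) (B : GL (Fin n) F) :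
    IsNondegenerateForm (asgd2ttwoForm e B) := by
  classical
  intro v hv
  have hτ : asgd2ttwoTau e B v ≠ 0 := fun h => hv (asgd2ttwo_tau_inj e B v h)
  have hG := asgd2ttwo_G_mulVec_ne _ hτ
  obtain ⟨p, hp⟩ := Function.ne_iff.mp hG
  have hx : asgd2ttwoForm e B ((B : Matrix (Fin n) (Fin n) F) *ᵥ
      (fun i => (Pi.single p (1 : F) : (Fin t → Fin 2) → F) (e i))) v ≠ 0 := by
    unfold asgd2ttwoForm
    rw [asgd2ttwo_tau_surj]
    unfold asgd2ttwoF0
    rw [single_dotProduct, one_mul]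
    exact hp
  refine ⟨⟨_, hx⟩, ⟨(B : Matrix (Fin n) (Fin n) F) *ᵥ
      (fun i => (Pi.single p (1 : F) : (Fin t → Fin 2) → F) (e i)), ?_⟩⟩
  rw [asgd2ttwo_form_swap]
  exact mul_ne_zero (pow_ne_zero _ (neg_ne_zero.mpr one_ne_zero)) hx

/-- D2T-TWO -/
theorem two_forms {t : ℕ} (ht : 0 < t) (e : Fin n ≃ (Fin t → Fin 2)) (B : GL (Fin n) F) :
    (∃ f : (Fin n → F) → (Fin n → F) → F, IsSymplecticForm f ∧
      ∀ (i : Fin t) (a : Matrix (Fin 2) (Fin 2) F), a.det = 1 → ∀ u v : Fin n → F,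
        f (((B : Matrix (Fin n) (Fin n) F) * Matrix.reindex e.symm e.symm (ptMat (Pi.mulSingle i a)) *
            ((B⁻¹ : GL (Fin n) F) : Matrix (Fin n) (Fin n) F)) *ᵥ u)
          (((B : Matrix (Fin n) (Fin n) F) * Matrix.reindex e.symm e.symm (ptMat (Pi.mulSingle i a)) *
            ((B⁻¹ : GL (Fin n) F) : Matrix (Fin n) (Fin n) F)) *ᵥ v) = f u v) ∨
    (∃ Q : (Fin n → F) → F, IsNondegenerateQuadraticForm Q ∧
      ∀ (i : Fin t) (a : Matrix (Fin 2) (Fin 2) F), a.det = 1 → ∀ v : Fin n → F,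
        Q (((B : Matrix (Fin n) (Fin n) F) * Matrix.reindex e.symm e.symm (ptMat (Pi.mulSingle i a)) *
            ((B⁻¹ : GL (Fin n) F) : Matrix (Fin n) (Fin n) F)) *ᵥ v) = Q v) := by
  classical
  have hbil := asgd2ttwo_form_bilinear (t := t) e B
  by_cases hs : ((-1 : F)) ^ t = -1
  · left
    refine ⟨asgd2ttwoForm e B, ⟨hbil, ?_, ?_, asgd2ttwo_form_nondeg e B⟩,
      fun i a ha u v => asgd2ttwo_form_inv e B i a ha u v⟩
    · intro v w
      rw [asgd2ttwo_form_swap e B w v, hs]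
      ring
    · intro v
      exact asgd2ttwo_F0_alt ht hs _
  · right
    have hs1 : ((-1 : F)) ^ t = 1 := by
      rcases neg_one_pow_eq_or F t with h | h
      · exact h
      · exact absurd h hs
    have h2 : (2 : F) ≠ 0 := by
      intro h
      apply hs
      rw [hs1]
      linear_combination h
    have hsym : ∀ u v, asgd2ttwoForm e B v u = asgd2ttwoForm e B u v := by
      intro u v
      rw [asgd2ttwo_form_swap, hs1, one_mul]
    have hpolar : ∀ v w, QuadraticMap.polar (fun v => asgd2ttwoForm e B v v) v w =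
        2 * asgd2ttwoForm e B v w := by
      intro v w
      unfold QuadraticMap.polar
      show asgd2ttwoForm e B (v + w) (v + w) - asgd2ttwoForm e B v v - asgd2ttwoForm e B w w =
        2 * asgd2ttwoForm e B v w
      rw [hbil.add_left, hbil.add_right, hbil.add_right, hsym v w]
      ring
    refine ⟨fun v => asgd2ttwoForm e B v v, ⟨?_, ⟨?_, ?_, ?_, ?_⟩, ?_⟩,
      fun i a ha v => asgd2ttwo_form_inv e B i a ha v v⟩
    · intro c v
      show asgd2ttwoForm e B (c • v) (c • v) = c ^ 2 * asgd2ttwoForm e B v v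
      rw [hbil.smul_left, hbil.smul_right]
      ring
    · intro x y v
      rw [hpolar, hpolar, hpolar, hbil.add_left]; ring
    · intro c x v
      rw [hpolar, hpolar, hbil.smul_left]; ring
    · intro v x y
      rw [hpolar, hpolar, hpolar, hbil.add_right]; ring
    · intro c v x
      rw [hpolar, hpolar, hbil.smul_right]; ring
    · intro v hv
      obtain ⟨⟨x, hx⟩, ⟨y, hy⟩⟩ := asgd2ttwo_form_nondeg e B v hv
      refine ⟨⟨x, ?_⟩, ⟨y, ?_⟩⟩
      · rw [hpolar]; exact mul_ne_zero h2 hx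
      · rw [hpolar]; exact mul_ne_zero h2 hy

end Cfsg.Agent.Lib.Helper19.ASG
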