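import Mathlib
import Cfsg.Prelude.Def_GeometricClasses
import Cfsg.Agent.Lib.Helper27.ASC.Defs
import Cfsg.Agent.Lib.Helper19.ASG.Defs
import Cfsg.Agent.Lib.Helper18.ASP.Defs
import Cfsg.Agent.Lib.Helper18.ASPADJ
import Cfsg.Agent.Lib.Helper18.ASPABGEN

set_option autoImplicit false
set_option linter.unusedVariables false
set_option linter.unusedSectionVars false

/-! Project ASP, block AB, piece AB-DEG: `Z` a field with `Z₀ = F` has degree at most 2. -/

namespace Cfsg.Agent.Lib.Helper18.ASP

open Cfsg Cfsg.Geo Cfsg.Agent.Lib.Helper27.ASC Cfsg.Agent.Lib.Helper19.ASG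
open scoped MatrixGroups Matrix

variable {n : ℕ} {F : Type*} [Field F] [Fintype F]

/-- AB-DEG -/
theorem ab_deg_two (f : (Fin n → F) → (Fin n → F) → F) (hf : IsSymplecticForm f) {N : Subgroup (GL (Fin n) F)}
    (hNI : N ≤ isoGL f) {b : ℕ} (hZ : IsFieldSubalgebra b (asgZ N))
    (hZ0 : ∀ z ∈ aspZ0 hf N, ∃ c : F, z = c • (1 : Matrix (Fin n) (Fin n) F)) : b ≤ 2 := by
  classical
  let T : (asgZ N) →ₗ[F] Matrix (Fin n) (Fin n) F :=
    { toFun := fun z => (z : Matrix (Fin n) (Fin n) F) + aspAdj f (z : Matrix (Fin n) (Fin n) F)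
      map_add' := by
        intro x y
        simp only [Subalgebra.coe_add, aspadj_add]
        abel
      map_smul' := by
        intro c x
        simp only [Subalgebra.coe_smul, aspadj_smul, smul_add, RingHom.id_apply] }
  have hT : ∀ z : asgZ N, T z = (z : Matrix (Fin n) (Fin n) F) + aspAdj f (z : Matrix (Fin n) (Fin n) F) :=
    fun z => rfl
  have hrange : LinearMap.range T ≤ Submodule.span F {(1 : Matrix (Fin n) (Fin n) F)} := by
    rintro _ ⟨z, rfl⟩
    obtain ⟨c, hc⟩ := hZ0 _ (aspZ0_trace hf hNI z.2)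
    rw [Submodule.mem_span_singleton]
    exact ⟨c, by rw [hT, hc]⟩
  have h1 : Module.finrank F (LinearMap.range T) ≤ 1 := by
    refine (Submodule.finrank_mono hrange).trans ?_
    refine (finrank_span_le_card ({(1 : Matrix (Fin n) (Fin n) F)} : Set (Matrix (Fin n) (Fin n) F))).trans ?_
    simp
  have h2 : Module.finrank F (LinearMap.ker T) ≤ 1 := by
    by_cases hex : ∃ a : LinearMap.ker T, a ≠ 0
    · obtain ⟨a, ha0⟩ := hex
      have haK : ((a : asgZ N) : Matrix (Fin n) (Fin n) F) ∈ asgZ N := (a : asgZ N).2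
      have haT : aspAdj f ((a : asgZ N) : Matrix (Fin n) (Fin n) F) = - ((a : asgZ N) : Matrix (Fin n) (Fin n) F) := by
        have := a.2
        rw [LinearMap.mem_ker, hT] at this
        exact (neg_eq_of_add_eq_zero_right this).symm
      have ha0' : ((a : asgZ N) : Matrix (Fin n) (Fin n) F) ≠ 0 := by
        intro h
        apply ha0
        apply Subtype.ext
        apply Subtype.ext
        exact h
      -- `a * a` is a non-zero scalar
      have haa : ((a : asgZ N) : Matrix (Fin n) (Fin n) F) * ((a : asgZ N) : Matrix (Fin n) (Fin n) F) ∈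
          aspZ0 hf N := by
        refine ⟨Subalgebra.mul_mem _ haK haK, ?_⟩
        rw [aspadj_mul hf, haT]
        simp
      obtain ⟨c₀, hc₀⟩ := hZ0 _ haa
      have hc₀0 : c₀ ≠ 0 := by
        intro h
        rw [h, zero_smul] at hc₀
        obtain ⟨y, hy, hay⟩ := hZ.inv _ haK ha0'
        apply ha0'
        calc ((a : asgZ N) : Matrix (Fin n) (Fin n) F)
            = ((a : asgZ N) : Matrix (Fin n) (Fin n) F) * (((a : asgZ N) : Matrix (Fin n) (Fin n) F) * y) := by
              rw [hay, mul_one]
          _ = 0 := by rw [← mul_assoc, hc₀, zero_mul]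
      apply finrank_le_one a
      intro w
      have hwK : ((w : asgZ N) : Matrix (Fin n) (Fin n) F) ∈ asgZ N := (w : asgZ N).2
      have hwT : aspAdj f ((w : asgZ N) : Matrix (Fin n) (Fin n) F) = - ((w : asgZ N) : Matrix (Fin n) (Fin n) F) := by
        have := w.2
        rw [LinearMap.mem_ker, hT] at this
        exact (neg_eq_of_add_eq_zero_right this).symm
      have haw : ((a : asgZ N) : Matrix (Fin n) (Fin n) F) * ((w : asgZ N) : Matrix (Fin n) (Fin n) F) ∈
          aspZ0 hf N := by
        refine ⟨Subalgebra.mul_mem _ haK hwK, ?_⟩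
        rw [aspadj_mul hf, haT, hwT]
        simp only [neg_mul_neg]
        exact hZ.comm _ hwK _ haK
      obtain ⟨c, hc⟩ := hZ0 _ haw
      refine ⟨c / c₀, ?_⟩
      apply Subtype.ext
      apply Subtype.ext
      show (c / c₀) • ((a : asgZ N) : Matrix (Fin n) (Fin n) F) = ((w : asgZ N) : Matrix (Fin n) (Fin n) F)
      have h3 : c₀ • ((w : asgZ N) : Matrix (Fin n) (Fin n) F) = c • ((a : asgZ N) : Matrix (Fin n) (Fin n) F) := by
        calc c₀ • ((w : asgZ N) : Matrix (Fin n) (Fin n) F)
            = (c₀ • (1 : Matrix (Fin n) (Fin n) F)) * ((w : asgZ N) : Matrix (Fin n) (Fin n) F) := by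
              rw [Matrix.smul_mul, one_mul]
          _ = ((a : asgZ N) : Matrix (Fin n) (Fin n) F) *
                (((a : asgZ N) : Matrix (Fin n) (Fin n) F) * ((w : asgZ N) : Matrix (Fin n) (Fin n) F)) := by
              rw [← hc₀, mul_assoc]
          _ = c • ((a : asgZ N) : Matrix (Fin n) (Fin n) F) := by
              rw [hc, Matrix.mul_smul, mul_one]
      rw [div_eq_mul_inv, mul_comm, ← smul_smul, ← h3, smul_smul, inv_mul_cancel₀ hc₀0, one_smul]
    · push Not at hex
      have : LinearMap.ker T = ⊥ := by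
        rw [eq_bot_iff]
        intro a ha
        have := hex ⟨a, ha⟩
        rw [Submodule.mem_bot]
        have h4 := congrArg Subtype.val this
        exact h4
      rw [this, finrank_bot]
      exact Nat.zero_le 1
  have h3 := LinearMap.finrank_range_add_finrank_ker T
  have h4 : Module.finrank F (asgZ N) = b := hZ.finrank_eq
  omega

end Cfsg.Agent.Lib.Helper18.ASP
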