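import Mathlib
import Cfsg.Prelude.Def_GeometricClasses
import Cfsg.Agent.Lib.Helper27.ASC.Defs
import Cfsg.Agent.Lib.Helper19.ASG.Defs
import Cfsg.Agent.Lib.Helper18.ASP.Defs
import Cfsg.Agent.Lib.Helper18.ASPADJ
import Cfsg.Agent.Lib.Helper18.ASPABGEN

set_option autoImplicit false
set_option linter.unusedVariables false
set_option linter.unusedSectionVars false

/-! Project ASP, block AB, piece AB-U (core, with AB-QUAD as a hypothesis): `Z` a quadratic field, `Z₀ = F`. -/

namespace Cfsg.Agent.Lib.Helper18.ASP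

open Cfsg Cfsg.Geo Cfsg.Agent.Lib.Helper27.ASC Cfsg.Agent.Lib.Helper19.ASG
open scoped MatrixGroups Matrix

variable {n : ℕ} {F : Type*} [Field F] [Fintype F]

/-- if every element of `Z` is self-adjoint (and `Z₀` is scalar), then `finrank Z ≤ 1` -/
theorem aspabu_finrank_le_one (f : (Fin n → F) → (Fin n → F) → F) (hf : IsSymplecticForm f)
    {N : Subgroup (GL (Fin n) F)}
    (hZ0 : ∀ z ∈ aspZ0 hf N, ∃ c : F, z = c • (1 : Matrix (Fin n) (Fin n) F))
    (hall : ∀ z ∈ asgZ N, aspAdj f z = z) : Module.finrank F (asgZ N) ≤ 1 := by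
  classical
  have hle : (asgZ N).toSubmodule ≤ Submodule.span F {(1 : Matrix (Fin n) (Fin n) F)} := by
    intro z hz
    obtain ⟨c, hc⟩ := hZ0 z ⟨hz, hall z hz⟩
    rw [Submodule.mem_span_singleton]
    exact ⟨c, hc.symm⟩
  have h1 : Module.finrank F (asgZ N).toSubmodule ≤ 1 := by
    refine (Submodule.finrank_mono hle).trans ?_
    refine (finrank_span_le_card ({(1 : Matrix (Fin n) (Fin n) F)} : Set (Matrix (Fin n) (Fin n) F))).trans ?_
    simp
  exact h1

/-- AB-U with AB-QUAD as a hypothesis -/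
theorem aspabu_core {m : ℕ} (f : (Fin n → F) → (Fin n → F) → F) (hf : IsSymplecticForm f)
    {H N : Subgroup (GL (Fin n) F)} (hI : H ≤ isoGL f) (hN : NormalIn N H)
    (hquad : ¬ Odd (Fintype.card F) → ∀ ω : Matrix (Fin n) (Fin n) F, ω + aspAdj f ω = 1 →
      (∀ h ∈ H, ∀ v, f (asgConj h ω *ᵥ v) v = f (ω *ᵥ v) v) → InSp m f H)
    (hZ : IsFieldSubalgebra 2 (asgZ N))
    (hZ0 : ∀ z ∈ aspZ0 hf N, ∃ c : F, z = c • (1 : Matrix (Fin n) (Fin n) F)) : InSp m f H := by
  classical
  have hNI : N ≤ isoGL f := hN.1.trans hI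
  -- some element of `Z` is not self-adjoint
  have hex : ∃ z ∈ asgZ N, aspAdj f z ≠ z := by
    by_contra hcon
    push Not at hcon
    have := aspabu_finrank_le_one f hf hZ0 hcon
    rw [hZ.finrank_eq] at this
    omega
  by_cases ho : Odd (Fintype.card F)
  · refine inSp_of_field_u hI (asgZ N) ho hZ ?_ ?_ (asgclif_normalizes_Z hN)
    · intro k hk
      exact ⟨aspAdj f k, aspadj_asgZ hf hNI hk, fun u v => aspadj_spec hf k u v⟩
    · intro hsa
      obtain ⟨z, hz, hne⟩ := hex
      apply hne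
      exact (aspadj_unique hf z z (hsa z hz)).symm
  · -- characteristic 2
    have h2 : (2 : F) = 0 := by
      have hev : Even (Fintype.card F) := Nat.not_odd_iff_even.mp ho
      have hch : ringChar F = 2 := FiniteField.even_card_iff_char_two.mpr (Nat.even_iff.mp hev)
      have : CharP F 2 := hch ▸ ringChar.charP F
      exact CharTwo.two_eq_zero
    have hneg : ∀ M : Matrix (Fin n) (Fin n) F, -M = M := by
      intro M
      have : M + M = 0 := by
        rw [← two_smul F M, h2, zero_smul]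
      exact neg_eq_of_add_eq_zero_left this
    obtain ⟨z₁, hz₁, hne⟩ := hex
    obtain ⟨c, hc⟩ := hZ0 _ (aspZ0_trace hf hNI hz₁)
    have hc0 : c ≠ 0 := by
      intro h
      rw [h, zero_smul] at hc
      apply hne
      have : aspAdj f z₁ = -z₁ := (neg_eq_of_add_eq_zero_right hc).symm
      rw [this, hneg]
    set ω : Matrix (Fin n) (Fin n) F := c⁻¹ • z₁ with hω
    have hωZ : ω ∈ asgZ N := Subalgebra.smul_mem _ hz₁ _
    have hω1 : ω + aspAdj f ω = 1 := by
      rw [hω, aspadj_smul, ← smul_add, hc, smul_smul, inv_mul_cancel₀ hc0, one_smul]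
    apply hquad ho ω hω1
    intro h hh v
    -- `δ = h ω h⁻¹ - ω` is self-adjoint central, hence scalar
    set δ : Matrix (Fin n) (Fin n) F := asgConj h ω - ω with hδ
    have hconjZ : asgConj h ω ∈ asgZ N := asgclif_conj_mem hN h hh ω hωZ
    have hδZ : δ ∈ asgZ N := Subalgebra.sub_mem _ hconjZ hωZ
    have hωadj : aspAdj f ω = 1 - ω := eq_sub_of_add_eq' hω1
    have hδadj : aspAdj f δ = δ := by
      rw [hδ, aspadj_sub, aspadj_conj hf (hI hh), hωadj]
      have h1 : asgConj h (1 - ω) = 1 - asgConj h ω := by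
        unfold asgConj
        rw [mul_sub, sub_mul, mul_one, ← Units.val_mul, mul_inv_cancel, Units.val_one]
      rw [h1]
      have : (1 : Matrix (Fin n) (Fin n) F) - asgConj h ω - (1 - ω) = -(asgConj h ω - ω) := by abel
      rw [this, hneg]
    obtain ⟨d, hd⟩ := hZ0 δ ⟨hδZ, hδadj⟩
    have h3 : asgConj h ω = ω + d • (1 : Matrix (Fin n) (Fin n) F) := by
      rw [← hd, hδ]; abel
    have h4 : (d • (1 : Matrix (Fin n) (Fin n) F)) *ᵥ v = d • v := by
      rw [Matrix.smul_mulVec, Matrix.one_mulVec]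
    rw [h3, Matrix.add_mulVec, h4, hf.bilinear.add_left, hf.bilinear.smul_left, hf.alternating, mul_zero,
      add_zero]

end Cfsg.Agent.Lib.Helper18.ASP
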