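import Mathlib
import Cfsg.Prelude.Def_GeometricClasses
import Cfsg.Agent.Lib.Helper27.ASC.Defs
import Cfsg.Agent.Lib.Helper19.ASG.Defs
import Cfsg.Agent.Lib.Helper18.ASP.Defs
import Cfsg.Agent.Lib.Helper18.ASPADJ
import Cfsg.Agent.Lib.Helper18.ASPABGEN
import Cfsg.Agent.Lib.Helper11.ASPABUcore
import Cfsg.Agent.Lib.helper23.ASPABQUAD

set_option autoImplicit false
set_option linter.unusedVariables false
set_option linter.unusedSectionVars false

/-! Project ASP, block AB, piece AB-U (verbatim): `aspabu_core` + helper23's `ab_quad`. -/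

namespace Cfsg.Agent.Lib.Helper18.ASP

open Cfsg Cfsg.Geo Cfsg.Agent.Lib.Helper27.ASC Cfsg.Agent.Lib.Helper19.ASG
open scoped MatrixGroups Matrix

variable {n : ℕ} {F : Type*} [Field F] [Fintype F]

/-- AB-U -/
theorem ab_field_u {m : ℕ} (f : (Fin n → F) → (Fin n → F) → F) (hf : IsSymplecticForm f)
    {H N : Subgroup (GL (Fin n) F)} (hI : H ≤ isoGL f) (hN : NormalIn N H)
    (hZ : IsFieldSubalgebra 2 (asgZ N))
    (hZ0 : ∀ z ∈ aspZ0 hf N, ∃ c : F, z = c • (1 : Matrix (Fin n) (Fin n) F)) : InSp m f H :=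
  aspabu_core f hf hI hN (fun hF ω hω hinv => ab_quad hF f hf hI ω hω hinv) hZ hZ0

end Cfsg.Agent.Lib.Helper18.ASP
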