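import Mathlib
import Cfsg.Prelude.Def_GeometricClasses
import Cfsg.Agent.Lib.Helper27.ASC.Defs
import Cfsg.Agent.Lib.Helper19.ASG.Defs
import Cfsg.Agent.Lib.Helper18.ASP.Defs
import Cfsg.Agent.Lib.Helper26.ASGD1.Defs
import Cfsg.Agent.Lib.helper23.ASGD1ORDER
import Cfsg.Agent.Lib.helper23.ASGD1CENT

set_option autoImplicit false
set_option linter.unusedVariables false
set_option linter.unusedSectionVars false

/-!
# Project ASP, block D1, piece D1-CARD : `spd1_card`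

`|N / (N ∩ Z)| = n ^ 2` (ASG `d1_order`), `N ∩ Z = {±1}` has order 2 and is the centre (`asgd1cent_center`),
`N` is a 2-group: `n = 2 ^ k`, `|N| = 2 ^ (1 + 2 k)`.
-/

namespace Cfsg.Agent.Lib.Helper18.ASP

open Cfsg Cfsg.Geo Cfsg.Agent.Lib.Helper27.ASC Cfsg.Agent.Lib.Helper19.ASG
open scoped MatrixGroups Matrix

variable {n : ℕ} {F : Type*} [Field F] [Fintype F]

/-- the scalar subgroup of `N` has order two when its scalars are exactly `±1 ` -/
theorem aspd1card_scalars_card (hn : 0 < n) {N : Subgroup (GL (Fin n) F)}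
    (hneg : (-1 : Fˣ) ≠ 1) (hm1 : (d1scal (-1 : Fˣ) : GL (Fin n) F) ∈ N)
    (hpm : ∀ c : Fˣ, (d1scal c : GL (Fin n) F) ∈ N → c = 1 ∨ c = -1) :
    Nat.card ((scalars (Fin n) F).subgroupOf N) = 2 := by
  rw [Nat.card_eq_two_iff]
  refine ⟨1, ⟨⟨d1scal (-1 : Fˣ), hm1⟩, ?_⟩, ?_, ?_⟩
  · rw [Subgroup.mem_subgroupOf]
    exact d1scal_mem _
  · intro h
    have h1 : ((1 : (scalars (Fin n) F).subgroupOf N) : N) = ⟨d1scal (-1 : Fˣ), hm1⟩ := by
      rw [h]
    have h2 : (1 : GL (Fin n) F) = d1scal (-1 : Fˣ) := by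
      have := congrArg (fun x : N => (x : GL (Fin n) F)) h1
      simpa using this
    rw [← d1scal_one] at h2
    exact hneg (d1scal_injective hn h2).symm
  · ext ⟨⟨x, hxN⟩, hx⟩
    simp only [Set.mem_insert_iff, Set.mem_singleton_iff, Set.mem_univ, iff_true]
    rw [Subgroup.mem_subgroupOf] at hx
    obtain ⟨c, hc⟩ := (mem_scalars_iff_d1scal _).1 hx
    simp only at hc
    subst hc
    rcases hpm c hxN with rfl | rfl
    · left
      apply Subtype.ext
      apply Subtype.ext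
      simp [d1scal_one]
    · right
      rfl

/-- D1-CARD -/
theorem spd1_card (hn : 2 ≤ n) {N : Subgroup (GL (Fin n) F)} (hA : AbsIrr N) (hab : ⁅N, N⁆ ≤ scalars (Fin n) F)
    (hneg : (-1 : Fˣ) ≠ 1) (hm1 : (d1scal (-1 : Fˣ) : GL (Fin n) F) ∈ N)
    (hpm : ∀ c : Fˣ, (d1scal c : GL (Fin n) F) ∈ N → c = 1 ∨ c = -1) (hp : IsPGroup 2 N) :
    ∃ k : ℕ, n = 2 ^ k ∧ Nat.card N = 2 ^ (1 + 2 * k) ∧ Nat.card (Subgroup.center N) = 2 := by
  classical
  have hn0 : 0 < n := by omega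
  have hcen := asgd1cent_center hn0 hA
  have hord := d1_order hn0 hA hab
  have hsc := aspd1card_scalars_card hn0 hneg hm1 hpm
  have hlag : Nat.card N = n ^ 2 * 2 := by
    rw [Subgroup.card_eq_card_quotient_mul_card_subgroup ((scalars (Fin n) F).subgroupOf N), hord, hsc]
  have hfin : Finite N := inferInstance
  have h2p : Fact (Nat.Prime 2) := ⟨Nat.prime_two⟩
  obtain ⟨j, hj⟩ := (IsPGroup.iff_card (p := 2) (G := N)).1 hp
  have hdvd : n ∣ 2 ^ j := by
    rw [← hj, hlag]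
    exact Dvd.dvd.mul_right (Dvd.intro_left (n ^ 1) (by ring)) 2
  obtain ⟨k, _, hk⟩ := (Nat.dvd_prime_pow Nat.prime_two).1 hdvd
  refine ⟨k, hk, ?_, ?_⟩
  · rw [hlag, hk]
    ring
  · rw [hcen, hsc]

end Cfsg.Agent.Lib.Helper18.ASP
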