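import Mathlib
import Cfsg.Prelude.Def_GeometricClasses
import Cfsg.Agent.Lib.Helper27.ASC.Defs
import Cfsg.Agent.Lib.Helper19.ASG.Defs
import Cfsg.Agent.Lib.Helper18.ASP.Defs
import Cfsg.Agent.Lib.Helper26.ASGD1.Defs

set_option autoImplicit false
set_option linter.unusedVariables false
set_option linter.unusedSectionVars false

/-! Project ASP, block D1, piece COMPL: in an elementary abelian 2-group a non-trivial element lies outside a subgroup of
index 2. -/

namespace Cfsg.Agent.Lib.Helper18.ASP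

open Cfsg Cfsg.Geo Cfsg.Agent.Lib.Helper27.ASC Cfsg.Agent.Lib.Helper19.ASG
open scoped MatrixGroups Matrix

variable {n : ℕ} {F : Type*} [Field F] [Fintype F]

/-- D1-COMPL -/
theorem spd1_compl {G : Type*} [Group G] [Finite G] (A : Subgroup G) (hcomm : ∀ a ∈ A, ∀ b ∈ A, a * b = b * a)
    (hsq : ∀ a ∈ A, a * a = 1) (z : G) (hzA : z ∈ A) (hz : z ≠ 1) :
    ∃ A₀ : Subgroup G, A₀ ≤ A ∧ z ∉ A₀ ∧ Nat.card A ≤ 2 * Nat.card A₀ := by
  classical
  let S : Set (Subgroup G) := {B | B ≤ A ∧ z ∉ B}
  have hS : S.Nonempty := ⟨⊥, bot_le, fun h => hz (Subgroup.mem_bot.mp h)⟩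
  obtain ⟨A₀, hA₀S, hmax⟩ := Set.Finite.exists_maximal (Set.toFinite S) hS
  obtain ⟨hA₀A, hzA₀⟩ := hA₀S
  -- every element of `A` is in `A₀` or `z * A₀`
  have key : ∀ a ∈ A, a ∈ A₀ ∨ z * a ∈ A₀ := by
    intro a haA
    by_contra hcon
    push Not at hcon
    obtain ⟨ha₀, hza⟩ := hcon
    -- the subgroup `A₀ ∪ a A₀`
    let C : Subgroup G :=
      { carrier := {x | x ∈ A ∧ (x ∈ A₀ ∨ x * a ∈ A₀)}
        one_mem' := ⟨A.one_mem, Or.inl A₀.one_mem⟩
        mul_mem' := by
          rintro x y ⟨hxA, hx⟩ ⟨hyA, hy⟩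
          refine ⟨A.mul_mem hxA hyA, ?_⟩
          rcases hx with hx | hx <;> rcases hy with hy | hy
          · exact Or.inl (A₀.mul_mem hx hy)
          · right
            rw [mul_assoc]
            exact A₀.mul_mem hx hy
          · right
            have : x * y * a = (x * a) * y := by
              rw [mul_assoc, hcomm y hyA a haA, ← mul_assoc]
            rw [this]
            exact A₀.mul_mem hx hy
          · left
            have : x * y = (x * a) * (y * a) := by
              calc x * y = x * (a * a) * y := by rw [hsq a haA, mul_one]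
                _ = x * a * (a * y) := by group
                _ = x * a * (y * a) := by rw [hcomm a haA y hyA]
            rw [this]
            exact A₀.mul_mem hx hy
        inv_mem' := by
          rintro x ⟨hxA, hx⟩
          have hxinv : x⁻¹ = x := by
            rw [inv_eq_iff_mul_eq_one]
            exact hsq x hxA
          rw [hxinv]
          exact ⟨hxA, hx⟩ }
    have hA₀C : A₀ ≤ C := fun x hx => ⟨hA₀A hx, Or.inl hx⟩
    have haC : a ∈ C := ⟨haA, Or.inr (by rw [hsq a haA]; exact A₀.one_mem)⟩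
    have hCA : C ≤ A := fun x hx => hx.1
    have hzC : z ∉ C := by
      rintro ⟨_, h | h⟩
      · exact hzA₀ h
      · exact hza h
    have hCle : C ≤ A₀ := hmax ⟨hCA, hzC⟩ hA₀C
    exact ha₀ (hCle haC)
  refine ⟨A₀, hA₀A, hzA₀, ?_⟩
  -- surjection `A₀ × Bool → A`
  let φ : A₀ × Bool → A := fun p =>
    if p.2 then ⟨z * (p.1 : G), A.mul_mem hzA (hA₀A p.1.2)⟩ else ⟨(p.1 : G), hA₀A p.1.2⟩
  have hφ : Function.Surjective φ := by
    rintro ⟨a, haA⟩
    rcases key a haA with h | h
    · exact ⟨(⟨a, h⟩, false), rfl⟩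
    · refine ⟨(⟨z * a, h⟩, true), ?_⟩
      apply Subtype.ext
      show z * (z * a) = a
      rw [← mul_assoc, hsq z hzA, one_mul]
  have hcard := Nat.card_le_card_of_surjective φ hφ
  rw [Nat.card_prod] at hcard
  simpa [mul_comm] using hcard

end Cfsg.Agent.Lib.Helper18.ASP
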