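import Mathlib
import Cfsg.Prelude.Def_GeometricClasses
import Cfsg.Agent.Lib.Helper27.ASC.Defs
import Cfsg.Agent.Lib.Helper19.ASG.Defs
import Cfsg.Agent.Lib.Helper19.ASU.Defs
import Cfsg.Agent.Lib.Helper19.ASUADJ
import Cfsg.Agent.Lib.Helper1.ASGCLIF5
import Cfsg.Agent.Lib.Helper22.ASCONORMS
import Cfsg.Agent.Lib.Lead.HermIso

set_option autoImplicit false
set_option linter.unusedVariables false
set_option linter.unusedSectionVars false
set_option linter.style.haveILetI false

/-!
# Project ASU, block AB, piece ODD : a `*`-stable field subalgebra has odd degree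
-/

namespace Cfsg.Agent.Lib.Helper19.ASU

open Cfsg Cfsg.Geo Cfsg.Agent.Lib.Helper27.ASC Cfsg.Agent.Lib.Helper19.ASG Cfsg.Agent.Lib.helper23.ASCO
open scoped MatrixGroups Matrix

variable {n : ℕ} {F : Type*} [Field F] [Fintype F]

/-- AB-ODD -/
theorem uab_odd (q : ℕ) (hF : Fintype.card F = q ^ 2) (hn : 0 < n) {b : ℕ}
    (K : Subalgebra F (Matrix (Fin n) (Fin n) F)) (hK : IsFieldSubalgebra b K)
    (hstar : ∀ x ∈ K, uadj q x ∈ K) : Odd b := by
  classical
  have hne : Nonempty (Fin n) := ⟨⟨0, hn⟩⟩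
  have hntK : Nontrivial K := by
    refine ⟨⟨0, 1, fun h => ?_⟩⟩
    have h1 : ((0 : K) : Matrix (Fin n) (Fin n) F) = ((1 : K) : Matrix (Fin n) (Fin n) F) := by rw [h]
    have h2 := congrFun (congrFun h1 ⟨0, hn⟩) ⟨0, hn⟩
    simp at h2
  have hb : 0 < b := by
    rw [← hK.finrank_eq]
    exact Module.finrank_pos
  have hfield := asgclif_isField K hK hb
  letI : Field K := hfield.toField
  letI : Fintype K := Fintype.ofFinite K
  -- the involution
  let τ : K ≃+* K :=
    { toFun := fun x => ⟨uadj q (x : Matrix (Fin n) (Fin n) F), hstar x x.2⟩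
      invFun := fun x => ⟨uadj q (x : Matrix (Fin n) (Fin n) F), hstar x x.2⟩
      left_inv := fun x => Subtype.ext (uadj_uadj hF _)
      right_inv := fun x => Subtype.ext (uadj_uadj hF _)
      map_mul' := fun x y => by
        apply Subtype.ext
        show uadj q ((x : Matrix (Fin n) (Fin n) F) * (y : Matrix (Fin n) (Fin n) F)) =
          uadj q (x : Matrix (Fin n) (Fin n) F) * uadj q (y : Matrix (Fin n) (Fin n) F)
        rw [uadj_mul hF]
        exact hK.comm _ (hstar y y.2) _ (hstar x x.2)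
      map_add' := fun x y => by
        apply Subtype.ext
        show uadj q ((x : Matrix (Fin n) (Fin n) F) + (y : Matrix (Fin n) (Fin n) F)) =
          uadj q (x : Matrix (Fin n) (Fin n) F) + uadj q (y : Matrix (Fin n) (Fin n) F)
        rw [uadj_add hF] }
  have hτval : ∀ x : K, ((τ x : K) : Matrix (Fin n) (Fin n) F) = uadj q (x : Matrix (Fin n) (Fin n) F) :=
    fun x => rfl
  have hτ2 : ∀ a : K, τ (τ a) = a := fun a => Subtype.ext (uadj_uadj hF _)
  obtain ⟨c, hc⟩ := Cfsg.Agent.Lib.Lead.HI.exists_not_fixed hF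
  let cK : K := ⟨c • (1 : Matrix (Fin n) (Fin n) F), K.smul_mem K.one_mem c⟩
  have hτc : ((τ cK : K) : Matrix (Fin n) (Fin n) F) = (c ^ q) • (1 : Matrix (Fin n) (Fin n) F) := by
    rw [hτval]
    exact uadj_scalar hF c
  have hτ1 : τ ≠ RingEquiv.refl K := by
    intro h
    have h1 : τ cK = cK := by rw [h]; rfl
    have h2 := congrArg (fun x : K => (x : Matrix (Fin n) (Fin n) F) ⟨0, hn⟩ ⟨0, hn⟩) h1
    simp only [hτc] at h2
    apply hc
    simpa [cK] using h2
  have hcard := asconorms_card τ hτ1 hτ2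
  have hfrob := asconorms_frob τ hτ1 hτ2
  set m : ℕ := Nat.card ↥(asconormsFix τ) with hm
  have hKcard : Nat.card K = (q ^ 2) ^ b := by
    rw [← hF, ← hK.finrank_eq, ← Nat.card_eq_fintype_card]
    exact Module.natCard_eq_pow_finrank (K := F) (V := K)
  have hmq : m = q ^ b := by
    have h1 : m ^ 2 = (q ^ b) ^ 2 := by
      rw [← hcard, hKcard, ← pow_mul, ← pow_mul, mul_comm]
    exact Nat.pow_left_injective (n := 2) (by norm_num) h1
  by_contra hodd
  rw [Nat.not_odd_iff_even] at hodd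
  obtain ⟨j, hj⟩ := hodd
  -- `τ cK = cK ^ m = cK`
  have h1 := hfrob cK
  have h2 : ((cK ^ m : K) : Matrix (Fin n) (Fin n) F) = (c ^ m) • (1 : Matrix (Fin n) (Fin n) F) := by
    show (c • (1 : Matrix (Fin n) (Fin n) F)) ^ m = _
    rw [smul_pow, one_pow]
  have h3 : c ^ m = c := by
    rw [hmq, hj, ← two_mul, pow_mul, ← hF]
    exact FiniteField.pow_card_pow j c
  have h4 : ((τ cK : K) : Matrix (Fin n) (Fin n) F) = c • (1 : Matrix (Fin n) (Fin n) F) := by
    rw [h1, h2, h3]
  rw [hτc] at h4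
  have h5 := congrFun (congrFun h4 ⟨0, hn⟩) ⟨0, hn⟩
  apply hc
  simpa using h5

end Cfsg.Agent.Lib.Helper19.ASU
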