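import Mathlib
import Cfsg.Prelude.Def_GeometricClasses
import Cfsg.Agent.Lib.Helper27.ASC.Defs
import Cfsg.Agent.Lib.Helper19.ASG.Defs
import Cfsg.Agent.Lib.Helper19.ASU.Defs
import Cfsg.Agent.Lib.Helper19.ASUADJ
import Cfsg.Agent.Lib.Helper1.ASGCLIF5

set_option autoImplicit false
set_option linter.unusedVariables false
set_option linter.unusedSectionVars false

/-!
# Project ASU, block AB, piece TS : the pair of totally singular spaces `range e`, `range e*` (copy of helper23's `ASPABTS`)
-/

namespace Cfsg.Agent.Lib.Helper19.ASU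

open Cfsg Cfsg.Geo Cfsg.Agent.Lib.Helper27.ASC Cfsg.Agent.Lib.Helper19.ASG
open scoped MatrixGroups Matrix

variable {n : ℕ} {F : Type*} [Field F] [Fintype F]

/-- the image of a subspace under an invertible matrix has the same dimension -/
theorem asuabts_finrank_map (h : GL (Fin n) F) (W : Submodule F (Fin n → F)) :
    Module.finrank F (W.map (Matrix.toLin' (h : Matrix (Fin n) (Fin n) F))) = Module.finrank F W := by
  have hinj : Function.Injective (Matrix.toLin' (h : Matrix (Fin n) (Fin n) F)) := by
    intro v w hvw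
    have e2 : ((h⁻¹ : GL (Fin n) F) : Matrix (Fin n) (Fin n) F) * (h : Matrix (Fin n) (Fin n) F) = 1 := by
      rw [← Units.val_mul, inv_mul_cancel, Units.val_one]
    rw [Matrix.toLin'_apply, Matrix.toLin'_apply] at hvw
    have := congrArg (fun x => ((h⁻¹ : GL (Fin n) F) : Matrix (Fin n) (Fin n) F) *ᵥ x) hvw
    simpa [Matrix.mulVec_mulVec, e2] using this
  exact (LinearEquiv.finrank_eq (Submodule.equivMapOfInjective _ hinj _)).symm

/-- the hermitian form vanishes when its right argument is zero -/
theorem asuabts_zero_right {q : ℕ} (hF : Fintype.card F = q ^ 2) (u : Fin n → F) :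
    hermForm n F q u 0 = 0 := by
  unfold hermForm
  apply Finset.sum_eq_zero
  intro i _
  rw [Pi.zero_apply, zero_pow (uq_pos hF).ne', mul_zero]

/-- AB-TS -/
theorem uab_tspair (q : ℕ) (hF : Fintype.card F = q ^ 2) (hn : 2 ≤ n) {H N : Subgroup (GL (Fin n) F)}
    (hI : H ≤ GU n F q) (hH : Irr H) (hN : NormalIn N H)
    (e : Matrix (Fin n) (Fin n) F) (he : e ∈ asgZ N) (hid : e * e = e) (h0 : e ≠ 0) (h1 : e ≠ 1)
    (hee : uadj q e * e = 0) (hsum : e + uadj q e = 1)
    (hall : ∀ g ∈ asgZ N, g * g = g → g = 0 ∨ g = 1 ∨ g = e ∨ g = uadj q e) :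
    ∃ (k : ℕ) (D : Fin 2 → Submodule F (Fin n → F)), 2 * k = n ∧ IsMDecomposition k D ∧
      (∀ i, IsTotallySingularFor (hermForm n F q) (D i)) ∧ H ≤ decompositionStabilizer D := by
  classical
  have hNI : N ≤ GU n F q := hN.1.trans hI
  have he' : uadj q e ∈ asgZ N := uadj_asgZ hF hNI he
  have hid' : uadj q e * uadj q e = uadj q e := by rw [← uadj_mul hF, hid]
  have hee' : e * uadj q e = 0 := by rw [asgclif_Z_comm he he', hee]
  let E : Fin 2 → Matrix (Fin n) (Fin n) F := ![e, uadj q e]
  let D : Fin 2 → Submodule F (Fin n → F) := fun i => LinearMap.range (Matrix.toLin' (E i))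
  have hD0 : D 0 = LinearMap.range (Matrix.toLin' e) := rfl
  have hD1 : D 1 = LinearMap.range (Matrix.toLin' (uadj q e)) := rfl
  have hEid : ∀ i, E i * E i = E i := by
    intro i
    fin_cases i
    · exact hid
    · exact hid'
  have hEorth : ∀ i j, i ≠ j → E i * E j = 0 := by
    intro i j hij
    fin_cases i <;> fin_cases j
    · exact absurd rfl hij
    · exact hee'
    · exact hee
    · exact absurd rfl hij
  have hindep : iSupIndep D := asgclif_indep E hEid hEorth
  have hsup : D 0 ⊔ D 1 = ⊤ := by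
    rw [eq_top_iff]
    intro v _
    have hv : v = e *ᵥ v + uadj q e *ᵥ v := by
      rw [← Matrix.add_mulVec, hsum, Matrix.one_mulVec]
    rw [hv]
    apply Submodule.add_mem
    · apply Submodule.mem_sup_left
      rw [hD0]
      exact ⟨v, by rw [Matrix.toLin'_apply]⟩
    · apply Submodule.mem_sup_right
      rw [hD1]
      exact ⟨v, by rw [Matrix.toLin'_apply]⟩
  have htop : iSup D = ⊤ := by
    rw [eq_top_iff, ← hsup]
    exact sup_le (le_iSup D 0) (le_iSup D 1)
  have hdisj : Disjoint (D 0) (D 1) := by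
    rw [Submodule.disjoint_def]
    intro x hx0 hx1
    rw [hD0] at hx0
    rw [hD1] at hx1
    obtain ⟨w, rfl⟩ := hx0
    obtain ⟨w', hw'⟩ := hx1
    rw [Matrix.toLin'_apply, Matrix.toLin'_apply] at hw'
    rw [Matrix.toLin'_apply]
    have : e *ᵥ w = e *ᵥ (e *ᵥ w) := by rw [Matrix.mulVec_mulVec, hid]
    rw [this, ← hw', Matrix.mulVec_mulVec, hee', Matrix.zero_mulVec]
  have hcompl : IsCompl (D 0) (D 1) := ⟨hdisj, codisjoint_iff.mpr hsup⟩
  have hadd : Module.finrank F (D 0) + Module.finrank F (D 1) = n := by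
    rw [Submodule.finrank_add_eq_of_isCompl hcompl, Module.finrank_fin_fun]
  -- the action of `H`
  have hconj : ∀ h ∈ H, (asgConj h e = e ∧ asgConj h (uadj q e) = uadj q e) ∨
      (asgConj h e = uadj q e ∧ asgConj h (uadj q e) = e) := by
    intro h hh
    have hc : asgConj h e ∈ asgZ N := asgclif_conj_mem hN h hh e he
    have hcid : asgConj h e * asgConj h e = asgConj h e := by
      rw [← asgclif_conj_mmul, hid]
    have hadj : asgConj h (uadj q e) = uadj q (asgConj h e) := (uadj_conj hF (hI hh) e).symm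
    rcases hall _ hc hcid with h' | h' | h' | h'
    · exfalso
      apply h0
      have := congrArg (asgConj h⁻¹) h'
      rwa [asgclif_conj_inv_conj, asgclif_conj_zero] at this
    · exfalso
      apply h1
      have := congrArg (asgConj h⁻¹) h'
      rw [asgclif_conj_inv_conj] at this
      rw [this]
      unfold asgConj
      rw [Matrix.mul_one, ← Units.val_mul, mul_inv_cancel, Units.val_one]
    · left
      exact ⟨h', by rw [hadj, h']⟩
    · right
      exact ⟨h', by rw [hadj, h', uadj_uadj hF]⟩
  have hstab : H ≤ decompositionStabilizer D := by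
    intro h hh
    rcases hconj h hh with ⟨ha, hb⟩ | ⟨ha, hb⟩
    · refine ⟨1, fun i => ?_⟩
      fin_cases i
      · show (D 0).map _ = D 0
        rw [hD0, asgclif_range_conj, ha]
      · show (D 1).map _ = D 1
        rw [hD1, asgclif_range_conj, hb]
    · refine ⟨Equiv.swap 0 1, fun i => ?_⟩
      fin_cases i
      · show (D 0).map _ = D (Equiv.swap 0 1 0)
        rw [Equiv.swap_apply_left, hD0, hD1, asgclif_range_conj, ha]
      · show (D 1).map _ = D (Equiv.swap 0 1 1)
        rw [Equiv.swap_apply_right, hD0, hD1, asgclif_range_conj, hb]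
  -- some element of `H` swaps the two spaces
  have hmove : ∃ h ∈ H, asgConj h e ≠ e := by
    by_contra hcon
    push Not at hcon
    have hinv : ∀ s ∈ matrixSet H, (LinearMap.range (Matrix.toLin' e)).map (Matrix.toLin' s) ≤
        LinearMap.range (Matrix.toLin' e) := by
      rintro _ ⟨h, hh, rfl⟩
      rw [asgclif_range_conj, hcon h hh]
    rcases hH _ hinv with hb | ht
    · apply h0
      apply Matrix.toLin'.injective
      rw [map_zero]
      exact LinearMap.range_eq_bot.mp hb
    · exact h1 (asgclif_idem_top e hid ht)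
  obtain ⟨h, hh, hne⟩ := hmove
  have hswap : asgConj h e = uadj q e := by
    rcases hconj h hh with ⟨ha, -⟩ | ⟨ha, -⟩
    · exact absurd ha hne
    · exact ha
  have hfr : Module.finrank F (D 1) = Module.finrank F (D 0) := by
    rw [hD1, ← hswap, ← asgclif_range_conj, asuabts_finrank_map, hD0]
  refine ⟨Module.finrank F (D 0), D, by omega, ⟨le_refl 2, by omega, ?_, hindep, htop⟩, ?_, hstab⟩
  · intro i
    fin_cases i
    · rfl
    · exact hfr
  · intro i
    fin_cases i
    · show IsTotallySingularFor (hermForm n F q) (D 0)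
      rw [hD0]
      rintro _ ⟨u, rfl⟩ _ ⟨v, rfl⟩
      rw [Matrix.toLin'_apply, Matrix.toLin'_apply, uadj_spec hF, Matrix.mulVec_mulVec, hee, Matrix.zero_mulVec]
      exact asuabts_zero_right hF _
    · show IsTotallySingularFor (hermForm n F q) (D 1)
      rw [hD1]
      rintro _ ⟨u, rfl⟩ _ ⟨v, rfl⟩
      rw [Matrix.toLin'_apply, Matrix.toLin'_apply, uadj_spec hF, uadj_uadj hF, Matrix.mulVec_mulVec, hee',
        Matrix.zero_mulVec]
      exact asuabts_zero_right hF _

end Cfsg.Agent.Lib.Helper19.ASU
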