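import Mathlib
import Cfsg.Prelude.Def_GeometricClasses
import Cfsg.Agent.Lib.Helper27.ASC.Defs
import Cfsg.Agent.Lib.Helper19.ASG.Defs
import Cfsg.Agent.Lib.Helper19.ASU.Defs
import Cfsg.Agent.Lib.Helper26.ASUC.Defs
import Cfsg.Agent.Lib.Helper19.ASUADJ
import Cfsg.Agent.Lib.Lead.HermIso

set_option autoImplicit false
set_option linter.unusedVariables false
set_option linter.unusedSectionVars false

/-!
# Project ASU, block C, case `k = d = 2`, piece C-22SKEW : a skew element `c ^ q = -c` and the hermitian matrix `c J` (verbatim)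
-/

namespace Cfsg.Agent.Lib.Helper19.ASU

open Cfsg Cfsg.Geo Cfsg.Agent.Lib.Helper27.ASC Cfsg.Agent.Lib.Helper19.ASG
open scoped MatrixGroups Matrix Kronecker

variable {n : ℕ} {F : Type*} [Field F]

/-- C-22SKEW (easy) : an element with `c ^ q = -c` (`c = a - a ^ q` for any `a` not fixed by the Frobenius). -/
theorem uc_exists_skew [Fintype F] (q : ℕ) (hF : Fintype.card F = q ^ 2) : ∃ c : F, c ≠ 0 ∧ c ^ q = -c := by
  obtain ⟨a, ha⟩ := Cfsg.Agent.Lib.Lead.HI.exists_not_fixed hF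
  refine ⟨a - a ^ q, ?_, ?_⟩
  · intro h
    apply ha
    linear_combination -h
  · have h1 : (a - a ^ q) ^ q = a ^ q - (a ^ q) ^ q := by
      rw [← ufrob_apply hF, map_sub, ufrob_apply, ufrob_apply]
    rw [h1, upow_pow hF]
    ring

/-- C-22SKEW : `c J` is hermitian (`q` odd: `(-1) ^ q = -1`; `q` even: `2 = 0`). -/
theorem uc_J_herm [Fintype F] (q : ℕ) (hF : Fintype.card F = q ^ 2) (c : F) (hc : c ^ q = -c) :
    uadj q (c • (ucJ : Matrix (Fin 2) (Fin 2) F)) = c • ucJ := by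
  have hq : q ≠ 0 := (uq_pos hF).ne'
  have hneg : (-c) ^ q = c := by
    rw [← hc, upow_pow hF]
  ext i j
  rw [uadj_apply]
  fin_cases i <;> fin_cases j <;>
    simp [ucJ, hc, hneg, zero_pow hq]

/-- C-22SKEW -/
theorem uc_J_det (c : F) (hc : c ≠ 0) : (c • (ucJ : Matrix (Fin 2) (Fin 2) F)).det ≠ 0 := by
  rw [Matrix.det_smul, ucJ, Matrix.det_fin_two_of]
  simp [hc]

end Cfsg.Agent.Lib.Helper19.ASU
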