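import Mathlib
import Cfsg.Prelude.Def_GeometricClasses
import Cfsg.Agent.Lib.Helper27.ASC.Defs
import Cfsg.Agent.Lib.Helper19.ASG.Defs
import Cfsg.Agent.Lib.Helper19.ASU.Defs
import Cfsg.Agent.Lib.Helper26.ASUC.Defs
import Cfsg.Agent.Lib.Helper24.ASUCSIM

set_option autoImplicit false
set_option linter.unusedVariables false
set_option linter.unusedSectionVars false

/-!
# Project ASU, block C, case `k = d = 2`, piece C-22SUB, core : `H ≤ subfieldSubgroup F₀ P` from the statements of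
C-22RAT and C-22MEM as hypotheses
-/

namespace Cfsg.Agent.Lib.Helper19.ASU

open Cfsg Cfsg.Geo Cfsg.Agent.Lib.Helper27.ASC Cfsg.Agent.Lib.Helper19.ASG
open scoped MatrixGroups Matrix Kronecker

variable {n : ℕ} {F : Type*} [Field F]

/-- C-22SUB with the statements of C-22RAT (`hRAT`) and C-22MEM (`hMEM`) as hypotheses -/
theorem asuc22sub_core [Fintype F] (q : ℕ) (hF : Fintype.card F = q ^ 2) (F₀ : Subfield F)
    (hF₀ : ∀ a : F, a ∈ F₀ ↔ a ^ q = a) {H : Subgroup (GL (Fin n) F)} (hI : H ≤ GU n F q)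
    (e : Fin n ≃ Fin 2 × Fin 2) (P : GL (Fin n) F) (c : F) (hc0 : c ≠ 0)
    (hK : UKrGram q e P (c • ucJ) (c • ucJ)) (hH : H ≤ tensorProductSubgroup 2 2 e P)
    (hRAT : ∀ (μ : F), μ ≠ 0 → ∀ g : GL (Fin 2) F,
      (g : Matrix (Fin 2) (Fin 2) F)ᵀ * (c • ucJ) * (g : Matrix (Fin 2) (Fin 2) F).map (fun x : F => x ^ q) =
        μ • (c • ucJ) →
      ∃ ε : F, ε ≠ 0 ∧ ∀ i j, (ε * (g : Matrix (Fin 2) (Fin 2) F) i j) ^ q = ε * (g : Matrix (Fin 2) (Fin 2) F) i j)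
    (hMEM : ∀ (g : GL (Fin n) F) (M : Matrix (Fin n) (Fin n) F) (s : F), s ≠ 0 →
      (g : Matrix (Fin n) (Fin n) F) =
        (P : Matrix (Fin n) (Fin n) F) * M * ((P⁻¹ : GL (Fin n) F) : Matrix (Fin n) (Fin n) F) →
      (∀ i j, s * M i j ∈ F₀) → g ∈ subfieldSubgroup F₀ P) :
    H ≤ subfieldSubgroup F₀ P := by
  intro h hh
  have hJ0 : (c • (ucJ : Matrix (Fin 2) (Fin 2) F)) ≠ 0 := by
    intro h0
    have := congrFun (congrFun h0 0) 1
    simp [ucJ] at this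
    exact hc0 this
  obtain ⟨a, b, μ, hμ, hh', ha, hb⟩ := uc_kron_sim q hF e P (c • ucJ) (c • ucJ) hJ0 hJ0 hK h (hI hh) (hH hh)
  obtain ⟨ε, hε0, hε⟩ := hRAT μ hμ a ha
  obtain ⟨ε', hε'0, hε'⟩ := hRAT μ⁻¹ (inv_ne_zero hμ) b hb
  refine hMEM h _ (ε * ε') (mul_ne_zero hε0 hε'0) hh' ?_
  intro i j
  rw [hF₀]
  have hent : Matrix.reindexAlgEquiv F F e.symm
      ((a : Matrix (Fin 2) (Fin 2) F) ⊗ₖ (b : Matrix (Fin 2) (Fin 2) F)) i j =
      (a : Matrix (Fin 2) (Fin 2) F) (e i).1 (e j).1 * (b : Matrix (Fin 2) (Fin 2) F) (e i).2 (e j).2 := by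
    simp [Matrix.coe_reindexAlgEquiv, Matrix.reindex_apply, Matrix.kroneckerMap_apply]
  rw [hent]
  have h1 := hε (e i).1 (e j).1
  have h2 := hε' (e i).2 (e j).2
  calc (ε * ε' * ((a : Matrix (Fin 2) (Fin 2) F) (e i).1 (e j).1 * (b : Matrix (Fin 2) (Fin 2) F) (e i).2 (e j).2)) ^ q
      = (ε * (a : Matrix (Fin 2) (Fin 2) F) (e i).1 (e j).1) ^ q *
          (ε' * (b : Matrix (Fin 2) (Fin 2) F) (e i).2 (e j).2) ^ q := by
        rw [← mul_pow]; congr 1; ring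
    _ = ε * ε' * ((a : Matrix (Fin 2) (Fin 2) F) (e i).1 (e j).1 * (b : Matrix (Fin 2) (Fin 2) F) (e i).2 (e j).2) := by
        rw [h1, h2]; ring

end Cfsg.Agent.Lib.Helper19.ASU
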