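import Mathlib
import Cfsg.Prelude.Def_GeometricClasses
import Cfsg.Agent.Lib.Helper27.ASC.Defs
import Cfsg.Agent.Lib.Helper19.ASG.Defs
import Cfsg.Agent.Lib.Helper19.ASU.Defs
import Cfsg.Agent.Lib.Helper26.ASUC.Defs
import Cfsg.Agent.Lib.Helper24.ASUCSIM
import Cfsg.Agent.Lib.Helper22.ASUC22MEM
import Cfsg.Agent.Lib.Helper22.ASUC22RAT
import Cfsg.Agent.Lib.Helper11.ASUC22SUBa

set_option autoImplicit false
set_option linter.unusedVariables false
set_option linter.unusedSectionVars false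

/-!
# Project ASU, block C, case `k = d = 2`, piece C-22SUB : `H ≤ subfieldSubgroup F₀ P` (verbatim)
-/

namespace Cfsg.Agent.Lib.Helper19.ASU

open Cfsg Cfsg.Geo Cfsg.Agent.Lib.Helper27.ASC Cfsg.Agent.Lib.Helper19.ASG
open scoped MatrixGroups Matrix Kronecker

variable {n : ℕ} {F : Type*} [Field F]

/-- C-22SUB (medium; C-SIM `uc_kron_sim`, C-22RAT, C-22MEM as imports or hypotheses) : `h = P R(a ⊗ b) P⁻¹` with `a`, `b` similitudes
of `c J`; `ε a`, `ε' b` are `F₀`-rational, so `(ε ε') • R(a ⊗ b)` is. -/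
theorem uc_two_two_le [Fintype F] (q : ℕ) (hF : Fintype.card F = q ^ 2) (F₀ : Subfield F)
    (hF₀ : ∀ a : F, a ∈ F₀ ↔ a ^ q = a) {H : Subgroup (GL (Fin n) F)} (hI : H ≤ GU n F q)
    (e : Fin n ≃ Fin 2 × Fin 2) (P : GL (Fin n) F) (c : F) (hc0 : c ≠ 0)
    (hK : UKrGram q e P (c • ucJ) (c • ucJ)) (hH : H ≤ tensorProductSubgroup 2 2 e P) :
    H ≤ subfieldSubgroup F₀ P :=
  asuc22sub_core q hF F₀ hF₀ hI e P c hc0 hK hH
    (fun μ hμ g hg => uc_sim_J_rational q hF c μ hc0 hμ g hg)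
    (fun g M s hs hg hM => uc_mem_subfield F₀ P g M s hs hg hM)

end Cfsg.Agent.Lib.Helper19.ASU
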