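import Mathlib
import Cfsg.Prelude.Def_GeometricClasses
import Cfsg.Agent.Lib.Helper27.ASC.Defs
import Cfsg.Agent.Lib.Helper19.ASG.Defs
import Cfsg.Agent.Lib.Helper9.ASGD2T.Defs
import Cfsg.Agent.Lib.Helper9.ASGD2TF.Defs
import Cfsg.Agent.Lib.Helper19.ASU.Defs
import Cfsg.Agent.Lib.Helper19.ASUADJ
import Cfsg.Agent.Lib.Helper13.ASGD2TFSYMM

set_option autoImplicit false
set_option linter.unusedVariables false
set_option linter.unusedSectionVars false

/-!
# Project ASU, block D2T, piece PROP : proportional constant tensor powers have proportional factors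
-/

namespace Cfsg.Agent.Lib.Helper19.ASU

open Cfsg Cfsg.Geo Cfsg.Agent.Lib.Helper27.ASC Cfsg.Agent.Lib.Helper19.ASG
open scoped MatrixGroups Matrix

variable {n : ℕ} {F : Type*} [Field F]

/-- D2T-PROP -/
theorem ptMat_const_prop {k t : ℕ} (ht : 0 < t) (A A' : Matrix (Fin k) (Fin k) F) (hA : A ≠ 0) (ε : F) (hε : ε ≠ 0)
    (h : ptMat (fun _ : Fin t => A') = ε • ptMat (fun _ : Fin t => A)) :
    ∃ δ : F, A' = δ • A ∧ δ ^ t = ε := by
  obtain ⟨t', rfl⟩ : ∃ t', t = t' + 1 := ⟨t - 1, by omega⟩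
  obtain ⟨p, q, hpq⟩ : ∃ p q, A p q ≠ 0 := by
    by_contra hcon
    push Not at hcon
    exact hA (by ext i j; exact hcon i j)
  have key : ∀ r s, A' r s * A' p q ^ t' = ε * (A r s * A p q ^ t') := by
    intro r s
    have := congrFun (congrFun h (Fin.cons r (fun _ => p))) (Fin.cons s (fun _ => q))
    rw [Matrix.smul_apply, asgd2tfsymm_entry, asgd2tfsymm_entry, smul_eq_mul] at this
    exact this
  have h1 : A' p q * A' p q ^ t' = ε * (A p q * A p q ^ t') := key p q
  have hA'pq : A' p q ≠ 0 := by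
    intro h0
    rw [h0, zero_mul] at h1
    exact (mul_ne_zero hε (mul_ne_zero hpq (pow_ne_zero _ hpq))) h1.symm
  have h3 : A' p q ^ t' ≠ 0 := pow_ne_zero _ hA'pq
  refine ⟨A' p q / A p q, ?_, ?_⟩
  · ext r s
    rw [Matrix.smul_apply, smul_eq_mul]
    have h4 : A' r s * A p q = A' p q * A r s := by
      apply mul_right_cancel₀ h3
      linear_combination A p q * key r s - A r s * h1
    field_simp
    linear_combination h4
  · rw [div_pow, pow_succ', pow_succ', h1]
    field_simp

end Cfsg.Agent.Lib.Helper19.ASU
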