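import Mathlib
import Cfsg.Prelude.Def_GeometricClasses
import Cfsg.Agent.Lib.Helper27.ASC.Defs
import Cfsg.Agent.Lib.Helper19.ASG.Defs
import Cfsg.Agent.Lib.Helper9.ASGD2T.Defs
import Cfsg.Agent.Lib.Helper9.ASGD2TF.Defs
import Cfsg.Agent.Lib.Helper19.ASU.Defs
import Cfsg.Agent.Lib.Helper19.ASUADJ
import Cfsg.Agent.Lib.Helper11.ASUD2TPROP
import Cfsg.Agent.Lib.Helper29.ASGD1HERM
import Cfsg.Agent.Lib.Helper28.UHerm

set_option autoImplicit false
set_option linter.unusedVariables false
set_option linter.unusedSectionVars false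

/-!
# Project ASU, block D2T, piece HERM : normalising the factor of a hermitian tensor power Gram matrix
-/

namespace Cfsg.Agent.Lib.Helper19.ASU

open Cfsg Cfsg.Geo Cfsg.Agent.Lib.Helper27.ASC Cfsg.Agent.Lib.Helper19.ASG
open scoped MatrixGroups Matrix

variable {n : ℕ} {F : Type*} [Field F]

/-- the `σ`-transpose of a reindexed constant pure tensor -/
theorem asud2therm_map_transpose (σ : F →+* F) {k t : ℕ} (e : Fin n ≃ (Fin t → Fin k)) (c : F)
    (A : Matrix (Fin k) (Fin k) F) :
    ((c • Matrix.reindex e.symm e.symm (ptMat (fun _ : Fin t => A))).map σ)ᵀ =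
      σ c • Matrix.reindex e.symm e.symm (ptMat (fun _ : Fin t => (A.map σ)ᵀ)) := by
  ext x y
  simp only [Matrix.transpose_apply, Matrix.map_apply, Matrix.smul_apply, Matrix.reindex_apply,
    Matrix.submatrix_apply, ptMat_apply, map_prod, map_mul, smul_eq_mul, Equiv.symm_symm]

/-- the pure tensor of a constant rescaled factor -/
theorem asud2therm_smul_const {k t : ℕ} (μ : F) (A : Matrix (Fin k) (Fin k) F) :
    ptMat (fun _ : Fin t => μ • A) = μ ^ t • ptMat (fun _ : Fin t => A) := by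
  ext x y
  simp only [ptMat_apply, Matrix.smul_apply, smul_eq_mul, Finset.prod_mul_distrib, Finset.prod_const,
    Finset.card_univ, Fintype.card_fin]

variable [Fintype F]

/-- D2T-HERM -/
theorem uherm_normalise (q : ℕ) (hF : Fintype.card F = q ^ 2) {k t : ℕ} (hk : 0 < k) (ht : 0 < t)
    (e : Fin n ≃ (Fin t → Fin k)) (B : GL (Fin n) F) (A : Matrix (Fin k) (Fin k) F) (hA : IsUnit A.det)
    (c : F) (hc : c ≠ 0)
    (hgram : ((B : Matrix (Fin n) (Fin n) F).map (ufrob hF))ᵀ * (B : Matrix (Fin n) (Fin n) F) =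
      c • Matrix.reindex e.symm e.symm (ptMat (fun _ : Fin t => A))) :
    ∃ (μ c' : F), μ ≠ 0 ∧ c' ≠ 0 ∧ ((μ • A).map (ufrob hF))ᵀ = μ • A ∧
      ((B : Matrix (Fin n) (Fin n) F).map (ufrob hF))ᵀ * (B : Matrix (Fin n) (Fin n) F) =
        c' • Matrix.reindex e.symm e.symm (ptMat (fun _ : Fin t => μ • A)) := by
  classical
  set σ : F →+* F := ufrob hF with hσdef
  have hσσ : ∀ x, σ (σ x) = x := ufrob_ufrob hF
  have hσinj : Function.Injective σ := ufrob_injective hF
  set Bm : Matrix (Fin n) (Fin n) F := (B : Matrix (Fin n) (Fin n) F) with hBm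
  set G : Matrix (Fin n) (Fin n) F := (Bm.map σ)ᵀ * Bm with hG
  -- `G` is hermitian
  have hGh : (G.map σ)ᵀ = G := by
    ext i j
    simp only [hG, Matrix.transpose_apply, Matrix.map_apply, Matrix.mul_apply, map_sum, map_mul, hσσ]
    exact Finset.sum_congr rfl (fun l _ => mul_comm _ _)
  have hσc : σ c ≠ 0 := by
    intro h
    apply hc
    apply hσinj
    rw [h, map_zero]
  have h1 : σ c • Matrix.reindex e.symm e.symm (ptMat (fun _ : Fin t => (A.map σ)ᵀ)) =
      c • Matrix.reindex e.symm e.symm (ptMat (fun _ : Fin t => A)) := by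
    rw [← asud2therm_map_transpose, ← hgram, hGh]
  have h2 : ptMat (fun _ : Fin t => (A.map σ)ᵀ) = (c / σ c) • ptMat (fun _ : Fin t => A) := by
    ext x y
    have := congrFun (congrFun h1 (e.symm x)) (e.symm y)
    simp only [Matrix.smul_apply, Matrix.reindex_apply, Matrix.submatrix_apply, Equiv.symm_symm,
      Equiv.apply_symm_apply, smul_eq_mul] at this
    rw [Matrix.smul_apply, smul_eq_mul]
    field_simp
    linear_combination this
  have hA0 : A ≠ 0 := by
    intro h
    have hne : Nonempty (Fin k) := ⟨⟨0, hk⟩⟩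
    rw [h, Matrix.det_zero] at hA
    exact not_isUnit_zero hA
  obtain ⟨δ, hδA, hδt⟩ := ptMat_const_prop ht A ((A.map σ)ᵀ) hA0 (c / σ c) (div_ne_zero hc hσc) h2
  have hentry : ∀ i j, σ (A j i) = δ * A i j := by
    intro i j
    have := congrFun (congrFun hδA i) j
    simpa only [Matrix.transpose_apply, Matrix.map_apply, Matrix.smul_apply, smul_eq_mul] using this
  obtain ⟨p, r, hpr⟩ : ∃ p r, A p r ≠ 0 := by
    by_contra hcon
    push Not at hcon
    exact hA0 (by ext i j; exact hcon i j)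
  have hδ1 : σ δ * δ = 1 := by
    have h3 := hentry r p
    have h4 := hentry p r
    have h5 : σ (σ (A p r)) = σ δ * σ (A r p) := by rw [h3, map_mul]
    rw [hσσ, h4] at h5
    have h6 : (σ δ * δ - 1) * A p r = 0 := by linear_combination -h5
    rcases mul_eq_zero.mp h6 with h | h
    · linear_combination h
    · exact absurd h hpr
  obtain ⟨σ', hσ', hU⟩ := Cfsg.Agent.Lib.Helper28.UHerm.herm_unitary hF n
  have hσeq : ∀ x, σ' x = σ x := fun x => by rw [hσ', hσdef, ufrob_apply]
  obtain ⟨μ, hμ0, hμ⟩ := asgd1herm_h90 σ' hU.ne_refl hU.involutive δ (by rw [hσeq]; exact hδ1)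
  rw [hσeq] at hμ
  refine ⟨μ, c / μ ^ t, hμ0, div_ne_zero hc (pow_ne_zero _ hμ0), ?_, ?_⟩
  · ext i j
    simp only [Matrix.transpose_apply, Matrix.map_apply, Matrix.smul_apply, smul_eq_mul, map_mul]
    rw [hentry i j]
    linear_combination A i j * hμ
  · rw [hgram, asud2therm_smul_const]
    ext x y
    simp only [Matrix.smul_apply, Matrix.reindex_apply, Matrix.submatrix_apply, smul_eq_mul]
    field_simp

end Cfsg.Agent.Lib.Helper19.ASU
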