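import Mathlib
import Cfsg.Agent.Lib.helper6.AbCent.Defs
import Cfsg.Agent.Lib.helper2.AbCentB
import Cfsg.Agent.Lib.helper2.AbCentK
import Cfsg.Agent.Lib.helper17.AbCentT
import Cfsg.Agent.Lib.helper17.AbCentC
import Cfsg.Agent.Lib.Helper22.AbCentQ
import Cfsg.Agent.Lib.Helper22.AbCentG

/-!
# AbCent piece A (`stepA`) of helper6's project for S2202
-/

set_option autoImplicit false

namespace Cfsg.Agent.Lib.Helper11.AbCent
open Cfsg.Agent.Lib.helper6.AbCent
open Cfsg.Agent.Lib.helper2.AbCent Cfsg.Agent.Lib.helper17.AbCent Cfsg.Agent.Lib.Helper22.AbCent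

universe u
variable {G : Type u} [Group G] [Finite G]

theorem mem_smul_sylow_iff (P : Sylow 2 G) (g x : G) :
    x ∈ ((g • P : Sylow 2 G) : Subgroup G) ↔ g⁻¹ * x * g ∈ P := by
  rw [Sylow.coe_subgroup_smul, Subgroup.mem_pointwise_smul_iff_inv_smul_mem]
  simp only [MulAut.smul_def, MulAut.conj_inv_apply]
  exact Iff.rfl

/-- every Sylow 2-subgroup lies in the normal closure of one of them -/
theorem sylow_le_normalClosure (P Q : Sylow 2 G) :
    (Q : Subgroup G) ≤ Subgroup.normalClosure ((P : Subgroup G) : Set G) := by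
  obtain ⟨g, rfl⟩ := MulAction.exists_smul_eq G P Q
  intro x hx
  rw [mem_smul_sylow_iff] at hx
  have h1 : g⁻¹ * x * g ∈ Subgroup.normalClosure ((P : Subgroup G) : Set G) :=
    Subgroup.le_normalClosure hx
  have h2 := Subgroup.normalClosure_normal.conj_mem _ h1 g
  simpa [mul_assoc] using h2

theorem two_elt_of_mem_sylow (Q : Sylow 2 G) {x : G} (hx : x ∈ Q) : ∃ n : ℕ, orderOf x = 2 ^ n := by
  obtain ⟨n, hn⟩ := (IsPGroup.iff_orderOf.mp Q.isPGroup') ⟨x, hx⟩
  exact ⟨n, by rwa [Subgroup.orderOf_mk] at hn⟩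

/-- the normal closure of a non-normal Sylow 2-subgroup is not inside its normalizer -/
theorem normalClosure_not_le_NN (hS : Setup G) (P : Sylow 2 G) :
    ¬ Subgroup.normalClosure ((P : Subgroup G) : Set G) ≤ NN P := by
  intro hle
  apply hS.nn P
  have hall : ∀ g : G, g • P = P := by
    intro g
    have h1 : ((g • P : Sylow 2 G) : Subgroup G) ≤ (P : Subgroup G) := by
      intro x hx
      exact mem_sylow_of_normalizes P (two_elt_of_mem_sylow _ hx)
        (hle (sylow_le_normalClosure P (g • P) hx))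
    have h2 := (g • P).is_maximal' P.isPGroup' h1
    exact (Sylow.ext h2).symm
  have : Subgroup.normalizer ((P : Subgroup G) : Set G) = ⊤ := by
    rw [eq_top_iff]
    intro g _
    exact Sylow.smul_eq_iff_mem_normalizer.mp (hall g)
  exact Subgroup.normalizer_eq_top_iff.mp this

/-- the normal closure inside `L₀ = normalClosure P` of `P` is everything -/
theorem normalClosure_subtype_eq_top (P : Sylow 2 G)
    (hPL : (P : Subgroup G) ≤ Subgroup.normalClosure ((P : Subgroup G) : Set G)) :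
    Subgroup.normalClosure
      (((P.subtype hPL : Sylow 2 ↥(Subgroup.normalClosure ((P : Subgroup G) : Set G))) :
        Subgroup ↥(Subgroup.normalClosure ((P : Subgroup G) : Set G))) :
        Set ↥(Subgroup.normalClosure ((P : Subgroup G) : Set G))) = ⊤ := by
  set L₀ := Subgroup.normalClosure ((P : Subgroup G) : Set G) with hL₀
  set P' : Sylow 2 ↥L₀ := P.subtype hPL with hP'
  set M := Subgroup.normalClosure (((P' : Subgroup ↥L₀)) : Set ↥L₀) with hM
  have hMn : M.Normal := Subgroup.normalClosure_normal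
  have key : L₀ ≤ M.map L₀.subtype := by
    show Subgroup.closure (Group.conjugatesOfSet ((P : Subgroup G) : Set G)) ≤ M.map L₀.subtype
    rw [Subgroup.closure_le]
    intro a ha
    obtain ⟨x, hx, hxa⟩ := Group.mem_conjugatesOfSet_iff.mp ha
    obtain ⟨c, hc⟩ := isConj_iff.mp hxa
    -- a ∈ c • P
    have haQ : a ∈ ((c • P : Sylow 2 G) : Subgroup G) := by
      rw [mem_smul_sylow_iff, ← hc]
      simpa [mul_assoc] using hx
    have hQL : ((c • P : Sylow 2 G) : Subgroup G) ≤ L₀ := sylow_le_normalClosure P (c • P)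
    obtain ⟨l, hl⟩ := MulAction.exists_smul_eq ↥L₀ P' ((c • P).subtype hQL)
    rw [hP', Sylow.smul_subtype] at hl
    have hl2 : l • P = c • P := Sylow.subtype_injective hl
    have haQ2 : a ∈ (((l : G) • P : Sylow 2 G) : Subgroup G) := by
      have : (l • P : Sylow 2 G) = (l : G) • P := rfl
      rw [← this, hl2]; exact haQ
    rw [mem_smul_sylow_iff] at haQ2
    -- the element y = l⁻¹ a l ∈ P, as element of L₀ lies in P' ≤ M
    have hyL : (l : G)⁻¹ * a * l ∈ L₀ := hPL haQ2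
    have hyM : (⟨(l : G)⁻¹ * a * l, hyL⟩ : ↥L₀) ∈ M := by
      apply Subgroup.le_normalClosure
      show (⟨(l : G)⁻¹ * a * l, hyL⟩ : ↥L₀) ∈ (P' : Subgroup ↥L₀)
      rw [hP', Sylow.coe_subtype, Subgroup.mem_subgroupOf]
      exact haQ2
    have h3 := hMn.conj_mem _ hyM l
    refine ⟨l * ⟨(l : G)⁻¹ * a * l, hyL⟩ * l⁻¹, h3, ?_⟩
    simp [mul_assoc]
  rw [eq_top_iff]
  intro z _
  obtain ⟨m, hm, hmz⟩ := key z.2
  have : m = z := Subtype.ext hmz
  rwa [← this]

/-- if `P` is transitive on the other Sylow 2-subgroups, `K(P)` normalizes every Sylow 2-subgroup -/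
theorem KK_le_NN_of_trans (hS : Setup G) (P : Sylow 2 G)
    (htr : ∀ Q R : Sylow 2 G, Q ≠ P → R ≠ P → ∃ x ∈ P, x • Q = R)
    {k : G} (hk : k ∈ KK P) (R : Sylow 2 G) : k ∈ NN R := by
  obtain ⟨hkC, hkodd⟩ := (mem_KK hS P).mp hk
  have hkN : k ∈ NN P := Subgroup.centralizer_le_normalizer _ hkC
  by_cases hRP : R = P
  · rw [hRP]; exact hkN
  have hkR : k • R ≠ P := by
    intro h
    apply hRP
    have h1 : k⁻¹ • P = P := Sylow.smul_eq_iff_mem_normalizer.mpr (inv_mem hkN)
    calc R = k⁻¹ • (k • R) := by rw [inv_smul_smul]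
      _ = P := by rw [h, h1]
  obtain ⟨x, hxP, hx⟩ := htr R (k • R) hRP hkR
  have hcomm : ∀ j : ℕ, k * x ^ j = x ^ j * k := by
    intro j
    have := Subgroup.mem_centralizer_iff.mp hkC (x ^ j) (pow_mem hxP j)
    exact this.symm
  have hpow : ∀ j : ℕ, k ^ j • R = x ^ j • R := by
    intro j
    induction j with
    | zero => simp
    | succ j ih =>
      calc k ^ (j + 1) • R = k • (k ^ j • R) := by rw [pow_succ', mul_smul]
        _ = k • (x ^ j • R) := by rw [ih]
        _ = (k * x ^ j) • R := by rw [mul_smul]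
        _ = (x ^ j * k) • R := by rw [hcomm j]
        _ = x ^ j • (k • R) := by rw [mul_smul]
        _ = x ^ j • (x • R) := by rw [hx]
        _ = x ^ (j + 1) • R := by rw [← mul_smul, ← pow_succ]
  have h1 : x ^ orderOf k • R = R := by
    rw [← hpow, pow_orderOf_eq_one, one_smul]
  have h2 : x ^ orderOf k ∈ NN R := Sylow.smul_eq_iff_mem_normalizer.mp h1
  have h3 : x ^ orderOf k ∈ R := by
    refine mem_sylow_of_normalizes R ?_ h2
    exact two_elt_of_mem_sylow P (pow_mem hxP _)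
  have h4 : x ^ orderOf k = 1 := by
    by_contra hne
    exact hRP (sylow_TI hS.ac P R hne (pow_mem hxP _) h3).symm
  obtain ⟨n, hn⟩ := two_elt_of_mem_sylow P hxP
  have h5 : orderOf x ∣ orderOf k := orderOf_dvd_of_pow_eq_one h4
  have h6 : orderOf x = 1 := by
    rw [hn] at h5 ⊢
    rcases Nat.eq_zero_or_pos n with h0 | hpos
    · rw [h0]; rfl
    · exfalso
      have : 2 ∣ orderOf k := dvd_trans (dvd_pow_self 2 (Nat.pos_iff_ne_zero.mp hpos)) h5
      exact (Nat.not_even_iff_odd.mpr hkodd) (even_iff_two_dvd.mpr this)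
  have h7 : x = 1 := orderOf_eq_one_iff.mp h6
  rw [h7, one_smul] at hx
  exact Sylow.smul_eq_iff_mem_normalizer.mp hx.symm

/-- if `P` is transitive on the other Sylow 2-subgroups, `K(P)` centralizes every Sylow 2-subgroup -/
theorem KK_comm_of_trans (hS : Setup G) (P : Sylow 2 G)
    (htr : ∀ Q R : Sylow 2 G, Q ≠ P → R ≠ P → ∃ x ∈ P, x • Q = R)
    {k : G} (hk : k ∈ KK P) (R : Sylow 2 G) {x : G} (hx : x ∈ R) : k * x = x * k := by
  obtain ⟨hkC, hkodd⟩ := (mem_KK hS P).mp hk
  by_cases hRP : R = P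
  · rw [hRP] at hx
    exact (Subgroup.mem_centralizer_iff.mp hkC x hx).symm
  have hkR : k ∈ NN R := KK_le_NN_of_trans hS P htr hk R
  have hkN : k ∈ NN P := Subgroup.centralizer_le_normalizer _ hkC
  -- c = k x k⁻¹ x⁻¹ ∈ R
  have hc1 : k * x * k⁻¹ ∈ R := by
    have := (Subgroup.mem_normalizer_iff.mp hkR x).mp hx
    exact this
  have hcR : k * x * k⁻¹ * x⁻¹ ∈ R := mul_mem hc1 (inv_mem hx)
  -- R₂ = x • P ≠ R
  have hR2 : x • P ≠ R := by
    intro h
    apply hRP
    have hxN : x ∈ NN R := Subgroup.le_normalizer hx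
    have h1 : x⁻¹ • R = R := Sylow.smul_eq_iff_mem_normalizer.mpr (inv_mem hxN)
    calc R = x⁻¹ • R := h1.symm
      _ = x⁻¹ • (x • P) := by rw [h]
      _ = P := by rw [inv_smul_smul]
  have hk2 : k ∈ NN (x • P) := KK_le_NN_of_trans hS P htr hk (x • P)
  have hcfix : (k * x * k⁻¹ * x⁻¹) • (x • P) = x • P := by
    have h1 : k⁻¹ • P = P := Sylow.smul_eq_iff_mem_normalizer.mpr (inv_mem hkN)
    have h2 : k • (x • P) = x • P := Sylow.smul_eq_iff_mem_normalizer.mpr hk2
    calc (k * x * k⁻¹ * x⁻¹) • (x • P) = (k * x * k⁻¹) • P := by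
          rw [← mul_smul]; congr 1; group
      _ = k • (x • (k⁻¹ • P)) := by rw [mul_smul, mul_smul]
      _ = k • (x • P) := by rw [h1]
      _ = x • P := h2
  have hcN : k * x * k⁻¹ * x⁻¹ ∈ NN (x • P) := Sylow.smul_eq_iff_mem_normalizer.mp hcfix
  have hc2 : k * x * k⁻¹ * x⁻¹ ∈ (x • P : Sylow 2 G) :=
    mem_sylow_of_normalizes (x • P) (two_elt_of_mem_sylow R hcR) hcN
  have hc1' : k * x * k⁻¹ * x⁻¹ = 1 := by
    by_contra hne
    exact hR2 (sylow_TI hS.ac (x • P) R hne hc2 hcR)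
  calc k * x = (k * x * k⁻¹ * x⁻¹) * (x * k) := by group
    _ = x * k := by rw [hc1', one_mul]

theorem exists_invol_mem (hS : Setup G) (P : Sylow 2 G) : ∃ s : G, s ∈ P ∧ orderOf s = 2 := by
  have h3 := three_le_nI hS P
  unfold nI at h3
  have hne : Nonempty {t : G // t ∈ (P : Subgroup G) ∧ orderOf t = 2} := by
    by_contra hempty
    rw [not_nonempty_iff] at hempty
    rw [Nat.card_of_isEmpty] at h3
    omega
  obtain ⟨⟨s, hs1, hs2⟩⟩ := hne
  exact ⟨s, hs1, hs2⟩

theorem exists_ne_sylow (hS : Setup G) (P : Sylow 2 G) : ∃ Q : Sylow 2 G, Q ≠ P := by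
  by_contra hall
  have hall : ∀ Q : Sylow 2 G, Q = P := by
    intro Q
    by_contra hQ
    exact hall ⟨Q, hQ⟩
  apply hS.nn P
  have : Subgroup.normalizer ((P : Subgroup G) : Set G) = ⊤ := by
    rw [eq_top_iff]
    intro g _
    exact Sylow.smul_eq_iff_mem_normalizer.mp (hall (g • P))
  exact Subgroup.normalizer_eq_top_iff.mp this

/-- Piece A : `O^{2'}(G) < G` -/
theorem stepA (hS : Setup G) (P : Sylow 2 G)
    (hlt : Subgroup.normalClosure ((P : Subgroup G) : Set G) ≠ ⊤)
    (IH : ∀ H : Subgroup G, H ≠ ⊤ → Setup ↥H → Concl ↥H) : Concl G := by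
  set L₀ := Subgroup.normalClosure ((P : Subgroup G) : Set G) with hL₀
  have hLn : L₀.Normal := Subgroup.normalClosure_normal
  have hPL : (P : Subgroup G) ≤ L₀ := Subgroup.le_normalClosure
  have hall : ∀ Q : Sylow 2 G, (Q : Subgroup G) ≤ L₀ := sylow_le_normalClosure P
  have hS' : Setup ↥L₀ := Setup.of_le hS P L₀ hPL (normalClosure_not_le_NN hS P)
  have hC' : Concl ↥L₀ := IH L₀ hlt hS'
  set P' : Sylow 2 ↥L₀ := P.subtype hPL with hP'
  have hgen' : Subgroup.normalClosure (((P' : Subgroup ↥L₀)) : Set ↥L₀) = ⊤ :=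
    normalClosure_subtype_eq_top P hPL
  have hclean' : Clean ↥L₀ := concl_clean_of_gen hS' hC' P' hgen'
  -- transitivity of P on the other Sylows
  have htr : ∀ Q R : Sylow 2 G, Q ≠ P → R ≠ P → ∃ x ∈ P, x • Q = R := by
    intro Q R hQ hR
    have hQ' : Q.subtype (hall Q) ≠ P' := fun h => hQ (Sylow.subtype_injective h)
    have hR' : R.subtype (hall R) ≠ P' := fun h => hR (Sylow.subtype_injective h)
    obtain ⟨x, hx, hxQ⟩ := clean_trans hS' hclean' P' (Q.subtype (hall Q)) (R.subtype (hall R)) hQ' hR'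
    refine ⟨(x : G), ?_, ?_⟩
    · have : x ∈ (P' : Subgroup ↥L₀) := hx
      rw [hP', Sylow.coe_subtype, Subgroup.mem_subgroupOf] at this
      exact this
    · rw [Sylow.smul_subtype] at hxQ
      exact Sylow.subtype_injective hxQ
  set K := KK P with hK
  -- K centralizes L₀
  have hKL : ∀ k ∈ K, ∀ z ∈ L₀, k * z = z * k := by
    intro k hk
    have : L₀ ≤ Subgroup.centralizer ({k} : Set G) := by
      show Subgroup.closure (Group.conjugatesOfSet ((P : Subgroup G) : Set G)) ≤ _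
      rw [Subgroup.closure_le]
      intro a ha
      obtain ⟨x, hx, hxa⟩ := Group.mem_conjugatesOfSet_iff.mp ha
      obtain ⟨c, hc⟩ := isConj_iff.mp hxa
      have haQ : a ∈ ((c • P : Sylow 2 G) : Subgroup G) := by
        rw [mem_smul_sylow_iff, ← hc]
        simpa [mul_assoc] using hx
      have := KK_comm_of_trans hS P htr hk (c • P) haQ
      rw [SetLike.mem_coe, Subgroup.mem_centralizer_iff]
      intro h hh
      rw [Set.mem_singleton_iff] at hh
      rw [hh]; exact this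
    intro z hz
    have h1 := Subgroup.mem_centralizer_iff.mp (this hz) k (Set.mem_singleton k)
    exact h1
  obtain ⟨s, hsP, hs2⟩ := exists_invol_mem hS P
  have hcent : Subgroup.centralizer ({s} : Set G) = CC P := cent_invol hS.ac P hs2 hsP
  -- K is abelian
  have hKab : ∀ k ∈ K, ∀ k' ∈ K, k * k' = k' * k := by
    intro k hk k' hk'
    have h1 : k ∈ CC P := ((mem_KK hS P).mp hk).1
    have h2 : k' ∈ CC P := ((mem_KK hS P).mp hk').1
    have e1 : k * s = s * k := (Subgroup.mem_centralizer_iff.mp h1 s hsP).symm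
    have e2 : k' * s = s * k' := (Subgroup.mem_centralizer_iff.mp h2 s hsP).symm
    exact hS.ac s hs2 k k' e1 e2
  -- NN P ≤ L₀ ⊔ K
  obtain ⟨Q, hQP⟩ := exists_ne_sylow hS P
  have hNle : NN P ≤ L₀ ⊔ K := by
    intro n hn
    have htP : n * s * n⁻¹ ∈ P := (Subgroup.mem_normalizer_iff.mp hn s).mp hsP
    have ht2 : orderOf (n * s * n⁻¹) = 2 := by
      have : n * s * n⁻¹ = MulAut.conj n s := by simp
      rw [this, MulEquiv.orderOf_eq]
      exact hs2
    have hPQ' : P' ≠ Q.subtype (hall Q) := fun h => hQP (Sylow.subtype_injective h).symm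
    have hs' : orderOf (⟨s, hPL hsP⟩ : ↥L₀) = 2 := by rw [Subgroup.orderOf_mk]; exact hs2
    have ht' : orderOf (⟨n * s * n⁻¹, hPL htP⟩ : ↥L₀) = 2 := by rw [Subgroup.orderOf_mk]; exact ht2
    have hsP' : (⟨s, hPL hsP⟩ : ↥L₀) ∈ P' := by
      show (⟨s, hPL hsP⟩ : ↥L₀) ∈ (P' : Subgroup ↥L₀)
      rw [hP', Sylow.coe_subtype, Subgroup.mem_subgroupOf]; exact hsP
    have htP' : (⟨n * s * n⁻¹, hPL htP⟩ : ↥L₀) ∈ P' := by
      show (⟨n * s * n⁻¹, hPL htP⟩ : ↥L₀) ∈ (P' : Subgroup ↥L₀)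
      rw [hP', Sylow.coe_subtype, Subgroup.mem_subgroupOf]; exact htP
    obtain ⟨d, _, hd⟩ := D_trans hS' P' (Q.subtype (hall Q)) hPQ' hs' hsP' ht' htP'
    have hd2 : (d : G) * s * (d : G)⁻¹ = n * s * n⁻¹ := by
      have := congrArg Subtype.val hd
      simpa using this
    -- d⁻¹ n centralizes s
    have hc : (d : G)⁻¹ * n ∈ Subgroup.centralizer ({s} : Set G) := by
      rw [Subgroup.mem_centralizer_iff]
      intro h hh
      rw [Set.mem_singleton_iff] at hh
      rw [hh]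
      have e : s = (d : G)⁻¹ * (n * s * n⁻¹) * d := by rw [← hd2]; group
      calc s * ((d : G)⁻¹ * n) = (d : G)⁻¹ * (n * s * n⁻¹) * d * ((d : G)⁻¹ * n) := by rw [← e]
        _ = (d : G)⁻¹ * n * s := by group
    rw [hcent] at hc
    obtain ⟨x, hx, k, hk, hxk⟩ := mem_CC_decomp hS P hc
    have hn_eq : n = (d : G) * x * k := by
      calc n = (d : G) * ((d : G)⁻¹ * n) := by group
        _ = (d : G) * (x * k) := by rw [hxk]
        _ = (d : G) * x * k := by group
    rw [hn_eq]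
    exact mul_mem (Subgroup.mem_sup_left (mul_mem d.2 (hPL hx))) (Subgroup.mem_sup_right hk)
  have htop : L₀ ⊔ K = ⊤ := by
    rw [eq_top_iff, ← Sylow.normalizer_sup_eq_top' P hPL]
    exact sup_le hNle le_sup_left
  refine ⟨L₀, K, hLn, ?_, odd_card_KK hS P, ?_, htop, hclean'⟩
  · -- K central
    intro k hk
    rw [Subgroup.mem_center_iff]
    intro g
    have hg : g ∈ L₀ ⊔ K := by rw [htop]; trivial
    have hle : L₀ ⊔ K ≤ Subgroup.centralizer ({k} : Set G) := by
      apply sup_le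
      · intro z hz
        rw [Subgroup.mem_centralizer_iff]
        intro h hh
        rw [Set.mem_singleton_iff] at hh
        rw [hh]; exact hKL k hk z hz
      · intro z hz
        rw [Subgroup.mem_centralizer_iff]
        intro h hh
        rw [Set.mem_singleton_iff] at hh
        rw [hh]; exact hKab k hk z hz
    have := Subgroup.mem_centralizer_iff.mp (hle hg) k (Set.mem_singleton k)
    exact this.symm
  · -- L₀ ⊓ K = ⊥
    rw [eq_bot_iff]
    intro z hz
    obtain ⟨hzL, hzK⟩ := hz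
    obtain ⟨hzC, hzodd⟩ := (mem_KK hS P).mp hzK
    have e1 : z * s = s * z := (Subgroup.mem_centralizer_iff.mp hzC s hsP).symm
    have hs' : orderOf (⟨s, hPL hsP⟩ : ↥L₀) = 2 := by rw [Subgroup.orderOf_mk]; exact hs2
    obtain ⟨n, hn⟩ := hclean' (⟨s, hPL hsP⟩ : ↥L₀) ⟨z, hzL⟩ hs' (Subtype.ext e1)
    rw [Subgroup.orderOf_mk] at hn
    rw [Subgroup.mem_bot]
    rcases Nat.eq_zero_or_pos n with h0 | hpos
    · rw [h0, pow_zero] at hn
      exact orderOf_eq_one_iff.mp hn
    · exfalso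
      rw [hn] at hzodd
      have : Even (2 ^ n) := (Nat.even_pow.mpr ⟨even_two, Nat.pos_iff_ne_zero.mp hpos⟩)
      exact (Nat.not_even_iff_odd.mpr hzodd) this

end Cfsg.Agent.Lib.Helper11.AbCent
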