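import Mathlib

/-! Project B3P (S4427), piece SPEC: the spectral idempotent of an integral element `t` of an algebra over a
local domain in which monic polynomials split, for the unit eigenvalues of `t`. -/

set_option autoImplicit false
set_option linter.unusedVariables false
set_option linter.unusedSectionVars false
set_option linter.style.haveILetI false
open scoped ComplexConjugate
open Classical

namespace Cfsg.Agent.Lib.Lead.B3P

open Polynomial

theorem b3pspec_coprime_prod {R : Type*} [CommRing R] (m : Multiset R) (x : R)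
    (h : ∀ y ∈ m, IsCoprime y x) : IsCoprime m.prod x := by
  induction m using Multiset.induction_on with
  | empty => rw [Multiset.prod_zero]; exact isCoprime_one_left
  | cons a m ih =>
    rw [Multiset.prod_cons]
    exact IsCoprime.mul_left (h a (Multiset.mem_cons_self a m))
      (ih fun y hy => h y (Multiset.mem_cons_of_mem hy))

theorem b3pspec_unit_eval {O : Type*} [CommRing O] (m : Multiset O) (h : ∀ a ∈ m, IsUnit a) :
    IsUnit ((m.map (fun a => (X - C a : O[X]))).prod.eval 0) := by
  induction m using Multiset.induction_on with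
  | empty => simp
  | cons a m ih =>
    rw [Multiset.map_cons, Multiset.prod_cons, eval_mul]
    refine IsUnit.mul ?_ (ih fun b hb => h b (Multiset.mem_cons_of_mem hb))
    rw [eval_sub, eval_X, eval_C, zero_sub]
    exact (h a (Multiset.mem_cons_self a m)).neg

theorem b3pspec_root_mem {O : Type*} [CommRing O] [IsDomain O] (m : Multiset O) (z : O)
    (h : ((m.map (fun a => (X - C a : O[X]))).prod).eval z = 0) : z ∈ m := by
  induction m using Multiset.induction_on with
  | empty => simp at h
  | cons a m ih =>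
    rw [Multiset.map_cons, Multiset.prod_cons, eval_mul] at h
    rcases mul_eq_zero.mp h with h1 | h1
    · rw [eval_sub, eval_X, eval_C, sub_eq_zero] at h1
      rw [h1]
      exact Multiset.mem_cons_self a m
    · exact Multiset.mem_cons_of_mem (ih h1)

theorem b3pspec_coprime_linear {O : Type*} [CommRing O] [IsLocalRing O] (a b : O) (ha : ¬ IsUnit a)
    (hb : IsUnit b) : IsCoprime (X - C a : O[X]) (X - C b) := by
  have hu : IsUnit (b - a) := by
    by_contra hn
    have h1 : b - a ∈ nonunits O := hn
    have h2 : a ∈ nonunits O := ha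
    have h3 := IsLocalRing.nonunits_add h1 h2
    rw [sub_add_cancel] at h3
    exact h3 hb
  obtain ⟨w, hw⟩ := hu
  refine ⟨C ((w⁻¹ : Oˣ) : O), - C ((w⁻¹ : Oˣ) : O), ?_⟩
  have : (C ((w⁻¹ : Oˣ) : O) : O[X]) * C (b - a) = 1 := by
    rw [← C_mul, ← hw, Units.inv_mul, C_1]
  rw [C_sub] at this
  linear_combination this

/-- piece SPEC : the spectral idempotent of `t` for its unit eigenvalues -/
theorem spectral_idem {O A : Type*} [CommRing O] [IsDomain O] [IsLocalRing O] [Ring A] [Algebra O A]
    (hsplit : ∀ P : Polynomial O, P.Monic →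
      ∃ s : Multiset O, P = (s.map (fun a => X - C a)).prod)
    (t : A) (ht : IsIntegral O t) :
    ∃ f u : A, f * f = f ∧ u * t = f ∧ t * u = f ∧ u * f = u ∧ f * u = u ∧
      ∀ φ : A →ₐ[O] O, IsUnit (φ t) → φ f = 1 := by
  obtain ⟨P, hPm, hPt⟩ := ht
  rw [← aeval_def] at hPt
  obtain ⟨s, hs⟩ := hsplit P hPm
  set s0 : Multiset O := s.filter (fun a => ¬ IsUnit a) with hs0
  set s1 : Multiset O := s.filter (fun a => IsUnit a) with hs1
  set g0 : O[X] := (s0.map (fun a => X - C a)).prod with hg0
  set g1 : O[X] := (s1.map (fun a => X - C a)).prod with hg1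
  have hP : P = g1 * g0 := by
    rw [hs, hg0, hg1, ← Multiset.prod_add, ← Multiset.map_add, hs0, hs1, Multiset.filter_add_not]
  have hcop : IsCoprime g0 g1 := by
    rw [hg0]
    apply b3pspec_coprime_prod
    intro y hy
    obtain ⟨a, ha, rfl⟩ := Multiset.mem_map.mp hy
    have ha' : ¬ IsUnit a := (Multiset.mem_filter.mp ha).2
    apply IsCoprime.symm
    rw [hg1]
    apply b3pspec_coprime_prod
    intro y' hy'
    obtain ⟨b, hb, rfl⟩ := Multiset.mem_map.mp hy'
    have hb' : IsUnit b := (Multiset.mem_filter.mp hb).2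
    exact (b3pspec_coprime_linear a b ha' hb').symm
  obtain ⟨a, b, hab⟩ := hcop
  -- the constant term of g1 is a unit
  have hc0 : IsUnit (g1.coeff 0) := by
    rw [coeff_zero_eq_eval_zero, hg1]
    exact b3pspec_unit_eval s1 fun c hc => (Multiset.mem_filter.mp hc).2
  obtain ⟨w, hw⟩ := hc0
  have hdiv : divX g1 * X + C (w : O) = g1 := by
    rw [hw]; exact divX_mul_X_add g1
  have hcc : (C (-((w⁻¹ : Oˣ) : O)) : O[X]) * C (w : O) = -1 := by
    rw [← C_mul, neg_mul, Units.inv_mul, C_neg, C_1]
  have hev : ∀ K : O[X], aeval t (K * P) = 0 := by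
    intro K
    rw [map_mul, hPt, mul_zero]
  obtain ⟨F, hF⟩ : ∃ F : O[X], F = a * g0 := ⟨_, rfl⟩
  obtain ⟨Q, hQ⟩ : ∃ Q : O[X], Q = C (-((w⁻¹ : Oˣ) : O)) * divX g1 := ⟨_, rfl⟩
  obtain ⟨U, hU⟩ : ∃ U : O[X], U = Q * F := ⟨_, rfl⟩
  have hFF : F * F = F + (-(a * b)) * P := by
    rw [hF, hP]
    linear_combination (a * g0) * hab
  have hUX : U * X = F + (C (-((w⁻¹ : Oˣ) : O)) * a) * P := by
    rw [hU, hQ, hF, hP]
    linear_combination (C (-((w⁻¹ : Oˣ) : O)) * a * g0) * hdiv + (-(a * g0)) * hcc
  have hUF : U * F = U + (-(Q * a * b)) * P := by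
    rw [hU, hF, hP]
    linear_combination (Q * a * g0) * hab
  refine ⟨aeval t F, aeval t U, ?_, ?_, ?_, ?_, ?_, ?_⟩
  · rw [← map_mul, hFF, map_add, hev, add_zero]
  · have : aeval t U * t = aeval t (U * X) := by rw [map_mul, aeval_X]
    rw [this, hUX, map_add, hev, add_zero]
  · have : t * aeval t U = aeval t (U * X) := by rw [mul_comm U X, map_mul, aeval_X]
    rw [this, hUX, map_add, hev, add_zero]
  · rw [← map_mul, hUF, map_add, hev, add_zero]
  · rw [← map_mul, mul_comm F U, hUF, map_add, hev, add_zero]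
  · intro φ hφ
    have hφev : ∀ K : O[X], φ (aeval t K) = eval (φ t) K := by
      intro K
      rw [← aeval_algHom_apply, coe_aeval_eq_eval]
    have h0 : eval (φ t) P = 0 := by rw [← hφev, hPt, map_zero]
    rw [hP, eval_mul] at h0
    have h1 : eval (φ t) g1 = 0 := by
      rcases mul_eq_zero.mp h0 with h | h
      · exact h
      · exfalso
        have := b3pspec_root_mem s0 (φ t) h
        exact (Multiset.mem_filter.mp this).2 hφ
    rw [hφev, hF]
    have h2 := congrArg (eval (φ t)) hab
    rw [eval_add, eval_mul, eval_mul, h1, mul_zero, add_zero, eval_one] at h2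
    rw [eval_mul]
    exact h2

end Cfsg.Agent.Lib.Lead.B3P
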