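import Mathlib

/-! Project B3P (S4427), piece VLOC: the group algebra of a cyclic `p`-group over a local ring of residue
characteristic `p` is local. -/

set_option autoImplicit false
set_option linter.unusedVariables false
set_option linter.unusedSectionVars false
set_option linter.style.haveILetI false
open scoped ComplexConjugate
open Classical

namespace Cfsg.Agent.Lib.Lead.B3P

open Polynomial

/-- every element of `Multiplicative (ZMod n)` has `n`-th power one -/
theorem b3pvloc_pow_eq_one (n : ℕ) (c : Multiplicative (ZMod n)) : c ^ n = 1 := by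
  have h : Multiplicative.toAdd (c ^ n) = 0 := by
    rw [toAdd_pow, nsmul_eq_mul, ZMod.natCast_self, zero_mul]
  have h2 : c ^ n = Multiplicative.ofAdd (Multiplicative.toAdd (c ^ n)) := rfl
  rw [h2, h]
  rfl

/-- every maximal ideal of `O[ℤ/p^s]` is the preimage of the maximal ideal of `O` under the augmentation -/
theorem b3pvloc_max_eq {O : Type*} [CommRing O] [IsLocalRing O] (p s : ℕ)
    [Fact p.Prime] (hp : ((p : ℕ) : O) ∈ IsLocalRing.maximalIdeal O)
    (J : Ideal (MonoidAlgebra O (Multiplicative (ZMod (p ^ s))))) (hJ : J.IsMaximal) :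
    J = Ideal.comap
      (MonoidAlgebra.lift O O (Multiplicative (ZMod (p ^ s))) (1 : Multiplicative (ZMod (p ^ s)) →* O))
      (IsLocalRing.maximalIdeal O) := by
  haveI : NeZero (p ^ s) := ⟨pow_ne_zero _ (Fact.out : p.Prime).ne_zero⟩
  haveI : Algebra.IsIntegral O (MonoidAlgebra O (Multiplicative (ZMod (p ^ s)))) :=
    Algebra.IsIntegral.of_finite O _
  have hcomap : Ideal.comap (algebraMap O (MonoidAlgebra O (Multiplicative (ZMod (p ^ s))))) J =
      IsLocalRing.maximalIdeal O :=
    IsLocalRing.eq_maximalIdeal (Ideal.isMaximal_comap_of_isIntegral_of_isMaximal J)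
  letI : Field (MonoidAlgebra O (Multiplicative (ZMod (p ^ s))) ⧸ J) := Ideal.Quotient.field J
  have hpK : ((p : ℕ) : MonoidAlgebra O (Multiplicative (ZMod (p ^ s))) ⧸ J) = 0 := by
    have h1 : algebraMap O (MonoidAlgebra O (Multiplicative (ZMod (p ^ s)))) ((p : ℕ) : O) ∈ J := by
      have : ((p : ℕ) : O) ∈ Ideal.comap (algebraMap O (MonoidAlgebra O (Multiplicative (ZMod (p ^ s))))) J := by
        rw [hcomap]; exact hp
      exact this
    rw [map_natCast] at h1
    have := Ideal.Quotient.eq_zero_iff_mem.mpr h1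
    rw [map_natCast] at this
    exact this
  haveI : CharP (MonoidAlgebra O (Multiplicative (ZMod (p ^ s))) ⧸ J) p :=
    (CharP.charP_iff_prime_eq_zero (Fact.out : p.Prime)).mpr hpK
  -- the image of a group element is one
  have hz : ∀ c : Multiplicative (ZMod (p ^ s)),
      Ideal.Quotient.mk J (MonoidAlgebra.single c (1 : O)) = 1 := by
    intro c
    have h1 : (Ideal.Quotient.mk J (MonoidAlgebra.single c (1 : O))) ^ (p ^ s) = 1 := by
      rw [← map_pow, MonoidAlgebra.single_pow, b3pvloc_pow_eq_one, one_pow]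
      exact map_one _
    have h2 : (Ideal.Quotient.mk J (MonoidAlgebra.single c (1 : O)) - 1) ^ (p ^ s) = 0 := by
      rw [sub_pow_char_pow, h1, one_pow, sub_self]
    exact sub_eq_zero.mp (pow_eq_zero_iff (pow_ne_zero _ (Fact.out : p.Prime).ne_zero) |>.mp h2)
  -- the two algebra homomorphisms agree
  have hφ : (Ideal.Quotient.mkₐ O J) =
      (Algebra.ofId O (MonoidAlgebra O (Multiplicative (ZMod (p ^ s))) ⧸ J)).comp
        (MonoidAlgebra.lift O O (Multiplicative (ZMod (p ^ s)))
          (1 : Multiplicative (ZMod (p ^ s)) →* O)) := by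
    apply MonoidAlgebra.algHom_ext
    · intro c
      rw [Ideal.Quotient.mkₐ_eq_mk, hz c, AlgHom.comp_apply, MonoidAlgebra.lift_single, one_smul,
        MonoidHom.one_apply, map_one]
    · apply AlgHom.ext
      intro r
      simp only [AlgHom.comp_apply]
      rw [MonoidAlgebra.singleOneAlgHom_apply]
      have hsingle : (MonoidAlgebra.single (1 : Multiplicative (ZMod (p ^ s))) r) =
          r • (1 : MonoidAlgebra O (Multiplicative (ZMod (p ^ s)))) := by
        rw [MonoidAlgebra.one_def, MonoidAlgebra.smul_single, smul_eq_mul, mul_one]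
      rw [hsingle, map_smul, map_smul, map_smul, map_one, map_one, map_one]
  ext x
  rw [Ideal.mem_comap]
  have h1 : x ∈ J ↔ Ideal.Quotient.mkₐ O J x = 0 := by
    rw [Ideal.Quotient.mkₐ_eq_mk]
    exact Ideal.Quotient.eq_zero_iff_mem.symm
  rw [h1, hφ, AlgHom.comp_apply, ← hcomap, Ideal.mem_comap, Algebra.ofId_apply,
    IsScalarTower.algebraMap_apply O (MonoidAlgebra O (Multiplicative (ZMod (p ^ s))))
      (MonoidAlgebra O (Multiplicative (ZMod (p ^ s))) ⧸ J), Ideal.Quotient.algebraMap_eq,
    Ideal.Quotient.eq_zero_iff_mem]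

/-- piece VLOC : the group algebra of a cyclic `p`-group over a local ring of residue characteristic `p` is local -/
theorem isLocalRing_monoidAlgebra_zmod {O : Type*} [CommRing O] [IsLocalRing O] (p s : ℕ)
    [Fact p.Prime] (hp : ((p : ℕ) : O) ∈ IsLocalRing.maximalIdeal O) :
    IsLocalRing (MonoidAlgebra O (Multiplicative (ZMod (p ^ s)))) := by
  obtain ⟨J0, hJ0⟩ := Ideal.exists_maximal (MonoidAlgebra O (Multiplicative (ZMod (p ^ s))))
  exact IsLocalRing.of_unique_max_ideal ⟨J0, hJ0, fun J hJ =>
    (b3pvloc_max_eq p s hp J hJ).trans (b3pvloc_max_eq p s hp J0 hJ0).symm⟩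

end Cfsg.Agent.Lib.Lead.B3P
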