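import Mathlib
import Cfsg.Agent.Lib.Lead.BCG.Defs
import Cfsg.Agent.S0245

set_option autoImplicit false
set_option linter.unusedVariables false

/-!
# Project BCG, row S1 (helper11): `sp_cauchy`, verbatim (Cauchy + the order formula S0245; as helper9's BCS C3 with a general factor).
-/

namespace Cfsg.Agent.Lib.Lead.BCG

open Polynomial Module Matrix Cfsg.Agent.Lib.Helper13.S5955 Cfsg.Agent.Lib.helper15.S5972
  Cfsg.Agent.Lib.Helper18.ONE Cfsg.Agent.Lib.Lead.BCS

/-- S1 [S-M] -/
theorem sp_cauchy {F : Type*} [Field F] [Fintype F] (m : ℕ) (s : ℕ) [Fact s.Prime] (j : ℕ)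
    (hj1 : 1 ≤ j) (hjm : j ≤ m) (hs : s ∣ Fintype.card F ^ (2 * j) - 1) :
    ∃ y : Matrix.symplecticGroup (Fin m) F, orderOf y = s := by
  have hcard := Cfsg.Agent.S0245.result (F := F) (q := Fintype.card F) rfl m
  have hfin : Finite (Matrix.symplecticGroup (Fin m) F) := by
    apply Nat.finite_of_card_ne_zero
    rw [hcard]
    apply mul_ne_zero
    · exact pow_ne_zero _ Fintype.card_ne_zero
    · apply Finset.prod_ne_zero_iff.mpr
      intro i _
      have h1 : 1 < Fintype.card F := Fintype.one_lt_card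
      have : 1 < Fintype.card F ^ (2 * (i + 1)) := Nat.one_lt_pow (by omega) h1
      omega
  have hdvd : s ∣ Nat.card (Matrix.symplecticGroup (Fin m) F) := by
    rw [hcard]
    apply Dvd.dvd.mul_left
    have hmem : j - 1 ∈ Finset.range m := Finset.mem_range.mpr (by omega)
    have h2 : 2 * (j - 1 + 1) = 2 * j := by omega
    have := Finset.dvd_prod_of_mem (fun i => Fintype.card F ^ (2 * (i + 1)) - 1) hmem
    simp only [h2] at this
    exact hs.trans this
  exact exists_prime_orderOf_dvd_card' s hdvd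

end Cfsg.Agent.Lib.Lead.BCG
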