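import Mathlib
import Cfsg.Agent.Lib.Lead.BCS.Defs

set_option autoImplicit false

/-!
# Project BCS, row A5 (helper11): `bcs_unip_fix`, verbatim.
A nilpotent `u - 1` has a fixed vector in every nonzero invariant subspace.
-/

namespace Cfsg.Agent.Lib.Lead.BCS

open Polynomial Module Matrix Cfsg.Agent.Lib.Helper13.S5955 Cfsg.Agent.Lib.helper15.S5972
  Cfsg.Agent.Lib.Helper18.ONE

/-- A5 [S-M] -/
theorem bcs_unip_fix {F : Type*} [Field F] {V : Type*} [AddCommGroup V] [Module F V]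
    (u : Module.End F V) (k : ℕ) (hk : (u - 1) ^ k = 0) (W : Submodule F V) (hW : SInv u W)
    (hW0 : W ≠ ⊥) : W ⊓ fixS u ≠ ⊥ := by
  classical
  obtain ⟨w, hwW, hw0⟩ := Submodule.exists_mem_ne_zero_of_ne_bot hW0
  have hN : ∀ v ∈ W, (u - 1) v ∈ W := by
    intro v hv
    rw [LinearMap.sub_apply, Module.End.one_apply]
    exact W.sub_mem (hW v hv) hv
  have hNpow : ∀ j : ℕ, ((u - 1) ^ j) w ∈ W := by
    intro j
    induction j with
    | zero => simpa using hwW
    | succ j ih =>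
      rw [pow_succ', Module.End.mul_apply]
      exact hN _ ih
  have hex : ∃ j : ℕ, ((u - 1) ^ j) w = 0 := ⟨k, by rw [hk]; rfl⟩
  set j := Nat.find hex with hj
  have hj0 : ((u - 1) ^ j) w = 0 := Nat.find_spec hex
  have hjpos : j ≠ 0 := by
    intro h
    rw [h, pow_zero, Module.End.one_apply] at hj0
    exact hw0 hj0
  obtain ⟨i, hi⟩ := Nat.exists_eq_succ_of_ne_zero hjpos
  have hmin : ((u - 1) ^ i) w ≠ 0 := Nat.find_min hex (by omega)
  intro hbot
  apply hmin
  have hmem : ((u - 1) ^ i) w ∈ W ⊓ fixS u := by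
    refine Submodule.mem_inf.mpr ⟨hNpow i, ?_⟩
    rw [bcs_mem_fixS]
    have h1 : (u - 1) (((u - 1) ^ i) w) = 0 := by
      rw [← Module.End.mul_apply, ← pow_succ', ← Nat.succ_eq_add_one, ← hi]
      exact hj0
    rw [LinearMap.sub_apply, Module.End.one_apply, sub_eq_zero] at h1
    exact h1
  rw [hbot] at hmem
  exact (Submodule.mem_bot F).mp hmem

end Cfsg.Agent.Lib.Lead.BCS
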