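import Mathlib
import Cfsg.Agent.Lib.Lead.BCS.Defs
import Cfsg.Agent.Lib.Helper24.ElR
import Cfsg.Agent.Lib.Helper11.BCSA5

set_option autoImplicit false

/-!
# Project BCS, row A6a (helper11), CORE: `bcs_unip_cyc_irr` with the statements of A3 (`bcs_comm_inv`) and A4 (`bcs_inv_dvd`) as hypotheses.
-/

namespace Cfsg.Agent.Lib.Lead.BCS

open Polynomial Module Matrix Cfsg.Agent.Lib.Helper13.S5955 Cfsg.Agent.Lib.helper15.S5972
  Cfsg.Agent.Lib.Helper18.ONE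

/-- A6a with A3 (at `(u, y)` and `(y, u)`) and A4 as hypotheses -/
theorem bcsa6a_core {F : Type*} [Field F] [Fintype F] {p : ℕ} [Fact p.Prime] [CharP F p]
    {V : Type*} [AddCommGroup V] [Module F V] [FiniteDimensional F V]
    {ℓ : ℕ} [Fact ℓ.Prime] (y u : Module.End F V)
    (hup : u ^ p = 1) (hdim : finrank F (cycS ℓ y) = orderOf ((Fintype.card F : ℕ) : ZMod ℓ))
    (hA3 : SInv u (cycS ℓ y)) (hA3' : SInv y (fixS u))
    (hA4 : ∀ K : Submodule F V, SInv y K → K ≤ cycS ℓ y →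
      orderOf ((Fintype.card F : ℕ) : ZMod ℓ) ∣ finrank F K) :
    ∀ w ∈ cycS ℓ y, u w = w := by
  intro w hw
  by_cases hbot : cycS ℓ y = ⊥
  · rw [hbot] at hw
    rw [(Submodule.mem_bot F).mp hw, map_zero]
  have hnil : (u - 1) ^ p = 0 := by
    rw [Cfsg.Agent.Lib.Helper24.el_sub_one_pow_char, hup, sub_self]
  have hK0 := bcs_unip_fix u p hnil (cycS ℓ y) hA3 hbot
  have hKinv : SInv y (cycS ℓ y ⊓ fixS u) :=
    Cfsg.Agent.Lib.Helper24.el_inv_inf (Cfsg.Agent.Lib.Helper24.el_inv_ker y _) hA3'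
  have hdvd := hA4 (cycS ℓ y ⊓ fixS u) hKinv inf_le_left
  have hle : finrank F ↥(cycS ℓ y ⊓ fixS u) ≤ finrank F ↥(cycS ℓ y) :=
    Submodule.finrank_mono inf_le_left
  have hpos : 0 < finrank F ↥(cycS ℓ y ⊓ fixS u) := by
    rw [Module.finrank_pos_iff]
    exact Submodule.nontrivial_iff_ne_bot.mpr hK0
  have heq : finrank F ↥(cycS ℓ y ⊓ fixS u) = finrank F ↥(cycS ℓ y) := by
    rw [hdim] at hle ⊢
    exact le_antisymm hle (Nat.le_of_dvd hpos hdvd)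
  have hKeq : cycS ℓ y ⊓ fixS u = cycS ℓ y :=
    Submodule.eq_of_le_of_finrank_eq inf_le_left heq
  have hwK : w ∈ cycS ℓ y ⊓ fixS u := by rw [hKeq]; exact hw
  exact (bcs_mem_fixS u w).mp (Submodule.mem_inf.mp hwK).2

end Cfsg.Agent.Lib.Lead.BCS
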