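import Mathlib
import Cfsg.Agent.Lib.Lead.BCS.Defs
import Cfsg.Agent.Lib.Helper24.ElB
import Cfsg.Agent.Lib.Helper24.ElD
import Cfsg.Agent.Lib.Helper11.BCSA6acore

set_option autoImplicit false

/-!
# Project BCS, row A6a (helper11): `bcs_unip_cyc_irr`, verbatim.
(The contents of A3 / A4 are re-proved inline under `bcsa6a_*` names, so this file imports neither row.)
-/

namespace Cfsg.Agent.Lib.Lead.BCS

open Polynomial Module Matrix Cfsg.Agent.Lib.Helper13.S5955 Cfsg.Agent.Lib.helper15.S5972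
  Cfsg.Agent.Lib.Helper18.ONE

/-- `g` commuting with `y` preserves `ker P(y)` -/
theorem bcsa6a_comm_inv {F : Type*} [Field F] {V : Type*} [AddCommGroup V] [Module F V]
    (g y : Module.End F V) (hc : Commute g y) (P : F[X]) :
    SInv g (LinearMap.ker (aeval y P)) := by
  intro w hw
  rw [LinearMap.mem_ker] at hw ⊢
  have h1 : Commute g (aeval y P) :=
    Algebra.commute_of_mem_adjoin_singleton_of_commute (Polynomial.aeval_mem_adjoin_singleton F y) hc
  have h2 := congrArg (fun t : Module.End F V => t w) h1.eq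
  simp only [Module.End.mul_apply] at h2
  rw [← h2, hw, map_zero]

/-- `ord_ℓ(q)` divides the dimension of a `y`-invariant subspace of `cycS ℓ y` -/
theorem bcsa6a_inv_dvd {F : Type*} [Field F] [Fintype F] {p : ℕ} [Fact p.Prime] [CharP F p]
    {V : Type*} [AddCommGroup V] [Module F V] [FiniteDimensional F V]
    {ℓ : ℕ} [Fact ℓ.Prime] (hℓp : ℓ ≠ p) (y : Module.End F V) (K : Submodule F V)
    (hK : SInv y K) (hKc : K ≤ cycS ℓ y) :
    orderOf ((Fintype.card F : ℕ) : ZMod ℓ) ∣ finrank F K :=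
  Cfsg.Agent.Lib.Helper24.el_dvd_dim y K hK (cyclotomic ℓ F) (cyclotomic_ne_zero ℓ F)
    (fun u hu => LinearMap.mem_ker.mp (hKc hu)) _ (Cfsg.Agent.Lib.Helper24.el_ord_pos ℓ hℓp)
    (fun P hP hPd => Cfsg.Agent.Lib.Helper24.el_cyc_deg ℓ hℓp P hP hPd)

/-- A6a [M] -/
theorem bcs_unip_cyc_irr {F : Type*} [Field F] [Fintype F] {p : ℕ} [Fact p.Prime] [CharP F p]
    {V : Type*} [AddCommGroup V] [Module F V] [FiniteDimensional F V]
    {ℓ : ℕ} [Fact ℓ.Prime] (hℓp : ℓ ≠ p) (y u : Module.End F V) (hc : Commute u y)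
    (hup : u ^ p = 1) (hdim : finrank F (cycS ℓ y) = orderOf ((Fintype.card F : ℕ) : ZMod ℓ)) :
    ∀ w ∈ cycS ℓ y, u w = w :=
  bcsa6a_core y u hup hdim (bcsa6a_comm_inv u y hc _) (bcsa6a_comm_inv y u hc.symm _)
    (fun K hK hKc => bcsa6a_inv_dvd hℓp y K hK hKc)

end Cfsg.Agent.Lib.Lead.BCS
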