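import Mathlib
import Cfsg.Agent.Lib.Lead.BCG.Defs
import Cfsg.Agent.Lib.Helper11.BCSA6a
import Cfsg.Agent.Lib.Helper21.BCSA6Bh21w
import Cfsg.Agent.Lib.Helper11.BCGX3

set_option autoImplicit false

/-!
# Project BCG, row S5 (helper11), CORE: `s_ps_nec` with the statements of L2 (→), X1, A17, R1, T2a as hypotheses
(BCS A6a from Helper11.BCSA6a, BCS A6b = helper21's `bcsa6b_h21`, X3 from Helper11.BCGX3).
-/

namespace Cfsg.Agent.Lib.Lead.BCG

open Polynomial Module Matrix Cfsg.Agent.Lib.Helper13.S5955 Cfsg.Agent.Lib.helper15.S5972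
  Cfsg.Agent.Lib.Helper18.ONE Cfsg.Agent.Lib.Lead.BCS

/-- odd order of the field: `2 ≠ 0` -/
theorem bcgs5_two_ne {F : Type*} [Field F] [Fintype F] (hodd : Odd (Fintype.card F)) :
    (2 : F) ≠ 0 := by
  intro h
  have h1 : ringChar F = 2 :=
    CharP.ringChar_of_prime_eq_zero Nat.prime_two (by exact_mod_cast h)
  have h2 := FiniteField.even_card_of_char_two h1
  rcases hodd with ⟨k, hk⟩
  omega

/-- the characteristic of a field of odd order is odd, and a prime `s ≠ p` does not divide the order -/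
theorem bcgs5_char {F : Type*} [Field F] [Fintype F] {p : ℕ} [hp : Fact p.Prime] [CharP F p]
    (hodd : Odd (Fintype.card F)) (s : ℕ) (hs : s.Prime) (hsp : s ≠ p) :
    p ≠ 2 ∧ ¬ s ∣ Fintype.card F := by
  obtain ⟨k, hk, hcard⟩ := FiniteField.card F p
  constructor
  · rintro rfl
    rw [hcard] at hodd
    have : Even (2 ^ (k : ℕ)) := (Nat.even_pow.mpr ⟨even_two, k.ne_zero⟩)
    exact (Nat.not_even_iff_odd.mpr hodd) this
  · intro hdvd
    rw [hcard] at hdvd
    have h1 := hs.dvd_of_dvd_pow hdvd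
    exact hsp ((Nat.prime_dvd_prime_iff_eq hs hp.out).mp h1)

/-- S5 with the statements of L2 (→), X1, A17, R1, T2a as hypotheses -/
theorem bcgs5_core {F : Type*} [Field F] [Fintype F] {p : ℕ} [Fact p.Prime] [CharP F p]
    (hodd : Odd (Fintype.card F)) (n : ℕ) (s : ℕ) [Fact s.Prime] (hsp : s ≠ p)
    (hs2 : s ≠ 2)
    (hL2 : ∃ x : Matrix.symplecticGroup (Fin n) F, orderOf x = p * s)
    (hX1 : ∀ (x : Matrix.symplecticGroup (Fin n) F) (N : ℕ), x ^ N = 1 →
      SCtx N (stdB n F) (Matrix.toLin' (x : Matrix (Fin n ⊕ Fin n) (Fin n ⊕ Fin n) F)))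
    (hA17 : ∀ y : Module.End F (Fin n ⊕ Fin n → F), SCtx s (stdB n F) y → y ≠ 1 →
      0 < finrank F (cycS s y) ∧ cOf (Fintype.card F) s ∣ finrank F (cycS s y) ∧
        finrank F (fixS y) + finrank F (cycS s y) = finrank F (Fin n ⊕ Fin n → F))
    (hR1 : Even (cOf (Fintype.card F) s) ∧ 2 ≤ cOf (Fintype.card F) s)
    (hT2a : ∀ y : Module.End F (Fin n ⊕ Fin n → F), SCtx s (stdB n F) y → fixS y = ⊥ →
      OCtx s (altB (stdB n F) y s) y ∧
        ∀ g : Module.End F (Fin n ⊕ Fin n → F),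
          (∀ u v, stdB n F (g u) (g v) = stdB n F u v) → Commute g y →
          ∀ u v, altB (stdB n F) y s (g u) (g v) = altB (stdB n F) y s u v) :
    CritP (Fintype.card F) n s := by
  have h2 : (2 : F) ≠ 0 := bcgs5_two_ne hodd
  have hsP : s.Prime := Fact.out
  have hpP : p.Prime := Fact.out
  obtain ⟨x, hx⟩ := hL2
  -- the two commuting elements
  have hxps : x ^ (p * s) = 1 := by rw [← hx]; exact pow_orderOf_eq_one x
  have hys : (x ^ p) ^ s = 1 := by rw [← pow_mul]; exact hxps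
  have hup : (x ^ s) ^ p = 1 := by rw [← pow_mul, mul_comm]; exact hxps
  have hy1 : x ^ p ≠ 1 := by
    intro h
    have := orderOf_dvd_of_pow_eq_one h
    rw [hx] at this
    have h3 : p * s ∣ p * 1 := by simpa using this
    have h4 := (Nat.mul_dvd_mul_iff_left hpP.pos).mp h3
    exact hsP.one_lt.ne' (Nat.dvd_one.mp h4)
  have hu1 : x ^ s ≠ 1 := by
    intro h
    have := orderOf_dvd_of_pow_eq_one h
    rw [hx] at this
    have h3 : p * s ∣ 1 * s := by simpa using this
    have h4 := (Nat.mul_dvd_mul_iff_right hsP.pos).mp h3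
    exact hpP.one_lt.ne' (Nat.dvd_one.mp h4)
  set y : Module.End F (Fin n ⊕ Fin n → F) :=
    Matrix.toLin' ((x ^ p : Matrix.symplecticGroup (Fin n) F) :
      Matrix (Fin n ⊕ Fin n) (Fin n ⊕ Fin n) F) with hy
  set u : Module.End F (Fin n ⊕ Fin n → F) :=
    Matrix.toLin' ((x ^ s : Matrix.symplecticGroup (Fin n) F) :
      Matrix (Fin n ⊕ Fin n) (Fin n ⊕ Fin n) F) with hu
  have hyctx : SCtx s (stdB n F) y := hX1 (x ^ p) s hys
  have huctx : SCtx p (stdB n F) u := hX1 (x ^ s) p hup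
  have hyne : y ≠ 1 := by
    intro h
    apply hy1
    have := (sp_same n (x ^ p) 1).mpr (by rw [pow_one]; exact h)
    rwa [pow_one] at this
  have hune : u ≠ 1 := by
    intro h
    apply hu1
    have := (sp_same n (x ^ s) 1).mpr (by rw [pow_one]; exact h)
    rwa [pow_one] at this
  have hcomm : Commute u y := by
    show u * y = y * u
    rw [hy, hu]
    have e1 : ((x ^ s : Matrix.symplecticGroup (Fin n) F) :
        Matrix (Fin n ⊕ Fin n) (Fin n ⊕ Fin n) F) *
        ((x ^ p : Matrix.symplecticGroup (Fin n) F) :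
        Matrix (Fin n ⊕ Fin n) (Fin n ⊕ Fin n) F) =
        ((x ^ p : Matrix.symplecticGroup (Fin n) F) :
        Matrix (Fin n ⊕ Fin n) (Fin n ⊕ Fin n) F) *
        ((x ^ s : Matrix.symplecticGroup (Fin n) F) :
        Matrix (Fin n ⊕ Fin n) (Fin n ⊕ Fin n) F) := by
      rw [← Submonoid.coe_mul, ← Submonoid.coe_mul, ← pow_add, ← pow_add, add_comm]
    have e2 := congrArg Matrix.toLin' e1
    rw [Matrix.toLin'_mul, Matrix.toLin'_mul] at e2
    exact e2
  obtain ⟨hgpos, hcdvd, hsum⟩ := hA17 y hyctx hyne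
  have hV : finrank F (Fin n ⊕ Fin n → F) = 2 * n := by
    rw [Module.finrank_fintype_fun_eq_card, Fintype.card_sum, Fintype.card_fin]
    ring
  rw [hV] at hsum
  unfold CritP
  by_contra hcon
  obtain ⟨hceven, hc2⟩ := hR1
  set c := cOf (Fintype.card F) s with hc
  set g := finrank F (cycS s y) with hg
  have hcg : c ≤ g := Nat.le_of_dvd hgpos hcdvd
  have hg2n : g ≤ 2 * n := by omega
  have hc2n : c = 2 * n := by
    rcases hceven with ⟨k, hk⟩
    omega
  have hgeq : g = 2 * n := by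
    obtain ⟨k, hk⟩ := hcdvd
    have hk1 : k = 1 := by
      rcases Nat.lt_or_ge k 2 with h | h
      · rcases Nat.eq_zero_or_pos k with h0 | h0
        · rw [h0, mul_zero] at hk; omega
        · omega
      · exfalso
        have : c * 2 ≤ c * k := Nat.mul_le_mul_left c h
        omega
    rw [hk, hk1, mul_one, hc2n]
  have hfix0 : finrank F (fixS y) = 0 := by omega
  have hfix : fixS y = ⊥ := Submodule.finrank_eq_zero.mp hfix0
  have hcyc : cycS s y = ⊤ := by
    apply Submodule.eq_top_of_finrank_eq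
    rw [← hg, hgeq, hV]
  obtain ⟨hoy, htr⟩ := hT2a y hyctx hfix
  have hou : OCtx p (altB (stdB n F) y s) u :=
    ⟨hoy.symm, hoy.nd, htr u huctx.pres hcomm, huctx.pow⟩
  have hordc : OrdC (Fintype.card F) n s := ordc_of_cof hc2n
  have hall : ∀ w ∈ cycS s y, u w = w := by
    rcases hordc with h2n | ⟨hn', hno⟩
    · exact bcs_unip_cyc_irr hsp y u hcomm huctx.pow (by rw [← hg, hgeq, h2n])
    · exact bcsa6b_h21 h2 hsp hoy hou hcomm n hno hn' (by rw [← hg, hgeq])
  apply hune
  apply LinearMap.ext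
  intro w
  rw [hall w (by rw [hcyc]; exact Submodule.mem_top), Module.End.one_apply]

end Cfsg.Agent.Lib.Lead.BCG
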