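import Mathlib
import Cfsg.Agent.Lib.Lead.BCG.Defs
import Cfsg.Agent.Lib.Helper11.BCGS5core
import Cfsg.Agent.Lib.Helper20.BCGA17
import Cfsg.Agent.Lib.Helper20.BCGR1
import Cfsg.Agent.Lib.Helper24.BCGL2
import Cfsg.Agent.Lib.helper2.BCGT2A
import Cfsg.Agent.Lib.helper8.S5955X1

set_option autoImplicit false

/-!
# Project BCG, row S5 (helper11): `s_ps_nec`, verbatim (= `bcgs5_core` + L2 + A17 + R1 + T2a; the content of X1 is re-proved inline as
`bcgs5_sp_ctx`, so this file does not import row X1).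
-/

namespace Cfsg.Agent.Lib.Lead.BCG

open Polynomial Module Matrix Cfsg.Agent.Lib.Helper13.S5955 Cfsg.Agent.Lib.helper15.S5972
  Cfsg.Agent.Lib.Helper18.ONE Cfsg.Agent.Lib.Lead.BCS

/-- the statement of X1 (`sp_ctx`) under a private name -/
theorem bcgs5_sp_ctx {F : Type*} [Field F] (d : ℕ) (x : Matrix.symplecticGroup (Fin d) F) (N : ℕ)
    (hx : x ^ N = 1) :
    SCtx N (stdB d F) (Matrix.toLin' (x : Matrix (Fin d ⊕ Fin d) (Fin d ⊕ Fin d) F)) := by
  obtain ⟨halt, hnd⟩ := stdB_alt_nd (F := F) d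
  refine ⟨halt, hnd, ?_, (sp_same d x N).mp hx⟩
  intro u v
  rw [Matrix.toLin'_apply, Matrix.toLin'_apply, stdB_apply, stdB_apply]
  exact (Cfsg.Agent.Lib.helper6.mem_symplecticGroup_iff_sympForm d _).mp x.2 u v

/-- S5 [M-L] -/
theorem s_ps_nec {F : Type*} [Field F] [Fintype F] {p : ℕ} [Fact p.Prime] [CharP F p]
    (hodd : Odd (Fintype.card F)) (n : ℕ) (hn : 3 ≤ n) (s : ℕ) [Fact s.Prime] (hsp : s ≠ p)
    (hs2 : s ≠ 2) (h : p * s ∈ Set.range (orderOf : Cfsg.PSp n F → ℕ)) :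
    CritP (Fintype.card F) n s := by
  have hsP : s.Prime := Fact.out
  have hpP : p.Prime := Fact.out
  obtain ⟨hp2, hsq⟩ := bcgs5_char (p := p) hodd s hsP hsp
  have hNodd : Odd (p * s) :=
    Odd.mul (hpP.eq_two_or_odd'.resolve_left hp2) (hsP.eq_two_or_odd'.resolve_left hs2)
  have hL2 := (ins_odd (bcgs5_two_ne hodd) n (by omega) (p * s) hNodd).mp h
  have hR1 := cof_facts (Fintype.card F) s hsP hs2 hsq
  exact bcgs5_core hodd n s hsp hs2 hL2 (fun x N hx => bcgs5_sp_ctx n x N hx)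
    (fun y hy hy1 => s_cyc_dim hsp hy hy1) ⟨hR1.1, hR1.2.1⟩
    (fun y hy hfix => altb_of_sctx (hsP.eq_two_or_odd'.resolve_left hs2) hy hfix)

end Cfsg.Agent.Lib.Lead.BCG
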