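import Mathlib
import Cfsg.Agent.Lib.Lead.BCS.Defs
import Cfsg.Agent.Lib.Helper24.S5972SPLIT
import Cfsg.Agent.Lib.Helper24.ElR
import Cfsg.Agent.Lib.helper6.BCSA7
import Cfsg.Agent.Lib.helper6.BCSA8
import Cfsg.Agent.Lib.Helper11.BCSA6a

set_option autoImplicit false

/-!
# Project BCS, row A10 (helper11, second copy), CORE: `bcs_abs_shape` with the conclusions of A1, A6 (a or b), A9 as hypotheses.
-/

namespace Cfsg.Agent.Lib.Lead.BCS

open Polynomial Module Matrix Cfsg.Agent.Lib.Helper13.S5955 Cfsg.Agent.Lib.helper15.S5972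
  Cfsg.Agent.Lib.Helper18.ONE

/-- `z = 1` on `P`, `z = -1` on `N`, `P ⊕ N = V`, `2 ≠ 0`: the `(-1)`-eigenspace of `z` is `N` -/
theorem bcsa10_h11_eig {F : Type*} [Field F] (h2 : (2 : F) ≠ 0) {V : Type*} [AddCommGroup V]
    [Module F V] (z : Module.End F V) (P N : Submodule F V) (hPN : IsCompl P N)
    (hP : ∀ w ∈ P, z w = w) (hN : ∀ w ∈ N, z w = -w) : cycS 2 z = N := by
  apply le_antisymm
  · intro v hv
    rw [bcs_mem_cyc_two] at hv
    have htop : v ∈ P ⊔ N := by rw [hPN.sup_eq_top]; exact Submodule.mem_top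
    obtain ⟨f, hf, c, hc, rfl⟩ := Submodule.mem_sup.mp htop
    rw [map_add, hP f hf, hN c hc] at hv
    have h3 : (2 : F) • f = 0 := by
      have h4 : f + -c - (-(f + c)) = 0 := by rw [hv]; abel
      rw [two_smul]
      rw [← h4]
      abel
    have hf0 : f = 0 := by
      rcases smul_eq_zero.mp h3 with h | h
      · exact absurd h h2
      · exact h
    rw [hf0, zero_add]
    exact hc
  · intro v hv
    rw [bcs_mem_cyc_two]
    exact hN v hv

/-- A10 with the conclusions of A1, A6 (a / b), A9 as hypotheses -/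
theorem bcsa10_h11core {F : Type*} [Field F] [Fintype F] {p : ℕ} [Fact p.Prime] [CharP F p]
    (h2 : (2 : F) ≠ 0) {V : Type*} [AddCommGroup V] [Module F V] [FiniteDimensional F V]
    {ℓ : ℕ} [Fact ℓ.Prime] (hℓp : ℓ ≠ p) {B : LinearMap.BilinForm F V}
    {y u z : Module.End F V} (h : OCtx ℓ B y) (hu : OCtx p B u) (hz : OCtx 2 B z)
    (huy : Commute u y) (hzy : Commute z y) (hzu : Commute z u) (hu1 : u ≠ 1)
    (hz1 : z ≠ 1) (m : ℕ) (hV : finrank F V = 2 * m + 3)
    (hev : Even (finrank F (cycS 2 z)))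
    (hA1 : finrank F (cycS ℓ y) = 2 * m ∧ finrank F (fixS y) = 3)
    (hA6 : ∀ w ∈ cycS ℓ y, u w = w)
    (hA9 : (∀ w ∈ cycS ℓ y, z w = w) ∨ (∀ w ∈ cycS ℓ y, z w = -w)) :
    cycS 2 z = cycS ℓ y := by
  obtain ⟨-, hcompl, hndfix, -⟩ := o_split hℓp h
  have hall : ∀ v : V, ∃ f ∈ fixS y, ∃ c ∈ cycS ℓ y, v = f + c := by
    intro v
    have htop : v ∈ fixS y ⊔ cycS ℓ y := by rw [hcompl.sup_eq_top]; exact Submodule.mem_top
    obtain ⟨f, hf, c, hc, rfl⟩ := Submodule.mem_sup.mp htop
    exact ⟨f, hf, c, hc, rfl⟩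
  have hnil : (u - 1) ^ p = 0 := by
    rw [Cfsg.Agent.Lib.Helper24.el_sub_one_pow_char, hu.pow, sub_self]
  have hUu : SInv u (fixS y) := bcsa6a_comm_inv u y huy _
  have hUz : SInv z (fixS y) := bcsa6a_comm_inv z y hzy _
  -- `u ≠ 1` on `fixS y`
  have hne : ¬ ∀ w ∈ fixS y, u w = w := by
    intro hcon
    apply hu1
    apply LinearMap.ext
    intro v
    obtain ⟨f, hf, c, hc, rfl⟩ := hall v
    rw [map_add, hcon f hf, hA6 c hc, Module.End.one_apply]
  have hfix : finrank F ↥(fixS y ⊓ fixS u) ≤ 1 := by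
    by_contra hcon
    apply hne
    refine bcs_unip_rank h2 B hu.symm u hu.pres p hnil (fixS y) hUu hndfix ?_
    have hle : finrank F ↥(fixS y ⊓ fixS u) ≤ finrank F ↥(fixS y) := Submodule.finrank_mono inf_le_left
    rw [hA1.2] at hle ⊢
    omega
  have hzz : z * z = 1 := by rw [← pow_two]; exact hz.pow
  rcases bcs_invol_pm h2 u z hzu hzz p hnil (fixS y) hUu hUz hfix with hf | hf
  · rcases hA9 with hc | hc
    · exfalso
      apply hz1
      apply LinearMap.ext
      intro v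
      obtain ⟨f, hf', c, hc', rfl⟩ := hall v
      rw [map_add, hf f hf', hc c hc', Module.End.one_apply]
    · exact bcsa10_h11_eig h2 z (fixS y) (cycS ℓ y) hcompl hf hc
  · exfalso
    rcases hA9 with hc | hc
    · have heq := bcsa10_h11_eig h2 z (cycS ℓ y) (fixS y) hcompl.symm hc hf
      rw [heq, hA1.2] at hev
      exact absurd hev (by decide)
    · have heq : cycS 2 z = ⊤ := by
        apply top_le_iff.mp
        intro v _
        rw [bcs_mem_cyc_two]
        obtain ⟨f, hf', c, hc', rfl⟩ := hall v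
        rw [map_add, hf f hf', hc c hc', neg_add]
      rw [heq, finrank_top, hV] at hev
      rw [Nat.even_add, Nat.even_mul] at hev
      have : ¬ Even 3 := by decide
      simp only [even_two, true_or, true_iff] at hev
      exact this hev

end Cfsg.Agent.Lib.Lead.BCS
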