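import Mathlib
import Cfsg.Agent.Lib.Lead.BCS.Defs
import Cfsg.Agent.Lib.Helper11.BCSA10h11
import Cfsg.Agent.Lib.helper17.BCSA1
import Cfsg.Agent.Lib.Helper24.BCSA9h24
import Cfsg.Agent.Lib.Helper21.BCSA6Bh21w

set_option autoImplicit false

/-!
# Project BCS, row A10 (helper11): second copy `bcsa10_h11` of `bcs_abs_shape` (SAME statement; helper28 landed the verbatim name first: Helper28.BCSA10) (= `bcsa10_h11core` + A1 + A6a / A6b (helper21's `bcsa6b_h21`) + A9 (helper24's `bcsa9_h24`: two modules declare `bcs_invol_cyc` on main, this file imports neither)).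
-/

namespace Cfsg.Agent.Lib.Lead.BCS

open Polynomial Module Matrix Cfsg.Agent.Lib.Helper13.S5955 Cfsg.Agent.Lib.helper15.S5972
  Cfsg.Agent.Lib.Helper18.ONE

/-- A10 [M-L] -/
theorem bcsa10_h11 {F : Type*} [Field F] [Fintype F] {p : ℕ} [Fact p.Prime] [CharP F p]
    (h2 : (2 : F) ≠ 0) {V : Type*} [AddCommGroup V] [Module F V] [FiniteDimensional F V]
    {ℓ : ℕ} [Fact ℓ.Prime] (hℓp : ℓ ≠ p) (hℓ2 : ℓ ≠ 2) {B : LinearMap.BilinForm F V}
    {y u z : Module.End F V} (h : OCtx ℓ B y) (hu : OCtx p B u) (hz : OCtx 2 B z)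
    (huy : Commute u y) (hzy : Commute z y) (hzu : Commute z u) (hy1 : y ≠ 1) (hu1 : u ≠ 1)
    (hz1 : z ≠ 1) (m : ℕ) (hm : 2 ≤ m) (hV : finrank F V = 2 * m + 3)
    (hi : OrdC (Fintype.card F) m ℓ) (hev : Even (finrank F (cycS 2 z))) :
    cycS 2 z = cycS ℓ y := by
  have hA1 := bcs_cyc_dim hℓp hℓ2 h hy1 m hm hV hi
  have hA6 : ∀ w ∈ cycS ℓ y, u w = w := by
    rcases hi with h2m | ⟨hmm, hmo⟩
    · exact bcs_unip_cyc_irr hℓp y u huy hu.pow (by rw [hA1.1, h2m])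
    · exact bcsa6b_h21 h2 hℓp h hu huy m hmo hmm hA1.1
  have hA9 := bcsa9_h24 h2 hℓp hℓ2 h hz hzy m (by omega) hi hA1.1
  exact bcsa10_h11core h2 hℓp h hu hz huy hzy hzu hu1 hz1 m hV hev hA1 hA6 hA9

end Cfsg.Agent.Lib.Lead.BCS
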