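import Mathlib
import Cfsg.Prelude.Def_Blocks

/-!
# Project BLI, piece COUNT : few eigenvalues when all multiplicities are divisible by `p ^ α`

`T = ρ x`, `T ^ p = 1`.  For `lam ^ p = 1` the operator `P = (1/p) Σ_k lam⁻ᵏ Tᵏ` is a projection onto the eigenspace of
`lam`, so `p * finrank (eigenspace) = Σ_k χ(xᵏ) lam⁻ᵏ`; eigenspaces are independent.
-/

set_option autoImplicit false
set_option linter.unusedVariables false

namespace Cfsg.Agent.Lib.Helper29.BLI

open scoped ComplexConjugate InnerProductSpace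

/-- the finrank of a finite join of independent subspaces -/
theorem blicount_finrank_biSup {K V ι : Type*} [Field K] [AddCommGroup V] [Module K V]
    [FiniteDimensional K V] [DecidableEq ι] (E : ι → Submodule K V) (hE : iSupIndep E) (s : Finset ι) :
    Module.finrank K ↥(⨆ i ∈ s, E i) = ∑ i ∈ s, Module.finrank K (E i) := by
  induction s using Finset.induction_on with
  | empty => simp
  | insert a s ha ih =>
    rw [Finset.sum_insert ha, ← ih]
    have hd : Disjoint (E a) (⨆ i ∈ (s : Set ι), E i) := hE.disjoint_biSup (by simpa using ha)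
    have e : (⨆ i ∈ insert a s, E i) = E a ⊔ ⨆ i ∈ s, E i := by rw [Finset.iSup_insert]
    rw [e]
    have h := Submodule.finrank_sup_add_finrank_inf_eq (E a) (⨆ i ∈ s, E i)
    have hb : E a ⊓ ⨆ i ∈ s, E i = ⊥ := hd.eq_bot
    rw [hb, finrank_bot, add_zero] at h
    exact h

/-- the averaging operator of `lam` -/
noncomputable def blicountA {V : Type*} [AddCommGroup V] [Module ℂ V] (T : V →ₗ[ℂ] V) (p : ℕ) (lam : ℂ) :
    V →ₗ[ℂ] V := ∑ k ∈ Finset.range p, (lam⁻¹) ^ k • T ^ k

theorem blicount_T_mul_A {V : Type*} [AddCommGroup V] [Module ℂ V] (T : V →ₗ[ℂ] V) (p : ℕ) (hp : 0 < p)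
    (hT : T ^ p = 1) (lam : ℂ) (hlam : lam ^ p = 1) : T * blicountA T p lam = lam • blicountA T p lam := by
  have hl0 : lam ≠ 0 := by
    rintro rfl
    rw [zero_pow hp.ne'] at hlam
    exact zero_ne_one hlam
  unfold blicountA
  rw [Finset.mul_sum]
  have h1 : ∀ k ∈ Finset.range p, T * ((lam⁻¹) ^ k • T ^ k) = lam • ((lam⁻¹) ^ (k + 1) • T ^ (k + 1)) := by
    intro k _
    rw [mul_smul_comm, ← pow_succ', smul_smul]
    congr 1
    rw [pow_succ, mul_comm lam, mul_assoc, inv_mul_cancel₀ hl0, mul_one]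
  rw [Finset.sum_congr rfl h1, ← Finset.smul_sum]
  congr 1
  have h2 := Finset.sum_range_succ' (fun k => (lam⁻¹) ^ k • T ^ k) p
  have h3 := Finset.sum_range_succ (fun k => (lam⁻¹) ^ k • T ^ k) p
  have h4 : (lam⁻¹) ^ p • T ^ p = (lam⁻¹) ^ 0 • T ^ 0 := by
    rw [hT, inv_pow, hlam, inv_one, pow_zero, pow_zero]
  rw [h3, h4] at h2
  exact (add_right_cancel h2).symm

/-- `(1/p) A` is a projection onto the eigenspace of `lam` -/
theorem blicount_isProj {V : Type*} [AddCommGroup V] [Module ℂ V] (T : V →ₗ[ℂ] V) (p : ℕ) (hp : 0 < p)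
    (hT : T ^ p = 1) (lam : ℂ) (hlam : lam ^ p = 1) :
    LinearMap.IsProj (Module.End.eigenspace T lam) ((p : ℂ)⁻¹ • blicountA T p lam) := by
  have hp0 : (p : ℂ) ≠ 0 := Nat.cast_ne_zero.mpr hp.ne'
  have hl0 : lam ≠ 0 := by
    rintro rfl
    rw [zero_pow hp.ne'] at hlam
    exact zero_ne_one hlam
  refine ⟨fun v => ?_, fun v hv => ?_⟩
  · rw [Module.End.mem_eigenspace_iff]
    have h := congrArg (fun f : V →ₗ[ℂ] V => f v) (blicount_T_mul_A T p hp hT lam hlam)
    simp only [Module.End.mul_apply, LinearMap.smul_apply] at h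
    rw [LinearMap.smul_apply, map_smul, h, smul_comm]
  · rw [Module.End.mem_eigenspace_iff] at hv
    have hpow : ∀ k : ℕ, (T ^ k) v = lam ^ k • v := by
      intro k
      induction k with
      | zero => simp
      | succ k ih => rw [pow_succ', Module.End.mul_apply, ih, map_smul, hv, smul_smul, ← pow_succ]
    unfold blicountA
    rw [LinearMap.smul_apply, LinearMap.sum_apply]
    have h1 : ∀ k ∈ Finset.range p, ((lam⁻¹) ^ k • T ^ k) v = v := by
      intro k _
      rw [LinearMap.smul_apply, hpow, smul_smul, ← mul_pow, inv_mul_cancel₀ hl0, one_pow, one_smul]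
    rw [Finset.sum_congr rfl h1, Finset.sum_const, Finset.card_range, ← Nat.cast_smul_eq_nsmul ℂ, smul_smul,
      inv_mul_cancel₀ hp0, one_smul]

/-- the multiplicity formula -/
theorem blicount_trace {V : Type*} [AddCommGroup V] [Module ℂ V] [FiniteDimensional ℂ V] (T : V →ₗ[ℂ] V)
    (p : ℕ) (hp : 0 < p) (hT : T ^ p = 1) (lam : ℂ) (hlam : lam ^ p = 1) :
    (p : ℂ) * (Module.finrank ℂ (Module.End.eigenspace T lam) : ℂ) =
      ∑ k ∈ Finset.range p, LinearMap.trace ℂ V (T ^ k) * (lam⁻¹) ^ k := by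
  have hp0 : (p : ℂ) ≠ 0 := Nat.cast_ne_zero.mpr hp.ne'
  have h := (blicount_isProj T p hp hT lam hlam).trace
  rw [← h, map_smul, smul_eq_mul, ← mul_assoc, mul_inv_cancel₀ hp0, one_mul]
  unfold blicountA
  rw [map_sum]
  refine Finset.sum_congr rfl fun k _ => ?_
  rw [map_smul, smul_eq_mul, mul_comm]

/-- COUNT (few eigenvalues when all multiplicities are divisible by p^α) -/
theorem bli_count {G : Type*} [Group G] [Finite G] (n : ℕ) (ρ : Representation ℂ G (Fin n → ℂ))
    (x : G) (p : ℕ) (hp : p.Prime) (hx : x ^ p = 1) (α : ℕ)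
    (hdiv : ∀ lam : ℂ, lam ^ p = 1 → ∀ m : ℕ,
      (p : ℂ) * (m : ℂ) = ∑ k ∈ Finset.range p, ρ.character (x ^ k) * (lam⁻¹) ^ k → p ^ α ∣ m) :
    ∃ S : Finset ℂ, (∀ lam : ℂ, lam ∈ S ↔ ∃ v : Fin n → ℂ, v ≠ 0 ∧ ρ x v = lam • v) ∧
      (∀ lam ∈ S, lam ^ p = 1) ∧ (0 < n → S.Nonempty) ∧ S.card * p ^ α ≤ n := by
  classical
  have hp0 := hp.pos
  set T : (Fin n → ℂ) →ₗ[ℂ] (Fin n → ℂ) := ρ x with hTdef
  have hT : T ^ p = 1 := by
    rw [hTdef, ← map_pow, hx, map_one]
  have hTk : ∀ k : ℕ, ρ (x ^ k) = T ^ k := fun k => by rw [hTdef, map_pow]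
  -- eigenvalues are `p`-th roots of unity
  have hroot : ∀ lam : ℂ, (∃ v : Fin n → ℂ, v ≠ 0 ∧ T v = lam • v) → lam ^ p = 1 := by
    rintro lam ⟨v, hv0, hv⟩
    have hpow : ∀ k : ℕ, (T ^ k) v = lam ^ k • v := by
      intro k
      induction k with
      | zero => simp
      | succ k ih => rw [pow_succ', Module.End.mul_apply, ih, map_smul, hv, smul_smul, ← pow_succ]
    have h1 := hpow p
    rw [hT, Module.End.one_apply] at h1
    have h2 : (lam ^ p - 1) • v = 0 := by rw [sub_smul, one_smul, ← h1, sub_self]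
    rcases smul_eq_zero.mp h2 with h3 | h3
    · exact sub_eq_zero.mp h3
    · exact absurd h3 hv0
  have hiff : ∀ lam : ℂ, Module.End.eigenspace T lam ≠ ⊥ ↔ ∃ v : Fin n → ℂ, v ≠ 0 ∧ T v = lam • v := by
    intro lam
    rw [Submodule.ne_bot_iff]
    constructor
    · rintro ⟨v, hv, hv0⟩
      exact ⟨v, hv0, Module.End.mem_eigenspace_iff.mp hv⟩
    · rintro ⟨v, hv0, hv⟩
      exact ⟨v, Module.End.mem_eigenspace_iff.mpr hv, hv0⟩
  set S : Finset ℂ := (Polynomial.nthRootsFinset p (1 : ℂ)).filter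
    (fun lam => Module.End.eigenspace T lam ≠ ⊥) with hS
  have hmemS : ∀ lam : ℂ, lam ∈ S ↔ ∃ v : Fin n → ℂ, v ≠ 0 ∧ T v = lam • v := by
    intro lam
    rw [hS, Finset.mem_filter, Polynomial.mem_nthRootsFinset hp0, hiff]
    constructor
    · exact fun h => h.2
    · exact fun h => ⟨hroot lam h, h⟩
  refine ⟨S, hmemS, fun lam hl => hroot lam ((hmemS lam).mp hl), fun hn => ?_, ?_⟩
  · -- an eigenvalue exists
    have : Nonempty (Fin n) := ⟨⟨0, hn⟩⟩
    obtain ⟨c, hc⟩ := Module.End.exists_eigenvalue T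
    exact ⟨c, (hmemS c).mpr ((hiff c).mp hc)⟩
  · -- the count
    have hge : ∀ lam ∈ S, p ^ α ≤ Module.finrank ℂ (Module.End.eigenspace T lam) := by
      intro lam hl
      have hl1 : lam ^ p = 1 := hroot lam ((hmemS lam).mp hl)
      have hne : Module.End.eigenspace T lam ≠ ⊥ := (hiff lam).mpr ((hmemS lam).mp hl)
      have hd := hdiv lam hl1 (Module.finrank ℂ (Module.End.eigenspace T lam)) (by
        rw [blicount_trace T p hp0 hT lam hl1]
        refine Finset.sum_congr rfl fun k _ => ?_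
        rw [Representation.character, hTk])
      have hpos : 0 < Module.finrank ℂ (Module.End.eigenspace T lam) := by
        rw [Module.finrank_pos_iff_exists_ne_zero]
        obtain ⟨v, hv, hv0⟩ := (Submodule.ne_bot_iff _).mp hne
        exact ⟨⟨v, hv⟩, fun h => hv0 (congrArg Subtype.val h)⟩
      exact Nat.le_of_dvd hpos hd
    have h1 : S.card * p ^ α ≤ ∑ lam ∈ S, Module.finrank ℂ (Module.End.eigenspace T lam) := by
      have := Finset.card_nsmul_le_sum S (fun lam => Module.finrank ℂ (Module.End.eigenspace T lam)) (p ^ α) hge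
      simpa [smul_eq_mul] using this
    have h2 : ∑ lam ∈ S, Module.finrank ℂ (Module.End.eigenspace T lam) ≤ n := by
      rw [← blicount_finrank_biSup (Module.End.eigenspace T) (Module.End.eigenspaces_iSupIndep T) S]
      have := Submodule.finrank_le (⨆ i ∈ S, Module.End.eigenspace T i)
      simpa using this
    exact h1.trans h2

end Cfsg.Agent.Lib.Helper29.BLI
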