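import Mathlib
import Cfsg.Agent.Lib.Helper28.BP2.Defs

/-!
# Project BP2 (S5736), row T1 (bin_iff_binS), verbatim statement
-/

set_option autoImplicit false

namespace Cfsg.Agent.Lib.Helper28.BP2

open Cfsg.Agent.Lib.helper14

universe u v w

section Toolbox

variable {G : Type u} [Group G]

/-- the basic dictionary: `g • (x H) = y H ↔ y⁻¹ g x ∈ H`. -/
theorem bp2t1_smul_mk_eq (H : Subgroup G) (g x y : G) :
    g • (x : G ⧸ H) = (y : G ⧸ H) ↔ y⁻¹ * g * x ∈ H := by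
  rw [MulAction.Quotient.smul_coe, eq_comm, QuotientGroup.eq, smul_eq_mul, mul_assoc]

theorem bin_iff_binS (H : Subgroup G) : Bin G (G ⧸ H) ↔ BinS H := by
  constructor
  · intro hB n x y hn hpair
    obtain ⟨g, hg⟩ := hB n (fun i => (x i : G ⧸ H)) (fun i => (y i : G ⧸ H)) hn (by
      intro i j hij
      obtain ⟨g, h1, h2⟩ := hpair i j hij
      exact ⟨g, (bp2t1_smul_mk_eq H g _ _).2 h1, (bp2t1_smul_mk_eq H g _ _).2 h2⟩)
    exact ⟨g, fun i => (bp2t1_smul_mk_eq H g _ _).1 (hg i)⟩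
  · intro hB n I J hn hpair
    have hI : ∀ i, ((I i).out : G ⧸ H) = I i := fun i => QuotientGroup.out_eq' (I i)
    have hJ : ∀ i, ((J i).out : G ⧸ H) = J i := fun i => QuotientGroup.out_eq' (J i)
    obtain ⟨g, hg⟩ := hB n (fun i => (I i).out) (fun i => (J i).out) hn (by
      intro i j hij
      obtain ⟨g, h1, h2⟩ := hpair i j hij
      refine ⟨g, (bp2t1_smul_mk_eq H g _ _).1 ?_, (bp2t1_smul_mk_eq H g _ _).1 ?_⟩
      · rw [hI, hJ]; exact h1
      · rw [hI, hJ]; exact h2)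
    refine ⟨g, fun i => ?_⟩
    have := (bp2t1_smul_mk_eq H g _ _).2 (hg i)
    rw [hI, hJ] at this
    exact this

end Toolbox

end Cfsg.Agent.Lib.Helper28.BP2
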