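import Mathlib
import Cfsg.Agent.Lib.Helper28.BP2.Defs
import Cfsg.Agent.Lib.Helper20.BP2T9a

/-!
# Project BP2 (S5736), row T10 (binS_invol_closed): core on the statement of T9 (p = 2)
-/

set_option autoImplicit false

namespace Cfsg.Agent.Lib.Helper28.BP2

open Cfsg.Agent.Lib.helper14

universe u v w

section Toolbox

variable {G : Type u} [Group G]

/-- two distinct commuting involutions have a product of order two. -/
theorem bp2t10_orderOf_mul_inv (t s : G) (ht2 : orderOf t = 2) (hs2 : orderOf s = 2)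
    (hts : Commute t s) (hne : t ≠ s) : orderOf (t * s⁻¹) = 2 := by
  have ht : t ^ 2 = 1 := by rw [← ht2]; exact pow_orderOf_eq_one t
  have hs : s ^ 2 = 1 := by rw [← hs2]; exact pow_orderOf_eq_one s
  refine orderOf_eq_prime ?_ ?_
  · rw [(hts.inv_right).mul_pow, ht, inv_pow, hs, inv_one, one_mul]
  · intro h
    exact hne (mul_inv_eq_one.1 h)

/-- T10 on the statement of T9 at `p = 2`. -/
theorem bp2t10_core [Finite G] (H : Subgroup G)
    (hT9 : ∀ (g h : G), g ∈ H → Commute g h → orderOf g = 2 →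
      (∀ f : G, orderOf f = 2 → fx H f ≤ fx H g) → IsConj h g → IsConj (g * h⁻¹) g → h ∈ H)
    (hconj : ∀ x y : G, orderOf x = 2 → orderOf y = 2 → IsConj x y) (t s : G) (ht : t ∈ H)
    (ht2 : orderOf t = 2) (hs2 : orderOf s = 2) (hts : Commute t s) : s ∈ H := by
  by_cases hne : t = s
  · rw [← hne]; exact ht
  · refine hT9 t s ht hts ht2 ?_ (hconj s t hs2 ht2)
      (hconj _ t (bp2t10_orderOf_mul_inv t s ht2 hs2 hts hne) ht2)
    intro f hf
    exact le_of_eq (fx_isConj H f t (hconj f t hf ht2))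

end Toolbox

end Cfsg.Agent.Lib.Helper28.BP2
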