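import Mathlib
import Cfsg.Agent.Lib.Helper28.BP2.Defs
import Cfsg.Agent.Lib.Helper11.BP2T1
import Cfsg.Agent.Lib.Helper11.BP2T10core
import Cfsg.Agent.Lib.Helper16.BP2T8
import Cfsg.Agent.Lib.Helper20.BP2T9core

/-!
# Project BP2 (S5736), row T10 (binS_invol_closed), verbatim statement
(T9 is used through its landed core `bp2t9_core`, fed with T1 and T8.)
-/

set_option autoImplicit false

namespace Cfsg.Agent.Lib.Helper28.BP2

open Cfsg.Agent.Lib.helper14

universe u v w

section Toolbox

variable {G : Type u} [Group G]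

theorem binS_invol_closed [Finite G] (H : Subgroup G) (hB : BinS H)
    (hconj : ∀ x y : G, orderOf x = 2 → orderOf y = 2 → IsConj x y) (t s : G) (ht : t ∈ H)
    (ht2 : orderOf t = 2) (hs2 : orderOf s = 2) (hts : Commute t s) : s ∈ H :=
  bp2t10_core H
    (fun g h hgH hc hg hmax hh hk =>
      bp2t9_core H hB 2 g h hgH hc hg hmax hh hk (bin_iff_binS H).2
        (fun hB' hmax' hh' hk' => fix_eq_of_bin hB' 2 g h hc hg hmax' hh' hk'))
    hconj t s ht ht2 hs2 hts

end Toolbox

end Cfsg.Agent.Lib.Helper28.BP2
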