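import Mathlib

/-!
# BR-AC0: `ac_full` + `ac_plus` (pure arithmetic)
-/

set_option autoImplicit false

namespace Cfsg.Agent.Lib.helper7.BR

/-- AC0 : `q = p - 1` forces `n = 1`. -/
theorem ac_full (p w n : ℕ) (hp : 2 ≤ p) (hw : 1 ≤ w) (hn : 1 ≤ n)
    (hbig : p * (p - 1) * w * (1 + n * p) < p ^ 3) : n = 1 := by
  obtain ⟨m, rfl⟩ : ∃ m, p = m + 2 := ⟨p - 2, by omega⟩
  by_contra hne
  have hn2 : 2 ≤ n := by omega
  have e : m + 2 - 1 = m + 1 := by omega
  rw [e] at hbig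
  have h1 : (m + 2) * (m + 1) * 1 * (1 + 2 * (m + 2)) ≤
      (m + 2) * (m + 1) * w * (1 + n * (m + 2)) := by
    gcongr
  have h2 : (m + 2) * (m + 1) * 1 * (1 + 2 * (m + 2)) = (m + 2) ^ 3 + (m ^ 3 + 5 * m ^ 2 + 7 * m + 2) := by
    ring
  omega

/-- AC1 : a divisor `d ≡ 1 mod p`, `d ≠ 1`, of `q (1 + n p)` with `q n < p`, `q < p` is `1 + n p`. -/
theorem ac_plus (p q n d : ℕ) (hp : p.Prime) (hq : 1 ≤ q) (hqp : q < p) (hqn : q * n < p)
    (hd : d ∣ q * (1 + n * p)) (h1 : d % p = 1) (h2 : 2 ≤ d) : d = 1 + n * p := by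
  obtain ⟨c, hc⟩ := hd
  have hp0 : 0 < p := hp.pos
  obtain ⟨u, hu⟩ : ∃ u, d = p * u + 1 := ⟨d / p, by rw [← h1]; exact (Nat.div_add_mod d p).symm⟩
  have hu1 : 1 ≤ u := by
    rcases Nat.eq_zero_or_pos u with h0 | h0
    · rw [h0, mul_zero] at hu; omega
    · exact h0
  have hcq : c % p = q := by
    have e1 : (q * (1 + n * p)) % p = q := by
      have : q * (1 + n * p) = q + (q * n) * p := by ring
      rw [this, Nat.add_mul_mod_self_right, Nat.mod_eq_of_lt hqp]
    have e2 : (d * c) % p = c % p := by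
      rw [Nat.mul_mod, h1, one_mul, Nat.mod_mod]
    rw [← e2, ← hc, e1]
  obtain ⟨b, hb⟩ : ∃ b, c = p * b + q := ⟨c / p, by rw [← hcq]; exact (Nat.div_add_mod c p).symm⟩
  have hmain : q * n = p * (u * b) + u * q + b := by
    apply Nat.eq_of_mul_eq_mul_left hp0
    have h3 : q * (1 + n * p) = (p * u + 1) * (p * b + q) := by rw [hc, hu, hb]
    have h4 : q + p * (q * n) = q + p * (p * (u * b) + u * q + b) := by
      calc q + p * (q * n) = q * (1 + n * p) := by ring
        _ = (p * u + 1) * (p * b + q) := h3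
        _ = q + p * (p * (u * b) + u * q + b) := by ring
    exact Nat.add_left_cancel h4
  have hub : u * b = 0 := by
    rcases Nat.eq_zero_or_pos (u * b) with h0 | h0
    · exact h0
    · exfalso
      have : p ≤ p * (u * b) := Nat.le_mul_of_pos_right _ h0
      omega
  have hb0 : b = 0 := by
    rcases Nat.mul_eq_zero.1 hub with h0 | h0
    · omega
    · exact h0
  rw [hb0, mul_zero, mul_zero, zero_add, add_zero, mul_comm u q] at hmain
  have hnu : n = u := Nat.eq_of_mul_eq_mul_left hq hmain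
  rw [hu, hnu]; ring

end Cfsg.Agent.Lib.helper7.BR
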