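import Mathlib

/-!
# BR-AC2: `ac_minus` (pure arithmetic)
-/

set_option autoImplicit false

namespace Cfsg.Agent.Lib.helper7.BR

/-- the basic identity behind AC2/AC4: if `d + 1 = p u`, `c + q = p b`, `d c = q (1 + n p)` then
`p u b = u q + b + q n`. -/
theorem brac2_key (p q n d c u b : ℕ) (hp0 : 0 < p) (hu : d + 1 = p * u) (hb : c + q = p * b)
    (hc : q * (1 + n * p) = d * c) : p * (u * b) = u * q + b + q * n := by
  apply Nat.eq_of_mul_eq_mul_left hp0
  have e : (d + 1) * (c + q) + q = d * c + (d + 1) * q + (c + q) := by ring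
  rw [hu, hb, ← hc] at e
  have e2 : q + p * (p * (u * b)) = q + p * (u * q + b + q * n) := by
    calc q + p * (p * (u * b)) = p * u * (p * b) + q := by ring
      _ = q * (1 + n * p) + p * u * q + p * b := e
      _ = q + p * (u * q + b + q * n) := by ring
  exact Nat.add_left_cancel e2

/-- AC2 : a divisor `d ≡ -1 mod p` of `q (1 + n p)`, where `q t = p - 1`, `t ≥ 2`, `q n < p`,
is `p - 1`, and then `t ∣ n + 1`. -/
theorem ac_minus (p q t n d : ℕ) (hp : p.Prime) (hqt : q * t = p - 1) (hq : 1 ≤ q) (ht : 2 ≤ t)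
    (hqn : q * n < p) (hd : d ∣ q * (1 + n * p)) (h1 : (d + 1) % p = 0) :
    d + 1 = p ∧ t ∣ n + 1 := by
  obtain ⟨c, hc⟩ := hd
  have hp0 : 0 < p := hp.pos
  have hpq : p = q * t + 1 := by have := hp.two_le; omega
  obtain ⟨u, hu⟩ := Nat.dvd_of_mod_eq_zero h1
  have hu1 : 1 ≤ u := by
    rcases Nat.eq_zero_or_pos u with h0 | h0
    · rw [h0, mul_zero] at hu; omega
    · exact h0
  have hcq : p ∣ c + q := by
    have e : p * (u * c) = (c + q) + p * (q * n) := by
      calc p * (u * c) = (d + 1) * c := by rw [hu]; ring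
        _ = d * c + c := by ring
        _ = q * (1 + n * p) + c := by rw [hc]
        _ = (c + q) + p * (q * n) := by ring
    have h3 : p ∣ (c + q) + p * (q * n) := by rw [← e]; exact Dvd.intro _ rfl
    exact (Nat.dvd_add_left (Dvd.intro _ rfl)).1 h3
  obtain ⟨b, hb⟩ := hcq
  have hb1 : 1 ≤ b := by
    rcases Nat.eq_zero_or_pos b with h0 | h0
    · rw [h0, mul_zero] at hb; omega
    · exact h0
  have key := brac2_key p q n d c u b hp0 hu hb hc
  have hu_eq : u = 1 := by
    by_contra hne
    have hu2 : 2 ≤ u := by omega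
    obtain ⟨b', rfl⟩ : ∃ b', b = b' + 1 := ⟨b - 1, by omega⟩
    have h5 : b' ≤ p * u * b' := Nat.le_mul_of_pos_left _ (Nat.mul_pos hp0 (by omega))
    have h6 : p * u ≤ u * q + q * n + 1 := by
      have : p * (u * (b' + 1)) = p * u * b' + p * u := by ring
      omega
    -- `p (u - 1) ≤ u q`
    obtain ⟨u', rfl⟩ : ∃ u', u = u' + 2 := ⟨u - 2, by omega⟩
    have h7 : p * (u' + 2) = p * u' + 2 * p := by ring
    have h8 : (u' + 2) * q = u' * q + 2 * q := by ring
    have h9 : p * u' = q * t * u' + u' := by rw [hpq]; ring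
    have h10 : 2 * q ≤ q * t := by
      calc 2 * q = q * 2 := by ring
        _ ≤ q * t := Nat.mul_le_mul_left _ ht
    have h11 : u' * q ≤ q * t * u' := by
      calc u' * q = q * 1 * u' := by ring
        _ ≤ q * t * u' := by gcongr; omega
    omega
  subst hu_eq
  rw [mul_one] at hu
  refine ⟨hu, ?_⟩
  -- `p b = q + b + q n`
  rw [one_mul, one_mul] at key
  have h12 : q * (t * b) = q * (n + 1) := by
    have : p * b = q * (t * b) + b := by rw [hpq]; ring
    have h13 : q * (n + 1) = q * n + q := by ring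
    omega
  have h14 : t * b = n + 1 := Nat.eq_of_mul_eq_mul_left hq h12
  exact Dvd.intro _ h14

end Cfsg.Agent.Lib.helper7.BR
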