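import Mathlib
import Cfsg.Agent.Lib.Helper21.BSQ.Defs

set_option autoImplicit false

namespace Cfsg.Agent.Lib.Helper21.BSQ

open scoped Pointwise

universe u

variable {G : Type u} [Group G]

theorem bsqa6_fact [Finite G] (p : ℕ) [Fact p.Prime] (C S : Subgroup G) (hS : S ≤ C)
    (hcS : Nat.card ↥S = p ^ (Nat.card G).factorization p) :
    Nat.card ↥(S.subgroupOf C) = p ^ (Nat.card ↥C).factorization p := by
  have hp : p.Prime := Fact.out
  have e : Nat.card ↥(S.subgroupOf C) = Nat.card ↥S :=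
    Nat.card_congr (Subgroup.subgroupOfEquivOfLe hS).toEquiv
  rw [e, hcS]
  congr 1
  apply le_antisymm
  · have h1 : p ^ (Nat.card G).factorization p ∣ Nat.card ↥C := by
      rw [← hcS, ← e]
      exact Subgroup.card_subgroup_dvd_card _
    exact (hp.pow_dvd_iff_le_factorization Nat.card_pos.ne').mp h1
  · have h2 : p ^ (Nat.card ↥C).factorization p ∣ Nat.card G :=
      dvd_trans (Nat.ordProj_dvd _ _) (Subgroup.card_subgroup_dvd_card C)
    exact (hp.pow_dvd_iff_le_factorization Nat.card_pos.ne').mp h2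

theorem sylow_conj_in [Finite G] (p : ℕ) [Fact p.Prime] (C S T : Subgroup G) (hS : S ≤ C)
    (hT : T ≤ C) (hcS : Nat.card ↥S = p ^ (Nat.card G).factorization p)
    (hcT : Nat.card ↥T = p ^ (Nat.card G).factorization p) :
    ∃ c ∈ C, T = S.map (MulAut.conj c).toMonoidHom := by
  let P : Sylow p ↥C := Sylow.ofCard (S.subgroupOf C) (bsqa6_fact p C S hS hcS)
  let Q : Sylow p ↥C := Sylow.ofCard (T.subgroupOf C) (bsqa6_fact p C T hT hcT)
  obtain ⟨c, hc⟩ := MulAction.exists_smul_eq (↥C) P Q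
  refine ⟨(c : G), c.2, ?_⟩
  have h1 : ((c • P : Sylow p ↥C) : Subgroup ↥C) = T.subgroupOf C := by
    rw [hc]
    rfl
  rw [Sylow.coe_subgroup_smul] at h1
  apply le_antisymm
  · intro t ht
    have ht' : (⟨t, hT ht⟩ : ↥C) ∈ T.subgroupOf C := by
      rw [Subgroup.mem_subgroupOf]
      exact ht
    rw [← h1, Subgroup.mem_pointwise_smul_iff_inv_smul_mem, MulAut.smul_def,
      MulAut.conj_inv_apply] at ht'
    have ht'' : (c⁻¹ * ⟨t, hT ht⟩ * c : ↥C) ∈ S.subgroupOf C := ht'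
    rw [Subgroup.mem_subgroupOf] at ht''
    refine ⟨_, ht'', ?_⟩
    show (c : G) * ((c⁻¹ * ⟨t, hT ht⟩ * c : ↥C) : G) * (c : G)⁻¹ = t
    simp only [Subgroup.coe_mul, Subgroup.coe_inv]
    group
  · rintro _ ⟨s, hs, rfl⟩
    have hs' : (⟨s, hS hs⟩ : ↥C) ∈ (P : Subgroup ↥C) := by
      show (⟨s, hS hs⟩ : ↥C) ∈ S.subgroupOf C
      rw [Subgroup.mem_subgroupOf]
      exact hs
    have h2 : (MulAut.conj c • (⟨s, hS hs⟩ : ↥C)) ∈ MulAut.conj c • (P : Subgroup ↥C) :=
      Subgroup.smul_mem_pointwise_smul _ _ _ hs'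
    rw [h1, Subgroup.mem_subgroupOf] at h2
    exact h2

end Cfsg.Agent.Lib.Helper21.BSQ
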