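import Mathlib
import Cfsg.Agent.Lib.Helper21.BSQ.Defs

set_option autoImplicit false

namespace Cfsg.Agent.Lib.Helper21.BSQ

universe u

theorem arith_split {p : ℕ} (hp : p.Prime) {a b m m' : ℕ} (h : p ^ a * m = p ^ b * m')
    (hm : ¬ p ∣ m) (hm' : ¬ p ∣ m') : a = b ∧ m = m' := by
  have hm0 : m ≠ 0 := fun h0 => hm (h0 ▸ dvd_zero p)
  have hm0' : m' ≠ 0 := fun h0 => hm' (h0 ▸ dvd_zero p)
  have hpa : p ^ a ≠ 0 := pow_ne_zero _ hp.ne_zero
  have hpb : p ^ b ≠ 0 := pow_ne_zero _ hp.ne_zero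
  have h1 := congrArg (fun n => n.factorization p) h
  simp only [Nat.factorization_mul hpa hm0, Nat.factorization_mul hpb hm0', Finsupp.coe_add,
    Pi.add_apply, hp.factorization_pow, Finsupp.single_eq_same,
    Nat.factorization_eq_zero_of_not_dvd hm, Nat.factorization_eq_zero_of_not_dvd hm',
    add_zero] at h1
  refine ⟨h1, ?_⟩
  rw [h1] at h
  exact Nat.eq_of_mul_eq_mul_left (pow_pos hp.pos b) h

end Cfsg.Agent.Lib.Helper21.BSQ
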