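import Mathlib
import Cfsg.Agent.Lib.helper3.BSZ.Defs
import Cfsg.Agent.Lib.helper6.BSZA09
import Cfsg.Agent.Lib.helper15.BSZB03
import Cfsg.Agent.Lib.helper17.BSZA03
import Cfsg.Agent.Lib.Helper5.BSZB01

set_option autoImplicit false

/-!
# Project BSZ (S5737), rows B06 (zs_binary) and B07 (sylCen_binary): cores.
Cited directly (landed): A09 `binary_of_ti`, B03 `zs_norm`, A03 `binary_conj`, B01 `sylCen_iff`.
Hypotheses: the statements of B04 (`zs_ti`) and B05 (`zs_prod`).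
-/

namespace Cfsg.Agent.Lib.helper3.BSZ

open Cfsg Cfsg.Agent.Lib.helper3

variable {F : Type*} [Field F] [Fintype F] {m : ℕ}

theorem bszb06_core (hF : Fintype.card F = 2 ^ (2 * m + 1)) (hm : 1 ≤ m)
    (hB04 : ∀ {a : Sz F m}, a • oInf F m ≠ oInf F m → ∀ {h : Sz F m}, h ∈ Zs hF →
      a⁻¹ * h * a ∈ Zs hF → h = 1)
    (hB05 : ∀ {a a' : Sz F m}, a • oInf F m ≠ oInf F m → a' • oInf F m ≠ oInf F m →
      ∀ {z s s' : Sz F m}, z ∈ Zs hF → a⁻¹ * s * a ∈ Zs hF → a'⁻¹ * s' * a' ∈ Zs hF →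
      z = s' * s⁻¹ → z = 1) :
    BinH (Zs hF) := by
  refine binary_of_ti (Zs hF) (MulAction.stabilizer (Sz F m) (oInf F m)) ?_ ?_ ?_
  · intro a ha h hh
    exact zs_norm hF hm (MulAction.mem_stabilizer_iff.mp ha) hh
  · intro a ha h hh hh'
    exact hB04 (fun h0 => ha (MulAction.mem_stabilizer_iff.mpr h0)) hh hh'
  · intro a a' ha ha' z hz s s' hs hs' hzs
    exact hB05 (fun h0 => ha (MulAction.mem_stabilizer_iff.mpr h0))
      (fun h0 => ha' (MulAction.mem_stabilizer_iff.mpr h0)) hz hs hs' hzs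

theorem bszb07_core (hF : Fintype.card F = 2 ^ (2 * m + 1)) (hm : 1 ≤ m) {H : Subgroup (Sz F m)}
    (hB06 : BinH (Zs hF)) (h : IsSylCen H) : BinH H := by
  obtain ⟨x, rfl⟩ := (sylCen_iff hF hm H).mp h
  exact (binary_conj (Zs hF) x).mp hB06

end Cfsg.Agent.Lib.helper3.BSZ
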