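import Mathlib
import Cfsg.Agent.Lib.helper3.BSZ.Defs
import Cfsg.Agent.Lib.Helper11.BSZB06core
import Cfsg.Agent.Lib.Helper25.BSZB04
import Cfsg.Agent.Lib.Helper20.BSZB05

set_option autoImplicit false

/-!
# Project BSZ (S5737), rows B06 (zs_binary) and B07 (sylCen_binary), verbatim
-/

namespace Cfsg.Agent.Lib.helper3.BSZ

open Cfsg Cfsg.Agent.Lib.helper3

variable {F : Type*} [Field F] [Fintype F] {m : ℕ}

theorem zs_binary (hF : Fintype.card F = 2 ^ (2 * m + 1)) (hm : 1 ≤ m) : BinH (Zs hF) :=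
  bszb06_core hF hm (fun ha _ hh hh' => zs_ti hF hm ha hh hh')
    (fun ha ha' _ _ _ hz hs hs' h => zs_prod hF hm ha ha' hz hs hs' h)

theorem sylCen_binary (hF : Fintype.card F = 2 ^ (2 * m + 1)) (hm : 1 ≤ m) {H : Subgroup (Sz F m)}
    (h : IsSylCen H) : BinH H :=
  bszb07_core hF hm (zs_binary hF hm) h

end Cfsg.Agent.Lib.helper3.BSZ
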