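import Mathlib
import Cfsg.Prelude.Def_Characters
import Cfsg.Prelude.Def_Blocks
import Cfsg.Agent.Lib.Helper25.CharLinear
import Cfsg.Agent.Lib.Helper29.LeoOrbit
import Cfsg.Agent.Lib.helper7.BR.Defs
import Cfsg.Agent.Lib.Helper13.BT.Defs

/-!
# Project BT, piece ARITHQ : the arithmetic of the branch `ε = -1`
-/

set_option autoImplicit false
set_option linter.unusedVariables false
set_option linter.unusedSectionVars false

namespace Cfsg.Agent.Lib.Helper13.BT

open Classical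
open scoped ComplexConjugate
open Cfsg.Agent.Lib.Helper25 Cfsg.Agent.Lib.Helper29
open Cfsg.Agent.Lib.helper7.BR

universe u

/-- a positive integer `d < p - 1`, `d ≥ 2`, is not `≡ ± 1 (mod p)` -/
theorem btarithq_small (p d : ℕ) (a : ℤ) (ha : a = 1 ∨ a = -1) (hd2 : 2 ≤ d) (hdp : d + 1 < p)
    (h : (p : ℤ) ∣ (d : ℤ) - a) : False := by
  have h0 : (d : ℤ) - a = 0 := by
    apply Int.eq_zero_of_abs_lt_dvd h
    rcases ha with rfl | rfl
    · rw [abs_lt]; constructor <;> omega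
    · rw [abs_lt]; constructor <;> omega
  rcases ha with rfl | rfl <;> omega

/-- ARITHQ : the arithmetic of the branch `ε = -1` (`z = p - e` the degree of the members of `Y`, `deg` the
degrees of the members of `X`, `t0` the principal character): `g₀ = z`, `q = 2`, `e` is a power of `2`
and all the non-principal degrees in `X` are even.  (`z ∣ g₀ < p - 1 < 2 z`; `e ∣ q^b z`, `gcd(e,z) = 1`, so
`q ∣ e ∣ p - 1`; a non-principal degree prime to `q` divides `g₀`, is `≡ ± 1 (mod p)` and `≥ 2`: impossible;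
so `q ∣ z + 1 = p - e + 1`, `q ∣ p + 1`, `q ∣ 2`.) -/
theorem arith_q (p q b g₀ e z : ℕ) (hp : p.Prime) (hq : q.Prime) (hpq : p ≠ q) (hg0 : 0 < g₀)
    (hg : g₀ < p - 1)
    (he2 : 2 ≤ e) (hep : 2 * e + 1 ≤ p) (hedvd : e ∣ p - 1) (hz : z + e = p) (hzg : z ∣ g₀)
    (heG : e ∣ p * q ^ b * g₀) {ι : Type*} [DecidableEq ι] (X : Finset ι) (t0 : ι) (ht0 : t0 ∈ X)
    (a : ι → ℤ) (ha : ∀ i ∈ X, a i = 1 ∨ a i = -1) (deg : ι → ℕ) (hdeg0 : deg t0 = 1) (ha0 : a t0 = 1)
    (hdeg2 : ∀ i ∈ X, i ≠ t0 → 2 ≤ deg i) (hcong : ∀ i ∈ X, (p : ℤ) ∣ (deg i : ℤ) - a i)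
    (hdvd : ∀ i ∈ X, deg i ∣ p * q ^ b * g₀)
    (hD : ∑ i ∈ X, a i * (deg i : ℤ) = -(z : ℤ)) :
    g₀ = z ∧ q = 2 ∧ (∃ c : ℕ, e = 2 ^ c) ∧ ∀ i ∈ X, i ≠ t0 → Even (deg i) := by
  have hp2 := hp.two_le
  -- (1) `g₀ = z`
  have hgz : g₀ = z := by
    obtain ⟨k, hk⟩ := hzg
    have h1 : 0 < k := by
      rcases Nat.eq_zero_or_pos k with h | h
      · subst h; omega
      · exact h
    have h2 : k < 2 := by
      by_contra hk2
      push Not at hk2
      have : z * 2 ≤ z * k := Nat.mul_le_mul_left z hk2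
      omega
    have h3 : k = 1 := by omega
    rw [hk, h3, mul_one]
  subst hgz
  -- `e ∣ q ^ b`
  have hcop_ep : Nat.Coprime e p := by
    apply Nat.Coprime.symm
    rw [Nat.Prime.coprime_iff_not_dvd hp]
    exact Nat.not_dvd_of_pos_of_lt (by omega) (by omega)
  have hcop_ez : Nat.Coprime e g₀ := by
    have h1 : Nat.gcd e g₀ ∣ p := by
      rw [← hz]
      exact Nat.dvd_add (Nat.gcd_dvd_right e g₀) (Nat.gcd_dvd_left e g₀)
    rcases (Nat.dvd_prime hp).mp h1 with h2 | h2
    · exact h2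
    · have := Nat.gcd_le_left g₀ (show 0 < e by omega)
      omega
  have heq : e ∣ q ^ b := by
    have h1 : e ∣ p * q ^ b := Nat.Coprime.dvd_of_dvd_mul_right hcop_ez heG
    exact Nat.Coprime.dvd_of_dvd_mul_left hcop_ep h1
  obtain ⟨c, hcb, hec⟩ := (Nat.dvd_prime_pow hq).mp heq
  have hc0 : c ≠ 0 := by
    rintro rfl
    rw [pow_zero] at hec
    omega
  have hqe : q ∣ e := by rw [hec]; exact dvd_pow_self q hc0
  -- every non-principal degree is divisible by `q`
  have hqdeg : ∀ i ∈ X, i ≠ t0 → q ∣ deg i := by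
    intro i hi hne
    by_contra hnq
    have hcop_dq : Nat.Coprime (deg i) q := by
      apply Nat.Coprime.symm
      rw [Nat.Prime.coprime_iff_not_dvd hq]
      exact hnq
    have hcop_dp : Nat.Coprime (deg i) p := by
      apply Nat.Coprime.symm
      rw [Nat.Prime.coprime_iff_not_dvd hp]
      intro hpd
      have h1 : (p : ℤ) ∣ (deg i : ℤ) := Int.natCast_dvd_natCast.mpr hpd
      have h2 : (p : ℤ) ∣ a i := by
        have := dvd_sub h1 (hcong i hi)
        simpa using this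
      have h3 : (p : ℤ) ∣ 1 := by
        rcases ha i hi with h | h
        · rwa [h] at h2
        · rw [h] at h2; exact (dvd_neg).mp h2
      have h4 : p ∣ 1 := by exact_mod_cast h3
      have := Nat.le_of_dvd one_pos h4
      omega
    have h1 : deg i ∣ q ^ b * g₀ := by
      have := hdvd i hi
      rw [mul_assoc] at this
      exact Nat.Coprime.dvd_of_dvd_mul_left hcop_dp this
    have h2 : deg i ∣ g₀ := Nat.Coprime.dvd_of_dvd_mul_left (Nat.Coprime.pow_right b hcop_dq) h1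
    have h3 : deg i ≤ g₀ := Nat.le_of_dvd hg0 h2
    exact btarithq_small p (deg i) (a i) (ha i hi) (hdeg2 i hi hne) (by omega) (hcong i hi)
  -- `q ∣ z + 1`
  have hqz : q ∣ g₀ + 1 := by
    have hsum : (q : ℤ) ∣ ∑ i ∈ X.erase t0, a i * (deg i : ℤ) := by
      apply Finset.dvd_sum
      intro i hi
      have hiX := Finset.mem_of_mem_erase hi
      have hne := Finset.ne_of_mem_erase hi
      exact Dvd.dvd.mul_left (Int.natCast_dvd_natCast.mpr (hqdeg i hiX hne)) _
    have hsplit := Finset.add_sum_erase X (fun i => a i * (deg i : ℤ)) ht0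
    simp only [hdeg0, ha0] at hsplit
    rw [hD] at hsplit
    push_cast at hsplit
    have h1 : ∑ i ∈ X.erase t0, a i * (deg i : ℤ) = -(((g₀ + 1 : ℕ)) : ℤ) := by
      push_cast
      linarith
    rw [h1] at hsum
    exact Int.natCast_dvd_natCast.mp ((dvd_neg).mp hsum)
  -- `q = 2`
  have hq2 : q = 2 := by
    have h1 : q ∣ p + 1 := by
      have := Nat.dvd_add hqz hqe
      have e1 : g₀ + 1 + e = p + 1 := by omega
      rwa [e1] at this
    have h2 : q ∣ p - 1 := dvd_trans hqe hedvd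
    have h3 : q ∣ (p + 1) - (p - 1) := Nat.dvd_sub h1 h2
    have e2 : (p + 1) - (p - 1) = 2 := by omega
    rw [e2] at h3
    exact (Nat.prime_dvd_prime_iff_eq hq Nat.prime_two).mp h3
  refine ⟨rfl, hq2, ⟨c, by rw [hec, hq2]⟩, fun i hi hne => ?_⟩
  have := hqdeg i hi hne
  rw [hq2] at this
  exact (even_iff_two_dvd).mpr this

end Cfsg.Agent.Lib.Helper13.BT
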