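import Mathlib
import Cfsg.Prelude.Def_OddOrderChar
import Cfsg.Prelude.Def_OddOrderLocal
import Cfsg.Agent.Lib.Helper11.CyclicDual
import Cfsg.Agent.Lib.Helper11.LinChar
import Cfsg.Agent.Lib.Helper25.CharBasic

set_option autoImplicit false
set_option linter.style.haveILetI false
open scoped ComplexConjugate

namespace Cfsg.Agent.Lib.Helper11

theorem classInner_neg_left {G : Type*} [Group G] [Fintype G] (f g : G → ℂ) :
    Cfsg.classInner (-f) g = -Cfsg.classInner f g := by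
  unfold Cfsg.classInner
  simp [Finset.sum_neg_distrib]

theorem classInner_neg_right {G : Type*} [Group G] [Fintype G] (f g : G → ℂ) :
    Cfsg.classInner f (-g) = -Cfsg.classInner f g := by
  unfold Cfsg.classInner
  simp [Finset.sum_neg_distrib]

/-- an irreducible character up to sign -/
def IsSignedIrr (G : Type*) [Group G] (α : G → ℂ) : Prop :=
  Cfsg.IsIrrCharacter G α ∨ Cfsg.IsIrrCharacter G (-α)

theorem signedIrr_inner {G : Type*} [Group G] [Fintype G] {α β : G → ℂ}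
    (hα : IsSignedIrr G α) (hβ : IsSignedIrr G β) :
    Cfsg.classInner α β = 0 ∨ (Cfsg.classInner α β = 1 ∧ α = β) ∨
      (Cfsg.classInner α β = -1 ∧ α = -β) := by
  rcases hα with ha | ha <;> rcases hβ with hb | hb
  · have := Cfsg.Agent.Lib.Helper25.irr_classInner (⟨α, ha⟩ : Cfsg.IrrCharacter G) ⟨β, hb⟩
    simp only [Subtype.mk.injEq] at this
    by_cases h : α = β
    · right; left; rw [this, if_pos h]; exact ⟨rfl, h⟩
    · left; rw [this, if_neg h]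
  · have := Cfsg.Agent.Lib.Helper25.irr_classInner (⟨α, ha⟩ : Cfsg.IrrCharacter G) ⟨-β, hb⟩
    simp only [Subtype.mk.injEq] at this
    rw [classInner_neg_right] at this
    by_cases h : α = -β
    · right; right
      rw [if_pos h] at this
      exact ⟨by rw [← this, neg_neg], h⟩
    · left
      rw [if_neg h] at this
      exact neg_eq_zero.mp this
  · have := Cfsg.Agent.Lib.Helper25.irr_classInner (⟨-α, ha⟩ : Cfsg.IrrCharacter G) ⟨β, hb⟩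
    simp only [Subtype.mk.injEq] at this
    rw [classInner_neg_left] at this
    by_cases h : -α = β
    · right; right
      rw [if_pos h] at this
      exact ⟨by rw [← this, neg_neg], by rw [← h, neg_neg]⟩
    · left
      rw [if_neg h] at this
      exact neg_eq_zero.mp this
  · have := Cfsg.Agent.Lib.Helper25.irr_classInner (⟨-α, ha⟩ : Cfsg.IrrCharacter G) ⟨-β, hb⟩
    simp only [Subtype.mk.injEq] at this
    rw [classInner_neg_left, classInner_neg_right, neg_neg] at this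
    by_cases h : -α = -β
    · right; left
      rw [if_pos h] at this
      exact ⟨this, neg_injective h⟩
    · left
      rw [if_neg h] at this
      exact this

theorem signedIrr_norm {G : Type*} [Group G] [Fintype G] {α : G → ℂ}
    (hα : IsSignedIrr G α) : Cfsg.classInner α α = 1 := by
  rcases hα with ha | ha
  · have := Cfsg.Agent.Lib.Helper25.irr_classInner (⟨α, ha⟩ : Cfsg.IrrCharacter G) ⟨α, ha⟩
    simpa using this
  · have := Cfsg.Agent.Lib.Helper25.irr_classInner (⟨-α, ha⟩ : Cfsg.IrrCharacter G) ⟨-α, ha⟩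
    rw [classInner_neg_left, classInner_neg_right, neg_neg] at this
    simpa using this

theorem signedIrr_neg {G : Type*} [Group G] {α : G → ℂ}
    (hα : IsSignedIrr G α) : IsSignedIrr G (-α) := by
  rcases hα with ha | ha
  · right; rwa [neg_neg]
  · left; exact ha

/-- two orthogonal signed irreducibles cannot both meet a third one -/
theorem signedIrr_atmost {G : Type*} [Group G] [Fintype G] {α β γ : G → ℂ}
    (hα : IsSignedIrr G α) (hβ : IsSignedIrr G β) (hγ : IsSignedIrr G γ)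
    (hβγ : Cfsg.classInner β γ = 0) :
    Cfsg.classInner β α = 0 ∨ Cfsg.classInner γ α = 0 := by
  rcases signedIrr_inner hβ hα with h | ⟨-, h⟩ | ⟨-, h⟩
  · left; exact h
  all_goals
    rcases signedIrr_inner hγ hα with h' | ⟨-, h'⟩ | ⟨-, h'⟩
    · right; exact h'
    all_goals
      exfalso
      subst h h'
      first
        | (rw [signedIrr_norm hα] at hβγ; exact one_ne_zero hβγ)
        | (rw [classInner_neg_left, signedIrr_norm hα] at hβγ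
           exact one_ne_zero (neg_eq_zero.mp hβγ))
        | (rw [classInner_neg_right, signedIrr_norm hα] at hβγ
           exact one_ne_zero (neg_eq_zero.mp hβγ))
        | (rw [classInner_neg_right, classInner_neg_left, neg_neg, signedIrr_norm hα] at hβγ
           exact one_ne_zero hβγ)

/-- the combinatorial matching step -/
theorem signedIrr_match5 {G : Type*} [Group G] [Fintype G] {v e₀ e₁ e₂ e₃ e₄ : G → ℂ}
    (hv : IsSignedIrr G v) (h₀ : IsSignedIrr G e₀) (h₁ : IsSignedIrr G e₁)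
    (h₂ : IsSignedIrr G e₂) (h₃ : IsSignedIrr G e₃) (h₄ : IsSignedIrr G e₄)
    (o01 : Cfsg.classInner e₀ e₁ = 0) (o02 : Cfsg.classInner e₀ e₂ = 0)
    (o13 : Cfsg.classInner e₁ e₃ = 0) (o14 : Cfsg.classInner e₁ e₄ = 0)
    (o23 : Cfsg.classInner e₂ e₃ = 0) (o24 : Cfsg.classInner e₂ e₄ = 0)
    (hA : Cfsg.classInner e₀ v + Cfsg.classInner e₁ v - Cfsg.classInner e₂ v = 1)
    (hB : Cfsg.classInner e₀ v + Cfsg.classInner e₃ v - Cfsg.classInner e₄ v = 1) :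
    e₀ = v := by
  rcases signedIrr_inner h₀ hv with h | ⟨-, h⟩ | ⟨hm, -⟩
  · exfalso
    rw [h, zero_add] at hA hB
    have a13 := signedIrr_atmost hv h₁ h₃ o13
    have a14 := signedIrr_atmost hv h₁ h₄ o14
    have a23 := signedIrr_atmost hv h₂ h₃ o23
    have a24 := signedIrr_atmost hv h₂ h₄ o24
    by_cases b1 : Cfsg.classInner e₁ v = 0
    · have c2 : Cfsg.classInner e₂ v ≠ 0 := by
        intro h0; rw [b1, h0] at hA; norm_num at hA
      have b3 : Cfsg.classInner e₃ v = 0 := by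
        rcases a23 with h0 | h0
        · exact absurd h0 c2
        · exact h0
      have b4 : Cfsg.classInner e₄ v = 0 := by
        rcases a24 with h0 | h0
        · exact absurd h0 c2
        · exact h0
      rw [b3, b4] at hB; norm_num at hB
    · have b3 : Cfsg.classInner e₃ v = 0 := by
        rcases a13 with h0 | h0
        · exact absurd h0 b1
        · exact h0
      have b4 : Cfsg.classInner e₄ v = 0 := by
        rcases a14 with h0 | h0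
        · exact absurd h0 b1
        · exact h0
      rw [b3, b4] at hB; norm_num at hB
  · exact h
  · exfalso
    have hne : Cfsg.classInner e₀ v ≠ 0 := by rw [hm]; norm_num
    have b1 : Cfsg.classInner e₁ v = 0 := by
      rcases signedIrr_atmost hv h₀ h₁ o01 with h0 | h0
      · exact absurd h0 hne
      · exact h0
    have b2 : Cfsg.classInner e₂ v = 0 := by
      rcases signedIrr_atmost hv h₀ h₂ o02 with h0 | h0
      · exact absurd h0 hne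
      · exact h0
    rw [hm, b1, b2] at hA; norm_num at hA

theorem exists_two_ne_one {A : Type*} [Group A] [Finite A] (h : 3 ≤ Nat.card A) :
    ∃ x y : A, x ≠ 1 ∧ y ≠ 1 ∧ x ≠ y := by
  classical
  haveI : Fintype A := Fintype.ofFinite A
  rw [Nat.card_eq_fintype_card, ← Finset.card_univ] at h
  obtain ⟨a, b, c, -, -, -, hab, hac, hbc⟩ := Finset.two_lt_card_iff.mp h
  by_cases ha : a = 1
  · subst ha
    exact ⟨b, c, fun h => hab h.symm, fun h => hac h.symm, hbc⟩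
  · by_cases hb : b = 1
    · subst hb
      exact ⟨a, c, ha, fun h => hbc h.symm, hac⟩
    · exact ⟨a, b, ha, hb, hab⟩

/-- Two orthonormal families of signed irreducibles indexed by the linear characters of `W`
that agree at `1` and satisfy the same "rectangle" identities are equal. -/
theorem family_match {G : Type*} [Group G] [Fintype G] (W₁ W₂ : Subgroup G)
    (hW : Cfsg.IsSelfNormalizingCyclic W₁ W₂) (hodd : Odd (Nat.card ↥(W₁ ⊔ W₂)))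
    (α α' : (↥(W₁ ⊔ W₂) →* ℂˣ) → (G → ℂ))
    (hα : ∀ ω, IsSignedIrr G (α ω)) (hα' : ∀ ω, IsSignedIrr G (α' ω))
    (horth : ∀ ω ω', ω ≠ ω' → Cfsg.classInner (α ω) (α ω') = 0)
    (horth' : ∀ ω ω', ω ≠ ω' → Cfsg.classInner (α' ω) (α' ω') = 0)
    (h1 : α 1 = α' 1)
    (hid : ∀ φ ψ : ↥(W₁ ⊔ W₂) →* ℂˣ, φ ≠ 1 → ψ ≠ 1 →
      (∀ w : ↥(W₁ ⊔ W₂), (w : G) ∈ W₂ → φ w = 1) →
      (∀ w : ↥(W₁ ⊔ W₂), (w : G) ∈ W₁ → ψ w = 1) →
      α φ + α ψ - α (φ * ψ) = α' φ + α' ψ - α' (φ * ψ)) : α = α' := by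
  classical
  obtain ⟨hne1, hne2, hdisjW, -, hcyc, -⟩ := hW
  have hcomm : ∀ a b : ↥(W₁ ⊔ W₂), a * b = b * a := by
    have := @IsCyclic.isMulCommutative _ _ hcyc
    exact mul_comm'
  set H₁ := W₁.subgroupOf (W₁ ⊔ W₂) with hH₁
  set H₂ := W₂.subgroupOf (W₁ ⊔ W₂) with hH₂
  have hd : H₁ ⊓ H₂ = ⊥ := by
    rw [eq_bot_iff]
    intro x hx
    have h1 : (x : G) ∈ W₁ ⊓ W₂ := ⟨Subgroup.mem_subgroupOf.mp hx.1, Subgroup.mem_subgroupOf.mp hx.2⟩
    rw [hdisjW, Subgroup.mem_bot] at h1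
    rw [Subgroup.mem_bot]
    exact Subtype.ext h1
  have hs : H₁ ⊔ H₂ = ⊤ := by
    rw [hH₁, hH₂, ← Subgroup.subgroupOf_sup le_sup_left le_sup_right, Subgroup.subgroupOf_self]
  have hbij := annih_prod_bijective hcomm H₁ H₂ hd hs
  obtain ⟨hcΦ, hcΨ⟩ := card_annih_eq hcomm H₁ H₂ hd hs
  have hcH₁ : Nat.card H₁ = Nat.card W₁ :=
    Nat.card_congr (Subgroup.subgroupOfEquivOfLe le_sup_left).toEquiv
  have hcH₂ : Nat.card H₂ = Nat.card W₂ :=
    Nat.card_congr (Subgroup.subgroupOfEquivOfLe le_sup_right).toEquiv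
  have hodd1 : Odd (Nat.card W₁) :=
    Odd.of_dvd_nat hodd (Subgroup.card_dvd_of_le (le_sup_left : W₁ ≤ W₁ ⊔ W₂))
  have hodd2 : Odd (Nat.card W₂) :=
    Odd.of_dvd_nat hodd (Subgroup.card_dvd_of_le (le_sup_right : W₂ ≤ W₁ ⊔ W₂))
  have hn₁ : 3 ≤ Nat.card W₁ := by
    have h1 : Nat.card W₁ ≠ 1 := fun h => hne1 (Subgroup.card_eq_one.mp h)
    have h0 : 0 < Nat.card W₁ := Nat.card_pos
    obtain ⟨k, hk⟩ := hodd1
    omega
  have hn₂ : 3 ≤ Nat.card W₂ := by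
    have h1 : Nat.card W₂ ≠ 1 := fun h => hne2 (Subgroup.card_eq_one.mp h)
    have h0 : 0 < Nat.card W₂ := Nat.card_pos
    obtain ⟨k, hk⟩ := hodd2
    omega
  obtain ⟨φa, φb, hφa, hφb, hφab⟩ := exists_two_ne_one (A := ↥(annih H₂)) (by rw [hcΦ, hcH₁]; exact hn₁)
  obtain ⟨ψa, ψb, hψa, hψb, hψab⟩ := exists_two_ne_one (A := ↥(annih H₁)) (by rw [hcΨ, hcH₂]; exact hn₂)
  have hφtriv : ∀ φ : ↥(annih H₂), ∀ w : ↥(W₁ ⊔ W₂), (w : G) ∈ W₂ →
      (φ : ↥(W₁ ⊔ W₂) →* ℂˣ) w = 1 := fun φ w hw => φ.2 w (Subgroup.mem_subgroupOf.mpr hw)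
  have hψtriv : ∀ ψ : ↥(annih H₁), ∀ w : ↥(W₁ ⊔ W₂), (w : G) ∈ W₁ →
      (ψ : ↥(W₁ ⊔ W₂) →* ℂˣ) w = 1 := fun ψ w hw => ψ.2 w (Subgroup.mem_subgroupOf.mpr hw)
  -- products of pairs are distinct
  have hpair : ∀ (φ φ' : ↥(annih H₂)) (ψ ψ' : ↥(annih H₁)), (φ ≠ φ' ∨ ψ ≠ ψ') →
      (φ : ↥(W₁ ⊔ W₂) →* ℂˣ) * (ψ : ↥(W₁ ⊔ W₂) →* ℂˣ) ≠
        (φ' : ↥(W₁ ⊔ W₂) →* ℂˣ) * (ψ' : ↥(W₁ ⊔ W₂) →* ℂˣ) := by
    intro φ φ' ψ ψ' hne heq
    have := hbij.1 (a₁ := (φ, ψ)) (a₂ := (φ', ψ')) heq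
    rw [Prod.mk.injEq] at this
    rcases hne with h | h
    · exact h this.1
    · exact h this.2
  have hne1' : ∀ φ : ↥(annih H₂), φ ≠ 1 → (φ : ↥(W₁ ⊔ W₂) →* ℂˣ) ≠ 1 :=
    fun φ h h' => h (Subtype.ext h')
  have hne2' : ∀ ψ : ↥(annih H₁), ψ ≠ 1 → (ψ : ↥(W₁ ⊔ W₂) →* ℂˣ) ≠ 1 :=
    fun ψ h h' => h (Subtype.ext h')
  -- generic pairing computation
  have hpairing : ∀ (φ : ↥(annih H₂)) (ψ : ↥(annih H₁)), φ ≠ 1 → ψ ≠ 1 → ∀ v : G → ℂ,
      Cfsg.classInner (α φ) v + Cfsg.classInner (α ψ) v - Cfsg.classInner (α (φ * ψ)) v =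
        Cfsg.classInner (α' φ) v + Cfsg.classInner (α' ψ) v -
          Cfsg.classInner (α' ((φ : ↥(W₁ ⊔ W₂) →* ℂˣ) * ψ)) v := by
    intro φ ψ h1 h2 v
    have := hid φ ψ (hne1' φ h1) (hne2' ψ h2) (hφtriv φ) (hψtriv ψ)
    rw [← classInner_add_left', ← classInner_sub_left', ← classInner_add_left',
      ← classInner_sub_left', this]
  -- Step 1
  have step1 : ∀ φ : ↥(annih H₂), φ ≠ 1 → α' φ = α φ := by
    intro φ hφ
    have e1 := hpairing φ ψa hφ hψa (α φ)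
    have e2 := hpairing φ ψb hφ hψb (α φ)
    have p1 : (φ : ↥(W₁ ⊔ W₂) →* ℂˣ) = (φ : ↥(W₁ ⊔ W₂) →* ℂˣ) * ((1 : ↥(annih H₁)) : ↥(W₁ ⊔ W₂) →* ℂˣ) := by
      simp
    have q1 : ∀ ψ : ↥(annih H₁), (ψ : ↥(W₁ ⊔ W₂) →* ℂˣ) =
        ((1 : ↥(annih H₂)) : ↥(W₁ ⊔ W₂) →* ℂˣ) * (ψ : ↥(W₁ ⊔ W₂) →* ℂˣ) := by
      intro ψ; simp
    have d_φ_ψ : ∀ ψ : ↥(annih H₁), (φ : ↥(W₁ ⊔ W₂) →* ℂˣ) ≠ ψ := by
      intro ψ
      rw [p1, q1 ψ]
      exact hpair φ 1 1 ψ (Or.inl hφ)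
    have d_φ_φψ : ∀ ψ : ↥(annih H₁), ψ ≠ 1 → (φ : ↥(W₁ ⊔ W₂) →* ℂˣ) ≠ φ * ψ := by
      intro ψ hψ
      conv_lhs => rw [p1]
      exact hpair φ φ 1 ψ (Or.inr (Ne.symm hψ))
    have d_ψ_φψ : ∀ ψ ψ' : ↥(annih H₁), (ψ : ↥(W₁ ⊔ W₂) →* ℂˣ) ≠ φ * ψ' := by
      intro ψ ψ'
      conv_lhs => rw [q1 ψ]
      exact hpair 1 φ ψ ψ' (Or.inl (Ne.symm hφ))
    rw [horth ψa φ (d_φ_ψ ψa).symm, horth (φ * ψa) φ (d_φ_φψ ψa hψa).symm,
      signedIrr_norm (hα φ)] at e1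
    rw [horth ψb φ (d_φ_ψ ψb).symm, horth (φ * ψb) φ (d_φ_φψ ψb hψb).symm,
      signedIrr_norm (hα φ)] at e2
    have hψab' : (ψa : ↥(W₁ ⊔ W₂) →* ℂˣ) ≠ ψb := fun h => hψab (Subtype.ext h)
    refine signedIrr_match5 (hα φ) (hα' φ) (hα' ψa) (hα' (φ * ψa)) (hα' ψb) (hα' (φ * ψb))
      (horth' _ _ (d_φ_ψ ψa)) (horth' _ _ (d_φ_φψ ψa hψa)) (horth' _ _ hψab')
      (horth' _ _ (d_ψ_φψ ψa ψb)) (horth' _ _ (d_ψ_φψ ψb ψa).symm)
      (horth' _ _ (hpair φ φ ψa ψb (Or.inr hψab))) ?_ ?_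
    · linear_combination (-1 : ℂ) * e1
    · linear_combination (-1 : ℂ) * e2
  -- Step 2
  have step2 : ∀ ψ : ↥(annih H₁), ψ ≠ 1 → α' ψ = α ψ := by
    intro ψ hψ
    have e1 := hpairing φa ψ hφa hψ (α ψ)
    have e2 := hpairing φb ψ hφb hψ (α ψ)
    have p1 : ∀ φ : ↥(annih H₂), (φ : ↥(W₁ ⊔ W₂) →* ℂˣ) =
        (φ : ↥(W₁ ⊔ W₂) →* ℂˣ) * ((1 : ↥(annih H₁)) : ↥(W₁ ⊔ W₂) →* ℂˣ) := by
      intro φ; simp
    have q1 : (ψ : ↥(W₁ ⊔ W₂) →* ℂˣ) =
        ((1 : ↥(annih H₂)) : ↥(W₁ ⊔ W₂) →* ℂˣ) * (ψ : ↥(W₁ ⊔ W₂) →* ℂˣ) := by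
      simp
    have d_ψ_φ : ∀ φ : ↥(annih H₂), (ψ : ↥(W₁ ⊔ W₂) →* ℂˣ) ≠ φ := by
      intro φ
      rw [p1 φ, q1]
      exact hpair 1 φ ψ 1 (Or.inr hψ)
    have d_ψ_φψ : ∀ φ : ↥(annih H₂), φ ≠ 1 → (ψ : ↥(W₁ ⊔ W₂) →* ℂˣ) ≠ φ * ψ := by
      intro φ hφ
      conv_lhs => rw [q1]
      exact hpair 1 φ ψ ψ (Or.inl (Ne.symm hφ))
    have d_φ_φψ : ∀ φ φ' : ↥(annih H₂), (φ : ↥(W₁ ⊔ W₂) →* ℂˣ) ≠ φ' * ψ := by
      intro φ φ'
      conv_lhs => rw [p1 φ]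
      exact hpair φ φ' 1 ψ (Or.inr (Ne.symm hψ))
    rw [horth φa ψ (d_ψ_φ φa).symm, horth (φa * ψ) ψ (d_ψ_φψ φa hφa).symm,
      signedIrr_norm (hα ψ)] at e1
    rw [horth φb ψ (d_ψ_φ φb).symm, horth (φb * ψ) ψ (d_ψ_φψ φb hφb).symm,
      signedIrr_norm (hα ψ)] at e2
    have hφab' : (φa : ↥(W₁ ⊔ W₂) →* ℂˣ) ≠ φb := fun h => hφab (Subtype.ext h)
    refine signedIrr_match5 (hα ψ) (hα' ψ) (hα' φa) (hα' (φa * ψ)) (hα' φb) (hα' (φb * ψ))
      (horth' _ _ (d_ψ_φ φa)) (horth' _ _ (d_ψ_φψ φa hφa)) (horth' _ _ hφab')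
      (horth' _ _ (d_φ_φψ φa φb)) (horth' _ _ (d_φ_φψ φb φa).symm)
      (horth' _ _ (hpair φa φb ψ ψ (Or.inl hφab))) ?_ ?_
    · linear_combination (-1 : ℂ) * e1
    · linear_combination (-1 : ℂ) * e2
  -- conclusion
  funext ω
  obtain ⟨⟨φ, ψ⟩, hp⟩ := hbij.2 ω
  simp only at hp
  subst hp
  by_cases hφ : φ = 1
  · subst hφ
    by_cases hψ : ψ = 1
    · subst hψ
      simpa using h1
    · simpa using (step2 ψ hψ).symm
  · by_cases hψ : ψ = 1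
    · subst hψ
      simpa using (step1 φ hφ).symm
    · have := hid φ ψ (hne1' φ hφ) (hne2' ψ hψ) (hφtriv φ) (hψtriv ψ)
      rw [step1 φ hφ, step2 ψ hψ] at this
      have h3 : α ((φ : ↥(W₁ ⊔ W₂) →* ℂˣ) * ψ) = α' ((φ : ↥(W₁ ⊔ W₂) →* ℂˣ) * ψ) := by
        have := sub_right_injective this
        exact this
      exact h3

end Cfsg.Agent.Lib.Helper11
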