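import Mathlib
import Cfsg.Agent.Lib.Helper11.Coherence
import Cfsg.Agent.Lib.Helper11.CyclicTIUnique
import Cfsg.Agent.S1515

set_option autoImplicit false
open scoped ComplexConjugate

namespace Cfsg.Agent.Lib.Helper11

open Cfsg.Agent.Lib.helper7 Cfsg.Agent.Lib.helper2 Cfsg.Agent.Lib.Helper25

/-! ### Bessel identity for a finite orthonormal family -/

theorem classInner_projOn_left {N : Type*} [Group N] [Fintype N] (F : Finset (N → ℂ))
    (T γ : N → ℂ) :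
    Cfsg.classInner (projOn F T) γ = ∑ α ∈ F, Cfsg.classInner T α * Cfsg.classInner α γ := by
  unfold projOn
  rw [classInner_sum_left']
  apply Finset.sum_congr rfl
  intro α _
  rw [classInner_smul_left']

theorem classInner_projOn_right {N : Type*} [Group N] [Fintype N] (F : Finset (N → ℂ))
    (T γ : N → ℂ) :
    Cfsg.classInner γ (projOn F T) =
      ∑ α ∈ F, conj (Cfsg.classInner T α) * Cfsg.classInner γ α := by
  unfold projOn
  rw [classInner_sum_right'']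
  apply Finset.sum_congr rfl
  intro α _
  rw [h7_classInner_smul_right]

theorem classInner_projOn_mem {N : Type*} [Group N] [Fintype N] [DecidableEq (N → ℂ)]
    (F : Finset (N → ℂ))
    (horth : ∀ a ∈ F, ∀ b ∈ F, Cfsg.classInner a b = if a = b then 1 else 0)
    (T : N → ℂ) (β : N → ℂ) (hβ : β ∈ F) :
    Cfsg.classInner (projOn F T) β = Cfsg.classInner T β := by
  rw [classInner_projOn_left, Finset.sum_eq_single β]
  · rw [horth β hβ β hβ, if_pos rfl, mul_one]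
  · intro a ha hne
    rw [horth a ha β hβ, if_neg hne, mul_zero]
  · intro h
    exact absurd hβ h

theorem classInner_projOn_self {N : Type*} [Group N] [Fintype N] [DecidableEq (N → ℂ)]
    (F : Finset (N → ℂ))
    (horth : ∀ a ∈ F, ∀ b ∈ F, Cfsg.classInner a b = if a = b then 1 else 0)
    (T : N → ℂ) :
    Cfsg.classInner (projOn F T) (projOn F T) =
      ∑ α ∈ F, Cfsg.classInner T α * conj (Cfsg.classInner T α) := by
  rw [classInner_projOn_right]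
  apply Finset.sum_congr rfl
  intro α hα
  rw [classInner_projOn_mem F horth T α hα, mul_comm]

theorem classInner_left_projOn {N : Type*} [Group N] [Fintype N]
    (F : Finset (N → ℂ)) (T : N → ℂ) :
    Cfsg.classInner T (projOn F T) =
      ∑ α ∈ F, Cfsg.classInner T α * conj (Cfsg.classInner T α) := by
  rw [classInner_projOn_right]
  apply Finset.sum_congr rfl
  intro α _
  rw [mul_comm]

theorem mul_conj_eq_norm_sq (z : ℂ) : z * conj z = ((‖z‖ ^ 2 : ℝ) : ℂ) := by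
  rw [Complex.mul_conj, Complex.normSq_eq_norm_sq]

/-- Bessel: the squared norm of the residual. -/
theorem classInner_residual {N : Type*} [Group N] [Fintype N] [DecidableEq (N → ℂ)]
    (F : Finset (N → ℂ))
    (horth : ∀ a ∈ F, ∀ b ∈ F, Cfsg.classInner a b = if a = b then 1 else 0)
    (T : N → ℂ) :
    Cfsg.classInner (T - projOn F T) (T - projOn F T) =
      Cfsg.classInner T T - ((∑ α ∈ F, ‖Cfsg.classInner T α‖ ^ 2 : ℝ) : ℂ) := by
  rw [classInner_sub_left', classInner_sub_right'', classInner_sub_right'',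
    classInner_projOn_self F horth, classInner_left_projOn,
    classInner_conj_symm (projOn F T) T, classInner_left_projOn, map_sum]
  have h1 : ∀ α ∈ F, conj (Cfsg.classInner T α * conj (Cfsg.classInner T α)) =
      Cfsg.classInner T α * conj (Cfsg.classInner T α) := by
    intro α _
    rw [map_mul, Complex.conj_conj, mul_comm]
  rw [Finset.sum_congr rfl h1]
  have h2 : ∑ α ∈ F, Cfsg.classInner T α * conj (Cfsg.classInner T α) =
      ((∑ α ∈ F, ‖Cfsg.classInner T α‖ ^ 2 : ℝ) : ℂ) := by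
    rw [Complex.ofReal_sum]
    apply Finset.sum_congr rfl
    intro α _
    exact mul_conj_eq_norm_sq _
  rw [h2]
  ring

/-! ### generalities on coherence systems -/

theorem conjFun_conjFun {X : Type*} (χ : X → ℂ) : Cfsg.conjFun (Cfsg.conjFun χ) = χ := by
  funext x
  simp [Cfsg.conjFun]

theorem zspan_subset_zspanOn {X : Type*} {S : Set (X → ℂ)} {A : Set X} {D : Set (X → ℂ)}
    (hD : ∀ a ∈ D, a ∈ Cfsg.zspanOn S A) : ∀ a ∈ Cfsg.zspan D, a ∈ Cfsg.zspanOn S A := by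
  intro a ha
  induction ha using Submodule.span_induction with
  | mem χ h => exact hD χ h
  | zero => exact ⟨zspan_zero S, fun x _ => rfl⟩
  | add a b _ _ iha ihb => exact zspanOn_add iha ihb
  | smul n a _ iha => exact zspanOn_zsmul n iha

theorem isoOn_mono {L G : Type*} [Group L] [Fintype L] [Group G] [Fintype G]
    {E E' : Set (L → ℂ)} {τ : (L → ℂ) → (G → ℂ)} (h : E' ⊆ E)
    (hτ : Cfsg.IsLinearIsometryOn E τ) : Cfsg.IsLinearIsometryOn E' τ :=
  ⟨fun a ha b hb => hτ.1 a (h ha) b (h hb), fun a ha n => hτ.2.1 a (h ha) n,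
    fun a ha b hb => hτ.2.2.1 a (h ha) b (h hb), fun a ha => hτ.2.2.2 a (h ha)⟩

section

variable {L : Type*} [Group L] [Fintype L] {G : Type*} [Group G] [Fintype G]
  {S : Set (L → ℂ)} {τ : (L → ℂ) → (G → ℂ)} {R : (L → ℂ) → Finset (G → ℂ)}

omit [Fintype L] in
theorem coh_sub_mem (hdeg : ∀ φ ∈ S, ∀ ψ ∈ S, φ 1 = ψ 1) {χ ψ : L → ℂ} (hχ : χ ∈ S) (hψ : ψ ∈ S) :
    χ - ψ ∈ Cfsg.zspanOn S {1}ᶜ := by
  apply mem_zspanOn_one (zspan_sub (zspan_of_mem hχ) (zspan_of_mem hψ))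
  rw [Pi.sub_apply, hdeg χ hχ ψ hψ, sub_self]

theorem coh_map_neg (hS : Cfsg.IsCoherenceSystem S τ R) {x : L → ℂ}
    (hx : x ∈ Cfsg.zspanOn S {1}ᶜ) : τ (-x) = -τ x := by
  have := hS.isometry.2.1 x hx (-1)
  simpa using this

theorem coh_cross (hS : Cfsg.IsCoherenceSystem S τ R) {χ ψ : L → ℂ} (hχ : χ ∈ S) (hψ : ψ ∈ S)
    (h1 : ψ ≠ χ) (h2 : ψ ≠ Cfsg.conjFun χ) :
    ∀ α ∈ R χ, ∀ β ∈ R ψ, Cfsg.classInner α β = 0 := by
  apply hS.disjoint ψ hψ χ hχ
  · exact hS.orthogonal χ hχ ψ hψ (Ne.symm h1)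
  · apply hS.orthogonal χ hχ _ (hS.conj_mem ψ hψ)
    intro h
    apply h2
    rw [h, conjFun_conjFun]

theorem coh_decomp (hS : Cfsg.IsCoherenceSystem S τ R) (hdeg : ∀ φ ∈ S, ∀ ψ ∈ S, φ 1 = ψ 1)
    {χ ψ : L → ℂ} (hχ : χ ∈ S) (hψ : ψ ∈ S) (h1 : ψ ≠ χ) (h2 : ψ ≠ Cfsg.conjFun χ) :
    (∑ α ∈ R χ, ‖Cfsg.classInner (τ (χ - ψ)) α‖ ^ 2 = (Cfsg.classInner χ χ).re) ∧
    (∑ β ∈ R ψ, ‖Cfsg.classInner (τ (χ - ψ)) β‖ ^ 2 = (Cfsg.classInner ψ ψ).re) ∧
    τ (χ - ψ) = projOn (R χ) (τ (χ - ψ)) + projOn (R ψ) (τ (χ - ψ)) ∧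
    (∀ α ∈ R χ, Cfsg.classInner (τ (χ - ψ)) α = 0 ∨ Cfsg.classInner (τ (χ - ψ)) α = 1) := by
  classical
  have hτ := hS.isometry
  have hconjχ : Cfsg.conjFun χ ∈ S := hS.conj_mem χ hχ
  have hconjψ : Cfsg.conjFun ψ ∈ S := hS.conj_mem ψ hψ
  have hm1 : χ - ψ ∈ Cfsg.zspanOn S {1}ᶜ := coh_sub_mem hdeg hχ hψ
  have hm2 : χ - Cfsg.conjFun χ ∈ Cfsg.zspanOn S {1}ᶜ := coh_sub_mem hdeg hχ hconjχ
  have hm3 : ψ - χ ∈ Cfsg.zspanOn S {1}ᶜ := coh_sub_mem hdeg hψ hχ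
  have hm4 : ψ - Cfsg.conjFun ψ ∈ Cfsg.zspanOn S {1}ᶜ := coh_sub_mem hdeg hψ hconjψ
  have hχψ : Cfsg.classInner χ ψ = 0 := hS.orthogonal χ hχ ψ hψ (Ne.symm h1)
  have hψχ : Cfsg.classInner ψ χ = 0 := hS.orthogonal ψ hψ χ hχ h1
  have hcχψ : Cfsg.classInner (Cfsg.conjFun χ) ψ = 0 :=
    hS.orthogonal _ hconjχ ψ hψ (Ne.symm h2)
  have hcψχ : Cfsg.classInner (Cfsg.conjFun ψ) χ = 0 := by
    apply hS.orthogonal _ hconjψ χ hχ
    intro h
    apply h2
    rw [← h, conjFun_conjFun]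
  set T := τ (χ - ψ) with hT
  have hA1 := Cfsg.Agent.S1515.result S τ R hS χ hχ ψ (zspan_of_mem hψ) hχψ hcχψ τ
    (isoOn_mono (zspan_subset_zspanOn (by
      intro a ha
      rcases ha with rfl | rfl
      · exact hm1
      · exact hm2)) hτ) (fun n => rfl)
  have hA2 := (Cfsg.Agent.S1515.result S τ R hS ψ hψ χ (zspan_of_mem hχ) hψχ hcψχ τ
    (isoOn_mono (zspan_subset_zspanOn (by
      intro a ha
      rcases ha with rfl | rfl
      · exact hm3
      · exact hm4)) hτ) (fun n => rfl)).1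
  have hneg : τ (ψ - χ) = -T := by
    rw [hT, ← coh_map_neg hS hm1, neg_sub]
  have hA2' : (Cfsg.classInner ψ ψ).re ≤ ∑ β ∈ R ψ, ‖Cfsg.classInner T β‖ ^ 2 := by
    refine hA2.trans (le_of_eq ?_)
    apply Finset.sum_congr rfl
    intro β _
    rw [hneg, classInner_neg_left, norm_neg]
  have hTT : Cfsg.classInner T T = Cfsg.classInner χ χ + Cfsg.classInner ψ ψ := by
    rw [hT, hτ.2.2.1 _ hm1 _ hm1, classInner_sub_left', classInner_sub_right'',
      classInner_sub_right'', hχψ, hψχ]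
    ring
  have horthχ := hS.orthonormal χ hχ
  have horthψ := hS.orthonormal ψ hψ
  have hcross := coh_cross hS hχ hψ h1 h2
  set Z₁ := T - projOn (R χ) T with hZ₁
  have hZ₁β : ∀ β ∈ R ψ, Cfsg.classInner Z₁ β = Cfsg.classInner T β := by
    intro β hβ
    rw [hZ₁, classInner_sub_left', classInner_projOn_left]
    rw [Finset.sum_eq_zero, sub_zero]
    intro α hα
    rw [hcross α hα β hβ, mul_zero]
  have hproj : projOn (R ψ) Z₁ = projOn (R ψ) T := by
    unfold projOn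
    apply Finset.sum_congr rfl
    intro β hβ
    rw [hZ₁β β hβ]
  have hB1 := classInner_residual (R χ) horthχ T
  have hB2 := classInner_residual (R ψ) horthψ Z₁
  rw [← hZ₁] at hB1
  have hsumβ : ∑ β ∈ R ψ, ‖Cfsg.classInner Z₁ β‖ ^ 2 = ∑ β ∈ R ψ, ‖Cfsg.classInner T β‖ ^ 2 :=
    Finset.sum_congr rfl (fun β hβ => by rw [hZ₁β β hβ])
  rw [hB1, hTT, hsumβ] at hB2
  set Z := Z₁ - projOn (R ψ) Z₁ with hZ
  have hZnn := classInner_self_nonneg Z
  have hZeq := classInner_self_eq Z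
  -- real parts
  have hχre : Cfsg.classInner χ χ = (((Cfsg.classInner χ χ).re : ℝ) : ℂ) := by
    rw [classInner_self_eq χ, Complex.ofReal_re]
  have hψre : Cfsg.classInner ψ ψ = (((Cfsg.classInner ψ ψ).re : ℝ) : ℂ) := by
    rw [classInner_self_eq ψ, Complex.ofReal_re]
  set a := ∑ α ∈ R χ, ‖Cfsg.classInner T α‖ ^ 2 with ha
  set b := ∑ β ∈ R ψ, ‖Cfsg.classInner T β‖ ^ 2 with hb
  have hreal : (Nat.card G : ℝ)⁻¹ * ∑ g : G, Complex.normSq (Z g) =
      (Cfsg.classInner χ χ).re + (Cfsg.classInner ψ ψ).re - a - b := by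
    have h3 : (((Nat.card G : ℝ)⁻¹ * ∑ g : G, Complex.normSq (Z g) : ℝ) : ℂ) =
        (((Cfsg.classInner χ χ).re + (Cfsg.classInner ψ ψ).re - a - b : ℝ) : ℂ) := by
      rw [← hZeq, hB2, hχre, hψre]
      push_cast
      simp only [Complex.ofReal_re]
    exact Complex.ofReal_injective h3
  have ha' : a = (Cfsg.classInner χ χ).re := le_antisymm (by linarith [hA1.1]) hA1.1
  have hb' : b = (Cfsg.classInner ψ ψ).re := le_antisymm (by linarith [hA1.1]) hA2'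
  have hZ0 : Z = 0 := by
    apply eq_zero_of_classInner_self
    rw [hZeq, hreal, ha', hb']
    simp
  refine ⟨ha', hb', ?_, ?_⟩
  · have h4 : T = projOn (R χ) T + projOn (R ψ) Z₁ := by
      have h5 : Z₁ - projOn (R ψ) Z₁ = 0 := hZ0
      have h6 : Z₁ = projOn (R ψ) Z₁ := sub_eq_zero.mp h5
      have h7 : T = projOn (R χ) T + Z₁ := by rw [hZ₁]; abel
      calc T = projOn (R χ) T + Z₁ := h7
        _ = projOn (R χ) T + projOn (R ψ) Z₁ := by rw [← h6]
    rw [hproj] at h4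
    exact h4
  · have h8 : (Cfsg.classInner T T).re = (Cfsg.classInner χ χ).re + (Cfsg.classInner ψ ψ).re := by
      rw [hTT, Complex.add_re]
    have h9 : (Cfsg.classInner ψ ψ).re ≤ (Cfsg.classInner T T).re - a := by
      rw [h8, ha']
      linarith
    exact (hA1.2 h9).2

end

/-! ### the reference virtual character `X₀` -/

theorem classInner_conjFun_self {N : Type*} [Group N] [Fintype N] (χ : N → ℂ) :
    Cfsg.classInner (Cfsg.conjFun χ) (Cfsg.conjFun χ) = Cfsg.classInner χ χ := by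
  unfold Cfsg.classInner Cfsg.conjFun
  congr 1
  apply Finset.sum_congr rfl
  intro g _
  rw [Complex.conj_conj, mul_comm]

theorem classInner_sum_mem {N : Type*} [Group N] [Fintype N] [DecidableEq (N → ℂ)]
    (F : Finset (N → ℂ))
    (horth : ∀ a ∈ F, ∀ b ∈ F, Cfsg.classInner a b = if a = b then 1 else 0)
    (β : N → ℂ) (hβ : β ∈ F) : Cfsg.classInner (∑ α ∈ F, α) β = 1 := by
  rw [classInner_sum_left', Finset.sum_eq_single β]
  · rw [horth β hβ β hβ, if_pos rfl]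
  · intro a ha hne
    rw [horth a ha β hβ, if_neg hne]
  · intro h
    exact absurd hβ h

theorem classInner_sum_sum_subset {N : Type*} [Group N] [Fintype N] [DecidableEq (N → ℂ)]
    (F F' : Finset (N → ℂ)) (hF' : F' ⊆ F)
    (horth : ∀ a ∈ F, ∀ b ∈ F, Cfsg.classInner a b = if a = b then 1 else 0) :
    Cfsg.classInner (∑ α ∈ F, α) (∑ β ∈ F', β) = (F'.card : ℂ) := by
  rw [classInner_sum_right'', Finset.sum_congr rfl
    (fun β hβ => classInner_sum_mem F horth β (hF' hβ))]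
  simp

section

variable {L : Type*} [Group L] [Fintype L] {G : Type*} [Group G] [Fintype G]
  {S : Set (L → ℂ)} {τ : (L → ℂ) → (G → ℂ)} {R : (L → ℂ) → Finset (G → ℂ)}

theorem coh_norm_re (χ : L → ℂ) :
    Cfsg.classInner χ χ = (((Cfsg.classInner χ χ).re : ℝ) : ℂ) := by
  rw [classInner_self_eq χ, Complex.ofReal_re]

theorem coh_X0_caseB (hS : Cfsg.IsCoherenceSystem S τ R) (hdeg : ∀ φ ∈ S, ∀ ψ ∈ S, φ 1 = ψ 1)
    {χ₀ ψ₀ : L → ℂ} (hχ₀ : χ₀ ∈ S) (hψ₀ : ψ₀ ∈ S) (h1 : ψ₀ ≠ χ₀) (h2 : ψ₀ ≠ Cfsg.conjFun χ₀) :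
    Cfsg.IsGeneralizedCharacter G (projOn (R χ₀) (τ (χ₀ - ψ₀))) ∧
    Cfsg.classInner (projOn (R χ₀) (τ (χ₀ - ψ₀))) (projOn (R χ₀) (τ (χ₀ - ψ₀))) =
      Cfsg.classInner χ₀ χ₀ ∧
    ∀ ψ ∈ S, ψ ≠ χ₀ →
      Cfsg.classInner (τ (χ₀ - ψ)) (projOn (R χ₀) (τ (χ₀ - ψ₀))) = Cfsg.classInner χ₀ χ₀ := by
  classical
  have hτ := hS.isometry
  obtain ⟨hB1, hB2, hB3, hB4⟩ := coh_decomp hS hdeg hχ₀ hψ₀ h1 h2
  have horth := hS.orthonormal χ₀ hχ₀
  have hcross := coh_cross hS hχ₀ hψ₀ h1 h2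
  have hconjχ : Cfsg.conjFun χ₀ ∈ S := hS.conj_mem χ₀ hχ₀
  have hconjψ : Cfsg.conjFun ψ₀ ∈ S := hS.conj_mem ψ₀ hψ₀
  set T := τ (χ₀ - ψ₀) with hT
  set X₀ := projOn (R χ₀) T with hX₀
  have hsq : ∑ α ∈ R χ₀, Cfsg.classInner T α * conj (Cfsg.classInner T α) =
      Cfsg.classInner χ₀ χ₀ := by
    rw [coh_norm_re χ₀, ← hB1, Complex.ofReal_sum]
    apply Finset.sum_congr rfl
    intro α _
    exact mul_conj_eq_norm_sq _
  have hTX : Cfsg.classInner T X₀ = Cfsg.classInner χ₀ χ₀ := by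
    rw [hX₀, classInner_left_projOn, hsq]
  have hβX : ∀ β ∈ R ψ₀, Cfsg.classInner β X₀ = 0 := by
    intro β hβ
    rw [hX₀, classInner_projOn_right]
    apply Finset.sum_eq_zero
    intro α hα
    rw [classInner_conj_symm β α, hcross α hα β hβ, map_zero, mul_zero]
  refine ⟨?_, ?_, ?_⟩
  · rw [hX₀]
    unfold projOn
    apply genChar_sum
    intro α hα
    rcases hB4 α hα with h | h
    · rw [h, zero_smul]
      exact genChar_zero G
    · rw [h, one_smul]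
      exact hS.virtual χ₀ hχ₀ α hα
  · rw [classInner_projOn_self (R χ₀) horth, hsq]
  · intro ψ hψ hne
    by_cases hc1 : ψ = Cfsg.conjFun χ₀
    · rw [hc1, hS.sum_eq χ₀ hχ₀, hX₀, classInner_projOn_right]
      rw [← hsq]
      apply Finset.sum_congr rfl
      intro α hα
      rw [classInner_sum_mem (R χ₀) horth α hα, mul_one]
      rcases hB4 α hα with h | h
      · rw [h]; simp
      · rw [h]; simp
    by_cases hc2 : ψ = ψ₀
    · rw [hc2]
      exact hTX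
    by_cases hc3 : ψ = Cfsg.conjFun ψ₀
    · have hsplit : χ₀ - ψ = (χ₀ - ψ₀) + (ψ₀ - Cfsg.conjFun ψ₀) := by rw [hc3]; abel
      rw [hsplit, hτ.1 _ (coh_sub_mem hdeg hχ₀ hψ₀) _ (coh_sub_mem hdeg hψ₀ hconjψ),
        classInner_add_left', hS.sum_eq ψ₀ hψ₀, classInner_sum_left',
        Finset.sum_eq_zero (fun β hβ => hβX β hβ), add_zero]
      exact hTX
    · -- the generic case
      have hψ1 : ψ ≠ χ₀ := hne
      obtain ⟨-, -, hD3, -⟩ := coh_decomp hS hdeg hχ₀ hψ hψ1 hc1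
      set T' := τ (χ₀ - ψ) with hT'
      have hψ₀ψ : ψ₀ ≠ ψ := fun h => hc2 h.symm
      have hψ₀cψ : ψ₀ ≠ Cfsg.conjFun ψ := by
        intro h
        apply hc3
        rw [h, conjFun_conjFun]
      have hcross2 := coh_cross hS hψ hψ₀ hψ₀ψ hψ₀cψ
      have hT'β : ∀ β ∈ R ψ₀, Cfsg.classInner T' β = 0 := by
        intro β hβ
        rw [hD3, classInner_add_left', classInner_projOn_left, classInner_projOn_left,
          Finset.sum_eq_zero, Finset.sum_eq_zero, add_zero]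
        · intro γ hγ
          rw [hcross2 γ hγ β hβ, mul_zero]
        · intro α hα
          rw [hcross α hα β hβ, mul_zero]
      have hT'Y : Cfsg.classInner T' (projOn (R ψ₀) T) = 0 := by
        rw [classInner_projOn_right]
        apply Finset.sum_eq_zero
        intro β hβ
        rw [hT'β β hβ, mul_zero]
      have hT'T : Cfsg.classInner T' T = Cfsg.classInner χ₀ χ₀ := by
        rw [hT', hT, hτ.2.2.1 _ (coh_sub_mem hdeg hχ₀ hψ) _ (coh_sub_mem hdeg hχ₀ hψ₀),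
          classInner_sub_left', classInner_sub_right'', classInner_sub_right'',
          hS.orthogonal χ₀ hχ₀ ψ₀ hψ₀ (Ne.symm h1), hS.orthogonal ψ hψ χ₀ hχ₀ hψ1,
          hS.orthogonal ψ hψ ψ₀ hψ₀ hc2]
        ring
      have h5 : Cfsg.classInner T' T = Cfsg.classInner T' X₀ +
          Cfsg.classInner T' (projOn (R ψ₀) T) := by
        conv_lhs => rw [hB3]
        rw [h7_classInner_add_right]
      rw [hT'Y, add_zero] at h5
      rw [← h5, hT'T]

theorem coh_X0_caseA (hS : Cfsg.IsCoherenceSystem S τ R) (hdeg : ∀ φ ∈ S, ∀ ψ ∈ S, φ 1 = ψ 1)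
    {χ₀ : L → ℂ} (hχ₀ : χ₀ ∈ S) (hA : ∀ ψ ∈ S, ψ = χ₀ ∨ ψ = Cfsg.conjFun χ₀) :
    ∃ X₀ : G → ℂ, Cfsg.IsGeneralizedCharacter G X₀ ∧
      Cfsg.classInner X₀ X₀ = Cfsg.classInner χ₀ χ₀ ∧
      ∀ ψ ∈ S, ψ ≠ χ₀ → Cfsg.classInner (τ (χ₀ - ψ)) X₀ = Cfsg.classInner χ₀ χ₀ := by
  classical
  have hτ := hS.isometry
  have horth := hS.orthonormal χ₀ hχ₀
  have hconjχ : Cfsg.conjFun χ₀ ∈ S := hS.conj_mem χ₀ hχ₀
  obtain ⟨m, hm⟩ := classInner_character_nat (hS.isCharacter χ₀ hχ₀) (hS.isCharacter χ₀ hχ₀)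
  have hcard : ((R χ₀).card : ℂ) = 2 * (m : ℂ) := by
    rw [← classInner_sum_sum_subset (R χ₀) (R χ₀) (Finset.Subset.refl _) horth,
      ← hS.sum_eq χ₀ hχ₀, hτ.2.2.1 _ (coh_sub_mem hdeg hχ₀ hconjχ) _ (coh_sub_mem hdeg hχ₀ hconjχ),
      classInner_sub_left', classInner_sub_right'', classInner_sub_right'',
      classInner_conjFun_self, hm,
      hS.orthogonal χ₀ hχ₀ _ hconjχ (Ne.symm (hS.conj_ne χ₀ hχ₀)),
      hS.orthogonal _ hconjχ χ₀ hχ₀ (hS.conj_ne χ₀ hχ₀)]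
    ring
  have hcard' : (R χ₀).card = 2 * m := by exact_mod_cast hcard
  obtain ⟨F, hF, hFc⟩ := Finset.exists_subset_card_eq (s := R χ₀) (n := m) (by omega)
  have horthF : ∀ a ∈ F, ∀ b ∈ F, Cfsg.classInner a b = if a = b then 1 else 0 :=
    fun a ha b hb => horth a (hF ha) b (hF hb)
  refine ⟨∑ α ∈ F, α, ?_, ?_, ?_⟩
  · apply genChar_sum
    intro α hα
    exact hS.virtual χ₀ hχ₀ α (hF hα)
  · rw [classInner_sum_sum_subset F F (Finset.Subset.refl _) horthF, hFc, hm]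
  · intro ψ hψ hne
    rcases hA ψ hψ with h | h
    · exact absurd h hne
    · rw [h, hS.sum_eq χ₀ hχ₀, classInner_sum_sum_subset (R χ₀) F hF horth, hFc, hm]

end

/-! ### assembling the extension -/

theorem coh_coeff {X : Type*} [One X] {S : Set (X → ℂ)} (d : ℂ) (hdeg : ∀ φ ∈ S, φ 1 = d)
    {χ₀ : X → ℂ} (_hχ₀ : χ₀ ∈ S) :
    ∀ γ ∈ Cfsg.zspan S, ∃ m : ℤ, γ 1 = (m : ℂ) * d ∧
      γ - m • χ₀ ∈ Cfsg.zspan {δ | ∃ ψ ∈ S, δ = χ₀ - ψ} := by
  intro γ hγ
  induction hγ using Submodule.span_induction with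
  | mem ψ h =>
    refine ⟨1, by rw [hdeg ψ h]; simp, ?_⟩
    have h1 : ψ - (1 : ℤ) • χ₀ = (-1 : ℤ) • (χ₀ - ψ) := by
      rw [one_smul, neg_smul, one_smul, neg_sub]
    rw [h1]
    exact zspan_zsmul _ (zspan_of_mem ⟨ψ, h, rfl⟩)
  | zero =>
    refine ⟨0, by simp, ?_⟩
    rw [zero_smul, sub_zero]
    exact zspan_zero _
  | add a b _ _ iha ihb =>
    obtain ⟨m, hm1, hm2⟩ := iha
    obtain ⟨k, hk1, hk2⟩ := ihb
    refine ⟨m + k, by rw [Pi.add_apply, hm1, hk1]; push_cast; ring, ?_⟩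
    have h1 : a + b - (m + k) • χ₀ = (a - m • χ₀) + (b - k • χ₀) := by
      rw [add_smul]; abel
    rw [h1]
    exact zspan_add hm2 hk2
  | smul n a _ iha =>
    obtain ⟨m, hm1, hm2⟩ := iha
    refine ⟨n * m, by rw [Pi.smul_apply, hm1, zsmul_eq_mul]; push_cast; ring, ?_⟩
    have h1 : n • a - (n * m) • χ₀ = n • (a - m • χ₀) := by
      rw [smul_sub, mul_smul]
    rw [h1]
    exact zspan_zsmul n hm2

section

variable {L : Type*} [Group L] [Fintype L] {G : Type*} [Group G] [Fintype G]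
  {S : Set (L → ℂ)} {τ : (L → ℂ) → (G → ℂ)} {R : (L → ℂ) → Finset (G → ℂ)}

theorem coh_map_zero (hS : Cfsg.IsCoherenceSystem S τ R) : τ 0 = 0 := by
  have h0 : (0 : L → ℂ) ∈ Cfsg.zspanOn S {1}ᶜ := ⟨zspan_zero S, fun x _ => rfl⟩
  have := hS.isometry.2.1 0 h0 0
  simpa using this

theorem coh_degree_ne_zero (hS : Cfsg.IsCoherenceSystem S τ R) {χ : L → ℂ} (hχ : χ ∈ S) :
    χ 1 ≠ 0 := by
  intro h
  have h0 : χ = 0 := h7_isCharacter_eq_zero (hS.isCharacter χ hχ) h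
  apply hS.conj_ne χ hχ
  rw [h0]
  funext x
  simp [Cfsg.conjFun]

theorem coherent_of_X0 (hS : Cfsg.IsCoherenceSystem S τ R) (hdeg : ∀ φ ∈ S, ∀ ψ ∈ S, φ 1 = ψ 1)
    {χ₀ : L → ℂ} (hχ₀ : χ₀ ∈ S) (X₀ : G → ℂ) (hgen : Cfsg.IsGeneralizedCharacter G X₀)
    (hnorm : Cfsg.classInner X₀ X₀ = Cfsg.classInner χ₀ χ₀)
    (hX : ∀ ψ ∈ S, ψ ≠ χ₀ → Cfsg.classInner (τ (χ₀ - ψ)) X₀ = Cfsg.classInner χ₀ χ₀) :
    Cfsg.IsCoherent S {1}ᶜ τ := by
  classical
  have hτ := hS.isometry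
  have hconjχ : Cfsg.conjFun χ₀ ∈ S := hS.conj_mem χ₀ hχ₀
  set d : ℂ := χ₀ 1 with hd
  have hd0 : d ≠ 0 := coh_degree_ne_zero hS hχ₀
  have hdeg' : ∀ φ ∈ S, φ 1 = d := fun φ hφ => hdeg φ hφ χ₀ hχ₀
  set D : Set (L → ℂ) := {δ | ∃ ψ ∈ S, δ = χ₀ - ψ} with hD
  have hDE : ∀ γ ∈ Cfsg.zspan D, γ ∈ Cfsg.zspanOn S {1}ᶜ := by
    apply zspan_subset_zspanOn
    rintro δ ⟨ψ, hψ, rfl⟩
    exact coh_sub_mem hdeg hχ₀ hψ
  -- (I2)
  have hI2 : ∀ γ ∈ Cfsg.zspan D, Cfsg.classInner (τ γ) X₀ = Cfsg.classInner γ χ₀ := by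
    intro γ hγ
    induction hγ using Submodule.span_induction with
    | mem δ h =>
      obtain ⟨ψ, hψ, rfl⟩ := h
      by_cases hne : ψ = χ₀
      · rw [hne, sub_self, coh_map_zero hS, classInner_zero_left', classInner_zero_left']
      · rw [hX ψ hψ hne, classInner_sub_left', hS.orthogonal ψ hψ χ₀ hχ₀ hne, sub_zero]
    | zero => rw [coh_map_zero hS, classInner_zero_left', classInner_zero_left']
    | add a b ha hb iha ihb =>
      rw [hτ.1 a (hDE a ha) b (hDE b hb), classInner_add_left', classInner_add_left', iha, ihb]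
    | smul n a ha iha =>
      rw [hτ.2.1 a (hDE a ha) n, classInner_zsmul_left, classInner_zsmul_left, iha]
  have hI2' : ∀ γ ∈ Cfsg.zspan D, Cfsg.classInner X₀ (τ γ) = Cfsg.classInner χ₀ γ := by
    intro γ hγ
    rw [classInner_conj_symm X₀ (τ γ), hI2 γ hγ, ← classInner_conj_symm]
  -- the extension
  let cf : (L → ℂ) → ℂ := fun α => α 1 / d
  let τ₁ : (L → ℂ) → (G → ℂ) := fun α => τ (α - cf α • χ₀) + cf α • X₀
  have hkey : ∀ α ∈ Cfsg.zspan S, ∃ m : ℤ, α - m • χ₀ ∈ Cfsg.zspan D ∧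
      τ₁ α = τ (α - m • χ₀) + m • X₀ ∧ α = (α - m • χ₀) + m • χ₀ := by
    intro α hα
    obtain ⟨m, hm1, hm2⟩ := coh_coeff d hdeg' hχ₀ α hα
    refine ⟨m, hm2, ?_, by abel⟩
    have hcf : cf α = (m : ℂ) := by
      change α 1 / d = (m : ℂ)
      rw [hm1, mul_div_assoc, div_self hd0, mul_one]
    change τ (α - cf α • χ₀) + cf α • X₀ = _
    rw [hcf, Int.cast_smul_eq_zsmul ℂ m χ₀, Int.cast_smul_eq_zsmul ℂ m X₀]
  constructor
  · refine ⟨χ₀ - Cfsg.conjFun χ₀, coh_sub_mem hdeg hχ₀ hconjχ, ?_⟩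
    intro h
    apply hS.conj_ne χ₀ hχ₀
    exact (sub_eq_zero.mp h).symm
  · refine ⟨τ₁, ⟨?_, ?_, ?_, ?_⟩, ?_⟩
    · intro α hα β hβ
      obtain ⟨a, ha1, ha2, -⟩ := hkey α hα
      obtain ⟨b, hb1, hb2, -⟩ := hkey β hβ
      obtain ⟨c, hc1, hc2, -⟩ := hkey (α + β) (zspan_add hα hβ)
      -- determine c = a + b via the value at one
      obtain ⟨a', ha'1, -⟩ := coh_coeff d hdeg' hχ₀ α hα
      have hsplit : τ₁ (α + β) = τ ((α - a • χ₀) + (β - b • χ₀)) + (a + b) • X₀ := by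
        change τ (α + β - cf (α + β) • χ₀) + cf (α + β) • X₀ = _
        have hcfα : cf α = (a : ℂ) := by
          have h1 := (hDE _ ha1).2 1 (by simp)
          rw [Pi.sub_apply, Pi.smul_apply, zsmul_eq_mul, sub_eq_zero] at h1
          change α 1 / d = (a : ℂ)
          rw [h1, ← hd, mul_div_assoc, div_self hd0, mul_one]
        have hcfβ : cf β = (b : ℂ) := by
          have h1 := (hDE _ hb1).2 1 (by simp)
          rw [Pi.sub_apply, Pi.smul_apply, zsmul_eq_mul, sub_eq_zero] at h1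
          change β 1 / d = (b : ℂ)
          rw [h1, ← hd, mul_div_assoc, div_self hd0, mul_one]
        have hcfαβ : cf (α + β) = ((a + b : ℤ) : ℂ) := by
          change (α + β) 1 / d = _
          rw [Pi.add_apply, add_div]
          change cf α + cf β = _
          rw [hcfα, hcfβ]
          push_cast
          ring
        rw [hcfαβ, Int.cast_smul_eq_zsmul ℂ (a + b) χ₀, Int.cast_smul_eq_zsmul ℂ (a + b) X₀]
        congr 2
        rw [add_smul]
        abel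
      rw [hsplit, ha2, hb2, hτ.1 _ (hDE _ ha1) _ (hDE _ hb1), add_smul]
      abel
    · intro α hα n
      obtain ⟨a, ha1, ha2, -⟩ := hkey α hα
      have hcfα : cf α = (a : ℂ) := by
        have h1 := (hDE _ ha1).2 1 (by simp)
        rw [Pi.sub_apply, Pi.smul_apply, zsmul_eq_mul, sub_eq_zero] at h1
        change α 1 / d = (a : ℂ)
        rw [h1, ← hd, mul_div_assoc, div_self hd0, mul_one]
      have hcfnα : cf (n • α) = ((n * a : ℤ) : ℂ) := by
        change (n • α) 1 / d = _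
        rw [Pi.smul_apply, zsmul_eq_mul, mul_div_assoc]
        change (n : ℂ) * cf α = _
        rw [hcfα]
        push_cast
        ring
      have hsplit : τ₁ (n • α) = τ (n • (α - a • χ₀)) + (n * a) • X₀ := by
        change τ (n • α - cf (n • α) • χ₀) + cf (n • α) • X₀ = _
        rw [hcfnα, Int.cast_smul_eq_zsmul ℂ (n * a) χ₀, Int.cast_smul_eq_zsmul ℂ (n * a) X₀]
        congr 2
        rw [smul_sub, mul_smul]
      rw [hsplit, ha2, hτ.2.1 _ (hDE _ ha1) n, smul_add, mul_smul]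
    · intro α hα β hβ
      obtain ⟨a, ha1, ha2, ha3⟩ := hkey α hα
      obtain ⟨b, hb1, hb2, hb3⟩ := hkey β hβ
      rw [ha2, hb2]
      conv_rhs => rw [ha3, hb3]
      simp only [classInner_add_left', h7_classInner_add_right, classInner_zsmul_left,
        classInner_zsmul_right]
      rw [hτ.2.2.1 _ (hDE _ ha1) _ (hDE _ hb1), hI2 _ ha1, hI2' _ hb1, hnorm]
    · intro α hα
      obtain ⟨a, ha1, ha2, -⟩ := hkey α hα
      rw [ha2]
      exact genChar_add (hτ.2.2.2 _ (hDE _ ha1)) (genChar_zsmul a hgen)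
    · intro α hα
      have h1 : α 1 = 0 := hα.2 1 (by simp)
      change τ (α - cf α • χ₀) + cf α • X₀ = τ α
      have hcf : cf α = 0 := by
        change α 1 / d = 0
        rw [h1, zero_div]
      rw [hcf, zero_smul, zero_smul, sub_zero, add_zero]

/-- A coherence system all of whose members have the same degree is coherent. -/
theorem coherent_of_equal_degrees (hS : Cfsg.IsCoherenceSystem S τ R)
    (hdeg : ∀ φ ∈ S, ∀ ψ ∈ S, φ 1 = ψ 1) : Cfsg.IsCoherent S {1}ᶜ τ := by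
  classical
  obtain ⟨χ₀, hχ₀⟩ := hS.nonempty
  by_cases hA : ∀ ψ ∈ S, ψ = χ₀ ∨ ψ = Cfsg.conjFun χ₀
  · obtain ⟨X₀, h1, h2, h3⟩ := coh_X0_caseA hS hdeg hχ₀ hA
    exact coherent_of_X0 hS hdeg hχ₀ X₀ h1 h2 h3
  · push Not at hA
    obtain ⟨ψ₀, hψ₀, hne1, hne2⟩ := hA
    obtain ⟨h1, h2, h3⟩ := coh_X0_caseB hS hdeg hχ₀ hψ₀ hne1 hne2
    exact coherent_of_X0 hS hdeg hχ₀ _ h1 h2 h3

end

end Cfsg.Agent.Lib.Helper11
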