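import Mathlib
import Cfsg.Agent.Lib.Helper11.CoherentEq

set_option autoImplicit false
open scoped ComplexConjugate

namespace Cfsg.Agent.Lib.Helper11.EqDeg

open Cfsg.Agent.Lib.Helper11 Cfsg.Agent.Lib.helper7 Cfsg.Agent.Lib.helper2 Cfsg.Agent.Lib.Helper25

variable {L : Type*} [Group L] [Fintype L] {G : Type*} [Group G] [Fintype G]
  {S : Set (L → ℂ)} {τ : (L → ℂ) → (G → ℂ)}

theorem map_zero' (hτ : Cfsg.IsLinearIsometryOn (Cfsg.zspanOn S {1}ᶜ) τ) : τ 0 = 0 := by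
  have h0 : (0 : L → ℂ) ∈ Cfsg.zspanOn S {1}ᶜ := ⟨zspan_zero S, fun x _ => rfl⟩
  have := hτ.2.1 0 h0 0
  simpa using this

theorem coherent_of_X0' (hτ : Cfsg.IsLinearIsometryOn (Cfsg.zspanOn S {1}ᶜ) τ)
    (horth : ∀ χ ∈ S, ∀ φ ∈ S, χ ≠ φ → Cfsg.classInner χ φ = 0)
    (hdeg : ∀ φ ∈ S, ∀ ψ ∈ S, φ 1 = ψ 1)
    {χ₀ : L → ℂ} (hχ₀ : χ₀ ∈ S) (hd0' : χ₀ 1 ≠ 0)
    (hne' : ∃ α ∈ Cfsg.zspanOn S {1}ᶜ, α ≠ 0) (X₀ : G → ℂ) (hgen : Cfsg.IsGeneralizedCharacter G X₀)
    (hnorm : Cfsg.classInner X₀ X₀ = Cfsg.classInner χ₀ χ₀)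
    (hX : ∀ ψ ∈ S, ψ ≠ χ₀ → Cfsg.classInner (τ (χ₀ - ψ)) X₀ = Cfsg.classInner χ₀ χ₀) :
    Cfsg.IsCoherent S {1}ᶜ τ := by
  classical
  set d : ℂ := χ₀ 1 with hd
  have hd0 : d ≠ 0 := hd0'
  have hdeg' : ∀ φ ∈ S, φ 1 = d := fun φ hφ => hdeg φ hφ χ₀ hχ₀
  set D : Set (L → ℂ) := {δ | ∃ ψ ∈ S, δ = χ₀ - ψ} with hD
  have hDE : ∀ γ ∈ Cfsg.zspan D, γ ∈ Cfsg.zspanOn S {1}ᶜ := by
    apply zspan_subset_zspanOn
    rintro δ ⟨ψ, hψ, rfl⟩
    exact coh_sub_mem hdeg hχ₀ hψ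
  -- (I2)
  have hI2 : ∀ γ ∈ Cfsg.zspan D, Cfsg.classInner (τ γ) X₀ = Cfsg.classInner γ χ₀ := by
    intro γ hγ
    induction hγ using Submodule.span_induction with
    | mem δ h =>
      obtain ⟨ψ, hψ, rfl⟩ := h
      by_cases hne : ψ = χ₀
      · rw [hne, sub_self, map_zero' hτ, classInner_zero_left', classInner_zero_left']
      · rw [hX ψ hψ hne, classInner_sub_left', horth ψ hψ χ₀ hχ₀ hne, sub_zero]
    | zero => rw [map_zero' hτ, classInner_zero_left', classInner_zero_left']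
    | add a b ha hb iha ihb =>
      rw [hτ.1 a (hDE a ha) b (hDE b hb), classInner_add_left', classInner_add_left', iha, ihb]
    | smul n a ha iha =>
      rw [hτ.2.1 a (hDE a ha) n, classInner_zsmul_left, classInner_zsmul_left, iha]
  have hI2' : ∀ γ ∈ Cfsg.zspan D, Cfsg.classInner X₀ (τ γ) = Cfsg.classInner χ₀ γ := by
    intro γ hγ
    rw [classInner_conj_symm X₀ (τ γ), hI2 γ hγ, ← classInner_conj_symm]
  -- the extension
  let cf : (L → ℂ) → ℂ := fun α => α 1 / d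
  let τ₁ : (L → ℂ) → (G → ℂ) := fun α => τ (α - cf α • χ₀) + cf α • X₀
  have hkey : ∀ α ∈ Cfsg.zspan S, ∃ m : ℤ, α - m • χ₀ ∈ Cfsg.zspan D ∧
      τ₁ α = τ (α - m • χ₀) + m • X₀ ∧ α = (α - m • χ₀) + m • χ₀ := by
    intro α hα
    obtain ⟨m, hm1, hm2⟩ := coh_coeff d hdeg' hχ₀ α hα
    refine ⟨m, hm2, ?_, by abel⟩
    have hcf : cf α = (m : ℂ) := by
      change α 1 / d = (m : ℂ)
      rw [hm1, mul_div_assoc, div_self hd0, mul_one]
    change τ (α - cf α • χ₀) + cf α • X₀ = _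
    rw [hcf, Int.cast_smul_eq_zsmul ℂ m χ₀, Int.cast_smul_eq_zsmul ℂ m X₀]
  constructor
  · exact hne'
  · refine ⟨τ₁, ⟨?_, ?_, ?_, ?_⟩, ?_⟩
    · intro α hα β hβ
      obtain ⟨a, ha1, ha2, -⟩ := hkey α hα
      obtain ⟨b, hb1, hb2, -⟩ := hkey β hβ
      obtain ⟨c, hc1, hc2, -⟩ := hkey (α + β) (zspan_add hα hβ)
      -- determine c = a + b via the value at one
      obtain ⟨a', ha'1, -⟩ := coh_coeff d hdeg' hχ₀ α hα
      have hsplit : τ₁ (α + β) = τ ((α - a • χ₀) + (β - b • χ₀)) + (a + b) • X₀ := by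
        change τ (α + β - cf (α + β) • χ₀) + cf (α + β) • X₀ = _
        have hcfα : cf α = (a : ℂ) := by
          have h1 := (hDE _ ha1).2 1 (by simp)
          rw [Pi.sub_apply, Pi.smul_apply, zsmul_eq_mul, sub_eq_zero] at h1
          change α 1 / d = (a : ℂ)
          rw [h1, ← hd, mul_div_assoc, div_self hd0, mul_one]
        have hcfβ : cf β = (b : ℂ) := by
          have h1 := (hDE _ hb1).2 1 (by simp)
          rw [Pi.sub_apply, Pi.smul_apply, zsmul_eq_mul, sub_eq_zero] at h1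
          change β 1 / d = (b : ℂ)
          rw [h1, ← hd, mul_div_assoc, div_self hd0, mul_one]
        have hcfαβ : cf (α + β) = ((a + b : ℤ) : ℂ) := by
          change (α + β) 1 / d = _
          rw [Pi.add_apply, add_div]
          change cf α + cf β = _
          rw [hcfα, hcfβ]
          push_cast
          ring
        rw [hcfαβ, Int.cast_smul_eq_zsmul ℂ (a + b) χ₀, Int.cast_smul_eq_zsmul ℂ (a + b) X₀]
        congr 2
        rw [add_smul]
        abel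
      rw [hsplit, ha2, hb2, hτ.1 _ (hDE _ ha1) _ (hDE _ hb1), add_smul]
      abel
    · intro α hα n
      obtain ⟨a, ha1, ha2, -⟩ := hkey α hα
      have hcfα : cf α = (a : ℂ) := by
        have h1 := (hDE _ ha1).2 1 (by simp)
        rw [Pi.sub_apply, Pi.smul_apply, zsmul_eq_mul, sub_eq_zero] at h1
        change α 1 / d = (a : ℂ)
        rw [h1, ← hd, mul_div_assoc, div_self hd0, mul_one]
      have hcfnα : cf (n • α) = ((n * a : ℤ) : ℂ) := by
        change (n • α) 1 / d = _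
        rw [Pi.smul_apply, zsmul_eq_mul, mul_div_assoc]
        change (n : ℂ) * cf α = _
        rw [hcfα]
        push_cast
        ring
      have hsplit : τ₁ (n • α) = τ (n • (α - a • χ₀)) + (n * a) • X₀ := by
        change τ (n • α - cf (n • α) • χ₀) + cf (n • α) • X₀ = _
        rw [hcfnα, Int.cast_smul_eq_zsmul ℂ (n * a) χ₀, Int.cast_smul_eq_zsmul ℂ (n * a) X₀]
        congr 2
        rw [smul_sub, mul_smul]
      rw [hsplit, ha2, hτ.2.1 _ (hDE _ ha1) n, smul_add, mul_smul]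
    · intro α hα β hβ
      obtain ⟨a, ha1, ha2, ha3⟩ := hkey α hα
      obtain ⟨b, hb1, hb2, hb3⟩ := hkey β hβ
      rw [ha2, hb2]
      conv_rhs => rw [ha3, hb3]
      simp only [classInner_add_left', h7_classInner_add_right, classInner_zsmul_left,
        classInner_zsmul_right]
      rw [hτ.2.2.1 _ (hDE _ ha1) _ (hDE _ hb1), hI2 _ ha1, hI2' _ hb1, hnorm]
    · intro α hα
      obtain ⟨a, ha1, ha2, -⟩ := hkey α hα
      rw [ha2]
      exact genChar_add (hτ.2.2.2 _ (hDE _ ha1)) (genChar_zsmul a hgen)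
    · intro α hα
      have h1 : α 1 = 0 := hα.2 1 (by simp)
      change τ (α - cf α • χ₀) + cf α • X₀ = τ α
      have hcf : cf α = 0 := by
        change α 1 / d = 0
        rw [h1, zero_div]
      rw [hcf, zero_smul, zero_smul, sub_zero, add_zero]


omit [Group L] [Fintype L] in
theorem unit_eq (r r' : G → ℂ) (h1 : Cfsg.classInner r r = 1) (h2 : Cfsg.classInner r' r' = 1)
    (h3 : Cfsg.classInner r r' = 1) : r = r' := by
  have h4 : Cfsg.classInner r' r = 1 := by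
    rw [Cfsg.Agent.Lib.Helper11.classInner_conj_symm, h3, map_one]
  have h5 : Cfsg.classInner (r - r') (r - r') = 0 := by
    rw [classInner_sub_left', classInner_sub_right', classInner_sub_right', h1, h2, h3, h4]
    ring
  exact sub_eq_zero.mp (eq_zero_of_classInner_self _ h5)

omit [Group L] [Fintype L] in
theorem pair_bound (v : G → ℂ) (hv : Cfsg.IsGeneralizedCharacter G v) (a b : Cfsg.IrrCharacter G)
    (hab : a ≠ b) (hvv : Cfsg.classInner v v = 2) (x y : ℤ)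
    (hx : Cfsg.classInner v (a : G → ℂ) = x) (hy : Cfsg.classInner v (b : G → ℂ) = y) :
    x ^ 2 + y ^ 2 ≤ 2 := by
  have haa : Cfsg.classInner (a : G → ℂ) (a : G → ℂ) = 1 := by
    rw [irr_classInner, if_pos rfl]
  have hbb : Cfsg.classInner (b : G → ℂ) (b : G → ℂ) = 1 := by
    rw [irr_classInner, if_pos rfl]
  have hab' : Cfsg.classInner (a : G → ℂ) (b : G → ℂ) = 0 := by
    rw [irr_classInner, if_neg hab]
  have hba' : Cfsg.classInner (b : G → ℂ) (a : G → ℂ) = 0 := by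
    rw [irr_classInner, if_neg (Ne.symm hab)]
  have hx' : Cfsg.classInner (a : G → ℂ) v = x := by
    rw [Cfsg.Agent.Lib.Helper11.classInner_conj_symm, hx, map_intCast]
  have hy' : Cfsg.classInner (b : G → ℂ) v = y := by
    rw [Cfsg.Agent.Lib.Helper11.classInner_conj_symm, hy, map_intCast]
  have hgen : Cfsg.IsGeneralizedCharacter G (v - x • (a : G → ℂ) - y • (b : G → ℂ)) :=
    genChar_sub (genChar_sub hv (genChar_zsmul x ⟨a, 0, isCharacter_of_irr a, isCharacter_zero G, by simp⟩))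
      (genChar_zsmul y ⟨b, 0, isCharacter_of_irr b, isCharacter_zero G, by simp⟩)
  obtain ⟨g, hg⟩ := genChar_norm_nat _ hgen
  have h1 : Cfsg.classInner (v - x • (a : G → ℂ) - y • (b : G → ℂ))
      (v - x • (a : G → ℂ) - y • (b : G → ℂ)) = 2 - (x : ℂ) ^ 2 - (y : ℂ) ^ 2 := by
    simp only [classInner_sub_left', classInner_sub_right', classInner_zsmul_left,
      classInner_zsmul_right, hvv, hx, hy, hx', hy', haa, hbb, hab', hba']
    ring
  rw [h1] at hg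
  have h2 : ((2 - x ^ 2 - y ^ 2 : ℤ) : ℂ) = ((g : ℤ) : ℂ) := by
    push_cast
    exact hg
  have h3 : (2 - x ^ 2 - y ^ 2 : ℤ) = (g : ℤ) := by exact_mod_cast h2
  have h4 : (0 : ℤ) ≤ (g : ℤ) := Int.natCast_nonneg g
  linarith

/-- a set of irreducible characters of the same degree with at least two members is coherent -/
theorem coherent_of_eq_degree_irr (hτ : Cfsg.IsLinearIsometryOn (Cfsg.zspanOn S {1}ᶜ) τ)
    (hτ1 : ∀ α ∈ Cfsg.zspanOn S {1}ᶜ, τ α 1 = 0)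
    (hirr : ∀ χ ∈ S, Cfsg.IsIrrCharacter L χ)
    (hdeg : ∀ φ ∈ S, ∀ ψ ∈ S, φ 1 = ψ 1)
    (htwo : ∃ χ₁ ∈ S, ∃ χ₂ ∈ S, χ₁ ≠ χ₂) : Cfsg.IsCoherent S {1}ᶜ τ := by
  classical
  obtain ⟨χ₁, hχ₁, χ₂, hχ₂, h12⟩ := htwo
  have horth : ∀ χ ∈ S, ∀ φ ∈ S, Cfsg.classInner χ φ = if χ = φ then 1 else 0 := by
    intro χ hχ φ hφ
    have := irr_classInner ⟨χ, hirr χ hχ⟩ ⟨φ, hirr φ hφ⟩
    simp only at this
    rw [this]
    by_cases h : χ = φ
    · rw [if_pos h, if_pos (Subtype.ext h)]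
    · rw [if_neg h, if_neg (fun e => h (congrArg Subtype.val e))]
  have horth0 : ∀ χ ∈ S, ∀ φ ∈ S, χ ≠ φ → Cfsg.classInner χ φ = 0 := by
    intro χ hχ φ hφ hne
    rw [horth χ hχ φ hφ, if_neg hne]
  have hmem : ∀ ψ ∈ S, χ₁ - ψ ∈ Cfsg.zspanOn S {1}ᶜ := fun ψ hψ => coh_sub_mem hdeg hχ₁ hψ
  have hdiff : ∀ ψ ∈ S, ∀ ψ' ∈ S, ψ ≠ χ₁ → ψ' ≠ χ₁ →
      Cfsg.classInner (τ (χ₁ - ψ)) (τ (χ₁ - ψ')) = 1 + (if ψ = ψ' then 1 else 0) := by
    intro ψ hψ ψ' hψ' h1 h1'
    rw [hτ.2.2.1 _ (hmem ψ hψ) _ (hmem ψ' hψ')]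
    simp only [classInner_sub_left', classInner_sub_right']
    rw [horth χ₁ hχ₁ χ₁ hχ₁, horth χ₁ hχ₁ ψ' hψ', horth ψ hψ χ₁ hχ₁, horth ψ hψ ψ' hψ',
      if_pos rfl, if_neg (Ne.symm h1'), if_neg h1]
    ring
  have hgen : ∀ ψ ∈ S, Cfsg.IsGeneralizedCharacter G (τ (χ₁ - ψ)) :=
    fun ψ hψ => hτ.2.2.2 _ (hmem ψ hψ)
  have hone : ∀ ψ ∈ S, τ (χ₁ - ψ) 1 = 0 := fun ψ hψ => hτ1 _ (hmem ψ hψ)
  -- the first difference
  have hw2 : Cfsg.classInner (τ (χ₁ - χ₂)) (τ (χ₁ - χ₂)) = 2 := by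
    rw [hdiff χ₂ hχ₂ χ₂ hχ₂ (Ne.symm h12) (Ne.symm h12), if_pos rfl]
    norm_num
  obtain ⟨a, b, hab, hw⟩ := genChar_norm_two _ (hgen χ₂ hχ₂) hw2 (hone χ₂ hχ₂)
  have haa : Cfsg.classInner (a : G → ℂ) (a : G → ℂ) = 1 := by
    rw [irr_classInner, if_pos rfl]
  have hbb : Cfsg.classInner (b : G → ℂ) (b : G → ℂ) = 1 := by
    rw [irr_classInner, if_pos rfl]
  have hab' : Cfsg.classInner (a : G → ℂ) (b : G → ℂ) = 0 := by
    rw [irr_classInner, if_neg hab]
  have hba' : Cfsg.classInner (b : G → ℂ) (a : G → ℂ) = 0 := by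
    rw [irr_classInner, if_neg (Ne.symm hab)]
  -- the coefficients
  have hcoef : ∀ ψ ∈ S, ψ ≠ χ₁ → ∃ x y : ℤ,
      Cfsg.classInner (τ (χ₁ - ψ)) (a : G → ℂ) = x ∧ Cfsg.classInner (τ (χ₁ - ψ)) (b : G → ℂ) = y ∧
      ((x = 1 ∧ y = 0) ∨ (x = 0 ∧ y = -1) ∨ (x = 1 ∧ y = -1)) := by
    intro ψ hψ hne
    obtain ⟨x, hx⟩ := genChar_inner_int _ (hgen ψ hψ) a
    obtain ⟨y, hy⟩ := genChar_inner_int _ (hgen ψ hψ) b
    refine ⟨x, y, hx, hy, ?_⟩
    have hvv : Cfsg.classInner (τ (χ₁ - ψ)) (τ (χ₁ - ψ)) = 2 := by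
      rw [hdiff ψ hψ ψ hψ hne hne, if_pos rfl]
      norm_num
    have hb := pair_bound _ (hgen ψ hψ) a b hab hvv x y hx hy
    have h1 := hdiff ψ hψ χ₂ hχ₂ hne (Ne.symm h12)
    rw [hw, classInner_sub_right', hx, hy] at h1
    by_cases h2 : ψ = χ₂
    · rw [if_pos h2] at h1
      have h3 : x - y = 2 := by
        have : ((x - y : ℤ) : ℂ) = ((2 : ℤ) : ℂ) := by
          push_cast
          rw [h1]
          norm_num
        exact_mod_cast this
      right; right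
      have hx1 : x = y + 2 := by linarith
      subst hx1
      have : y = -1 := by nlinarith
      subst this
      exact ⟨by norm_num, rfl⟩
    · rw [if_neg h2] at h1
      have h3 : x - y = 1 := by
        have : ((x - y : ℤ) : ℂ) = ((1 : ℤ) : ℂ) := by
          push_cast
          rw [h1]
          norm_num
        exact_mod_cast this
      have hx1 : x = y + 1 := by linarith
      subst hx1
      have h4 : y * (y + 1) ≤ 0 := by nlinarith
      have h5 : y = 0 ∨ y = -1 := by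
        have h6 : -1 ≤ y := by nlinarith
        have h7 : y ≤ 0 := by nlinarith
        omega
      rcases h5 with h5 | h5
      · left
        subst h5
        exact ⟨by norm_num, rfl⟩
      · right; left
        subst h5
        exact ⟨by norm_num, rfl⟩
  have hχ₁χ₁ : Cfsg.classInner χ₁ χ₁ = 1 := by rw [horth χ₁ hχ₁ χ₁ hχ₁, if_pos rfl]
  have hd0 : χ₁ 1 ≠ 0 := irr_one_ne_zero ⟨χ₁, hirr χ₁ hχ₁⟩
  have hne' : ∃ α ∈ Cfsg.zspanOn S {1}ᶜ, α ≠ 0 := by
    refine ⟨χ₁ - χ₂, hmem χ₂ hχ₂, ?_⟩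
    intro h
    exact h12 (sub_eq_zero.mp h)
  by_cases hA : ∀ ψ ∈ S, ψ ≠ χ₁ → Cfsg.classInner (τ (χ₁ - ψ)) (a : G → ℂ) = 1
  · apply coherent_of_X0' hτ horth0 hdeg hχ₁ hd0 hne' (a : G → ℂ)
      ⟨a, 0, isCharacter_of_irr a, isCharacter_zero G, by simp⟩
    · rw [haa, hχ₁χ₁]
    · intro ψ hψ hne
      rw [hA ψ hψ hne, hχ₁χ₁]
  · push Not at hA
    obtain ⟨ψ₀, hψ₀, hne₀, hx₀⟩ := hA
    obtain ⟨x₀, y₀, hx₀', hy₀', hc₀⟩ := hcoef ψ₀ hψ₀ hne₀
    have hxy₀ : x₀ = 0 ∧ y₀ = -1 := by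
      rcases hc₀ with h | h | h
      · exfalso
        apply hx₀
        rw [hx₀', h.1]
        norm_num
      · exact h
      · exfalso
        apply hx₀
        rw [hx₀', h.1]
        norm_num
    have hB : ∀ ψ ∈ S, ψ ≠ χ₁ → Cfsg.classInner (τ (χ₁ - ψ)) (b : G → ℂ) = -1 := by
      intro ψ hψ hne
      obtain ⟨x, y, hx, hy, hc⟩ := hcoef ψ hψ hne
      by_contra hcon
      have hxy : x = 1 ∧ y = 0 := by
        rcases hc with h | h | h
        · exact h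
        · exfalso
          apply hcon
          rw [hy, h.2]
          norm_num
        · exfalso
          apply hcon
          rw [hy, h.2]
          norm_num
      have hψψ₀ : ψ₀ ≠ ψ := by
        intro h
        rw [h, hx] at hx₀'
        have : (x : ℤ) = x₀ := by exact_mod_cast hx₀'
        rw [hxy.1, hxy₀.1] at this
        exact one_ne_zero this
      rw [hxy.1] at hx
      rw [hxy.2] at hy
      rw [hxy₀.1] at hx₀'
      rw [hxy₀.2] at hy₀'
      have hvv₀ : Cfsg.classInner (τ (χ₁ - ψ₀)) (τ (χ₁ - ψ₀)) = 2 := by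
        rw [hdiff ψ₀ hψ₀ ψ₀ hψ₀ hne₀ hne₀, if_pos rfl]
        norm_num
      have hvv : Cfsg.classInner (τ (χ₁ - ψ)) (τ (χ₁ - ψ)) = 2 := by
        rw [hdiff ψ hψ ψ hψ hne hne, if_pos rfl]
        norm_num
      have hcross : Cfsg.classInner (τ (χ₁ - ψ₀)) (τ (χ₁ - ψ)) = 1 := by
        rw [hdiff ψ₀ hψ₀ ψ hψ hne₀ hne, if_neg hψψ₀, add_zero]
      have hx₀c : Cfsg.classInner (a : G → ℂ) (τ (χ₁ - ψ₀)) = 0 := by
        rw [Cfsg.Agent.Lib.Helper11.classInner_conj_symm, hx₀']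
        simp
      have hy₀c : Cfsg.classInner (b : G → ℂ) (τ (χ₁ - ψ₀)) = -1 := by
        rw [Cfsg.Agent.Lib.Helper11.classInner_conj_symm, hy₀']
        simp
      have hxc : Cfsg.classInner (a : G → ℂ) (τ (χ₁ - ψ)) = 1 := by
        rw [Cfsg.Agent.Lib.Helper11.classInner_conj_symm, hx]
        simp
      have hyc : Cfsg.classInner (b : G → ℂ) (τ (χ₁ - ψ)) = 0 := by
        rw [Cfsg.Agent.Lib.Helper11.classInner_conj_symm, hy]
        simp
      have hr : τ (χ₁ - ψ₀) + (b : G → ℂ) = τ (χ₁ - ψ) - (a : G → ℂ) := by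
        apply unit_eq
        · simp only [classInner_add_left', h7_classInner_add_right, hvv₀, hy₀', hy₀c, hbb]
          push_cast
          ring
        · simp only [classInner_sub_left', classInner_sub_right', hvv, hx, hxc, haa]
          push_cast
          ring
        · simp only [classInner_add_left', classInner_sub_right', hcross, hx₀', hyc, hba']
          push_cast
          ring
      have h1 := congrFun hr 1
      rw [Pi.add_apply, Pi.sub_apply, hone ψ₀ hψ₀, hone ψ hψ] at h1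
      obtain ⟨n, hn, hna⟩ := irr_one_eq_finrank a
      obtain ⟨m, hm, hmb⟩ := irr_one_eq_finrank b
      rw [hna, hmb] at h1
      have h2 : ((m + n : ℕ) : ℂ) = 0 := by
        push_cast
        linear_combination h1
      have h3 : m + n = 0 := by exact_mod_cast h2
      omega
    apply coherent_of_X0' hτ horth0 hdeg hχ₁ hd0 hne' (-(b : G → ℂ))
      (genChar_neg ⟨b, 0, isCharacter_of_irr b, isCharacter_zero G, by simp⟩)
    · rw [hχ₁χ₁]
      have : -(b : G → ℂ) = (-1 : ℤ) • (b : G → ℂ) := by simp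
      rw [this, classInner_zsmul_left, classInner_zsmul_right, hbb]
      push_cast
      ring
    · intro ψ hψ hne
      rw [hχ₁χ₁]
      have : -(b : G → ℂ) = (-1 : ℤ) • (b : G → ℂ) := by simp
      rw [this, classInner_zsmul_right, hB ψ hψ hne]
      push_cast
      ring

end Cfsg.Agent.Lib.Helper11.EqDeg
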