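import Mathlib
import Cfsg.Agent.Lib.Helper11.CoherentEq

set_option autoImplicit false
open scoped ComplexConjugate

namespace Cfsg.Agent.Lib.Helper11

open Cfsg.Agent.Lib.helper7 Cfsg.Agent.Lib.helper2 Cfsg.Agent.Lib.Helper25

section

variable {L : Type*} [Group L] [Fintype L] {G : Type*} [Group G] [Fintype G]
  {S : Set (L → ℂ)} {τ : (L → ℂ) → (G → ℂ)} {R : (L → ℂ) → Finset (G → ℂ)}

omit [Fintype L] in
theorem conjFun_one_of_isCharacter {φ : L → ℂ} (hφ : Cfsg.IsCharacter L φ) :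
    Cfsg.conjFun φ 1 = φ 1 := by
  obtain ⟨k, hk⟩ := isCharacter_one_eq_nat hφ
  simp [Cfsg.conjFun, hk]

theorem coh_sub_conj_mem (hS : Cfsg.IsCoherenceSystem S τ R) {S₁ : Set (L → ℂ)} (hS₁ : S₁ ⊆ S)
    (hS₁c : ∀ φ ∈ S₁, Cfsg.conjFun φ ∈ S₁) {φ : L → ℂ} (hφ : φ ∈ S₁) :
    φ - Cfsg.conjFun φ ∈ Cfsg.zspanOn S₁ {1}ᶜ := by
  apply mem_zspanOn_one (zspan_sub (zspan_of_mem hφ) (zspan_of_mem (hS₁c φ hφ)))
  rw [Pi.sub_apply, conjFun_one_of_isCharacter (hS.isCharacter φ (hS₁ hφ)), sub_self]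

/-- In a coherent subsystem, the extended isometry maps `φ` into the span of `R φ`. -/
theorem coh_ext_eq_proj (hS : Cfsg.IsCoherenceSystem S τ R) {S₁ : Set (L → ℂ)} (hS₁ : S₁ ⊆ S)
    (hS₁c : ∀ φ ∈ S₁, Cfsg.conjFun φ ∈ S₁) {τ₁ : (L → ℂ) → (G → ℂ)}
    (hτ₁ : Cfsg.IsLinearIsometryOn (Cfsg.zspan S₁) τ₁)
    (hagree : ∀ α ∈ Cfsg.zspanOn S₁ {1}ᶜ, τ₁ α = τ α) {φ : L → ℂ} (hφ : φ ∈ S₁) :
    τ₁ φ = projOn (R φ) (τ₁ φ) := by
  classical
  have hφS := hS₁ hφ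
  have hφc := hS₁c φ hφ
  have hm1 : φ ∈ Cfsg.zspan S₁ := zspan_of_mem hφ
  have hm2 : Cfsg.conjFun φ ∈ Cfsg.zspan S₁ := zspan_of_mem hφc
  have hdiff : τ₁ φ - τ₁ (Cfsg.conjFun φ) = ∑ α ∈ R φ, α := by
    rw [← isoOn_map_sub hτ₁ hm1 hm2, hagree _ (coh_sub_conj_mem hS hS₁ hS₁c hφ), hS.sum_eq φ hφS]
  have horth := hS.orthonormal φ hφS
  have hφφc : Cfsg.classInner φ (Cfsg.conjFun φ) = 0 :=
    hS.orthogonal φ hφS _ (hS.conj_mem φ hφS) (Ne.symm (hS.conj_ne φ hφS))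
  obtain ⟨m, hm⟩ := classInner_character_nat (hS.isCharacter φ hφS) (hS.isCharacter φ hφS)
  set Y := τ₁ φ with hY
  have hYgen : Cfsg.IsGeneralizedCharacter G Y := hτ₁.2.2.2 φ hm1
  have hYY : Cfsg.classInner Y Y = (m : ℂ) := by rw [hY, hτ₁.2.2.1 φ hm1 φ hm1, hm]
  have hsum : ∑ α ∈ R φ, Cfsg.classInner Y α = (m : ℂ) := by
    rw [← classInner_sum_right'', ← hdiff, classInner_sub_right'', hYY,
      hτ₁.2.2.1 φ hm1 _ hm2, hφφc, sub_zero]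
  have hint' : ∀ α : G → ℂ, ∃ z : ℤ, α ∈ R φ → Cfsg.classInner Y α = (z : ℂ) := by
    intro α
    by_cases hα : α ∈ R φ
    · obtain ⟨z, hz⟩ := genChar_inner_genChar_int Y α hYgen (hS.virtual φ hφS α hα)
      exact ⟨z, fun _ => hz⟩
    · exact ⟨0, fun h => absurd h hα⟩
  choose z hz using hint'
  have hsumz : (∑ α ∈ R φ, z α : ℤ) = (m : ℤ) := by
    have h1 : ((∑ α ∈ R φ, z α : ℤ) : ℂ) = ((m : ℤ) : ℂ) := by
      rw [Int.cast_sum, ← Finset.sum_congr rfl (fun α hα => hz α hα), hsum]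
      simp
    exact_mod_cast h1
  have hsq : ∑ α ∈ R φ, ‖Cfsg.classInner Y α‖ ^ 2 = ((∑ α ∈ R φ, z α * z α : ℤ) : ℝ) := by
    rw [Int.cast_sum]
    apply Finset.sum_congr rfl
    intro α hα
    rw [hz α hα, Complex.norm_intCast, sq_abs]
    push_cast
    ring
  have hB := classInner_residual (R φ) horth Y
  set B := Y - projOn (R φ) Y with hBdef
  have hBnn := classInner_self_nonneg B
  have hBeq := classInner_self_eq B
  have hreal : (Nat.card G : ℝ)⁻¹ * ∑ g : G, Complex.normSq (B g) =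
      (m : ℝ) - ((∑ α ∈ R φ, z α * z α : ℤ) : ℝ) := by
    have h3 : (((Nat.card G : ℝ)⁻¹ * ∑ g : G, Complex.normSq (B g) : ℝ) : ℂ) =
        (((m : ℝ) - ((∑ α ∈ R φ, z α * z α : ℤ) : ℝ) : ℝ) : ℂ) := by
      rw [← hBeq, hB, hYY, hsq]
      push_cast
      rfl
    exact Complex.ofReal_injective h3
  have hle : ∀ α ∈ R φ, z α ≤ z α * z α := by
    intro α _
    nlinarith [sq_nonneg (z α), sq_nonneg (z α - 1)]
  have hA : (∑ α ∈ R φ, z α : ℤ) ≤ ∑ α ∈ R φ, z α * z α := Finset.sum_le_sum hle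
  have hA' : (m : ℝ) ≤ ((∑ α ∈ R φ, z α * z α : ℤ) : ℝ) := by
    have : ((m : ℤ) : ℝ) ≤ ((∑ α ∈ R φ, z α * z α : ℤ) : ℝ) := by
      rw [← hsumz]
      exact_mod_cast hA
    simpa using this
  have hB0 : B = 0 := by
    apply eq_zero_of_classInner_self
    rw [hBeq]
    have : (Nat.card G : ℝ)⁻¹ * ∑ g : G, Complex.normSq (B g) = 0 := by
      apply le_antisymm _ hBnn
      rw [hreal]
      linarith
    rw [this]
    simp
  exact sub_eq_zero.mp hB0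

theorem coh_ext_orth (hS : Cfsg.IsCoherenceSystem S τ R) {S₁ : Set (L → ℂ)} (hS₁ : S₁ ⊆ S)
    (hS₁c : ∀ φ ∈ S₁, Cfsg.conjFun φ ∈ S₁) {τ₁ : (L → ℂ) → (G → ℂ)}
    (hτ₁ : Cfsg.IsLinearIsometryOn (Cfsg.zspan S₁) τ₁)
    (hagree : ∀ α ∈ Cfsg.zspanOn S₁ {1}ᶜ, τ₁ α = τ α) {φ : L → ℂ} (hφ : φ ∈ S₁)
    {ψ : L → ℂ} (hψ : ψ ∈ S) (h1 : ψ ≠ φ) (h2 : ψ ≠ Cfsg.conjFun φ) :
    ∀ β ∈ R ψ, Cfsg.classInner (τ₁ φ) β = 0 := by
  intro β hβ
  rw [coh_ext_eq_proj hS hS₁ hS₁c hτ₁ hagree hφ, classInner_projOn_left]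
  apply Finset.sum_eq_zero
  intro α hα
  rw [coh_cross hS (hS₁ hφ) hψ h1 h2 α hα β hβ, mul_zero]

end

/-! ### Bessel for an orthogonal (not normalised) family -/

theorem bessel_orth {N : Type*} [Group N] [Fintype N] {ι : Type*} [DecidableEq ι] (s : Finset ι)
    (v : ι → N → ℂ) (c : ι → ℝ) (hc : ∀ i ∈ s, c i ≠ 0)
    (horth : ∀ i ∈ s, ∀ j ∈ s, Cfsg.classInner (v i) (v j) = if i = j then (c i : ℂ) else 0)
    (Z : N → ℂ) :
    Cfsg.classInner (Z - ∑ i ∈ s, (Cfsg.classInner Z (v i) / (c i : ℂ)) • v i)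
        (Z - ∑ i ∈ s, (Cfsg.classInner Z (v i) / (c i : ℂ)) • v i) =
      Cfsg.classInner Z Z - ((∑ i ∈ s, ‖Cfsg.classInner Z (v i)‖ ^ 2 / c i : ℝ) : ℂ) := by
  set W := ∑ i ∈ s, (Cfsg.classInner Z (v i) / (c i : ℂ)) • v i with hW
  have hterm : ∀ i ∈ s, Cfsg.classInner Z (v i) * conj (Cfsg.classInner Z (v i)) / (c i : ℂ) =
      ((‖Cfsg.classInner Z (v i)‖ ^ 2 / c i : ℝ) : ℂ) := by
    intro i _
    rw [mul_conj_eq_norm_sq]
    push_cast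
    rfl
  have hZW : Cfsg.classInner Z W = ((∑ i ∈ s, ‖Cfsg.classInner Z (v i)‖ ^ 2 / c i : ℝ) : ℂ) := by
    rw [hW, classInner_sum_right'', Complex.ofReal_sum]
    apply Finset.sum_congr rfl
    intro i hi
    rw [h7_classInner_smul_right, ← hterm i hi, map_div₀, Complex.conj_ofReal]
    ring
  have hWZ : Cfsg.classInner W Z = ((∑ i ∈ s, ‖Cfsg.classInner Z (v i)‖ ^ 2 / c i : ℝ) : ℂ) := by
    rw [classInner_conj_symm W Z, hZW, Complex.conj_ofReal]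
  have hWv : ∀ j ∈ s, Cfsg.classInner W (v j) = Cfsg.classInner Z (v j) := by
    intro j hj
    rw [hW, classInner_sum_left', Finset.sum_eq_single j]
    · rw [classInner_smul_left', horth j hj j hj, if_pos rfl]
      have : (c j : ℂ) ≠ 0 := by exact_mod_cast hc j hj
      field_simp
    · intro i hi hne
      rw [classInner_smul_left', horth i hi j hj, if_neg hne, mul_zero]
    · intro h
      exact absurd hj h
  have hWW : Cfsg.classInner W W = ((∑ i ∈ s, ‖Cfsg.classInner Z (v i)‖ ^ 2 / c i : ℝ) : ℂ) := by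
    conv_lhs => rw [hW]
    rw [classInner_sum_right'', Complex.ofReal_sum]
    apply Finset.sum_congr rfl
    intro i hi
    rw [h7_classInner_smul_right, hWv i hi, ← hterm i hi, map_div₀, Complex.conj_ofReal]
    ring
  rw [classInner_sub_left', classInner_sub_right'', classInner_sub_right'', hZW, hWZ, hWW]
  ring

section

variable {L : Type*} [Group L] [Fintype L] {G : Type*} [Group G] [Fintype G]
  {S : Set (L → ℂ)} {τ : (L → ℂ) → (G → ℂ)} {R : (L → ℂ) → Finset (G → ℂ)}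

theorem coh_norm_ne_zero (hS : Cfsg.IsCoherenceSystem S τ R) (n : (L → ℂ) → ℕ)
    (hn : ∀ φ ∈ S, Cfsg.classInner φ φ = (n φ : ℂ)) {φ : L → ℂ} (hφ : φ ∈ S) : n φ ≠ 0 := by
  intro h
  have h0 : φ = 0 := by
    apply eq_zero_of_classInner_self
    rw [hn φ hφ, h]
    simp
  apply hS.conj_ne φ hφ
  rw [h0]
  funext x
  simp [Cfsg.conjFun]

theorem coh_deg_ne_zero (hS : Cfsg.IsCoherenceSystem S τ R) (d : (L → ℂ) → ℕ)
    (hd : ∀ φ ∈ S, φ 1 = (d φ : ℂ)) {φ : L → ℂ} (hφ : φ ∈ S) : d φ ≠ 0 := by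
  intro h
  apply coh_degree_ne_zero hS hφ
  rw [hd φ hφ, h]
  simp

/-- arithmetic core of the extension criterion -/
theorem coh_extend_arith (U : ℤ) (a : ℕ) (p q Sg E : ℝ) (hp : 0 < p) (hq : 0 < q)
    (hSg : Sg = q ^ 2 / p + E) (hineq : 2 * (a : ℝ) * q ^ 2 < Sg)
    (hle : ((U : ℝ) - a * p) ^ 2 / p + (U : ℝ) ^ 2 / q ^ 2 * E ≤ (a : ℝ) ^ 2 * p) : U = 0 := by
  by_contra hU
  have h1 : ((U : ℝ) - a * p) ^ 2 / p = (U : ℝ) ^ 2 / p - 2 * a * U + (a : ℝ) ^ 2 * p := by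
    field_simp
    ring
  have h2 : (U : ℝ) ^ 2 / q ^ 2 * Sg ≤ 2 * a * U := by
    have h3 : (U : ℝ) ^ 2 / q ^ 2 * Sg = (U : ℝ) ^ 2 / p + (U : ℝ) ^ 2 / q ^ 2 * E := by
      rw [hSg]
      field_simp
    rw [h3]
    linarith
  have hU2 : (1 : ℝ) ≤ (U : ℝ) ^ 2 := by
    have : (1 : ℤ) ≤ U ^ 2 := by
      have := sq_nonneg U
      have h4 : U ^ 2 ≠ 0 := pow_ne_zero 2 hU
      omega
    exact_mod_cast this
  have hUU : (U : ℝ) ≤ (U : ℝ) ^ 2 := by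
    have : U ≤ U ^ 2 := by nlinarith [sq_nonneg U, sq_nonneg (U - 1)]
    exact_mod_cast this
  have hpos : 0 < (U : ℝ) ^ 2 / q ^ 2 := by positivity
  have h5 : (U : ℝ) ^ 2 / q ^ 2 * (2 * (a : ℝ) * q ^ 2) < (U : ℝ) ^ 2 / q ^ 2 * Sg :=
    mul_lt_mul_of_pos_left hineq hpos
  have h6 : (U : ℝ) ^ 2 / q ^ 2 * (2 * (a : ℝ) * q ^ 2) = 2 * a * (U : ℝ) ^ 2 := by
    field_simp
  have ha0 : (0 : ℝ) ≤ a := Nat.cast_nonneg a
  nlinarith

end

section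

variable {L : Type*} [Group L] [Fintype L] {G : Type*} [Group G] [Fintype G]
  {S : Set (L → ℂ)} {τ : (L → ℂ) → (G → ℂ)} {R : (L → ℂ) → Finset (G → ℂ)}

theorem coh_extend_key (hS : Cfsg.IsCoherenceSystem S τ R) (d n : (L → ℂ) → ℕ)
    (hd : ∀ φ ∈ S, φ 1 = (d φ : ℂ)) (hn : ∀ φ ∈ S, Cfsg.classInner φ φ = (n φ : ℂ))
    (S₁ : Finset (L → ℂ)) (hS₁ : (↑S₁ : Set (L → ℂ)) ⊆ S)
    (hS₁c : ∀ φ ∈ (↑S₁ : Set (L → ℂ)), Cfsg.conjFun φ ∈ (↑S₁ : Set (L → ℂ)))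
    {τ₁ : (L → ℂ) → (G → ℂ)}
    (hτ₁ : Cfsg.IsLinearIsometryOn (Cfsg.zspan (↑S₁ : Set (L → ℂ))) τ₁)
    (hagree : ∀ α ∈ Cfsg.zspanOn (↑S₁ : Set (L → ℂ)) {1}ᶜ, τ₁ α = τ α)
    (χ : L → ℂ) (hχ : χ ∈ S) (hχ₁ : χ ∉ S₁) (hχ₂ : Cfsg.conjFun χ ∉ S₁) (χ₁ : L → ℂ)
    (hχ₁S : χ₁ ∈ S₁) (a : ℕ) (ha : d χ = d χ₁ * a)
    (hineq : (2 * d χ * d χ₁ : ℝ) < ∑ φ ∈ S₁, ((d φ : ℝ) ^ 2 / (n φ : ℝ))) :
    ∀ φ ∈ S₁, Cfsg.classInner (τ (χ - (a : ℤ) • χ₁)) (τ₁ φ) =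
      if φ = χ₁ then -((a : ℂ) * (n χ₁ : ℂ)) else 0 := by
  classical
  have hτ := hS.isometry
  have hχ₁' : χ₁ ∈ S := hS₁ hχ₁S
  have hχc : Cfsg.conjFun χ ∈ S := hS.conj_mem χ hχ
  have hneχ : ∀ φ ∈ S₁, φ ≠ χ := fun φ hφ h => hχ₁ (h ▸ hφ)
  have hneχc : ∀ φ ∈ S₁, φ ≠ Cfsg.conjFun χ := fun φ hφ h => hχ₂ (h ▸ hφ)
  have hχφ : ∀ φ ∈ S₁, Cfsg.classInner χ φ = 0 := fun φ hφ =>
    hS.orthogonal χ hχ φ (hS₁ hφ) (Ne.symm (hneχ φ hφ))
  have hχcφ : ∀ φ ∈ S₁, Cfsg.classInner (Cfsg.conjFun χ) φ = 0 := fun φ hφ =>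
    hS.orthogonal _ hχc φ (hS₁ hφ) (Ne.symm (hneχc φ hφ))
  have hd1 : d χ₁ ≠ 0 := coh_deg_ne_zero hS d hd hχ₁'
  have hn1 : n χ₁ ≠ 0 := coh_norm_ne_zero hS n hn hχ₁'
  have hmT : χ - (a : ℤ) • χ₁ ∈ Cfsg.zspanOn S {1}ᶜ := by
    apply mem_zspanOn_one (zspan_sub (zspan_of_mem hχ) (zspan_zsmul _ (zspan_of_mem hχ₁')))
    rw [Pi.sub_apply, Pi.smul_apply, hd χ hχ, hd χ₁ hχ₁', ha, zsmul_eq_mul]
    push_cast
    ring
  have hmC : χ - Cfsg.conjFun χ ∈ Cfsg.zspanOn S {1}ᶜ :=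
    coh_sub_conj_mem hS (Set.Subset.refl S) hS.conj_mem hχ
  set T := τ (χ - (a : ℤ) • χ₁) with hT
  have hTgen : Cfsg.IsGeneralizedCharacter G T := hτ.2.2.2 _ hmT
  have hχχ₁ : Cfsg.classInner χ χ₁ = 0 := hχφ χ₁ hχ₁S
  have hχ₁χ : Cfsg.classInner χ₁ χ = 0 := by rw [classInner_conj_symm, hχχ₁, map_zero]
  have hTT : Cfsg.classInner T T = (n χ : ℂ) + (a : ℂ) ^ 2 * (n χ₁ : ℂ) := by
    rw [hT, hτ.2.2.1 _ hmT _ hmT, classInner_sub_left', classInner_sub_right'',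
      classInner_sub_right'', classInner_zsmul_left, classInner_zsmul_left,
      classInner_zsmul_right, classInner_zsmul_right, hn χ hχ, hn χ₁ hχ₁', hχχ₁, hχ₁χ]
    push_cast
    ring
  have hS15 := (Cfsg.Agent.S1515.result S τ R hS χ hχ ((a : ℤ) • χ₁)
    (zspan_zsmul _ (zspan_of_mem hχ₁'))
    (by rw [classInner_zsmul_right, hχχ₁, mul_zero])
    (by rw [classInner_zsmul_right, hχcφ χ₁ hχ₁S, mul_zero]) τ
    (isoOn_mono (zspan_subset_zspanOn (by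
      intro x hx
      rcases hx with rfl | rfl
      · exact hmT
      · exact hmC)) hτ) (fun _ => rfl)).1
  have hnχre : (Cfsg.classInner χ χ).re = (n χ : ℝ) := by
    rw [hn χ hχ]
    simp
  rw [hnχre] at hS15
  -- orthogonality of τ₁ φ to R χ
  have hτ₁R : ∀ φ ∈ S₁, ∀ α ∈ R χ, Cfsg.classInner (τ₁ φ) α = 0 := by
    intro φ hφ
    apply coh_ext_orth hS hS₁ hS₁c hτ₁ hagree hφ hχ (Ne.symm (hneχ φ hφ))
    intro h
    exact hneχ _ (hS₁c φ hφ) h.symm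
  set Z₁ := T - projOn (R χ) T with hZ₁
  have hZ₁φ : ∀ φ ∈ S₁, Cfsg.classInner Z₁ (τ₁ φ) = Cfsg.classInner T (τ₁ φ) := by
    intro φ hφ
    rw [hZ₁, classInner_sub_left', classInner_projOn_left, Finset.sum_eq_zero, sub_zero]
    intro α hα
    rw [classInner_conj_symm α (τ₁ φ), hτ₁R φ hφ α hα, map_zero, mul_zero]
  have hB1 := classInner_residual (R χ) (hS.orthonormal χ hχ) T
  rw [← hZ₁] at hB1
  have horthτ₁ : ∀ φ ∈ S₁, ∀ φ' ∈ S₁, Cfsg.classInner (τ₁ φ) (τ₁ φ') =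
      if φ = φ' then (((n φ : ℝ)) : ℂ) else 0 := by
    intro φ hφ φ' hφ'
    rw [hτ₁.2.2.1 φ (zspan_of_mem hφ) φ' (zspan_of_mem hφ')]
    by_cases h : φ = φ'
    · rw [if_pos h, ← h, hn φ (hS₁ hφ)]
      simp
    · rw [if_neg h, hS.orthogonal φ (hS₁ hφ) φ' (hS₁ hφ') h]
  have hB2 := bessel_orth S₁ (fun φ => τ₁ φ) (fun φ => (n φ : ℝ))
    (fun φ hφ => by
      have := coh_norm_ne_zero hS n hn (hS₁ hφ)
      exact_mod_cast this) horthτ₁ Z₁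
  set Z := Z₁ - ∑ φ ∈ S₁, (Cfsg.classInner Z₁ (τ₁ φ) / (((n φ : ℝ)) : ℂ)) • τ₁ φ with hZ
  have hsumφ : ∑ φ ∈ S₁, ‖Cfsg.classInner Z₁ (τ₁ φ)‖ ^ 2 / (n φ : ℝ) =
      ∑ φ ∈ S₁, ‖Cfsg.classInner T (τ₁ φ)‖ ^ 2 / (n φ : ℝ) :=
    Finset.sum_congr rfl (fun φ hφ => by rw [hZ₁φ φ hφ])
  rw [hB1, hTT, hsumφ] at hB2
  have hZnn := classInner_self_nonneg Z
  have hZeq := classInner_self_eq Z
  set A := ∑ α ∈ R χ, ‖Cfsg.classInner T α‖ ^ 2 with hA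
  set B := ∑ φ ∈ S₁, ‖Cfsg.classInner T (τ₁ φ)‖ ^ 2 / (n φ : ℝ) with hB
  have hreal : (Nat.card G : ℝ)⁻¹ * ∑ g : G, Complex.normSq (Z g) =
      (n χ : ℝ) + (a : ℝ) ^ 2 * (n χ₁ : ℝ) - A - B := by
    have h3 : (((Nat.card G : ℝ)⁻¹ * ∑ g : G, Complex.normSq (Z g) : ℝ) : ℂ) =
        (((n χ : ℝ) + (a : ℝ) ^ 2 * (n χ₁ : ℝ) - A - B : ℝ) : ℂ) := by
      rw [← hZeq, hB2]
      push_cast
      rfl
    exact Complex.ofReal_injective h3
  have hBle : B ≤ (a : ℝ) ^ 2 * (n χ₁ : ℝ) := by linarith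
  -- the relation between the coefficients
  obtain ⟨z₁, hz₁⟩ := genChar_inner_genChar_int T (τ₁ χ₁) hTgen
    (hτ₁.2.2.2 χ₁ (zspan_of_mem hχ₁S))
  set U : ℤ := z₁ + (a : ℤ) * (n χ₁ : ℤ) with hU
  have hrel : ∀ φ ∈ S₁, (d χ₁ : ℂ) * Cfsg.classInner T (τ₁ φ) =
      (d φ : ℂ) * (U : ℂ) - (if φ = χ₁ then (a : ℂ) * (d χ₁ : ℂ) * (n χ₁ : ℂ) else 0) := by
    intro φ hφ
    have hφS := hS₁ hφ
    have he1 : ((d φ : ℤ) • χ₁ - (d χ₁ : ℤ) • φ) ∈ Cfsg.zspanOn (↑S₁ : Set (L → ℂ)) {1}ᶜ := by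
      apply mem_zspanOn_one (zspan_sub (zspan_zsmul _ (zspan_of_mem hχ₁S))
        (zspan_zsmul _ (zspan_of_mem hφ)))
      rw [Pi.sub_apply, Pi.smul_apply, Pi.smul_apply, hd χ₁ hχ₁', hd φ hφS, zsmul_eq_mul,
        zsmul_eq_mul]
      push_cast
      ring
    have he2 := zspanOn_mono hS₁ {1}ᶜ he1
    have h1 : τ ((d φ : ℤ) • χ₁ - (d χ₁ : ℤ) • φ) = (d φ : ℤ) • τ₁ χ₁ - (d χ₁ : ℤ) • τ₁ φ := by
      rw [← hagree _ he1, isoOn_map_sub hτ₁ (zspan_zsmul _ (zspan_of_mem hχ₁S))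
        (zspan_zsmul _ (zspan_of_mem hφ)), hτ₁.2.1 χ₁ (zspan_of_mem hχ₁S),
        hτ₁.2.1 φ (zspan_of_mem hφ)]
    have h2 := hτ.2.2.1 _ hmT _ he2
    rw [← hT, h1, classInner_sub_right'', classInner_zsmul_right, classInner_zsmul_right, hz₁,
      classInner_sub_left', classInner_sub_right'', classInner_sub_right'',
      classInner_zsmul_right, classInner_zsmul_right, classInner_zsmul_left,
      classInner_zsmul_left, classInner_zsmul_right, classInner_zsmul_right, hχχ₁,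
      hχφ φ hφ, hn χ₁ hχ₁'] at h2
    by_cases hφ1 : φ = χ₁
    · rw [if_pos hφ1, hφ1, hz₁, hU]
      push_cast
      ring
    · rw [if_neg hφ1]
      rw [hS.orthogonal χ₁ hχ₁' φ hφS (Ne.symm hφ1)] at h2
      rw [hU]
      push_cast at h2 ⊢
      linear_combination (-1 : ℂ) * h2
  have hd1C : (d χ₁ : ℂ) ≠ 0 := by exact_mod_cast hd1
  have hd1R : (0 : ℝ) < (d χ₁ : ℝ) := by exact_mod_cast Nat.pos_of_ne_zero hd1
  have hn1R : (0 : ℝ) < (n χ₁ : ℝ) := by exact_mod_cast Nat.pos_of_ne_zero hn1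
  have hval : ∀ φ ∈ S₁, Cfsg.classInner T (τ₁ φ) =
      (((d φ : ℝ) / (d χ₁ : ℝ) * (U : ℝ) -
        (if φ = χ₁ then (a : ℝ) * (n χ₁ : ℝ) else 0) : ℝ) : ℂ) := by
    intro φ hφ
    have h := hrel φ hφ
    have h' : Cfsg.classInner T (τ₁ φ) = ((d φ : ℂ) * (U : ℂ) -
        (if φ = χ₁ then (a : ℂ) * (d χ₁ : ℂ) * (n χ₁ : ℂ) else 0)) / (d χ₁ : ℂ) := by
      rw [← h]
      field_simp
    rw [h']
    by_cases hφ1 : φ = χ₁
    · rw [if_pos hφ1, if_pos hφ1]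
      push_cast
      field_simp
    · rw [if_neg hφ1, if_neg hφ1]
      push_cast
      field_simp
      ring
  have hnormsq : ∀ φ ∈ S₁, ‖Cfsg.classInner T (τ₁ φ)‖ ^ 2 =
      ((d φ : ℝ) / (d χ₁ : ℝ) * (U : ℝ) - (if φ = χ₁ then (a : ℝ) * (n χ₁ : ℝ) else 0)) ^ 2 := by
    intro φ hφ
    rw [hval φ hφ, Complex.norm_real, Real.norm_eq_abs, sq_abs]
  -- split the sums at χ₁
  set E := ∑ φ ∈ S₁.erase χ₁, ((d φ : ℝ) ^ 2 / (n φ : ℝ)) with hE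
  have hSg : ∑ φ ∈ S₁, ((d φ : ℝ) ^ 2 / (n φ : ℝ)) = (d χ₁ : ℝ) ^ 2 / (n χ₁ : ℝ) + E := by
    rw [hE, Finset.add_sum_erase S₁ (fun φ => (d φ : ℝ) ^ 2 / (n φ : ℝ)) hχ₁S]
  have hBval : B = ((U : ℝ) - (a : ℝ) * (n χ₁ : ℝ)) ^ 2 / (n χ₁ : ℝ) +
      (U : ℝ) ^ 2 / (d χ₁ : ℝ) ^ 2 * E := by
    rw [hB, ← Finset.add_sum_erase S₁ _ hχ₁S, hnormsq χ₁ hχ₁S, if_pos rfl, hE, Finset.mul_sum]
    congr 1
    · rw [div_self (ne_of_gt hd1R), one_mul]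
    · apply Finset.sum_congr rfl
      intro φ hφ
      rw [hnormsq φ (Finset.mem_of_mem_erase hφ), if_neg (Finset.ne_of_mem_erase hφ), sub_zero]
      have hnφ : (n φ : ℝ) ≠ 0 := by
        have := coh_norm_ne_zero hS n hn (hS₁ (Finset.mem_of_mem_erase hφ))
        exact_mod_cast this
      field_simp
  have hineq' : 2 * (a : ℝ) * (d χ₁ : ℝ) ^ 2 < ∑ φ ∈ S₁, ((d φ : ℝ) ^ 2 / (n φ : ℝ)) := by
    refine lt_of_eq_of_lt ?_ hineq
    rw [ha]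
    push_cast
    ring
  have hU0 : U = 0 := by
    apply coh_extend_arith U a (n χ₁ : ℝ) (d χ₁ : ℝ) _ E hn1R hd1R hSg hineq'
    rw [← hBval]
    exact hBle
  intro φ hφ
  rw [hval φ hφ, hU0]
  by_cases hφ1 : φ = χ₁
  · rw [if_pos hφ1, if_pos hφ1]
    push_cast
    ring
  · rw [if_neg hφ1, if_neg hφ1]
    simp

end

theorem classInner_three {N : Type*} [Group N] [Fintype N] (a1 a2 a3 b1 b2 b3 : N → ℂ)
    (k k' l l' : ℤ) :
    Cfsg.classInner (a1 + k • a2 + k' • a3) (b1 + l • b2 + l' • b3) =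
      Cfsg.classInner a1 b1 + (l : ℂ) * Cfsg.classInner a1 b2 + (l' : ℂ) * Cfsg.classInner a1 b3 +
      (k : ℂ) * Cfsg.classInner a2 b1 + (k : ℂ) * (l : ℂ) * Cfsg.classInner a2 b2 +
      (k : ℂ) * (l' : ℂ) * Cfsg.classInner a2 b3 +
      (k' : ℂ) * Cfsg.classInner a3 b1 + (k' : ℂ) * (l : ℂ) * Cfsg.classInner a3 b2 +
      (k' : ℂ) * (l' : ℂ) * Cfsg.classInner a3 b3 := by
  simp only [classInner_add_left', h7_classInner_add_right, classInner_zsmul_left,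
    classInner_zsmul_right]
  ring

theorem zspanOn_sub {X : Type*} {S : Set (X → ℂ)} {A : Set X} {a b : X → ℂ}
    (ha : a ∈ Cfsg.zspanOn S A) (hb : b ∈ Cfsg.zspanOn S A) : a - b ∈ Cfsg.zspanOn S A :=
  ⟨zspan_sub ha.1 hb.1, fun x hx => by rw [Pi.sub_apply, ha.2 x hx, hb.2 x hx, sub_zero]⟩

section

variable {L : Type*} [Group L] [Fintype L] {G : Type*} [Group G] [Fintype G]
  {S : Set (L → ℂ)} {τ : (L → ℂ) → (G → ℂ)} {R : (L → ℂ) → Finset (G → ℂ)}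

theorem coh_map_sub (hS : Cfsg.IsCoherenceSystem S τ R) {x y : L → ℂ}
    (hx : x ∈ Cfsg.zspanOn S {1}ᶜ) (hy : y ∈ Cfsg.zspanOn S {1}ᶜ) : τ (x - y) = τ x - τ y := by
  have h1 : x - y = x + (-1 : ℤ) • y := by simp [sub_eq_add_neg]
  rw [h1, hS.isometry.1 x hx _ (zspanOn_zsmul _ hy), hS.isometry.2.1 y hy]
  simp [sub_eq_add_neg]

/-- The coherence extension criterion. -/
theorem coherent_extend (hS : Cfsg.IsCoherenceSystem S τ R) (d n : (L → ℂ) → ℕ)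
    (hd : ∀ φ ∈ S, φ 1 = (d φ : ℂ)) (hn : ∀ φ ∈ S, Cfsg.classInner φ φ = (n φ : ℂ))
    (S₁ : Finset (L → ℂ)) (hS₁ : (↑S₁ : Set (L → ℂ)) ⊆ S)
    (hS₁c : ∀ φ ∈ S₁, Cfsg.conjFun φ ∈ S₁)
    (hcoh : Cfsg.IsCoherent (↑S₁ : Set (L → ℂ)) {1}ᶜ τ) (χ : L → ℂ) (hχ : χ ∈ S)
    (hχ₁ : χ ∉ S₁) (hχ₂ : Cfsg.conjFun χ ∉ S₁) (χ₁ : L → ℂ) (hχ₁S : χ₁ ∈ S₁)
    (hdvd : d χ₁ ∣ d χ)
    (hineq : (2 * d χ * d χ₁ : ℝ) < ∑ φ ∈ S₁, ((d φ : ℝ) ^ 2 / (n φ : ℝ))) :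
    Cfsg.IsCoherent (↑S₁ ∪ {χ, Cfsg.conjFun χ} : Set (L → ℂ)) {1}ᶜ τ := by
  classical
  obtain ⟨⟨α₀, hα₀, hα₀ne⟩, τ₁, hτ₁, hagree⟩ := hcoh
  obtain ⟨a, ha⟩ := hdvd
  have hS₁c' : ∀ φ ∈ (↑S₁ : Set (L → ℂ)), Cfsg.conjFun φ ∈ (↑S₁ : Set (L → ℂ)) :=
    fun φ hφ => hS₁c φ hφ
  have hkey := coh_extend_key hS d n hd hn S₁ hS₁ hS₁c' hτ₁ hagree χ hχ hχ₁ hχ₂ χ₁ hχ₁S a ha hineq
  have hτ := hS.isometry
  have hχ₁' : χ₁ ∈ S := hS₁ hχ₁S
  have hχc : Cfsg.conjFun χ ∈ S := hS.conj_mem χ hχ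
  have hneχ : ∀ φ ∈ S₁, φ ≠ χ := fun φ hφ h => hχ₁ (h ▸ hφ)
  have hneχc : ∀ φ ∈ S₁, φ ≠ Cfsg.conjFun χ := fun φ hφ h => hχ₂ (h ▸ hφ)
  have hχφ : ∀ φ ∈ S₁, Cfsg.classInner χ φ = 0 := fun φ hφ =>
    hS.orthogonal χ hχ φ (hS₁ hφ) (Ne.symm (hneχ φ hφ))
  have hφχ : ∀ φ ∈ S₁, Cfsg.classInner φ χ = 0 := fun φ hφ =>
    hS.orthogonal φ (hS₁ hφ) χ hχ (hneχ φ hφ)
  have hχcφ : ∀ φ ∈ S₁, Cfsg.classInner (Cfsg.conjFun χ) φ = 0 := fun φ hφ =>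
    hS.orthogonal _ hχc φ (hS₁ hφ) (Ne.symm (hneχc φ hφ))
  have hφχc : ∀ φ ∈ S₁, Cfsg.classInner φ (Cfsg.conjFun χ) = 0 := fun φ hφ =>
    hS.orthogonal φ (hS₁ hφ) _ hχc (hneχc φ hφ)
  have hχχc : Cfsg.classInner χ (Cfsg.conjFun χ) = 0 :=
    hS.orthogonal χ hχ _ hχc (Ne.symm (hS.conj_ne χ hχ))
  have hχcχ : Cfsg.classInner (Cfsg.conjFun χ) χ = 0 :=
    hS.orthogonal _ hχc χ hχ (hS.conj_ne χ hχ)
  have hnχ0 : n χ ≠ 0 := coh_norm_ne_zero hS n hn hχ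
  have hnχC : (n χ : ℂ) ≠ 0 := by exact_mod_cast hnχ0
  have hχcχc : Cfsg.classInner (Cfsg.conjFun χ) (Cfsg.conjFun χ) = (n χ : ℂ) := by
    rw [classInner_conjFun_self, hn χ hχ]
  have hmT : χ - (a : ℤ) • χ₁ ∈ Cfsg.zspanOn S {1}ᶜ := by
    apply mem_zspanOn_one (zspan_sub (zspan_of_mem hχ) (zspan_zsmul _ (zspan_of_mem hχ₁')))
    rw [Pi.sub_apply, Pi.smul_apply, hd χ hχ, hd χ₁ hχ₁', ha, zsmul_eq_mul]
    push_cast
    ring
  have hmC : χ - Cfsg.conjFun χ ∈ Cfsg.zspanOn S {1}ᶜ :=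
    coh_sub_conj_mem hS (Set.Subset.refl S) hS.conj_mem hχ
  set T := τ (χ - (a : ℤ) • χ₁) with hT
  set C := τ (χ - Cfsg.conjFun χ) with hC
  have hTgen : Cfsg.IsGeneralizedCharacter G T := hτ.2.2.2 _ hmT
  have hCgen : Cfsg.IsGeneralizedCharacter G C := hτ.2.2.2 _ hmC
  have hχχ₁ : Cfsg.classInner χ χ₁ = 0 := hχφ χ₁ hχ₁S
  have hχ₁χ : Cfsg.classInner χ₁ χ = 0 := hφχ χ₁ hχ₁S
  have hTT : Cfsg.classInner T T = (n χ : ℂ) + (a : ℂ) ^ 2 * (n χ₁ : ℂ) := by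
    rw [hT, hτ.2.2.1 _ hmT _ hmT, classInner_sub_left', classInner_sub_right'',
      classInner_sub_right'', classInner_zsmul_left, classInner_zsmul_left,
      classInner_zsmul_right, classInner_zsmul_right, hn χ hχ, hn χ₁ hχ₁', hχχ₁, hχ₁χ]
    push_cast
    ring
  have hTC : Cfsg.classInner T C = (n χ : ℂ) := by
    rw [hT, hC, hτ.2.2.1 _ hmT _ hmC, classInner_sub_left', classInner_sub_right'',
      classInner_sub_right'', classInner_zsmul_left, classInner_zsmul_left, hn χ hχ, hχχc,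
      hχ₁χ, hφχc χ₁ hχ₁S]
    ring
  have hCC : Cfsg.classInner C C = 2 * (n χ : ℂ) := by
    rw [hC, hτ.2.2.1 _ hmC _ hmC, classInner_sub_left', classInner_sub_right'',
      classInner_sub_right'', hn χ hχ, hχχc, hχcχ, hχcχc]
    ring
  have hCsum : C = ∑ α ∈ R χ, α := hS.sum_eq χ hχ
  have hτ₁C : ∀ φ ∈ S₁, Cfsg.classInner (τ₁ φ) C = 0 := by
    intro φ hφ
    rw [hCsum, classInner_sum_right'']
    apply Finset.sum_eq_zero
    intro α hα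
    apply coh_ext_orth hS hS₁ hS₁c' hτ₁ hagree hφ hχ (Ne.symm (hneχ φ hφ)) _ α hα
    intro h
    exact hneχ _ (hS₁c φ hφ) h.symm
  have hm1 : χ₁ ∈ Cfsg.zspan (↑S₁ : Set (L → ℂ)) := zspan_of_mem hχ₁S
  obtain ⟨X, hX⟩ : ∃ X : G → ℂ, X = T + (a : ℤ) • τ₁ χ₁ := ⟨_, rfl⟩
  obtain ⟨X', hX'⟩ : ∃ X' : G → ℂ, X' = X - C := ⟨_, rfl⟩
  have hXgen : Cfsg.IsGeneralizedCharacter G X := by
    rw [hX]
    exact genChar_add hTgen (genChar_zsmul _ (hτ₁.2.2.2 χ₁ hm1))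
  have hX'gen : Cfsg.IsGeneralizedCharacter G X' := by
    rw [hX']
    exact genChar_sub hXgen hCgen
  have hτ₁τ₁ : ∀ φ ∈ S₁, Cfsg.classInner (τ₁ χ₁) (τ₁ φ) =
      if φ = χ₁ then (n χ₁ : ℂ) else 0 := by
    intro φ hφ
    rw [hτ₁.2.2.1 χ₁ hm1 φ (zspan_of_mem hφ)]
    by_cases h : φ = χ₁
    · rw [if_pos h, h, hn χ₁ hχ₁']
    · rw [if_neg h, hS.orthogonal χ₁ hχ₁' φ (hS₁ hφ) (Ne.symm h)]
  have hXφ : ∀ φ ∈ S₁, Cfsg.classInner X (τ₁ φ) = 0 := by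
    intro φ hφ
    rw [hX, classInner_add_left', classInner_zsmul_left, hkey φ hφ, hτ₁τ₁ φ hφ]
    by_cases h : φ = χ₁
    · rw [if_pos h, if_pos h]
      push_cast
      ring
    · rw [if_neg h, if_neg h]
      ring
  have hXspan : ∀ γ ∈ Cfsg.zspan (↑S₁ : Set (L → ℂ)), Cfsg.classInner X (τ₁ γ) = 0 :=
    isoOn_span_induction hτ₁ (fun w => Cfsg.classInner X w)
      (fun a b => h7_classInner_add_right _ a b) (fun k a => classInner_zsmul_right k _ a)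
      (fun φ hφ => hXφ φ hφ)
  have hCspan : ∀ γ ∈ Cfsg.zspan (↑S₁ : Set (L → ℂ)), Cfsg.classInner C (τ₁ γ) = 0 :=
    isoOn_span_induction hτ₁ (fun w => Cfsg.classInner C w)
      (fun a b => h7_classInner_add_right _ a b) (fun k a => classInner_zsmul_right k _ a)
      (fun φ hφ => by
        show Cfsg.classInner C (τ₁ φ) = 0
        rw [classInner_conj_symm, hτ₁C φ hφ, map_zero])
  have hX'span : ∀ γ ∈ Cfsg.zspan (↑S₁ : Set (L → ℂ)), Cfsg.classInner X' (τ₁ γ) = 0 := by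
    intro γ hγ
    rw [hX', classInner_sub_left', hXspan γ hγ, hCspan γ hγ, sub_zero]
  have hspanX : ∀ γ ∈ Cfsg.zspan (↑S₁ : Set (L → ℂ)), Cfsg.classInner (τ₁ γ) X = 0 := by
    intro γ hγ
    rw [classInner_conj_symm, hXspan γ hγ, map_zero]
  have hspanX' : ∀ γ ∈ Cfsg.zspan (↑S₁ : Set (L → ℂ)), Cfsg.classInner (τ₁ γ) X' = 0 := by
    intro γ hγ
    rw [classInner_conj_symm, hX'span γ hγ, map_zero]
  have hT1 : Cfsg.classInner T (τ₁ χ₁) = -((a : ℂ) * (n χ₁ : ℂ)) := by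
    rw [hkey χ₁ hχ₁S, if_pos rfl]
  have h1T : Cfsg.classInner (τ₁ χ₁) T = -((a : ℂ) * (n χ₁ : ℂ)) := by
    rw [classInner_conj_symm, hT1]
    simp
  have hXX : Cfsg.classInner X X = (n χ : ℂ) := by
    rw [hX, classInner_add_left', h7_classInner_add_right, h7_classInner_add_right,
      classInner_zsmul_left, classInner_zsmul_left, classInner_zsmul_right,
      classInner_zsmul_right, hTT, hT1, h1T, hτ₁.2.2.1 χ₁ hm1 χ₁ hm1, hn χ₁ hχ₁']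
    push_cast
    ring
  have hXC : Cfsg.classInner X C = (n χ : ℂ) := by
    rw [hX, classInner_add_left', classInner_zsmul_left, hTC, hτ₁C χ₁ hχ₁S]
    ring
  have hCX : Cfsg.classInner C X = (n χ : ℂ) := by
    rw [classInner_conj_symm, hXC]
    simp
  have hXX' : Cfsg.classInner X X' = 0 := by
    rw [hX', classInner_sub_right'', hXX, hXC, sub_self]
  have hX'X : Cfsg.classInner X' X = 0 := by
    rw [classInner_conj_symm, hXX', map_zero]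
  have hX'X' : Cfsg.classInner X' X' = (n χ : ℂ) := by
    rw [hX', classInner_sub_left', classInner_sub_right'', classInner_sub_right'', hXX, hXC, hCX,
      hCC]
    ring
  -- orthogonality of the span of S₁ to χ and its conjugate
  have hspanχ : ∀ γ ∈ Cfsg.zspan (↑S₁ : Set (L → ℂ)), Cfsg.classInner γ χ = 0 :=
    zspan_induction_zero (fun w => Cfsg.classInner w χ)
      (fun a b => classInner_add_left' a b _) (fun k a => classInner_zsmul_left k a _)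
      (fun φ hφ => hφχ φ hφ)
  have hspanχc : ∀ γ ∈ Cfsg.zspan (↑S₁ : Set (L → ℂ)),
      Cfsg.classInner γ (Cfsg.conjFun χ) = 0 :=
    zspan_induction_zero (fun w => Cfsg.classInner w (Cfsg.conjFun χ))
      (fun a b => classInner_add_left' a b _) (fun k a => classInner_zsmul_left k a _)
      (fun φ hφ => hφχc φ hφ)
  have hχspan : ∀ γ ∈ Cfsg.zspan (↑S₁ : Set (L → ℂ)), Cfsg.classInner χ γ = 0 := by
    intro γ hγ
    rw [classInner_conj_symm, hspanχ γ hγ, map_zero]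
  have hχcspan : ∀ γ ∈ Cfsg.zspan (↑S₁ : Set (L → ℂ)),
      Cfsg.classInner (Cfsg.conjFun χ) γ = 0 := by
    intro γ hγ
    rw [classInner_conj_symm, hspanχc γ hγ, map_zero]
  -- coefficient functionals
  let c : (L → ℂ) → ℂ := fun γ => Cfsg.classInner γ χ / (n χ : ℂ)
  let c' : (L → ℂ) → ℂ := fun γ => Cfsg.classInner γ (Cfsg.conjFun χ) / (n χ : ℂ)
  let τ₂ : (L → ℂ) → (G → ℂ) := fun γ =>
    τ₁ (γ - c γ • χ - c' γ • Cfsg.conjFun χ) + c γ • X + c' γ • X'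
  set S₂ : Set (L → ℂ) := ↑S₁ ∪ {χ, Cfsg.conjFun χ} with hS₂
  have hdecomp : ∀ γ ∈ Cfsg.zspan S₂, ∃ k k' : ℤ,
      γ - k • χ - k' • Cfsg.conjFun χ ∈ Cfsg.zspan (↑S₁ : Set (L → ℂ)) ∧
      c γ = (k : ℂ) ∧ c' γ = (k' : ℂ) := by
    intro γ hγ
    induction hγ using Submodule.span_induction with
    | mem φ h =>
      rcases h with h | h | h
      · refine ⟨0, 0, ?_, ?_, ?_⟩
        · rw [zero_smul, zero_smul, sub_zero, sub_zero]
          exact zspan_of_mem h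
        · change Cfsg.classInner φ χ / (n χ : ℂ) = ((0 : ℤ) : ℂ)
          rw [hφχ φ h]
          simp
        · change Cfsg.classInner φ (Cfsg.conjFun χ) / (n χ : ℂ) = ((0 : ℤ) : ℂ)
          rw [hφχc φ h]
          simp
      · refine ⟨1, 0, ?_, ?_, ?_⟩
        · rw [h, one_smul, zero_smul, sub_self, sub_zero]
          exact zspan_zero _
        · change Cfsg.classInner φ χ / (n χ : ℂ) = ((1 : ℤ) : ℂ)
          rw [h, hn χ hχ, div_self hnχC]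
          simp
        · change Cfsg.classInner φ (Cfsg.conjFun χ) / (n χ : ℂ) = ((0 : ℤ) : ℂ)
          rw [h, hχχc]
          simp
      · have h' : φ = Cfsg.conjFun χ := h
        refine ⟨0, 1, ?_, ?_, ?_⟩
        · rw [h', one_smul, zero_smul, sub_zero, sub_self]
          exact zspan_zero _
        · change Cfsg.classInner φ χ / (n χ : ℂ) = ((0 : ℤ) : ℂ)
          rw [h', hχcχ]
          simp
        · change Cfsg.classInner φ (Cfsg.conjFun χ) / (n χ : ℂ) = ((1 : ℤ) : ℂ)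
          rw [h', hχcχc, div_self hnχC]
          simp
    | zero =>
      refine ⟨0, 0, ?_, ?_, ?_⟩
      · rw [zero_smul, zero_smul, sub_zero, sub_zero]
        exact zspan_zero _
      · change Cfsg.classInner 0 χ / (n χ : ℂ) = ((0 : ℤ) : ℂ)
        rw [classInner_zero_left']
        simp
      · change Cfsg.classInner 0 (Cfsg.conjFun χ) / (n χ : ℂ) = ((0 : ℤ) : ℂ)
        rw [classInner_zero_left']
        simp
    | add x y _ _ ihx ihy =>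
      obtain ⟨k, k', h1, h2, h3⟩ := ihx
      obtain ⟨l, l', g1, g2, g3⟩ := ihy
      refine ⟨k + l, k' + l', ?_, ?_, ?_⟩
      · have : x + y - (k + l) • χ - (k' + l') • Cfsg.conjFun χ =
            (x - k • χ - k' • Cfsg.conjFun χ) + (y - l • χ - l' • Cfsg.conjFun χ) := by
          rw [add_smul, add_smul]
          abel
        rw [this]
        exact zspan_add h1 g1
      · change Cfsg.classInner (x + y) χ / (n χ : ℂ) = ((k + l : ℤ) : ℂ)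
        rw [classInner_add_left', add_div]
        change c x + c y = _
        rw [h2, g2]
        push_cast
        ring
      · change Cfsg.classInner (x + y) (Cfsg.conjFun χ) / (n χ : ℂ) = ((k' + l' : ℤ) : ℂ)
        rw [classInner_add_left', add_div]
        change c' x + c' y = _
        rw [h3, g3]
        push_cast
        ring
    | smul m x _ ihx =>
      obtain ⟨k, k', h1, h2, h3⟩ := ihx
      refine ⟨m * k, m * k', ?_, ?_, ?_⟩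
      · have : m • x - (m * k) • χ - (m * k') • Cfsg.conjFun χ =
            m • (x - k • χ - k' • Cfsg.conjFun χ) := by
          rw [smul_sub, smul_sub, mul_smul, mul_smul]
        rw [this]
        exact zspan_zsmul m h1
      · change Cfsg.classInner (m • x) χ / (n χ : ℂ) = ((m * k : ℤ) : ℂ)
        rw [classInner_zsmul_left, mul_div_assoc]
        change (m : ℂ) * c x = _
        rw [h2]
        push_cast
        ring
      · change Cfsg.classInner (m • x) (Cfsg.conjFun χ) / (n χ : ℂ) = ((m * k' : ℤ) : ℂ)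
        rw [classInner_zsmul_left, mul_div_assoc]
        change (m : ℂ) * c' x = _
        rw [h3]
        push_cast
        ring
  have hτ₂ : ∀ γ ∈ Cfsg.zspan S₂, ∃ k k' : ℤ, ∃ γ₁ ∈ Cfsg.zspan (↑S₁ : Set (L → ℂ)),
      γ = γ₁ + k • χ + k' • Cfsg.conjFun χ ∧ τ₂ γ = τ₁ γ₁ + k • X + k' • X' ∧
      c γ = (k : ℂ) ∧ c' γ = (k' : ℂ) := by
    intro γ hγ
    obtain ⟨k, k', h1, h2, h3⟩ := hdecomp γ hγ
    refine ⟨k, k', _, h1, by abel, ?_, h2, h3⟩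
    change τ₁ (γ - c γ • χ - c' γ • Cfsg.conjFun χ) + c γ • X + c' γ • X' = _
    rw [h2, h3, Int.cast_smul_eq_zsmul ℂ k χ, Int.cast_smul_eq_zsmul ℂ k' (Cfsg.conjFun χ),
      Int.cast_smul_eq_zsmul ℂ k X, Int.cast_smul_eq_zsmul ℂ k' X']
  constructor
  · exact ⟨α₀, zspanOn_mono Set.subset_union_left {1}ᶜ hα₀, hα₀ne⟩
  · refine ⟨τ₂, ⟨?_, ?_, ?_, ?_⟩, ?_⟩
    · -- additivity
      intro x hx y hy
      obtain ⟨k, k', x₁, hx₁, hxe, hxτ, hxc, hxc'⟩ := hτ₂ x hx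
      obtain ⟨l, l', y₁, hy₁, hye, hyτ, hyc, hyc'⟩ := hτ₂ y hy
      have hcxy : c (x + y) = ((k + l : ℤ) : ℂ) := by
        change Cfsg.classInner (x + y) χ / (n χ : ℂ) = _
        rw [classInner_add_left', add_div]
        change c x + c y = _
        rw [hxc, hyc]
        push_cast
        ring
      have hc'xy : c' (x + y) = ((k' + l' : ℤ) : ℂ) := by
        change Cfsg.classInner (x + y) (Cfsg.conjFun χ) / (n χ : ℂ) = _
        rw [classInner_add_left', add_div]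
        change c' x + c' y = _
        rw [hxc', hyc']
        push_cast
        ring
      have hsplit : τ₂ (x + y) = τ₁ (x₁ + y₁) + (k + l) • X + (k' + l') • X' := by
        change τ₁ (x + y - c (x + y) • χ - c' (x + y) • Cfsg.conjFun χ) + c (x + y) • X +
          c' (x + y) • X' = _
        rw [hcxy, hc'xy, Int.cast_smul_eq_zsmul ℂ (k + l) χ,
          Int.cast_smul_eq_zsmul ℂ (k' + l') (Cfsg.conjFun χ),
          Int.cast_smul_eq_zsmul ℂ (k + l) X, Int.cast_smul_eq_zsmul ℂ (k' + l') X']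
        congr 3
        rw [hxe, hye, add_smul, add_smul]
        abel
      rw [hsplit, hxτ, hyτ, hτ₁.1 x₁ hx₁ y₁ hy₁, add_smul, add_smul]
      abel
    · -- homogeneity
      intro x hx m
      obtain ⟨k, k', x₁, hx₁, hxe, hxτ, hxc, hxc'⟩ := hτ₂ x hx
      have hcmx : c (m • x) = ((m * k : ℤ) : ℂ) := by
        change Cfsg.classInner (m • x) χ / (n χ : ℂ) = _
        rw [classInner_zsmul_left, mul_div_assoc]
        change (m : ℂ) * c x = _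
        rw [hxc]
        push_cast
        ring
      have hc'mx : c' (m • x) = ((m * k' : ℤ) : ℂ) := by
        change Cfsg.classInner (m • x) (Cfsg.conjFun χ) / (n χ : ℂ) = _
        rw [classInner_zsmul_left, mul_div_assoc]
        change (m : ℂ) * c' x = _
        rw [hxc']
        push_cast
        ring
      have hsplit : τ₂ (m • x) = τ₁ (m • x₁) + (m * k) • X + (m * k') • X' := by
        change τ₁ (m • x - c (m • x) • χ - c' (m • x) • Cfsg.conjFun χ) + c (m • x) • X +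
          c' (m • x) • X' = _
        rw [hcmx, hc'mx, Int.cast_smul_eq_zsmul ℂ (m * k) χ,
          Int.cast_smul_eq_zsmul ℂ (m * k') (Cfsg.conjFun χ),
          Int.cast_smul_eq_zsmul ℂ (m * k) X, Int.cast_smul_eq_zsmul ℂ (m * k') X']
        congr 3
        rw [hxe, smul_add, smul_add, mul_smul, mul_smul]
        abel
      rw [hsplit, hxτ, hτ₁.2.1 x₁ hx₁ m, smul_add, smul_add, mul_smul, mul_smul]
    · -- isometry
      intro x hx y hy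
      obtain ⟨k, k', x₁, hx₁, hxe, hxτ, -, -⟩ := hτ₂ x hx
      obtain ⟨l, l', y₁, hy₁, hye, hyτ, -, -⟩ := hτ₂ y hy
      rw [hxτ, hyτ]
      conv_rhs => rw [hxe, hye]
      rw [classInner_three, classInner_three, hτ₁.2.2.1 x₁ hx₁ y₁ hy₁, hspanX x₁ hx₁,
        hspanX' x₁ hx₁, hXspan y₁ hy₁, hX'span y₁ hy₁, hXX, hXX', hX'X, hX'X',
        hspanχ x₁ hx₁, hspanχc x₁ hx₁, hχspan y₁ hy₁, hχcspan y₁ hy₁, hn χ hχ, hχχc, hχcχ, hχcχc]
    · -- generalized characters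
      intro x hx
      obtain ⟨k, k', x₁, hx₁, -, hxτ, -, -⟩ := hτ₂ x hx
      rw [hxτ]
      exact genChar_add (genChar_add (hτ₁.2.2.2 x₁ hx₁) (genChar_zsmul k hXgen))
        (genChar_zsmul k' hX'gen)
    · -- agreement with τ
      intro x hx
      obtain ⟨k, k', x₁, hx₁, hxe, hxτ, -, -⟩ := hτ₂ x hx.1
      have hx1 : x 1 = 0 := hx.2 1 (by simp)
      set e3 := x₁ + ((k + k') * (a : ℤ)) • χ₁ with he3
      have he3m : e3 ∈ Cfsg.zspanOn (↑S₁ : Set (L → ℂ)) {1}ᶜ := by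
        apply mem_zspanOn_one (zspan_add hx₁ (zspan_zsmul _ hm1))
        have h1 : x 1 = x₁ 1 + (k : ℂ) * (d χ : ℂ) + (k' : ℂ) * (d χ : ℂ) := by
          conv_lhs => rw [hxe]
          rw [Pi.add_apply, Pi.add_apply, Pi.smul_apply, Pi.smul_apply,
            conjFun_one_of_isCharacter (hS.isCharacter χ hχ), hd χ hχ, zsmul_eq_mul, zsmul_eq_mul]
        rw [Pi.add_apply, Pi.smul_apply, hd χ₁ hχ₁', zsmul_eq_mul]
        rw [hx1, ha] at h1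
        push_cast at h1 ⊢
        linear_combination (-1 : ℂ) * h1
      have he3S := zspanOn_mono hS₁ {1}ᶜ he3m
      have hτe3 : τ e3 = τ₁ x₁ + ((k + k') * (a : ℤ)) • τ₁ χ₁ := by
        rw [← hagree e3 he3m, he3, hτ₁.1 x₁ hx₁ _ (zspan_zsmul _ hm1), hτ₁.2.1 χ₁ hm1]
      have hxe' : x = k • (χ - (a : ℤ) • χ₁) +
          k' • ((χ - (a : ℤ) • χ₁) - (χ - Cfsg.conjFun χ)) + e3 := by
        rw [hxe, he3]
        simp only [smul_sub, add_smul, mul_smul]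
        abel
      have hm12 : (χ - (a : ℤ) • χ₁) - (χ - Cfsg.conjFun χ) ∈ Cfsg.zspanOn S {1}ᶜ :=
        zspanOn_sub hmT hmC
      have hτx : τ x = k • T + k' • (T - C) + τ e3 := by
        conv_lhs => rw [hxe']
        rw [hτ.1 _ (zspanOn_add (zspanOn_zsmul k hmT) (zspanOn_zsmul k' hm12)) _ he3S,
          hτ.1 _ (zspanOn_zsmul k hmT) _ (zspanOn_zsmul k' hm12), hτ.2.1 _ hmT k,
          hτ.2.1 _ hm12 k', coh_map_sub hS hmT hmC]
      rw [hxτ, hτx, hτe3, hX', hX]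
      simp only [smul_sub, add_smul, mul_smul, smul_add]
      abel

end

end Cfsg.Agent.Lib.Helper11
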