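import Mathlib
import Cfsg.Prelude.Def_OddOrderChar
import Cfsg.Agent.Lib.Helper11.Clifford
import Cfsg.Agent.Lib.Helper11.CoherentExt
import Cfsg.Agent.Lib.Helper25.CharReal
import Cfsg.Agent.Lib.Helper25.CharQuot
import Cfsg.Agent.Lib.Helper11.AbelianQuot
import Cfsg.Agent.Lib.Helper25.KnorrBound
import Cfsg.Agent.S1492

set_option autoImplicit false
open scoped ComplexConjugate

namespace Cfsg.Agent.Lib.Helper11.SeqInd

open Cfsg.Agent.Lib.Helper11 Cfsg.Agent.Lib.helper7 Cfsg.Agent.Lib.helper2 Cfsg.Agent.Lib.Helper25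

variable {L : Type*} [Group L] [Fintype L]

/-- the non-principal irreducible characters of `K` whose kernel contains `A ⊓ K` -/
def irrAbove (K A : Subgroup L) : Set (K → ℂ) :=
  {θ | Cfsg.IsIrrCharacter K θ ∧ θ ≠ (fun _ => 1) ∧ ∀ a : K, (a : L) ∈ A → θ a = θ 1}

theorem inducedIrrAbove_eq (K A : Subgroup L) :
    Cfsg.inducedIrrAbove K A = (fun θ : K → ℂ => Cfsg.indFun K θ) '' irrAbove K A := by
  ext φ
  constructor
  · rintro ⟨θ, h1, h2, h3, rfl⟩
    exact ⟨θ, ⟨h1, h2, h3⟩, rfl⟩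
  · rintro ⟨θ, ⟨h1, h2, h3⟩, rfl⟩
    exact ⟨θ, h1, h2, h3, rfl⟩

theorem irrAbove_finite (K A : Subgroup L) : (irrAbove K A).Finite := by
  have h1 : (Set.range (Subtype.val : Cfsg.IrrCharacter K → (K → ℂ))).Finite :=
    Set.finite_range _
  apply h1.subset
  rintro θ ⟨h, -, -⟩
  exact ⟨⟨θ, h⟩, rfl⟩

theorem inducedIrrAbove_finite (K A : Subgroup L) : (Cfsg.inducedIrrAbove K A).Finite := by
  rw [inducedIrrAbove_eq]
  exact (irrAbove_finite K A).image _

theorem irrAbove_mono (K : Subgroup L) {A A' : Subgroup L} (h : A ≤ A') :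
    irrAbove K A' ⊆ irrAbove K A := by
  rintro θ ⟨h1, h2, h3⟩
  exact ⟨h1, h2, fun a ha => h3 a (h ha)⟩

theorem inducedIrrAbove_mono (K : Subgroup L) {A A' : Subgroup L} (h : A ≤ A') :
    Cfsg.inducedIrrAbove K A' ⊆ Cfsg.inducedIrrAbove K A := by
  rw [inducedIrrAbove_eq, inducedIrrAbove_eq]
  exact Set.image_mono (irrAbove_mono K h)

theorem cj_mem_irrAbove (K A : Subgroup L) [hK : K.Normal] [hA : A.Normal] {θ : K → ℂ}
    (hθ : θ ∈ irrAbove K A) (g : L) : cj K θ g ∈ irrAbove K A := by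
  obtain ⟨h1, h2, h3⟩ := hθ
  refine ⟨isIrr_cj K θ h1 g, ?_, ?_⟩
  · intro h
    apply h2
    have h4 : cj K (cj K θ g) g⁻¹ = θ := by
      rw [cj_mul, mul_inv_cancel, cj_one]
    rw [← h4, h]
    rfl
  · intro a ha
    rw [cj_apply, cj_apply]
    have h4 : θ ⟨g * (a : L) * g⁻¹, hK.conj_mem a a.2 g⟩ = θ 1 :=
      h3 ⟨g * (a : L) * g⁻¹, hK.conj_mem a a.2 g⟩ (hA.conj_mem a ha g)
    rw [h4]
    congr 1
    apply Subtype.ext
    simp

theorem conjFun_indFun (K : Subgroup L) (θ : K → ℂ) :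
    Cfsg.conjFun (Cfsg.indFun K θ) = Cfsg.indFun K (Cfsg.conjFun θ) := by
  funext g
  unfold Cfsg.conjFun Cfsg.indFun
  rw [map_mul, map_inv₀, Complex.conj_natCast, map_sum]
  congr 1
  apply Finset.sum_congr rfl
  intro x _
  by_cases hx : x⁻¹ * g * x ∈ K
  · rw [h7_extendByZero_mem K _ _ hx, h7_extendByZero_mem K _ _ hx]
  · rw [h7_extendByZero_not_mem K _ _ hx, h7_extendByZero_not_mem K _ _ hx, map_zero]

theorem conj_mem_irrAbove (K A : Subgroup L) {θ : K → ℂ} (hθ : θ ∈ irrAbove K A) :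
    Cfsg.conjFun θ ∈ irrAbove K A := by
  obtain ⟨h1, h2, h3⟩ := hθ
  refine ⟨(irrConj ⟨θ, h1⟩).2, ?_, ?_⟩
  · intro h
    apply h2
    funext k
    have := congrFun h k
    unfold Cfsg.conjFun at this
    have h5 := congrArg (starRingEnd ℂ) this
    rw [Complex.conj_conj, map_one] at h5
    exact h5
  · intro a ha
    unfold Cfsg.conjFun
    rw [h3 a ha]

theorem conj_mem_inducedIrrAbove (K A : Subgroup L) {φ : L → ℂ}
    (hφ : φ ∈ Cfsg.inducedIrrAbove K A) : Cfsg.conjFun φ ∈ Cfsg.inducedIrrAbove K A := by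
  rw [inducedIrrAbove_eq] at hφ ⊢
  obtain ⟨θ, hθ, rfl⟩ := hφ
  exact ⟨Cfsg.conjFun θ, conj_mem_irrAbove K A hθ, (conjFun_indFun K θ).symm⟩

/-- the squared norm of an induced irreducible character of a normal subgroup is the index of
the subgroup in the inertia group -/
theorem norm_indFun (K : Subgroup L) [hK : K.Normal] (θ : K → ℂ)
    (hθ : Cfsg.IsIrrCharacter K θ) :
    Cfsg.classInner (Cfsg.indFun K θ) (Cfsg.indFun K θ) * (Nat.card K : ℂ) =
      (Nat.card {g : L // ∀ h : K, cj K θ g h = θ h} : ℂ) := by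
  classical
  have : Fintype K := Fintype.ofFinite _
  have hKne : (Nat.card K : ℂ) ≠ 0 := by exact_mod_cast Nat.card_pos.ne'
  rw [h7_frobenius_reciprocity K θ _ (h7_indFun_isClassFunction K θ), indFun_restrict_normal,
    classInner_conj_symm, classInner_smul_left', classInner_sum_left']
  have h1 : ∑ ψ ∈ Finset.univ.image (fun g : L => cj K θ g), Cfsg.classInner ψ θ = 1 := by
    rw [Finset.sum_eq_single θ]
    · exact h7_irr_norm hθ
    · intro ψ hψ hne
      obtain ⟨g, -, rfl⟩ := Finset.mem_image.mp hψ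
      exact h7_irr_inner_ne (isIrr_cj K θ hθ g) hθ hne
    · intro h
      exfalso
      apply h
      exact Finset.mem_image.mpr ⟨1, Finset.mem_univ _, cj_one K θ⟩
  rw [h1, mul_one, map_div₀, Complex.conj_natCast, Complex.conj_natCast]
  field_simp

theorem norm_indFun_ne_zero (K : Subgroup L) [hK : K.Normal] (θ : K → ℂ)
    (hθ : Cfsg.IsIrrCharacter K θ) :
    Cfsg.classInner (Cfsg.indFun K θ) (Cfsg.indFun K θ) ≠ 0 := by
  intro h
  have h1 := norm_indFun K θ hθ
  rw [h, zero_mul] at h1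
  have h2 : (0 : ℕ) < Nat.card {g : L // ∀ h : K, cj K θ g h = θ h} := by
    have : Nonempty {g : L // ∀ h : K, cj K θ g h = θ h} := ⟨⟨1, fun h => by rw [cj_one]⟩⟩
    exact Nat.card_pos
  have h3 : (Nat.card {g : L // ∀ h : K, cj K θ g h = θ h} : ℂ) ≠ 0 := by
    exact_mod_cast h2.ne'
  exact h3 h1.symm

theorem indFun_eq_iff (K : Subgroup L) [hK : K.Normal] (θ θ' : K → ℂ)
    (hθ : Cfsg.IsIrrCharacter K θ) (hθ' : Cfsg.IsIrrCharacter K θ') :
    Cfsg.indFun K θ' = Cfsg.indFun K θ ↔ ∃ g : L, θ' = cj K θ g := by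
  constructor
  · intro h
    by_contra hne
    have h1 := classInner_indFun_of_not_conj K θ θ' hθ hθ' hne
    rw [h] at h1
    exact norm_indFun_ne_zero K θ hθ h1
  · rintro ⟨g, rfl⟩
    exact indFun_cj K θ g

theorem cj_one_apply (K : Subgroup L) [hK : K.Normal] (θ : K → ℂ) (g : L) :
    cj K θ g 1 = θ 1 := by
  rw [cj_apply]
  congr 1
  apply Subtype.ext
  simp

/-- the weighted degree sum over the induced characters in terms of the characters of `K` -/
theorem sum_image_indFun (K A : Subgroup L) [hK : K.Normal] [hA : A.Normal]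
    [DecidableEq (L → ℂ)] :
    ∑ φ ∈ (irrAbove_finite K A).toFinset.image (fun θ : K → ℂ => Cfsg.indFun K θ),
        φ 1 ^ 2 / Cfsg.classInner φ φ =
      (K.index : ℂ) * ∑ θ ∈ (irrAbove_finite K A).toFinset, θ 1 ^ 2 := by
  classical
  obtain ⟨I, hI⟩ : ∃ I : Finset (K → ℂ), I = (irrAbove_finite K A).toFinset := ⟨_, rfl⟩
  rw [← hI]
  have hmemI : ∀ θ, θ ∈ I ↔ θ ∈ irrAbove K A := by
    intro θ
    rw [hI, Set.Finite.mem_toFinset]
  rw [Finset.mul_sum]
  rw [← Finset.sum_fiberwise_of_maps_to (s := I) (t := I.image (fun θ : K → ℂ => Cfsg.indFun K θ))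
    (g := fun θ : K → ℂ => Cfsg.indFun K θ) (fun θ hθ => Finset.mem_image_of_mem _ hθ)
    (fun θ => (K.index : ℂ) * θ 1 ^ 2)]
  apply Finset.sum_congr rfl
  intro φ hφ
  obtain ⟨θ₀, hθ₀, rfl⟩ := Finset.mem_image.mp hφ
  have hθ₀' := (hmemI θ₀).mp hθ₀
  have hirr := hθ₀'.1
  have hfib : I.filter (fun θ => Cfsg.indFun K θ = Cfsg.indFun K θ₀) =
      Finset.univ.image (fun g : L => cj K θ₀ g) := by
    ext θ
    rw [Finset.mem_filter, Finset.mem_image]
    constructor
    · rintro ⟨h1, h2⟩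
      obtain ⟨g, hg⟩ := (indFun_eq_iff K θ₀ θ hirr ((hmemI θ).mp h1).1).mp h2
      exact ⟨g, Finset.mem_univ _, hg.symm⟩
    · rintro ⟨g, -, rfl⟩
      exact ⟨(hmemI _).mpr (cj_mem_irrAbove K A hθ₀' g), indFun_cj K θ₀ g⟩
  rw [hfib]
  have hconst : ∀ θ ∈ Finset.univ.image (fun g : L => cj K θ₀ g),
      (K.index : ℂ) * θ 1 ^ 2 = (K.index : ℂ) * θ₀ 1 ^ 2 := by
    intro θ hθ
    obtain ⟨g, -, rfl⟩ := Finset.mem_image.mp hθ
    rw [cj_one_apply]
  rw [Finset.sum_congr rfl hconst, Finset.sum_const, nsmul_eq_mul]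
  have h1 := card_orbit_mul K θ₀
  have h2 := norm_indFun K θ₀ hirr
  have h3 : K.index * Nat.card K = Nat.card L := Subgroup.index_mul_card K
  have hKne : (Nat.card K : ℂ) ≠ 0 := by exact_mod_cast Nat.card_pos.ne'
  have hne := norm_indFun_ne_zero K θ₀ hirr
  have h4 : ((Finset.univ.image (fun g : L => cj K θ₀ g)).card : ℂ) *
      Cfsg.classInner (Cfsg.indFun K θ₀) (Cfsg.indFun K θ₀) = (K.index : ℂ) := by
    have h5 : ((Finset.univ.image (fun g : L => cj K θ₀ g)).card : ℂ) *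
        (Nat.card {g : L // ∀ h : K, cj K θ₀ g h = θ₀ h} : ℂ) = (Nat.card L : ℂ) := by
      exact_mod_cast h1
    have h6 : (K.index : ℂ) * (Nat.card K : ℂ) = (Nat.card L : ℂ) := by exact_mod_cast h3
    rw [← h2, ← h6, ← mul_assoc] at h5
    exact mul_right_cancel₀ hKne h5
  rw [h7_indFun_one, div_eq_iff hne, ← h4]
  ring

/-- sum of the squares of the degrees of the non-principal irreducible characters of `K` trivial
on `A` -/
theorem sum_sq_irrAbove (K A : Subgroup L) [hK : K.Normal] [hA : A.Normal] :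
    ∑ θ ∈ (irrAbove_finite K A).toFinset, θ 1 ^ 2 = (A.relIndex K : ℂ) - 1 := by
  classical
  have : Fintype (Cfsg.IrrCharacter K) := Fintype.ofFinite _
  have hVn : (A.subgroupOf K).Normal := Subgroup.normal_subgroupOf
  have key := knb_sum_sq_ker (X := K) (A.subgroupOf K)
  have hcard : A.relIndex K * Nat.card (A.subgroupOf K) = Nat.card K :=
    Subgroup.index_mul_card (A.subgroupOf K)
  have hVne : (Nat.card (A.subgroupOf K) : ℂ) ≠ 0 := by exact_mod_cast Nat.card_pos.ne'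
  have h1 : ∑ χ ∈ Finset.univ.filter
      (fun χ : Cfsg.IrrCharacter K => ∀ w ∈ A.subgroupOf K, (χ : K → ℂ) w = (χ : K → ℂ) 1),
      (χ : K → ℂ) 1 * (χ : K → ℂ) 1 = (A.relIndex K : ℂ) := by
    have h2 : (A.relIndex K : ℂ) * (Nat.card (A.subgroupOf K) : ℂ) = (Nat.card K : ℂ) := by
      exact_mod_cast hcard
    rw [← h2] at key
    exact mul_left_cancel₀ hVne (by rw [key]; ring)
  obtain ⟨F', hF'⟩ : ∃ F' : Finset (Cfsg.IrrCharacter K),
      F' = Finset.univ.filter (fun χ : Cfsg.IrrCharacter K => (χ : K → ℂ) ∈ irrAbove K A) :=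
    ⟨_, rfl⟩
  have hins : Finset.univ.filter
      (fun χ : Cfsg.IrrCharacter K => ∀ w ∈ A.subgroupOf K, (χ : K → ℂ) w = (χ : K → ℂ) 1) =
      insert (trivIrr K) F' := by
    ext χ
    rw [Finset.mem_filter, Finset.mem_insert, hF', Finset.mem_filter]
    constructor
    · rintro ⟨-, h⟩
      by_cases hχ : χ = trivIrr K
      · left; exact hχ
      · right
        refine ⟨Finset.mem_univ _, χ.2, ?_, ?_⟩
        · intro h3
          apply hχ
          apply Subtype.ext
          rw [h3]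
          rfl
        · intro a ha
          exact h a (Subgroup.mem_subgroupOf.mpr ha)
    · rintro (h | ⟨-, h⟩)
      · refine ⟨Finset.mem_univ _, ?_⟩
        intro w _
        rw [h, trivIrr_apply, trivIrr_apply]
      · refine ⟨Finset.mem_univ _, ?_⟩
        intro w hw
        exact h.2.2 w (Subgroup.mem_subgroupOf.mp hw)
  have hnot : trivIrr K ∉ F' := by
    rw [hF', Finset.mem_filter]
    rintro ⟨-, h⟩
    exact h.2.1 rfl
  rw [hins, Finset.sum_insert hnot, trivIrr_apply, mul_one] at h1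
  have himg : (irrAbove_finite K A).toFinset = F'.image Subtype.val := by
    ext θ
    rw [Set.Finite.mem_toFinset, Finset.mem_image, hF']
    constructor
    · intro h
      exact ⟨⟨θ, h.1⟩, Finset.mem_filter.mpr ⟨Finset.mem_univ _, h⟩, rfl⟩
    · rintro ⟨χ, hχ, rfl⟩
      exact (Finset.mem_filter.mp hχ).2
  rw [himg, Finset.sum_image (fun x _ y _ h => Subtype.ext h)]
  rw [← h1]
  have h4 : ∀ χ ∈ F', (χ : K → ℂ) 1 ^ 2 = (χ : K → ℂ) 1 * (χ : K → ℂ) 1 := fun χ _ => sq _
  rw [Finset.sum_congr rfl h4]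
  ring

/-- a solvable `K` has a non-principal linear character trivial on a proper normal subgroup -/
theorem exists_linear (K A : Subgroup L) [hK : K.Normal] [hA : A.Normal]
    (hsolv : Group.IsSolvable K) (hAK : A < K) :
    ∃ θ ∈ irrAbove K A, θ 1 = 1 := by
  have hVn : (A.subgroupOf K).Normal := Subgroup.normal_subgroupOf
  have hVtop : A.subgroupOf K ≠ ⊤ := by
    intro h
    rw [Subgroup.subgroupOf_eq_top] at h
    exact (not_le_of_gt hAK) h
  obtain ⟨N, hN⟩ : ∃ N : Subgroup K, N = A.subgroupOf K ⊔ commutator K := ⟨_, rfl⟩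
  have hNn : N.Normal := by
    rw [hN]
    infer_instance
  have hab : ∀ x y : K, x * y * x⁻¹ * y⁻¹ ∈ N := by
    intro x y
    rw [hN]
    apply Subgroup.mem_sup_right
    have := Subgroup.commutator_mem_commutator (Subgroup.mem_top x) (Subgroup.mem_top y)
    rw [commutatorElement_def] at this
    rw [commutator_def]
    exact this
  have hNtop : N ≠ ⊤ := by
    intro h
    have hnt : Nontrivial (K ⧸ A.subgroupOf K) := by
      rw [QuotientGroup.nontrivial_iff]
      exact hVtop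
    have hsq : Group.IsSolvable (K ⧸ A.subgroupOf K) := inferInstance
    have hlt := Group.IsSolvable.commutator_lt_top_of_nontrivial (K ⧸ A.subgroupOf K)
    apply ne_of_lt hlt
    have h1 : N.map (QuotientGroup.mk' (A.subgroupOf K)) = ⊤ := by
      rw [h]
      exact Subgroup.map_top_of_surjective _ (QuotientGroup.mk'_surjective _)
    rw [hN, Subgroup.map_sup, QuotientGroup.map_mk'_self, bot_sup_eq, commutator_def,
      Subgroup.map_commutator,
      Subgroup.map_top_of_surjective _ (QuotientGroup.mk'_surjective _)] at h1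
    rw [commutator_def]
    exact h1
  obtain ⟨u, hu⟩ : ∃ u : K, u ∉ N := by
    by_contra hcon
    push Not at hcon
    exact hNtop (eq_top_iff.mpr (fun x _ => hcon x))
  obtain ⟨φ, hφ1, hφ2⟩ := exists_annih_ne_one N hab u hu
  refine ⟨(linIrr φ : K → ℂ), ⟨(linIrr φ).2, ?_, ?_⟩, ?_⟩
  · intro h
    have h1 := congrFun h u
    rw [linIrr_apply] at h1
    apply hφ2
    exact Units.ext h1
  · intro a ha
    have h1 : a ∈ N := by
      rw [hN]
      exact Subgroup.mem_sup_left (Subgroup.mem_subgroupOf.mpr ha)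
    rw [linIrr_apply, linIrr_apply, hφ1 a h1, map_one]
  · rw [linIrr_apply, map_one, Units.val_one]

theorem card_relIndex_mul {D C : Subgroup L} (h : D ≤ C) :
    D.relIndex C * Nat.card D = Nat.card C := by
  have h1 : Nat.card (D.subgroupOf C) = Nat.card D :=
    Nat.card_congr (Subgroup.subgroupOfEquivOfLe h).toEquiv
  rw [← h1]
  exact Subgroup.index_mul_card (D.subgroupOf C)

/-- the degree bound for characters of `K` trivial on `B` when `D / B` is central in `C / B` -/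
theorem degree_bound (K B C D : Subgroup L) [hB : B.Normal] (hBD : B ≤ D) (hDC : D ≤ C)
    (hCK : C ≤ K) (hcent : ∀ x ∈ D, ∀ y ∈ C, x * y * x⁻¹ * y⁻¹ ∈ B)
    {θ : K → ℂ} (hθ : θ ∈ irrAbove K B) (dθ : ℕ) (hd : θ 1 = (dθ : ℂ)) :
    dθ ^ 2 ≤ C.relIndex K ^ 2 * D.relIndex C := by
  have h1 := Cfsg.Agent.S1492.result θ hθ.1 (B.subgroupOf K) (C.subgroupOf K) (D.subgroupOf K)
    (fun x hx => Subgroup.mem_subgroupOf.mpr (hBD (Subgroup.mem_subgroupOf.mp hx)))
    (fun x hx => Subgroup.mem_subgroupOf.mpr (hDC (Subgroup.mem_subgroupOf.mp hx)))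
    (fun c _ b hb => Subgroup.mem_subgroupOf.mpr (by
      have := hB.conj_mem (b : L) (Subgroup.mem_subgroupOf.mp hb) (c : L)
      simpa using this))
    (fun d hd c hc => Subgroup.mem_subgroupOf.mpr (by
      have := hcent (d : L) (Subgroup.mem_subgroupOf.mp hd) (c : L) (Subgroup.mem_subgroupOf.mp hc)
      simpa using this))
    (fun b hb => hθ.2.2 b (Subgroup.mem_subgroupOf.mp hb))
  have hcC : Nat.card (C.subgroupOf K) = Nat.card C :=
    Nat.card_congr (Subgroup.subgroupOfEquivOfLe hCK).toEquiv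
  have hcD : Nat.card (D.subgroupOf K) = Nat.card D :=
    Nat.card_congr (Subgroup.subgroupOfEquivOfLe (hDC.trans hCK)).toEquiv
  rw [hd, hcC, hcD, Complex.norm_natCast] at h1
  have h2 : C.relIndex K * Nat.card C = Nat.card K := card_relIndex_mul hCK
  have h3 : D.relIndex C * Nat.card D = Nat.card C := card_relIndex_mul hDC
  have h4 : dθ ^ 2 * Nat.card C * Nat.card D ≤ Nat.card K ^ 2 := by exact_mod_cast h1
  have h5 : Nat.card K ^ 2 = (C.relIndex K ^ 2 * D.relIndex C) * (Nat.card C * Nat.card D) := by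
    have h6 : Nat.card K ^ 2 =
        C.relIndex K ^ 2 * (Nat.card C * (D.relIndex C * Nat.card D)) := by
      rw [h3, ← h2]
      ring
    rw [h6]
    ring
  rw [h5, mul_assoc] at h4
  have hpos : 0 < Nat.card C * Nat.card D := Nat.mul_pos Nat.card_pos Nat.card_pos
  exact Nat.le_of_mul_le_mul_right h4 hpos

end Cfsg.Agent.Lib.Helper11.SeqInd
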