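import Mathlib
import Cfsg.Agent.Lib.Helper11.SeqInd

set_option autoImplicit false
open scoped ComplexConjugate

namespace Cfsg.Agent.Lib.Helper11.SeqIndCoh

open Cfsg.Agent.Lib.Helper11 Cfsg.Agent.Lib.helper7 Cfsg.Agent.Lib.helper2 Cfsg.Agent.Lib.Helper25
  Cfsg.Agent.Lib.Helper11.SeqInd

variable {L : Type*} [Group L] [Fintype L] {G : Type*} [Group G] [Fintype G]

/-- a subset of a coherent set is coherent -/
theorem coherent_subset {S' S'' : Set (L → ℂ)} {A : Set L} {τ : (L → ℂ) → (G → ℂ)}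
    (h : Cfsg.IsCoherent S' A τ) (hsub : S'' ⊆ S')
    (hne : ∃ α ∈ Cfsg.zspanOn S'' A, α ≠ 0) : Cfsg.IsCoherent S'' A τ := by
  obtain ⟨_, τ₁, hτ₁, hag⟩ := h
  exact ⟨hne, τ₁, isoOn_mono (fun a ha => zspan_mono hsub ha) hτ₁,
    fun α hα => hag α (zspanOn_mono hsub A hα)⟩

/-- degree and norm functions on a set of characters -/
theorem exists_deg_norm (S : Set (L → ℂ)) (hS : ∀ χ ∈ S, Cfsg.IsCharacter L χ) :
    ∃ d n : (L → ℂ) → ℕ, (∀ φ ∈ S, φ 1 = (d φ : ℂ)) ∧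
      (∀ φ ∈ S, Cfsg.classInner φ φ = (n φ : ℂ)) := by
  classical
  have hdex : ∀ φ : L → ℂ, ∃ m : ℕ, φ ∈ S → φ 1 = (m : ℂ) := by
    intro φ
    by_cases h : φ ∈ S
    · obtain ⟨m, hm⟩ := isCharacter_one_eq_nat (hS φ h)
      exact ⟨m, fun _ => hm⟩
    · exact ⟨0, fun h' => absurd h' h⟩
  have hnex : ∀ φ : L → ℂ, ∃ m : ℕ, φ ∈ S → Cfsg.classInner φ φ = (m : ℂ) := by
    intro φ
    by_cases h : φ ∈ S
    · obtain ⟨m, hm⟩ := classInner_character_nat (hS φ h) (hS φ h)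
      exact ⟨m, fun _ => hm⟩
    · exact ⟨0, fun h' => absurd h' h⟩
  choose d hd using hdex
  choose n hn using hnex
  exact ⟨d, n, fun φ h => hd φ h, fun φ h => hn φ h⟩

/-- a nonzero element of the integer span of `S(B)` vanishing at `1` -/
theorem exists_ne_zero (K B : Subgroup L) [hK : K.Normal] [hB : B.Normal]
    (hsolv : Group.IsSolvable K) (hBK : B < K)
    (hconj : ∀ χ ∈ Cfsg.inducedIrrAbove K B, Cfsg.conjFun χ ≠ χ) :
    ∃ α ∈ Cfsg.zspanOn (Cfsg.inducedIrrAbove K B) {1}ᶜ, α ≠ 0 := by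
  obtain ⟨θ, hθ, hθ1⟩ := exists_linear K B hsolv hBK
  have hχ : Cfsg.indFun K θ ∈ Cfsg.inducedIrrAbove K B := by
    rw [inducedIrrAbove_eq]
    exact ⟨θ, hθ, rfl⟩
  refine ⟨Cfsg.indFun K θ - Cfsg.conjFun (Cfsg.indFun K θ), ?_, ?_⟩
  · apply mem_zspanOn_one
      (zspan_sub (zspan_of_mem hχ) (zspan_of_mem (conj_mem_inducedIrrAbove K B hχ)))
    rw [Pi.sub_apply]
    unfold Cfsg.conjFun
    rw [h7_indFun_one, hθ1, mul_one, Complex.conj_natCast, sub_self]
  · intro h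
    apply hconj _ hχ
    exact (sub_eq_zero.mp h).symm

/-- the weighted degree sum over `S(A)` -/
theorem sum_FA (K A : Subgroup L) [hK : K.Normal] [hA : A.Normal] (d n : (L → ℂ) → ℕ)
    (hd : ∀ φ ∈ Cfsg.inducedIrrAbove K A, φ 1 = (d φ : ℂ))
    (hn : ∀ φ ∈ Cfsg.inducedIrrAbove K A, Cfsg.classInner φ φ = (n φ : ℂ)) :
    ∑ φ ∈ (inducedIrrAbove_finite K A).toFinset, ((d φ : ℝ) ^ 2 / (n φ : ℝ)) =
      (K.index : ℝ) * ((A.relIndex K : ℝ) - 1) := by
  classical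
  have h1 := sum_image_indFun K A
  rw [sum_sq_irrAbove] at h1
  have hFA : (inducedIrrAbove_finite K A).toFinset =
      (irrAbove_finite K A).toFinset.image (fun θ : K → ℂ => Cfsg.indFun K θ) := by
    ext φ
    rw [Set.Finite.mem_toFinset, inducedIrrAbove_eq, Finset.mem_image]
    constructor
    · rintro ⟨θ, hθ, rfl⟩
      exact ⟨θ, (Set.Finite.mem_toFinset _).mpr hθ, rfl⟩
    · rintro ⟨θ, hθ, rfl⟩
      exact ⟨θ, (Set.Finite.mem_toFinset _).mp hθ, rfl⟩
  rw [← hFA] at h1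
  apply Complex.ofReal_injective
  push_cast
  rw [← h1]
  apply Finset.sum_congr rfl
  intro φ hφ
  have hφ' := (Set.Finite.mem_toFinset _).mp hφ
  rw [hd φ hφ', hn φ hφ']

/-- the degree of an induced character -/
theorem deg_indFun (K : Subgroup L) (d : (L → ℂ) → ℕ) (θ : K → ℂ) (dθ : ℕ)
    (hθ : θ 1 = (dθ : ℂ)) (hd : Cfsg.indFun K θ 1 = (d (Cfsg.indFun K θ) : ℂ)) :
    d (Cfsg.indFun K θ) = K.index * dθ := by
  rw [h7_indFun_one, hθ] at hd
  have : ((K.index * dθ : ℕ) : ℂ) = (d (Cfsg.indFun K θ) : ℂ) := by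
    push_cast
    exact hd
  exact (Nat.cast_injective this).symm

/-- **Peterfalvi (6.4)**: the bounded coherence criterion -/
theorem coherent_of_bound (K : Subgroup L) [hK : K.Normal] (hsolv : Group.IsSolvable K)
    (τ : (L → ℂ) → (G → ℂ)) (R : (L → ℂ) → Finset (G → ℂ))
    (hS : Cfsg.IsCoherenceSystem (Cfsg.inducedIrrAbove K ⊥) τ R)
    (A B C D : Subgroup L) [hA : A.Normal] [hB : B.Normal]
    (hAK : A < K) (hBK : B < K) (hBD : B ≤ D) (hDC : D ≤ C) (hCK : C ≤ K)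
    (hcent : ∀ x ∈ D, ∀ y ∈ C, x * y * x⁻¹ * y⁻¹ ∈ B)
    (hcohA : Cfsg.IsCoherent (Cfsg.inducedIrrAbove K A) {1}ᶜ τ)
    (hlt : 4 * C.index ^ 2 * D.relIndex C < (A.relIndex K - 1) ^ 2) :
    Cfsg.IsCoherent (Cfsg.inducedIrrAbove K B) {1}ᶜ τ := by
  classical
  obtain ⟨S, hSdef⟩ : ∃ S : Set (L → ℂ), S = Cfsg.inducedIrrAbove K ⊥ := ⟨_, rfl⟩
  rw [← hSdef] at hS
  have hAS : Cfsg.inducedIrrAbove K A ⊆ S := hSdef ▸ inducedIrrAbove_mono K bot_le
  have hBS : Cfsg.inducedIrrAbove K B ⊆ S := hSdef ▸ inducedIrrAbove_mono K bot_le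
  obtain ⟨d, n, hd, hn⟩ := exists_deg_norm S hS.isCharacter
  obtain ⟨FA, hFA⟩ : ∃ FA : Finset (L → ℂ), FA = (inducedIrrAbove_finite K A).toFinset :=
    ⟨_, rfl⟩
  have hFAmem : ∀ φ, φ ∈ FA ↔ φ ∈ Cfsg.inducedIrrAbove K A := by
    intro φ
    rw [hFA, Set.Finite.mem_toFinset]
  have hsumA : ∑ φ ∈ FA, ((d φ : ℝ) ^ 2 / (n φ : ℝ)) =
      (K.index : ℝ) * ((A.relIndex K : ℝ) - 1) := by
    rw [hFA]
    exact sum_FA K A d n (fun φ h => hd φ (hAS h)) (fun φ h => hn φ (hAS h))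
  -- the linear character
  obtain ⟨θ₁, hθ₁, hθ₁1⟩ := exists_linear K A hsolv hAK
  obtain ⟨χ₁, hχ₁def⟩ : ∃ χ₁ : L → ℂ, χ₁ = Cfsg.indFun K θ₁ := ⟨_, rfl⟩
  have hχ₁A : χ₁ ∈ Cfsg.inducedIrrAbove K A := by
    rw [inducedIrrAbove_eq, hχ₁def]
    exact ⟨θ₁, hθ₁, rfl⟩
  have hdχ₁ : d χ₁ = K.index := by
    have h1 := deg_indFun K d θ₁ 1 (by rw [hθ₁1]; simp) (hχ₁def ▸ hd χ₁ (hAS hχ₁A))
    rw [hχ₁def, h1, mul_one]
  have hepos : 0 < K.index := Nat.pos_of_ne_zero Subgroup.index_ne_zero_of_finite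
  -- the inequality
  have hineq : ∀ χ ∈ Cfsg.inducedIrrAbove K B, K.index ∣ d χ ∧
      (2 * (d χ : ℝ) * (K.index : ℝ)) < (K.index : ℝ) * ((A.relIndex K : ℝ) - 1) := by
    intro χ hχ
    have hχ' := hχ
    rw [inducedIrrAbove_eq] at hχ'
    obtain ⟨θ, hθ, rfl⟩ := hχ'
    obtain ⟨dθ, -, hdθ⟩ := irr_one_eq_finrank ⟨θ, hθ.1⟩
    have h1 := deg_indFun K d θ dθ hdθ (hd _ (hBS hχ))
    refine ⟨⟨dθ, h1⟩, ?_⟩
    have h2 := degree_bound K B C D hBD hDC hCK hcent hθ dθ hdθ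
    have h3 : C.relIndex K * K.index = C.index := Subgroup.relIndex_mul_index hCK
    have h4 : (2 * (K.index * dθ)) ^ 2 < (A.relIndex K - 1) ^ 2 := by
      calc (2 * (K.index * dθ)) ^ 2 = 4 * K.index ^ 2 * dθ ^ 2 := by ring
        _ ≤ 4 * K.index ^ 2 * (C.relIndex K ^ 2 * D.relIndex C) :=
          Nat.mul_le_mul_left _ h2
        _ = 4 * C.index ^ 2 * D.relIndex C := by rw [← h3]; ring
        _ < _ := hlt
    have h5 : 2 * (K.index * dθ) < A.relIndex K - 1 := lt_of_pow_lt_pow_left₀ 2 (Nat.zero_le _) h4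
    have h6 : ((2 * (K.index * dθ) : ℕ) : ℝ) < ((A.relIndex K - 1 : ℕ) : ℝ) := by
      exact_mod_cast h5
    have h7 : ((A.relIndex K - 1 : ℕ) : ℝ) ≤ (A.relIndex K : ℝ) - 1 := by
      rw [Nat.cast_pred]
      exact Nat.pos_of_ne_zero (Subgroup.index_ne_zero_of_finite (H := A.subgroupOf K))
    have h8 : (2 * ((K.index : ℝ) * (dθ : ℝ))) < (A.relIndex K : ℝ) - 1 := by
      have : ((2 * (K.index * dθ) : ℕ) : ℝ) = 2 * ((K.index : ℝ) * (dθ : ℝ)) := by push_cast; ring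
      rw [← this]
      exact lt_of_lt_of_le h6 h7
    rw [h1]
    push_cast
    have hepos' : (0 : ℝ) < (K.index : ℝ) := by exact_mod_cast hepos
    nlinarith
  -- the induction
  have hind : ∀ U : Finset (L → ℂ), (↑U : Set (L → ℂ)) ⊆ Cfsg.inducedIrrAbove K B →
      Cfsg.IsCoherent (↑(FA ∪ U ∪ U.image Cfsg.conjFun) : Set (L → ℂ)) {1}ᶜ τ := by
    intro U
    induction U using Finset.induction_on with
    | empty =>
      intro _
      have h1 : (↑(FA ∪ ∅ ∪ (∅ : Finset (L → ℂ)).image Cfsg.conjFun) : Set (L → ℂ)) =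
          Cfsg.inducedIrrAbove K A := by
        ext φ
        simp [hFAmem]
      rw [h1]
      exact hcohA
    | insert χ U hχU ih =>
      intro hsub
      have hχB : χ ∈ Cfsg.inducedIrrAbove K B := hsub (by simp)
      have hUB : (↑U : Set (L → ℂ)) ⊆ Cfsg.inducedIrrAbove K B :=
        fun φ hφ => hsub (by simp only [Finset.coe_insert]; exact Set.mem_insert_of_mem _ hφ)
      have ih' := ih hUB
      obtain ⟨S₁, hS₁⟩ : ∃ S₁ : Finset (L → ℂ), S₁ = FA ∪ U ∪ U.image Cfsg.conjFun := ⟨_, rfl⟩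
      rw [← hS₁] at ih'
      have hS₁c : ∀ φ ∈ S₁, Cfsg.conjFun φ ∈ S₁ := by
        intro φ hφ
        rw [hS₁, Finset.mem_union, Finset.mem_union] at hφ ⊢
        rcases hφ with (h | h) | h
        · left; left
          exact (hFAmem _).mpr (conj_mem_inducedIrrAbove K A ((hFAmem _).mp h))
        · right
          exact Finset.mem_image_of_mem _ h
        · left; right
          obtain ⟨ψ, hψ, rfl⟩ := Finset.mem_image.mp h
          rw [conjFun_conjFun]
          exact hψ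
      have hS₁S : (↑S₁ : Set (L → ℂ)) ⊆ S := by
        intro φ hφ
        have hφ' : φ ∈ S₁ := hφ
        rw [hS₁, Finset.mem_union, Finset.mem_union] at hφ'
        rcases hφ' with (h | h) | h
        · exact hAS ((hFAmem _).mp h)
        · exact hBS (hUB h)
        · obtain ⟨ψ, hψ, rfl⟩ := Finset.mem_image.mp h
          exact hBS (conj_mem_inducedIrrAbove K B (hUB hψ))
      have hset : (↑(FA ∪ insert χ U ∪ (insert χ U).image Cfsg.conjFun) : Set (L → ℂ)) =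
          ↑S₁ ∪ {χ, Cfsg.conjFun χ} := by
        ext φ
        rw [hS₁]
        simp only [Finset.coe_union, Finset.coe_insert, Finset.coe_image, Set.mem_union,
          Set.mem_insert_iff, Set.mem_image, Finset.mem_coe, Set.mem_singleton_iff,
          Finset.image_insert]
        obtain ⟨P, hP⟩ : ∃ P : Prop, P = (∃ x ∈ U, Cfsg.conjFun x = φ) := ⟨_, rfl⟩
        rw [← hP]
        tauto
      rw [hset]
      by_cases hχS₁ : χ ∈ S₁
      · have h1 : (↑S₁ ∪ {χ, Cfsg.conjFun χ} : Set (L → ℂ)) = ↑S₁ := by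
          apply Set.union_eq_self_of_subset_right
          intro φ hφ
          rcases hφ with rfl | hφ
          · exact hχS₁
          · rw [Set.mem_singleton_iff.mp hφ]
            exact hS₁c χ hχS₁
        rw [h1]
        exact ih'
      · have hχ₂ : Cfsg.conjFun χ ∉ S₁ := by
          intro h
          apply hχS₁
          have := hS₁c _ h
          rwa [conjFun_conjFun] at this
        have hχ₁S₁ : χ₁ ∈ S₁ := by
          rw [hS₁, Finset.mem_union, Finset.mem_union]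
          left; left
          exact (hFAmem _).mpr hχ₁A
        obtain ⟨hdvd, hlt'⟩ := hineq χ hχB
        apply coherent_extend hS d n hd hn S₁ hS₁S hS₁c ih' χ (hBS hχB) hχS₁ hχ₂ χ₁ hχ₁S₁
        · rw [hdχ₁]
          exact hdvd
        · rw [hdχ₁]
          refine lt_of_lt_of_le hlt' ?_
          rw [← hsumA]
          apply Finset.sum_le_sum_of_subset_of_nonneg
          · intro φ hφ
            rw [hS₁, Finset.mem_union, Finset.mem_union]
            left; left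
            exact hφ
          · intro φ _ _
            positivity
  -- conclusion
  obtain ⟨FB, hFB⟩ : ∃ FB : Finset (L → ℂ), FB = (inducedIrrAbove_finite K B).toFinset :=
    ⟨_, rfl⟩
  have hFBmem : ∀ φ, φ ∈ FB ↔ φ ∈ Cfsg.inducedIrrAbove K B := by
    intro φ
    rw [hFB, Set.Finite.mem_toFinset]
  have hfinal := hind FB (fun φ hφ => (hFBmem φ).mp hφ)
  apply coherent_subset hfinal
  · intro φ hφ
    have : φ ∈ FA ∪ FB ∪ FB.image Cfsg.conjFun := by
      rw [Finset.mem_union, Finset.mem_union]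
      left; right
      exact (hFBmem φ).mpr hφ
    exact this
  · apply exists_ne_zero K B hsolv hBK
    intro χ hχ
    exact hS.conj_ne χ (hBS hχ)

end Cfsg.Agent.Lib.Helper11.SeqIndCoh
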