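import Mathlib
import Cfsg.Agent.Lib.Helper11.SeqIndCoh
import Cfsg.Agent.Lib.Helper11.FeitCrit
import Cfsg.Agent.Lib.Helper11.EqDeg

set_option autoImplicit false
open scoped ComplexConjugate

namespace Cfsg.Agent.Lib.Helper11.BoundIrr

open Cfsg.Agent.Lib.Helper11 Cfsg.Agent.Lib.helper7 Cfsg.Agent.Lib.helper2 Cfsg.Agent.Lib.Helper25
  Cfsg.Agent.Lib.Helper11.SeqInd Cfsg.Agent.Lib.Helper11.SeqIndCoh

variable {L : Type*} [Group L] [Fintype L] {G : Type*} [Group G] [Fintype G]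

/-- sum of the squares of the degrees over `S(A)` when all members are irreducible -/
theorem sum_sq_nat (K A : Subgroup L) [hK : K.Normal] [hA : A.Normal] (d : (L → ℂ) → ℕ)
    (hd : ∀ φ ∈ Cfsg.inducedIrrAbove K A, φ 1 = (d φ : ℂ))
    (hirr : ∀ φ ∈ Cfsg.inducedIrrAbove K A, Cfsg.IsIrrCharacter L φ) :
    ∑ φ ∈ (inducedIrrAbove_finite K A).toFinset, d φ ^ 2 = K.index * (A.relIndex K - 1) := by
  have h1 := sum_FA K A d (fun _ => 1) hd (by
    intro φ hφ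
    have := irr_classInner ⟨φ, hirr φ hφ⟩ ⟨φ, hirr φ hφ⟩
    rw [if_pos rfl] at this
    simp only at this
    rw [this]
    simp)
  have hpos : 1 ≤ A.relIndex K :=
    Nat.pos_of_ne_zero (Subgroup.index_ne_zero_of_finite (H := A.subgroupOf K))
  have h2 : ((∑ φ ∈ (inducedIrrAbove_finite K A).toFinset, d φ ^ 2 : ℕ) : ℝ) =
      ((K.index * (A.relIndex K - 1) : ℕ) : ℝ) := by
    rw [Nat.cast_mul, Nat.cast_sub hpos, Nat.cast_one, ← h1, Nat.cast_sum]
    apply Finset.sum_congr rfl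
    intro φ _
    simp
  exact_mod_cast h2

/-- the bounded coherence criterion for sets of irreducible induced characters -/
theorem coherent_of_bound_irr (K : Subgroup L) [hK : K.Normal] (hsolv : Group.IsSolvable K)
    (τ : (L → ℂ) → (G → ℂ))
    (hτ : Cfsg.IsLinearIsometryOn (Cfsg.zspanOn (Cfsg.inducedIrrAbove K ⊥) {1}ᶜ) τ)
    (hτ1 : ∀ α ∈ Cfsg.zspanOn (Cfsg.inducedIrrAbove K ⊥) {1}ᶜ, τ α 1 = 0)
    (hirrS : ∀ χ ∈ Cfsg.inducedIrrAbove K ⊥, Cfsg.IsIrrCharacter L χ)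
    (A B C D : Subgroup L) [hA : A.Normal] [hB : B.Normal]
    (hAK : A < K) (hBA : B ≤ A) (hBD : B ≤ D) (hDC : D ≤ C) (hCK : C ≤ K)
    (hcent : ∀ x ∈ D, ∀ y ∈ C, x * y * x⁻¹ * y⁻¹ ∈ B)
    (hcohA : Cfsg.IsCoherent (Cfsg.inducedIrrAbove K A) {1}ᶜ τ)
    (hlt : 4 * C.index ^ 2 * D.relIndex C < (A.relIndex K - 1) ^ 2) :
    Cfsg.IsCoherent (Cfsg.inducedIrrAbove K B) {1}ᶜ τ := by
  classical
  obtain ⟨S, hSdef⟩ : ∃ S : Set (L → ℂ), S = Cfsg.inducedIrrAbove K ⊥ := ⟨_, rfl⟩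
  rw [← hSdef] at hτ hτ1 hirrS
  have hAS : Cfsg.inducedIrrAbove K A ⊆ S := hSdef ▸ inducedIrrAbove_mono K bot_le
  have hBS : Cfsg.inducedIrrAbove K B ⊆ S := hSdef ▸ inducedIrrAbove_mono K bot_le
  have hAB : Cfsg.inducedIrrAbove K A ⊆ Cfsg.inducedIrrAbove K B := inducedIrrAbove_mono K hBA
  have hchar : ∀ χ ∈ S, Cfsg.IsCharacter L χ := fun χ hχ => isCharacter_of_irr ⟨χ, hirrS χ hχ⟩
  obtain ⟨d, n, hd, -⟩ := exists_deg_norm S hchar
  obtain ⟨FA, hFA⟩ : ∃ FA : Finset (L → ℂ), FA = (inducedIrrAbove_finite K A).toFinset :=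
    ⟨_, rfl⟩
  have hFAmem : ∀ φ, φ ∈ FA ↔ φ ∈ Cfsg.inducedIrrAbove K A := by
    intro φ
    rw [hFA, Set.Finite.mem_toFinset]
  have hsumA : ∑ φ ∈ FA, d φ ^ 2 = K.index * (A.relIndex K - 1) := by
    rw [hFA]
    exact sum_sq_nat K A d (fun φ h => hd φ (hAS h)) (fun φ h => hirrS φ (hAS h))
  -- the linear character
  obtain ⟨θ₁, hθ₁, hθ₁1⟩ := exists_linear K A hsolv hAK
  obtain ⟨χ₁, hχ₁def⟩ : ∃ χ₁ : L → ℂ, χ₁ = Cfsg.indFun K θ₁ := ⟨_, rfl⟩
  have hχ₁A : χ₁ ∈ Cfsg.inducedIrrAbove K A := by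
    rw [inducedIrrAbove_eq, hχ₁def]
    exact ⟨θ₁, hθ₁, rfl⟩
  have hdχ₁ : d χ₁ = K.index := by
    have h1 := deg_indFun K d θ₁ 1 (by rw [hθ₁1]; simp) (hχ₁def ▸ hd χ₁ (hAS hχ₁A))
    rw [hχ₁def, h1, mul_one]
  have hepos : 0 < K.index := Nat.pos_of_ne_zero Subgroup.index_ne_zero_of_finite
  -- the inequality
  have hineq : ∀ χ ∈ Cfsg.inducedIrrAbove K B, K.index ∣ d χ ∧
      2 * K.index * d χ < K.index * (A.relIndex K - 1) := by
    intro χ hχ
    have hχ' := hχ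
    rw [inducedIrrAbove_eq] at hχ'
    obtain ⟨θ, hθ, rfl⟩ := hχ'
    obtain ⟨dθ, -, hdθ⟩ := irr_one_eq_finrank ⟨θ, hθ.1⟩
    have h1 := deg_indFun K d θ dθ hdθ (hd _ (hBS hχ))
    refine ⟨⟨dθ, h1⟩, ?_⟩
    have h2 := degree_bound K B C D hBD hDC hCK hcent hθ dθ hdθ
    have h3 : C.relIndex K * K.index = C.index := Subgroup.relIndex_mul_index hCK
    have h4 : (2 * (K.index * dθ)) ^ 2 < (A.relIndex K - 1) ^ 2 := by
      calc (2 * (K.index * dθ)) ^ 2 = 4 * K.index ^ 2 * dθ ^ 2 := by ring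
        _ ≤ 4 * K.index ^ 2 * (C.relIndex K ^ 2 * D.relIndex C) :=
          Nat.mul_le_mul_left _ h2
        _ = 4 * C.index ^ 2 * D.relIndex C := by rw [← h3]; ring
        _ < _ := hlt
    have h5 : 2 * (K.index * dθ) < A.relIndex K - 1 := lt_of_pow_lt_pow_left₀ 2 (Nat.zero_le _) h4
    rw [h1]
    calc 2 * K.index * (K.index * dθ) = K.index * (2 * (K.index * dθ)) := by ring
      _ < K.index * (A.relIndex K - 1) := Nat.mul_lt_mul_of_pos_left h5 hepos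
  -- the induction
  have hind : ∀ U : Finset (L → ℂ), (↑U : Set (L → ℂ)) ⊆ Cfsg.inducedIrrAbove K B →
      Cfsg.IsCoherent (↑(FA ∪ U) : Set (L → ℂ)) {1}ᶜ τ := by
    intro U
    induction U using Finset.induction_on with
    | empty =>
      intro _
      have h1 : (↑(FA ∪ (∅ : Finset (L → ℂ))) : Set (L → ℂ)) = Cfsg.inducedIrrAbove K A := by
        ext φ
        simp [hFAmem]
      rw [h1]
      exact hcohA
    | insert χ U hχU ih =>
      intro hsub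
      have hχB : χ ∈ Cfsg.inducedIrrAbove K B := hsub (by simp)
      have hUB : (↑U : Set (L → ℂ)) ⊆ Cfsg.inducedIrrAbove K B :=
        fun φ hφ => hsub (by simp only [Finset.coe_insert]; exact Set.mem_insert_of_mem _ hφ)
      have ih' := ih hUB
      obtain ⟨S₁, hS₁⟩ : ∃ S₁ : Finset (L → ℂ), S₁ = FA ∪ U := ⟨_, rfl⟩
      rw [← hS₁] at ih'
      have hS₁S : ∀ φ ∈ S₁, φ ∈ S := by
        intro φ hφ
        rw [hS₁, Finset.mem_union] at hφ
        rcases hφ with h | h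
        · exact hAS ((hFAmem _).mp h)
        · exact hBS (hUB h)
      have hset : FA ∪ insert χ U = insert χ S₁ := by
        rw [hS₁, Finset.union_insert]
      rw [hset]
      by_cases hχS₁ : χ ∈ S₁
      · rw [Finset.insert_eq_of_mem hχS₁]
        exact ih'
      · have hχ₁S₁ : χ₁ ∈ S₁ := by
          rw [hS₁, Finset.mem_union]
          left
          exact (hFAmem _).mpr hχ₁A
        have hinsS : (↑(insert χ S₁) : Set (L → ℂ)) ⊆ S := by
          intro φ hφ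
          rcases Finset.mem_insert.mp (Finset.mem_coe.mp hφ) with h | h
          · rw [h]; exact hBS hχB
          · exact hS₁S φ h
        obtain ⟨hdvd, hlt'⟩ := hineq χ hχB
        apply Cfsg.Agent.Lib.Helper11.FeitCrit.feit_criterion S₁ χ
          (fun ξ hξ => hirrS ξ (hS₁S ξ hξ)) (hirrS χ (hBS hχB)) hχS₁ d
          (fun ξ hξ => hd ξ (hinsS (Finset.mem_coe.mpr hξ))) τ
          (isoOn_mono (fun a ha => zspanOn_mono hinsS _ ha) hτ)
          (fun α hα => hτ1 α (zspanOn_mono hinsS _ hα)) ih' χ₁ hχ₁S₁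
        · rw [hdχ₁]
          exact hdvd
        · rw [hdχ₁]
          refine lt_of_lt_of_le hlt' ?_
          rw [← hsumA]
          apply Finset.sum_le_sum_of_subset
          intro φ hφ
          rw [hS₁, Finset.mem_union]
          left
          exact hφ
  -- conclusion
  obtain ⟨FB, hFB⟩ : ∃ FB : Finset (L → ℂ), FB = (inducedIrrAbove_finite K B).toFinset :=
    ⟨_, rfl⟩
  have hFBmem : ∀ φ, φ ∈ FB ↔ φ ∈ Cfsg.inducedIrrAbove K B := by
    intro φ
    rw [hFB, Set.Finite.mem_toFinset]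
  have hfinal := hind FB (fun φ hφ => (hFBmem φ).mp hφ)
  apply coherent_subset hfinal
  · intro φ hφ
    have : φ ∈ FA ∪ FB := by
      rw [Finset.mem_union]
      right
      exact (hFBmem φ).mpr hφ
    exact this
  · obtain ⟨α, hα, hne⟩ := hcohA.1
    exact ⟨α, zspanOn_mono hAB _ hα, hne⟩

end Cfsg.Agent.Lib.Helper11.BoundIrr
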