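import Mathlib
import Cfsg.Prelude.Def_Characters
import Cfsg.Agent.Lib.Helper11.VirtChar
import Cfsg.Agent.Lib.Helper25.CharLinear

set_option autoImplicit false
open scoped ComplexConjugate

namespace Cfsg.Agent.Lib.Helper11

open Cfsg.Agent.Lib.helper7 Cfsg.Agent.Lib.Helper25 Cfsg.Agent.Lib.helper2

theorem four_delta {I : Type*} [DecidableEq I] (a b c d : I) (hab : a ≠ b) (hcd : c ≠ d)
    (h : ((if a = c then 1 else 0) - (if a = d then 1 else 0) - (if b = c then 1 else 0) +
      (if b = d then 1 else 0) : ℂ) = 1) :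
    (a = c ∧ b ≠ d ∧ a ≠ d ∧ b ≠ c) ∨ (b = d ∧ a ≠ c ∧ a ≠ d ∧ b ≠ c) := by
  by_cases h1 : a = c <;> by_cases h2 : b = d <;> by_cases h3 : a = d <;> by_cases h4 : b = c <;>
    simp_all <;> norm_num at h

theorem irr_diff_inner {G : Type*} [Group G] [Fintype G]
    (a b c d : Cfsg.IrrCharacter G) :
    Cfsg.classInner ((a : G → ℂ) - (b : G → ℂ)) ((c : G → ℂ) - (d : G → ℂ)) =
      (if a = c then 1 else 0) - (if a = d then 1 else 0) - (if b = c then 1 else 0) +
      (if b = d then 1 else 0) := by
  rw [Cfsg.Agent.Lib.Helper25.classInner_sub_left, classInner_sub_right'', classInner_sub_right'',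
    irr_classInner, irr_classInner, irr_classInner, irr_classInner]
  ring

/-- the Brauer–Suzuki lattice argument: a family of generalized characters vanishing at the
identity, with Gram matrix `1 + δ` away from a base point (where the family vanishes), is of
the form `ε (F t₁ - F t)` for an injective family `F` of irreducible characters -/
theorem brauer_suzuki_lattice {G : Type*} [Group G] [Fintype G] {T : Type*} (θ : T → (G → ℂ))
    (t₁ t₂ : T) (h21 : t₂ ≠ t₁) (hθ1 : θ t₁ = 0)
    (hgen : ∀ t, Cfsg.IsGeneralizedCharacter G (θ t)) (hone : ∀ t, θ t 1 = 0)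
    (hnorm : ∀ t, t ≠ t₁ → Cfsg.classInner (θ t) (θ t) = 2)
    (hip : ∀ t s, t ≠ t₁ → s ≠ t₁ → t ≠ s → Cfsg.classInner (θ t) (θ s) = 1) :
    ∃ (ε : ℂ) (F : T → Cfsg.IrrCharacter G), (ε = 1 ∨ ε = -1) ∧ Function.Injective F ∧
      ∀ t s, θ s - θ t = ε • ((F t : G → ℂ) - (F s : G → ℂ)) := by
  classical
  have hdec : ∀ t, ∃ c d : Cfsg.IrrCharacter G,
      t ≠ t₁ → (c ≠ d ∧ θ t = (c : G → ℂ) - (d : G → ℂ)) := by
    intro t
    by_cases ht : t = t₁
    · exact ⟨trivIrr G, trivIrr G, fun h => absurd ht h⟩
    · obtain ⟨c, d, hcd, h⟩ := genChar_norm_two (θ t) (hgen t) (hnorm t ht) (hone t)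
      exact ⟨c, d, fun _ => ⟨hcd, h⟩⟩
  choose c d hcd using hdec
  have hR : ∀ t s, t ≠ t₁ → s ≠ t₁ → t ≠ s →
      (c t = c s ∧ d t ≠ d s ∧ c t ≠ d s ∧ d t ≠ c s) ∨
      (d t = d s ∧ c t ≠ c s ∧ c t ≠ d s ∧ d t ≠ c s) := by
    intro t s ht hs hts
    have h := hip t s ht hs hts
    rw [(hcd t ht).2, (hcd s hs).2, irr_diff_inner] at h
    exact four_delta _ _ _ _ (hcd t ht).1 (hcd s hs).1 (by convert h)
  by_cases hall : ∀ t, t ≠ t₁ → c t = c t₂
  · refine ⟨1, fun t => if t = t₁ then c t₂ else d t, Or.inl rfl, ?_, ?_⟩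
    · intro t s hts
      by_contra hne
      by_cases ht : t = t₁
      · have hs : s ≠ t₁ := fun h => hne (ht.trans h.symm)
        simp only [ht, if_true, if_neg hs] at hts
        exact (hcd s hs).1 ((hall s hs).trans hts)
      · by_cases hs : s = t₁
        · simp only [hs, if_true, if_neg ht] at hts
          exact (hcd t ht).1 ((hall t ht).trans hts.symm)
        · simp only [if_neg ht, if_neg hs] at hts
          rcases hR t s ht hs hne with h | h
          · exact h.2.1 hts
          · exact h.2.1 ((hall t ht).trans (hall s hs).symm)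
    · intro t s
      rw [one_smul]
      by_cases ht : t = t₁ <;> by_cases hs : s = t₁
      · subst ht
        subst hs
        simp
      · subst ht
        simp only [if_true, if_neg hs]
        rw [hθ1, (hcd s hs).2, hall s hs, sub_zero]
      · subst hs
        simp only [if_true, if_neg ht]
        rw [hθ1, (hcd t ht).2, hall t ht, zero_sub, neg_sub]
      · simp only [if_neg ht, if_neg hs]
        rw [(hcd t ht).2, (hcd s hs).2, hall t ht, hall s hs]
        abel
  · push Not at hall
    obtain ⟨u, hu1, huc⟩ := hall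
    have hu2 : u ≠ t₂ := fun h => huc (by rw [h])
    have hud : d u = d t₂ := by
      rcases hR u t₂ hu1 h21 hu2 with h | h
      · exact absurd h.1 huc
      · exact h.1
    have hallQ : ∀ t, t ≠ t₁ → d t = d t₂ := by
      intro t ht
      by_cases ht2 : t = t₂
      · rw [ht2]
      by_cases htu : t = u
      · rw [htu, hud]
      by_contra hd
      have hc2 : c t = c t₂ := by
        rcases hR t t₂ ht h21 ht2 with h | h
        · exact h.1
        · exact absurd h.1 hd
      rcases hR t u ht hu1 htu with h | h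
      · exact huc (h.1.symm.trans hc2)
      · exact hd (h.1.trans hud)
    refine ⟨-1, fun t => if t = t₁ then d t₂ else c t, Or.inr rfl, ?_, ?_⟩
    · intro t s hts
      by_contra hne
      by_cases ht : t = t₁
      · have hs : s ≠ t₁ := fun h => hne (ht.trans h.symm)
        simp only [ht, if_true, if_neg hs] at hts
        exact (hcd s hs).1 (hts.symm.trans (hallQ s hs).symm)
      · by_cases hs : s = t₁
        · simp only [hs, if_true, if_neg ht] at hts
          exact (hcd t ht).1 (hts.trans (hallQ t ht).symm)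
        · simp only [if_neg ht, if_neg hs] at hts
          rcases hR t s ht hs hne with h | h
          · exact h.2.1 ((hallQ t ht).trans (hallQ s hs).symm)
          · exact h.2.1 hts
    · intro t s
      rw [neg_smul, one_smul, neg_sub]
      by_cases ht : t = t₁ <;> by_cases hs : s = t₁
      · subst ht
        subst hs
        simp
      · subst ht
        simp only [if_true, if_neg hs]
        rw [hθ1, (hcd s hs).2, hallQ s hs, sub_zero]
      · subst hs
        simp only [if_true, if_neg ht]
        rw [hθ1, (hcd t ht).2, hallQ t ht, zero_sub, neg_sub]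
      · simp only [if_neg ht, if_neg hs]
        rw [(hcd t ht).2, (hcd s hs).2, hallQ t ht, hallQ s hs]
        abel

end Cfsg.Agent.Lib.Helper11
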