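import Mathlib

/-!
# A Burnside-transfer lemma for an abelian, self-normalizing TI Sylow subgroup

`X` an abelian Sylow `p`-subgroup of the finite group `Γ` with `|X| ≥ 3` such that `γ X γ⁻¹ ∩ X ≠ 1` forces `γ ∈ X`
(TI + self-normalizing).  Burnside's transfer gives a retraction `π : Γ → X`; for every `y ∈ Γ` there is `a ∈ X`,
`a ≠ 1`, with `π (a y) ≠ 1`; then `p ∣ o(a y)`, the `p`-part of `a y` lies in a conjugate of `X`, and the TI
property forces `a y` itself into that conjugate.  (Used for project TS: two opposite root groups.)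
-/

set_option autoImplicit false

namespace Cfsg.Agent.Lib.Helper11

open MonoidHom

variable {Γ : Type*} [Group Γ] [Finite Γ] {p : ℕ} [Fact p.Prime]

/-- the hypothesis: `γ v γ⁻¹ ∈ X` for some `1 ≠ v ∈ X` forces `γ ∈ X`. -/
def BurnsideTIHyp (X : Sylow p Γ) : Prop :=
  ∀ γ : Γ, (∃ v ∈ (X : Subgroup Γ), v ≠ 1 ∧ γ * v * γ⁻¹ ∈ (X : Subgroup Γ)) → γ ∈ (X : Subgroup Γ)

/-- an element whose transfer is non-trivial is conjugate into `X`. -/
theorem burnsideti_conj (X : Sylow p Γ)
    (hNC : Subgroup.normalizer ((X : Subgroup Γ) : Set Γ) ≤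
      Subgroup.centralizer ((X : Subgroup Γ) : Set Γ))
    (hTI : BurnsideTIHyp X) (g : Γ) (hg : transferSylow X hNC g ≠ 1) :
    ∃ γ : Γ, γ⁻¹ * g * γ ∈ (X : Subgroup Γ) := by
  -- `p` divides the order of `g`
  have hp : p ∣ orderOf g := by
    obtain ⟨k, hk⟩ := (IsPGroup.iff_orderOf.mp X.isPGroup') (transferSylow X hNC g)
    have hk0 : k ≠ 0 := by
      rintro rfl
      rw [pow_zero, orderOf_eq_one_iff] at hk
      exact hg hk
    have h1 : orderOf (transferSylow X hNC g) ∣ orderOf g := orderOf_map_dvd _ g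
    rw [hk] at h1
    exact dvd_trans (dvd_pow_self p hk0) h1
  -- an element `v` of order `p` in `⟨g⟩`
  have hp' : p ∣ Nat.card (Subgroup.zpowers g) := by rwa [Nat.card_zpowers]
  obtain ⟨v, hv⟩ := exists_prime_orderOf_dvd_card' p hp'
  have hvG : orderOf (v : Γ) = p := by rw [Subgroup.orderOf_coe]; exact hv
  have hv1 : (v : Γ) ≠ 1 := by
    intro h
    rw [h, orderOf_one] at hvG
    exact (Fact.out : p.Prime).one_lt.ne hvG
  have hcomm : g * (v : Γ) = (v : Γ) * g := by
    obtain ⟨n, hn⟩ := Subgroup.mem_zpowers_iff.mp v.2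
    rw [← hn]
    exact (Commute.zpow_right (Commute.refl g) n).eq
  -- `v` lies in a conjugate of `X`
  have hvp : IsPGroup p (Subgroup.zpowers (v : Γ)) :=
    IsPGroup.of_card (n := 1) (by rw [Nat.card_zpowers, hvG, pow_one])
  obtain ⟨Q, hQ⟩ := hvp.exists_le_sylow
  obtain ⟨γ, hγ⟩ := MulAction.exists_smul_eq Γ X Q
  have hvQ : (v : Γ) ∈ (Q : Subgroup Γ) := hQ (Subgroup.mem_zpowers _)
  have hw : γ⁻¹ * (v : Γ) * γ ∈ (X : Subgroup Γ) := by
    rw [← hγ, Sylow.smul_def, Sylow.pointwise_smul_def,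
      Subgroup.mem_pointwise_smul_iff_inv_smul_mem] at hvQ
    simpa [MulAut.smul_def, MulAut.conj_apply] using hvQ
  refine ⟨γ, hTI _ ⟨γ⁻¹ * (v : Γ) * γ, hw, ?_, ?_⟩⟩
  · intro h
    apply hv1
    have : (v : Γ) = γ * (γ⁻¹ * (v : Γ) * γ) * γ⁻¹ := by group
    rw [this, h]
    group
  · have : γ⁻¹ * g * γ * (γ⁻¹ * (v : Γ) * γ) * (γ⁻¹ * g * γ)⁻¹ = γ⁻¹ * (g * (v : Γ) * g⁻¹) * γ := by
      group
    rw [this, hcomm, mul_inv_cancel_right]
    exact hw

/-- **main lemma**: for every `y` some `a y`, `1 ≠ a ∈ X`, is conjugate into `X`. -/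
theorem burnsideti_main (X : Sylow p Γ)
    (hab : ∀ a ∈ (X : Subgroup Γ), ∀ b ∈ (X : Subgroup Γ), a * b = b * a)
    (hTI : BurnsideTIHyp X) (h3 : 3 ≤ Nat.card (X : Subgroup Γ)) (y : Γ) :
    ∃ a ∈ (X : Subgroup Γ), a ≠ 1 ∧ ∃ γ : Γ, γ⁻¹ * (a * y) * γ ∈ (X : Subgroup Γ) := by
  classical
  -- a non-trivial element of `X`
  have hex : ∃ v : (X : Subgroup Γ), v ≠ 1 := by
    by_contra hcon
    push Not at hcon
    have : Nat.card (X : Subgroup Γ) ≤ 1 := by
      rw [Finite.card_le_one_iff_subsingleton]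
      exact ⟨fun a b => by rw [hcon a, hcon b]⟩
    omega
  obtain ⟨v₀, hv₀⟩ := hex
  -- self-normalizing, hence `N(X) ≤ C(X)`
  have hNC : Subgroup.normalizer ((X : Subgroup Γ) : Set Γ) ≤
      Subgroup.centralizer ((X : Subgroup Γ) : Set Γ) := by
    intro γ hγ
    have hγX : γ ∈ (X : Subgroup Γ) := by
      apply hTI γ
      refine ⟨(v₀ : Γ), v₀.2, fun h => hv₀ (Subtype.ext h), ?_⟩
      exact (Subgroup.mem_normalizer_iff.mp hγ (v₀ : Γ)).mp v₀.2
    rw [Subgroup.mem_centralizer_iff]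
    intro b hb
    exact hab b hb γ hγX
  set π := transferSylow X hNC with hπ
  -- `π` is injective on `X`
  have hinj : ∀ a b : (X : Subgroup Γ), π (a : Γ) = π (b : Γ) → a = b := by
    intro a b h
    rw [hπ, transferSylow_eq_pow X hNC (a : Γ) a.2, transferSylow_eq_pow X hNC (b : Γ) b.2] at h
    have h1 : a ^ (X : Subgroup Γ).index = b ^ (X : Subgroup Γ).index := by
      apply Subtype.ext
      have := congrArg Subtype.val h
      simpa using this
    exact (Nat.Coprime.pow_left_bijective (X.card_coprime_index)).1 h1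
  -- choose `a`
  have hchoose : ∃ a : (X : Subgroup Γ), a ≠ 1 ∧ π (a : Γ) * π y ≠ 1 := by
    by_contra hcon
    push Not at hcon
    have hle : Nat.card (X : Subgroup Γ) ≤ Nat.card Bool := by
      apply Nat.card_le_card_of_injective (fun a : (X : Subgroup Γ) => decide (a = 1))
      intro a b hab'
      simp only [decide_eq_decide] at hab'
      by_cases ha : a = 1
      · rw [ha]
        exact ((hab'.mp ha)).symm
      · have hb : b ≠ 1 := fun hb => ha (hab'.mpr hb)
        apply hinj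
        have h1 := hcon a ha
        have h2 := hcon b hb
        exact mul_right_cancel (h1.trans h2.symm)
    have h2 : Nat.card Bool = 2 := by simp
    omega
  obtain ⟨a, ha1, haπ⟩ := hchoose
  refine ⟨(a : Γ), a.2, fun h => ha1 (Subtype.ext h), ?_⟩
  apply burnsideti_conj X hNC hTI
  rw [map_mul]
  exact haπ

end Cfsg.Agent.Lib.Helper11
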