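import Mathlib
import Cfsg.Agent.Lib.Helper10.C3Q.Defs
import Cfsg.Agent.Lib.Helper16.SpinAdjust2

set_option autoImplicit false

/-!
# Project C3Q, sub-lemmas for row SNEG (helper11): an isometry `X` with `X² = -1`.
-/

namespace Cfsg.Agent.Lib.Helper10.C3Q

open Matrix Module Cfsg.Agent.Lib.Helper16 Cfsg.Agent.Lib.helper6

universe u

variable {F : Type u} [Field F] {ι : Type} [Fintype ι] [DecidableEq ι]

/-- an isometry preserves the polar form -/
theorem c3qsnegaux_polar (Q : QuadraticForm F (ι → F)) (X : Matrix ι ι F)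
    (hXQ : ∀ v, Q (X *ᵥ v) = Q v) (u v : ι → F) :
    QuadraticMap.polar (⇑Q) (X *ᵥ u) (X *ᵥ v) = QuadraticMap.polar (⇑Q) u v := by
  unfold QuadraticMap.polar
  rw [← Matrix.mulVec_add, hXQ, hXQ, hXQ]

/-- `X² = -1`: `v ⊥ X v` -/
theorem c3qsnegaux_orth (h2 : (2 : F) ≠ 0) (Q : QuadraticForm F (ι → F)) (X : Matrix ι ι F)
    (hXQ : ∀ v, Q (X *ᵥ v) = Q v) (hXX : ∀ v, X *ᵥ (X *ᵥ v) = -v) (v : ι → F) :
    QuadraticMap.polar (⇑Q) v (X *ᵥ v) = 0 := by
  have h1 := c3qsnegaux_polar Q X hXQ v (X *ᵥ v)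
  rw [hXX, QuadraticMap.polar_neg_right, QuadraticMap.polar_comm] at h1
  have h3 : (2 : F) * QuadraticMap.polar (⇑Q) v (X *ᵥ v) = 0 := by linear_combination -h1
  rcases mul_eq_zero.mp h3 with h | h
  · exact absurd h h2
  · exact h

/-- `X² = -1`: `B(u, X v) = - B(X u, v)` -/
theorem c3qsnegaux_skew (Q : QuadraticForm F (ι → F)) (X : Matrix ι ι F)
    (hXQ : ∀ v, Q (X *ᵥ v) = Q v) (hXX : ∀ v, X *ᵥ (X *ᵥ v) = -v) (u v : ι → F) :
    QuadraticMap.polar (⇑Q) u (X *ᵥ v) = - QuadraticMap.polar (⇑Q) (X *ᵥ u) v := by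
  have h1 := c3qsnegaux_polar Q X hXQ (X *ᵥ u) v
  rw [hXX, QuadraticMap.polar_neg_left] at h1
  linear_combination -h1

/-- the planes `⟨e j, s e j + t X e j⟩` (`s² + t² = δ`, `t ≠ 0`) -/
theorem c3qsnegaux_planes (h2 : (2 : F) ≠ 0) (Q : QuadraticForm F (ι → F)) (X : Matrix ι ι F)
    (hXQ : ∀ v, Q (X *ᵥ v) = Q v) (hXX : ∀ v, X *ᵥ (X *ᵥ v) = -v) {d : ℕ}
    (hcard : Fintype.card ι = 2 * d) (e : Fin d → (ι → F))
    (he : IsPlanes (⇑Q) e (fun j => X *ᵥ e j)) (δ s t : F) (hst : s ^ 2 + t ^ 2 = δ) (ht : t ≠ 0) :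
    IsPlanes (⇑Q) e (fun j => s • e j + t • (X *ᵥ e j)) ∧
      ∀ j, QuadraticMap.polar (⇑Q) (s • e j + t • (X *ᵥ e j)) (s • e j + t • (X *ᵥ e j)) =
        δ * QuadraticMap.polar (⇑Q) (e j) (e j) := by
  have hspan : ⊤ ≤ Submodule.span F (Set.range (fun p : Fin d × Fin 2 =>
      if p.2 = 0 then e p.1 else (fun j => s • e j + t • (X *ᵥ e j)) p.1)) := by
    refine le_trans he.span (Submodule.span_le.mpr ?_)
    rintro _ ⟨⟨j, k⟩, rfl⟩
    have h0 : e j ∈ Submodule.span F (Set.range (fun p : Fin d × Fin 2 =>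
        if p.2 = 0 then e p.1 else (fun j => s • e j + t • (X *ᵥ e j)) p.1)) :=
      Submodule.subset_span ⟨(j, 0), by simp⟩
    have h1 : s • e j + t • (X *ᵥ e j) ∈ Submodule.span F (Set.range (fun p : Fin d × Fin 2 =>
        if p.2 = 0 then e p.1 else (fun j => s • e j + t • (X *ᵥ e j)) p.1)) :=
      Submodule.subset_span ⟨(j, 1), by simp⟩
    fin_cases k
    · simpa using h0
    · have h3 : X *ᵥ e j = t⁻¹ • ((s • e j + t • (X *ᵥ e j)) - s • e j) := by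
        rw [add_sub_cancel_left, smul_smul, inv_mul_cancel₀ ht, one_smul]
      have h4 := Submodule.smul_mem _ t⁻¹ (Submodule.sub_mem _ h1 (Submodule.smul_mem _ s h0))
      rw [← h3] at h4
      simpa using h4
  have hli : LinearIndependent F (fun p : Fin d × Fin 2 =>
      if p.2 = 0 then e p.1 else (fun j => s • e j + t • (X *ᵥ e j)) p.1) := by
    apply linearIndependent_of_top_le_span_of_card_eq_finrank hspan
    rw [Module.finrank_fintype_fun_eq_card, hcard, Fintype.card_prod, Fintype.card_fin,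
      Fintype.card_fin, mul_comm]
  refine ⟨⟨hli, hspan, ?_⟩, ?_⟩
  · intro i j hij
    obtain ⟨o1, o2, o3⟩ := he.orth i j hij
    obtain ⟨-, o2', -⟩ := he.orth j i (fun h => hij h.symm)
    have o4 : QuadraticMap.polar (⇑Q) (X *ᵥ e i) (e j) = 0 := by
      rw [QuadraticMap.polar_comm]; exact o2'
    refine ⟨o1, ?_, ?_⟩
    · simp only [QuadraticMap.polar_add_right, QuadraticMap.polar_smul_right, o1, o2, smul_eq_mul,
        mul_zero, add_zero]
    · simp only [QuadraticMap.polar_add_right, QuadraticMap.polar_add_left,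
        QuadraticMap.polar_smul_right, QuadraticMap.polar_smul_left, o1, o2, o3, o4, smul_eq_mul,
        mul_zero, add_zero]
  · intro j
    have o1 := c3qsnegaux_orth h2 Q X hXQ hXX (e j)
    have o2 : QuadraticMap.polar (⇑Q) (X *ᵥ e j) (e j) = 0 := by
      rw [QuadraticMap.polar_comm]; exact o1
    have o3 := c3qsnegaux_polar Q X hXQ (e j) (e j)
    simp only [QuadraticMap.polar_add_right, QuadraticMap.polar_add_left,
      QuadraticMap.polar_smul_right, QuadraticMap.polar_smul_left, o1, o2, o3, smul_eq_mul,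
      mul_zero, add_zero, zero_add]
    rw [← hst]
    ring

/-- the `A'` of `s_gen` for the planes `⟨e j, s e j + t X e j⟩` anticommutes with `X` -/
theorem c3qsnegaux_anti (Q : QuadraticForm F (ι → F)) (X : Matrix ι ι F)
    (hXX : ∀ v, X *ᵥ (X *ᵥ v) = -v) {d : ℕ} (e : Fin d → (ι → F))
    (he : IsPlanes (⇑Q) e (fun j => X *ᵥ e j)) (δ s t : F) (hst : s ^ 2 + t ^ 2 = δ) (ht : t ≠ 0)
    (A' : Matrix ι ι F) (hA'e : ∀ j, A' *ᵥ e j = s • e j + t • (X *ᵥ e j))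
    (hA'f : ∀ j, A' *ᵥ (s • e j + t • (X *ᵥ e j)) = δ • e j) :
    (∀ j, A' *ᵥ (X *ᵥ e j) = t • e j - s • (X *ᵥ e j)) ∧ X * A' = -(A' * X) := by
  have hAX : ∀ j, A' *ᵥ (X *ᵥ e j) = t • e j - s • (X *ᵥ e j) := by
    intro j
    have h1 := hA'f j
    rw [Matrix.mulVec_add, Matrix.mulVec_smul, Matrix.mulVec_smul, hA'e j] at h1
    have h3 : t • (A' *ᵥ (X *ᵥ e j)) = t • (t • e j - s • (X *ᵥ e j)) := by
      have h4 : t • (A' *ᵥ (X *ᵥ e j)) = δ • e j - s • (s • e j + t • (X *ᵥ e j)) := by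
        rw [← h1]; abel
      rw [h4, ← hst]
      module
    have h5 := congrArg (fun z => t⁻¹ • z) h3
    simp only [smul_smul, inv_mul_cancel₀ ht, one_smul] at h5
    exact h5
  refine ⟨hAX, ?_⟩
  apply Matrix.toLin'.injective
  apply LinearMap.ext_on (top_le_iff.mp he.span)
  rintro _ ⟨⟨j, k⟩, rfl⟩
  fin_cases k
  · simp only [Fin.zero_eta, Fin.isValue, ↓reduceIte, Matrix.toLin'_apply]
    rw [← Matrix.mulVec_mulVec, Matrix.neg_mulVec, ← Matrix.mulVec_mulVec, hA'e j, hAX j,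
      Matrix.mulVec_add, Matrix.mulVec_smul, Matrix.mulVec_smul, hXX]
    module
  · simp only [Fin.mk_one, Fin.isValue, one_ne_zero, ↓reduceIte, Matrix.toLin'_apply]
    rw [← Matrix.mulVec_mulVec, Matrix.neg_mulVec, ← Matrix.mulVec_mulVec, hAX j, hXX,
      Matrix.mulVec_sub, Matrix.mulVec_smul, Matrix.mulVec_smul, hXX, Matrix.mulVec_neg, hA'e j]
    module

/-- the product of the reflections in `u` and `w` (`u ⊥ w`, `Q w = Q u`): `-1` on `⟨u, w⟩`, `1` on the orthogonal complement -/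
theorem c3qsnegaux_S' (Q : QuadraticForm F (ι → F)) (u w : ι → F) (hw : Q w = Q u)
    (huw : QuadraticMap.polar (⇑Q) u w = 0) (v : ι → F) :
    Cfsg.reflectionMatrix (⇑Q) w *ᵥ (Cfsg.reflectionMatrix (⇑Q) u *ᵥ v) =
      v - ((Q u)⁻¹ * QuadraticMap.polar (⇑Q) u v) • u - ((Q u)⁻¹ * QuadraticMap.polar (⇑Q) w v) • w := by
  rw [reflectionMatrix_mulVec, reflectionMatrix_mulVec, hw,
    QuadraticMap.polar_sub_right, QuadraticMap.polar_smul_right, QuadraticMap.polar_comm (⇑Q) w u, huw,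
    smul_zero, sub_zero]

theorem c3qsnegaux_S (Q : QuadraticForm F (ι → F)) (u w : ι → F) (hw : Q w = Q u)
    (huw : QuadraticMap.polar (⇑Q) u w = 0) (v : ι → F) :
    (Cfsg.reflectionMatrix (⇑Q) w * Cfsg.reflectionMatrix (⇑Q) u) *ᵥ v =
      v - ((Q u)⁻¹ * QuadraticMap.polar (⇑Q) u v) • u - ((Q u)⁻¹ * QuadraticMap.polar (⇑Q) w v) • w := by
  rw [← Matrix.mulVec_mulVec, c3qsnegaux_S' Q u w hw huw]

/-- conjugating `X` (`X² = -1`) by the reflection in `a = α u + β X u` multiplies it by `S = ρ_{X u} ρ_u` -/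
theorem c3qsnegaux_refl (h2 : (2 : F) ≠ 0) (Q : QuadraticForm F (ι → F)) (X : Matrix ι ι F)
    (hXQ : ∀ v, Q (X *ᵥ v) = Q v) (hXX : ∀ v, X *ᵥ (X *ᵥ v) = -v) (u : ι → F) (hu : Q u ≠ 0)
    (α β : F) (ha : Q (α • u + β • (X *ᵥ u)) ≠ 0) :
    Cfsg.reflectionMatrix (⇑Q) (α • u + β • (X *ᵥ u)) * X *
        Cfsg.reflectionMatrix (⇑Q) (α • u + β • (X *ᵥ u)) =
      X * (Cfsg.reflectionMatrix (⇑Q) (X *ᵥ u) * Cfsg.reflectionMatrix (⇑Q) u) := by
  have huw := c3qsnegaux_orth h2 Q X hXQ hXX u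
  have hQa : Q (α • u + β • (X *ᵥ u)) = (α ^ 2 + β ^ 2) * Q u := by
    rw [QuadraticMap.map_add (⇑Q), QuadraticMap.map_smul, QuadraticMap.map_smul, hXQ,
      QuadraticMap.polar_smul_left, QuadraticMap.polar_smul_right, huw]
    simp only [smul_eq_mul]
    ring
  have hN : α ^ 2 + β ^ 2 ≠ 0 := by
    intro h
    rw [hQa, h, zero_mul] at ha
    exact ha rfl
  rw [Matrix.ext_iff_mulVec]
  intro v
  simp only [← Matrix.mulVec_mulVec]
  rw [c3qsnegaux_S' Q u (X *ᵥ u) (hXQ u) huw v]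
  set a := α • u + β • (X *ᵥ u) with hadef
  rw [reflectionMatrix_mulVec (x := v)]
  have hXa : X *ᵥ a = α • (X *ᵥ u) - β • u := by
    rw [hadef, Matrix.mulVec_add, Matrix.mulVec_smul, Matrix.mulVec_smul, hXX]
    module
  have hpa : QuadraticMap.polar (⇑Q) a v =
      α * QuadraticMap.polar (⇑Q) u v + β * QuadraticMap.polar (⇑Q) (X *ᵥ u) v := by
    rw [hadef, QuadraticMap.polar_add_left, QuadraticMap.polar_smul_left,
      QuadraticMap.polar_smul_left]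
    rfl
  have hpaX : QuadraticMap.polar (⇑Q) a (X *ᵥ v) =
      β * QuadraticMap.polar (⇑Q) u v - α * QuadraticMap.polar (⇑Q) (X *ᵥ u) v := by
    rw [hadef, QuadraticMap.polar_add_left, QuadraticMap.polar_smul_left,
      QuadraticMap.polar_smul_left, c3qsnegaux_polar Q X hXQ u v,
      c3qsnegaux_skew Q X hXQ hXX u v]
    simp only [smul_eq_mul]
    ring
  have hpaXa : QuadraticMap.polar (⇑Q) a (X *ᵥ a) = 0 := c3qsnegaux_orth h2 Q X hXQ hXX a
  rw [Matrix.mulVec_sub, Matrix.mulVec_smul, reflectionMatrix_mulVec, QuadraticMap.polar_sub_right,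
    QuadraticMap.polar_smul_right, hpaXa, hpaX, hpa, hXa, hQa]
  rw [Matrix.mulVec_sub, Matrix.mulVec_sub, Matrix.mulVec_smul, Matrix.mulVec_smul, hXX]
  simp only [smul_eq_mul, mul_zero, sub_zero]
  match_scalars <;> field_simp <;> ring

/-- `S = ρ_w ρ_u` commutes with a self-adjoint `A'` that maps `u ↦ s u + t w`, `w ↦ t u - s w` -/
theorem c3qsnegaux_comm (Q : QuadraticForm F (ι → F)) (u w : ι → F) (hu : Q u ≠ 0) (hw : Q w = Q u)
    (huw : QuadraticMap.polar (⇑Q) u w = 0) (A' : Matrix ι ι F) (hsa : SelfAdj (⇑Q) A') (s t : F)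
    (hA'u : A' *ᵥ u = s • u + t • w) (hA'w : A' *ᵥ w = t • u - s • w) :
    (Cfsg.reflectionMatrix (⇑Q) w * Cfsg.reflectionMatrix (⇑Q) u) * A' =
      A' * (Cfsg.reflectionMatrix (⇑Q) w * Cfsg.reflectionMatrix (⇑Q) u) := by
  rw [Matrix.ext_iff_mulVec]
  intro v
  rw [← Matrix.mulVec_mulVec, c3qsnegaux_S Q u w hw huw, ← Matrix.mulVec_mulVec,
    c3qsnegaux_S Q u w hw huw, ← hsa u v, ← hsa w v, hA'u, hA'w]
  rw [Matrix.mulVec_sub, Matrix.mulVec_sub, Matrix.mulVec_smul, Matrix.mulVec_smul, hA'u, hA'w]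
  simp only [QuadraticMap.polar_add_left, QuadraticMap.polar_sub_left, QuadraticMap.polar_smul_left,
    smul_eq_mul]
  module

end Cfsg.Agent.Lib.Helper10.C3Q
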