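import Mathlib
import Cfsg.Agent.Lib.Helper22.C3L.Defs
import Cfsg.Agent.Lib.helper8.C3S.Defs

set_option autoImplicit false
set_option linter.unusedVariables false
set_option linter.unusedSectionVars false

/-!
# C3S, row R22, cut (E) (helper11): from "one class" to an `F`-transvection in `H`

`c3sr22_t F B x` is the `F`-transvection `t_x : y ↦ y + Tr (B y x) • x` as a function, `c3sr22_rel B H x y` says `t_x t_y ∈ H`.
If all pairs of non-zero vectors are related, `F` has characteristic 2, `K ≠ F` and `dim_K V ≥ 3`, then `H` contains `t_v`: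
for a totally isotropic `F`-space `⟨a, b, c⟩` one has `t_a = (t_b t_c)(t_{a+b} t_{a+c})(t_{b+c} t_{a+b+c})`.
-/

namespace Cfsg.Agent.Lib.helper8.C3S

open Module Cfsg.Agent.Lib.Helper22.C3L

variable {F K V : Type*} [Field F] [Field K] [Algebra F K] [AddCommGroup V] [Module F V] [Module K V]
  [IsScalarTower F K V]

variable (F) in
/-- the `F`-transvection `t_x : y ↦ y + Tr (B y x) • x`, as a function -/
noncomputable def c3sr22_t (B : V →ₗ[K] V →ₗ[K] K) (x y : V) : V := y + Algebra.trace F K (B y x) • x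

/-- `x ~ y` : the product `t_x t_y` is in `H` -/
def c3sr22_rel (B : V →ₗ[K] V →ₗ[K] K) (H : Subgroup (V ≃ₗ[F] V)) (x y : V) : Prop :=
  ∃ g ∈ H, ∀ z : V, g z = c3sr22_t F B x (c3sr22_t F B y z)

theorem c3sr22_t_apply (B : V →ₗ[K] V →ₗ[K] K) (x y : V) :
    c3sr22_t F B x y = y + Algebra.trace F K (B y x) • x := rfl

/-- `Tr (B (y + c • u) x) = Tr (B y x) + c * Tr (B u x)` -/
theorem c3sr22e_tr_add (B : V →ₗ[K] V →ₗ[K] K) (y u x : V) (c : F) :
    Algebra.trace F K (B (y + c • u) x) = Algebra.trace F K (B y x) + c * Algebra.trace F K (B u x) := by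
  rw [map_add, LinearMap.add_apply, map_add, LinearMap.map_smul_of_tower, LinearMap.smul_apply, map_smul,
    smul_eq_mul]

/-- `t_u` on a vector `z + w` where `Tr (B w u) = 0` -/
theorem c3sr22e_t_add (B : V →ₗ[K] V →ₗ[K] K) (u z w : V) (h : Algebra.trace F K (B w u) = 0) :
    c3sr22_t F B u (z + w) = z + w + Algebra.trace F K (B z u) • u := by
  rw [c3sr22_t_apply, map_add, LinearMap.add_apply, map_add, h, add_zero]

/-- the relation of the seven transvections of a totally isotropic `F`-space `⟨a, b, c⟩` (characteristic 2) -/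
theorem c3sr22e_seven (h2 : (2 : F) = 0) (B : V →ₗ[K] V →ₗ[K] K)
    {a b c : V} (hI : ∀ x ∈ ({a, b, c} : Set V), ∀ y ∈ ({a, b, c} : Set V), Algebra.trace F K (B x y) = 0) (z : V) :
    c3sr22_t F B b (c3sr22_t F B c (c3sr22_t F B (a + b) (c3sr22_t F B (a + c)
      (c3sr22_t F B (b + c) (c3sr22_t F B (a + b + c) z))))) = z + Algebra.trace F K (B z a) • a := by
  have haa := hI a (by simp) a (by simp)
  have hab := hI a (by simp) b (by simp)
  have hac := hI a (by simp) c (by simp)
  have hba := hI b (by simp) a (by simp)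
  have hbb := hI b (by simp) b (by simp)
  have hbc := hI b (by simp) c (by simp)
  have hca := hI c (by simp) a (by simp)
  have hcb := hI c (by simp) b (by simp)
  have hcc := hI c (by simp) c (by simp)
  set la := Algebra.trace F K (B z a) with hla
  set lb := Algebra.trace F K (B z b) with hlb
  set lc := Algebra.trace F K (B z c) with hlc
  -- the value of `Tr (B (x) u)` for `x = z + (combination of a b c)`, `u` a combination of `a b c`
  have key : ∀ (p q r p' q' r' : F),
      Algebra.trace F K (B (z + (p • a + q • b + r • c)) (p' • a + q' • b + r' • c))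
        = p' * la + q' * lb + r' * lc := by
    intro p q r p' q' r'
    simp only [map_add, LinearMap.add_apply, LinearMap.map_smul_of_tower, LinearMap.smul_apply, map_smul,
      smul_eq_mul, haa, hab, hac, hba, hbb, hbc, hca, hcb, hcc, ← hla, ← hlb, ← hlc]
    ring
  have step : ∀ (u x : V) (p' q' r' p q r : F), u = p' • a + q' • b + r' • c → x = z + (p • a + q • b + r • c) →
      c3sr22_t F B u x
        = z + ((p + (p' * la + q' * lb + r' * lc) * p') • a + (q + (p' * la + q' * lb + r' * lc) * q') • b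
            + (r + (p' * la + q' * lb + r' * lc) * r') • c) := by
    intro u x p' q' r' p q r hu hx
    rw [hu, hx, c3sr22_t_apply, key]
    module
  have e0 : z = z + ((0 : F) • a + (0 : F) • b + (0 : F) • c) := by simp
  have eabc : a + b + c = (1 : F) • a + (1 : F) • b + (1 : F) • c := by simp
  have ebc : b + c = (0 : F) • a + (1 : F) • b + (1 : F) • c := by simp
  have eac : a + c = (1 : F) • a + (0 : F) • b + (1 : F) • c := by simp
  have eab : a + b = (1 : F) • a + (1 : F) • b + (0 : F) • c := by simp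
  have ec : c = (0 : F) • a + (0 : F) • b + (1 : F) • c := by simp
  have eb : b = (0 : F) • a + (1 : F) • b + (0 : F) • c := by simp
  have s1 := step (a + b + c) z 1 1 1 0 0 0 eabc e0
  have s2 := step (b + c) _ 0 1 1 _ _ _ ebc s1
  have s3 := step (a + c) _ 1 0 1 _ _ _ eac s2
  have s4 := step (a + b) _ 1 1 0 _ _ _ eab s3
  have s5 := step c _ 0 0 1 _ _ _ ec s4
  have s6 := step b _ 0 1 0 _ _ _ eb s5
  rw [s6]
  linear_combination (norm := module) h2 • ((la + lb + lc) • a + (la + 2 * lb + lc) • b + (la + lb + 2 * lc) • c)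

/-- `B y x = - B x y` -/
theorem c3sr22e_skew (B : V →ₗ[K] V →ₗ[K] K) (hB0 : ∀ x, B x x = 0) (x y : V) : B y x = - B x y := by
  have h := hB0 (x + y)
  simp only [map_add, LinearMap.add_apply, hB0, zero_add, add_zero] at h
  exact eq_neg_of_add_eq_zero_left h

/-- a field with two elements has characteristic 2 -/
theorem c3sr22e_two (hF : Nat.card F = 2) : (2 : F) = 0 := by
  have : Finite F := Nat.finite_of_card_ne_zero (by rw [hF]; norm_num)
  cases nonempty_fintype F
  have h := FiniteField.cast_card_eq_zero F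
  rw [← Nat.card_eq_fintype_card, hF] at h
  exact_mod_cast h

/-- `dim_K V ≥ 3`: some `c ∈ v^⊥` is not in `K v` -/
theorem c3sr22e_perp [FiniteDimensional K V] (hm : 3 ≤ finrank K V) (B : V →ₗ[K] V →ₗ[K] K) (v : V) :
    ∃ c : V, B c v = 0 ∧ c ∉ Kl F K v := by
  by_contra hcon
  push Not at hcon
  have hle : LinearMap.ker (B.flip v) ≤ Submodule.span K {v} := by
    intro c hc
    have hc' : B c v = 0 := by simpa using hc
    obtain ⟨a, ha⟩ := (mem_Kl F K).mp (hcon c hc')
    exact Submodule.mem_span_singleton.mpr ⟨a, ha⟩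
  have h1 : finrank K (LinearMap.ker (B.flip v)) ≤ 1 :=
    (Submodule.finrank_mono hle).trans ((finrank_span_le_card ({v} : Set V)).trans (by simp))
  have h2 : finrank K (LinearMap.range (B.flip v)) ≤ 1 := by
    have := Submodule.finrank_le (LinearMap.range (B.flip v))
    rwa [finrank_self] at this
  have h3 := LinearMap.finrank_range_add_finrank_ker (B.flip v)
  omega

theorem c3sr22e_final [FiniteDimensional K V] (hF : Nat.card F = 2) (h2 : finrank F K = 2) (hm : 3 ≤ finrank K V)
    (B : V →ₗ[K] V →ₗ[K] K) (hB0 : ∀ x, B x x = 0)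
    (H : Subgroup (V ≃ₗ[F] V))
    (hall : ∀ x y : V, x ≠ 0 → y ≠ 0 → c3sr22_rel B H x y) : ∃ v : V, v ≠ 0 ∧ HasFtv B H v 1 := by
  have h20 : (2 : F) = 0 := c3sr22e_two hF
  -- a non-zero vector
  have hpos : 0 < finrank K V := by omega
  obtain ⟨v, hv⟩ := (Module.finrank_pos_iff_exists_ne_zero (R := K) (M := V)).mp hpos
  -- an element of `K` outside `F`
  have hω : ∃ ω : K, ω ∉ (algebraMap F K).range := by
    by_contra hcon
    push Not at hcon
    have : (⊥ : Subalgebra F K) = ⊤ := by
      rw [eq_top_iff]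
      intro x _
      obtain ⟨y, hy⟩ := hcon x
      exact Algebra.mem_bot.mpr ⟨y, hy⟩
    rw [Subalgebra.bot_eq_top_iff_finrank_eq_one] at this
    omega
  obtain ⟨ω, hω⟩ := hω
  have hω0 : ω ≠ 0 := by
    rintro rfl
    exact hω ⟨0, map_zero _⟩
  have hω1 : 1 + ω ≠ 0 := by
    intro h
    apply hω
    refine ⟨-1, ?_⟩
    rw [map_neg, map_one]
    exact (eq_neg_of_add_eq_zero_right h).symm
  obtain ⟨c, hcv, hcK⟩ := c3sr22e_perp (F := F) hm B v
  have hvc : B v c = 0 := by rw [c3sr22e_skew B hB0 c v, hcv, neg_zero]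
  have hkc : ∀ k : K, k • v + c ≠ 0 := by
    intro k h
    apply hcK
    refine (mem_Kl F K).mpr ⟨-k, ?_⟩
    rw [neg_smul]
    exact (eq_neg_of_add_eq_zero_right h).symm
  have hI : ∀ x ∈ ({v, ω • v, c} : Set V), ∀ y ∈ ({v, ω • v, c} : Set V), Algebra.trace F K (B x y) = 0 := by
    rintro x (rfl | rfl | rfl) y (rfl | rfl | rfl) <;>
      simp [hB0, hcv, hvc]
  have hb : ω • v ≠ 0 := smul_ne_zero hω0 hv
  have hc : c ≠ 0 := by
    rintro rfl
    exact hcK (Submodule.zero_mem _)
  have hab : v + ω • v ≠ 0 := by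
    have : v + ω • v = (1 + ω) • v := by rw [add_smul, one_smul]
    rw [this]
    exact smul_ne_zero hω1 hv
  have hac : v + c ≠ 0 := by
    have := hkc 1
    rwa [one_smul] at this
  have hbc : ω • v + c ≠ 0 := hkc ω
  have habc : v + ω • v + c ≠ 0 := by
    have := hkc (1 + ω)
    rwa [add_smul, one_smul] at this
  obtain ⟨g1, hg1, hg1z⟩ := hall (ω • v) c hb hc
  obtain ⟨g2, hg2, hg2z⟩ := hall (v + ω • v) (v + c) hab hac
  obtain ⟨g3, hg3, hg3z⟩ := hall (ω • v + c) (v + ω • v + c) hbc habc
  refine ⟨v, hv, g1 * g2 * g3, H.mul_mem (H.mul_mem hg1 hg2) hg3, fun z => ?_⟩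
  rw [LinearEquiv.mul_apply, LinearEquiv.mul_apply, hg3z, hg2z, hg1z, c3sr22e_seven h20 B hI z, one_mul]

end Cfsg.Agent.Lib.helper8.C3S
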