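import Mathlib
import Cfsg.Agent.Lib.Helper10.C6P.Defs
import Cfsg.Agent.Lib.Helper11.C6PE3Wcore
import Cfsg.Agent.Lib.helper7.C6PWCZ

set_option autoImplicit false
set_option linter.unusedVariables false
set_option linter.unusedSectionVars false

/-!
# Project C6P (S6000; designer helper10), row E3W (`wit_three`): order-3 elements of both types in `N(R)` (helper11).  Wrapper of `c6pe3w_core`.
-/

namespace Cfsg.Agent.Lib.Helper10.C6P

open Polynomial Matrix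

variable {F : Type*} [Field F]

section fin

variable [Fintype F] {p : ℕ} [Fact p.Prime] [CharP F p]

/-- E3W [M] : `y = 2⁻¹ • UB`: `y² + y + 1 = 0`, so `y³ = 1` and `charpoly y = (X²+X+1)²` (LCHAR1, degree);  `y = 4⁻¹ • UA`: `y³ = 1`, `y ≠ 1`, `det (y - 1) = 0`:
LCHAR2 + LROOT + LONE + degrees give `(X-1)² (X²+X+1)`.  WUB, WUA, WSMUL, WTRANS. -/
theorem wit_three (hF : Fintype.card F = p) (hp3 : p % 3 = 2) {i : F} {R : Subgroup (GL (Fin 4) F)} (hstd : HasStd i R) (h2 : (2 : F) ≠ 0) :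
    (∃ y : M4 F, Nrm R y ∧ y ^ 3 = 1 ∧ y.charpoly = (X ^ 2 + X + 1 : F[X]) ^ 2) ∧
    (∃ y : M4 F, Nrm R y ∧ y ^ 3 = 1 ∧ y.charpoly = (X - C (1 : F)) ^ 2 * (X ^ 2 + X + 1 : F[X])) := by
  obtain ⟨P, hP⟩ := hstd
  exact c6pe3w_core hF hp3 P h2 (nrm_UB hP h2) (nrm_UA hP h2)

end fin

end Cfsg.Agent.Lib.Helper10.C6P
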