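import Mathlib
import Cfsg.Agent.Lib.Helper10.C6P.Defs
import Cfsg.Agent.Lib.Helper11.C6PE5Wcore
import Cfsg.Agent.Lib.helper7.C6PWCZ

set_option autoImplicit false
set_option linter.unusedVariables false
set_option linter.unusedSectionVars false

/-!
# Project C6P (S6000; designer helper10), row E5W (`wit_five`): an order-5 element with characteristic polynomial `Φ_5` in `N(R)` (helper11).  Wrapper of `c6pe5w_core`.
-/

namespace Cfsg.Agent.Lib.Helper10.C6P

open Polynomial Matrix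

variable {F : Type*} [Field F]

section fin

variable [Fintype F] {p : ℕ} [Fact p.Prime] [CharP F p]

/-- E5W [M] : `w'` with `w'^5 = 32 i` (EROOT: `5 ∤ p - 1` since `p ≢ 1 (mod 5)`), `y = w'⁻¹ • Y5`: `y^5 = 1`, `y ≠ 1` (`Y5` is not scalar); `X^5 - 1 = (X - 1) Φ_5`, LCHAR2, degrees `j + 4k = 4`,
LONE: `charpoly y = Φ_5`.  WY5, WSMUL, WTRANS. -/
theorem wit_five (hF : Fintype.card F = p) (h5 : orderOf (p : ZMod 5) = 4) {i : F} {R : Subgroup (GL (Fin 4) F)} (hstd : HasStd i R)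
    (h2 : (2 : F) ≠ 0) : ∃ y : M4 F, Nrm R y ∧ y ^ 5 = 1 ∧ y.charpoly = cyclotomic 5 F := by
  obtain ⟨P, hP⟩ := hstd
  exact c6pe5w_core hF h5 P hP.1 h2 (nrm_Y5 hP h2)

end fin

end Cfsg.Agent.Lib.Helper10.C6P
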