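import Mathlib
import Cfsg.Prelude.Def_GeometricClasses
import Cfsg.Agent.Lib.Helper29.C6P.DefsS

set_option autoImplicit false
set_option linter.unusedVariables false
set_option linter.unusedSectionVars false
set_option linter.unusedSimpArgs false

/-!
# Project C6P (S6000), PART S, row S7 (`s_frame`): the adapted basis of a Pauli quadruple (helper11).
`E = (1 + G1)(1 + G2)` has trace `4`, so some entry `E i0 j0 ≠ 0`; the columns `j0` of `E, H2 E, H1 E, H1 H2 E` form `P`, the rows `i0` of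
`E, E H2, E H1, E H1 H2` form `Q`, and `Q P = 4 (E i0 j0) • 1`.
-/

namespace Cfsg.Agent.Lib.Helper10.C6P

open Cfsg Cfsg.Geo
open scoped MatrixGroups

variable {K : Type*} [Field K]

/-- the (unnormalised) projection on the joint `+1`-eigenspace of `G1`, `G2` -/
def c6ps7_E (G1 G2 : Matrix (Fin 4) (Fin 4) K) : Matrix (Fin 4) (Fin 4) K := (1 + G1) * (1 + G2)

/-- the four column generators -/
def c6ps7_A (G1 H1 G2 H2 : Matrix (Fin 4) (Fin 4) K) : Fin 4 → Matrix (Fin 4) (Fin 4) K :=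
  ![c6ps7_E G1 G2, H2 * c6ps7_E G1 G2, H1 * c6ps7_E G1 G2, H1 * (H2 * c6ps7_E G1 G2)]

/-- the four row generators -/
def c6ps7_B (G1 H1 G2 H2 : Matrix (Fin 4) (Fin 4) K) : Fin 4 → Matrix (Fin 4) (Fin 4) K :=
  ![c6ps7_E G1 G2, c6ps7_E G1 G2 * H2, c6ps7_E G1 G2 * H1, c6ps7_E G1 G2 * (H1 * H2)]

theorem c6ps7_half (h2 : (2 : K) ≠ 0) (a : K) (h : a = -a) : a = 0 := by
  have h3 : (2 : K) * a = 0 := by linear_combination h
  rcases mul_eq_zero.mp h3 with h4 | h4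
  · exact absurd h4 h2
  · exact h4

/-- a matrix anticommuting with an involution has trace zero -/
theorem c6ps7_trace_zero (h2 : (2 : K) ≠ 0) (A B : Matrix (Fin 4) (Fin 4) K) (hB : B * B = 1)
    (hAB : A * B = -(B * A)) : A.trace = 0 := by
  have h1 : A = -(B * A * B) := by
    have : A * B * B = -(B * A) * B := by rw [hAB]
    rw [mul_assoc, hB, mul_one, neg_mul] at this
    exact this
  have h3 : A.trace = -A.trace := by
    conv_lhs => rw [h1]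
    rw [Matrix.trace_neg, Matrix.trace_mul_comm, ← mul_assoc, hB, one_mul]
  exact c6ps7_half h2 _ h3

theorem c6ps7_trace_E (h2 : (2 : K) ≠ 0) (G1 H1 G2 H2 : Matrix (Fin 4) (Fin 4) K) (h : PauliRel G1 H1 G2 H2) :
    (c6ps7_E G1 G2).trace = 4 := by
  have t1 : G1.trace = 0 := c6ps7_trace_zero h2 G1 H1 h.h1sq h.a1
  have t2 : G2.trace = 0 := c6ps7_trace_zero h2 G2 H2 h.h2sq h.a2
  have t3 : (G1 * G2).trace = 0 := by
    refine c6ps7_trace_zero h2 (G1 * G2) H1 h.h1sq ?_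
    rw [mul_assoc, ← h.ch12, ← mul_assoc, h.a1, neg_mul, mul_assoc]
  have : c6ps7_E G1 G2 = 1 + G1 + G2 + G1 * G2 := by
    unfold c6ps7_E
    rw [add_mul, mul_add, mul_add, one_mul, mul_one, one_mul]
    abel
  rw [this, Matrix.trace_add, Matrix.trace_add, Matrix.trace_add, t1, t2, t3, Matrix.trace_one]
  simp

/-- the identities between the generators `A j`, `B i` (normal form `± G1^a G2^b H1^c H2^d` of words, then `abel`) -/
theorem c6ps7_ids (G1 H1 G2 H2 : Matrix (Fin 4) (Fin 4) K) (h : PauliRel G1 H1 G2 H2) :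
    (∀ i j : Fin 4, c6ps7_B G1 H1 G2 H2 i * c6ps7_A G1 H1 G2 H2 j =
      if i = j then c6ps7_E G1 G2 + c6ps7_E G1 G2 + c6ps7_E G1 G2 + c6ps7_E G1 G2 else 0) ∧
    (∀ j : Fin 4, G1 * c6ps7_A G1 H1 G2 H2 j = (![1, 1, -1, -1] j : K) • c6ps7_A G1 H1 G2 H2 j) ∧
    (∀ j : Fin 4, G2 * c6ps7_A G1 H1 G2 H2 j = (![1, -1, 1, -1] j : K) • c6ps7_A G1 H1 G2 H2 j) ∧
    (∀ j : Fin 4, H1 * c6ps7_A G1 H1 G2 H2 j = c6ps7_A G1 H1 G2 H2 (![2, 3, 0, 1] j)) ∧
    (∀ j : Fin 4, H2 * c6ps7_A G1 H1 G2 H2 j = c6ps7_A G1 H1 G2 H2 (![1, 0, 3, 2] j)) := by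
  have a1 : ∀ x, G1 * (G1 * x) = x := fun x => by rw [← mul_assoc, h.g1sq, one_mul]
  have a2 : ∀ x, G2 * (G2 * x) = x := fun x => by rw [← mul_assoc, h.g2sq, one_mul]
  have a3 : ∀ x, H1 * (H1 * x) = x := fun x => by rw [← mul_assoc, h.h1sq, one_mul]
  have a4 : ∀ x, H2 * (H2 * x) = x := fun x => by rw [← mul_assoc, h.h2sq, one_mul]
  have b1 : G2 * G1 = G1 * G2 := h.c12.symm
  have b1' : ∀ x, G2 * (G1 * x) = G1 * (G2 * x) := fun x => by rw [← mul_assoc, b1, mul_assoc]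
  have b2 : H1 * G1 = -(G1 * H1) := by rw [h.a1, neg_neg]
  have b2' : ∀ x, H1 * (G1 * x) = -(G1 * (H1 * x)) := fun x => by rw [← mul_assoc, b2, neg_mul, mul_assoc]
  have b3 : H1 * G2 = G2 * H1 := h.ch12
  have b3' : ∀ x, H1 * (G2 * x) = G2 * (H1 * x) := fun x => by rw [← mul_assoc, b3, mul_assoc]
  have b4 : H2 * G1 = G1 * H2 := h.c1h2.symm
  have b4' : ∀ x, H2 * (G1 * x) = G1 * (H2 * x) := fun x => by rw [← mul_assoc, b4, mul_assoc]
  have b5 : H2 * G2 = -(G2 * H2) := by rw [h.a2, neg_neg]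
  have b5' : ∀ x, H2 * (G2 * x) = -(G2 * (H2 * x)) := fun x => by rw [← mul_assoc, b5, neg_mul, mul_assoc]
  have b6 : H2 * H1 = H1 * H2 := h.chh.symm
  have b6' : ∀ x, H2 * (H1 * x) = H1 * (H2 * x) := fun x => by rw [← mul_assoc, b6, mul_assoc]
  refine ⟨?_, ?_, ?_, ?_, ?_⟩
  · intro i j
    fin_cases i <;> fin_cases j <;>
      simp only [c6ps7_A, c6ps7_B, Fin.zero_eta, Fin.mk_one, Fin.reduceFinMk, Matrix.cons_val_zero, Matrix.cons_val_one, Matrix.cons_val,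
        Fin.isValue, Fin.reduceEq, if_true, if_false] <;>
      simp only [c6ps7_E, mul_add, add_mul, mul_one, one_mul, mul_neg, neg_mul, neg_neg, mul_assoc,
        h.g1sq, h.g2sq, h.h1sq, h.h2sq, a1, a2, a3, a4, b1, b1', b2, b2', b3, b3', b4, b4', b5, b5', b6, b6'] <;>
      abel
  all_goals
    intro j
    fin_cases j <;>
      simp only [c6ps7_A, Fin.zero_eta, Fin.mk_one, Fin.reduceFinMk, Matrix.cons_val_zero, Matrix.cons_val_one, Matrix.cons_val,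
        Fin.isValue, Fin.reduceEq, if_true, if_false, one_smul, neg_smul] <;>
      simp only [c6ps7_E, mul_add, add_mul, mul_one, one_mul, mul_neg, neg_mul, neg_neg, mul_assoc,
        h.g1sq, h.g2sq, h.h1sq, h.h2sq, a1, a2, a3, a4, b1, b1', b2, b2', b3, b3', b4, b4', b5, b5', b6, b6'] <;>
      abel

/-- S7 [M-L] (the adapted basis; any field with `2 ≠ 0`). -/
theorem s_frame {K : Type*} [Field K] (h2 : (2 : K) ≠ 0) (G1 H1 G2 H2 : Matrix (Fin 4) (Fin 4) K)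
    (h : PauliRel G1 H1 G2 H2) :
    ∃ P : GL (Fin 4) K,
      G1 = (P : Matrix (Fin 4) (Fin 4) K) * pD1 * ((P⁻¹ : GL (Fin 4) K) : Matrix (Fin 4) (Fin 4) K) ∧
      H1 = (P : Matrix (Fin 4) (Fin 4) K) * pX1 * ((P⁻¹ : GL (Fin 4) K) : Matrix (Fin 4) (Fin 4) K) ∧
      G2 = (P : Matrix (Fin 4) (Fin 4) K) * pD2 * ((P⁻¹ : GL (Fin 4) K) : Matrix (Fin 4) (Fin 4) K) ∧
      H2 = (P : Matrix (Fin 4) (Fin 4) K) * pX2 * ((P⁻¹ : GL (Fin 4) K) : Matrix (Fin 4) (Fin 4) K) := by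
  classical
  obtain ⟨hBA, hG1, hG2, hH1, hH2⟩ := c6ps7_ids G1 H1 G2 H2 h
  have htr := c6ps7_trace_E h2 G1 H1 G2 H2 h
  have h4 : (4 : K) ≠ 0 := by
    have : (4 : K) = 2 * 2 := by norm_num
    rw [this]; exact mul_ne_zero h2 h2
  have hE0 : c6ps7_E G1 G2 ≠ 0 := by
    intro h0
    rw [h0, Matrix.trace_zero] at htr
    exact h4 htr.symm
  obtain ⟨i0, j0, hij⟩ : ∃ i0 j0, c6ps7_E G1 G2 i0 j0 ≠ 0 := by
    by_contra hcon
    push Not at hcon
    exact hE0 (by ext i j; exact hcon i j)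
  let P : Matrix (Fin 4) (Fin 4) K := Matrix.of fun i j => c6ps7_A G1 H1 G2 H2 j i j0
  let Q : Matrix (Fin 4) (Fin 4) K := Matrix.of fun i j => c6ps7_B G1 H1 G2 H2 i i0 j
  have hMP : ∀ (M : Matrix (Fin 4) (Fin 4) K) (i j : Fin 4), (M * P) i j = (M * c6ps7_A G1 H1 G2 H2 j) i j0 := by
    intro M i j
    simp [Matrix.mul_apply, P]
  have hQP : Q * P = (4 * c6ps7_E G1 G2 i0 j0) • (1 : Matrix (Fin 4) (Fin 4) K) := by
    ext i j
    have e1 : (Q * P) i j = (c6ps7_B G1 H1 G2 H2 i * c6ps7_A G1 H1 G2 H2 j) i0 j0 := by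
      simp [Matrix.mul_apply, P, Q]
    rw [e1, hBA i j]
    by_cases hijk : i = j
    · subst hijk
      simp only [if_true, Matrix.add_apply, Matrix.smul_apply, Matrix.one_apply_eq, smul_eq_mul]
      ring
    · simp only [if_neg hijk, Matrix.zero_apply, Matrix.smul_apply, Matrix.one_apply_ne hijk, smul_eq_mul, mul_zero]
  have hc : (4 * c6ps7_E G1 G2 i0 j0) ≠ 0 := mul_ne_zero h4 hij
  have hU : IsUnit P := by
    rw [Matrix.isUnit_iff_isUnit_det]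
    refine Matrix.isUnit_det_of_left_inverse (B := (4 * c6ps7_E G1 G2 i0 j0)⁻¹ • Q) ?_
    rw [Matrix.smul_mul, hQP, smul_smul, inv_mul_cancel₀ hc, one_smul]
  have hP1 : G1 * P = P * pD1 := by
    ext i j
    rw [hMP, hG1 j, pD1, Matrix.mul_diagonal, Matrix.smul_apply, smul_eq_mul, mul_comm]
    rfl
  have hP3 : G2 * P = P * pD2 := by
    ext i j
    rw [hMP, hG2 j, pD2, Matrix.mul_diagonal, Matrix.smul_apply, smul_eq_mul, mul_comm]
    rfl
  have hP2 : H1 * P = P * pX1 := by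
    ext i j
    rw [hMP, hH1 j]
    fin_cases j <;> simp [pX1, Matrix.mul_apply, Fin.sum_univ_four, P]
  have hP4 : H2 * P = P * pX2 := by
    ext i j
    rw [hMP, hH2 j]
    fin_cases j <;> simp [pX2, Matrix.mul_apply, Fin.sum_univ_four, P]
  obtain ⟨P', hP'⟩ := hU
  rw [← hP'] at hP1 hP2 hP3 hP4
  refine ⟨P', ?_, ?_, ?_, ?_⟩
  · rw [← hP1, mul_assoc, Units.mul_inv, mul_one]
  · rw [← hP2, mul_assoc, Units.mul_inv, mul_one]
  · rw [← hP3, mul_assoc, Units.mul_inv, mul_one]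
  · rw [← hP4, mul_assoc, Units.mul_inv, mul_one]

end Cfsg.Agent.Lib.Helper10.C6P
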