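import Mathlib
import Cfsg.Prelude.Def_GeometricClasses
import Cfsg.Agent.Lib.Helper29.C6P.DefsS

set_option autoImplicit false
set_option linter.unusedVariables false
set_option linter.unusedSectionVars false

/-!
# Project C6P (S6000), PART S, row S8 (`s_comm_scalar`): a 4x4 matrix commuting with the four standard Pauli matrices is scalar.
-/

namespace Cfsg.Agent.Lib.Helper10.C6P

open Cfsg Cfsg.Geo
open scoped MatrixGroups

/-- the entries of `M * pD1` and `pD1 * M` -/
theorem c6ps8_half {K : Type*} [Field K] (h2 : (2 : K) ≠ 0) (a : K) (h : a = -a) : a = 0 := by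
  have h3 : (2 : K) * a = 0 := by linear_combination h
  rcases mul_eq_zero.mp h3 with h4 | h4
  · exact absurd h4 h2
  · exact h4

/-- S8 [S] (entrywise: commuting with `pD1, pD2` makes `M` diagonal, with `pX1, pX2` makes the diagonal constant). -/
theorem s_comm_scalar {K : Type*} [Field K] (h2 : (2 : K) ≠ 0) (M : Matrix (Fin 4) (Fin 4) K)
    (hd1 : M * pD1 = pD1 * M) (hx1 : M * pX1 = pX1 * M) (hd2 : M * pD2 = pD2 * M) (hx2 : M * pX2 = pX2 * M) :
    ∃ c : K, M = c • (1 : Matrix (Fin 4) (Fin 4) K) := by
  have e1 : ∀ i j : Fin 4, (M * (pD1 : Matrix (Fin 4) (Fin 4) K)) i j = ((pD1 : Matrix (Fin 4) (Fin 4) K) * M) i j :=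
    fun i j => congrFun (congrFun hd1 i) j
  have e2 : ∀ i j : Fin 4, (M * (pD2 : Matrix (Fin 4) (Fin 4) K)) i j = ((pD2 : Matrix (Fin 4) (Fin 4) K) * M) i j :=
    fun i j => congrFun (congrFun hd2 i) j
  have e3 : ∀ i j : Fin 4, (M * (pX1 : Matrix (Fin 4) (Fin 4) K)) i j = ((pX1 : Matrix (Fin 4) (Fin 4) K) * M) i j :=
    fun i j => congrFun (congrFun hx1 i) j
  have e4 : ∀ i j : Fin 4, (M * (pX2 : Matrix (Fin 4) (Fin 4) K)) i j = ((pX2 : Matrix (Fin 4) (Fin 4) K) * M) i j :=
    fun i j => congrFun (congrFun hx2 i) j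
  simp only [pD1, pD2, Matrix.mul_diagonal, Matrix.diagonal_mul] at e1 e2
  -- off-diagonal entries vanish
  have z01 : M 0 1 = 0 := by
    have := e2 0 1
    simp at this
    exact c6ps8_half h2 _ (by linear_combination -this)
  have z10 : M 1 0 = 0 := by
    have := e2 1 0
    simp at this
    exact c6ps8_half h2 _ this
  have z02 : M 0 2 = 0 := by
    have := e1 0 2
    simp at this
    exact c6ps8_half h2 _ (by linear_combination -this)
  have z20 : M 2 0 = 0 := by
    have := e1 2 0
    simp at this
    exact c6ps8_half h2 _ this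
  have z03 : M 0 3 = 0 := by
    have := e1 0 3
    simp at this
    exact c6ps8_half h2 _ (by linear_combination -this)
  have z30 : M 3 0 = 0 := by
    have := e1 3 0
    simp at this
    exact c6ps8_half h2 _ this
  have z12 : M 1 2 = 0 := by
    have := e1 1 2
    simp at this
    exact c6ps8_half h2 _ (by linear_combination -this)
  have z21 : M 2 1 = 0 := by
    have := e1 2 1
    simp at this
    exact c6ps8_half h2 _ this
  have z13 : M 1 3 = 0 := by
    have := e1 1 3
    simp at this
    exact c6ps8_half h2 _ (by linear_combination -this)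
  have z31 : M 3 1 = 0 := by
    have := e1 3 1
    simp at this
    exact c6ps8_half h2 _ this
  have z23 : M 2 3 = 0 := by
    have := e2 2 3
    simp at this
    exact c6ps8_half h2 _ (by linear_combination -this)
  have z32 : M 3 2 = 0 := by
    have := e2 3 2
    simp at this
    exact c6ps8_half h2 _ this
  -- the diagonal is constant
  have d1 : M 1 1 = M 0 0 := by
    have := e4 0 1
    simp [pX2, Matrix.mul_apply, Fin.sum_univ_four] at this
    exact this.symm
  have d2 : M 2 2 = M 0 0 := by
    have := e3 0 2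
    simp [pX1, Matrix.mul_apply, Fin.sum_univ_four] at this
    exact this.symm
  have d3 : M 3 3 = M 0 0 := by
    have := e3 1 3
    simp [pX1, Matrix.mul_apply, Fin.sum_univ_four] at this
    rw [← this, d1]
  refine ⟨M 0 0, ?_⟩
  ext i j
  fin_cases i <;> fin_cases j <;> simp [z01, z10, z02, z20, z03, z30, z12, z21, z13, z31, z23, z32, d1, d2, d3]

end Cfsg.Agent.Lib.Helper10.C6P
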