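import Mathlib
import Cfsg.Agent.Lib.helper3.C6U.Defs
import Cfsg.Agent.Lib.helper7.C6PWSMUL

set_option autoImplicit false
set_option linter.unusedVariables false
set_option linter.unusedSectionVars false

/-!
# Project C6U (S6001; designer helper3), row B5 (`std_unitary`), CORE: the conjugating matrix can be taken unitary, with the statements of A3 / B1 / B4 as hypotheses (helper11).
-/

namespace Cfsg.Agent.Lib.helper3.C6U

open Polynomial Matrix
open Cfsg.Agent.Lib.Helper10.C6P
open scoped MatrixGroups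

variable {F : Type*} [Field F]

section fin

variable [Fintype F] {p : ℕ} [Fact p.Prime] [CharP F p]

/-- `A.map (· ^ p)` is the image under the Frobenius ring homomorphism -/
theorem c6ub5_map_frob (A : M4 F) : A.map (fun a => a ^ p) = A.map (frobenius F p) := rfl

theorem c6ub5_map_mul (A B : M4 F) : (A * B).map (fun a => a ^ p) = A.map (fun a => a ^ p) * B.map (fun a => a ^ p) := by
  rw [c6ub5_map_frob, c6ub5_map_frob, c6ub5_map_frob, Matrix.map_mul]

/-- W1 again (own copy, from Mathlib's Frobenius) -/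
theorem c6ub5_gram_mul (A B : M4 F) : gram p (A * B) = B.transpose * gram p A * B.map (fun a => a ^ p) := by
  unfold gram
  rw [Matrix.transpose_mul, c6ub5_map_mul]
  simp only [Matrix.mul_assoc]

theorem c6ub5_frob2 (hF : Fintype.card F = p ^ 2) (a : F) : (a ^ p) ^ p = a := by
  rw [← pow_mul, ← pow_two, ← hF, FiniteField.pow_card]

/-- the Gram matrix is hermitian -/
theorem c6ub5_gram_herm (hF : Fintype.card F = p ^ 2) (B : M4 F) (j k : Fin 4) : (gram p B j k) ^ p = gram p B k j := by
  unfold gram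
  rw [Matrix.mul_apply, Matrix.mul_apply, sum_pow_char]
  apply Finset.sum_congr rfl
  intro l _
  rw [Matrix.transpose_apply, Matrix.map_apply, Matrix.transpose_apply, Matrix.map_apply, mul_pow, c6ub5_frob2 hF, mul_comm]

theorem c6ub5_gram_smul (l : F) (B : M4 F) : gram p (l • B) = (l * l ^ p) • gram p B := by
  unfold gram
  have : (l • B).map (fun a => a ^ p) = (l ^ p) • B.map (fun a => a ^ p) := by
    ext j k
    simp [mul_pow]
  rw [this, Matrix.transpose_smul, Matrix.smul_mul, Matrix.mul_smul, smul_smul]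

/-- core of B5: `hnorm` = statement of A3 (`norm_onto`), `hgu` = B1 (`gu_iff`), `hpu` = B4 (`pauli_unitary` with `i ^ p = -i`) -/
theorem c6ub5_core (hF : Fintype.card F = p ^ 2) {i : F} {R : Subgroup (GL (Fin 4) F)} (hctx : RCtx i R)
    (hRU : R ≤ Cfsg.GU 4 F p) (hstd : HasStd i R)
    (hnorm : ∀ c : F, c ≠ 0 → c ^ p = c → ∃ l : F, l ^ (p + 1) = c)
    (hgu : ∀ g : GL (Fin 4) F, g ∈ Cfsg.GU 4 F p ↔ IsU p (g : M4 F))
    (hpu : ∀ a b c d e : ℕ, IsU p (pauliM i a b c d e)) : HasStdU p i R := by
  classical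
  obtain ⟨P, hP⟩ := hstd
  -- the Gram matrix of `P` is `R`-invariant
  have hK : ∀ g ∈ R, (g : M4 F).transpose * gram p (P : M4 F) * (g : M4 F).map (fun a => a ^ p) = gram p (P : M4 F) := by
    intro g hg
    have hmem : P * g * P⁻¹ ∈ R.map (MulAut.conj P).toMonoidHom := ⟨g, hg, rfl⟩
    obtain ⟨a, b, c, d, e, habc⟩ := (hP.2 _).mp hmem
    have hU' : IsU p ((P * g * P⁻¹ : GL (Fin 4) F) : M4 F) := by rw [habc]; exact hpu a b c d e
    have heq : ((P * g * P⁻¹ : GL (Fin 4) F) : M4 F) * (P : M4 F) = (P : M4 F) * (g : M4 F) := by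
      rw [← Units.val_mul, ← Units.val_mul]
      congr 1
      group
    rw [← c6ub5_gram_mul, ← heq, c6ub5_gram_mul]
    unfold IsU at hU'
    rw [hU', Matrix.mul_one]
    rfl
  -- its transpose commutes with `R`
  have hcomm : ∀ g ∈ R, (gram p (P : M4 F)).transpose * (g : M4 F) = (g : M4 F) * (gram p (P : M4 F)).transpose := by
    intro g hg
    have hU : IsU p (g : M4 F) := (hgu g).mp (hRU hg)
    unfold IsU gram at hU
    have hU2 : (g : M4 F).map (fun a => a ^ p) * (g : M4 F).transpose = 1 := mul_eq_one_comm.mp hU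
    have h1 : (g : M4 F).transpose * gram p (P : M4 F) = gram p (P : M4 F) * (g : M4 F).transpose := by
      have := congrArg (fun M => M * (g : M4 F).transpose) (hK g hg)
      simp only [Matrix.mul_assoc, hU2, Matrix.mul_one] at this
      exact this
    have h2 := congrArg Matrix.transpose h1
    rw [Matrix.transpose_mul, Matrix.transpose_mul, Matrix.transpose_transpose] at h2
    exact h2
  obtain ⟨c, hc⟩ := hctx.comm _ hcomm
  have hKc : gram p (P : M4 F) = c • (1 : M4 F) := by
    have := congrArg Matrix.transpose hc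
    rw [Matrix.transpose_transpose, Matrix.transpose_smul, Matrix.transpose_one] at this
    exact this
  have hc0 : c ≠ 0 := by
    intro h0
    rw [h0, zero_smul] at hKc
    unfold gram at hKc
    have h1 : ((P⁻¹ : GL (Fin 4) F) : M4 F).transpose * ((P : M4 F).transpose * (P : M4 F).map (fun a => a ^ p)) = 0 := by
      rw [hKc, Matrix.mul_zero]
    rw [← Matrix.mul_assoc, ← Matrix.transpose_mul, ← Units.val_mul, mul_inv_cancel, Units.val_one, Matrix.transpose_one,
      Matrix.one_mul] at h1
    have h2 : (P : M4 F) = 0 := by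
      ext j k
      have := congrFun (congrFun h1 j) k
      simp only [Matrix.map_apply, Matrix.zero_apply] at this
      exact pow_eq_zero_iff (Fact.out : p.Prime).ne_zero |>.mp this
    have h3 : (1 : M4 F) = 0 := by
      rw [← Units.val_one (α := M4 F), ← mul_inv_cancel P, Units.val_mul, h2, Matrix.zero_mul]
    exact one_ne_zero h3
  have hcp : c ^ p = c := by
    have := c6ub5_gram_herm hF (P : M4 F) 0 0
    rw [hKc] at this
    simpa using this
  obtain ⟨l, hl⟩ := hnorm c hc0 hcp
  have hl0 : l ≠ 0 := by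
    intro h0
    rw [h0, zero_pow (by omega)] at hl
    exact hc0 hl.symm
  refine ⟨c6pwsmul_scal l⁻¹ (inv_ne_zero hl0) * P, ?_, ?_⟩
  · rw [hgu]
    unfold IsU
    rw [Units.val_mul, c6pwsmul_scal_coe, Matrix.smul_mul, Matrix.one_mul, c6ub5_gram_smul, hKc, smul_smul]
    have : l⁻¹ * l⁻¹ ^ p * c = 1 := by
      rw [← hl, pow_succ, inv_pow]
      field_simp
    rw [this, one_smul]
  · have hconj : (MulAut.conj (c6pwsmul_scal l⁻¹ (inv_ne_zero hl0) * P)).toMonoidHom = (MulAut.conj P).toMonoidHom := by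
      ext g : 1
      simp only [MulEquiv.coe_toMonoidHom, MulAut.conj_apply]
      have e : c6pwsmul_scal l⁻¹ (inv_ne_zero hl0) * P * g * (c6pwsmul_scal l⁻¹ (inv_ne_zero hl0) * P)⁻¹ =
          c6pwsmul_scal l⁻¹ (inv_ne_zero hl0) * (P * g * P⁻¹) * (c6pwsmul_scal l⁻¹ (inv_ne_zero hl0))⁻¹ := by group
      rw [e, c6pwsmul_scal_comm, mul_assoc, mul_inv_cancel, mul_one]
    rw [hconj]
    exact hP

end fin

end Cfsg.Agent.Lib.helper3.C6U
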