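import Mathlib
import Cfsg.Agent.Lib.helper3.C6U.Defs
import Cfsg.Agent.Lib.Helper11.C6UB5core
import Cfsg.Agent.Lib.Helper22.C6UA3
import Cfsg.Agent.Lib.Helper9.C6UA4
import Cfsg.Agent.Lib.Helper25.C6UB1
import Cfsg.Agent.Lib.Helper25.C6UB4

set_option autoImplicit false
set_option linter.unusedVariables false
set_option linter.unusedSectionVars false

/-!
# Project C6U (S6001; designer helper3), row B5 (`std_unitary`): the conjugating matrix can be taken unitary (helper11).  Wrapper of `c6ub5_core` (A3, A4, B1, B4).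
-/

namespace Cfsg.Agent.Lib.helper3.C6U

open Polynomial Matrix
open Cfsg.Agent.Lib.Helper10.C6P
open scoped MatrixGroups

variable {F : Type*} [Field F]

section fin

variable [Fintype F] {p : ℕ} [Fact p.Prime] [CharP F p]

/-- B5 [M-L] : the conjugating matrix can be taken unitary.  `P R P⁻¹ = R_std`, both unitary (B1, B4): for `g ∈ R` the matrix `K = gram p P` (`= Pᵀ σ(P)`) satisfies
`gᵀ K σ(g) = K`, so `σ(K)`... commutes with `R`: `RCtx.comm` gives `K = c • 1`, `c ≠ 0`, `c ^ p = c` (`Kᵀ = σ(K)`); A3: `c = l^(p+1)`; `l⁻¹ • P` is unitary and induces the same conjugation. -/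
theorem std_unitary (hF : Fintype.card F = p ^ 2) (hp4 : p % 4 = 3) {i : F} {R : Subgroup (GL (Fin 4) F)} (hctx : RCtx i R)
    (hRU : R ≤ Cfsg.GU 4 F p) (hstd : HasStd i R) : HasStdU p i R :=
  c6ub5_core hF hctx hRU hstd (fun c hc0 hc => norm_onto hF c hc0 hc) (fun g => gu_iff hF g)
    (fun a b c d e => pauli_unitary i hctx.hi (i_frob hp4 i hctx.hi) a b c d e)

end fin

end Cfsg.Agent.Lib.helper3.C6U
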