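import Mathlib
import Cfsg.Agent.Lib.helper3.C6U.Defs
import Cfsg.Agent.Lib.Helper11.C6UB5core
import Cfsg.Agent.Lib.Helper20.C6UA1
import Cfsg.Agent.Lib.Helper9.C6UA4
import Cfsg.Agent.Lib.Helper25.C6UB1
import Cfsg.Agent.Lib.helper15.C6UW1
import Cfsg.Agent.Lib.helper15.C6UE0

set_option autoImplicit false
set_option linter.unusedVariables false
set_option linter.unusedSectionVars false

/-!
# Project C6U (S6001; designer helper3), row E4 (`suff_three_u`), CORE: sufficiency for `r = 3`, `p ≡ 1 (3)`, with the statements of E3 (`nf_three`) and W3 (`wit_three_u`) as hypotheses (helper11).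
-/

namespace Cfsg.Agent.Lib.helper3.C6U

open Polynomial Matrix
open Cfsg.Agent.Lib.Helper10.C6P
open scoped MatrixGroups

variable {F : Type*} [Field F]

section fin

variable [Fintype F] {p : ℕ} [Fact p.Prime] [CharP F p]

/-- the centralizing isometry `diag(ν, (ν^p)⁻¹, 1, 1)` of determinant `δ` -/
theorem c6ue4_C (hF : Fintype.card F = p ^ 2) (ω : F) (a : ℕ) (δ : F) (hδ : δ ^ (p + 1) = 1) :
    ∃ C : GL (Fin 4) F,
      (C : M4 F).transpose * G3 F a * (C : M4 F).map (fun a => a ^ p) = G3 F a ∧ (C : M4 F) * D3 ω a = D3 ω a * (C : M4 F) ∧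
      (C : M4 F).det = δ := by
  have hp0 : p ≠ 0 := (Fact.out : p.Prime).ne_zero
  have hδ0 : δ ≠ 0 := by
    rintro rfl
    rw [zero_pow (by omega)] at hδ
    exact zero_ne_one hδ
  have hδi : δ⁻¹ ^ (p + 1) = 1 := by rw [inv_pow, hδ, inv_one]
  obtain ⟨ν, hν0, hν⟩ := h90 hF δ⁻¹ hδi
  have hνp0 : ν ^ p ≠ 0 := pow_ne_zero _ hν0
  have hdet : (Matrix.diagonal ![ν, (ν ^ p)⁻¹, 1, 1] : M4 F).det = δ := by
    rw [Matrix.det_diagonal, Fin.prod_univ_four]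
    simp only [Matrix.cons_val_zero, Matrix.cons_val_one, Matrix.cons_val]
    rw [hν]
    field_simp
  have hdet0 : (Matrix.diagonal ![ν, (ν ^ p)⁻¹, 1, 1] : M4 F).det ≠ 0 := by rw [hdet]; exact hδ0
  refine ⟨Matrix.GeneralLinearGroup.mkOfDetNeZero _ hdet0, ?_, ?_, ?_⟩
  · have hmap : (Matrix.diagonal ![ν, (ν ^ p)⁻¹, 1, 1] : M4 F).map (fun a => a ^ p) =
        Matrix.diagonal ![ν ^ p, ν⁻¹, 1, 1] := by
      ext j k
      fin_cases j <;> fin_cases k <;> simp [Matrix.diagonal, hp0, c6ub5_frob2 hF]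
    show (Matrix.diagonal ![ν, (ν ^ p)⁻¹, 1, 1] : M4 F).transpose * G3 F a *
      (Matrix.diagonal ![ν, (ν ^ p)⁻¹, 1, 1] : M4 F).map (fun a => a ^ p) = G3 F a
    rw [hmap, Matrix.diagonal_transpose]
    unfold G3
    split_ifs with h
    · ext j k
      fin_cases j <;> fin_cases k <;> simp [Matrix.mul_apply, Matrix.diagonal, hν0, hνp0]
    · ext j k
      fin_cases j <;> fin_cases k <;> simp [Matrix.mul_apply, Matrix.diagonal, hν0, hνp0]
  · show (Matrix.diagonal ![ν, (ν ^ p)⁻¹, 1, 1] : M4 F) * D3 ω a = D3 ω a * (Matrix.diagonal ![ν, (ν ^ p)⁻¹, 1, 1] : M4 F)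
    unfold D3
    split_ifs with h
    · rw [Matrix.diagonal_mul_diagonal, Matrix.diagonal_mul_diagonal]
      congr 1
      funext k
      exact mul_comm _ _
    · rw [Matrix.diagonal_mul_diagonal, Matrix.diagonal_mul_diagonal]
      congr 1
      funext k
      exact mul_comm _ _
  · exact hdet

theorem c6ue4_gram_one : gram p (1 : M4 F) = 1 := by
  unfold gram
  rw [Matrix.transpose_one, Matrix.one_mul]
  ext j k
  by_cases h : j = k
  · subst h; simp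
  · simp [Matrix.one_apply_ne h, (Fact.out : p.Prime).ne_zero]

/-- core of E4: `hE3` = statement of E3 (`nf_three`), `hW3` = statement of W3 (`wit_three_u`) -/
theorem c6ue4_core (hF : Fintype.card F = p ^ 2) (hp4 : p % 4 = 3) (hp3 : p % 3 = 1) {i : F} {R : Subgroup (GL (Fin 4) F)}
    (hctx : RCtx i R) (hstd : HasStdU p i R)
    (hE3 : ∀ ω : F, ω ^ 2 + ω + 1 = 0 → ω ^ p = ω → ∀ u : M4 F, IsU p u → u ^ 3 = 1 → u ≠ 1 →
      ∃ (a : ℕ) (B : GL (Fin 4) F), (a = 1 ∨ a = 2) ∧ (a = 2 ↔ (u - 1).det ≠ 0) ∧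
        gram p (B : M4 F) = G3 F a ∧ ((B⁻¹ : GL (Fin 4) F) : M4 F) * u * (B : M4 F) = D3 ω a)
    (hW3 : ∀ R' : Subgroup (GL (Fin 4) F), IsStd i R' →
      (∃ y : M4 F, NrmU p R' y ∧ y ^ 3 = 1 ∧ y ≠ 1 ∧ (y - 1).det ≠ 0) ∧
      (∃ y : M4 F, NrmU p R' y ∧ y ^ 3 = 1 ∧ y ≠ 1 ∧ (y - 1).det = 0)) :
    AllFixU p R 3 := by
  classical
  intro x hx hz hns
  obtain ⟨z, hz⟩ := hz
  have hxU : IsU p (x : M4 F) := (gu_iff hF x).mp hx.1
  have hxdet : (x : M4 F).det = 1 := by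
    have h1 : Matrix.GeneralLinearGroup.det x = 1 := MonoidHom.mem_ker.mp hx.2
    have h2 := congrArg (fun u : Fˣ => (u : F)) h1
    simpa using h2
  have hx3 : (x : M4 F) ^ 3 = z • (1 : M4 F) := by rw [← hz, Units.val_pow_eq_pow_val]
  -- `z` has norm one and `z ^ 4 = 1`
  have hx3U : IsU p ((x : M4 F) ^ 3) := by
    rw [pow_succ, pow_two]
    exact c6uw1_isU_mul _ _ (c6uw1_isU_mul _ _ hxU hxU) hxU
  have hzn : z ^ (p + 1) = 1 := by
    rw [hx3] at hx3U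
    unfold IsU at hx3U
    rw [c6ub5_gram_smul, c6ue4_gram_one] at hx3U
    have := congrFun (congrFun hx3U 0) 0
    simp only [Matrix.smul_apply, Matrix.one_apply_eq, smul_eq_mul, mul_one] at this
    rw [pow_succ']; exact this
  have hz4 : z ^ 4 = 1 := by
    have := congrArg Matrix.det hx3
    rw [Matrix.det_pow, hxdet, one_pow, Matrix.det_smul, Matrix.det_one, mul_one, Fintype.card_fin] at this
    exact this.symm
  have hz0 : z ≠ 0 := by
    rintro rfl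
    rw [zero_pow (by norm_num)] at hz4
    exact zero_ne_one hz4
  -- `w = z ^ 3`
  have hw3 : (z ^ 3) ^ 3 = z := by
    have : (z ^ 3) ^ 3 = z * (z ^ 4) ^ 2 := by ring
    rw [this, hz4, one_pow, mul_one]
  have hwn : (z ^ 3) ^ (p + 1) = 1 := by rw [← pow_mul, mul_comm, pow_mul, hzn, one_pow]
  have hw0 : z ^ 3 ≠ 0 := pow_ne_zero _ hz0
  have hu3 : ((z ^ 3)⁻¹ • (x : M4 F)) ^ 3 = 1 := by
    rw [_root_.smul_pow, hx3, smul_smul, inv_pow, hw3, inv_mul_cancel₀ hz0, one_smul]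
  have huU : IsU p ((z ^ 3)⁻¹ • (x : M4 F)) := by
    unfold IsU
    rw [c6ub5_gram_smul]
    unfold IsU at hxU
    rw [hxU]
    have : (z ^ 3)⁻¹ * (z ^ 3)⁻¹ ^ p = 1 := by
      rw [← pow_succ', inv_pow, hwn, inv_one]
    rw [this, one_smul]
  have hune : (z ^ 3)⁻¹ • (x : M4 F) ≠ 1 := by
    intro h1
    apply hns (z ^ 3)
    rw [← h1, smul_smul, mul_inv_cancel₀ hw0, one_smul]
  obtain ⟨ω, hω, hωp⟩ := exists_omega hF hp3
  obtain ⟨a, Bu, ha, hadet, hBu, hDu⟩ := hE3 ω hω hωp _ huU hu3 hune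
  obtain ⟨P, hPU, hP⟩ := hstd
  -- the witness of the right type
  have hwit : ∃ y0 : M4 F, NrmU p (R.map (MulAut.conj P).toMonoidHom) y0 ∧ y0 ^ 3 = 1 ∧ y0 ≠ 1 ∧ (a = 2 ↔ (y0 - 1).det ≠ 0) := by
    obtain ⟨⟨y1, hy1N, hy13, hy1ne, hy1d⟩, ⟨y2, hy2N, hy23, hy2ne, hy2d⟩⟩ := hW3 _ hP
    rcases ha with ha | ha
    · refine ⟨y2, hy2N, hy23, hy2ne, ?_⟩
      rw [ha, hy2d]
      simp
    · refine ⟨y1, hy1N, hy13, hy1ne, ?_⟩
      rw [ha]
      simp [hy1d]
  obtain ⟨y0, hy0N, hy03, hy0ne, hy0d⟩ := hwit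
  have hyN := nrmu_transport hF R P hPU y0 hy0N
  have hy3 : (((P⁻¹ : GL (Fin 4) F) : M4 F) * y0 * (P : M4 F)) ^ 3 = 1 := by
    rw [Units.conj_pow', hy03, mul_one, Units.inv_mul]
  have hyne : ((P⁻¹ : GL (Fin 4) F) : M4 F) * y0 * (P : M4 F) ≠ 1 := by
    intro h1
    apply hy0ne
    have := congrArg (fun M => (P : M4 F) * M * ((P⁻¹ : GL (Fin 4) F) : M4 F)) h1
    simp only [Matrix.mul_one, Units.mul_inv] at this
    rw [← this]
    simp only [← Matrix.mul_assoc, Units.mul_inv, Matrix.one_mul]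
    rw [Matrix.mul_assoc, Units.mul_inv, Matrix.mul_one]
  have hyd : (((P⁻¹ : GL (Fin 4) F) : M4 F) * y0 * (P : M4 F) - 1).det = (y0 - 1).det := by
    have : ((P⁻¹ : GL (Fin 4) F) : M4 F) * y0 * (P : M4 F) - 1 = ((P⁻¹ : GL (Fin 4) F) : M4 F) * (y0 - 1) * (P : M4 F) := by
      rw [Matrix.mul_sub, Matrix.sub_mul, Matrix.mul_one, Units.inv_mul]
    rw [this, Matrix.det_units_conj']
  obtain ⟨a', By, ha', hadet', hBy, hDy⟩ := hE3 ω hω hωp _ hyN.2 hy3 hyne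
  have haa : a' = a := by
    rw [hyd] at hadet'
    have h2 : a' = 2 ↔ a = 2 := hadet'.trans hy0d.symm
    rcases ha with ha | ha <;> rcases ha' with ha' | ha'
    · rw [ha, ha']
    · exact absurd (h2.mp ha') (by omega)
    · exact absurd (h2.mpr ha) (by omega)
    · rw [ha, ha']
  subst haa
  exact uconj hF R x hx (z ^ 3) hwn _ hyN.1 (G3 F a') (D3 ω a') Bu By hBu hBy hDu hDy
    (fun δ hδ => c6ue4_C hF ω a' δ hδ)

end fin

end Cfsg.Agent.Lib.helper3.C6U
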