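import Mathlib
import Cfsg.Agent.Lib.helper3.C6U.Defs
import Cfsg.Agent.Lib.Helper11.C6UE4core
import Cfsg.Agent.Lib.Helper1.C6UE3
import Cfsg.Agent.Lib.Helper29.C6UW3

set_option autoImplicit false
set_option linter.unusedVariables false
set_option linter.unusedSectionVars false

/-!
# Project C6U (S6001; designer helper3), row E4 (`suff_three_u`): sufficiency for `r = 3`, `p ≡ 1 (3)` (helper11).  Wrapper of `c6ue4_core` (E3, W3; A2 A4 A5 B1 W5 E0 are cited in the core).
-/

namespace Cfsg.Agent.Lib.helper3.C6U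

open Polynomial Matrix
open Cfsg.Agent.Lib.Helper10.C6P
open scoped MatrixGroups

variable {F : Type*} [Field F]

section fin

variable [Fintype F] {p : ℕ} [Fact p.Prime] [CharP F p]

theorem c6ue4_three_ne (hp3 : p % 3 = 1) : (3 : F) ≠ 0 := by
  intro h3
  have h3' : ((3 : ℕ) : F) = 0 := by exact_mod_cast h3
  rw [CharP.cast_eq_zero_iff F p 3] at h3'
  have hp : p = 3 := ((Nat.prime_dvd_prime_iff_eq (Fact.out : p.Prime) Nat.prime_three).mp h3')
  omega

/-- E4 [M-L] : `r = 3`, `p ≡ 1 (3)`.  `x³ = z`, `z^4 = 1`, `w = z³` (norm one, `w³ = z`), `u = w⁻¹ x`; A5, E3 for `u` and for the witness of W3 with the same `a` (transported: W5),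
E0 with `C = diag(t, (t^p)⁻¹, 1, 1)`, `t^(p-1) = δ⁻¹` (A2). -/
theorem suff_three_u (hF : Fintype.card F = p ^ 2) (hp4 : p % 4 = 3) (hp3 : p % 3 = 1) {i : F} {R : Subgroup (GL (Fin 4) F)}
    (hctx : RCtx i R) (hstd : HasStdU p i R) : AllFixU p R 3 :=
  c6ue4_core hF hp4 hp3 hctx hstd
    (fun ω hω hωp u hU hu hne => nf_three hF (c6ue4_three_ne hp3) ω hω hωp u hU hu hne)
    (fun R' hR' => wit_three_u hR' hctx.two (c6ue4_three_ne hp3) (i_frob hp4 i hctx.hi))

end fin

end Cfsg.Agent.Lib.helper3.C6U
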