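import Mathlib
import Cfsg.Agent.Lib.helper7.CEC.Defs
import Cfsg.Agent.Lib.Helper24.STCI1

/-!
# Project CEC (helper7, S2092), row Y1 (`Ys_map`, `Ys_eq`, `Ys_cj`), by helper11.
-/

set_option autoImplicit false

namespace Cfsg.Agent.Lib.helper7.CEC

open Cfsg.Agent.Lib.helper15.St2 Cfsg.Agent.Lib.helper7.Ce Cfsg.Agent.Lib.helper3.STC

section Y

variable {K : Type*} [Field K] {ι : Type*} {Γ G : Type*} [Group Γ] [Group G] {S : SysC K ι G} {σ : Γ →* G}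

/-- `ab a ≠ ab b` unpacked. -/
theorem cecy1_ne {a b : ι ⊕ ι} (hab : ab a ≠ ab b) : a ≠ b ∧ a ≠ ng b := by
  constructor
  · intro e
    exact hab (ab_eq_iff.2 (Or.inl e))
  · intro e
    exact hab (ab_eq_iff.2 (Or.inr e))

/-- the relation short + short = short in the form `cm`. -/
theorem cecy1_cm_x (S : SysC K ι G) {a c b : ι ⊕ ι} (hac : ab a ≠ ab c) (hcb : ab c ≠ ab b) (hab : ab a ≠ ab b) (t u : K) :
    cm (S.x a c t) (S.x c b u) = S.x a b (t * u) :=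
  S.comm3 a c b (cecy1_ne hac).1 (cecy1_ne hac).2 (cecy1_ne hcb).1 (cecy1_ne hcb).2 (cecy1_ne hab).1
    (cecy1_ne hab).2 t u

/-- Y1 [S]  `map_cm`, `map_lf`, `S.comm3`. -/
theorem Ys_map (h : IsCE σ) {a c b : ι ⊕ ι} (hac : ab a ≠ ab c) (hcb : ab c ≠ ab b) (hab : ab a ≠ ab b) (t u : K) :
    σ (Ys S h a c b t u) = S.x a b (t * u) := by
  unfold Ys
  rw [map_cm, map_lf, map_lf, cecy1_cm_x S hac hcb hab]

/-- Y1 [S]  `IsCE.cm_congr` (model `Ce.Y_eq`). -/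
theorem Ys_eq (h : IsCE σ) {a c b : ι ⊕ ι} {t u : K} {p q : Γ} (hp : σ p = S.x a c t) (hq : σ q = S.x c b u) :
    cm p q = Ys S h a c b t u := by
  unfold Ys
  exact h.cm_congr (by rw [hp, map_lf]) (by rw [hq, map_lf])

/-- Y1 [S]  `cj_cm`, `Ys_eq`, `hg.2`. -/
theorem Ys_cj (h : IsCE σ) {g : G} {π : Equiv.Perm (ι ⊕ ι)} {d : ι ⊕ ι → K} (hg : S.IsMon g π d) {e : Γ} (he : σ e = g)
    {a c b : ι ⊕ ι} (hac : a ≠ c) (hcb : c ≠ b) (t u : K) :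
    cj e (Ys S h a c b t u) = Ys S h (π a) (π c) (π b) (d a * (d c)⁻¹ * t) (d c * (d b)⁻¹ * u) := by
  have e1 : cj e (Ys S h a c b t u) = cm (cj e (lf h (S.x a c t))) (cj e (lf h (S.x c b u))) :=
    cj_cm e _ _
  rw [e1]
  apply Ys_eq h
  · rw [map_cj, he, map_lf]
    exact hg.2 a c hac t
  · rw [map_cj, he, map_lf]
    exact hg.2 c b hcb u

end Y

end Cfsg.Agent.Lib.helper7.CEC
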