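import Mathlib
import Cfsg.Agent.Lib.helper7.CEC.Defs
import Cfsg.Agent.Lib.helper7.CEC.Defs2
import Cfsg.Agent.Lib.Helper24.STCI1
import Cfsg.Agent.Lib.helper23.CECL1
import Cfsg.Agent.Lib.Helper29.CECL2

/-!
# Project CEC (helper7, S2092), block Z, rows Z4 (`W3_add`) and Z5 (`W3_cj`), by helper11.
-/

set_option autoImplicit false

namespace Cfsg.Agent.Lib.helper7.CEC

open Cfsg.Agent.Lib.helper15.St2 Cfsg.Agent.Lib.helper7.Ce Cfsg.Agent.Lib.helper3.STC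

section Z

variable {K : Type*} [Field K] {ι : Type*} {Γ G : Type*} [Group Γ] [Group G] {S : SysC K ι G} {σ : Γ →* G}

/-- any two values of `Zl a b` commute -/
theorem cecz4_Zl_comm (h : IsCE σ) (hC : HC S σ) {a b : ι ⊕ ι} (hab : ab a ≠ ab b) (t u t' u' : K) :
    Zl S h a b t u * Zl S h a b t' u' = Zl S h a b t' u' * Zl S h a b t u :=
  cecl2_CL_pair h hC hab _ _ _ _ _ _ (Zl_map h hab t u) (Zl_map h hab t' u')

/-- Z4 [M]  `Zl_add_left` (`neg_add`); the four factors are lifts of products of elements of the root subgroups `(a, b)` and `(ng b, b)` (`Zl_map`): they commute pairwise by `hC` and `IsCE.CL_mul_left`. -/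
theorem W3_add (h : IsCE σ) (hC : HC S σ) {a b : ι ⊕ ι} (hab : ab a ≠ ab b) (t u : K) :
    W3 S h a b (t + u) = W3 S h a b t * W3 S h a b u := by
  unfold W3
  rw [neg_add, Zl_add_left h hC hab, Zl_add_left h hC hab]
  have e := cecz4_Zl_comm h hC hab (-u) 1 t (-1)
  calc Zl S h a b (-t) 1 * Zl S h a b (-u) 1 * (Zl S h a b t (-1) * Zl S h a b u (-1))
      = Zl S h a b (-t) 1 * (Zl S h a b (-u) 1 * Zl S h a b t (-1)) * Zl S h a b u (-1) := by group
    _ = Zl S h a b (-t) 1 * (Zl S h a b t (-1) * Zl S h a b (-u) 1) * Zl S h a b u (-1) := by rw [e]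
    _ = Zl S h a b (-t) 1 * Zl S h a b t (-1) * (Zl S h a b (-u) 1 * Zl S h a b u (-1)) := by group

/-- a monomial element whose permutation commutes with `ng` preserves `ab a ≠ ab b` -/
theorem cecz4_ab_perm {π : Equiv.Perm (ι ⊕ ι)} (hπ : ∀ k, π (ng k) = ng (π k)) {a b : ι ⊕ ι} (hab : ab a ≠ ab b) :
    ab (π a) ≠ ab (π b) := by
  intro e
  rcases ab_eq_iff.1 e with e' | e'
  · exact hab (by rw [π.injective e'])
  · rw [← hπ] at e'
    exact hab (ab_eq_iff.2 (Or.inr (π.injective e')))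

/-- Z5 [M]  `cj_mul` (`helper15.St2`), `Zl_cj`: with `α := d a * (d (ng a))⁻¹`, `β := d (ng a) * (d b)⁻¹` (`α * β = d a * (d b)⁻¹`; `hg.1`), `cj e (W3 a b t) = Zl (π a) (π b) (-(α t)) β * Zl (π a) (π b) (α t) (-β)`.
By `hK`, `β = 1` (this is `W3 (π a) (π b) (α t)`) or `β = -1` (the two factors of `W3 (π a) (π b) (-(α t))` in the other order: they commute as in `W3_add`).  `π a`, `π b` have different `ab` (`π` injective, `hπ`). -/
theorem W3_cj (h : IsCE σ) (hC : HC S σ) (hK : ∀ t : K, t = 0 ∨ t = 1 ∨ t = -1) {g : G} {π : Equiv.Perm (ι ⊕ ι)} {d : ι ⊕ ι → K} (hg : S.IsMon g π d)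
    (hπ : ∀ k, π (ng k) = ng (π k)) {e : Γ} (he : σ e = g) {a b : ι ⊕ ι} (hab : ab a ≠ ab b) (t : K) :
    cj e (W3 S h a b t) = W3 S h (π a) (π b) (d a * (d b)⁻¹ * t) := by
  have hab' : ab (π a) ≠ ab (π b) := cecz4_ab_perm hπ hab
  have hna : d (ng a) ≠ 0 := hg.1 (ng a)
  have hb : d b ≠ 0 := hg.1 b
  have hβ0 : d (ng a) * (d b)⁻¹ ≠ 0 := mul_ne_zero hna (inv_ne_zero hb)
  have hαβ : d a * (d b)⁻¹ = d a * (d (ng a))⁻¹ * (d (ng a) * (d b)⁻¹) := by
    field_simp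
  unfold W3
  rw [cj_mul, Zl_cj h hg hπ he hab, Zl_cj h hg hπ he hab, hαβ]
  rcases hK (d (ng a) * (d b)⁻¹) with hβ | hβ | hβ
  · exact absurd hβ hβ0
  · rw [hβ]
    simp only [mul_one, mul_neg]
  · rw [hβ]
    simp only [mul_one, mul_neg, neg_neg, neg_mul]
    exact cecz4_Zl_comm h hC hab' _ _ _ _

end Z

end Cfsg.Agent.Lib.helper7.CEC
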