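import Mathlib
import Cfsg.Agent.Lib.helper17.CEM.Defs
import Cfsg.Agent.Lib.helper4.STMX1
import Cfsg.Agent.Lib.Helper21.STMB2

/-!
# Project CEM (designer helper17; S2099 family), row M1 (`map_hs_of_lift`, VERBATIM) and row M3 (`split_of_sysM`): the CORE `cemm3_core` on the STATEMENT of STM K4
`SysM.Rep.ker_le_spin`.  Writer: helper11.  Port of `Helper18.CEDM6core`.  M2 `restrict_genM` is used through the own-name copy `cemm3_res_gen`.
-/

set_option autoImplicit false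

namespace Cfsg.Agent.Lib.helper17.CEM

open Cfsg.Agent.Lib.helper15.St2 Cfsg.Agent.Lib.helper7.Ce Cfsg.Agent.Lib.helper3.STC Cfsg.Agent.Lib.Lead.STD
  Cfsg.Agent.Lib.helper7.CEC Cfsg.Agent.Lib.helper7.CED Cfsg.Agent.Lib.helper17.STM

section M

universe v w w'

variable {F : Type*} [Field F] [Finite F] {A B : F} [Fact (∀ r : F, r ^ 2 ≠ -B + A * r)]

omit [Finite F] in
/-- M1 [S]  `unfold SysM.hs SysM.ws`, `map_mul`, `hQs`. -/
theorem map_hs_of_lift {ι : Type*} {Γ G : Type*} [Group Γ] [Group G] {S : SysM F A B ι G} {σ : Γ →* G} (Q : SysM F A B ι Γ)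
    (hQs : ∀ a u, σ (Q.xs a u) = S.xs a u) (a : ι ⊕ ι) (u : Kq F A B) : σ (Q.hs a u) = S.hs a u := by
  unfold SysM.hs SysM.ws
  simp only [map_mul, hQs]

omit [Finite F] in
/-- the long root elements of a system lie in the subgroup generated by the root elements -/
theorem cemm3_x_mem {ι : Type*} {Γ : Type*} [Group Γ] (Q : SysM F A B ι Γ) (a b : ι ⊕ ι) (t : F) :
    Q.x a b t ∈ Q.XQ (fun _ _ => True) (fun _ => True) := by
  classical
  exact Q.x_mem_XQ trivial t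

omit [Finite F] in
/-- the short root elements of a system lie in the subgroup generated by the root elements -/
theorem cemm3_xs_mem {ι : Type*} {Γ : Type*} [Group Γ] (Q : SysM F A B ι Γ) (a : ι ⊕ ι) (u : Kq F A B) :
    Q.xs a u ∈ Q.XQ (fun _ _ => True) (fun _ => True) :=
  Subgroup.subset_closure (Or.inr ⟨a, u, trivial, rfl⟩)

omit [Finite F] in
/-- own-name copy of M2: the restricted system is generated -/
theorem cemm3_res_gen {ι : Type*} {Γ : Type*} [Group Γ] (Q : SysM F A B ι Γ)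
    (hL : ∀ a b t, Q.x a b t ∈ Q.XQ (fun _ _ => True) (fun _ => True)) (hLs : ∀ a u, Q.xs a u ∈ Q.XQ (fun _ _ => True) (fun _ => True)) :
    (Q.restrict (Q.XQ (fun _ _ => True) (fun _ => True)) hL hLs).XQ (fun _ _ => True) (fun _ => True) = ⊤ := by
  have h : ({g : Q.XQ (fun _ _ => True) (fun _ => True) | ∃ (a b : ι ⊕ ι) (t : F),
        a ≠ b ∧ a ≠ ng b ∧ True ∧ g = (Q.restrict (Q.XQ (fun _ _ => True) (fun _ => True)) hL hLs).x a b t} ∪
      {g : Q.XQ (fun _ _ => True) (fun _ => True) | ∃ (a : ι ⊕ ι) (t : Kq F A B),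
        True ∧ g = (Q.restrict (Q.XQ (fun _ _ => True) (fun _ => True)) hL hLs).xs a t}) =
      ((↑) : Q.XQ (fun _ _ => True) (fun _ => True) → Γ) ⁻¹'
        ({g | ∃ a b t, a ≠ b ∧ a ≠ ng b ∧ True ∧ g = Q.x a b t} ∪ {g | ∃ a t, True ∧ g = Q.xs a t}) := by
    ext ⟨g, hg⟩
    constructor
    · rintro (⟨a, b, t, hab, hab', -, h⟩ | ⟨a, t, -, h⟩)
      · exact Or.inl ⟨a, b, t, hab, hab', trivial, congrArg Subtype.val h⟩
      · exact Or.inr ⟨a, t, trivial, congrArg Subtype.val h⟩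
    · rintro (⟨a, b, t, hab, hab', -, h⟩ | ⟨a, t, -, h⟩)
      · exact Or.inl ⟨a, b, t, hab, hab', trivial, Subtype.ext h⟩
      · exact Or.inr ⟨a, t, trivial, Subtype.ext h⟩
  show Subgroup.closure ({g : Q.XQ (fun _ _ => True) (fun _ => True) | ∃ (a b : ι ⊕ ι) (t : F),
        a ≠ b ∧ a ≠ ng b ∧ True ∧ g = (Q.restrict (Q.XQ (fun _ _ => True) (fun _ => True)) hL hLs).x a b t} ∪
      {g : Q.XQ (fun _ _ => True) (fun _ => True) | ∃ (a : ι ⊕ ι) (t : Kq F A B),
        True ∧ g = (Q.restrict (Q.XQ (fun _ _ => True) (fun _ => True)) hL hLs).xs a t}) = ⊤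
  rw [h]
  exact Subgroup.closure_closure_coe_preimage

omit [Finite F] in
/-- M3 on the statement of STM K4 `SysM.Rep.ker_le_spin` -/
theorem cemm3_core {ι : Type v} {Γ : Type w} {G : Type w'} [Group Γ] [Group G] {l : Type*} [Fintype l] [DecidableEq l]
    (S : SysM F A B ι G) (R : S.Rep l) (hgen : S.XQ (fun _ _ => True) (fun _ => True) = ⊤) (a : ι ⊕ ι)
    (hspin : S.hs a (-1) = 1 → (2 : F) = 0) {σ : Γ →* G}
    (Q : SysM F A B ι Γ) (hQ : ∀ a b t, σ (Q.x a b t) = S.x a b t) (hQs : ∀ a u, σ (Q.xs a u) = S.xs a u)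
    (hK4 : ∀ (Γ₀ : Subgroup Γ) (Q₀ : SysM F A B ι Γ₀) (R₀ : Q₀.Rep l), Q₀.XQ (fun _ _ => True) (fun _ => True) = ⊤ →
      ∀ g, R₀.φ g = 1 → g = 1 ∨ g = Q₀.hs a (-1)) :
    ∃ s : G →* Γ, ∀ g, σ (s g) = g := by
  set Γ₀ : Subgroup Γ := Q.XQ (fun _ _ => True) (fun _ => True) with hΓ₀
  let τ : Γ₀ →* G := σ.comp Γ₀.subtype
  let Q₀ : SysM F A B ι Γ₀ := Q.restrict Γ₀ (cemm3_x_mem Q) (cemm3_xs_mem Q)
  let R₀ : Q₀.Rep l :=
    { e := R.e
      φ := R.φ.comp τ
      hφ := fun a b hab hab' t => by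
        have h := R.hφ a b hab hab' t
        rw [← hQ a b t] at h
        exact h
      hφs := fun a u => by
        have h := R.hφs a u
        rw [← hQs a u] at h
        exact h }
  have hker : ∀ g : Γ₀, τ g = 1 → g = 1 := by
    intro g hg
    have h1 : R₀.φ g = 1 := by
      show R.φ (τ g) = 1
      rw [hg, map_one]
    rcases hK4 Γ₀ Q₀ R₀ (cemm3_res_gen Q (cemm3_x_mem Q) (cemm3_xs_mem Q)) g h1 with h | h
    · exact h
    · have h2 : τ (Q₀.hs a (-1)) = S.hs a (-1) :=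
        map_hs_of_lift (σ := τ) Q₀ (fun a u => hQs a u) a (-1)
      rw [← h, hg] at h2
      have h3 : (2 : F) = 0 := hspin h2.symm
      have h4 : (-1 : Kq F A B) = 1 := by
        have h5 : (2 : Kq F A B) = 0 := by
          have : (2 : Kq F A B) = algebraMap F (Kq F A B) 2 := by rw [map_ofNat]
          rw [this, h3, map_zero]
        have : (1 : Kq F A B) + 1 = 0 := by rw [one_add_one_eq_two]; exact h5
        exact neg_eq_of_add_eq_zero_left this
      rw [h, h4]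
      exact Q₀.hs_one a
  have hτinj : Function.Injective τ := (injective_iff_map_eq_one τ).mpr hker
  have hτsurj : Function.Surjective τ := by
    rw [← MonoidHom.range_eq_top, eq_top_iff, ← hgen]
    show Subgroup.closure ({g | ∃ a b t, a ≠ b ∧ a ≠ ng b ∧ True ∧ g = S.x a b t} ∪ {g | ∃ a t, True ∧ g = S.xs a t}) ≤ τ.range
    rw [Subgroup.closure_le]
    rintro _ (⟨a, b, t, -, -, -, rfl⟩ | ⟨a, t, -, rfl⟩)
    · exact ⟨⟨Q.x a b t, cemm3_x_mem Q a b t⟩, hQ a b t⟩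
    · exact ⟨⟨Q.xs a t, cemm3_xs_mem Q a t⟩, hQs a t⟩
  let e : Γ₀ ≃* G := MulEquiv.ofBijective τ ⟨hτinj, hτsurj⟩
  refine ⟨Γ₀.subtype.comp e.symm.toMonoidHom, ?_⟩
  intro g
  show τ (e.symm g) = g
  exact e.apply_symm_apply g

end M

end Cfsg.Agent.Lib.helper17.CEM
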