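import Mathlib
import Cfsg.Agent.Lib.helper17.STM.Defs
import Cfsg.Agent.Lib.helper17.STM.Defs2
import Cfsg.Agent.Lib.helper17.STM.Defs3
import Cfsg.Agent.Lib.helper17.STM.Sub
import Cfsg.Agent.Lib.Helper20.STMR3
import Cfsg.Agent.Lib.Helper20.STMN1
import Cfsg.Agent.Lib.Helper22.STMA3
import Cfsg.Agent.Lib.Helper21.STMB2

/-!
# Project STM (designer helper17), part 3, row J7b `Phat_ker_one` (helper11): CORE.  Rank one: the parabolic subgroup meets the kernel trivially.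
NEW compared with STB: the short torus element `hs o c` does not fix the anisotropic plane, so one reads off `nm c = 1` (column `e_o`) AND `c / star c = 1`
(column `iz1`), whence `c * c = 1`, `c = ± 1`, `hs o c = 1` (B3 `hs_one`, resp. the spin relation).
Hypotheses: `hMhs`, `hMew` = the statements of R5t `M_hs_fst`, `M_hs_ew` at `o`; `hPg` = R6 `Pg_col`; `hYcol` = R7 `Yg_col` at `ng o`;
`hJ6` = the conclusion of J6 `A_fix_eq_one` (given `hYfix`).  On main it uses R3 (`Helper20.STMR3`), N1 / N1c (`Helper20.STMN1`), A3 (`Helper22.STMA3`), B3 (`Helper21.STMB2`).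
-/

set_option autoImplicit false

namespace Cfsg.Agent.Lib.helper17.STM

open Matrix Cfsg.Agent.Lib.helper15.St2 Cfsg.Agent.Lib.helper3.STC Cfsg.Agent.Lib.Lead.STD

universe v w

namespace SysM

namespace Rep

variable {F : Type*} [Field F] {A B : F} [Fact (∀ r : F, r ^ 2 ≠ -B + A * r)] {ι : Type*} {G : Type*} [Group G] {S : SysM F A B ι G}
  {l : Type*} [Fintype l] [DecidableEq l] (R : S.Rep l)

variable (o : ι ⊕ ι)

omit [Fact (∀ r : F, r ^ 2 ≠ -B + A * r)] [Fintype l] in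
/-- the coordinates `iz1`, `iz2` of `evm iz1 + r • evm (inl c)` -/
theorem stmj7b_coords (c : l ⊕ l) (r : F) (z : Kq F A B) (h : (evm iz1 + r • evm (Sum.inl c) : Im l → F) = ew z) : z = 1 := by
  have h1 := congrFun h iz1
  have h2 := congrFun h iz2
  rw [ew_iz1] at h1
  rw [ew_iz2] at h2
  simp only [evm, Pi.add_apply, Pi.smul_apply, Pi.single_apply, smul_eq_mul] at h1 h2
  apply QuadraticAlgebra.ext
  · rw [← h1]
    simp
    rfl
  · rw [← h2]
    simp
    rfl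

theorem stmj7b_core (hS : S.Spin) (hι : ∀ i : ι, i = ab o) (hdec : ∀ p ∈ S.Phat o, p ∈ S.ALT o)
    (hMhs : ∀ u : Kq F A B, u ≠ 0 → R.M (S.hs o u) *ᵥ evm (Ebm R.e o) = nm u • evm (Ebm R.e o))
    (hMew : ∀ u : Kq F A B, u ≠ 0 → ∀ z : Kq F A B, R.M (S.hs o u) *ᵥ ew z = ew ((u / star u) * z))
    (hPg : ∀ p ∈ S.Pg o, R.M p *ᵥ evm (Ebm R.e o) = evm (Ebm R.e o))
    (hYcol : ∀ y ∈ S.Yg (ng o), ∀ c : Im l, c ≠ Ebm R.e (ng o) → ∃ r : F, R.M y *ᵥ evm c = evm c + r • evm (Ebm R.e (ng (ng o))))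
    (hJ6 : ∀ {a : G}, a ∈ S.Ag o → R.M a *ᵥ evm (Ebm R.e (ng o)) = evm (Ebm R.e (ng o)) → a = 1)
    {p : G} (hp : p ∈ S.Phat o) (h : R.φ p = 1) : p = 1 := by
  obtain ⟨a, ha, x, hx, c, hc, rfl⟩ := hdec p hp
  have hx1 : x = 1 := by
    have : x ∈ (⊥ : Subgroup G) := by
      rw [← S.Lg_eq_bot o hι]
      exact hx
    exact Subgroup.mem_bot.1 this
  subst hx1
  rw [mul_one] at h ⊢
  have hM : R.M (a * S.hs o c) = 1 := R.M_eq_one_of_phi h
  -- (i) the column `e_o`: `nm c = 1`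
  have h1 : R.M (a * S.hs o c) *ᵥ evm (Ebm R.e o) = nm c • evm (Ebm R.e o) := by
    rw [R.M_mul, ← Matrix.mulVec_mulVec, hMhs c hc, Matrix.mulVec_smul, hPg a (S.Ag_le_Pg o ha)]
  rw [hM, Matrix.one_mulVec] at h1
  have hn1 : nm c = 1 := by
    have := congrFun h1 (Ebm R.e o)
    simp only [evm, Pi.smul_apply, Pi.single_eq_same, smul_eq_mul, mul_one] at this
    exact this.symm
  -- (ii) the column `iz1`: `c / star c = 1`
  have hMa : R.M (S.hs o c) = R.M a⁻¹ := by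
    have h3 : R.M a * R.M (S.hs o c) = 1 := by
      rw [← R.M_mul]
      exact hM
    calc R.M (S.hs o c) = (R.M a⁻¹ * R.M a) * R.M (S.hs o c) := by rw [R.stmr3_M_inv_mul, one_mul]
      _ = R.M a⁻¹ := by rw [mul_assoc, h3, mul_one]
  have hainv : a⁻¹ ∈ S.Yg (ng o) := by
    rw [← S.Ag_eq_Yg_ng o]
    exact (S.Ag o).inv_mem ha
  have hne : (iz1 : Im l) ≠ Ebm R.e (ng o) := by
    intro e
    exact Sum.inr_ne_inl e
  obtain ⟨r, hr⟩ := hYcol a⁻¹ hainv iz1 hne
  have h4 : R.M (S.hs o c) *ᵥ evm iz1 = ew (c / star c) := by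
    rw [← ew_one (A := A) (B := B), hMew c hc 1, mul_one]
  rw [hMa, hr] at h4
  have hcs : c / star c = 1 := stmj7b_coords _ r _ h4
  have hs0 : star c ≠ 0 := kq_star_ne_zero hc
  have hsc : star c = c := by
    rw [div_eq_one_iff_eq hs0] at hcs
    exact hcs.symm
  -- (iii) `c * c = 1`
  have hcc : c * c = 1 := by
    have := kq_algebraMap_nm c
    rw [hn1, map_one, hsc] at this
    exact this.symm
  have hhs : S.hs o c = 1 := by
    rcases mul_self_eq_one_iff.1 hcc with rfl | rfl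
    · exact S.hs_one o
    · exact hS o
  rw [hhs, mul_one] at hM h ⊢
  have h2 : R.M a *ᵥ evm (Ebm R.e (ng o)) = evm (Ebm R.e (ng o)) := by
    rw [hM, Matrix.one_mulVec]
  exact hJ6 ha h2

end Rep

end SysM

end Cfsg.Agent.Lib.helper17.STM
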