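import Mathlib
import Cfsg.Agent.Lib.helper17.STM.Defs
import Cfsg.Agent.Lib.helper17.STM.Defs2
import Cfsg.Agent.Lib.helper17.STM.Defs3
import Cfsg.Agent.Lib.helper17.STM.Sub
import Cfsg.Agent.Lib.Helper20.STMR3
import Cfsg.Agent.Lib.Helper20.STMN1
import Cfsg.Agent.Lib.Lead.STDB1

/-!
# Project STM (designer helper17), part 3, row J7 `Phat_ker` (helper11): CORE.  Rank at least two: the parabolic subgroup meets the kernel trivially.
Port of `Helper25.STBJ7core`.  Hypotheses: `hMh` = the statement of R5 `M_h_fst` at `(o, j)`, `hPg`, `hLg'` = the statements of R6 `Pg_col`, `Lg_col'`,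
`hJ6` = the conclusion of J6 `A_fix_eq_one` (given `hYfix`).  On main it uses R3 (`Helper20.STMR3`), N1 (`Helper20.STMN1`: `Ag_le_Pg`, `Lg_le_Pg`), STD `h_one`.
-/

set_option autoImplicit false

namespace Cfsg.Agent.Lib.helper17.STM

open Matrix Cfsg.Agent.Lib.helper15.St2 Cfsg.Agent.Lib.helper3.STC Cfsg.Agent.Lib.Lead.STD

universe v w

namespace SysM

namespace Rep

variable {F : Type*} [Field F] {A B : F} [Fact (∀ r : F, r ^ 2 ≠ -B + A * r)] {ι : Type*} {G : Type*} [Group G] {S : SysM F A B ι G}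
  {l : Type*} [Fintype l] [DecidableEq l] (R : S.Rep l)

variable (o : ι ⊕ ι)

theorem stmj7_core {j : ι ⊕ ι} (hdec : ∀ p ∈ S.Phat o, p ∈ S.ALTj o j)
    (IHo : ∀ x ∈ S.Lg o, R.φ x = 1 → x = 1)
    (hMh : ∀ u : F, u ≠ 0 → R.M (S.h o j u) *ᵥ evm (Ebm R.e o) = u • evm (Ebm R.e o))
    (hPg : ∀ p ∈ S.Pg o, R.M p *ᵥ evm (Ebm R.e o) = evm (Ebm R.e o))
    (hLg' : ∀ x ∈ S.Lg o, R.M x *ᵥ evm (Ebm R.e (ng o)) = evm (Ebm R.e (ng o)))
    (hJ6 : ∀ {a : G}, a ∈ S.Ag o → R.M a *ᵥ evm (Ebm R.e (ng o)) = evm (Ebm R.e (ng o)) → a = 1)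
    {p : G} (hp : p ∈ S.Phat o) (h : R.φ p = 1) : p = 1 := by
  obtain ⟨a, ha, x, hx, c, hc, rfl⟩ := hdec p hp
  have hM : R.M (a * x * S.h o j c) = 1 := R.M_eq_one_of_phi h
  -- the column `e_o`
  have h1 : R.M (a * x * S.h o j c) *ᵥ evm (Ebm R.e o) = c • evm (Ebm R.e o) := by
    rw [R.M_mul, R.M_mul, ← Matrix.mulVec_mulVec, ← Matrix.mulVec_mulVec, hMh c hc, Matrix.mulVec_smul,
      Matrix.mulVec_smul, hPg x (S.Lg_le_Pg o hx), hPg a (S.Ag_le_Pg o ha)]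
  rw [hM, Matrix.one_mulVec] at h1
  have hc1 : c = 1 := by
    have := congrFun h1 (Ebm R.e o)
    simp only [evm, Pi.smul_apply, Pi.single_eq_same, smul_eq_mul, mul_one] at this
    exact this.symm
  subst hc1
  have eh1 : S.h o j 1 = 1 := S.toSysD.h_one o j
  rw [eh1, mul_one] at hM h ⊢
  -- `a` fixes `e_{-o}`
  have h2 : R.M a *ᵥ evm (Ebm R.e (ng o)) = evm (Ebm R.e (ng o)) := by
    have := congrArg (fun M => M *ᵥ (evm (Ebm R.e (ng o)) : Im l → F)) hM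
    simp only [Matrix.one_mulVec] at this
    rw [R.M_mul, ← Matrix.mulVec_mulVec, hLg' x hx] at this
    exact this
  have ha1 : a = 1 := hJ6 ha h2
  subst ha1
  rw [one_mul] at h ⊢
  exact IHo x hx h

end Rep

end SysM

end Cfsg.Agent.Lib.helper17.STM
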