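import Mathlib
import Cfsg.Agent.Lib.helper17.STM.Defs
import Cfsg.Agent.Lib.helper17.STM.Defs2
import Cfsg.Agent.Lib.helper17.STM.Defs3
import Cfsg.Agent.Lib.helper17.STM.Sub
import Cfsg.Agent.Lib.Helper11.STMJ7core
import Cfsg.Agent.Lib.Helper11.STMJ7bcore
import Cfsg.Agent.Lib.Helper9.STMR5
import Cfsg.Agent.Lib.Helper20.STMR5s
import Cfsg.Agent.Lib.Helper16.STMR6
import Cfsg.Agent.Lib.Helper28.STMR7
import Cfsg.Agent.Lib.Helper5.STMJ6core
import Cfsg.Agent.Lib.Helper21.STMW13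

/-!
# Project STM (designer helper17), part 3, rows J7 `Phat_ker` and J7b `Phat_ker_one` (helper11), verbatim vs `helper17/STM/Skel3.lean.txt`:
`stmj7_core` / `stmj7b_core` on the landed rows R5 `M_h_fst` (helper9), R5t `M_hs_fst` `M_hs_ew` (helper20), R6 `Pg_col` `Lg_col'` (helper16), R7 `Yg_col` (helper28);
J6 `A_fix_eq_one` is used through the own-name copy `stmj7_A_fix` = helper5's `stmj6_core` at W13 `isMon_ws o 1` (helper21) and R5s `M_ws_nfst` (helper20), so this file does not wait for the verbatim J6.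
-/

set_option autoImplicit false

namespace Cfsg.Agent.Lib.helper17.STM

open Matrix Cfsg.Agent.Lib.helper15.St2 Cfsg.Agent.Lib.helper3.STC Cfsg.Agent.Lib.Lead.STD

universe v w

namespace SysM

namespace Rep

variable {F : Type*} [Field F] {A B : F} [Fact (∀ r : F, r ^ 2 ≠ -B + A * r)] {ι : Type*} {G : Type*} [Group G] {S : SysM F A B ι G}
  {l : Type*} [Fintype l] [DecidableEq l] (R : S.Rep l)

variable (o : ι ⊕ ι)

/-- own-name copy of the statement of J6 `A_fix_eq_one` -/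
theorem stmj7_A_fix [DecidableEq ι] (hYfix : ∀ y ∈ S.Yg o, R.M y *ᵥ evm (Ebm R.e o) = evm (Ebm R.e o) → y = 1) {a : G} (ha : a ∈ S.Ag o)
    (h : R.M a *ᵥ evm (Ebm R.e (ng o)) = evm (Ebm R.e (ng o))) : a = 1 :=
  R.stmj6_core o (S.isMon_ws o 1 one_ne_zero) (R.M_ws_nfst o 1 one_ne_zero) hYfix ha h

/-- J7 [M]  rank at least two: the parabolic subgroup meets the kernel trivially (model STB J7).  `p = a * l * h o j c` (`hdec`); `R.M p *ᵥ evm o = c • evm o` (`M_h_fst`, `Pg_col` with `Ag_le_Pg`, `Lg_le_Pg`), so `c = 1`,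
`h o j 1 = 1` (STD `h_one`); `l` fixes `evm (ng o)` (`Lg_col'`), so does `a = p * l⁻¹`; `A_fix_eq_one`; then `p = l` and `IHo`. -/
theorem Phat_ker [DecidableEq ι] {j : ι ⊕ ι} (hj : j ≠ o) (hj' : j ≠ ng o) (hdec : ∀ p ∈ S.Phat o, p ∈ S.ALTj o j)
    (hYfix : ∀ y ∈ S.Yg o, R.M y *ᵥ evm (Ebm R.e o) = evm (Ebm R.e o) → y = 1) (IHo : ∀ x ∈ S.Lg o, R.φ x = 1 → x = 1)
    {p : G} (hp : p ∈ S.Phat o) (h : R.φ p = 1) : p = 1 := by
  have hoj' : o ≠ ng j := by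
    intro e
    apply hj'
    rw [e, ng_ng]
  exact R.stmj7_core o hdec IHo (fun u hu => R.M_h_fst (Ne.symm hj) hoj' u hu) (R.Pg_col o) (R.Lg_col' o)
    (fun ha h => R.stmj7_A_fix o hYfix ha h) hp h

/-- J7b [M]  rank one, **DIFFERENT from STB**: `p = a * l * hs o c` (`hdec`, `c : Kq F A B`, `c ≠ 0`), `l = 1` (A3 `Lg_eq_bot`).  (i) `R.M p *ᵥ evm o = nm c • evm o` (`M_hs_fst`, `Pg_col` with `Ag_le_Pg`), so `nm c = 1`.
(ii) `R.M (hs o c) = R.M a⁻¹` (from `R.M a * R.M (hs o c) = 1`), `a⁻¹ ∈ Ag o = Yg (ng o)` (N1c), so R7 `Yg_col` at `ng o`, `c := iz1` (`iz1 ≠ Ebm R.e (ng o)`; `ng (ng o) = o`): `R.M a⁻¹ *ᵥ evm iz1 = evm iz1 + r • evm (Ebm R.e o)`; and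
`R.M (hs o c) *ᵥ evm iz1 = ew (c / star c)` (`M_hs_ew` at `z = 1`, `ew_one`): the coordinates `iz1`, `iz2` give `(c / star c).re = 1`, `(c / star c).im = 0`, i.e. `c / star c = 1`, `star c = c`.  (iii) then
`c * c = c * star c = algebraMap (nm c) = 1` (`kq_algebraMap_nm`), so `(c - 1) * (c + 1) = 0`: `c = 1` or `c = -1`, and `hs o c = 1` (B3 `hs_one`, resp. `hS`).  Then `a = p` fixes `evm (ng o)`: `A_fix_eq_one`. -/
theorem Phat_ker_one [DecidableEq ι] (hS : S.Spin) (hι : ∀ i : ι, i = ab o) (hdec : ∀ p ∈ S.Phat o, p ∈ S.ALT o)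
    (hYfix : ∀ y ∈ S.Yg o, R.M y *ᵥ evm (Ebm R.e o) = evm (Ebm R.e o) → y = 1) {p : G} (hp : p ∈ S.Phat o) (h : R.φ p = 1) : p = 1 :=
  R.stmj7b_core o hS hι hdec (fun u hu => R.M_hs_fst o u hu) (fun u hu z => R.M_hs_ew o u hu z) (R.Pg_col o) (R.Yg_col (ng o))
    (fun ha h => R.stmj7_A_fix o hYfix ha h) hp h

end Rep

end SysM

end Cfsg.Agent.Lib.helper17.STM
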