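import Mathlib
import Cfsg.Agent.Lib.helper17.STM.Defs
import Cfsg.Agent.Lib.helper17.STM.Defs2
import Cfsg.Agent.Lib.helper17.STM.Defs3
import Cfsg.Agent.Lib.helper17.STM.Sub
import Cfsg.Agent.Lib.Helper1.STMInD
import Cfsg.Agent.Lib.Helper26.STMK2core
import Cfsg.Agent.Lib.Helper16.STMK3core
import Cfsg.Agent.Lib.Helper26.STMA2
import Cfsg.Agent.Lib.Helper26.STMA4
import Cfsg.Agent.Lib.Helper25.STMJ2
import Cfsg.Agent.Lib.Helper5.STMJ2b
import Cfsg.Agent.Lib.Helper11.STMJ7
import Cfsg.Agent.Lib.Helper16.STMJ4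
import Cfsg.Agent.Lib.Helper20.STMR5s
import Cfsg.Agent.Lib.Helper20.STMX3
import Cfsg.Agent.Lib.Helper20.STMX4

/-!
# Project STM (designer helper17; S2099 family): OWN-NAME assembly of the three last rows K2 `ker_trivial_aux`, K3 `SysM.Rep.injective`, K4 `SysM.Rep.ker_le_spin` (helper11),
so that downstream files (CEM M3, SPM2 `StmInjAt`) do not wait for the verbatim rows of their owners (helper26, helper16), who can still land them (the names differ).
`stmk4h11_aux` = the statement of K2 (helper26's `stmk2_core` on helper1's `stmind_InD_all` + A2 A4 J2 J2b J7 J7b J8 from main);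
`stmk4h11_injective` = the statement of K3 (helper16's `stmk3_core`); `stmk4h11_ker_le_spin` = the statement of K4 (helper16's `stmk4_core` on R8 X3 X4 from main).
-/

set_option autoImplicit false
set_option linter.unusedVariables false

namespace Cfsg.Agent.Lib.helper17.STM

open Matrix Cfsg.Agent.Lib.helper15.St2 Cfsg.Agent.Lib.helper3.STC Cfsg.Agent.Lib.Lead.STD

universe v w

open SysM

/-- own-name copy of the statement of K2 `ker_trivial_aux` -/
theorem stmk4h11_aux {F : Type*} [Field F] [Finite F] {A B : F} [Fact (∀ r : F, r ^ 2 ≠ -B + A * r)] {l : Type*} [Fintype l] [DecidableEq l] :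
    ∀ (m : ℕ) (ι : Type v) [Finite ι] (G : Type w) [Group G] (S : SysM F A B ι G) (R : S.Rep l),
      Nat.card ι = m → S.Spin → S.XQ (fun _ _ => True) (fun _ => True) = ⊤ → ∀ g, R.φ g = 1 → g = 1 :=
  stmk2_core
    (fun ι _ _ G _ S o hgen g => S.stmind_InD_all o hgen g)
    (fun ι _ G _ S o _ hj hj' => S.Phat_decomp o hj hj')
    (fun ι _ G _ S o hι => S.Phat_decomp_one o hι)
    (fun ι G _ S R o _ ho' ho'' IH _ hy h => R.Y_fix_eq_one o ho' ho'' IH hy h)
    (fun ι G _ S R o hι _ hy h => R.Y_fix_eq_one_one o hι hy h)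
    (fun ι _ G _ S R o _ hj hj' hdec hYfix IHo _ hp h => R.Phat_ker o hj hj' hdec hYfix IHo hp h)
    (fun ι _ G _ S R o hS hι hdec hYfix _ hp h => R.Phat_ker_one o hS hι hdec hYfix hp h)
    (fun ι G _ S R o hInD hYfix hPker g hg => R.ker_trivial o hInD hYfix hPker g hg)

/-- own-name copy of the statement of K3 `SysM.Rep.injective` -/
theorem stmk4h11_injective {F : Type*} [Field F] [Finite F] {A B : F} [Fact (∀ r : F, r ^ 2 ≠ -B + A * r)] {l : Type*} [Fintype l] [DecidableEq l]
    {ι : Type v} [Finite ι] {G : Type w} [Group G] {S : SysM F A B ι G} (R : S.Rep l) (hS : S.Spin)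
    (hgen : S.XQ (fun _ _ => True) (fun _ => True) = ⊤) : Function.Injective R.φ :=
  stmk3_core stmk4h11_aux R hS hgen

/-- own-name copy of the statement of K4 `SysM.Rep.ker_le_spin` -/
theorem stmk4h11_ker_le_spin {F : Type*} [Field F] [Finite F] {A B : F} [Fact (∀ r : F, r ^ 2 ≠ -B + A * r)] {l : Type*} [Fintype l] [DecidableEq l]
    {ι : Type v} [Finite ι] {G : Type w} [Group G] {S : SysM F A B ι G} (R : S.Rep l)
    (hgen : S.XQ (fun _ _ => True) (fun _ => True) = ⊤) (a : ι ⊕ ι) (g : G) (hg : R.φ g = 1) : g = 1 ∨ g = S.hs a (-1) := by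
  classical
  exact stmk4_core (fun R' hS' hgen' => stmk4h11_injective R' hS' hgen') R (fun a => R.phi_hs_neg_one a)
    (fun f => S.XQ_map f _ _) (fun a b => S.hs_neg_one_eq_all a b) (fun a => S.hs_neg_one_sq a)
    (fun hgen a g => S.hs_neg_one_comm hgen a g) hgen a g hg

end Cfsg.Agent.Lib.helper17.STM
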