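import Mathlib
import Cfsg.Agent.Lib.helper17.CEM.Defs
import Cfsg.Agent.Lib.Helper11.CEMM3core
import Cfsg.Agent.Lib.Helper11.STMK4h11

/-!
# Project CEM (designer helper17; S2099 family), row M3 (`split_of_sysM`), VERBATIM vs `helper17/CEM/Skel.lean.txt`.  Writer: helper11.
Wrapper of `cemm3_core` (`Helper11.CEMM3core`) on the own-name copy `stmk4h11_ker_le_spin` (`Helper11.STMK4h11`) of STM K4 `SysM.Rep.ker_le_spin`.
-/

set_option autoImplicit false

namespace Cfsg.Agent.Lib.helper17.CEM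

open Cfsg.Agent.Lib.helper15.St2 Cfsg.Agent.Lib.helper7.Ce Cfsg.Agent.Lib.helper3.STC Cfsg.Agent.Lib.Lead.STD
  Cfsg.Agent.Lib.helper7.CEC Cfsg.Agent.Lib.helper7.CED Cfsg.Agent.Lib.helper17.STM

section M

universe v w w'

variable {F : Type*} [Field F] [Finite F] {A B : F} [Fact (∀ r : F, r ^ 2 ≠ -B + A * r)]

/-- M3 [M-L]  model CED M6 `split_of_sysD` (`Helper18.CEDM6core`, `CEDM6`). -/
theorem split_of_sysM {ι : Type v} [Finite ι] [DecidableEq ι] {Γ : Type w} {G : Type w'} [Group Γ] [Group G] {l : Type*} [Fintype l] [DecidableEq l]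
    (S : SysM F A B ι G) (R : S.Rep l) (hgen : S.XQ (fun _ _ => True) (fun _ => True) = ⊤) (a : ι ⊕ ι)
    (hspin : S.hs a (-1) = 1 → (2 : F) = 0) {σ : Γ →* G}
    (Q : SysM F A B ι Γ) (hQ : ∀ a b t, σ (Q.x a b t) = S.x a b t) (hQs : ∀ a u, σ (Q.xs a u) = S.xs a u) :
    ∃ s : G →* Γ, ∀ g, σ (s g) = g :=
  cemm3_core S R hgen a hspin Q hQ hQs (fun _ _ R₀ hg g hg1 => stmk4h11_ker_le_spin R₀ hg a g hg1)

end M

end Cfsg.Agent.Lib.helper17.CEM
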