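import Mathlib
import Cfsg.Agent.Lib.helper3.CEUO.Defs2
import Cfsg.Agent.Lib.Helper27.STU.Defs3
import Cfsg.Agent.Lib.Helper27.STU.Frob

/-!
# Project CEUO (sub-designer helper3), skeleton part 2, rows P2 (`four_facts`) and P4 (`sW_four`), VERBATIM vs `helper3/CEUO/Skel2.lean.txt`.  Writer: helper11.
Extras: `ceuop2_two` (`(2 : F) = 0`), `ceuop2_add_self`, `ceuop2_cube` (no `r` needed).
-/

set_option autoImplicit false

namespace Cfsg.Agent.Lib.helper3.CEUO

open Cfsg.Agent.Lib.helper15.St2 Cfsg.Agent.Lib.helper7.Ce Cfsg.Agent.Lib.helper3.STC Cfsg.Agent.Lib.Helper27.STU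
  Cfsg.Agent.Lib.helper7.CEU

section P

universe u w

variable {F : Type u} [Field F] [Fintype F]

/-- a field with four elements has characteristic two -/
theorem ceuop2_two (hF : Fintype.card F = 2 ^ 2) : (2 : F) = 0 := by
  obtain ⟨n, hp, hn⟩ := FiniteField.card F (ringChar F)
  rw [hF] at hn
  have hd : ringChar F ∣ 2 ^ 2 := by
    rw [hn]
    exact dvd_pow_self _ n.ne_zero
  have h2 : ringChar F = 2 := (Nat.prime_dvd_prime_iff_eq hp Nat.prime_two).1 (hp.dvd_of_dvd_pow hd)
  have : ((2 : ℕ) : F) = 0 := by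
    rw [← h2]
    exact ringChar.Nat.cast_ringChar
  exact_mod_cast this

theorem ceuop2_add_self (hF : Fintype.card F = 2 ^ 2) (x : F) : x + x = 0 := by
  have h2 := ceuop2_two hF
  linear_combination x * h2

theorem ceuop2_cube (hF : Fintype.card F = 2 ^ 2) (x : F) (hx : x ≠ 0) : x * x * x = 1 := by
  have h := FiniteField.pow_card_sub_one_eq_one x hx
  rw [hF] at h
  have : x ^ (2 ^ 2 - 1) = x * x * x := by ring
  rw [← this]
  exact h

/-- P2 [S-M]  the field with four elements: characteristic `2` (`charP_of_card` as in `four_field_data`, or `CharP` from `FiniteField.card'`), `x ^ 3 = 1` for `x ≠ 0` (`FiniteField.pow_card_sub_one_eq_one`), and the list of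
the elements: `x ^ 4 = x` (`FiniteField.pow_card`) factors as `x * (x + 1) * (x + r) * (x + r + 1) = 0` (`linear_combination` with `hr`, `h2`). -/
theorem four_facts (hF : Fintype.card F = 2 ^ 2) {r : F} (hr : r * r = r + 1) :
    (∀ x : F, x + x = 0) ∧ (∀ x : F, x ≠ 0 → x * x * x = 1) ∧ ∀ x : F, x = 0 ∨ x = 1 ∨ x = r ∨ x = r + 1 := by
  refine ⟨ceuop2_add_self hF, ceuop2_cube hF, ?_⟩
  intro x
  have h2 := ceuop2_two hF
  have h4 : x ^ (2 ^ 2) = x := by
    have := FiniteField.pow_card x
    rw [hF] at this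
    exact this
  have hprod : x * (x + 1) * (x + r) * (x + r + 1) = 0 := by
    linear_combination h4 + (x ^ 2 + x) * hr + (x + x ^ 3 + x ^ 2 + x ^ 3 * r + 2 * x ^ 2 * r + x * r) * h2
  rcases mul_eq_zero.1 hprod with h | h
  · rcases mul_eq_zero.1 h with h | h
    · rcases mul_eq_zero.1 h with h | h
      · left; exact h
      · right; left
        linear_combination h - h2
    · right; right; left
      linear_combination h - r * h2
  · right; right; right
    linear_combination h - (r + 1) * h2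

/-- P4 [S-M]  the scalars of the Weyl relations are `1`: `d0l ξ = -(star c / c) = c` (`star c = c * c`, `-x = x`), `sW ξ = (c * c)⁻¹ * c⁻¹ = 1`, `sW' ξ = c * c⁻¹ = 1` (`four_facts`: `c * c * c = 1`). -/
theorem sW_four (hF : Fintype.card F = 2 ^ 2) :
    letI := frobStar hF
    ∀ ξ : Lam F True, ξ.c ≠ 0 → sW ξ = 1 ∧ sW' ξ = 1 := by
  letI := frobStar hF
  intro ξ hc
  have h2 := ceuop2_two hF
  have h3 := ceuop2_cube hF ξ.c hc
  have hs : star ξ.c = ξ.c ^ 2 := rfl
  have hd : d0l ξ = ξ.c := by
    unfold d0l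
    rw [hs]
    field_simp
    linear_combination (-1 : F) * h2
  unfold sW sW'
  rw [hd, hs]
  constructor
  · field_simp
    linear_combination (-1 : F) * h3
  · field_simp

end P

end Cfsg.Agent.Lib.helper3.CEUO
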