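import Cfsg.Agent.Lib.Lead.Co2Inv.Defs
import Cfsg.Agent.S0765
import Cfsg.Agent.S0269

/-!
# Project CI (S2136, lead): piece P3

A subgroup of `Sp₆(2)` containing the three matrices `matT T1`, `matT T2`, `matT T3` and the
transvection `matT Tu` is the whole group: the three matrices generate a group transitive on the
63 nonzero vectors (BFS certificate checked by `decide`), so all transvections are conjugates of
`matT Tu`, and these generate `Sp₆(2)` (S0765).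
-/

set_option autoImplicit false
open Cfsg

namespace Cfsg.Agent.Lib.Helper11.CI

open Cfsg.Agent.Lib.Lead.CI Cfsg.Agent.S0269

/-- the vector of `𝔽₂^6` with bit pattern `n` (coordinate `i` ↦ bit `s6 i`) -/
def vecOf (n : ℕ) : Fin 3 ⊕ Fin 3 → ZMod 2 := fun i => ((n / 2 ^ s6 i : ℕ) : ZMod 2)

/-- a table selecting the generator -/
def Tsel (i : ℕ) : List (List ℕ) := if i = 0 then T1 else if i = 1 then T2 else T3

/-- the 63 nonzero vectors in BFS order from `w0 = vecOf 2` -/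
def orb : List ℕ := [2, 44, 38, 12, 13, 6, 11, 54, 42, 59, 43, 18, 32, 10, 41, 58, 16, 27, 52, 7, 1, 55, 57, 45, 39, 20, 36, 21, 47, 37, 23, 56, 22, 17, 29, 25, 31, 33, 53, 15, 24, 46, 4, 9, 35, 5, 26, 48, 3, 61, 60, 63, 62, 19, 30, 14, 34, 8, 49, 51, 40, 28, 50]

/-- BFS parents (indices into `orb`) -/
def par : List ℕ := [0, 0, 1, 1, 1, 2, 2, 3, 3, 4, 4, 5, 5, 5, 6, 7, 7, 7, 8, 8, 9, 9, 10, 10, 10, 11, 13, 14, 14, 14, 15, 16, 16, 17, 17, 18, 19, 19, 22, 24, 25, 26, 26, 26, 29, 29, 32, 33, 34, 34, 34, 36, 36, 38, 40, 41, 42, 42, 44, 45, 45, 46, 52]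

/-- BFS generators -/
def gen : List ℕ := [0, 0, 0, 1, 2, 1, 2, 0, 1, 0, 1, 0, 1, 2, 0, 0, 1, 2, 0, 2, 0, 2, 0, 1, 2, 0, 0, 0, 1, 2, 2, 0, 1, 0, 1, 2, 0, 1, 2, 0, 2, 0, 1, 2, 0, 1, 2, 2, 0, 1, 2, 1, 2, 1, 1, 1, 1, 2, 0, 0, 2, 0, 0]

theorem bfs_chk : ∀ k : Fin 63, 1 ≤ k.val → par.getD k.val 0 < k.val ∧
    vecOf (orb.getD k.val 0) =
      Matrix.mulVec (matT (Tsel (gen.getD k.val 0))) (vecOf (orb.getD (par.getD k.val 0) 0)) := by
  decide +kernel

theorem cover_chk : ∀ w : Fin 3 ⊕ Fin 3 → ZMod 2, w ≠ 0 →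
    ∃ k : Fin 63, vecOf (orb.getD k.val 0) = w := by
  decide +kernel

theorem Tu_eq : matT Tu = Cfsg.sympTransvection 3 (vecOf 2) (1 : ZMod 2) := by
  decide +kernel

theorem c_cases (c : ZMod 2) : c = 0 ∨ c = 1 := by
  revert c
  decide

theorem tau_step (R : Subgroup (Matrix.symplecticGroup (Fin 3) (ZMod 2)))
    (a : Matrix.symplecticGroup (Fin 3) (ZMod 2)) (ha : a ∈ R) (w : Fin 3 ⊕ Fin 3 → ZMod 2)
    (hw : τ w (1 : ZMod 2) ∈ R) :
    τ (Matrix.mulVec (a : Matrix (Fin 3 ⊕ Fin 3) (Fin 3 ⊕ Fin 3) (ZMod 2)) w) (1 : ZMod 2) ∈ R := by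
  have h := conj_τ a w (1 : ZMod 2)
  have h2 : τ (Matrix.mulVec (a : Matrix (Fin 3 ⊕ Fin 3) (Fin 3 ⊕ Fin 3) (ZMod 2)) w) (1 : ZMod 2)
      = a * τ w 1 * a⁻¹ := by
    rw [h, mul_inv_cancel_right]
  rw [h2]
  exact R.mul_mem (R.mul_mem ha hw) (R.inv_mem ha)

theorem p3_gen (R : Subgroup (Matrix.symplecticGroup (Fin 3) (ZMod 2)))
    (h1 : ∃ a ∈ R, a.1 = matT T1) (h2 : ∃ a ∈ R, a.1 = matT T2) (h3 : ∃ a ∈ R, a.1 = matT T3)
    (hu : ∃ a ∈ R, a.1 = matT Tu) : R = ⊤ := by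
  have hsel : ∀ i : ℕ, ∃ a ∈ R, a.1 = matT (Tsel i) := by
    intro i
    unfold Tsel
    split_ifs
    · exact h1
    · exact h2
    · exact h3
  have h0 : τ (vecOf 2) (1 : ZMod 2) ∈ R := by
    obtain ⟨a, ha, hau⟩ := hu
    have : τ (vecOf 2) (1 : ZMod 2) = a := by
      apply Subtype.ext
      rw [hau, Tu_eq]
      rfl
    rw [this]
    exact ha
  have hall : ∀ n : ℕ, ∀ k : Fin 63, k.val = n → τ (vecOf (orb.getD k.val 0)) (1 : ZMod 2) ∈ R := by
    intro n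
    induction n using Nat.strong_induction_on with
    | _ n ih =>
      intro k hk
      by_cases hk0 : k.val = 0
      · rw [hk0]
        exact h0
      · obtain ⟨hlt, heq⟩ := bfs_chk k (Nat.one_le_iff_ne_zero.mpr hk0)
        obtain ⟨a, ha, hae⟩ := hsel (gen.getD k.val 0)
        rw [heq, ← hae]
        apply tau_step R a ha
        have hlt63 : par.getD k.val 0 < 63 := lt_trans hlt k.isLt
        exact ih (par.getD k.val 0) (hk ▸ hlt) ⟨par.getD k.val 0, hlt63⟩ rfl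
  rw [eq_top_iff, ← Cfsg.Agent.S0765.result (F := ZMod 2) 3]
  apply (Subgroup.closure_le R).mpr
  rintro A ⟨w, c, hA⟩
  have hAe : A = τ w c := Subtype.ext hA
  rw [SetLike.mem_coe, hAe]
  rcases c_cases c with rfl | rfl
  · rw [τ_zero]
    exact R.one_mem
  · by_cases hw : w = 0
    · have : τ w (1 : ZMod 2) = 1 := by
        rw [hw]
        have := τ_smul (0 : ZMod 2) (0 : Fin 3 ⊕ Fin 3 → ZMod 2) (1 : ZMod 2)
        rw [zero_smul, zero_mul, zero_mul, τ_zero] at this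
        exact this
      rw [this]
      exact R.one_mem
    · obtain ⟨k, hk⟩ := cover_chk w hw
      rw [← hk]
      exact hall k.val k rfl

end Cfsg.Agent.Lib.Helper11.CI
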