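import Cfsg.Agent.Lib.Helper11.CIP5a

/-!
# Project CI (S2136, lead): piece P5

`K = {mk w π : w ∩ O = ∅, π fixes O pointwise}` is a subgroup of order `512 = 32 · 16` of the
permutation group of the lattice, extraspecial with centre generated by `t0 = mk (Cw 4072) 1`.
The 16 permutations are identified with an explicit list through `M24_rigid`, the 32 codewords
through `mem_golayCode_iff`; the structure facts are finite checks (`CIP5a`), and the group theory
is done with `mk_mul`, `mk_inj` and `Helper21.Symp.isExtraspecial_of_elements`.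
-/

set_option autoImplicit false
open Cfsg

namespace Cfsg.Agent.Lib.Helper11.CI

open Cfsg.Agent.Lib.helper3 Cfsg.Agent.Lib.helper4 Cfsg.Agent.S1571 Cfsg.Agent.S0398
open Cfsg.Agent.Lib.Lead.LC Cfsg.Agent.Lib.Lead.CI
open Cfsg.Agent.Lib.Helper12.Golay (okK okK_valid ValidT)

/-- the codeword vanishes on the octad -/
def wO (w : ↥golayCode) : Prop := ∀ p, inO p → w.1 p = 0

/-- the permutation fixes the octad pointwise -/
def pO (π : ↥M24) : Prop := ∀ p, inO p → π.1 p = p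

/-- the `k`-th codeword as an element of the code -/
def cwE (k : ℕ) : ↥golayCode := ⟨Cw k, Cw_mem k⟩

/-- the complement of the octad -/
def cC : ↥golayCode := cwE 4072

/-- the permutation of a table of the list -/
noncomputable def fpE (L : List ℕ) (hL : L ∈ P16) : ↥M24 := ⟨fperm L, fperm_mem (p16_ok L hL)⟩

theorem fpE_apply (L : List ℕ) (hL : L ∈ P16) (p : GolayPt) : (fpE L hL).1 p = tF L p :=
  fperm_apply (okK_valid (p16_ok L hL)) p

theorem fpE_pO (L : List ℕ) (hL : L ∈ P16) : pO (fpE L hL) := by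
  intro p hp
  rw [fpE_apply]
  exact p16_fix L hL p hp

theorem cwE_wO (k : ℕ) (hk : k ∈ W32) : wO (cwE k) := (w32_ok k hk).2

theorem cC_wO : wO cC := cwE_wO 4072 (by decide)

theorem exists_w32 (w : ↥golayCode) (hw : wO w) : ∃ k ∈ W32, w = cwE k := by
  obtain ⟨k, hk, e⟩ := (Cfsg.Agent.Lib.helper3.mem_golayCode_iff w.1).mp w.2
  have e' : w.1 = Cw k := e
  refine ⟨k, ?_, Subtype.ext e'⟩
  apply w32_complete ⟨k, hk⟩
  intro p hp
  show Cw k p = 0
  rw [← e']
  exact hw p hp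

theorem exists_p16 (π : ↥M24) (hπ : pO π) : ∃ L, ∃ hL : L ∈ P16, π = fpE L hL := by
  have hr : ¬ inO (π.1 q0) := by
    intro h
    have h1 : π.1 (π.1 q0) = π.1 q0 := hπ _ h
    have h2 : π.1 q0 = q0 := π.1.injective h1
    rw [h2] at h
    exact q0_notin h
  obtain ⟨L, hL, hLr⟩ := p16_reach (π.1 q0) hr
  refine ⟨L, hL, ?_⟩
  have hσ : (fpE L hL)⁻¹ * π = 1 := by
    apply Subtype.ext
    apply M24_rigid ((fpE L hL)⁻¹ * π).2 (Finset.univ.filter (fun p : GolayPt => inO p ∨ p = q0))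
      card_s9
    intro p hp
    rw [Finset.mem_filter] at hp
    show ((fpE L hL).1)⁻¹ (π.1 p) = p
    rw [Equiv.Perm.inv_eq_iff_eq]
    rcases hp.2 with h | h
    · rw [hπ p h, fpE_pO L hL p h]
    · rw [h, fpE_apply, hLr]
  exact (inv_mul_eq_one.mp hσ).symm

theorem cmp_one (w : ↥golayCode) : cmp w 1 = w := Subtype.ext rfl

theorem cmp_zero (π : ↥M24) : cmp 0 π = 0 := Subtype.ext rfl

theorem add_self_gc (w : ↥golayCode) : w + w = 0 := by
  apply Subtype.ext
  funext p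
  show w.1 p + w.1 p = 0
  exact CharTwo.add_self_eq_zero _

/-- (A) the permutations commute -/
theorem pO_comm (π π' : ↥M24) (hπ : pO π) (hπ' : pO π') : π * π' = π' * π := by
  obtain ⟨L, hL, rfl⟩ := exists_p16 π hπ
  obtain ⟨L', hL', rfl⟩ := exists_p16 π' hπ'
  apply Subtype.ext
  apply Equiv.ext
  intro p
  show (fpE L hL).1 ((fpE L' hL').1 p) = (fpE L' hL').1 ((fpE L hL).1 p)
  rw [fpE_apply, fpE_apply, fpE_apply, fpE_apply]
  exact p16_comm L hL L' hL' p

/-- (A) the permutations are involutions -/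
theorem pO_sq (π : ↥M24) (hπ : pO π) : π * π = 1 := by
  obtain ⟨L, hL, rfl⟩ := exists_p16 π hπ
  apply Subtype.ext
  apply Equiv.ext
  intro p
  show (fpE L hL).1 ((fpE L hL).1 p) = p
  rw [fpE_apply, fpE_apply]
  exact p16_sq L hL p

/-- (B) -/
theorem wO_pO (w : ↥golayCode) (π : ↥M24) (hw : wO w) (hπ : pO π) :
    cmp w π + w = 0 ∨ cmp w π + w = cC := by
  obtain ⟨k, hk, rfl⟩ := exists_w32 w hw
  obtain ⟨L, hL, rfl⟩ := exists_p16 π hπ
  rcases wp_B k hk L hL with h | h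
  · left
    apply Subtype.ext
    funext p
    show Cw k ((fpE L hL).1 p) + Cw k p = 0
    rw [fpE_apply]
    exact h p
  · right
    apply Subtype.ext
    funext p
    show Cw k ((fpE L hL).1 p) + Cw k p = Cw 4072 p
    rw [fpE_apply]
    exact h p

/-- (C) -/
theorem cC_pO (π : ↥M24) (hπ : pO π) : cmp cC π = cC := by
  obtain ⟨L, hL, rfl⟩ := exists_p16 π hπ
  apply Subtype.ext
  funext p
  show Cw 4072 ((fpE L hL).1 p) = Cw 4072 p
  rw [fpE_apply]
  exact wp_C L hL p

/-- (D) -/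
theorem pO_triv (π : ↥M24) (hπ : pO π) (h : ∀ w, wO w → cmp w π = w) : π = 1 := by
  obtain ⟨L, hL, rfl⟩ := exists_p16 π hπ
  apply Subtype.ext
  apply Equiv.ext
  intro p
  show (fpE L hL).1 p = p
  rw [fpE_apply]
  apply wp_D' L hL
  intro k hk p
  have : Cw k ((fpE L hL).1 p) = Cw k p :=
    congrArg (fun w : ↥golayCode => w.1 p) (h (cwE k) (cwE_wO k hk))
  rw [← fpE_apply L hL]
  exact this

/-- (E) -/
theorem wO_triv (w : ↥golayCode) (hw : wO w) (h : ∀ π, pO π → cmp w π = w) : w = 0 ∨ w = cC := by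
  obtain ⟨k, hk, rfl⟩ := exists_w32 w hw
  have := wp_E k hk (fun L hL p => by
    have : Cw k ((fpE L hL).1 p) = Cw k p :=
      congrArg (fun w : ↥golayCode => w.1 p) (h (fpE L hL) (fpE_pO L hL))
    rw [← fpE_apply L hL]
    exact this)
  rcases this with rfl | rfl
  · left
    apply Subtype.ext
    funext p
    exact Cw_zero p
  · right
    rfl

/-- (F) -/
theorem exists_noncomm : ∃ (w : ↥golayCode) (π : ↥M24), wO w ∧ pO π ∧ cmp w π ≠ w := by
  obtain ⟨k, hk, L, hL, p, hp⟩ := wp_F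
  refine ⟨cwE k, fpE L hL, cwE_wO k hk, fpE_pO L hL, ?_⟩
  intro h
  apply hp
  have : Cw k ((fpE L hL).1 p) = Cw k p := congrArg (fun w : ↥golayCode => w.1 p) h
  rw [← fpE_apply L hL]
  exact this


/-! ### identities between monomial elements -/

theorem z2_arith : ∀ a b c d : ZMod 2, (a + b) + (c + d) + (d + a) = b + c := by
  decide

theorem mk_congr {w w' : ↥golayCode} {π π' : ↥M24} (hw : w = w') (hπ : π = π') :
    mk w π = mk w' π' := by
  rw [hw, hπ]

/-- `mk cC 1` is central -/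
theorem Z1 (w : ↥golayCode) (π : ↥M24) (hπ : pO π) : mk w π * mk cC 1 = mk cC 1 * mk w π := by
  rw [mk_mul, mk_mul]
  apply mk_congr
  · rw [cC_pO π hπ, cmp_one, add_comm]
  · rw [one_mul, mul_one]

/-- commutators -/
theorem Z2 (w w' : ↥golayCode) (π π' : ↥M24) (hw : wO w) (hπ : pO π) (hw' : wO w') (hπ' : pO π') :
    ∃ d : ↥golayCode, (d = 0 ∨ d = cC) ∧ mk w π * mk w' π' = mk d 1 * (mk w' π' * mk w π) := by
  refine ⟨(cmp w π' + w) + (cmp w' π + w'), ?_, ?_⟩
  · rcases wO_pO w π' hw hπ' with h | h <;> rcases wO_pO w' π hw' hπ with h' | h' <;> rw [h, h']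
    · left
      rw [add_zero]
    · right
      rw [zero_add]
    · right
      rw [add_zero]
    · left
      exact add_self_gc cC
  · rw [mk_mul, mk_mul, mk_mul]
    apply mk_congr
    · rw [cmp_one]
      apply Subtype.ext
      funext p
      show w.1 p + w'.1 (π.1 p)
        = ((w.1 (π'.1 p) + w.1 p) + (w'.1 (π.1 p) + w'.1 p)) + (w'.1 p + w.1 (π'.1 p))
      have := z2_arith (w.1 (π'.1 p)) (w.1 p) (w'.1 (π.1 p)) (w'.1 p)
      rw [this]
    · rw [mul_one]
      exact (pO_comm π π' hπ hπ').symm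

/-- squares -/
theorem Z3 (w : ↥golayCode) (π : ↥M24) (hw : wO w) (hπ : pO π) :
    mk w π * mk w π = mk 0 1 ∨ mk w π * mk w π = mk cC 1 := by
  rw [mk_mul, pO_sq π hπ, add_comm]
  rcases wO_pO w π hw hπ with h | h
  · left
    rw [h]
  · right
    rw [h]

/-- the centre -/
theorem Z4 (w : ↥golayCode) (π : ↥M24) (hw : wO w) (hπ : pO π)
    (h : ∀ w' π', wO w' → pO π' → mk w π * mk w' π' = mk w' π' * mk w π) :
    mk w π = mk 0 1 ∨ mk w π = mk cC 1 := by
  have hone : pO (1 : ↥M24) := fun _ _ => rfl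
  have hzero : wO (0 : ↥golayCode) := fun _ _ => rfl
  have h1 : π = 1 := by
    apply pO_triv π hπ
    intro w' hw'
    have h2 := h w' 1 hw' hone
    rw [mk_mul, mk_mul, cmp_one] at h2
    have h3 := (mk_inj _ _ _ _ h2).1
    rw [add_comm w' w] at h3
    exact add_left_cancel h3
  subst h1
  have h2 : w = 0 ∨ w = cC := by
    apply wO_triv w hw
    intro π' hπ'
    have h2 := h 0 π' hzero hπ'
    rw [mk_mul, mk_mul, cmp_one, zero_add, add_zero] at h2
    exact ((mk_inj _ _ _ _ h2).1).symm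
  rcases h2 with rfl | rfl
  · left
    rfl
  · right
    rfl

theorem mk_cC_ne : mk cC 1 ≠ mk 0 1 := by
  intro h
  have h1 := (mk_inj _ _ _ _ h).1
  have h2 : Cw 4072 q0 = 0 := congrArg (fun w : ↥golayCode => w.1 q0) h1
  exact ((Cw_compl q0).mpr q0_notin) h2


/-! ### the subgroup -/

theorem pO_inv (π : ↥M24) (hπ : pO π) : pO π⁻¹ := by
  intro p hp
  show (π.1)⁻¹ p = p
  rw [Equiv.Perm.inv_eq_iff_eq, hπ p hp]

theorem wO_cmp (w : ↥golayCode) (π : ↥M24) (hw : wO w) (hπ : pO π) : wO (cmp w π) := by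
  intro p hp
  show w.1 (π.1 p) = 0
  rw [hπ p hp]
  exact hw p hp

theorem mk_inv (w : ↥golayCode) (π : ↥M24) : (mk w π)⁻¹ = mk (cmp w π⁻¹) π⁻¹ := by
  apply inv_eq_of_mul_eq_one_right
  rw [mk_mul, inv_mul_cancel, ← mk_one]
  apply mk_congr _ rfl
  have : cmp (cmp w π⁻¹) π = w := by
    apply Subtype.ext
    funext p
    show w.1 ((π.1)⁻¹ (π.1 p)) = w.1 p
    rw [Equiv.Perm.inv_def, Equiv.symm_apply_apply]
  rw [this]
  exact add_self_gc w

/-- the group `K` -/
def Ksub : Subgroup (Equiv.Perm ↥leechLattice) where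
  carrier := Kset
  mul_mem' := by
    rintro a b ⟨w, π, hw, hπ, rfl⟩ ⟨w', π', hw', hπ', rfl⟩
    refine ⟨w + cmp w' π, π' * π, ?_, ?_, ?_⟩
    · intro p hp
      show w.1 p + w'.1 (π.1 p) = 0
      rw [hπ p hp, hw p hp, hw' p hp, add_zero]
    · intro p hp
      show π'.1 (π.1 p) = p
      rw [hπ p hp, hπ' p hp]
    · rw [← mk_mul]
      rfl
  one_mem' := ⟨0, 1, fun _ _ => rfl, fun _ _ => rfl, by rw [mk_one]; rfl⟩
  inv_mem' := by
    rintro a ⟨w, π, hw, hπ, rfl⟩
    refine ⟨cmp w π⁻¹, π⁻¹, wO_cmp w π⁻¹ hw (pO_inv π hπ), pO_inv π hπ, ?_⟩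
    rw [← mk_inv]
    rfl

theorem Ksub_coe : (Ksub : Set (Equiv.Perm ↥leechLattice)) = Kset := rfl

/-- elements of `K` from the data -/
def toK (w : ↥golayCode) (π : ↥M24) (hw : wO w) (hπ : pO π) : ↥Ksub :=
  ⟨(mk w π).1, ⟨w, π, hw, hπ, rfl⟩⟩

theorem exists_toK (x : ↥Ksub) : ∃ w π, ∃ (hw : wO w) (hπ : pO π), x = toK w π hw hπ := by
  obtain ⟨w, π, hw, hπ, hx⟩ := x.2
  exact ⟨w, π, hw, hπ, Subtype.ext hx⟩

theorem toK_eq_iff (w w' : ↥golayCode) (π π' : ↥M24) (hw : wO w) (hπ : pO π) (hw' : wO w')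
    (hπ' : pO π') : toK w π hw hπ = toK w' π' hw' hπ' ↔ mk w π = mk w' π' := by
  constructor
  · intro h
    have h1 : (mk w π).1 = (mk w' π').1 := congrArg (fun x : ↥Ksub => x.1) h
    exact Subtype.ext h1
  · intro h
    apply Subtype.ext
    show (mk w π).1 = (mk w' π').1
    rw [h]

theorem toK_mul_val (w w' : ↥golayCode) (π π' : ↥M24) (hw : wO w) (hπ : pO π) (hw' : wO w')
    (hπ' : pO π') : (toK w π hw hπ * toK w' π' hw' hπ').1 = (mk w π * mk w' π').1 := rfl

/-- the central involution -/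
def zK : ↥Ksub := toK cC 1 cC_wO (fun _ _ => rfl)

theorem one_eq_toK : (1 : ↥Ksub) = toK 0 1 (fun _ _ => rfl) (fun _ _ => rfl) := by
  apply Subtype.ext
  show (1 : Equiv.Perm ↥leechLattice) = (mk 0 1).1
  rw [mk_one]
  rfl

theorem mem_zp_of (x : ↥Ksub) (g : ↥Co0)
    (hx : x.1 = g.1) (h : g = mk 0 1 ∨ g = mk cC 1) :
    x ∈ Subgroup.zpowers zK := by
  rcases h with h | h
  · have : x = 1 := by
      apply Subtype.ext
      rw [hx, h, mk_one]
      rfl
    rw [this]
    exact Subgroup.one_mem _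
  · have : x = zK := by
      apply Subtype.ext
      rw [hx, h]
      rfl
    rw [this]
    exact Subgroup.mem_zpowers _

/-! ### the order -/

theorem fpE_congr {L L' : List ℕ} (h : L = L') (hL : L ∈ P16) (hL' : L' ∈ P16) :
    fpE L hL = fpE L' hL' := by
  subst h
  rfl

/-- the parametrisation of `K` -/
noncomputable def fK (x : Fin 32 × Fin 16) : ↥Ksub :=
  toK (cwE (W32.getD x.1.val 0)) (fpE (P16.getD x.2.val []) (p16_get_mem x.2))
    (cwE_wO _ (w32_get_mem x.1)) (fpE_pO _ _)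

theorem fK_bij : Function.Bijective fK := by
  constructor
  · intro x y h
    unfold fK at h
    rw [toK_eq_iff] at h
    obtain ⟨h1, h2⟩ := mk_inj _ _ _ _ h
    have e1 : x.1 = y.1 := by
      apply w32_get_inj
      have h3 : Cw (W32.getD x.1.val 0) = Cw (W32.getD y.1.val 0) :=
        congrArg Subtype.val h1
      exact Cw_injOn (w32_ok _ (w32_get_mem x.1)).1 (w32_ok _ (w32_get_mem y.1)).1 h3
    have e2 : x.2 = y.2 := by
      apply p16_get_inj
      have h3 : fperm (P16.getD x.2.val []) = fperm (P16.getD y.2.val []) :=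
        congrArg Subtype.val h2
      rw [← tblOf_fperm (okK_valid (p16_ok _ (p16_get_mem x.2))), h3,
        tblOf_fperm (okK_valid (p16_ok _ (p16_get_mem y.2)))]
    exact Prod.ext e1 e2
  · intro x
    obtain ⟨w, π, hw, hπ, rfl⟩ := exists_toK x
    obtain ⟨k, hk, rfl⟩ := exists_w32 w hw
    obtain ⟨L, hL, rfl⟩ := exists_p16 π hπ
    obtain ⟨i, hi⟩ := w32_idx k hk
    obtain ⟨j, hj⟩ := p16_idx L hL
    refine ⟨(i, j), ?_⟩
    unfold fK
    rw [toK_eq_iff]
    apply mk_congr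
    · show cwE (W32.getD i.val 0) = cwE k
      rw [hi]
    · exact fpE_congr hj _ _

theorem card_Ksub : Nat.card ↥Ksub = 512 := by
  rw [← Nat.card_congr (Equiv.ofBijective fK fK_bij), Nat.card_prod, Nat.card_fin, Nat.card_fin]

/-! ### the piece -/

theorem p5 : ∃ K : Subgroup (Equiv.Perm ↥leechLattice), (K : Set (Equiv.Perm ↥leechLattice)) = Kset ∧
    Nat.card ↥K = 512 ∧ Cfsg.IsExtraspecial 2 ↥K := by
  refine ⟨Ksub, rfl, card_Ksub, ?_⟩
  have : Finite ↥Ksub := Nat.finite_of_card_ne_zero (by rw [card_Ksub]; norm_num)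
  have : Fact (Nat.Prime 2) := ⟨Nat.prime_two⟩
  have hone : pO (1 : ↥M24) := fun _ _ => rfl
  have hzero : wO (0 : ↥golayCode) := fun _ _ => rfl
  apply Cfsg.Agent.Lib.Helper21.Symp.isExtraspecial_of_elements (p := 2) ?_ zK ?_ ?_ ?_ ?_ ?_ ?_
  · exact IsPGroup.of_card (n := 9) (by rw [card_Ksub]; norm_num)
  · apply orderOf_eq_prime
    · rw [pow_two]
      apply Subtype.ext
      show (mk cC 1 * mk cC 1).1 = (1 : Equiv.Perm ↥leechLattice)
      rw [mk_mul, cmp_one, add_self_gc, mul_one, mk_one]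
      rfl
    · intro h
      apply mk_cC_ne
      apply Subtype.ext
      have h1 : (mk cC 1).1 = (1 : Equiv.Perm ↥leechLattice) := congrArg (fun x : ↥Ksub => x.1) h
      rw [h1, mk_one]
      rfl
  · intro g
    obtain ⟨w, π, hw, hπ, rfl⟩ := exists_toK g
    apply Subtype.ext
    show (mk w π * mk cC 1).1 = (mk cC 1 * mk w π).1
    rw [Z1 w π hπ]
  · intro x hx
    obtain ⟨w, π, hw, hπ, rfl⟩ := exists_toK x
    apply mem_zp_of _ (mk w π) rfl
    apply Z4 w π hw hπ
    intro w' π' hw' hπ'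
    apply Subtype.ext
    exact congrArg (fun z : ↥Ksub => z.1) (hx (toK w' π' hw' hπ'))
  · intro x y
    obtain ⟨w, π, hw, hπ, rfl⟩ := exists_toK x
    obtain ⟨w', π', hw', hπ', rfl⟩ := exists_toK y
    obtain ⟨d, hd, e⟩ := Z2 w w' π π' hw hπ hw' hπ'
    have hdO : wO d := by
      rcases hd with rfl | rfl
      · exact hzero
      · exact cC_wO
    have h1 : toK w π hw hπ * toK w' π' hw' hπ'
        = toK d 1 hdO hone * (toK w' π' hw' hπ' * toK w π hw hπ) := by
      apply Subtype.ext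
      show (mk w π * mk w' π').1 = (mk d 1 * (mk w' π' * mk w π)).1
      rw [e]
    have h2 : toK w π hw hπ * toK w' π' hw' hπ' * (toK w π hw hπ)⁻¹ * (toK w' π' hw' hπ')⁻¹
        = toK d 1 hdO hone := by
      rw [h1]
      group
    rw [h2]
    apply mem_zp_of _ (mk d 1) rfl
    rcases hd with rfl | rfl
    · left
      rfl
    · right
      rfl
  · intro x
    obtain ⟨w, π, hw, hπ, rfl⟩ := exists_toK x
    rw [pow_two]
    exact mem_zp_of _ (mk w π * mk w π) rfl (Z3 w π hw hπ)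
  · obtain ⟨w, π, hw, hπ, hne⟩ := exists_noncomm
    refine ⟨toK 0 π hzero hπ, toK w 1 hw hone, ?_⟩
    intro h
    apply hne
    have h1 : mk 0 π * mk w 1 = mk w 1 * mk 0 π := by
      apply Subtype.ext
      exact congrArg (fun z : ↥Ksub => z.1) h
    rw [mk_mul, mk_mul, zero_add, cmp_zero, add_zero] at h1
    exact (mk_inj _ _ _ _ h1).1

end Cfsg.Agent.Lib.Helper11.CI
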