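import Cfsg.Agent.Lib.Lead.Co2Inv.Defs
import Cfsg.Agent.Lib.Helper21.SympE

/-!
# Project CI (S2136, lead): piece P5, part a

Data for the extraspecial group `K = {mk w π : w ∩ O = ∅, π fixes O pointwise}`: the 32 codewords
(`W32`, indices of `Cw`), the 16 permutations (`P16`, tables), the finite checks (`decide`), and the
multiplication rule for the monomial elements `mk w π`.
-/

set_option autoImplicit false
open Cfsg

namespace Cfsg.Agent.Lib.Helper11.CI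

open Cfsg.Agent.Lib.helper3 Cfsg.Agent.Lib.helper4 Cfsg.Agent.S1571 Cfsg.Agent.S0398
open Cfsg.Agent.Lib.Lead.LC Cfsg.Agent.Lib.Lead.CI
open Cfsg.Agent.Lib.Helper12.Golay (okK okK_valid ValidT)

/-- the table function -/
abbrev tF (L : List ℕ) (p : GolayPt) : GolayPt := Cfsg.Agent.Lib.Helper12.Golay.tblFun L p

/-- a point outside the octad -/
def q0 : GolayPt := some 3

/-- indices of the 32 codewords disjoint from the octad -/
def W32 : List ℕ := [0, 104, 128, 232, 776, 864, 904, 992, 1312, 1352, 1440, 1480, 1576, 1600,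
  1704, 1728, 2344, 2368, 2472, 2496, 2592, 2632, 2720, 2760, 3080, 3168, 3208, 3296, 3840, 3944,
  3968, 4072]

/-- tables of the 16 permutations fixing the octad pointwise -/
def P16 : List (List ℕ) := [
  [0,1,2,3,4,5,6,7,8,9,10,11,12,13,14,15,16,17,18,19,20,21,22,23],
  [0,1,2,5,4,3,21,19,11,10,9,8,18,13,17,20,16,14,12,7,15,6,22,23],
  [0,1,2,6,4,21,3,14,10,11,8,9,20,13,7,18,16,19,15,17,12,5,22,23],
  [0,1,2,7,4,19,14,3,20,18,12,15,10,13,6,11,16,21,9,5,8,17,22,23],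
  [0,1,2,8,4,11,10,20,3,21,6,5,14,13,12,19,16,18,17,15,7,9,22,23],
  [0,1,2,9,4,10,11,18,21,3,5,6,19,13,15,14,16,20,7,12,17,8,22,23],
  [0,1,2,10,4,9,8,12,6,5,3,21,7,13,20,17,16,15,19,18,14,11,22,23],
  [0,1,2,11,4,8,9,15,5,6,21,3,17,13,18,7,16,12,14,20,19,10,22,23],
  [0,1,2,12,4,18,20,10,14,19,7,17,3,13,8,21,16,11,5,9,6,15,22,23],
  [0,1,2,14,4,17,7,6,12,15,20,18,8,13,3,9,16,5,11,21,10,19,22,23],
  [0,1,2,15,4,20,18,11,19,14,17,7,21,13,9,3,16,10,6,8,5,12,22,23],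
  [0,1,2,17,4,14,19,21,18,20,15,12,11,13,5,10,16,3,8,6,9,7,22,23],
  [0,1,2,18,4,12,15,9,17,7,19,14,5,13,11,6,16,8,3,10,21,20,22,23],
  [0,1,2,19,4,7,17,5,15,12,18,20,9,13,21,8,16,6,10,3,11,14,22,23],
  [0,1,2,20,4,15,12,8,7,17,14,19,6,13,10,5,16,9,21,11,3,18,22,23],
  [0,1,2,21,4,6,5,17,9,8,11,10,15,13,19,12,16,7,20,14,18,3,22,23]]

set_option maxRecDepth 100000 in
theorem w32_complete : ∀ k : Fin 4096, (∀ p, inO p → Cw k.val p = 0) → k.val ∈ W32 := by
  decide +kernel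

theorem w32_ok : ∀ k ∈ W32, k < 4096 ∧ ∀ p, inO p → Cw k p = 0 := by
  decide +kernel

theorem p16_ok : ∀ L ∈ P16, okK L = true := by
  decide +kernel

theorem p16_fix : ∀ L ∈ P16, ∀ p, inO p → tF L p = p := by
  decide +kernel

theorem p16_reach : ∀ r : GolayPt, ¬ inO r → ∃ L ∈ P16, tF L q0 = r := by
  decide +kernel

theorem p16_comm : ∀ L ∈ P16, ∀ L' ∈ P16, ∀ p, tF L (tF L' p) = tF L' (tF L p) := by
  decide +kernel

theorem p16_sq : ∀ L ∈ P16, ∀ p, tF L (tF L p) = p := by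
  decide +kernel

theorem wp_B : ∀ k ∈ W32, ∀ L ∈ P16,
    (∀ p, Cw k (tF L p) + Cw k p = 0) ∨ (∀ p, Cw k (tF L p) + Cw k p = Cw 4072 p) := by
  decide +kernel

theorem wp_D : ∀ L ∈ P16, (∀ k ∈ W32, ∀ p, Cw k (tF L p) = Cw k p) → L = List.range 24 := by
  decide +kernel

theorem wp_E : ∀ k ∈ W32, (∀ L ∈ P16, ∀ p, Cw k (tF L p) = Cw k p) → k = 0 ∨ k = 4072 := by
  decide +kernel


theorem wp_C : ∀ L ∈ P16, ∀ p, Cw 4072 (tF L p) = Cw 4072 p := by
  decide +kernel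

theorem wp_D' : ∀ L ∈ P16, (∀ k ∈ W32, ∀ p, Cw k (tF L p) = Cw k p) → ∀ p, tF L p = p := by
  decide +kernel

theorem wp_F : ∃ k ∈ W32, ∃ L ∈ P16, ∃ p, Cw k (tF L p) ≠ Cw k p := by
  decide +kernel

theorem Cw_zero : ∀ p, Cw 0 p = 0 := by
  decide +kernel

theorem q0_notin : ¬ inO q0 := by
  decide

theorem card_s9 : 9 ≤ (Finset.univ.filter (fun p : GolayPt => inO p ∨ p = q0)).card := by
  decide

theorem w32_idx : ∀ k ∈ W32, ∃ i : Fin 32, W32.getD i.val 0 = k := by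
  decide

theorem w32_get_mem : ∀ i : Fin 32, W32.getD i.val 0 ∈ W32 := by
  decide

theorem w32_get_inj : ∀ i i' : Fin 32, W32.getD i.val 0 = W32.getD i'.val 0 → i = i' := by
  decide

theorem p16_idx : ∀ L ∈ P16, ∃ j : Fin 16, P16.getD j.val [] = L := by
  decide

theorem p16_get_mem : ∀ j : Fin 16, P16.getD j.val [] ∈ P16 := by
  decide

theorem p16_get_inj : ∀ j j' : Fin 16, P16.getD j.val [] = P16.getD j'.val [] → j = j' := by
  decide

/-- composition of a codeword with an element of `M24` -/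
def cmp (w : ↥golayCode) (π : ↥M24) : ↥golayCode :=
  ⟨fun i => w.1 (π.1 i), comp_mem_golay π.2 w.2⟩

theorem cmp_apply (w : ↥golayCode) (π : ↥M24) (i : GolayPt) : (cmp w π).1 i = w.1 (π.1 i) := rfl

theorem z2_cases (a : ZMod 2) : a = 0 ∨ a = 1 := by
  revert a
  decide

theorem mk_val (w : ↥golayCode) (π : ↥M24) (v : ↥leechLattice) (k : GolayPt) :
    ((mk w π).1 v).1 k = if w.1 k ≠ 0 then -(v.1 (π.1 k)) else v.1 (π.1 k) := rfl

theorem mk_mul (w w' : ↥golayCode) (π π' : ↥M24) :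
    mk w π * mk w' π' = mk (w + cmp w' π) (π' * π) := by
  apply Subtype.ext
  apply Equiv.ext
  intro v
  apply Subtype.ext
  funext k
  show ((mk w π).1 ((mk w' π').1 v)).1 k = ((mk (w + cmp w' π) (π' * π)).1 v).1 k
  rw [mk_val, mk_val, mk_val]
  have e2 : (w + cmp w' π).1 k = w.1 k + w'.1 (π.1 k) := rfl
  have e3 : (π' * π).1 k = π'.1 (π.1 k) := rfl
  rw [e2, e3]
  rcases z2_cases (w.1 k) with h | h <;> rcases z2_cases (w'.1 (π.1 k)) with h' | h' <;>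
    rw [h, h'] <;> simp
  · intro hh
    exact absurd (by decide : (1 : ZMod 2) + 1 = 0) hh

theorem mk_one : mk 0 1 = 1 := by
  apply Subtype.ext
  apply Equiv.ext
  intro v
  apply Subtype.ext
  funext k
  show ((mk 0 1).1 v).1 k = v.1 k
  rw [mk_val]
  simp

end Cfsg.Agent.Lib.Helper11.CI
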