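import Mathlib
import Cfsg.Agent.Lib.Helper11.CNMax

set_option autoImplicit false

namespace Cfsg.Agent.Lib.Helper11

section CN

variable {G : Type*} [Group G] [Finite G]

/-- a Sylow subgroup of `G` contained in the maximal nilpotent subgroup `H`: nontrivial central
elements of it have centralizer `H` -/
theorem MaxNilp.centralizer_eq_of_sylow_center {H : Subgroup G} (hM : MaxNilp H) (p : ℕ)
    [hp : Fact p.Prime] (P : Sylow p G) (hPH : (P : Subgroup G) ≤ H) (z : G)
    (hzP : z ∈ (P : Subgroup G)) (hz1 : z ≠ 1) (hzc : ∀ t ∈ (P : Subgroup G), Commute z t) :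
    Subgroup.centralizer ({z} : Set G) = H := by
  have := hM.nil
  have hzp : ∃ k : ℕ, z ^ p ^ k = 1 := by
    obtain ⟨k, hk⟩ := P.isPGroup' ⟨z, hzP⟩
    exact ⟨k, by have := congrArg Subtype.val hk; simpa using this⟩
  have hpH : p ∣ Nat.card H := by
    obtain ⟨k, hk⟩ := hzp
    have h1 : orderOf z ∣ p ^ k := orderOf_dvd_of_pow_eq_one hk
    obtain ⟨j, -, hj⟩ := (Nat.dvd_prime_pow hp.out).mp h1
    have hj0 : j ≠ 0 := by
      rintro rfl
      rw [pow_zero, orderOf_eq_one_iff] at hj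
      exact hz1 hj
    have h2 : p ∣ orderOf z := by
      rw [hj]
      exact dvd_pow_self p hj0
    have h3 : orderOf z ∣ Nat.card H := by
      have := orderOf_dvd_natCard (⟨z, hPH hzP⟩ : H)
      rwa [Subgroup.orderOf_mk] at this
    exact h2.trans h3
  apply hM.centralizer_eq_of_commute p hpH z hz1 hzp
  intro t ht htp
  apply hzc
  have htS : (⟨t, ht⟩ : H) ∈ P.subtype hPH := by
    apply p_element_mem_sylow p (P.subtype hPH)
    obtain ⟨k, hk⟩ := htp
    exact ⟨k, Subtype.ext (by simpa using hk)⟩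
  have h4 : (⟨t, ht⟩ : H) ∈ ((P.subtype hPH : Sylow p H) : Subgroup H) := htS
  rw [Sylow.coe_subtype, Subgroup.mem_subgroupOf] at h4
  exact h4

/-- a maximal nilpotent subgroup of order divisible by `p` contains a Sylow `p`-subgroup of `G` -/
theorem MaxNilp.exists_sylow_le {H : Subgroup G} (hM : MaxNilp H) (p : ℕ) [hp : Fact p.Prime]
    (hpH : p ∣ Nat.card H) : ∃ P : Sylow p G, (P : Subgroup G) ≤ H := by
  have := hM.nil
  let S : Sylow p H := default
  have hT : IsPGroup p ((S : Subgroup H).map H.subtype) := S.isPGroup'.map _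
  obtain ⟨P, hP⟩ := IsPGroup.exists_le_sylow hT
  have hpG : p ∣ Nat.card G := hpH.trans (Subgroup.card_subgroup_dvd_card H)
  have hP1 : (P : Subgroup G) ≠ ⊥ := Sylow.ne_bot_of_dvd_card P hpG
  have : Nontrivial (P : Subgroup G) := (Subgroup.nontrivial_iff_ne_bot _).mpr hP1
  have := IsPGroup.center_nontrivial P.isPGroup'
  obtain ⟨⟨z, hz⟩, hz1⟩ := exists_ne (1 : Subgroup.center (P : Subgroup G))
  have hzp : ∃ k : ℕ, (z : G) ^ p ^ k = 1 := by
    obtain ⟨k, hk⟩ := P.isPGroup' z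
    exact ⟨k, by have := congrArg Subtype.val hk; simpa using this⟩
  have hz1' : (z : G) ≠ 1 := by
    intro h
    apply hz1
    apply Subtype.ext
    apply Subtype.ext
    simpa using h
  have hzc : ∀ t ∈ (P : Subgroup G), Commute (z : G) t := by
    intro t ht
    have := Subgroup.mem_center_iff.mp hz ⟨t, ht⟩
    have h2 := congrArg Subtype.val this
    simp only [Subgroup.coe_mul] at h2
    exact h2.symm
  have hC : Subgroup.centralizer ({(z : G)} : Set G) = H := by
    apply hM.centralizer_eq_of_commute p hpH (z : G) hz1' hzp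
    intro t ht htp
    apply hzc
    apply hP
    have htS : (⟨t, ht⟩ : H) ∈ S := by
      apply p_element_mem_sylow p S
      obtain ⟨k, hk⟩ := htp
      exact ⟨k, Subtype.ext (by simpa using hk)⟩
    exact ⟨⟨t, ht⟩, htS, rfl⟩
  refine ⟨P, ?_⟩
  rw [← hC]
  intro t ht
  rw [Subgroup.mem_centralizer_iff]
  intro y hy
  rw [Set.mem_singleton_iff] at hy
  subst hy
  exact (hzc t ht).eq

/-- two maximal nilpotent subgroups of a CN-group with a common prime divisor are conjugate -/
theorem MaxNilp.conj_of_common_prime {H₁ H₂ : Subgroup G} (hM₁ : MaxNilp H₁) (hM₂ : MaxNilp H₂)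
    (p : ℕ) [hp : Fact p.Prime] (h1 : p ∣ Nat.card H₁) (h2 : p ∣ Nat.card H₂) :
    ∃ g : G, H₂ = H₁.map (MulAut.conj g).toMonoidHom := by
  obtain ⟨P₁, hP₁⟩ := hM₁.exists_sylow_le p h1
  obtain ⟨P₂, hP₂⟩ := hM₂.exists_sylow_le p h2
  obtain ⟨g, hg⟩ := MulAction.exists_smul_eq G P₁ P₂
  refine ⟨g, ?_⟩
  have hmem : ∀ x : G, x ∈ (P₂ : Subgroup G) ↔ g⁻¹ * x * g ∈ (P₁ : Subgroup G) := by
    intro x
    rw [← hg, Sylow.smul_def, Sylow.pointwise_smul_def,
      Subgroup.mem_pointwise_smul_iff_inv_smul_mem]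
    simp [MulAut.smul_def]
  have hP₂' : (P₂ : Subgroup G) ≤ H₁.map (MulAut.conj g).toMonoidHom := by
    intro x hx
    refine ⟨g⁻¹ * x * g, hP₁ ((hmem x).mp hx), ?_⟩
    simp only [MulEquiv.coe_toMonoidHom, MulAut.conj_apply]
    group
  have hpG : p ∣ Nat.card G := h2.trans (Subgroup.card_subgroup_dvd_card H₂)
  have hP1 : (P₂ : Subgroup G) ≠ ⊥ := Sylow.ne_bot_of_dvd_card P₂ hpG
  have : Nontrivial (P₂ : Subgroup G) := (Subgroup.nontrivial_iff_ne_bot _).mpr hP1
  have := IsPGroup.center_nontrivial P₂.isPGroup'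
  obtain ⟨⟨z, hz⟩, hz1⟩ := exists_ne (1 : Subgroup.center (P₂ : Subgroup G))
  have hz1' : (z : G) ≠ 1 := by
    intro h
    apply hz1
    apply Subtype.ext
    apply Subtype.ext
    simpa using h
  have hzc : ∀ t ∈ (P₂ : Subgroup G), Commute (z : G) t := by
    intro t ht
    have := Subgroup.mem_center_iff.mp hz ⟨t, ht⟩
    have h2 := congrArg Subtype.val this
    simp only [Subgroup.coe_mul] at h2
    exact h2.symm
  have e1 := hM₂.centralizer_eq_of_sylow_center p P₂ hP₂ (z : G) z.2 hz1' hzc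
  have e2 := (hM₁.conj g).centralizer_eq_of_sylow_center p P₂ hP₂' (z : G) z.2 hz1' hzc
  rw [← e1, e2]

/-- every nilpotent subgroup of a finite CN-group lies in a maximal nilpotent subgroup -/
theorem exists_maxNilp_ge
    (hcn : ∀ g : G, g ≠ 1 → Group.IsNilpotent (Subgroup.centralizer ({g} : Set G)))
    (A : Subgroup G) (hA : Group.IsNilpotent A) : ∃ H : Subgroup G, A ≤ H ∧ MaxNilp H := by
  obtain ⟨H, hAH, hH⟩ := Finite.exists_le_maximal
    (p := fun L : Subgroup G => Group.IsNilpotent L) hA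
  refine ⟨H, hAH, ⟨hcn, hH.1, ?_⟩⟩
  intro L hL hHL
  exact le_antisymm (hH.2 hL hHL) hHL

omit [Finite G] in
/-- a nontrivial `p`-element of a subgroup forces `p` to divide its order -/
theorem dvd_card_of_p_element (H : Subgroup G) (p : ℕ) (hp : p.Prime) (x : G) (hx : x ∈ H)
    (hx1 : x ≠ 1) (hxp : IsPGroup p (Subgroup.zpowers x)) : p ∣ Nat.card H := by
  obtain ⟨k, hk⟩ := hxp ⟨x, Subgroup.mem_zpowers x⟩
  have hk' : x ^ p ^ k = 1 := by
    have := congrArg Subtype.val hk
    simpa using this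
  have h1 : orderOf x ∣ p ^ k := orderOf_dvd_of_pow_eq_one hk'
  obtain ⟨j, -, hj⟩ := (Nat.dvd_prime_pow hp).mp h1
  have hj0 : j ≠ 0 := by
    rintro rfl
    rw [pow_zero, orderOf_eq_one_iff] at hj
    exact hx1 hj
  have h2 : p ∣ orderOf x := by
    rw [hj]
    exact dvd_pow_self p hj0
  have h3 : orderOf x ∣ Nat.card H := by
    have := orderOf_dvd_natCard (⟨x, hx⟩ : H)
    rwa [Subgroup.orderOf_mk] at this
  exact h2.trans h3

end CN

end Cfsg.Agent.Lib.Helper11
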