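import Mathlib
import Cfsg.Agent.Lib.Helper11.CNConj
import Cfsg.Prelude.Def_Solvable

/-!
Minimal simple CN-groups of odd order: isolated primes, and the `p`-local subgroups.
-/

set_option autoImplicit false

namespace Cfsg.Agent.Lib.Helper11.CNSimpleA

open Cfsg.Agent.Lib.Helper11

variable {G : Type*} [Group G]

/-- the prime `p` is isolated: centralizers of nontrivial `p`-elements are `p`-groups -/
def PIso (p : ℕ) (G : Type*) [Group G] : Prop :=
  ∀ y : G, y ≠ 1 → IsPGroup p (Subgroup.zpowers y) →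
    IsPGroup p (Subgroup.centralizer ({y} : Set G))

theorem eq_one_of_pow_of_coprime {p : ℕ} {x : G} {k n : ℕ} (h1 : x ^ p ^ k = 1)
    (h2 : orderOf x ∣ n) (hn : n.Coprime p) : x = 1 := by
  have h3 : orderOf x ∣ p ^ k := orderOf_dvd_of_pow_eq_one h1
  have h4 : orderOf x = 1 :=
    Nat.eq_one_of_dvd_coprimes (Nat.Coprime.pow_right k hn) h2 h3
  exact orderOf_eq_one_iff.mp h4

theorem piso_of_maxNilp [Finite G] {p : ℕ} [hp : Fact p.Prime] (P : Sylow p G)
    (hM : MaxNilp (P : Subgroup G)) : PIso p G := by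
  intro y hy1 hyp
  obtain ⟨L, hCL, hL⟩ := exists_maxNilp_ge hM.cn _ (hM.cn y hy1)
  have hyL : y ∈ L := hCL (by
    rw [Subgroup.mem_centralizer_iff]
    intro z hz
    rw [Set.mem_singleton_iff] at hz
    rw [hz])
  have h2 : p ∣ Nat.card L := dvd_card_of_p_element L p hp.out y hyL hy1 hyp
  have hpG : p ∣ Nat.card G := h2.trans (Subgroup.card_subgroup_dvd_card L)
  have hP1 : (P : Subgroup G) ≠ ⊥ := Sylow.ne_bot_of_dvd_card P hpG
  have h1 : p ∣ Nat.card (P : Subgroup G) := by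
    obtain ⟨k, hk⟩ := (IsPGroup.iff_card).mp P.isPGroup'
    rw [hk]
    rcases Nat.eq_zero_or_pos k with h0 | h0
    · exfalso
      rw [h0, pow_zero] at hk
      exact hP1 (Subgroup.eq_bot_of_card_eq _ hk)
    · exact dvd_pow_self p h0.ne'
  obtain ⟨g, hg⟩ := hM.conj_of_common_prime hL p h1 h2
  have hLp : IsPGroup p L := by
    rw [hg]
    exact P.isPGroup'.map _
  exact hLp.to_le hCL

/-- the `p'`-core of a `p`-local subgroup is trivial when `p` is isolated -/
theorem pPrimeCore_normalizer_eq_bot [Finite G] {p : ℕ} [hp : Fact p.Prime] (hiso : PIso p G)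
    (Q : Subgroup G) (hQ : IsPGroup p Q) (hQ1 : Q ≠ ⊥) :
    Cfsg.pPrimeCore p ↥(Subgroup.normalizer (Q : Set G)) = ⊥ := by
  unfold Cfsg.pPrimeCore
  rw [sSup_eq_bot]
  rintro W ⟨hWn, hWc⟩
  rw [Subgroup.eq_bot_iff_forall]
  intro w hw
  obtain ⟨q, hqQ, hq1⟩ := (Subgroup.bot_or_exists_ne_one Q).resolve_left hQ1
  have hqN : q ∈ Subgroup.normalizer (Q : Set G) := Subgroup.le_normalizer hqQ
  -- the commutator of `w` and `q` is trivial
  have hc1 : w * ⟨q, hqN⟩ * w⁻¹ * (⟨q, hqN⟩ : Subgroup.normalizer (Q : Set G))⁻¹ ∈ W := by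
    have h1 : (⟨q, hqN⟩ : Subgroup.normalizer (Q : Set G)) * w⁻¹ *
        (⟨q, hqN⟩ : Subgroup.normalizer (Q : Set G))⁻¹ ∈ W :=
      hWn.conj_mem _ (W.inv_mem hw) _
    have := W.mul_mem hw h1
    simpa [mul_assoc] using this
  have hc2 : (w : G) * q * (w : G)⁻¹ * q⁻¹ ∈ Q := by
    have h1 : (w : G) * q * (w : G)⁻¹ ∈ Q :=
      ((Subgroup.mem_set_normalizer_iff).1 w.2 q).1 hqQ
    exact Q.mul_mem h1 (Q.inv_mem hqQ)
  have hc3 : (w : G) * q * (w : G)⁻¹ * q⁻¹ = 1 := by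
    obtain ⟨k, hk⟩ := hQ ⟨_, hc2⟩
    have hk' : ((w : G) * q * (w : G)⁻¹ * q⁻¹) ^ p ^ k = 1 := by
      simpa using congrArg Subtype.val hk
    apply eq_one_of_pow_of_coprime hk' _ hWc
    have h5 : orderOf (w * ⟨q, hqN⟩ * w⁻¹ *
        (⟨q, hqN⟩ : Subgroup.normalizer (Q : Set G))⁻¹) ∣ Nat.card W :=
      Subgroup.orderOf_dvd_natCard W hc1
    rw [← Subgroup.orderOf_coe] at h5
    simpa using h5
  have hcomm : q * (w : G) = (w : G) * q := by
    have := congrArg (fun z => z * q * (w : G)) hc3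
    simp only [one_mul] at this
    rw [← this]
    group
  have hwC : (w : G) ∈ Subgroup.centralizer ({q} : Set G) := by
    rw [Subgroup.mem_centralizer_iff]
    intro z hz
    rw [Set.mem_singleton_iff] at hz
    rw [hz]
    exact hcomm
  have hqp : IsPGroup p (Subgroup.zpowers q) := hQ.to_le (Subgroup.zpowers_le.mpr hqQ)
  obtain ⟨k, hk⟩ := hiso q hq1 hqp ⟨_, hwC⟩
  have hk' : (w : G) ^ p ^ k = 1 := by simpa using congrArg Subtype.val hk
  have h6 : orderOf (w : G) ∣ Nat.card W := by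
    rw [Subgroup.orderOf_coe]
    exact Subgroup.orderOf_dvd_natCard W hw
  have := eq_one_of_pow_of_coprime hk' h6 hWc
  exact Subtype.ext this

end Cfsg.Agent.Lib.Helper11.CNSimpleA
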