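import Mathlib
import Cfsg.Agent.Lib.Helper11.CNSimpleA
import Cfsg.Agent.Lib.Helper11.ThompsonTransOdd
import Cfsg.Agent.S0657
import Cfsg.Agent.S0658
import Cfsg.Agent.Lib.Helper9.ZJ17

/-!
Minimal simple CN-groups of odd order: the `p`-local subgroups lie in the normalizer of `Z(J(P))`.
-/

set_option autoImplicit false

namespace Cfsg.Agent.Lib.Helper11.CNSimpleB

open Cfsg.Agent.Lib.Helper11 Cfsg.Agent.Lib.Helper11.CNSimpleA

theorem sl2_even (p : ℕ) [Fact p.Prime] (hp : p ≠ 2) :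
    2 ∣ Nat.card (Matrix.SpecialLinearGroup (Fin 2) (ZMod p)) := by
  have h1 : (-1 : Matrix.SpecialLinearGroup (Fin 2) (ZMod p)) ≠ 1 := by
    intro h
    have h2 := congrArg (fun m : Matrix.SpecialLinearGroup (Fin 2) (ZMod p) =>
      (m : Matrix (Fin 2) (Fin 2) (ZMod p)) 0 0) h
    simp at h2
    have h3 : (2 : ZMod p) = 0 := by
      have : (1 : ZMod p) + 1 = 0 := by
        nth_rewrite 1 [← h2]; simp
      rw [← this]; norm_num
    have h4 : ((2 : ℕ) : ZMod p) = 0 := by exact_mod_cast h3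
    rw [ZMod.natCast_eq_zero_iff] at h4
    have := (Nat.prime_dvd_prime_iff_eq (Fact.out : p.Prime) Nat.prime_two).1 h4
    exact hp this
  have h2 : (-1 : Matrix.SpecialLinearGroup (Fin 2) (ZMod p)) ^ 2 = 1 := by
    ext i j
    simp [pow_two]
  have h3 : orderOf (-1 : Matrix.SpecialLinearGroup (Fin 2) (ZMod p)) = 2 :=
    orderOf_eq_prime h2 h1
  have h4 := orderOf_dvd_natCard (-1 : Matrix.SpecialLinearGroup (Fin 2) (ZMod p))
  rwa [h3] at h4

theorem no_sl2_section {G : Type*} [Group G] [Finite G] (hodd : Odd (Nat.card G)) {p : ℕ}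
    [Fact p.Prime] (hp : p ≠ 2) (H K : Subgroup G) (hK : (K.subgroupOf H).Normal)
    (e : (H ⧸ K.subgroupOf H) ≃* Matrix.SpecialLinearGroup (Fin 2) (ZMod p)) : False := by
  have h1 := sl2_even p hp
  rw [← Nat.card_congr e.toEquiv] at h1
  have h2 : Nat.card (H ⧸ K.subgroupOf H) ∣ Nat.card H := Subgroup.card_quotient_dvd_card _
  have h3 : Nat.card H ∣ Nat.card G := Subgroup.card_subgroup_dvd_card H
  have h4 : 2 ∣ Nat.card G := h1.trans (h2.trans h3)
  exact (Nat.not_even_iff_odd.2 hodd) (even_iff_two_dvd.2 h4)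

theorem isPStable_of_odd {N : Type*} [Group N] [Finite N] (hodd : Odd (Nat.card N)) {p : ℕ}
    [Fact p.Prime] (hp : p ≠ 2) (h0 : Cfsg.pPrimeCore p N = ⊥) (hO : Cfsg.pCore p N ≠ ⊥) :
    Cfsg.IsPStable p N := by
  apply Cfsg.Agent.Lib.Helper9.isPStable_of_isPStable_quotient hO
  by_contra hns
  have hlt : Cfsg.pPrimeCore p N < Cfsg.pPrimePCore p N := by
    rw [h0, bot_lt_iff_ne_bot]
    intro h
    apply hO
    have := Cfsg.Agent.Lib.Helper5.h5_pCore_le_pPrimePCore (G := N) (p := p)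
    rw [h] at this
    exact le_bot_iff.mp this
  obtain ⟨K, L, hL, -, ⟨e⟩⟩ := Cfsg.Agent.S0657.result hp hlt hns
  exact no_sl2_section hodd hp K L hL e

variable {G : Type*} [Group G] [Finite G]

theorem pCore_normalizer_ne_bot {p : ℕ} [Fact p.Prime] (Q : Subgroup G) (hQ : IsPGroup p Q)
    (hQ1 : Q ≠ ⊥) : Cfsg.pCore p ↥(Subgroup.normalizer (Q : Set G)) ≠ ⊥ := by
  intro h
  have h1 : Q.subgroupOf (Subgroup.normalizer (Q : Set G)) ≤
      Cfsg.pCore p ↥(Subgroup.normalizer (Q : Set G)) :=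
    Cfsg.Agent.Lib.Helper1.le_pCore Subgroup.normal_in_normalizer
      (hQ.comap_of_injective _ (Subgroup.subtype_injective _))
  rw [h, le_bot_iff, Subgroup.subgroupOf_eq_bot] at h1
  apply hQ1
  rw [eq_bot_iff]
  intro x hx
  exact (Subgroup.disjoint_def.mp h1) hx (Subgroup.le_normalizer hx)

theorem hloc (hodd : Odd (Nat.card G)) {p : ℕ} [Fact p.Prime] (hp : p ≠ 2) (hiso : PIso p G)
    (hsolv : ∀ Q : Subgroup G, IsPGroup p Q → Q ≠ ⊥ →
      Group.IsSolvable ↥(Subgroup.normalizer (Q : Set G))) :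
    ∀ Q : Subgroup G, IsPGroup p Q → Q ≠ ⊥ →
      Cfsg.pPrimeCore p ↥(Subgroup.normalizer (Q : Set G)) = ⊥ ∧
      Cfsg.IsPConstrained p ↥(Subgroup.normalizer (Q : Set G)) ∧
      Cfsg.IsPStable p ↥(Subgroup.normalizer (Q : Set G)) := by
  intro Q hQ hQ1
  have h0 := pPrimeCore_normalizer_eq_bot hiso Q hQ hQ1
  have := hsolv Q hQ hQ1
  refine ⟨h0, isPConstrained_of_isSolvable p, ?_⟩
  apply isPStable_of_odd _ hp h0 (pCore_normalizer_ne_bot Q hQ hQ1)
  exact hodd.of_dvd_nat (Subgroup.card_subgroup_dvd_card _)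

/-- every `p`-local subgroup meeting a Sylow `p`-subgroup `P` in `Q` normalizes `Z(J(P))` -/
theorem normalizer_le_ctA (hodd : Odd (Nat.card G)) {p : ℕ} [Fact p.Prime] (hp : p ≠ 2)
    (hiso : PIso p G)
    (hsolv : ∀ Q : Subgroup G, IsPGroup p Q → Q ≠ ⊥ →
      Group.IsSolvable ↥(Subgroup.normalizer (Q : Set G)))
    (P : Sylow p G) (Q : Subgroup G) (hQP : Q ≤ (P : Subgroup G)) (hQ1 : Q ≠ ⊥) :
    Subgroup.normalizer (Q : Set G) ≤
      Subgroup.normalizer (Cfsg.centerThompsonAOf (P : Subgroup G) : Set G) :=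
  Cfsg.Agent.S0658.result hp (hloc hodd hp hiso hsolv) P Q hQP hQ1

end Cfsg.Agent.Lib.Helper11.CNSimpleB
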