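import Mathlib
import Cfsg.Agent.Lib.Helper11.CNSimpleB
import Cfsg.Agent.Lib.Helper1.GNPC.ZJFun
import Cfsg.Agent.S3071
import Cfsg.Agent.S1242

/-!
Perfect groups of odd order: the normalizer of `Z(J(S))` has no quotient of order `p`.
-/

set_option autoImplicit false

namespace Cfsg.Agent.Lib.Helper11.CNSimpleC

open Cfsg.Agent.Lib.Helper11 Cfsg.Agent.Lib.Helper11.CNSimpleB

variable {G : Type*} [Group G] [Finite G]

theorem sylow_le_normalizer_ctA {p : ℕ} [Fact p.Prime] (S : Sylow p G) :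
    (S : Subgroup G) ≤ Subgroup.normalizer (Cfsg.centerThompsonAOf (S : Subgroup G) : Set G) :=
  Subgroup.le_normalizer.trans
    (Cfsg.Agent.Lib.Helper1.GNPC.normalizer_le_normalizer_ctA (S : Subgroup G))

/-- the normalizer of `Z(J(S))` in a perfect group of odd order is generated by its
`p'`-elements and commutators -/
theorem ctA_normalizer_residual (hodd : Odd (Nat.card G)) {p : ℕ} [hpp : Fact p.Prime]
    (hp : p ≠ 2) (hperf : commutator G = ⊤) (S : Sylow p G) :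
    Cfsg.pResidual p ↥(Subgroup.normalizer (Cfsg.centerThompsonAOf (S : Subgroup G) : Set G)) ⊔
      commutator ↥(Subgroup.normalizer (Cfsg.centerThompsonAOf (S : Subgroup G) : Set G)) = ⊤ := by
  obtain ⟨M, hM⟩ : ∃ M : Subgroup G,
    M = Subgroup.normalizer (Cfsg.centerThompsonAOf (S : Subgroup G) : Set G) := ⟨_, rfl⟩
  rw [← hM]
  have hSM : (S : Subgroup G) ≤ M := hM ▸ sylow_le_normalizer_ctA S
  have hfree : ∀ P : Subgroup G,
      (S : Subgroup G) ⊓ Subgroup.centralizer ((S : Subgroup G) : Set G) ≤ P → P ≤ S →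
      ¬ ∃ (H K : Subgroup G) (hK : (K.subgroupOf H).Normal),
        H ≤ Subgroup.normalizer (P : Set G) ∧
        Nonempty ((H ⧸ K.subgroupOf H) ≃* Matrix.SpecialLinearGroup (Fin 2) (ZMod p)) := by
    rintro P - - ⟨H, K, hK, -, ⟨e⟩⟩
    exact no_sl2_section hodd hp H K hK e
  have hS := Cfsg.Agent.S3071.result hp S hfree
  rw [← hM] at hS
  have hnd : ¬ p ∣ M.index := fun h =>
    S.not_dvd_index (h.trans (Subgroup.index_dvd_of_le hSM))
  have hidx : Nat.Coprime p M.index := (Nat.Prime.coprime_iff_not_dvd hpp.out).2 hnd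
  have hrel : ¬ p ∣ (S : Subgroup G).relIndex M := fun h =>
    S.not_dvd_index (h.trans (Subgroup.relIndex_dvd_index_of_le hSM))
  have hfus : ∀ g ∈ M, (∃ k : ℕ, orderOf g = p ^ k) → ∀ a : G, a * g * a⁻¹ ∈ M →
      ∃ h ∈ M, h * g * h⁻¹ = a * g * a⁻¹ := by
    rintro g hgM ⟨k, hk⟩ a haM
    obtain ⟨m, hm, hx⟩ := Cfsg.Agent.Lib.Helper22.exists_conj_mem_of_pelement p M
      (S : Subgroup G) S.isPGroup' hrel g hgM k hk
    have hk' : orderOf (a * g * a⁻¹) = p ^ k := by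
      have := (MulAut.conj a).orderOf_eq g
      rw [MulAut.conj_apply] at this
      rw [this, hk]
    obtain ⟨m', hm', hy⟩ := Cfsg.Agent.Lib.Helper22.exists_conj_mem_of_pelement p M
      (S : Subgroup G) S.isPGroup' hrel (a * g * a⁻¹) haM k hk'
    obtain ⟨n, hn, hnx⟩ := (hS _ hx _ hy).1 ⟨m'⁻¹ * a * m, by group⟩
    refine ⟨m' * n * m⁻¹, M.mul_mem (M.mul_mem hm' hn) (M.inv_mem hm), ?_⟩
    calc m' * n * m⁻¹ * g * (m' * n * m⁻¹)⁻¹
        = m' * (n * (m⁻¹ * g * m) * n⁻¹) * m'⁻¹ := by group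
      _ = m' * (m'⁻¹ * (a * g * a⁻¹) * m') * m'⁻¹ := by rw [hnx]
      _ = a * g * a⁻¹ := by group
  have h1 := Cfsg.Agent.S1242.result M hidx hfus
  rw [hperf, sup_top_eq, top_inf_eq] at h1
  apply Subgroup.map_injective M.subtype_injective
  rw [← h1, ← MonoidHom.range_eq_map, Subgroup.range_subtype]

end Cfsg.Agent.Lib.Helper11.CNSimpleC
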