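import Mathlib
import Cfsg.Agent.Lib.Helper11.NilpCoprime
import Cfsg.Agent.S0040

set_option autoImplicit false

namespace Cfsg.Agent.Lib.Helper11

/-- structure of a nilpotent Frobenius complement: cyclic, or cyclic of odd order times
generalized quaternion -/
theorem nilpotent_frobenius_complement_structure {G : Type*} [Group G] [Finite G]
    (K E : Subgroup G) [K.Normal] (hc : Subgroup.IsComplement' K E) (hK : K ≠ ⊥)
    (hfpf : ∀ e ∈ E, e ≠ 1 → K ⊓ Subgroup.centralizer ({e} : Set G) = ⊥)
    (hEn : Group.IsNilpotent E) :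
    IsCyclic E ∨ ∃ C Q : Subgroup G, C ⊔ Q = E ∧ (∀ a ∈ C, ∀ b ∈ Q, a * b = b * a) ∧ IsCyclic C ∧
      Odd (Nat.card C) ∧ ∃ n : ℕ, Nonempty (↥Q ≃* QuaternionGroup (2 ^ n)) := by
  have hsyl : ∀ (r : ℕ) [Fact r.Prime] (R : Sylow r E), r ≠ 2 → IsCyclic R := by
    intro r hr R hr2
    rcases Cfsg.Agent.S0040.result K E hc hK hfpf r R with h | ⟨n, ⟨e⟩⟩
    · exact h
    · exfalso
      have : NeZero (2 ^ n) := ⟨by positivity⟩
      have h1 : Nat.card R = 4 * 2 ^ n := by
        rw [Nat.card_congr e.toEquiv, Nat.card_eq_fintype_card, QuaternionGroup.card]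
      obtain ⟨k, hk⟩ := (IsPGroup.iff_card).mp R.isPGroup'
      have h2 : 2 ∣ r ^ k := by
        rw [← hk, h1]
        exact ⟨2 * 2 ^ n, by ring⟩
      have h3 : 2 ∣ r := Nat.Prime.dvd_of_dvd_pow Nat.prime_two h2
      exact hr2 ((Nat.prime_dvd_prime_iff_eq Nat.prime_two hr.out).mp h3).symm
  have : Fact (Nat.Prime 2) := ⟨Nat.prime_two⟩
  let S2 : Sylow 2 E := default
  have huniq : ∀ (r : ℕ) [Fact r.Prime] (R R' : Sylow r E), R = R' := by
    intro r _ R R'
    have := Sylow.unique_of_normal R inferInstance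
    exact Subsingleton.elim _ _
  rcases Cfsg.Agent.S0040.result K E hc hK hfpf 2 S2 with h2 | ⟨n, ⟨e⟩⟩
  · left
    have : IsZGroup E := ⟨fun r hr R => by
      have : Fact r.Prime := ⟨hr⟩
      by_cases hr2 : r = 2
      · subst hr2
        rw [huniq 2 R S2]
        exact h2
      · exact hsyl r R hr2⟩
    infer_instance
  · right
    have hS2n : (S2 : Subgroup E).Normal := inferInstance
    have hnd : ¬ 2 ∣ (S2 : Subgroup E).index := S2.not_dvd_index
    have hcop : (Nat.card (S2 : Subgroup E)).Coprime (S2 : Subgroup E).index := by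
      obtain ⟨k, hk⟩ := (IsPGroup.iff_card).mp S2.isPGroup'
      rw [hk]
      apply Nat.Coprime.pow_left
      exact (Nat.Prime.coprime_iff_not_dvd Nat.prime_two).mpr hnd
    obtain ⟨C0, hC0⟩ := Subgroup.exists_right_complement'_of_coprime hcop
    have hC0card : Nat.card C0 = (S2 : Subgroup E).index := (hC0.symm.index_eq_card).symm
    have hC0odd : Odd (Nat.card C0) := by
      rw [hC0card]
      exact Nat.odd_iff.mpr (Nat.two_dvd_ne_zero.mp hnd)
    have hC0Z : IsZGroup C0 := ⟨fun r hr R => by
      have : Fact r.Prime := ⟨hr⟩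
      by_cases hr2 : r = 2
      · subst hr2
        obtain ⟨k, hk⟩ := (IsPGroup.iff_card).mp R.isPGroup'
        have h1 : Nat.card R ∣ Nat.card C0 := Subgroup.card_subgroup_dvd_card _
        have hk0 : k = 0 := by
          by_contra hk0
          have : 2 ∣ Nat.card C0 := (dvd_pow_self 2 hk0).trans (hk ▸ h1)
          exact (Nat.not_even_iff_odd.mpr hC0odd) (even_iff_two_dvd.mpr this)
        rw [hk0, pow_zero] at hk
        have := (Nat.card_eq_one_iff_unique.mp hk).1
        exact isCyclic_of_subsingleton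
      · have hRp : IsPGroup r ((R : Subgroup C0).map C0.subtype) := R.isPGroup'.map _
        obtain ⟨T, hT⟩ := hRp.exists_le_sylow
        have hTc : IsCyclic T := hsyl r T hr2
        have hTc' : IsCyclic (T : Subgroup E) := hTc
        have h1 : IsCyclic ((R : Subgroup C0).map C0.subtype) := Subgroup.isCyclic_of_le hT
        exact (MulEquiv.isCyclic ((R : Subgroup C0).equivMapOfInjective C0.subtype
          C0.subtype_injective)).mpr h1⟩
    have hC0cyc : IsCyclic C0 := inferInstance
    refine ⟨C0.map E.subtype, (S2 : Subgroup E).map E.subtype, ?_, ?_, ?_, ?_, n, ⟨?_⟩⟩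
    · rw [← Subgroup.map_sup, sup_comm, hC0.sup_eq_top, ← MonoidHom.range_eq_map,
        Subgroup.range_subtype]
    · rintro _ ⟨a, ha, rfl⟩ _ ⟨b, hb, rfl⟩
      have hcomm : Commute a b := by
        apply commute_of_coprime_orderOf
        have h1 : orderOf a ∣ Nat.card C0 := Subgroup.orderOf_dvd_natCard C0 ha
        have h2 : orderOf b ∣ Nat.card (S2 : Subgroup E) := Subgroup.orderOf_dvd_natCard _ hb
        apply Nat.Coprime.of_dvd h1 h2
        rw [hC0card]
        exact hcop.symm
      have := congrArg Subtype.val hcomm.eq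
      simpa using this
    · exact (MulEquiv.isCyclic (C0.equivMapOfInjective E.subtype E.subtype_injective)).mp hC0cyc
    · rw [← Nat.card_congr (C0.equivMapOfInjective E.subtype E.subtype_injective).toEquiv]
      exact hC0odd
    · exact (((S2 : Subgroup E).equivMapOfInjective E.subtype E.subtype_injective).symm).trans e

end Cfsg.Agent.Lib.Helper11
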