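import Mathlib
import Cfsg.Prelude.Def_OddOrderLocal
import Cfsg.Prelude.Def_Solvable
import Cfsg.Agent.Lib.Helper11.CNNormalSylow
import Cfsg.Agent.Lib.Helper11.FrobComplStructure
import Cfsg.Agent.Lib.Helper18.PCore
import Cfsg.Agent.Lib.Helper1.FrobCenter
import Cfsg.Agent.Lib.Helper11.Eppo
import Cfsg.Agent.Lib.Helper1.Nilp

set_option autoImplicit false
set_option linter.unusedSectionVars false
set_option linter.unusedVariables false

namespace Cfsg.Agent.Lib.Helper11

section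

variable {G : Type*} [Group G] [Finite G]

/-- the center of a normal subgroup, as a subgroup of the whole group -/
def centerMap (S : Subgroup G) : Subgroup G := (Subgroup.center S).map S.subtype

omit [Finite G] in
theorem centerMap_le (S : Subgroup G) : centerMap S ≤ S := by
  rintro _ ⟨x, _, rfl⟩
  exact x.2

instance centerMap_normal (S : Subgroup G) [S.Normal] : (centerMap S).Normal := by
  unfold centerMap
  infer_instance

omit [Finite G] in
theorem centerMap_comm (S : Subgroup G) : ∀ a ∈ centerMap S, ∀ b ∈ centerMap S, a * b = b * a := by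
  rintro _ ⟨a, ha, rfl⟩ _ ⟨b, hb, rfl⟩
  have := congrArg Subtype.val (Subgroup.mem_center_iff.mp ha b)
  simpa using this.symm

theorem centerMap_ne_bot (S : Subgroup G) (p : ℕ) [Fact p.Prime] (hS : IsPGroup p S) (hS1 : S ≠ ⊥) :
    centerMap S ≠ ⊥ := by
  obtain ⟨z, hzP, hz1, hzc⟩ := exists_center_element S p hS hS1
  intro h
  have hzN : z ∈ centerMap S := by
    refine ⟨⟨z, hzP⟩, ?_, rfl⟩
    rw [SetLike.mem_coe, Subgroup.mem_center_iff]
    intro w
    apply Subtype.ext
    simpa using hzc w w.2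
  rw [h, Subgroup.mem_bot] at hzN
  exact hz1 hzN

/-- hypotheses of the "three step" case: a CN-group without nontrivial normal Sylow subgroups and
with nontrivial `O_p` -/
structure NoNormalSylow (G : Type*) [Group G] [Finite G] (p : ℕ) : Prop where
  cn : ∀ g : G, g ≠ 1 → Group.IsNilpotent (Subgroup.centralizer ({g} : Set G))
  prime : p.Prime
  core_ne : Cfsg.pCore p G ≠ ⊥
  nns : ∀ (r : ℕ) [Fact r.Prime] (R : Sylow r G), (R : Subgroup G).Normal → (R : Subgroup G) = ⊥

theorem NoNormalSylow.fpf {p : ℕ} (h : NoNormalSylow G p) (x : G) (hx1 : x ≠ 1)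
    (hxp : (orderOf x).Coprime p) (u : G) (hu : u ∈ Cfsg.pCore p G) (hxu : x * u = u * x) :
    u = 1 := by
  by_contra hu1
  have : Fact p.Prime := ⟨h.prime⟩
  have ho1 : orderOf x ≠ 1 := fun h1 => hx1 (orderOf_eq_one_iff.mp h1)
  obtain ⟨r, hr, hrx⟩ := Nat.exists_prime_and_dvd ho1
  have : Fact r.Prime := ⟨hr⟩
  set x' := x ^ (orderOf x / r) with hx'def
  have hx'o : orderOf x' = r := orderOf_pow_orderOf_div (orderOf_pos x).ne' hrx
  have hx'1 : x' ≠ 1 := by
    intro h1
    rw [h1, orderOf_one] at hx'o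
    exact hr.one_lt.ne hx'o
  have hpr : p ≠ r := by
    rintro rfl
    exact (Nat.Prime.coprime_iff_not_dvd h.prime).mp hxp.symm hrx
  have hcomm : x' * u = u * x' := by
    have hc : Commute x u := hxu
    exact (hc.pow_left _).eq
  have hPn : (Cfsg.pCore p G).Normal := Cfsg.Agent.Lib.Helper18.pCore_normal_h18 p G
  obtain ⟨R, hRn, hxR⟩ := exists_normal_sylow_of_fixed h.cn (Cfsg.pCore p G) p r hpr
    (Cfsg.Agent.Lib.Helper18.pCore_isPGroup p G) x' hx'1
    ⟨1, by rw [pow_one, ← hx'o]; exact pow_orderOf_eq_one x'⟩ u hu hu1 hcomm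
  have := h.nns r R hRn
  have hxR' : x' ∈ (R : Subgroup G) := hxR
  rw [this, Subgroup.mem_bot] at hxR'
  exact hx'1 hxR'

theorem NoNormalSylow.fpfOn {p : ℕ} (h : NoNormalSylow G p) (L : Subgroup G)
    (hL : (Nat.card L).Coprime p) :
    haveI := Cfsg.Agent.Lib.Helper18.pCore_normal_h18 p G
    FpfOn L (centerMap (Cfsg.pCore p G)) := by
  have hPn : (Cfsg.pCore p G).Normal := Cfsg.Agent.Lib.Helper18.pCore_normal_h18 p G
  have : Fact p.Prime := ⟨h.prime⟩
  have hPp := Cfsg.Agent.Lib.Helper18.pCore_isPGroup p G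
  refine ⟨h.cn, inferInstance, centerMap_comm _, centerMap_ne_bot _ p hPp h.core_ne, ?_, ?_⟩
  · intro e heL he1 u hu hfix
    apply h.fpf e he1 _ u (centerMap_le _ hu)
    · calc e * u = (e * u * e⁻¹) * e := by group
        _ = u * e := by rw [hfix]
    · exact Nat.Coprime.of_dvd_left (Subgroup.orderOf_dvd_natCard L heL) hL
  · obtain ⟨k, hk⟩ := (IsPGroup.iff_card).mp
      (hPp.to_le (centerMap_le (Cfsg.pCore p G)))
    rw [hk]
    exact Nat.Coprime.pow_right k hL

theorem NoNormalSylow.isNilpotent_of_coprime {p : ℕ} (h : NoNormalSylow G p) (L : Subgroup G)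
    (hL : (Nat.card L).Coprime p) : Group.IsNilpotent L := by
  have hPn : (Cfsg.pCore p G).Normal := Cfsg.Agent.Lib.Helper18.pCore_normal_h18 p G
  exact (h.fpfOn L hL).isNilpotent

/-- lift a `p'`-subgroup of `G ⧸ N` (`N` a normal `p`-subgroup) to a complement -/
theorem exists_lift_subgroup (N : Subgroup G) [N.Normal] (p : ℕ) [Fact p.Prime] (hN : IsPGroup p N)
    (Lb : Subgroup (G ⧸ N)) (hLb : (Nat.card Lb).Coprime p) :
    ∃ L : Subgroup G, L.map (QuotientGroup.mk' N) = Lb ∧ (∀ x ∈ L, x ∈ N → x = 1) := by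
  set X : Subgroup G := Lb.comap (QuotientGroup.mk' N) with hX
  have hNX : N ≤ X := by
    intro n hn
    rw [hX, Subgroup.mem_comap, QuotientGroup.mk'_apply, (QuotientGroup.eq_one_iff n).mpr hn]
    exact Lb.one_mem
  have hXmap : X.map (QuotientGroup.mk' N) = Lb :=
    Subgroup.map_comap_eq_self_of_surjective (QuotientGroup.mk'_surjective N) Lb
  have hN'n : (N.subgroupOf X).Normal := inferInstance
  have hcard : Nat.card (N.subgroupOf X) = Nat.card N :=
    Nat.card_congr (Subgroup.subgroupOfEquivOfLe hNX).toEquiv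
  have hidx : (N.subgroupOf X).index = Nat.card Lb := by
    have h1 : N = (⊥ : Subgroup (G ⧸ N)).comap (QuotientGroup.mk' N) := by
      rw [MonoidHom.comap_bot, QuotientGroup.ker_mk']
    have h2 : N.relIndex X = (⊥ : Subgroup (G ⧸ N)).relIndex (X.map (QuotientGroup.mk' N)) := by
      conv_lhs => rw [h1]
      exact Subgroup.relIndex_comap _ _ _
    rw [hXmap, Subgroup.relIndex_bot_left] at h2
    exact h2
  have hcop : (Nat.card (N.subgroupOf X)).Coprime (N.subgroupOf X).index := by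
    rw [hcard, hidx]
    obtain ⟨a, ha⟩ := (IsPGroup.iff_card).mp hN
    rw [ha]
    exact Nat.Coprime.pow_left a hLb.symm
  obtain ⟨H', hH'⟩ := Subgroup.exists_right_complement'_of_coprime hcop
  refine ⟨H'.map X.subtype, ?_, ?_⟩
  · apply le_antisymm
    · rw [← hXmap]
      apply Subgroup.map_mono
      rintro _ ⟨x, _, rfl⟩
      exact x.2
    · intro yb hyb
      obtain ⟨y, rfl⟩ := QuotientGroup.mk_surjective yb
      have hyX : y ∈ X := hyb
      obtain ⟨⟨⟨n, hn⟩, ⟨h, hh⟩⟩, e, -⟩ := hH'.existsUnique (⟨y, hyX⟩ : X)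
      simp only at e
      refine ⟨(h : G), ⟨h, hh, rfl⟩, ?_⟩
      have e' : (n : G) * (h : G) = y := by
        have := congrArg Subtype.val e
        simpa using this
      rw [QuotientGroup.mk'_apply, ← e', QuotientGroup.mk_mul]
      have hn' : (n : G) ∈ N := Subgroup.mem_subgroupOf.mp hn
      rw [(QuotientGroup.eq_one_iff (n : G)).mpr hn', one_mul]
  · rintro _ ⟨h, hh, rfl⟩ hxN
    have h1 : h ∈ N.subgroupOf X := Subgroup.mem_subgroupOf.mpr hxN
    have := Subgroup.disjoint_def.mp hH'.disjoint h1 hh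
    rw [this]; rfl

omit [Finite G] in
/-- a lift as in `exists_lift_subgroup` is isomorphic to its image -/
noncomputable def liftEquiv (N : Subgroup G) [N.Normal] (L : Subgroup G)
    (hL : ∀ x ∈ L, x ∈ N → x = 1) : L ≃* L.map (QuotientGroup.mk' N) :=
  MulEquiv.ofBijective ((QuotientGroup.mk' N).subgroupMap L) ⟨by
    rw [injective_iff_map_eq_one]
    intro x hx
    have h1 := congrArg Subtype.val hx
    simp only [MonoidHom.subgroupMap_apply_coe, Subgroup.coe_one, QuotientGroup.mk'_apply] at h1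
    have h2 : (x : G) ∈ N := (QuotientGroup.eq_one_iff _).mp h1
    exact Subtype.ext (hL x x.2 h2), MonoidHom.subgroupMap_surjective _ _⟩

omit [Finite G] in
theorem liftEquiv_apply (N : Subgroup G) [N.Normal] (L : Subgroup G)
    (hL : ∀ x ∈ L, x ∈ N → x = 1) (x : L) :
    ((liftEquiv N L hL x : L.map (QuotientGroup.mk' N)) : G ⧸ N) = ((x : G) : G ⧸ N) := rfl

/-- setup for the three step case -/
structure TSSetup (N : Subgroup G) [N.Normal] (p : ℕ) : Prop where
  cn : ∀ g : G, g ≠ 1 → Group.IsNilpotent (Subgroup.centralizer ({g} : Set G))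
  prime : p.Prime
  pgroup : IsPGroup p N
  ne_bot : N ≠ ⊥
  max : ∀ M : Subgroup G, M.Normal → IsPGroup p M → M ≤ N
  fpf : ∀ x : G, x ≠ 1 → (orderOf x).Coprime p → ∀ u ∈ N, x * u = u * x → u = 1
  not_sylow : ∃ x : G, x ∉ N ∧ ∃ k : ℕ, x ^ p ^ k = 1
  solv : Group.IsSolvable G

variable {N : Subgroup G} [N.Normal] {p : ℕ}

theorem TSSetup.quot_cn (h : TSSetup N p) : ∀ y : G ⧸ N, y ≠ 1 →
    Group.IsNilpotent (Subgroup.centralizer ({y} : Set (G ⧸ N))) := by
  have : Fact p.Prime := ⟨h.prime⟩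
  have hNnil : Group.IsNilpotent N := h.pgroup.isNilpotent
  exact cn_quotient_solvable h.cn N inferInstance

theorem TSSetup.quot_no_normal_p (h : TSSetup N p) (M : Subgroup (G ⧸ N)) (hMn : M.Normal)
    (hMp : IsPGroup p M) : M = ⊥ := by
  have h1 : IsPGroup p (M.comap (QuotientGroup.mk' N)) := by
    apply hMp.comap_of_ker_isPGroup
    rw [QuotientGroup.ker_mk']
    exact h.pgroup
  have h2 : (M.comap (QuotientGroup.mk' N)).Normal := hMn.comap _
  have h3 := h.max _ h2 h1
  rw [eq_bot_iff]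
  intro y hy
  obtain ⟨x, rfl⟩ := QuotientGroup.mk_surjective y
  have : x ∈ N := h3 hy
  rw [Subgroup.mem_bot]
  exact (QuotientGroup.eq_one_iff x).mpr this

theorem TSSetup.fpfOn (h : TSSetup N p) (L : Subgroup G) (hL : (Nat.card L).Coprime p) :
    FpfOn L (centerMap N) := by
  have : Fact p.Prime := ⟨h.prime⟩
  refine ⟨h.cn, inferInstance, centerMap_comm _, centerMap_ne_bot _ p h.pgroup h.ne_bot, ?_, ?_⟩
  · intro e heL he1 u hu hfix
    apply h.fpf e he1 _ u (centerMap_le _ hu)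
    · calc e * u = (e * u * e⁻¹) * e := by group
        _ = u * e := by rw [hfix]
    · exact Nat.Coprime.of_dvd_left (Subgroup.orderOf_dvd_natCard L heL) hL
  · obtain ⟨k, hk⟩ := (IsPGroup.iff_card).mp (h.pgroup.to_le (centerMap_le N))
    rw [hk]
    exact Nat.Coprime.pow_right k hL

theorem TSSetup.nilpotent_of_coprime (h : TSSetup N p) (L : Subgroup G)
    (hL : (Nat.card L).Coprime p) : Group.IsNilpotent L :=
  (h.fpfOn L hL).isNilpotent

theorem TSSetup.card_lift (h : TSSetup N p) (Lb : Subgroup (G ⧸ N)) (L : Subgroup G)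
    (hmap : L.map (QuotientGroup.mk' N) = Lb) (hdisj : ∀ x ∈ L, x ∈ N → x = 1) :
    Nat.card L = Nat.card Lb := by
  rw [← hmap]
  exact Nat.card_congr (liftEquiv N L hdisj).toEquiv

theorem TSSetup.quot_nilpotent_of_coprime (h : TSSetup N p) (Lb : Subgroup (G ⧸ N))
    (hLb : (Nat.card Lb).Coprime p) : Group.IsNilpotent Lb := by
  have : Fact p.Prime := ⟨h.prime⟩
  obtain ⟨L, hmap, hdisj⟩ := exists_lift_subgroup N p h.pgroup Lb hLb
  have hLn : Group.IsNilpotent L :=
    h.nilpotent_of_coprime L (by rw [h.card_lift Lb L hmap hdisj]; exact hLb)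
  rw [← hmap]
  exact isNilpotent_map' _ _ hLn

theorem TSSetup.fpf_inf (h : TSSetup N p) (L : Subgroup G) (hL : (Nat.card L).Coprime p) :
    ∀ a ∈ L, a ≠ 1 → centerMap N ⊓ Subgroup.centralizer {a} = ⊥ := by
  intro a ha ha1
  rw [eq_bot_iff]
  rintro u ⟨hu, huc⟩
  rw [Subgroup.mem_bot]
  have huc' : u ∈ Subgroup.centralizer ({a} : Set G) := huc
  rw [mem_centralizer_singleton_iff] at huc'
  exact h.fpf a ha1 (Nat.Coprime.of_dvd_left (Subgroup.orderOf_dvd_natCard L ha) hL) u
    (centerMap_le N hu) huc'.symm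

/-- uniqueness of subgroups of prime order among commuting elements of a `p'`-subgroup of the
quotient -/
theorem TSSetup.quot_mem_zpowers (h : TSSetup N p) (Lb : Subgroup (G ⧸ N))
    (hLb : (Nat.card Lb).Coprime p) (q : ℕ) (hq : 0 < q) (xb zb : G ⧸ N) (hxb : xb ∈ Lb)
    (hzb : zb ∈ Lb) (hcomm : xb * zb = zb * xb) (hz : orderOf zb = q) (hx : xb ^ q = 1) :
    xb ∈ Subgroup.zpowers zb := by
  have : Fact p.Prime := ⟨h.prime⟩
  obtain ⟨L, hmap, hdisj⟩ := exists_lift_subgroup N p h.pgroup Lb hLb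
  have hLc : (Nat.card L).Coprime p := by rw [h.card_lift Lb L hmap hdisj]; exact hLb
  rw [← hmap] at hxb hzb
  obtain ⟨x, hxL, rfl⟩ := hxb
  obtain ⟨z, hzL, rfl⟩ := hzb
  simp only [QuotientGroup.mk'_apply] at hcomm hz hx ⊢
  have inj : ∀ w ∈ L, (w : G ⧸ N) = 1 → w = 1 := fun w hw hw1 =>
    hdisj w hw ((QuotientGroup.eq_one_iff w).mp hw1)
  have hxz : x * z = z * x := by
    have h1 : (x * z) * (z * x)⁻¹ = 1 := by
      apply inj _ (L.mul_mem (L.mul_mem hxL hzL) (L.inv_mem (L.mul_mem hzL hxL)))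
      rw [QuotientGroup.mk_mul, QuotientGroup.mk_inv, QuotientGroup.mk_mul, QuotientGroup.mk_mul,
        hcomm, mul_inv_cancel]
    exact mul_inv_eq_one.mp h1
  have hxq : x ^ q = 1 := by
    apply inj _ (L.pow_mem hxL q)
    rw [QuotientGroup.mk_pow]; exact hx
  have hzq : z ^ q = 1 := by
    apply inj _ (L.pow_mem hzL q)
    rw [QuotientGroup.mk_pow, ← hz]; exact pow_orderOf_eq_one _
  have hzo : orderOf z = q := by
    apply Nat.dvd_antisymm (orderOf_dvd_of_pow_eq_one hzq)
    rw [← hz]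
    exact orderOf_map_dvd (QuotientGroup.mk' N) z
  have hVc : IsMulCommutative (centerMap N) :=
    ⟨⟨fun a b => Subtype.ext (centerMap_comm N a a.2 b b.2)⟩⟩
  have hVn : L ≤ Subgroup.normalizer ((centerMap N : Subgroup G) : Set G) := by
    intro l _
    exact mem_normalizer_of_normal _ l
  have := Cfsg.Agent.Lib.Helper1.mem_zpowers_of_fpf L (centerMap N)
    (centerMap_ne_bot N p h.pgroup h.ne_bot) hVn (h.fpf_inf L hLc) q hq x z hxL hzL hxz hzo hxq
  obtain ⟨k, hk⟩ := Subgroup.mem_zpowers_iff.mp this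
  refine Subgroup.mem_zpowers_iff.mpr ⟨k, ?_⟩
  rw [← hk, QuotientGroup.mk_zpow]

/-- in the quotient, a nontrivial `p`-element never commutes with a nontrivial `p'`-element -/
theorem TSSetup.quot_not_commute (h : TSSetup N p) (xb yb : G ⧸ N) (hxb1 : xb ≠ 1)
    (hxbp : ∃ i : ℕ, xb ^ p ^ i = 1) (hyb1 : yb ≠ 1) (hybp : (orderOf yb).Coprime p)
    (hcomm : yb * xb = xb * yb) : False := by
  have hp : Fact p.Prime := ⟨h.prime⟩
  obtain ⟨a, hcard⟩ := (IsPGroup.iff_card).mp h.pgroup
  have ho1 : orderOf yb ≠ 1 := fun h1 => hyb1 (orderOf_eq_one_iff.mp h1)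
  obtain ⟨t, ht, hty⟩ := Nat.exists_prime_and_dvd ho1
  have : Fact t.Prime := ⟨ht⟩
  set yb' := yb ^ (orderOf yb / t) with hyb'def
  have hyb'o : orderOf yb' = t := orderOf_pow_orderOf_div (orderOf_pos yb).ne' hty
  have hyb'1 : yb' ≠ 1 := by
    intro h1
    rw [h1, orderOf_one] at hyb'o
    exact ht.one_lt.ne hyb'o
  have htp : t ≠ p := by
    rintro rfl
    exact (Nat.Prime.coprime_iff_not_dvd ht).mp hybp.symm hty
  have hcomm' : yb' * xb = xb * yb' := by
    have hc : Commute yb xb := hcomm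
    exact (hc.pow_left _).eq
  have hcop : t.Coprime (Nat.card N) := by
    rw [hcard]
    exact Nat.Coprime.pow_right a ((Nat.coprime_primes ht h.prime).mpr htp)
  have hnd : ¬ t ∣ Nat.card N := by
    rw [hcard]
    intro hd
    exact htp ((Nat.prime_dvd_prime_iff_eq ht h.prime).mp (ht.dvd_of_dvd_pow hd))
  obtain ⟨k, hk, hkt⟩ := exists_lift_pow N t hcop yb' (by rw [← hyb'o]; exact pow_orderOf_eq_one _)
  have hk1 : k ≠ 1 := by
    intro h1
    apply hyb'1
    rw [← hk, h1]; rfl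
  obtain ⟨g0, hg0⟩ := QuotientGroup.mk_surjective xb
  have hab : g0⁻¹ * (k * g0 * k⁻¹) ∈ N := by
    rw [← QuotientGroup.eq_one_iff]
    simp only [QuotientGroup.mk_mul, QuotientGroup.mk_inv, hk, hg0]
    rw [hcomm']; group
  obtain ⟨v, hv, hfix⟩ := exists_fixed_in_coset N t hnd k g0 ⟨1, by rw [pow_one]; exact hkt⟩
    (mem_normalizer_of_normal N k) hab
  set g' := g0 * v with hg'
  have hg'y : (g' : G ⧸ N) = xb := by
    rw [hg', QuotientGroup.mk_mul_of_mem g0 hv, hg0]
  have hg'1 : g' ≠ 1 := by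
    intro h1
    apply hxb1
    rw [← hg'y, h1]; rfl
  obtain ⟨i, hi⟩ := hxbp
  have hg'p : g' ^ p ^ (i + a) = 1 := by
    apply pow_eq_one_of_quotient_pow p a hcard g' i
    rw [hg'y]; exact hi
  obtain ⟨v0, hv0, hv01, hc0⟩ := exists_fixed_in_pgroup N p h.pgroup h.ne_bot g' ⟨i + a, hg'p⟩
    (mem_normalizer_of_normal N g')
  have hkg' : k * g' = g' * k := by
    calc k * g' = (k * g' * k⁻¹) * k := by group
      _ = g' * k := by rw [hfix]
  have hko : (orderOf k).Coprime p := by
    apply Nat.Coprime.of_dvd_left (orderOf_dvd_of_pow_eq_one hkt)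
    exact (Nat.coprime_primes ht h.prime).mpr htp
  have hkv0 : k * v0 = v0 * k := by
    apply commute_of_mem_centralizer h.cn g' hg'1 k v0 hkg' hc0.symm
    apply Nat.Coprime.of_dvd_right (Subgroup.orderOf_dvd_natCard N hv0)
    rw [hcard]
    exact Nat.Coprime.pow_right a hko
  exact hv01 (h.fpf k hk1 hko v0 hv0 hkv0)

theorem isNilpotent_of_comm {Q : Type*} [Group Q] (A : Subgroup Q)
    (hA : ∀ a ∈ A, ∀ b ∈ A, a * b = b * a) : Group.IsNilpotent A := by
  let _ : CommGroup A :=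
    { (inferInstance : Group A) with mul_comm := fun a b => Subtype.ext (hA a a.2 b b.2) }
  infer_instance

theorem TSSetup.quot_nontrivial (h : TSSetup N p) : Nontrivial (G ⧸ N) := by
  obtain ⟨x, hx, -⟩ := h.not_sylow
  refine ⟨⟨(x : G ⧸ N), 1, ?_⟩⟩
  intro h1
  exact hx ((QuotientGroup.eq_one_iff x).mp h1)

theorem TSSetup.fitting_ne_bot (h : TSSetup N p) : Cfsg.fittingSubgroup (G ⧸ N) ≠ ⊥ := by
  have := h.quot_nontrivial
  have := h.solv
  have hs : Group.IsSolvable (G ⧸ N) := inferInstance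
  obtain ⟨A, hAn, hA1, hAc⟩ := exists_abelian_normal (G := G ⧸ N)
  have hle : A ≤ Cfsg.fittingSubgroup (G ⧸ N) :=
    Cfsg.Agent.Lib.Helper1.le_fittingSubgroup hAn (isNilpotent_of_comm A hAc)
  intro hb
  rw [hb, le_bot_iff] at hle
  exact hA1 hle

theorem TSSetup.fitting_coprime (h : TSSetup N p) :
    (Nat.card (Cfsg.fittingSubgroup (G ⧸ N))).Coprime p := by
  have hp : Fact p.Prime := ⟨h.prime⟩
  rw [Nat.coprime_comm, Nat.Prime.coprime_iff_not_dvd h.prime]
  intro hdvd
  have hFn : (Cfsg.fittingSubgroup (G ⧸ N)).Normal := Cfsg.Agent.Lib.Helper1.fittingSubgroup_normal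
  have hFnil : Group.IsNilpotent (Cfsg.fittingSubgroup (G ⧸ N)) :=
    Cfsg.Agent.Lib.Helper1.fittingSubgroup_nilpotent
  let S0 : Sylow p (Cfsg.fittingSubgroup (G ⧸ N)) := default
  have hS0n : (S0 : Subgroup (Cfsg.fittingSubgroup (G ⧸ N))).Normal := inferInstance
  have hS0c : (S0 : Subgroup (Cfsg.fittingSubgroup (G ⧸ N))).Characteristic :=
    Sylow.characteristic_of_normal S0 hS0n
  have hSn : ((S0 : Subgroup (Cfsg.fittingSubgroup (G ⧸ N))).map
      (Cfsg.fittingSubgroup (G ⧸ N)).subtype).Normal := inferInstance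
  have hSp : IsPGroup p ((S0 : Subgroup (Cfsg.fittingSubgroup (G ⧸ N))).map
      (Cfsg.fittingSubgroup (G ⧸ N)).subtype) := S0.isPGroup'.map _
  have h1 := h.quot_no_normal_p _ hSn hSp
  have h2 : (S0 : Subgroup (Cfsg.fittingSubgroup (G ⧸ N))) ≠ ⊥ := Sylow.ne_bot_of_dvd_card S0 hdvd
  apply h2
  rw [eq_bot_iff]
  intro x hx
  have : (x : G ⧸ N) ∈ (S0 : Subgroup (Cfsg.fittingSubgroup (G ⧸ N))).map
      (Cfsg.fittingSubgroup (G ⧸ N)).subtype := ⟨x, hx, rfl⟩
  rw [h1, Subgroup.mem_bot] at this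
  rw [Subgroup.mem_bot]
  exact Subtype.ext this

/-- a normal subgroup of the quotient centralized... : elements commuting with a nontrivial
normal subgroup lie in the Fitting subgroup -/
theorem TSSetup.mem_fitting_of_centralizes (h : TSSetup N p) (S : Subgroup (G ⧸ N)) [S.Normal]
    (hS1 : S ≠ ⊥) (y : G ⧸ N) (hy : ∀ s ∈ S, y * s = s * y) :
    y ∈ Cfsg.fittingSubgroup (G ⧸ N) := by
  obtain ⟨s0, hs0, hs01⟩ := (Subgroup.bot_or_exists_ne_one S).resolve_left hS1
  have hCn : (Subgroup.centralizer (S : Set (G ⧸ N))).Normal := inferInstance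
  have hle : Subgroup.centralizer (S : Set (G ⧸ N)) ≤ Subgroup.centralizer ({s0} : Set (G ⧸ N)) :=
    Subgroup.centralizer_le (by simpa using hs0)
  have hnil : Group.IsNilpotent (Subgroup.centralizer (S : Set (G ⧸ N))) :=
    isNilpotent_of_le' hle (h.quot_cn s0 hs01)
  apply Cfsg.Agent.Lib.Helper1.le_fittingSubgroup hCn hnil
  rw [Subgroup.mem_centralizer_iff]
  intro s hs
  exact (hy s hs).symm

/-- in the quotient, every element of prime power order for a prime `q ≠ p` lies in the Fitting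
subgroup -/
theorem TSSetup.mem_fitting_of_prime_pow (h : TSSetup N p) (q : ℕ) (hq : q.Prime) (hqp : q ≠ p)
    (y : G ⧸ N) (hy : ∃ j : ℕ, y ^ q ^ j = 1) : y ∈ Cfsg.fittingSubgroup (G ⧸ N) := by
  have hp : Fact p.Prime := ⟨h.prime⟩
  have : Fact q.Prime := ⟨hq⟩
  set F := Cfsg.fittingSubgroup (G ⧸ N) with hF
  have hFn : F.Normal := Cfsg.Agent.Lib.Helper1.fittingSubgroup_normal
  have hFnil : Group.IsNilpotent F := Cfsg.Agent.Lib.Helper1.fittingSubgroup_nilpotent
  have hF1 : F ≠ ⊥ := h.fitting_ne_bot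
  have hFc : (Nat.card F).Coprime p := h.fitting_coprime
  obtain ⟨j, hj⟩ := hy
  set Lb : Subgroup (G ⧸ N) := Subgroup.zpowers y ⊔ F with hLb
  have hFL : F ≤ Lb := le_sup_right
  have hyL : y ∈ Lb := (le_sup_left : Subgroup.zpowers y ≤ Lb) (Subgroup.mem_zpowers y)
  have hLc : (Nat.card Lb).Coprime p := by
    have h1 : Nat.card Lb ∣ Nat.card (Subgroup.zpowers y) * Nat.card F :=
      Cfsg.Agent.Lib.Helper10.card_sup_dvd_mul _ _
    apply Nat.Coprime.of_dvd_left h1
    apply Nat.Coprime.mul_left _ hFc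
    rw [Nat.card_zpowers]
    apply Nat.Coprime.of_dvd_left (orderOf_dvd_of_pow_eq_one hj)
    exact Nat.Coprime.pow_left j ((Nat.coprime_primes hq h.prime).mpr hqp)
  have hLnil : Group.IsNilpotent Lb := h.quot_nilpotent_of_coprime Lb hLc
  by_cases hr : ∃ r : ℕ, r.Prime ∧ r ≠ q ∧ r ∣ Nat.card F
  · obtain ⟨r, hr, hrq, hrF⟩ := hr
    have : Fact r.Prime := ⟨hr⟩
    let S0 : Sylow r F := default
    have hS0n : (S0 : Subgroup F).Normal := inferInstance
    have hS0c : (S0 : Subgroup F).Characteristic := Sylow.characteristic_of_normal S0 hS0n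
    have hSn : ((S0 : Subgroup F).map F.subtype).Normal := inferInstance
    have hS1 : (S0 : Subgroup F).map F.subtype ≠ ⊥ := by
      intro hb
      apply Sylow.ne_bot_of_dvd_card S0 hrF
      rw [eq_bot_iff]
      intro x hx
      have : (x : G ⧸ N) ∈ (S0 : Subgroup F).map F.subtype := ⟨x, hx, rfl⟩
      rw [hb, Subgroup.mem_bot] at this
      rw [Subgroup.mem_bot]
      exact Subtype.ext this
    apply h.mem_fitting_of_centralizes ((S0 : Subgroup F).map F.subtype) hS1 y
    rintro _ ⟨s, hs, rfl⟩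
    have hsL : (s : G ⧸ N) ∈ Lb := hFL s.2
    have hc : Commute (⟨y, hyL⟩ : Lb) ⟨(s : G ⧸ N), hsL⟩ := by
      apply commute_of_coprime_orderOf
      rw [Subgroup.orderOf_mk, Subgroup.orderOf_mk]
      obtain ⟨k, hk⟩ := S0.isPGroup' ⟨s, hs⟩
      have hk' : (s : G ⧸ N) ^ r ^ k = 1 := by
        have := congrArg Subtype.val (congrArg Subtype.val hk)
        simpa using this
      apply Nat.Coprime.of_dvd (orderOf_dvd_of_pow_eq_one hj) (orderOf_dvd_of_pow_eq_one hk')
      apply Nat.Coprime.pow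
      exact (Nat.coprime_primes hq hr).mpr hrq.symm
    have := congrArg Subtype.val hc.eq
    simpa using this
  · push Not at hr
    have h1 : ∀ {d : ℕ}, d.Prime → d ∣ Nat.card F → d = q := by
      intro d hd hdn
      by_contra hne
      exact hr d hd hne hdn
    have h2 := Nat.eq_prime_pow_of_unique_prime_dvd Nat.card_pos.ne' h1
    have hFq : IsPGroup q F := IsPGroup.of_card h2
    -- a central element of order q
    have hF'n : (F.subgroupOf Lb).Normal := inferInstance
    have hF'1 : F.subgroupOf Lb ≠ ⊥ := by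
      intro hb
      apply hF1
      rw [eq_bot_iff]
      intro x hx
      have : (⟨x, hFL hx⟩ : Lb) ∈ F.subgroupOf Lb := Subgroup.mem_subgroupOf.mpr hx
      rw [hb, Subgroup.mem_bot] at this
      rw [Subgroup.mem_bot]
      exact congrArg Subtype.val this
    have hZ := Cfsg.Agent.Lib.Helper1.normal_inf_center_ne_bot (F.subgroupOf Lb) hF'1
    obtain ⟨⟨z0, hz0L⟩, ⟨hz0F, hz0c⟩, hz01⟩ := (Subgroup.bot_or_exists_ne_one _).resolve_left hZ
    have hz0F' : z0 ∈ F := Subgroup.mem_subgroupOf.mp hz0F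
    have hz01' : z0 ≠ 1 := fun h1 => hz01 (Subtype.ext h1)
    have hz0c' : ∀ w ∈ Lb, w * z0 = z0 * w := by
      intro w hw
      have := congrArg Subtype.val (Subgroup.mem_center_iff.mp hz0c ⟨w, hw⟩)
      simpa using this
    have hqz0 : q ∣ orderOf z0 := by
      obtain ⟨k, hk⟩ := hFq ⟨z0, hz0F'⟩
      have hk' : z0 ^ q ^ k = 1 := by simpa using congrArg Subtype.val hk
      obtain ⟨i, _, hi⟩ := (Nat.dvd_prime_pow hq).mp (orderOf_dvd_of_pow_eq_one hk')
      rw [hi]
      apply dvd_pow_self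
      intro h0
      rw [h0, pow_zero] at hi
      exact hz01' (orderOf_eq_one_iff.mp hi)
    set z := z0 ^ (orderOf z0 / q) with hzdef
    have hzo : orderOf z = q := orderOf_pow_orderOf_div (orderOf_pos z0).ne' hqz0
    have hz1 : z ≠ 1 := by
      intro h1
      rw [h1, orderOf_one] at hzo
      exact hq.one_lt.ne hzo
    have hzF : z ∈ F := F.pow_mem hz0F' _
    have hzc : ∀ w ∈ Lb, w * z = z * w := by
      intro w hw
      have hc : Commute w z0 := hz0c' w hw
      exact (hc.pow_right _).eq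
    -- zpowers z is normal
    have hZn : (Subgroup.zpowers z).Normal := by
      constructor
      intro w hw g
      obtain ⟨k, rfl⟩ := Subgroup.mem_zpowers_iff.mp hw
      have hconj : g * z * g⁻¹ ∈ Subgroup.zpowers z := by
        have hcF : g * z * g⁻¹ ∈ F := hFn.conj_mem z hzF g
        apply h.quot_mem_zpowers Lb hLc q hq.pos (g * z * g⁻¹) z (hFL hcF) (hFL hzF)
          (hzc _ (hFL hcF)) hzo
        rw [conj_pow, ← hzo, pow_orderOf_eq_one]; group
      have : g * z ^ k * g⁻¹ = (g * z * g⁻¹) ^ k := by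
        rw [conj_zpow]
      rw [this]
      exact Subgroup.zpow_mem _ hconj k
    have hZ1 : Subgroup.zpowers z ≠ ⊥ := by
      intro hb
      have : z ∈ Subgroup.zpowers z := Subgroup.mem_zpowers z
      rw [hb, Subgroup.mem_bot] at this
      exact hz1 this
    apply h.mem_fitting_of_centralizes (Subgroup.zpowers z) hZ1 y
    intro s hs
    obtain ⟨k, rfl⟩ := Subgroup.mem_zpowers_iff.mp hs
    have hc : Commute y z := hzc y hyL
    exact (hc.zpow_right k).eq

theorem TSSetup.mem_fitting_of_coprime (h : TSSetup N p) :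
    ∀ (n : ℕ) (y : G ⧸ N), orderOf y = n → (orderOf y).Coprime p →
      y ∈ Cfsg.fittingSubgroup (G ⧸ N) := by
  intro n
  induction n using Nat.strong_induction_on with
  | _ n ih =>
    intro y hyn hyp
    rcases eq_or_ne y 1 with rfl | hy1
    · exact Subgroup.one_mem _
    have ho1 : orderOf y ≠ 1 := fun h1 => hy1 (orderOf_eq_one_iff.mp h1)
    obtain ⟨t, ht, hty⟩ := Nat.exists_prime_and_dvd ho1
    obtain ⟨u, v, hu, hv, hyuv, huk, hvo⟩ := exists_p_parts t ht y (orderOf_pos y)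
    have htp : t ≠ p := by
      rintro rfl
      exact (Nat.Prime.coprime_iff_not_dvd ht).mp hyp.symm hty
    have hvdvd : orderOf v ∣ orderOf y := orderOf_dvd_of_mem_zpowers hv
    have hvlt : orderOf v < n := by
      rw [← hyn]
      apply lt_of_le_of_ne (Nat.le_of_dvd (orderOf_pos y) hvdvd)
      intro heq
      rw [heq] at hvo
      exact (Nat.Prime.coprime_iff_not_dvd ht).mp hvo.symm hty
    have hvF := ih (orderOf v) hvlt v rfl (Nat.Coprime.of_dvd_left hvdvd hyp)
    have huF := h.mem_fitting_of_prime_pow t ht htp u huk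
    rw [hyuv]
    exact Subgroup.mul_mem _ huF hvF

theorem TSSetup.fitting_index (h : TSSetup N p) :
    ∃ n : ℕ, (Cfsg.fittingSubgroup (G ⧸ N)).index = p ^ n := by
  have huniq : ∀ {d : ℕ}, d.Prime → d ∣ (Cfsg.fittingSubgroup (G ⧸ N)).index → d = p := by
    intro q hq hqd
    by_contra hqp
    have : Fact q.Prime := ⟨hq⟩
    let Q : Sylow q (G ⧸ N) := default
    have hQF : (Q : Subgroup (G ⧸ N)) ≤ Cfsg.fittingSubgroup (G ⧸ N) := by
      intro y hy
      apply h.mem_fitting_of_prime_pow q hq hqp y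
      obtain ⟨k, hk⟩ := Q.isPGroup' ⟨y, hy⟩
      exact ⟨k, by simpa using congrArg Subtype.val hk⟩
    exact Q.not_dvd_index (hqd.trans (Subgroup.index_dvd_of_le hQF))
  exact ⟨_, Nat.eq_prime_pow_of_unique_prime_dvd Subgroup.index_ne_zero_of_finite huniq⟩

/-- an involution acting without fixed points on an abelian normal subgroup inverts it -/
theorem involution_inverts (V : Subgroup G) [hVn : V.Normal]
    (hVc : ∀ a ∈ V, ∀ b ∈ V, a * b = b * a) (a : G) (ha : a * a = 1)
    (hfpf : ∀ u ∈ V, a * u = u * a → u = 1) : ∀ v ∈ V, a * v * a⁻¹ = v⁻¹ := by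
  intro v hv
  have hav : a * v * a⁻¹ ∈ V := hVn.conj_mem v hv a
  have hainv : a⁻¹ = a := inv_eq_of_mul_eq_one_left ha
  set b := a * v * a⁻¹ with hbdef
  have hb : a * v = b * a := by rw [hbdef]; group
  have hab : a * b = v * a := by
    calc a * b = a * a * v * a⁻¹ := by rw [hbdef]; group
      _ = v * a⁻¹ := by rw [ha, one_mul]
      _ = v * a := by rw [hainv]
  have hw : v * b = 1 := by
    apply hfpf _ (V.mul_mem hv hav)
    calc a * (v * b) = (a * v) * b := by group
      _ = b * a * b := by rw [hb]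
      _ = b * (a * b) := by group
      _ = b * (v * a) := by rw [hab]
      _ = (b * v) * a := by group
      _ = (v * b) * a := by rw [hVc b hav v hv]
  exact eq_inv_of_mul_eq_one_right hw

theorem TSSetup.three_step (h : TSSetup N p) :
    ∃ A : Subgroup G, A ≠ ⊥ ∧ IsCyclic A ∧ Odd (Nat.card A) ∧ (Nat.card A).Coprime p ∧
      (N ⊔ A).Normal ∧ N ⊔ A ≠ ⊤ ∧ (∃ n : ℕ, (N ⊔ A).index = p ^ n) ∧
      (∀ a ∈ A, a ≠ 1 → N ⊓ Subgroup.centralizer ({a} : Set G) = ⊥) ∧
      ∀ x : G, x ∉ N ⊔ A → ∀ a ∈ A, a ≠ 1 → x * a * x⁻¹ * a⁻¹ ∉ N := by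
  have hp : Fact p.Prime := ⟨h.prime⟩
  set F := Cfsg.fittingSubgroup (G ⧸ N) with hF
  have hFn : F.Normal := Cfsg.Agent.Lib.Helper1.fittingSubgroup_normal
  have hF1 : F ≠ ⊥ := h.fitting_ne_bot
  have hFc : (Nat.card F).Coprime p := h.fitting_coprime
  obtain ⟨A, hmap, hdisj⟩ := exists_lift_subgroup N p h.pgroup F hFc
  have hAcard : Nat.card A = Nat.card F := h.card_lift F A hmap hdisj
  have hAc : (Nat.card A).Coprime p := by rw [hAcard]; exact hFc
  have hA1 : A ≠ ⊥ := by
    intro hb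
    apply hF1
    rw [← hmap, hb, Subgroup.map_bot]
  have hmemF : ∀ a ∈ A, (a : G ⧸ N) ∈ F := by
    intro a ha
    rw [← hmap]
    exact ⟨a, ha, rfl⟩
  have hsup : N ⊔ A = F.comap (QuotientGroup.mk' N) := by
    apply le_antisymm
    · apply sup_le
      · intro n hn
        rw [Subgroup.mem_comap, QuotientGroup.mk'_apply, (QuotientGroup.eq_one_iff n).mpr hn]
        exact F.one_mem
      · intro a ha
        rw [Subgroup.mem_comap]
        exact hmemF a ha
    · intro x hx
      rw [Subgroup.mem_comap, ← hmap] at hx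
      obtain ⟨a, ha, hax⟩ := hx
      simp only [QuotientGroup.mk'_apply] at hax
      have hmem : a⁻¹ * x ∈ N := by
        rw [← QuotientGroup.eq_one_iff, QuotientGroup.mk_mul, QuotientGroup.mk_inv, hax,
          inv_mul_cancel]
      have e : x = a * (a⁻¹ * x) := by group
      rw [e]
      exact Subgroup.mul_mem _ (Subgroup.mem_sup_right ha) (Subgroup.mem_sup_left hmem)
  have hAnil : Group.IsNilpotent A := h.nilpotent_of_coprime A hAc
  have hAfpf := h.fpf_inf A hAc
  have hV1 : centerMap N ≠ ⊥ := centerMap_ne_bot N p h.pgroup h.ne_bot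
  have hVc : IsMulCommutative (centerMap N) :=
    ⟨⟨fun a b => Subtype.ext (centerMap_comm N a a.2 b b.2)⟩⟩
  have hord : ∀ a ∈ A, (orderOf a).Coprime p := fun a ha =>
    Nat.Coprime.of_dvd_left (Subgroup.orderOf_dvd_natCard A ha) hAc
  have hordb : ∀ a ∈ A, (orderOf (a : G ⧸ N)).Coprime p := fun a ha =>
    Nat.Coprime.of_dvd_left (orderOf_map_dvd (QuotientGroup.mk' N) a) (hord a ha)
  have hne1 : ∀ a ∈ A, a ≠ 1 → (a : G ⧸ N) ≠ 1 := by
    intro a ha ha1 hb
    exact ha1 (hdisj a ha ((QuotientGroup.eq_one_iff a).mp hb))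
  obtain ⟨x0, hx0N, k0, hx0p⟩ := h.not_sylow
  have hx0b1 : (x0 : G ⧸ N) ≠ 1 := fun hb => hx0N ((QuotientGroup.eq_one_iff x0).mp hb)
  have hx0bp : ∃ i : ℕ, (x0 : G ⧸ N) ^ p ^ i = 1 :=
    ⟨k0, by rw [← QuotientGroup.mk_pow, hx0p]; rfl⟩
  -- oddness
  have hodd : Odd (Nat.card A) := by
    by_contra hne
    rw [Nat.not_odd_iff_even, even_iff_two_dvd] at hne
    have : Fact (Nat.Prime 2) := ⟨Nat.prime_two⟩
    obtain ⟨⟨a, haA⟩, hao⟩ := exists_prime_orderOf_dvd_card' 2 hne
    rw [Subgroup.orderOf_mk] at hao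
    have ha1 : a ≠ 1 := by
      intro h1
      rw [h1, orderOf_one] at hao
      exact absurd hao (by norm_num)
    have haa : a * a = 1 := by rw [← pow_two, ← hao, pow_orderOf_eq_one]
    have hfpfV : ∀ c ∈ A, c ≠ 1 → ∀ u ∈ centerMap N, c * u = u * c → u = 1 := by
      intro c hc hc1 u hu hcu
      exact h.fpf c hc1 (hord c hc) u (centerMap_le N hu) hcu
    have hcentral : ∀ g : G ⧸ N, g * (a : G ⧸ N) = (a : G ⧸ N) * g := by
      intro g
      have hbF : g * (a : G ⧸ N) * g⁻¹ ∈ F := hFn.conj_mem _ (hmemF a haA) g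
      rw [← hmap] at hbF
      obtain ⟨b, hbA, hb⟩ := hbF
      simp only [QuotientGroup.mk'_apply] at hb
      have hbb : b * b = 1 := by
        apply hdisj _ (A.mul_mem hbA hbA)
        rw [← QuotientGroup.eq_one_iff, QuotientGroup.mk_mul, hb]
        have : g * (a : G ⧸ N) * g⁻¹ * (g * (a : G ⧸ N) * g⁻¹) =
            g * ((a : G ⧸ N) * (a : G ⧸ N)) * g⁻¹ := by group
        rw [this, ← QuotientGroup.mk_mul, haa]
        simp
      have hb1 : b ≠ 1 := by
        intro h1
        rw [h1] at hb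
        have : (a : G ⧸ N) = 1 := by
          have h2 : g⁻¹ * (g * (a : G ⧸ N) * g⁻¹) * g = (a : G ⧸ N) := by group
          rw [← h2, ← hb]
          simp
        exact hne1 a haA ha1 this
      have hinva := involution_inverts (centerMap N) (centerMap_comm N) a haa (hfpfV a haA ha1)
      have hinvb := involution_inverts (centerMap N) (centerMap_comm N) b hbb (hfpfV b hbA hb1)
      have hab1 : a * b = 1 := by
        by_contra hab
        apply hV1
        rw [eq_bot_iff]
        intro v hv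
        rw [Subgroup.mem_bot]
        apply hfpfV (a * b) (A.mul_mem haA hbA) hab v hv
        have h1 : (a * b) * v * (a * b)⁻¹ = v := by
          calc (a * b) * v * (a * b)⁻¹ = a * (b * v * b⁻¹) * a⁻¹ := by group
            _ = a * v⁻¹ * a⁻¹ := by rw [hinvb v hv]
            _ = v := by rw [hinva v⁻¹ ((centerMap N).inv_mem hv), inv_inv]
        calc (a * b) * v = ((a * b) * v * (a * b)⁻¹) * (a * b) := by group
          _ = v * (a * b) := by rw [h1]
      have hba : b = a := by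
        have h1 : b = a⁻¹ := by
          have := congrArg (fun t => a⁻¹ * t) hab1
          simpa using this
        rw [h1]
        exact inv_eq_of_mul_eq_one_left haa
      rw [hba] at hb
      calc g * (a : G ⧸ N) = (g * (a : G ⧸ N) * g⁻¹) * g := by group
        _ = (a : G ⧸ N) * g := by rw [← hb]
    exact h.quot_not_commute (x0 : G ⧸ N) (a : G ⧸ N) hx0b1 hx0bp (hne1 a haA ha1) (hordb a haA)
      (hcentral _).symm
  -- cyclicity
  have hcyc : IsCyclic A := by
    have hZ : IsZGroup A := ⟨fun r hr R => by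
      have : Fact r.Prime := ⟨hr⟩
      by_cases hr2 : r = 2
      · subst hr2
        obtain ⟨k, hk⟩ := (IsPGroup.iff_card).mp R.isPGroup'
        have h1 : Nat.card R ∣ Nat.card A := Subgroup.card_subgroup_dvd_card _
        have hk0 : k = 0 := by
          by_contra hk0
          have : 2 ∣ Nat.card A := (dvd_pow_self 2 hk0).trans (hk ▸ h1)
          exact (Nat.not_even_iff_odd.mpr hodd) (even_iff_two_dvd.mpr this)
        rw [hk0, pow_zero] at hk
        have := (Nat.card_eq_one_iff_unique.mp hk).1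
        exact isCyclic_of_subsingleton
      · apply Cfsg.Agent.Lib.Helper1.isCyclic_of_map_subtype A (R : Subgroup A)
        have hle : (R : Subgroup A).map A.subtype ≤ A := by
          rintro _ ⟨x, _, rfl⟩
          exact x.2
        refine Cfsg.Agent.Lib.Helper1.isCyclic_pgroup_of_fpf _ (centerMap N) hV1 ?_
          (fun a ha => hAfpf a (hle ha)) r hr2 (R.isPGroup'.map _)
        intro l _
        exact mem_normalizer_of_normal _ l⟩
    infer_instance
  have hnorm : (N ⊔ A).Normal := by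
    rw [hsup]
    exact hFn.comap _
  have hne_top : N ⊔ A ≠ ⊤ := by
    intro ht
    have hx0 : x0 ∈ N ⊔ A := by rw [ht]; trivial
    rw [hsup, Subgroup.mem_comap, QuotientGroup.mk'_apply] at hx0
    obtain ⟨i, hi⟩ := hx0bp
    have h1 : orderOf (x0 : G ⧸ N) ∣ p ^ i := orderOf_dvd_of_pow_eq_one hi
    have h2 : orderOf (x0 : G ⧸ N) ∣ Nat.card F := Subgroup.orderOf_dvd_natCard F hx0
    have h3 : orderOf (x0 : G ⧸ N) ∣ 1 := by
      have := Nat.dvd_gcd h2 h1
      rwa [Nat.Coprime.pow_right i hFc] at this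
    exact hx0b1 (orderOf_eq_one_iff.mp (Nat.dvd_one.mp h3))
  have hidx : ∃ n : ℕ, (N ⊔ A).index = p ^ n := by
    obtain ⟨n, hn⟩ := h.fitting_index
    refine ⟨n, ?_⟩
    rw [hsup, Subgroup.index_comap_of_surjective _ (QuotientGroup.mk'_surjective N)]
    exact hn
  have hfpfN : ∀ a ∈ A, a ≠ 1 → N ⊓ Subgroup.centralizer ({a} : Set G) = ⊥ := by
    intro a ha ha1
    rw [eq_bot_iff]
    rintro u ⟨hu, huc⟩
    rw [Subgroup.mem_bot]
    have huc' : u ∈ Subgroup.centralizer ({a} : Set G) := huc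
    rw [mem_centralizer_singleton_iff] at huc'
    exact h.fpf a ha1 (hord a ha) u hu huc'.symm
  refine ⟨A, hA1, hcyc, hodd, hAc, hnorm, hne_top, hidx, hfpfN, ?_⟩
  intro x hx a ha ha1 hmem
  have hxF : (x : G ⧸ N) ∉ F := by
    intro hh
    apply hx
    rw [hsup]
    exact hh
  have hcomm : (a : G ⧸ N) * (x : G ⧸ N) = (x : G ⧸ N) * (a : G ⧸ N) := by
    have h1 := (QuotientGroup.eq_one_iff _).mpr hmem
    simp only [QuotientGroup.mk_mul, QuotientGroup.mk_inv] at h1
    have : (x : G ⧸ N) * (a : G ⧸ N) =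
        ((x : G ⧸ N) * (a : G ⧸ N) * (x : G ⧸ N)⁻¹ * (a : G ⧸ N)⁻¹) * ((a : G ⧸ N) * (x : G ⧸ N)) := by
      group
    rw [this, h1, one_mul]
  obtain ⟨u, v, hu, hv, hxuv, huk, hvo⟩ := exists_p_parts p h.prime (x : G ⧸ N) (orderOf_pos _)
  have hvF : v ∈ F := h.mem_fitting_of_coprime _ v rfl hvo
  have hu1 : u ≠ 1 := by
    rintro rfl
    apply hxF
    rw [hxuv, one_mul]
    exact hvF
  obtain ⟨m, hm⟩ := Subgroup.mem_zpowers_iff.mp hu
  have hcu : (a : G ⧸ N) * u = u * (a : G ⧸ N) := by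
    rw [← hm]
    have hc : Commute (a : G ⧸ N) (x : G ⧸ N) := hcomm
    exact (hc.zpow_right m).eq
  exact h.quot_not_commute u (a : G ⧸ N) hu1 huk (hne1 a ha ha1) (hordb a ha) hcu

/-- the trichotomy for finite solvable CN-groups -/
theorem solvable_cn_trichotomy [Group.IsSolvable G]
    (hCN : ∀ g : G, g ≠ 1 → Group.IsNilpotent (Subgroup.centralizer ({g} : Set G))) :
    Group.IsNilpotent G ∨
      (∃ K E : Subgroup G, K.Normal ∧ Subgroup.IsComplement' K E ∧ Cfsg.IsFrobeniusComplement E ∧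
        (IsCyclic E ∨ ∃ C Q : Subgroup G, C ⊔ Q = E ∧ (∀ a ∈ C, ∀ b ∈ Q, a * b = b * a) ∧
          IsCyclic C ∧ Odd (Nat.card C) ∧
          ∃ n : ℕ, Nonempty (↥Q ≃* QuaternionGroup (2 ^ n)))) ∨
      ∃ p : ℕ, p.Prime ∧ Cfsg.IsThreeStepGroup p G := by
  by_cases hnil : Group.IsNilpotent G
  · exact Or.inl hnil
  right
  by_cases hNS : ∃ (r : ℕ) (_ : Fact r.Prime) (R : Sylow r G),
      (R : Subgroup G).Normal ∧ (R : Subgroup G) ≠ ⊥
  · left
    obtain ⟨r, hr, R, hRn, hR1⟩ := hNS
    obtain ⟨hF1, hF2, ⟨E, hE, hFrob, hfpf⟩, hquot⟩ :=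
      cn_normal_sylow_structure hCN hnil r R hR1 hRn
    have hEnil : Group.IsNilpotent E :=
      (Group.isNilpotent_congr hE.symm.QuotientMulEquiv).mp hquot
    exact ⟨Cfsg.fittingHall G, E, inferInstance, hE, hFrob,
      nilpotent_frobenius_complement_structure _ E hE hF1 hfpf hEnil⟩
  · right
    push Not at hNS
    have hnt : Nontrivial G := by
      by_contra hnt
      rw [not_nontrivial_iff_subsingleton] at hnt
      exact hnil inferInstance
    obtain ⟨A, hAn, hA1, hAc⟩ := exists_abelian_normal (G := G)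
    have hcard : Nat.card A ≠ 1 := fun h1 => hA1 (Subgroup.eq_bot_of_card_eq A h1)
    obtain ⟨p, hp, hpA⟩ := Nat.exists_prime_and_dvd hcard
    have : Fact p.Prime := ⟨hp⟩
    have hPn : (Cfsg.pCore p G).Normal := Cfsg.Agent.Lib.Helper18.pCore_normal_h18 p G
    have hPp : IsPGroup p (Cfsg.pCore p G) := Cfsg.Agent.Lib.Helper18.pCore_isPGroup p G
    have hcore : Cfsg.pCore p G ≠ ⊥ := by
      have h1 : pPart A hAc p ≤ Cfsg.pCore p G :=
        Cfsg.Agent.Lib.Helper18.le_pCore (pPart_normal A hAc p) (pPart_isPGroup A hAc p)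
      intro hb
      rw [hb, le_bot_iff] at h1
      exact pPart_ne_bot A hAc p hpA h1
    have hNN : NoNormalSylow G p :=
      ⟨hCN, hp, hcore, fun r hr R hRn => hNS r hr R hRn⟩
    have hsetup : TSSetup (Cfsg.pCore p G) p := by
      refine ⟨hCN, hp, hPp, hcore, fun M hMn hMp => Cfsg.Agent.Lib.Helper18.le_pCore hMn hMp,
        fun x hx1 hxp u hu hxu => hNN.fpf x hx1 hxp u hu hxu, ?_, inferInstance⟩
      let P : Sylow p G := default
      have hle : Cfsg.pCore p G ≤ (P : Subgroup G) := Cfsg.Agent.Lib.Helper1.pCore_le_sylow p P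
      by_contra hcon
      push Not at hcon
      have heq : (P : Subgroup G) = Cfsg.pCore p G := by
        apply le_antisymm _ hle
        intro x hx
        by_contra hxN
        obtain ⟨k, hk⟩ := P.isPGroup' ⟨x, hx⟩
        exact hcon x hxN k (by simpa using congrArg Subtype.val hk)
      have hPnorm : (P : Subgroup G).Normal := by rw [heq]; exact hPn
      have := hNN.nns p P hPnorm
      rw [heq] at this
      exact hcore this
    obtain ⟨B, hB⟩ := hsetup.three_step
    exact ⟨p, hp, hcore, B, hB⟩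

end

end Cfsg.Agent.Lib.Helper11
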