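import Mathlib
import Cfsg.Agent.Lib.Helper11.CNSolvable
import Cfsg.Agent.Lib.Helper11.FrobKernelNil
import Cfsg.Agent.Lib.Helper11.CNQuot
import Cfsg.Prelude.Def_Transfer

/-!
Solvable CN-groups with trivial `p'`-core and no quotient of order `p` have a normal Sylow
`p`-subgroup.
-/

set_option autoImplicit false

namespace Cfsg.Agent.Lib.Helper11.CNSimpleD

open Cfsg.Agent.Lib.Helper11
open scoped Pointwise

section sub

variable {G : Type*} [Group G]

/-- subgroups of CN-groups are CN-groups -/
theorem cn_subgroup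
    (hCN : ∀ g : G, g ≠ 1 → Group.IsNilpotent (Subgroup.centralizer ({g} : Set G)))
    (M : Subgroup G) :
    ∀ g : M, g ≠ 1 → Group.IsNilpotent (Subgroup.centralizer ({g} : Set M)) := by
  intro g hg
  have hg' : (g : G) ≠ 1 := fun h => hg (Subtype.ext h)
  have hle : (Subgroup.centralizer ({g} : Set M)).map M.subtype ≤
      Subgroup.centralizer ({(g : G)} : Set G) := by
    rintro _ ⟨x, hx, rfl⟩
    rw [SetLike.mem_coe, Subgroup.mem_centralizer_iff] at hx
    rw [Subgroup.mem_centralizer_iff]
    intro y hy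
    rw [Set.mem_singleton_iff] at hy
    rw [hy]
    exact congrArg Subtype.val (hx g (Set.mem_singleton g))
  have h1 := isNilpotent_of_le' hle (hCN _ hg')
  exact (Group.isNilpotent_congr
    (Subgroup.equivMapOfInjective _ M.subtype M.subtype_injective)).mpr h1

end sub

variable {M : Type*} [Group M] [Finite M]

/-- a normal nilpotent subgroup of a group with trivial `p'`-core is a `p`-group -/
theorem isPGroup_of_normal_nilpotent {p : ℕ} [hp : Fact p.Prime]
    (h0 : Cfsg.pPrimeCore p M = ⊥) (K : Subgroup M) [hKn : K.Normal]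
    (hK : Group.IsNilpotent K) : IsPGroup p K := by
  have h1 : ∀ {r : ℕ}, r.Prime → r ∣ Nat.card K → r = p := by
    intro r hr hrK
    by_contra hrp
    have : Fact r.Prime := ⟨hr⟩
    let R : Sylow r K := default
    have hR1 : (R : Subgroup K) ≠ ⊥ := Sylow.ne_bot_of_dvd_card R hrK
    have hRn : (R : Subgroup K).Normal := inferInstance
    have hRc : (R : Subgroup K).Characteristic := Sylow.characteristic_of_normal R hRn
    have hWn : ((R : Subgroup K).map K.subtype).Normal :=
      ConjAct.normal_of_characteristic_of_normal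
    have hWc : (Nat.card ((R : Subgroup K).map K.subtype)).Coprime p := by
      rw [Subgroup.card_map_of_injective K.subtype_injective]
      obtain ⟨k, hk⟩ := (IsPGroup.iff_card).mp R.isPGroup'
      rw [hk]
      apply Nat.Coprime.pow_left
      exact (Nat.coprime_primes hr hp.out).mpr hrp
    have hle := Cfsg.Agent.Lib.Helper1.le_pPrimeCore hWn hWc
    rw [h0, le_bot_iff, Subgroup.map_eq_bot_iff_of_injective _ K.subtype_injective] at hle
    exact hR1 hle
  have h2 := Nat.eq_prime_pow_of_unique_prime_dvd Nat.card_pos.ne' h1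
  exact IsPGroup.of_card h2

/-- a group generated by its `p'`-elements and commutators has no normal subgroup of index a
nontrivial power of `p` -/
theorem no_p_quotient {p : ℕ} [hp : Fact p.Prime]
    (hres : Cfsg.pResidual p M ⊔ commutator M = ⊤) (L : Subgroup M) [L.Normal] (hL : L ≠ ⊤)
    (n : ℕ) (hidx : L.index = p ^ n) : False := by
  have hQp : IsPGroup p (M ⧸ L) := by
    apply IsPGroup.of_card (n := n)
    rw [← Subgroup.index_eq_card, hidx]
  have hQnil : Group.IsNilpotent (M ⧸ L) := hQp.isNilpotent
  have hQnt : Nontrivial (M ⧸ L) := by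
    rw [← Finite.one_lt_card_iff_nontrivial, ← Subgroup.index_eq_card]
    have h1 : L.index ≠ 1 := fun h => hL (Subgroup.index_eq_one.mp h)
    have h2 : L.index ≠ 0 := Subgroup.index_ne_zero_of_finite
    omega
  have hres_le : Cfsg.pResidual p M ≤ L := by
    unfold Cfsg.pResidual
    rw [Subgroup.closure_le]
    intro g hg
    rw [Set.mem_ofPred_eq] at hg
    rw [SetLike.mem_coe, ← QuotientGroup.eq_one_iff]
    obtain ⟨k, hk⟩ := hQp (g : M ⧸ L)
    have h1 : orderOf (g : M ⧸ L) ∣ orderOf g := by
      apply orderOf_dvd_of_pow_eq_one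
      rw [← QuotientGroup.mk_pow, pow_orderOf_eq_one]
      rfl
    have h2 : orderOf (g : M ⧸ L) ∣ p ^ k := orderOf_dvd_of_pow_eq_one hk
    have h3 : orderOf (g : M ⧸ L) = 1 :=
      Nat.eq_one_of_dvd_coprimes (Nat.Coprime.pow_right k hg) h1 h2
    exact orderOf_eq_one_iff.mp h3
  have h4 : (commutator M).map (QuotientGroup.mk' L) = ⊤ := by
    have h5 : (Cfsg.pResidual p M ⊔ commutator M).map (QuotientGroup.mk' L) = ⊤ := by
      rw [hres]
      exact Subgroup.map_top_of_surjective _ (QuotientGroup.mk'_surjective L)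
    rw [Subgroup.map_sup] at h5
    have h6 : (Cfsg.pResidual p M).map (QuotientGroup.mk' L) = ⊥ := by
      rw [Subgroup.map_eq_bot_iff, QuotientGroup.ker_mk']
      exact hres_le
    rw [h6, bot_sup_eq] at h5
    exact h5
  have h7 : commutator (M ⧸ L) = ⊤ := by
    have e : (commutator M).map (QuotientGroup.mk' L) = commutator (M ⧸ L) := by
      rw [commutator_def, Subgroup.map_commutator,
        Subgroup.map_top_of_surjective _ (QuotientGroup.mk'_surjective L), commutator_def]
    rw [← e]
    exact h4
  have h8 := Group.IsSolvable.commutator_lt_top_of_nontrivial (M ⧸ L)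
  rw [h7] at h8
  exact lt_irrefl _ h8

/-- a solvable CN-group with trivial `p'`-core that is generated by its `p'`-elements and
commutators has a normal Sylow `p`-subgroup -/
theorem sylow_normal_of_residual [Group.IsSolvable M] {p : ℕ} [hp : Fact p.Prime]
    (hCN : ∀ g : M, g ≠ 1 → Group.IsNilpotent (Subgroup.centralizer ({g} : Set M)))
    (h0 : Cfsg.pPrimeCore p M = ⊥)
    (hres : Cfsg.pResidual p M ⊔ commutator M = ⊤) (P : Sylow p M) :
    (P : Subgroup M).Normal := by
  rcases solvable_cn_trichotomy hCN with hnil | ⟨K, E, hKn, hKE, hE, -⟩ | ⟨r, hr, h3⟩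
  · infer_instance
  · obtain ⟨hE1, hE2, hEti⟩ := hE
    have hdisj : ∀ x, x ∈ K → x ∈ E → x = 1 := fun x h1 h2 =>
      Subgroup.disjoint_def.mp hKE.disjoint h1 h2
    have hfpf : ∀ e ∈ E, e ≠ 1 → ∀ u ∈ K, e * u = u * e → u = 1 := by
      intro e he he1 u hu heu
      by_contra hu1
      have huE : u ∉ E := fun h => hu1 (hdisj u hu h)
      have h1 := hEti u huE
      have h2 : e ∈ E ⊓ (MulAut.conj u • E) := by
        refine ⟨he, ?_⟩
        change e ∈ MulAut.conj u • E
        rw [Subgroup.mem_pointwise_smul_iff_inv_smul_mem, MulAut.smul_def,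
          MulAut.conj_inv_apply]
        have : u⁻¹ * e * u = e := by
          rw [mul_assoc, heu, ← mul_assoc, inv_mul_cancel, one_mul]
        rw [this]
        exact he
      rw [h1] at h2
      exact he1 (Subgroup.mem_bot.mp h2)
    have hEN : E ≤ Subgroup.normalizer (K : Set M) := by
      rw [Subgroup.normalizer_eq_top]
      exact le_top
    have hKnil : Group.IsNilpotent K :=
      Cfsg.Agent.Lib.Helper11.FrobKernelNil.kernel_nilpotent K E hE1 hEN hfpf
    have hKp : IsPGroup p K := isPGroup_of_normal_nilpotent h0 K hKnil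
    have hK1 : K ≠ ⊥ := by
      intro h
      rw [h] at hKE
      exact hE2 (Subgroup.isComplement'_bot_left.1 hKE)
    have hidx : ¬ p ∣ K.index := by
      rw [hKE.symm.index_eq_card]
      intro hpE
      obtain ⟨e, he⟩ := exists_prime_orderOf_dvd_card' (G := E) p hpE
      have he1 : (e : M) ≠ 1 := by
        intro h
        have : e = 1 := Subtype.ext h
        rw [this, orderOf_one] at he
        exact hp.out.ne_one he.symm
      have hep : (e : M) ^ p ^ 1 = 1 := by
        rw [pow_one, ← he, ← Subgroup.orderOf_coe]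
        exact pow_orderOf_eq_one _
      have heN : (e : M) ∈ Subgroup.normalizer (K : Set M) := hEN e.2
      obtain ⟨v, hv, hv1, hev⟩ := exists_fixed_in_pgroup K p hKp hK1 (e : M) ⟨1, hep⟩ heN
      exact hv1 (hfpf e e.2 he1 v hv hev)
    obtain ⟨g, hg⟩ := MulAction.exists_smul_eq M (hKp.toSylow hidx) P
    have hn : ((hKp.toSylow hidx : Sylow p M) : Subgroup M).Normal := by
      rw [IsPGroup.toSylow_coe]
      exact hKn
    rw [← hg, Sylow.smul_eq_of_normal]
    exact hn
  · exfalso
    obtain ⟨hcore, A, -, -, -, -, hLn, hLtop, ⟨n, hn⟩, -, -⟩ := h3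
    have hrp : r = p := by
      by_contra hne
      have : Fact r.Prime := ⟨hr⟩
      have hc : (Nat.card (Cfsg.pCore r M)).Coprime p := by
        obtain ⟨k, hk⟩ := (IsPGroup.iff_card).mp (Cfsg.Agent.Lib.Helper1.pCore_isPGroup (G := M) r)
        rw [hk]
        apply Nat.Coprime.pow_left
        exact (Nat.coprime_primes hr hp.out).mpr hne
      have h1 := Cfsg.Agent.Lib.Helper1.le_pPrimeCore
        (Cfsg.Agent.Lib.Helper1.pCore_normal (G := M) r) hc
      rw [h0, le_bot_iff] at h1
      exact hcore h1
    subst hrp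
    exact no_p_quotient hres _ hLtop n hn

end Cfsg.Agent.Lib.Helper11.CNSimpleD
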