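import Mathlib
import Cfsg.Agent.Lib.Helper11.CNSimpleC
import Cfsg.Agent.Lib.Helper11.CNSimpleD

/-!
Minimal simple CN-groups of odd order: Sylow subgroups for isolated primes are TI.
-/

set_option autoImplicit false
open scoped commutatorElement

namespace Cfsg.Agent.Lib.Helper11.CNSimpleE

open Cfsg.Agent.Lib.Helper11 Cfsg.Agent.Lib.Helper11.CNSimpleA Cfsg.Agent.Lib.Helper11.CNSimpleB
  Cfsg.Agent.Lib.Helper11.CNSimpleC Cfsg.Agent.Lib.Helper11.CNSimpleD

/-- the standing hypotheses: a minimal simple CN-group of odd order -/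
structure MinCN (G : Type*) [Group G] : Prop where
  odd : Odd (Nat.card G)
  cn : ∀ g : G, g ≠ 1 → Group.IsNilpotent (Subgroup.centralizer ({g} : Set G))
  simple : ∀ N : Subgroup G, N.Normal → N = ⊥ ∨ N = ⊤
  nonab : ¬ ∀ a b : G, a * b = b * a
  solv : ∀ H : Subgroup G, H ≠ ⊤ → Group.IsSolvable H

variable {G : Type*} [Group G] [Finite G]

theorem MinCN.not_solvable (h : MinCN G) : ¬ Group.IsSolvable G := by
  intro hs
  have hnt : Nontrivial G := by
    by_contra hnt
    rw [not_nontrivial_iff_subsingleton] at hnt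
    apply h.nonab
    intro a b
    exact Subsingleton.elim _ _
  have h1 := Group.IsSolvable.commutator_lt_top_of_nontrivial G
  rcases h.simple (commutator G) inferInstance with h2 | h2
  · apply h.nonab
    intro a b
    have h3 : ⁅a, b⁆ ∈ commutator G := by
      rw [commutator_def]
      exact Subgroup.commutator_mem_commutator (Subgroup.mem_top a) (Subgroup.mem_top b)
    rw [h2, Subgroup.mem_bot, commutatorElement_eq_one_iff_mul_comm] at h3
    exact h3
  · rw [h2] at h1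
    exact lt_irrefl _ h1

theorem MinCN.perfect (h : MinCN G) : commutator G = ⊤ := by
  rcases h.simple (commutator G) inferInstance with h2 | h2
  · exfalso
    apply h.nonab
    intro a b
    have h3 : ⁅a, b⁆ ∈ commutator G := by
      rw [commutator_def]
      exact Subgroup.commutator_mem_commutator (Subgroup.mem_top a) (Subgroup.mem_top b)
    rw [h2, Subgroup.mem_bot, commutatorElement_eq_one_iff_mul_comm] at h3
    exact h3
  · exact h2

/-- normalizers of nontrivial `p`-subgroups are proper, hence solvable -/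
theorem MinCN.solv_normalizer (h : MinCN G) {p : ℕ} [Fact p.Prime] (Q : Subgroup G)
    (hQ : IsPGroup p Q) (hQ1 : Q ≠ ⊥) :
    Group.IsSolvable ↥(Subgroup.normalizer (Q : Set G)) := by
  apply h.solv
  intro htop
  have hQn : Q.Normal := Subgroup.normalizer_eq_top_iff.mp htop
  rcases h.simple Q hQn with h1 | h1
  · exact hQ1 h1
  · apply h.not_solvable
    have h2 : IsPGroup p (⊤ : Subgroup G) := h1 ▸ hQ
    have h3 : Group.IsNilpotent (⊤ : Subgroup G) := h2.isNilpotent
    have h4 : Group.IsNilpotent G := (Group.isNilpotent_congr Subgroup.topEquiv).mp h3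
    infer_instance

theorem MinCN.two_lt (h : MinCN G) {p : ℕ} [hp : Fact p.Prime] (P : Sylow p G)
    (hP1 : (P : Subgroup G) ≠ ⊥) : p ≠ 2 := by
  intro h2
  have h1 : p ∣ Nat.card G := by
    have hnt : Nontrivial (P : Subgroup G) := (Subgroup.nontrivial_iff_ne_bot _).mpr hP1
    obtain ⟨n, hn0, hn⟩ := P.isPGroup'.nontrivial_iff_card.mp hnt
    have h3 : p ∣ Nat.card (P : Subgroup G) := by
      rw [hn]
      exact dvd_pow_self p hn0.ne'
    exact h3.trans (Subgroup.card_subgroup_dvd_card _)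
  rw [h2] at h1
  exact (Nat.not_even_iff_odd.2 h.odd) (even_iff_two_dvd.2 h1)

/-- for an isolated prime, the normalizer of `Z(J(P))` normalizes `P` -/
theorem MinCN.normalizer_ctA_le (h : MinCN G) {p : ℕ} [hp : Fact p.Prime] (hiso : PIso p G)
    (P : Sylow p G) (hP1 : (P : Subgroup G) ≠ ⊥) :
    Subgroup.normalizer (Cfsg.centerThompsonAOf (P : Subgroup G) : Set G) ≤
      Subgroup.normalizer ((P : Subgroup G) : Set G) := by
  have hp2 : p ≠ 2 := h.two_lt P hP1
  obtain ⟨Z, hZ⟩ : ∃ Z : Subgroup G, Z = Cfsg.centerThompsonAOf (P : Subgroup G) := ⟨_, rfl⟩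
  rw [← hZ]
  have hZP : Z ≤ (P : Subgroup G) := hZ ▸ Cfsg.Agent.Lib.Helper1.GNPC.ctA_le (P : Subgroup G)
  have hZp : IsPGroup p Z := P.isPGroup'.to_le hZP
  have hZ1 : Z ≠ ⊥ := hZ ▸ Cfsg.Agent.Lib.Helper1.GNPC.ctA_ne_bot P.isPGroup' hP1
  have hsolv := h.solv_normalizer Z hZp hZ1
  have hcn := cn_subgroup h.cn (Subgroup.normalizer (Z : Set G))
  have h0 := pPrimeCore_normalizer_eq_bot hiso Z hZp hZ1
  have hres := ctA_normalizer_residual h.odd hp2 h.perfect P
  rw [← hZ] at hres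
  have hPM : (P : Subgroup G) ≤ Subgroup.normalizer (Z : Set G) :=
    hZ ▸ sylow_le_normalizer_ctA P
  have hn := sylow_normal_of_residual hcn h0 hres (P.subtype hPM)
  rw [Sylow.coe_subtype] at hn
  exact (Subgroup.normal_subgroupOf_iff_le_normalizer hPM).mp hn

/-- a `p`-element normalizing a Sylow `p`-subgroup lies in it -/
theorem mem_sylow_of_mem_normalizer {p : ℕ} [hp : Fact p.Prime] (P : Sylow p G) (x : G)
    (hx : x ∈ Subgroup.normalizer ((P : Subgroup G) : Set G))
    (hxp : IsPGroup p (Subgroup.zpowers x)) : x ∈ (P : Subgroup G) := by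
  have h1 : IsPGroup p (Subgroup.zpowers x ⊔ (P : Subgroup G) : Subgroup G) :=
    IsPGroup.to_sup_of_normal_right' hxp P.isPGroup' (Subgroup.zpowers_le.mpr hx)
  have h2 := P.is_maximal' h1 le_sup_right
  have h3 : x ∈ (Subgroup.zpowers x ⊔ (P : Subgroup G) : Subgroup G) :=
    Subgroup.mem_sup_left (Subgroup.mem_zpowers x)
  rw [h2] at h3
  exact h3

/-- Sylow subgroups for an isolated prime are TI -/
theorem MinCN.sylow_ti (h : MinCN G) {p : ℕ} [hp : Fact p.Prime] (hiso : PIso p G)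
    (P₁ P₂ : Sylow p G) (hne : P₁ ≠ P₂) : (P₁ : Subgroup G) ⊓ (P₂ : Subgroup G) = ⊥ := by
  by_contra hD1
  obtain ⟨D, hD⟩ : ∃ D : Subgroup G, D = (P₁ : Subgroup G) ⊓ (P₂ : Subgroup G) := ⟨_, rfl⟩
  rw [← hD] at hD1
  have hDP₁ : D ≤ (P₁ : Subgroup G) := hD ▸ inf_le_left
  have hDP₂ : D ≤ (P₂ : Subgroup G) := hD ▸ inf_le_right
  have hP₂1 : (P₂ : Subgroup G) ≠ ⊥ := by
    intro hb
    rw [hb, le_bot_iff] at hDP₂
    exact hD1 hDP₂
  have hp2 : p ≠ 2 := h.two_lt P₂ hP₂1
  have hlt : D < (P₁ : Subgroup G) := by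
    refine lt_of_le_of_ne hDP₁ ?_
    intro heq
    apply hne
    have h1 : (P₁ : Subgroup G) ≤ (P₂ : Subgroup G) := heq ▸ hDP₂
    exact Sylow.ext (P₁.is_maximal' P₂.isPGroup' h1).symm
  have hgrow := Cfsg.Agent.Lib.Helper9.lt_inf_normalizer P₁.isPGroup' hlt
  obtain ⟨x, hx, hxD⟩ := SetLike.exists_of_lt hgrow
  have hxN : x ∈ Subgroup.normalizer ((P₂ : Subgroup G) : Set G) := by
    apply h.normalizer_ctA_le hiso P₂ hP₂1
    exact normalizer_le_ctA h.odd hp2 hiso (fun Q hQ hQ1 => h.solv_normalizer Q hQ hQ1)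
      P₂ D hDP₂ hD1 hx.2
  have hxp : IsPGroup p (Subgroup.zpowers x) :=
    P₁.isPGroup'.to_le (Subgroup.zpowers_le.mpr hx.1)
  have hxP₂ := mem_sylow_of_mem_normalizer P₂ x hxN hxp
  apply hxD
  rw [hD]
  exact ⟨hx.1, hxP₂⟩

end Cfsg.Agent.Lib.Helper11.CNSimpleE
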