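import Mathlib

set_option autoImplicit false

namespace Cfsg.Agent.Lib.Helper11.PfArith

theorem sigma_le (n e e0 : ℕ) (hn : 2 ≤ n) (he : e0 ≤ e) :
    (n : ℝ) / ((n : ℝ) * e + 1) ≤ (n : ℝ) / (2 * (e0 : ℝ) + 1) := by
  have h1 : (2 : ℝ) ≤ n := by exact_mod_cast hn
  have h2 : (e0 : ℝ) ≤ e := by exact_mod_cast he
  have h3 : (0 : ℝ) ≤ e0 := Nat.cast_nonneg _
  apply div_le_div_of_nonneg_left (by positivity) (by positivity)
  nlinarith

theorem sigma_lt (n e e0 : ℕ) (hn : 2 ≤ n) (he : e0 ≤ e) (hne : n * e ≠ 2 * e0) :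
    (n : ℝ) / ((n : ℝ) * e + 1) < (n : ℝ) / (2 * (e0 : ℝ) + 1) := by
  have h1 : (2 : ℝ) ≤ n := by exact_mod_cast hn
  have h2 : (e0 : ℝ) ≤ e := by exact_mod_cast he
  have h3 : (0 : ℝ) ≤ e0 := Nat.cast_nonneg _
  have h4 : 2 * e0 ≤ n * e := by nlinarith
  have h5 : 2 * e0 < n * e := lt_of_le_of_ne h4 (Ne.symm hne)
  have h6 : (2 : ℝ) * e0 < n * e := by exact_mod_cast h5
  apply div_lt_div_of_pos_left (by positivity) (by positivity)
  linarith

/-- the numeric contradiction closing Peterfalvi (7.11) -/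
theorem arith_contra {ι : Type*} [Fintype ι] [DecidableEq ι] [Nonempty ι]
    (e n : ι → ℕ) (c : ι → ι → ℤ)
    (he : ∀ i, 2 ≤ e i) (hn : ∀ i, 2 ≤ n i)
    (hinj : ∀ i j, i ≠ j → n i * e i ≠ n j * e j)
    (H1 : ∀ i, (1 - (e i : ℝ) / ((n i : ℝ) * e i + 1)) +
        ∑ j, (if j ≠ i ∧ c j i ≠ 0 then (n j : ℝ) / ((n j : ℝ) * e j + 1) else 0) +
        (1 - ∑ j, (n j : ℝ) / ((n j : ℝ) * e j + 1)) ≤ 1)
    (H2 : ∀ i, ∑ j, (if j ≠ i then (n j : ℤ) * (c i j) ^ 2 else 0) ≤ (e i : ℤ) - 1)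
    (H3 : ∀ i j, i ≠ j → c i j ≠ 0 ∨ c j i ≠ 0) : False := by
  classical
  obtain ⟨i, -, hi⟩ := Finset.exists_min_image (Finset.univ : Finset ι) e
    ⟨Classical.arbitrary ι, Finset.mem_univ _⟩
  have hmin : ∀ j, e i ≤ e j := fun j => hi j (Finset.mem_univ j)
  obtain ⟨σ, hσ⟩ : ∃ σ : ι → ℝ, σ = fun j => (n j : ℝ) / ((n j : ℝ) * e j + 1) := ⟨_, rfl⟩
  have hσnn : ∀ j, 0 ≤ σ j := by
    intro j
    rw [hσ]
    positivity
  obtain ⟨J, hJ⟩ : ∃ J : Finset ι, J = Finset.univ.filter (fun j => j ≠ i ∧ c i j ≠ 0) :=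
    ⟨_, rfl⟩
  have hJmem : ∀ j, j ∈ J ↔ (j ≠ i ∧ c i j ≠ 0) := by
    intro j
    rw [hJ, Finset.mem_filter]
    simp
  -- lower bound
  have hH1 := H1 i
  have hσ' : ∀ j, (n j : ℝ) / ((n j : ℝ) * e j + 1) = σ j := fun j => by rw [hσ]
  simp only [hσ'] at hH1
  have hsplit : ∑ j, σ j ≤ σ i + ∑ j ∈ J, σ j +
      ∑ j, (if j ≠ i ∧ c j i ≠ 0 then σ j else 0) := by
    have h1 : σ i = ∑ j, (if j = i then σ j else 0) := by
      rw [Finset.sum_ite_eq' Finset.univ i]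
      simp
    have h2 : ∑ j ∈ J, σ j = ∑ j, (if j ≠ i ∧ c i j ≠ 0 then σ j else 0) := by
      rw [hJ, Finset.sum_filter]
    rw [h1, h2, ← Finset.sum_add_distrib, ← Finset.sum_add_distrib]
    apply Finset.sum_le_sum
    intro j _
    by_cases hji : j = i
    · subst hji
      simp
    · rcases H3 i j (Ne.symm hji) with h | h
      · have : (if j ≠ i ∧ c i j ≠ 0 then σ j else 0) = σ j := if_pos ⟨hji, h⟩
        rw [if_neg hji, this]
        have := hσnn j
        split_ifs <;> linarith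
      · have : (if j ≠ i ∧ c j i ≠ 0 then σ j else 0) = σ j := if_pos ⟨hji, h⟩
        rw [if_neg hji, this]
        have := hσnn j
        split_ifs <;> linarith
  have hlow : 1 - (e i : ℝ) / ((n i : ℝ) * e i + 1) - σ i ≤ ∑ j ∈ J, σ j := by linarith
  -- upper bound on the sum of n over J
  have hH2 := H2 i
  have hup : ∑ j ∈ J, (n j : ℤ) ≤ (e i : ℤ) - 1 := by
    refine le_trans ?_ hH2
    rw [hJ, Finset.sum_filter]
    apply Finset.sum_le_sum
    intro j _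
    by_cases hji : j = i
    · subst hji
      simp
    · by_cases hc : c i j = 0
      · rw [if_neg (fun h => h.2 hc), if_pos hji, hc]
        simp
      · rw [if_pos ⟨hji, hc⟩, if_pos hji]
        have h1 : 1 ≤ (c i j) ^ 2 := by
          have : 0 < (c i j) ^ 2 := by positivity
          omega
        have h2 : (0 : ℤ) ≤ n j := Int.natCast_nonneg _
        nlinarith
  have hupR : ∑ j ∈ J, (n j : ℝ) ≤ (e i : ℝ) - 1 := by
    have : ((∑ j ∈ J, (n j : ℤ) : ℤ) : ℝ) ≤ (((e i : ℤ) - 1 : ℤ) : ℝ) := by exact_mod_cast hup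
    push_cast at this
    exact this
  have hei : (2 : ℝ) ≤ e i := by exact_mod_cast he i
  have hni : (2 : ℝ) ≤ n i := by exact_mod_cast hn i
  have hden : (0 : ℝ) < 2 * (e i : ℝ) + 1 := by positivity
  have hdeni : (0 : ℝ) < (n i : ℝ) * e i + 1 := by positivity
  -- upper bound on the sum of σ over J
  have hupσ : ∑ j ∈ J, σ j ≤ ∑ j ∈ J, (n j : ℝ) / (2 * (e i : ℝ) + 1) := by
    apply Finset.sum_le_sum
    intro j _
    rw [hσ]
    exact sigma_le (n j) (e j) (e i) (hn j) (hmin j)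
  have hsumdiv : ∑ j ∈ J, (n j : ℝ) / (2 * (e i : ℝ) + 1) ≤ ((e i : ℝ) - 1) / (2 * (e i : ℝ) + 1) := by
    rw [← Finset.sum_div]
    exact div_le_div_of_nonneg_right hupR hden.le
  -- the value of the lower bound
  have hlowval : 1 - (e i : ℝ) / ((n i : ℝ) * e i + 1) - σ i =
      ((n i : ℝ) - 1) * ((e i : ℝ) - 1) / ((n i : ℝ) * e i + 1) := by
    rw [hσ]
    field_simp
    ring
  have hcmp : ((e i : ℝ) - 1) / (2 * (e i : ℝ) + 1) ≤
      ((n i : ℝ) - 1) * ((e i : ℝ) - 1) / ((n i : ℝ) * e i + 1) := by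
    rw [div_le_div_iff₀ hden hdeni]
    have key : ((n i : ℝ) - 1) * ((e i : ℝ) - 1) * (2 * (e i : ℝ) + 1) -
        ((e i : ℝ) - 1) * ((n i : ℝ) * e i + 1) =
        ((e i : ℝ) - 1) * ((n i : ℝ) - 2) * ((e i : ℝ) + 1) := by ring
    have hnn : 0 ≤ ((e i : ℝ) - 1) * ((n i : ℝ) - 2) * ((e i : ℝ) + 1) := by
      apply mul_nonneg (mul_nonneg _ _) _ <;> linarith
    linarith
  by_cases hn2 : n i = 2
  · -- then the order is 2 e + 1
    have hJne : J.Nonempty := by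
      by_contra hemp
      rw [Finset.not_nonempty_iff_eq_empty] at hemp
      rw [hemp, Finset.sum_empty] at hlow
      rw [hlowval] at hlow
      have : 0 < ((n i : ℝ) - 1) * ((e i : ℝ) - 1) / ((n i : ℝ) * e i + 1) := by
        apply div_pos _ hdeni
        nlinarith
      linarith
    have hstrict : ∑ j ∈ J, σ j < ∑ j ∈ J, (n j : ℝ) / (2 * (e i : ℝ) + 1) := by
      apply Finset.sum_lt_sum_of_nonempty hJne
      intro j hj
      rw [hσ]
      apply sigma_lt (n j) (e j) (e i) (hn j) (hmin j)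
      have hji : j ≠ i := ((hJmem j).mp hj).1
      have := hinj j i hji
      rw [hn2] at this
      exact this
    rw [hlowval] at hlow
    linarith
  · have hn3 : (3 : ℝ) ≤ n i := by
      have : 3 ≤ n i := by
        have := hn i
        omega
      exact_mod_cast this
    have hcmp' : ((e i : ℝ) - 1) / (2 * (e i : ℝ) + 1) <
        ((n i : ℝ) - 1) * ((e i : ℝ) - 1) / ((n i : ℝ) * e i + 1) := by
      rw [div_lt_div_iff₀ hden hdeni]
      have key : ((n i : ℝ) - 1) * ((e i : ℝ) - 1) * (2 * (e i : ℝ) + 1) -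
          ((e i : ℝ) - 1) * ((n i : ℝ) * e i + 1) =
          ((e i : ℝ) - 1) * ((n i : ℝ) - 2) * ((e i : ℝ) + 1) := by ring
      have hnn : 0 < ((e i : ℝ) - 1) * ((n i : ℝ) - 2) * ((e i : ℝ) + 1) := by
        apply mul_pos (mul_pos _ _) _ <;> linarith
      linarith
    rw [hlowval] at hlow
    linarith

end Cfsg.Agent.Lib.Helper11.PfArith
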