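import Mathlib
import Cfsg.Prelude.Def_OddOrderLocal

set_option autoImplicit false

namespace Cfsg.Agent.Lib.Helper11.PfCount

variable {G : Type*} [Group G] {ι : Type*}

theorem orderOf_conj'' (x h : G) : orderOf (x * h * x⁻¹) = orderOf h := by
  have := (MulAut.conj x).orderOf_eq h
  rwa [MulAut.conj_apply] at this

/-- the index type of the cover: a family, a coset of the normalizer, a non-identity element -/
abbrev CoverT (H : ι → Subgroup G) : Type _ :=
  Σ i : ι, (G ⧸ Subgroup.normalizer (H i : Set G)) × {h : H i // h ≠ 1}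

theorem coverMap_ne (H : ι → Subgroup G) (t : CoverT H) :
    t.2.1.out * ((t.2.2 : H t.1) : G) * t.2.1.out⁻¹ ≠ 1 := by
  intro h
  have h1 : ((t.2.2 : H t.1) : G) = 1 := by
    have := congrArg (fun z => t.2.1.out⁻¹ * z * t.2.1.out) h
    simpa [mul_assoc] using this
  exact t.2.2.2 (Subtype.ext h1)

/-- the cover map -/
noncomputable def coverMap (H : ι → Subgroup G) : CoverT H → {g : G // g ≠ 1} := fun t =>
  ⟨t.2.1.out * ((t.2.2 : H t.1) : G) * t.2.1.out⁻¹, coverMap_ne H t⟩

theorem coverMap_bijective [Finite G] (H : ι → Subgroup G)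
    (hcop : ∀ i j, i ≠ j → Nat.Coprime (Nat.card (H i)) (Nat.card (H j)))
    (hTI : ∀ i, Cfsg.IsTISubset (H i : Set G))
    (hcover : ∀ g : G, g ≠ 1 → ∃ i, ∃ x : G, x * g * x⁻¹ ∈ H i) :
    Function.Bijective (coverMap H) := by
  classical
  constructor
  · rintro ⟨i, q, h⟩ ⟨j, q', h'⟩ heq
    have heq' : q.out * ((h : H i) : G) * q.out⁻¹ = q'.out * ((h' : H j) : G) * q'.out⁻¹ :=
      congrArg Subtype.val heq
    have hij : i = j := by
      by_contra hne
      have ho1 : orderOf (q.out * ((h : H i) : G) * q.out⁻¹) ∣ Nat.card (H i) := by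
        rw [orderOf_conj'']
        exact Subgroup.orderOf_dvd_natCard (H i) (h : H i).2
      have ho2 : orderOf (q.out * ((h : H i) : G) * q.out⁻¹) ∣ Nat.card (H j) := by
        rw [heq', orderOf_conj'']
        exact Subgroup.orderOf_dvd_natCard (H j) (h' : H j).2
      have h1 := Nat.eq_one_of_dvd_coprimes (hcop i j hne) ho1 ho2
      rw [orderOf_eq_one_iff] at h1
      have h2 : ((h : H i) : G) = 1 := by
        have := congrArg (fun z => q.out⁻¹ * z * q.out) h1
        simpa [mul_assoc] using this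
      exact h.2 (Subtype.ext h2)
    subst hij
    obtain ⟨x, hx⟩ : ∃ x : G, x = q.out := ⟨_, rfl⟩
    obtain ⟨x', hx'⟩ : ∃ x' : G, x' = q'.out := ⟨_, rfl⟩
    rw [← hx, ← hx'] at heq'
    have hmem : x'⁻¹ * x ∈ Subgroup.normalizer (H i : Set G) := by
      by_contra hnot
      have h3 : (x'⁻¹ * x) * ((h : H i) : G) * (x'⁻¹ * x)⁻¹ ∈ (H i : Set G) := by
        have : (x'⁻¹ * x) * ((h : H i) : G) * (x'⁻¹ * x)⁻¹ = ((h' : H i) : G) := by
          calc (x'⁻¹ * x) * ((h : H i) : G) * (x'⁻¹ * x)⁻¹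
              = x'⁻¹ * (x * ((h : H i) : G) * x⁻¹) * x' := by group
            _ = x'⁻¹ * (x' * ((h' : H i) : G) * x'⁻¹) * x' := by rw [heq']
            _ = ((h' : H i) : G) := by group
        rw [this]
        exact (h' : H i).2
      have := hTI i (x'⁻¹ * x) hnot ((h : H i) : G) (h : H i).2 h3
      exact h.2 (Subtype.ext this)
    have hq : q' = q := by
      rw [← QuotientGroup.out_eq' q, ← QuotientGroup.out_eq' q', ← hx, ← hx']
      exact QuotientGroup.eq.mpr hmem
    subst hq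
    have hxx : x = x' := by rw [hx, hx']
    subst hxx
    have hh : (h : H i) = (h' : H i) := by
      apply Subtype.ext
      have h5 : x⁻¹ * (x * ((h : H i) : G) * x⁻¹) * x = x⁻¹ * (x * ((h' : H i) : G) * x⁻¹) * x := by
        rw [heq']
      calc ((h : H i) : G) = x⁻¹ * (x * ((h : H i) : G) * x⁻¹) * x := by group
        _ = x⁻¹ * (x * ((h' : H i) : G) * x⁻¹) * x := h5
        _ = ((h' : H i) : G) := by group
    have : h = h' := Subtype.ext hh
    rw [this]
  · rintro ⟨g, hg⟩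
    obtain ⟨i, x, hx⟩ := hcover g hg
    obtain ⟨n, hn⟩ := QuotientGroup.mk_out_eq_mul (Subgroup.normalizer (H i : Set G)) x⁻¹
    obtain ⟨q, hq⟩ : ∃ q : G ⧸ Subgroup.normalizer (H i : Set G), q = QuotientGroup.mk x⁻¹ :=
      ⟨_, rfl⟩
    have hnN : (n : G) ∈ Subgroup.normalizer (H i : Set G) := n.2
    have hmem : (n : G)⁻¹ * (x * g * x⁻¹) * (n : G)⁻¹⁻¹ ∈ H i :=
      (Subgroup.mem_normalizer_iff.mp (Subgroup.inv_mem _ hnN) _).mp hx
    have hne : (⟨(n : G)⁻¹ * (x * g * x⁻¹) * (n : G)⁻¹⁻¹, hmem⟩ : H i) ≠ 1 := by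
      intro h1
      have h2 : (n : G)⁻¹ * (x * g * x⁻¹) * (n : G)⁻¹⁻¹ = 1 := congrArg Subtype.val h1
      apply hg
      have := congrArg (fun z => x⁻¹ * (n : G) * z * (n : G)⁻¹ * x) h2
      simpa [mul_assoc] using this
    refine ⟨⟨i, q, ⟨⟨_, hmem⟩, hne⟩⟩, ?_⟩
    apply Subtype.ext
    show q.out * ((n : G)⁻¹ * (x * g * x⁻¹) * (n : G)⁻¹⁻¹) * q.out⁻¹ = g
    rw [hq, hn]
    group

open Classical in
/-- the sum of `F` over the non-identity elements of `H` -/
noncomputable def secSum (H : Subgroup G) [Fintype H] (F : G → ℝ) : ℝ :=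
  ∑ k : H, if (k : G) = 1 then 0 else F k

/-- splitting a sum of a class function over the group along the cover -/
theorem sum_cover [Fintype G] [Fintype ι] (H : ι → Subgroup G) [∀ i, Fintype (H i)]
    (hcop : ∀ i j, i ≠ j → Nat.Coprime (Nat.card (H i)) (Nat.card (H j)))
    (hTI : ∀ i, Cfsg.IsTISubset (H i : Set G))
    (hcover : ∀ g : G, g ≠ 1 → ∃ i, ∃ x : G, x * g * x⁻¹ ∈ H i)
    (F : G → ℝ) (hF : ∀ g x : G, F (x * g * x⁻¹) = F g) :
    ∑ g : G, F g = F 1 +
      ∑ i, ((Subgroup.normalizer (H i : Set G)).index : ℝ) * secSum (H i) F := by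
  classical
  have h1 : ∑ g : G, F g = F 1 + ∑ g : {g : G // g ≠ 1}, F g := by
    rw [← Finset.sum_erase_add _ _ (Finset.mem_univ (1 : G)), add_comm]
    congr 1
    rw [← Finset.sum_subtype (Finset.univ.erase (1 : G)) (fun g => by simp) F]
  rw [h1]
  congr 1
  have hb := coverMap_bijective H hcop hTI hcover
  rw [← Function.Bijective.sum_comp hb (fun g => F g)]
  rw [Fintype.sum_sigma]
  apply Finset.sum_congr rfl
  intro i _
  rw [Fintype.sum_prod_type]
  have h2 : ∀ (q : G ⧸ Subgroup.normalizer (H i : Set G)) (h : {h : H i // h ≠ 1}),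
      F (coverMap H ⟨i, q, h⟩ : G) = F ((h : H i) : G) := by
    intro q h
    exact hF _ _
  simp only [h2]
  rw [Finset.sum_const, Finset.card_univ, nsmul_eq_mul]
  congr 1
  · rw [Subgroup.index, Nat.card_eq_fintype_card]
  · unfold secSum
    rw [← Finset.sum_subtype (Finset.univ.filter (fun k : H i => k ≠ 1))
      (fun k => by simp) (fun k : H i => F (k : G))]
    rw [Finset.sum_filter]
    apply Finset.sum_congr rfl
    intro k _
    by_cases hk : k = 1
    · subst hk
      simp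
    · have : (k : G) ≠ 1 := fun h => hk (Subtype.ext h)
      rw [if_pos hk, if_neg this]

end Cfsg.Agent.Lib.Helper11.PfCount
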