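import Mathlib
import Cfsg.Agent.Lib.Helper11.SeqIndCoh

set_option autoImplicit false
open scoped ComplexConjugate commutatorElement

namespace Cfsg.Agent.Lib.Helper11.SeqIndNil

open Cfsg.Agent.Lib.Helper11 Cfsg.Agent.Lib.helper7 Cfsg.Agent.Lib.helper2 Cfsg.Agent.Lib.Helper25
  Cfsg.Agent.Lib.Helper11.SeqInd Cfsg.Agent.Lib.Helper11.SeqIndCoh

/-- in a group `H` with `H / M` nilpotent, a subgroup `B ≤ H` with `B ≤ [B, H] M` lies in `M` -/
theorem le_of_nilpotent_quot {L : Type*} [Group L] (H M B : Subgroup L) (hMH : M ≤ H)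
    (hBH : B ≤ H) [hMn : (M.subgroupOf H).Normal]
    (hnil : Group.IsNilpotent (↥H ⧸ M.subgroupOf H)) (hB : B ≤ ⁅B, H⁆ ⊔ M) : B ≤ M := by
  obtain ⟨n, hn⟩ := Subgroup.nilpotent_iff_lowerCentralSeries.mp hnil
  obtain ⟨T, hT⟩ : ∃ T : ℕ → Subgroup L, T = fun i =>
      ((Subgroup.lowerCentralSeries (⊤ : Subgroup (↥H ⧸ M.subgroupOf H)) i).comap
        (QuotientGroup.mk' (M.subgroupOf H))).map H.subtype := ⟨_, rfl⟩
  have hTmem : ∀ i (x : L), x ∈ T i ↔ ∃ hx : x ∈ H, QuotientGroup.mk' (M.subgroupOf H) ⟨x, hx⟩ ∈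
      Subgroup.lowerCentralSeries (⊤ : Subgroup (↥H ⧸ M.subgroupOf H)) i := by
    intro i x
    rw [hT]
    constructor
    · rintro ⟨y, hy, rfl⟩
      exact ⟨y.2, hy⟩
    · rintro ⟨hx, h⟩
      exact ⟨⟨x, hx⟩, h, rfl⟩
  have hMT : ∀ i, M ≤ T i := by
    intro i m hm
    rw [hTmem]
    refine ⟨hMH hm, ?_⟩
    have h1 : QuotientGroup.mk' (M.subgroupOf H) ⟨m, hMH hm⟩ = 1 := by
      rw [QuotientGroup.mk'_apply, QuotientGroup.eq_one_iff]
      exact Subgroup.mem_subgroupOf.mpr hm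
    rw [h1]
    exact Subgroup.one_mem _
  have hBT : ∀ i, B ≤ T i := by
    intro i
    induction i with
    | zero =>
      intro b hb
      rw [hTmem]
      exact ⟨hBH hb, Subgroup.mem_top _⟩
    | succ i ih =>
      refine hB.trans (sup_le ?_ (hMT _))
      rw [Subgroup.commutator_le]
      intro b hb h hh
      rw [hTmem]
      obtain ⟨hbH, hbγ⟩ := (hTmem i b).mp (ih hb)
      refine ⟨H.mul_mem (H.mul_mem (H.mul_mem hbH hh) (H.inv_mem hbH)) (H.inv_mem hh), ?_⟩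
      have h1 : (⟨⁅b, h⁆, H.mul_mem (H.mul_mem (H.mul_mem hbH hh) (H.inv_mem hbH))
          (H.inv_mem hh)⟩ : H) = ⁅(⟨b, hbH⟩ : H), ⟨h, hh⟩⁆ := by
        apply Subtype.ext
        rfl
      rw [h1, map_commutatorElement, Subgroup.lowerCentralSeries_succ]
      exact Subgroup.commutator_mem_commutator hbγ (Subgroup.mem_top _)
  intro b hb
  obtain ⟨hbH, hbγ⟩ := (hTmem n b).mp (hBT n hb)
  rw [hn, Subgroup.mem_bot, QuotientGroup.mk'_apply, QuotientGroup.eq_one_iff] at hbγ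
  exact Subgroup.mem_subgroupOf.mp hbγ

theorem bound_arith (e k h r : ℕ) (hk : 1 ≤ k) (hh : 4 * e ^ 2 + 2 ≤ h) (hr : h * k = r) :
    4 * (k * e) ^ 2 * h < (r - 1) ^ 2 := by
  have hpos : 1 ≤ h * k := Nat.one_le_iff_ne_zero.mpr (Nat.mul_ne_zero (by omega) (by omega))
  obtain ⟨t, ht⟩ : ∃ t, h * k = t + 1 := ⟨h * k - 1, by omega⟩
  have hrt : r - 1 = t := by omega
  rw [hrt]
  have h1 : 4 * (k * e) ^ 2 * h + 2 * (k ^ 2 * h) ≤ k ^ 2 * h ^ 2 := by
    calc 4 * (k * e) ^ 2 * h + 2 * (k ^ 2 * h) = k ^ 2 * h * (4 * e ^ 2 + 2) := by ring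
      _ ≤ k ^ 2 * h * h := Nat.mul_le_mul_left _ hh
      _ = k ^ 2 * h ^ 2 := by ring
  have h2 : k ^ 2 * h ^ 2 = t ^ 2 + 2 * t + 1 := by
    calc k ^ 2 * h ^ 2 = (h * k) ^ 2 := by ring
      _ = (t + 1) ^ 2 := by rw [ht]
      _ = _ := by ring
  have h3 : 2 * t + 1 < 2 * (k ^ 2 * h) := by
    have h4 : h * k ≤ k ^ 2 * h := by
      calc h * k = k * h := by ring
        _ ≤ k * k * h := by
          apply Nat.mul_le_mul_right
          exact Nat.le_mul_self k
        _ = k ^ 2 * h := by ring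
    omega
  omega

variable {L : Type*} [Group L] [Fintype L] {G : Type*} [Group G] [Fintype G]

/-- **Peterfalvi (6.5)** -/
theorem coherent_of_nilpotent (K : Subgroup L) [hK : K.Normal] (hsolv : Group.IsSolvable K)
    (τ : (L → ℂ) → (G → ℂ)) (R : (L → ℂ) → Finset (G → ℂ))
    (hS : Cfsg.IsCoherenceSystem (Cfsg.inducedIrrAbove K ⊥) τ R)
    (M H₁ H : Subgroup L) [hMn : M.Normal] [hH₁n : H₁.Normal] [hHn : H.Normal]
    (hMH₁ : M ≤ H₁) (hH₁H : H₁ ≤ H) (hHK : H ≤ K) [hMHn : (M.subgroupOf H).Normal]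
    (hnil : Group.IsNilpotent (↥H ⧸ M.subgroupOf H))
    (hcoh : Cfsg.IsCoherent (Cfsg.inducedIrrAbove K H₁) {1}ᶜ τ)
    (hbig : 4 * K.index ^ 2 + 1 < H₁.relIndex H) :
    Cfsg.IsCoherent (Cfsg.inducedIrrAbove K M) {1}ᶜ τ := by
  have hH₁ltH : H₁ < H := by
    refine lt_of_le_of_ne hH₁H ?_
    intro h
    rw [h, Subgroup.relIndex_self] at hbig
    omega
  have key : ∀ n : ℕ, ∀ B : Subgroup L, B.Normal → M ≤ B → B ≤ H₁ → Nat.card B = n →
      Cfsg.IsCoherent (Cfsg.inducedIrrAbove K B) {1}ᶜ τ →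
      Cfsg.IsCoherent (Cfsg.inducedIrrAbove K M) {1}ᶜ τ := by
    intro n
    induction n using Nat.strong_induction_on with
    | _ n ih =>
    intro B hBn hMB hBH₁ hcard hcohB
    by_cases hBM : B = M
    · rw [← hBM]
      exact hcohB
    obtain ⟨B', hB'⟩ : ∃ B' : Subgroup L, B' = ⁅B, H⁆ ⊔ M := ⟨_, rfl⟩
    have hB'n : B'.Normal := by
      rw [hB']
      infer_instance
    have hBH : B ≤ H := hBH₁.trans hH₁H
    have hB'B : B' ≤ B := by
      rw [hB']
      exact sup_le (Subgroup.commutator_le_left B H) hMB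
    have hne : B' ≠ B := by
      intro h
      apply hBM
      apply le_antisymm _ hMB
      apply le_of_nilpotent_quot H M B (hMH₁.trans hH₁H) hBH hnil
      rw [← hB', h]
    have hBK : B < K := lt_of_le_of_lt hBH₁ (lt_of_lt_of_le hH₁ltH hHK)
    have hcent : ∀ x ∈ B, ∀ y ∈ H, x * y * x⁻¹ * y⁻¹ ∈ B' := by
      intro x hx y hy
      rw [hB']
      apply Subgroup.mem_sup_left
      have := Subgroup.commutator_mem_commutator hx hy
      rw [commutatorElement_def] at this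
      exact this
    have hlt : 4 * H.index ^ 2 * B.relIndex H < (B.relIndex K - 1) ^ 2 := by
      have h3 : H.relIndex K * K.index = H.index := Subgroup.relIndex_mul_index hHK
      have h4 : B.relIndex H * H.relIndex K = B.relIndex K :=
        Subgroup.relIndex_mul_relIndex B H K hBH hHK
      have h5 : H₁.relIndex H ∣ B.relIndex H := Subgroup.relIndex_dvd_of_le_left H hBH₁
      have h6 : 0 < B.relIndex H :=
        Nat.pos_of_ne_zero (Subgroup.index_ne_zero_of_finite (H := B.subgroupOf H))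
      have h7 : H₁.relIndex H ≤ B.relIndex H := Nat.le_of_dvd h6 h5
      have h8 : 1 ≤ H.relIndex K :=
        Nat.pos_of_ne_zero (Subgroup.index_ne_zero_of_finite (H := H.subgroupOf K))
      rw [← h3]
      exact bound_arith K.index (H.relIndex K) (B.relIndex H) (B.relIndex K) h8 (by omega) h4
    have hcohB' := coherent_of_bound K hsolv τ R hS B B' H B hBK (lt_of_le_of_lt hB'B hBK) hB'B
      hBH hHK hcent hcohB hlt
    have hcardlt : Nat.card B' < n := by
      rw [← hcard]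
      refine lt_of_le_of_ne (Subgroup.card_le_of_le hB'B) ?_
      intro h
      exact hne (Subgroup.eq_of_le_of_card_ge hB'B h.ge)
    exact ih (Nat.card B') hcardlt B' hB'n (hB' ▸ le_sup_right) (hB'B.trans hBH₁) rfl hcohB'
  exact key _ H₁ hH₁n hMH₁ le_rfl rfl hcoh

end Cfsg.Agent.Lib.Helper11.SeqIndNil
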