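import Mathlib
import Cfsg.Agent.Lib.Helper11.SeqIndNil
import Cfsg.Agent.Lib.Helper11.FrobQuot

set_option autoImplicit false
open scoped ComplexConjugate commutatorElement

namespace Cfsg.Agent.Lib.Helper11.SeqIndFrob

open Cfsg.Agent.Lib.Helper11 Cfsg.Agent.Lib.helper7 Cfsg.Agent.Lib.helper2 Cfsg.Agent.Lib.Helper25
  Cfsg.Agent.Lib.Helper11.SeqInd Cfsg.Agent.Lib.Helper11.SeqIndCoh
  Cfsg.Agent.Lib.Helper11.SeqIndNil Cfsg.Agent.Lib.Helper11.FrobQuot

variable {L : Type*} [Group L] [Fintype L] {G : Type*} [Group G] [Fintype G]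

/-- a coherence system restricts to nonempty subsets closed under conjugation -/
theorem coherenceSystem_subset {S S' : Set (L → ℂ)} {τ : (L → ℂ) → (G → ℂ)}
    {R : (L → ℂ) → Finset (G → ℂ)} (hS : Cfsg.IsCoherenceSystem S τ R) (hsub : S' ⊆ S)
    (hne : S'.Nonempty) (hconj : ∀ χ ∈ S', Cfsg.conjFun χ ∈ S') :
    Cfsg.IsCoherenceSystem S' τ R where
  nonempty := hne
  isCharacter := fun χ h => hS.isCharacter χ (hsub h)
  conj_mem := hconj
  conj_ne := fun χ h => hS.conj_ne χ (hsub h)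
  isometry := isoOn_mono (fun a ha => zspanOn_mono hsub _ ha) hS.isometry
  map_one := fun α h => hS.map_one α (zspanOn_mono hsub _ h)
  orthogonal := fun χ h φ h' => hS.orthogonal χ (hsub h) φ (hsub h')
  orthonormal := fun χ h => hS.orthonormal χ (hsub h)
  virtual := fun χ h => hS.virtual χ (hsub h)
  sum_eq := fun χ h => hS.sum_eq χ (hsub h)
  disjoint := fun χ h φ h' => hS.disjoint χ (hsub h) φ (hsub h')

/-- characters of `K` trivial on a subgroup with abelian quotient are linear -/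
theorem degree_linear (K H₁ : Subgroup L) [hH₁ : H₁.Normal] (hH₁K : H₁ ≤ K)
    (hab : ∀ x ∈ K, ∀ y ∈ K, x * y * x⁻¹ * y⁻¹ ∈ H₁) {θ : K → ℂ} (hθ : θ ∈ irrAbove K H₁) :
    θ 1 = 1 := by
  obtain ⟨dθ, hpos, hdθ⟩ := irr_one_eq_finrank ⟨θ, hθ.1⟩
  have h1 := degree_bound K H₁ K K hH₁K le_rfl le_rfl hab hθ dθ hdθ
  rw [Subgroup.relIndex_self, one_pow, one_mul] at h1
  have h2 : dθ = 1 := by nlinarith
  have h3 : θ 1 = (dθ : ℂ) := hdθ
  rw [h3, h2, Nat.cast_one]

/-- `S(H₁)` is coherent when `K / H₁` is abelian -/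
theorem coherent_abelian (K : Subgroup L) [hK : K.Normal] (hsolv : Group.IsSolvable K)
    (τ : (L → ℂ) → (G → ℂ)) (R : (L → ℂ) → Finset (G → ℂ))
    (hS : Cfsg.IsCoherenceSystem (Cfsg.inducedIrrAbove K ⊥) τ R)
    (H₁ : Subgroup L) [hH₁ : H₁.Normal] (hH₁K : H₁ < K)
    (hab : ∀ x ∈ K, ∀ y ∈ K, x * y * x⁻¹ * y⁻¹ ∈ H₁) :
    Cfsg.IsCoherent (Cfsg.inducedIrrAbove K H₁) {1}ᶜ τ := by
  obtain ⟨θ₁, hθ₁, -⟩ := exists_linear K H₁ hsolv hH₁K
  have hne : (Cfsg.inducedIrrAbove K H₁).Nonempty := by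
    rw [inducedIrrAbove_eq]
    exact ⟨_, θ₁, hθ₁, rfl⟩
  have hsub := coherenceSystem_subset hS (inducedIrrAbove_mono K bot_le) hne
    (fun χ h => conj_mem_inducedIrrAbove K H₁ h)
  apply coherent_of_equal_degrees hsub
  intro φ hφ ψ hψ
  rw [inducedIrrAbove_eq] at hφ hψ
  obtain ⟨θ, hθ, rfl⟩ := hφ
  obtain ⟨θ', hθ', rfl⟩ := hψ
  change Cfsg.indFun K θ 1 = Cfsg.indFun K θ' 1
  rw [h7_indFun_one, h7_indFun_one, degree_linear K H₁ hH₁K.le hab hθ,
    degree_linear K H₁ hH₁K.le hab hθ']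

theorem odd_step (e a : ℕ) (he : Odd e) (ha : Odd a) (ha1 : a ≠ 1) (h : e ∣ a - 1) :
    2 * e + 1 ≤ a := by
  obtain ⟨s, hs⟩ := h
  obtain ⟨k, hk⟩ := ha
  have hs0 : s ≠ 0 := by
    intro h0
    rw [h0, mul_zero] at hs
    omega
  have hseven : Even s := by
    rcases Nat.even_or_odd s with h | h
    · exact h
    · exfalso
      have h1 : Odd (e * s) := he.mul h
      rw [← hs] at h1
      have h2 : Even (a - 1) := ⟨k, by omega⟩
      exact (Nat.not_even_iff_odd.mpr h1) h2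
  obtain ⟨t, ht⟩ := hseven
  have ht0 : 1 ≤ t := by omega
  have h3 : 2 * e ≤ e * s := by
    rw [ht]
    nlinarith
  omega

theorem arith_frob (e a b : ℕ) (he : Odd e) (ha : Odd a) (hb : Odd b) (ha1 : a ≠ 1)
    (hb1 : b ≠ 1) (h1 : e ∣ a - 1) (h2 : e ∣ a * b - 1) : 4 * e ^ 2 + 1 < a * b := by
  have hapos : 1 ≤ a := by
    obtain ⟨k, hk⟩ := ha
    omega
  have hbpos : 1 ≤ b := by
    obtain ⟨k, hk⟩ := hb
    omega
  have h3 : e ∣ b - 1 := by
    have h4 : e ∣ (a - 1) * b := Dvd.dvd.mul_right h1 b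
    have h5 : a * b - 1 - (a - 1) * b = b - 1 := by
      obtain ⟨a', rfl⟩ : ∃ a', a = a' + 1 := ⟨a - 1, by omega⟩
      simp only [Nat.add_sub_cancel]
      have : (a' + 1) * b = a' * b + b := by ring
      rw [this]
      omega
    rw [← h5]
    exact Nat.dvd_sub h2 h4
  have h6 := odd_step e a he ha ha1 h1
  have h7 := odd_step e b he hb hb1 h3
  have hepos : 1 ≤ e := by
    obtain ⟨j, hj⟩ := he
    omega
  calc 4 * e ^ 2 + 1 < (2 * e + 1) * (2 * e + 1) := by nlinarith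
    _ ≤ a * b := Nat.mul_le_mul h6 h7

/-- a normal subgroup strictly between `H₁` and `K` forces `[K : H₁]` to be large -/
theorem big_of_intermediate (H₁ N K : Subgroup L) [hH₁ : H₁.Normal] [hN : N.Normal]
    [hK : K.Normal] (hodd : Odd (Nat.card L)) (hH₁N : H₁ < N) (hNK : N < K)
    (hab : ∀ x ∈ K, ∀ y ∈ K, x * y * x⁻¹ * y⁻¹ ∈ H₁)
    (hfrob : ∀ k ∈ K, k ∉ H₁ → ∀ x : L, x * k * x⁻¹ * k⁻¹ ∈ H₁ → x ∈ K) :
    4 * K.index ^ 2 + 1 < H₁.relIndex K := by
  have h1 := frob_relIndex_dvd H₁ N K hH₁N.le hNK.le hab hfrob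
  have h2 := frob_relIndex_dvd H₁ K K (hH₁N.le.trans hNK.le) le_rfl hab hfrob
  have h3 : H₁.relIndex N * N.relIndex K = H₁.relIndex K :=
    Subgroup.relIndex_mul_relIndex H₁ N K hH₁N.le hNK.le
  rw [← h3] at h2 ⊢
  have hoddK : Odd K.index := Odd.of_dvd_nat hodd (Subgroup.index_dvd_card K)
  have hodda : Odd (H₁.relIndex N) :=
    Odd.of_dvd_nat hodd ((Subgroup.relIndex_dvd_card H₁ N).trans (Subgroup.card_subgroup_dvd_card N))
  have hoddb : Odd (N.relIndex K) :=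
    Odd.of_dvd_nat hodd ((Subgroup.relIndex_dvd_card N K).trans (Subgroup.card_subgroup_dvd_card K))
  have ha1 : H₁.relIndex N ≠ 1 := by
    intro h
    rw [Subgroup.relIndex_eq_one] at h
    exact (not_le_of_gt hH₁N) h
  have hb1 : N.relIndex K ≠ 1 := by
    intro h
    rw [Subgroup.relIndex_eq_one] at h
    exact (not_le_of_gt hNK) h
  exact arith_frob _ _ _ hoddK hodda hoddb ha1 hb1 h1 h2

theorem commutator_self_le {X : Type*} [Group X] (K : Subgroup X) : ⁅K, K⁆ ≤ K :=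
  Subgroup.commutator_le.mpr (fun a ha b hb =>
    K.mul_mem (K.mul_mem (K.mul_mem ha hb) (K.inv_mem ha)) (K.inv_mem hb))

/-- the index of the derived subgroup of `K / M` -/
theorem index_commutator_quot {X : Type*} [Group X] (K M H₁ : Subgroup X) (hMK : M ≤ K)
    [hMn : (M.subgroupOf K).Normal] (hH₁ : H₁ = ⁅K, K⁆ ⊔ M) :
    (commutator (↥K ⧸ M.subgroupOf K)).index = H₁.relIndex K := by
  have hsurj := QuotientGroup.mk'_surjective (M.subgroupOf K)
  have e1 : (⁅K, K⁆ : Subgroup X).subgroupOf K = commutator K := by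
    apply Subgroup.map_injective K.subtype_injective
    rw [Subgroup.subgroupOf_map_subtype, inf_eq_left.mpr (commutator_self_le K), commutator_def,
      Subgroup.map_commutator, ← MonoidHom.range_eq_map, Subgroup.range_subtype]
  have e2 : commutator (↥K ⧸ M.subgroupOf K) =
      (commutator K).map (QuotientGroup.mk' (M.subgroupOf K)) := by
    rw [commutator_def, commutator_def, Subgroup.map_commutator,
      Subgroup.map_top_of_surjective _ hsurj]
  rw [← Subgroup.index_comap_of_surjective (commutator (↥K ⧸ M.subgroupOf K)) hsurj, e2,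
    Subgroup.comap_map_eq, QuotientGroup.ker_mk', Subgroup.relIndex, hH₁,
    Subgroup.subgroupOf_sup (commutator_self_le K) hMK, e1]

/-- if `K / M` is nilpotent with abelianization of prime order then `K / M` is abelian -/
theorem comm_le_of_prime_index {X : Type*} [Group X] [Finite X] (K M H₁ : Subgroup X)
    (hMK : M ≤ K) [hMn : (M.subgroupOf K).Normal]
    (hnil : Group.IsNilpotent (↥K ⧸ M.subgroupOf K)) (hH₁ : H₁ = ⁅K, K⁆ ⊔ M)
    (hp : (H₁.relIndex K).Prime) : ⁅K, K⁆ ≤ M := by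
  have h1 := index_commutator_quot K M H₁ hMK hH₁
  have h2 : Nat.card ((↥K ⧸ M.subgroupOf K) ⧸ commutator (↥K ⧸ M.subgroupOf K)) =
      H₁.relIndex K := h1
  have : Fact (H₁.relIndex K).Prime := ⟨hp⟩
  have hcyc : IsCyclic ((↥K ⧸ M.subgroupOf K) ⧸ commutator (↥K ⧸ M.subgroupOf K)) :=
    isCyclic_of_prime_card h2
  have hcomm := nilpotent_comm_of_cyclic hcyc
  rw [Subgroup.commutator_le]
  intro x hx y hy
  have h3 := hcomm (QuotientGroup.mk' (M.subgroupOf K) ⟨x, hx⟩)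
    (QuotientGroup.mk' (M.subgroupOf K) ⟨y, hy⟩)
  have h4 : QuotientGroup.mk' (M.subgroupOf K) ⁅(⟨x, hx⟩ : K), ⟨y, hy⟩⁆ = 1 := by
    rw [map_commutatorElement, commutatorElement_def, h3]
    group
  rw [QuotientGroup.mk'_apply, QuotientGroup.eq_one_iff, Subgroup.mem_subgroupOf] at h4
  exact h4

/-- two distinct primes dividing `[K : H₁]` (with `K / H₁` abelian) give a normal subgroup strictly
between `H₁` and `K` -/
theorem exists_intermediate {X : Type*} [Group X] [Finite X] (H₁ K : Subgroup X) [hH₁ : H₁.Normal]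
    [hK : K.Normal] (hH₁K : H₁ ≤ K) (hab : ∀ x ∈ K, ∀ y ∈ K, x * y * x⁻¹ * y⁻¹ ∈ H₁)
    (p q : ℕ) (hp : p.Prime) (hq : q.Prime) (hpq : p ≠ q) (hpd : p ∣ H₁.relIndex K)
    (hqd : q ∣ H₁.relIndex K) : ∃ N : Subgroup X, N.Normal ∧ H₁ < N ∧ N < K := by
  obtain ⟨π, hπ⟩ : ∃ π : X →* X ⧸ H₁, π = QuotientGroup.mk' H₁ := ⟨_, rfl⟩
  have hsurj : Function.Surjective π := hπ ▸ QuotientGroup.mk'_surjective H₁
  have hπ1 : ∀ x : X, π x = 1 ↔ x ∈ H₁ := by
    intro x
    rw [hπ]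
    exact QuotientGroup.eq_one_iff x
  have hker : π.ker = H₁ := by
    rw [hπ]
    exact QuotientGroup.ker_mk' H₁
  have hKn : (K.map π).Normal := Subgroup.Normal.map hK π hsurj
  have hcomm : ∀ a ∈ K.map π, ∀ b ∈ K.map π, a * b = b * a := by
    rintro _ ⟨x, hx, rfl⟩ _ ⟨y, hy, rfl⟩
    have h2 := (hπ1 _).mpr (hab x hx y hy)
    rw [map_mul, map_mul, map_mul, map_inv, map_inv] at h2
    calc π x * π y = (π x * π y * (π x)⁻¹ * (π y)⁻¹) * (π y * π x) := by group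
      _ = π y * π x := by rw [h2, one_mul]
  have hcard : Nat.card (K.map π) = H₁.relIndex K := by
    have h5 := Subgroup.relIndex_ker (K := K) π
    rw [hker] at h5
    exact h5.symm
  -- the `p`-torsion
  obtain ⟨T, hT⟩ : ∃ T : Subgroup (X ⧸ H₁), ∀ a, a ∈ T ↔ a ∈ K.map π ∧ a ^ p = 1 := by
    refine ⟨{ carrier := {a | a ∈ K.map π ∧ a ^ p = 1}
              mul_mem' := ?_
              one_mem' := ⟨Subgroup.one_mem _, one_pow _⟩
              inv_mem' := ?_ }, fun a => Iff.rfl⟩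
    · rintro a b ⟨ha, ha'⟩ ⟨hb, hb'⟩
      refine ⟨Subgroup.mul_mem _ ha hb, ?_⟩
      have hc : Commute a b := hcomm a ha b hb
      rw [hc.mul_pow, ha', hb', one_mul]
    · rintro a ⟨ha, ha'⟩
      exact ⟨Subgroup.inv_mem _ ha, by rw [inv_pow, ha', inv_one]⟩
  have hTn : T.Normal := by
    refine ⟨fun a ha g => ?_⟩
    rw [hT] at ha ⊢
    refine ⟨hKn.conj_mem a ha.1 g, ?_⟩
    rw [conj_pow, ha.2]
    group
  refine ⟨T.comap π, Subgroup.Normal.comap hTn π, ?_, ?_⟩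
  · -- `H₁ < N`
    have : Fact p.Prime := ⟨hp⟩
    obtain ⟨y, hy⟩ := exists_prime_orderOf_dvd_card' (G := K.map π) p (hcard ▸ hpd)
    obtain ⟨x, hxK, hxy⟩ := y.2
    have hyo : orderOf (π x) = p := by
      rw [hxy, Subgroup.orderOf_coe, hy]
    refine lt_of_le_of_ne ?_ ?_
    · intro h hh
      rw [Subgroup.mem_comap, hT, (hπ1 h).mpr hh]
      exact ⟨Subgroup.one_mem _, one_pow _⟩
    · intro h
      have hx : x ∈ T.comap π := by
        rw [Subgroup.mem_comap, hT]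
        refine ⟨Subgroup.mem_map_of_mem π hxK, ?_⟩
        rw [← hyo]
        exact pow_orderOf_eq_one _
      rw [← h] at hx
      have h1 := (hπ1 x).mpr hx
      rw [h1, orderOf_one] at hyo
      exact hp.one_lt.ne hyo
  · -- `N < K`
    have : Fact q.Prime := ⟨hq⟩
    obtain ⟨y, hy⟩ := exists_prime_orderOf_dvd_card' (G := K.map π) q (hcard ▸ hqd)
    obtain ⟨x, hxK, hxy⟩ := y.2
    have hyo : orderOf (π x) = q := by
      rw [hxy, Subgroup.orderOf_coe, hy]
    refine lt_of_le_of_ne ?_ ?_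
    · intro z hz
      rw [Subgroup.mem_comap, hT] at hz
      have h1 : z ∈ (K.map π).comap π := hz.1
      rw [Subgroup.comap_map_eq, hker, sup_eq_left.mpr hH₁K] at h1
      exact h1
    · intro h
      have hx : x ∈ T.comap π := h ▸ hxK
      rw [Subgroup.mem_comap, hT] at hx
      have h1 : orderOf (π x) ∣ p := orderOf_dvd_of_pow_eq_one hx.2
      rw [hyo] at h1
      exact hpq ((Nat.prime_dvd_prime_iff_eq hq hp).mp h1).symm

/-- **Peterfalvi (6.5)** -/
theorem coherent_frobenius (K : Subgroup L) [hK : K.Normal] (hsolv : Group.IsSolvable K)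
    (τ : (L → ℂ) → (G → ℂ)) (R : (L → ℂ) → Finset (G → ℂ))
    (hS : Cfsg.IsCoherenceSystem (Cfsg.inducedIrrAbove K ⊥) τ R) (hodd : Odd (Nat.card L))
    (M : Subgroup L) [hMn : M.Normal] (hMK : M ≤ K) [hMKn : (M.subgroupOf K).Normal]
    (hnil : Group.IsNilpotent (↥K ⧸ M.subgroupOf K)) (H₁ : Subgroup L) (hH₁ : H₁ = ⁅K, K⁆ ⊔ M)
    (hH₁K : H₁ < K)
    (hfrob : ∀ k ∈ K, k ∉ H₁ → ∀ x : L, x * k * x⁻¹ * k⁻¹ ∈ H₁ → x ∈ K)
    (hgood : (∃ N : Subgroup L, N.Normal ∧ H₁ < N ∧ N < K) ∨ 4 * K.index ^ 2 + 1 < H₁.relIndex K ∨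
      (¬ ∃ p m : ℕ, p.Prime ∧ M.relIndex K = p ^ m) ∨ ⁅K, K⁆ ≤ M ∨
      (∃ p m : ℕ, p.Prime ∧ M.relIndex K = p ^ m ∧ K.index ∣ p - 1)) :
    Cfsg.IsCoherent (Cfsg.inducedIrrAbove K M) {1}ᶜ τ := by
  have hH₁n : H₁.Normal := by
    rw [hH₁]
    infer_instance
  have hMH₁ : M ≤ H₁ := hH₁ ▸ le_sup_right
  have hab : ∀ x ∈ K, ∀ y ∈ K, x * y * x⁻¹ * y⁻¹ ∈ H₁ := by
    intro x hx y hy
    rw [hH₁]
    apply Subgroup.mem_sup_left
    have := Subgroup.commutator_mem_commutator hx hy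
    rw [commutatorElement_def] at this
    exact this
  have hcohH₁ := coherent_abelian K hsolv τ R hS H₁ hH₁K hab
  have hbigcase : 4 * K.index ^ 2 + 1 < H₁.relIndex K →
      Cfsg.IsCoherent (Cfsg.inducedIrrAbove K M) {1}ᶜ τ := fun h =>
    coherent_of_nilpotent K hsolv τ R hS M H₁ K hMH₁ hH₁K.le le_rfl hnil hcohH₁ h
  have hdcase : ⁅K, K⁆ ≤ M → Cfsg.IsCoherent (Cfsg.inducedIrrAbove K M) {1}ᶜ τ := by
    intro h
    have h1 : H₁ = M := by
      rw [hH₁]
      exact sup_eq_right.mpr h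
    rw [← h1]
    exact hcohH₁
  have hr1 : H₁.relIndex K ≠ 1 := by
    intro h
    rw [Subgroup.relIndex_eq_one] at h
    exact (not_le_of_gt hH₁K) h
  have hr0 : H₁.relIndex K ≠ 0 := Subgroup.index_ne_zero_of_finite (H := H₁.subgroupOf K)
  have hoddK : Odd K.index := Odd.of_dvd_nat hodd (Subgroup.index_dvd_card K)
  rcases hgood with ⟨N, hNn, h1, h2⟩ | h | h | h | ⟨p, m, hp, hpm, hdvd⟩
  · exact hbigcase (big_of_intermediate H₁ N K hodd h1 h2 hab hfrob)
  · exact hbigcase h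
  · obtain ⟨p, hp, hpd⟩ := Nat.exists_prime_and_dvd hr1
    by_cases hall : ∀ q : ℕ, q.Prime → q ∣ H₁.relIndex K → q = p
    · exfalso
      apply h
      refine ⟨p, (M.relIndex K).primeFactorsList.length, hp, ?_⟩
      have hne0 : M.relIndex K ≠ 0 := Subgroup.index_ne_zero_of_finite (H := M.subgroupOf K)
      apply Nat.eq_prime_pow_of_unique_prime_dvd hne0
      intro d hd hdd
      apply hall d hd
      rw [← index_commutator_quot K M H₁ hMK hH₁]
      exact nilpotent_prime_dvd_index_commutator d hd hdd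
    · push Not at hall
      obtain ⟨q, hq, hqd, hqp⟩ := hall
      obtain ⟨N, hNn, h1, h2⟩ := exists_intermediate H₁ K hH₁K.le hab p q hp hq (Ne.symm hqp)
        hpd hqd
      exact hbigcase (big_of_intermediate H₁ N K hodd h1 h2 hab hfrob)
  · exact hdcase h
  · by_cases hbig : 4 * K.index ^ 2 + 1 < H₁.relIndex K
    · exact hbigcase hbig
    · have h1 : H₁.relIndex K ∣ p ^ m := by
        rw [← hpm]
        exact Subgroup.relIndex_dvd_of_le_left K hMH₁
      obtain ⟨j, -, hj⟩ := (Nat.dvd_prime_pow hp).mp h1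
      have hj0 : j ≠ 0 := by
        intro h0
        rw [h0, pow_zero] at hj
        exact hr1 hj
      have hpr : p ∣ H₁.relIndex K := by
        rw [hj]
        exact dvd_pow_self p hj0
      have hpodd : Odd p := Odd.of_dvd_nat hodd (hpr.trans ((Subgroup.relIndex_dvd_card H₁ K).trans
        (Subgroup.card_subgroup_dvd_card K)))
      have h2 := odd_step K.index p hoddK hpodd hp.one_lt.ne' hdvd
      have hepos : 1 ≤ K.index := Nat.pos_of_ne_zero Subgroup.index_ne_zero_of_finite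
      have h3 : p ^ j < p ^ 2 := by
        rw [← hj]
        have h4 : H₁.relIndex K ≤ 4 * K.index ^ 2 + 1 := not_lt.mp hbig
        calc H₁.relIndex K ≤ 4 * K.index ^ 2 + 1 := h4
          _ < (2 * K.index + 1) ^ 2 := by nlinarith
          _ ≤ p ^ 2 := Nat.pow_le_pow_left h2 2
      have h5 : j < 2 := (Nat.pow_lt_pow_iff_right hp.one_lt).mp h3
      have hj1 : j = 1 := by omega
      rw [hj1, pow_one] at hj
      exact hdcase (comm_le_of_prime_index K M H₁ hMK hnil hH₁ (hj ▸ hp))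

end Cfsg.Agent.Lib.Helper11.SeqIndFrob
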