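import Mathlib
import Cfsg.Agent.S0850
import Cfsg.Agent.Lib.Helper11.TIFN
import Cfsg.Agent.Lib.Helper11.Clifford
import Cfsg.Agent.Lib.helper2.CenterIndex

set_option autoImplicit false
open scoped ComplexConjugate

namespace Cfsg.Agent.Lib.Helper11.SibFacts

open Cfsg.Agent.Lib.helper7 Cfsg.Agent.Lib.helper2 Cfsg.Agent.Lib.Helper25
open Cfsg.Agent.Lib.Helper11

/-- an irreducible character that is not constant on the normal subgroup `Z` sums to zero
over `Z` -/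
theorem nontriv_sum_zero {N : Type*} [Group N] [Fintype N] (Z : Subgroup N) [hZ : Z.Normal]
    [Fintype Z] {χ : N → ℂ} (hχ : χ ∈ tifnSet Z) : ∑ z : Z, χ z = 0 := by
  classical
  by_contra hne
  have := Fintype.ofFinite (Cfsg.IrrCharacter Z)
  have hZne : (Nat.card Z : ℂ) ≠ 0 := by exact_mod_cast Nat.card_pos.ne'
  have h1 : Cfsg.classInner (fun z : Z => χ z) (trivIrr Z : Z → ℂ) ≠ 0 := by
    unfold Cfsg.classInner
    simp only [trivIrr_apply, map_one, mul_one]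
    exact mul_ne_zero (inv_ne_zero hZne) hne
  obtain ⟨m, hm, hexp⟩ := isCharacter_expansion
    (isCharacter_restrict (h7_irr_isCharacter hχ.1) Z)
  have hzero : ∀ φ : Cfsg.IrrCharacter Z, φ ≠ trivIrr Z → m φ = 0 := by
    intro φ hφ
    by_contra hmφ
    have h2 : Cfsg.classInner (fun z : Z => χ z) (φ : Z → ℂ) ≠ 0 := by
      rw [hm φ]
      exact_mod_cast hmφ
    obtain ⟨k, hk⟩ := clifford_conj Z χ hχ.1 (trivIrr Z : Z → ℂ) (φ : Z → ℂ) (trivIrr Z).2 φ.2
      h1 h2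
    apply hφ
    apply Subtype.ext
    rw [hk]
    funext z
    rw [cj_apply]
    rfl
  have hval : ∀ z : Z, χ z = (m (trivIrr Z) : ℂ) := by
    intro z
    have h3 := congrFun hexp z
    rw [h3, Finset.sum_apply, Finset.sum_eq_single (trivIrr Z)]
    · simp
    · intro φ _ hφ
      rw [hzero φ hφ]
      simp
    · intro h
      exact absurd (Finset.mem_univ _) h
  obtain ⟨k, hk, hkne⟩ := hχ.2
  apply hkne
  have e1 := hval ⟨k, hk⟩
  have e2 := hval 1
  simp only [Subgroup.coe_one] at e1 e2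
  rw [e1, e2]

/-- sum of squared degrees of the irreducible characters not constant on a normal subgroup -/
theorem nontriv_sum_sq {N : Type*} [Group N] [Fintype N] [Fintype (Cfsg.IrrCharacter N)]
    (Z : Subgroup N) [hZ : Z.Normal]
    [DecidablePred fun ζ : Cfsg.IrrCharacter N => (ζ : N → ℂ) ∈ tifnSet Z] :
    ∑ ζ : Cfsg.IrrCharacter N,
      (if (ζ : N → ℂ) ∈ tifnSet Z then (ζ : N → ℂ) 1 * (ζ : N → ℂ) 1 else 0) =
      (Z.index : ℂ) * ((Nat.card Z : ℂ) - 1) := by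
  classical
  have := Fintype.ofFinite Z
  have hKne : (Nat.card Z : ℂ) ≠ 0 := by exact_mod_cast Nat.card_pos.ne'
  have h1 : ∑ k : Z, ∑ ζ : Cfsg.IrrCharacter N, (ζ : N → ℂ) 1 * (ζ : N → ℂ) k =
      (Nat.card N : ℂ) := by
    rw [Finset.sum_eq_single (1 : Z)]
    · exact irr_sum_deg_sq
    · intro k _ hk
      apply irr_sum_deg_mul
      intro h
      apply hk
      exact Subtype.ext h
    · intro h
      exact absurd (Finset.mem_univ _) h
  rw [Finset.sum_comm] at h1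
  have h2 : ∀ ζ : Cfsg.IrrCharacter N, ∑ k : Z, (ζ : N → ℂ) 1 * (ζ : N → ℂ) k =
      if (ζ : N → ℂ) ∈ tifnSet Z then 0 else
        (Nat.card Z : ℂ) * ((ζ : N → ℂ) 1 * (ζ : N → ℂ) 1) := by
    intro ζ
    rw [← Finset.mul_sum]
    split_ifs with hζ
    · rw [nontriv_sum_zero Z hζ, mul_zero]
    · rw [Finset.sum_congr rfl (fun (k : Z) _ => tifn_not_mem Z ζ hζ (k : N) k.2), Finset.sum_const,
        Finset.card_univ, nsmul_eq_mul, Nat.card_eq_fintype_card]
      ring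
  rw [Finset.sum_congr rfl (fun ζ _ => h2 ζ)] at h1
  have hA : ∑ ζ : Cfsg.IrrCharacter N,
      (if (ζ : N → ℂ) ∈ tifnSet Z then (ζ : N → ℂ) 1 * (ζ : N → ℂ) 1 else 0) +
      ∑ ζ : Cfsg.IrrCharacter N,
      (if (ζ : N → ℂ) ∈ tifnSet Z then 0 else (ζ : N → ℂ) 1 * (ζ : N → ℂ) 1) =
      (Nat.card N : ℂ) := by
    rw [← irr_sum_deg_sq (N := N), ← Finset.sum_add_distrib]
    apply Finset.sum_congr rfl
    intro ζ _
    split_ifs <;> simp
  have hB : (Nat.card Z : ℂ) * ∑ ζ : Cfsg.IrrCharacter N,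
      (if (ζ : N → ℂ) ∈ tifnSet Z then 0 else (ζ : N → ℂ) 1 * (ζ : N → ℂ) 1) =
      (Nat.card N : ℂ) := by
    rw [← h1, Finset.mul_sum]
    apply Finset.sum_congr rfl
    intro ζ _
    split_ifs <;> simp
  have hidx : (Nat.card N : ℂ) = (Z.index : ℂ) * (Nat.card Z : ℂ) := by
    rw [← Subgroup.index_mul_card Z]; push_cast; ring
  rw [hidx] at hA hB
  have hB' : ∑ ζ : Cfsg.IrrCharacter N,
      (if (ζ : N → ℂ) ∈ tifnSet Z then 0 else (ζ : N → ℂ) 1 * (ζ : N → ℂ) 1) = (Z.index : ℂ) := by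
    apply mul_left_cancel₀ hKne
    rw [hB]
    ring
  rw [hB'] at hA
  linear_combination hA

/-- the centre bound: `θ(1)² |Z| ≤ |K|` for an irreducible character `θ` of `K` and a central
subgroup `Z` -/
theorem center_bound {K : Type*} [Group K] [Fintype K] (θ : K → ℂ) (hθ : Cfsg.IsIrrCharacter K θ)
    (Z : Subgroup K) (hZ : Z ≤ Subgroup.center K) (t : ℕ) (ht : θ 1 = (t : ℂ)) :
    t ^ 2 * Nat.card Z ≤ Nat.card K := by
  classical
  have := Fintype.ofFinite Z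
  obtain ⟨n, ρ, hρ, hχ⟩ := hθ
  haveI := hρ
  have hn : (t : ℂ) = (n : ℂ) := by
    rw [← ht, ← hχ, Representation.char_one]
    simp
  have htn : t = n := by exact_mod_cast hn
  -- values on Z have norm t
  have hval : ∀ z : Z, ‖θ z‖ = (t : ℝ) := by
    intro z
    obtain ⟨c, hc, hcz⟩ := center_scalar ρ (z : K) (hZ z.2)
    rw [← hχ]
    unfold Representation.character
    rw [hcz, map_smul, LinearMap.trace_id, smul_eq_mul, norm_mul, hc, one_mul]
    simp [htn]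
  -- the norm relation
  have hnorm : ∑ k : K, ‖θ k‖ ^ 2 = (Nat.card K : ℝ) := by
    have h1 := irr_classInner (⟨θ, ⟨n, ρ, hρ, hχ⟩⟩ : Cfsg.IrrCharacter K)
      (⟨θ, ⟨n, ρ, hρ, hχ⟩⟩ : Cfsg.IrrCharacter K)
    rw [if_pos rfl] at h1
    unfold Cfsg.classInner at h1
    have hKne : (Nat.card K : ℂ) ≠ 0 := by exact_mod_cast Nat.card_pos.ne'
    have h2 : ∑ k : K, θ k * conj (θ k) = (Nat.card K : ℂ) := by
      field_simp at h1
      exact h1
    have h3 : ∀ k : K, θ k * conj (θ k) = ((‖θ k‖ ^ 2 : ℝ) : ℂ) := by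
      intro k
      rw [Complex.mul_conj, Complex.normSq_eq_norm_sq]
    rw [Finset.sum_congr rfl (fun k _ => h3 k)] at h2
    have h4 : ((∑ k : K, ‖θ k‖ ^ 2 : ℝ) : ℂ) = ((Nat.card K : ℝ) : ℂ) := by
      push_cast
      push_cast at h2
      exact h2
    exact_mod_cast h4
  have hsub : ∑ z : Z, ‖θ z‖ ^ 2 ≤ ∑ k : K, ‖θ k‖ ^ 2 := by
    have h5 : ∑ z : Z, ‖θ z‖ ^ 2 = ∑ k ∈ (Finset.univ : Finset Z).image (fun z : Z => (z : K)),
        ‖θ k‖ ^ 2 := by
      rw [Finset.sum_image]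
      intro a _ b _ hab
      exact Subtype.ext hab
    rw [h5]
    apply Finset.sum_le_sum_of_subset_of_nonneg (Finset.subset_univ _)
    intro k _ _
    positivity
  rw [hnorm, Finset.sum_congr rfl (fun z _ => by rw [hval z]), Finset.sum_const,
    Finset.card_univ, nsmul_eq_mul, ← Nat.card_eq_fintype_card] at hsub
  have : ((t ^ 2 * Nat.card Z : ℕ) : ℝ) ≤ ((Nat.card K : ℕ) : ℝ) := by
    push_cast
    linarith
  exact_mod_cast this

/-- degrees of the characters induced from a Frobenius kernel that is a `p`-group -/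
theorem tifn_degree_ppow {N : Type*} [Group N] [Fintype N] (K : Subgroup N) [K.Normal]
    (hC : ∀ k ∈ K, k ≠ 1 → Subgroup.centralizer ({k} : Set N) ≤ K)
    (p : ℕ) [hp : Fact p.Prime] (hKp : IsPGroup p K) (Z : Subgroup N) (hZK : Z ≤ K)
    (hZc : ∀ z ∈ Z, ∀ k ∈ K, z * k = k * z) {χ : N → ℂ} (hχ : χ ∈ tifnSet K) :
    ∃ i : ℕ, χ 1 = ((K.index * p ^ i : ℕ) : ℂ) ∧ p ^ (2 * i) * Nat.card Z ≤ Nat.card K := by
  classical
  obtain ⟨θ, hθ, rfl⟩ := tifn_induced K hC hχ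
  obtain ⟨t, ht, h1, h2⟩ := irr_degree_dvd_card (⟨θ, hθ⟩ : Cfsg.IrrCharacter K)
  obtain ⟨n, hn⟩ := (IsPGroup.iff_card).mp hKp
  rw [hn] at h2
  obtain ⟨i, -, hi⟩ := (Nat.dvd_prime_pow hp.out).mp h2
  refine ⟨i, ?_, ?_⟩
  · rw [h7_indFun_one, show θ 1 = (t : ℂ) from h1, hi]
    push_cast
    ring
  · have := Fintype.ofFinite K
    have hcen : Z.subgroupOf K ≤ Subgroup.center K := by
      intro z hz
      rw [Subgroup.mem_center_iff]
      intro k
      apply Subtype.ext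
      have := hZc (z : N) (Subgroup.mem_subgroupOf.mp hz) (k : N) k.2
      simp only [Subgroup.coe_mul]
      exact this.symm
    have hb := center_bound θ hθ (Z.subgroupOf K) hcen t h1
    have hcard : Nat.card (Z.subgroupOf K) = Nat.card Z :=
      Nat.card_congr (Subgroup.subgroupOfEquivOfLe hZK).toEquiv
    rw [hcard, hi, ← pow_mul, mul_comm i 2] at hb
    exact hb

end Cfsg.Agent.Lib.Helper11.SibFacts
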