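import Mathlib
import Cfsg.Agent.Lib.Helper11.CoherentExt
import Cfsg.Agent.Lib.Helper11.SeqIndFrob

set_option autoImplicit false
open scoped ComplexConjugate

namespace Cfsg.Agent.Lib.Helper11.SibLevels

open Cfsg.Agent.Lib.helper7 Cfsg.Agent.Lib.helper2 Cfsg.Agent.Lib.Helper25
open Cfsg.Agent.Lib.Helper11 Cfsg.Agent.Lib.Helper11.SeqIndFrob

/-- partial sums of `p`-power squares: divisibility -/
theorem sum_lt_dvd {ι : Type*} [DecidableEq ι] (X : Finset ι) (b : ι → ℕ) (p : ℕ) (m : ℕ)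
    (hdiv : p ^ (2 * m) ∣ ∑ φ ∈ X, p ^ (2 * b φ)) :
    p ^ (2 * m) ∣ ∑ φ ∈ X.filter (fun φ => b φ < m), p ^ (2 * b φ) := by
  have hsplit := Finset.sum_filter_add_sum_filter_not X (fun φ => b φ < m)
    (fun φ => p ^ (2 * b φ))
  have h2 : p ^ (2 * m) ∣ ∑ φ ∈ X.filter (fun φ => ¬ b φ < m), p ^ (2 * b φ) := by
    apply Finset.dvd_sum
    intro φ hφ
    have := (Finset.mem_filter.mp hφ).2
    apply pow_dvd_pow
    omega
  rw [← hsplit] at hdiv
  exact (Nat.dvd_add_left h2).mp hdiv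

variable {L : Type*} [Group L] [Fintype L] {G : Type*} [Group G] [Fintype G]
  {S : Set (L → ℂ)} {τ : (L → ℂ) → (G → ℂ)} {R : (L → ℂ) → Finset (G → ℂ)}

/-- Coherence of a family of irreducible characters whose degrees are `e` times powers of an odd
prime `p`, when the sum of the squared `p`-parts is divisible by each squared `p`-part. -/
theorem coherent_of_ppower (hS : Cfsg.IsCoherenceSystem S τ R) (d : (L → ℂ) → ℕ)
    (hd : ∀ φ ∈ S, φ 1 = (d φ : ℂ))
    (X : Finset (L → ℂ)) (hXS : (↑X : Set (L → ℂ)) ⊆ S) (hXc : ∀ φ ∈ X, Cfsg.conjFun φ ∈ X)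
    (hXne : X.Nonempty) (hXn : ∀ φ ∈ X, Cfsg.classInner φ φ = 1)
    (p e : ℕ) (hp : p.Prime) (hp2 : p ≠ 2) (he : 0 < e)
    (b : (L → ℂ) → ℕ) (hdeg : ∀ φ ∈ X, d φ = e * p ^ (b φ))
    (hdiv : ∀ χ ∈ X, p ^ (2 * b χ) ∣ ∑ φ ∈ X, p ^ (2 * b φ)) :
    Cfsg.IsCoherent (↑X : Set (L → ℂ)) {1}ᶜ τ := by
  classical
  have hp3 : 3 ≤ p := by
    have := hp.two_le
    omega
  have hp1 : 1 < p := hp.one_lt
  -- conjugation preserves the exponent
  have hbconj : ∀ φ ∈ X, b (Cfsg.conjFun φ) = b φ := by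
    intro φ hφ
    have h1 : (d (Cfsg.conjFun φ) : ℂ) = (d φ : ℂ) := by
      rw [← hd _ (hXS (hXc φ hφ)), ← hd _ (hXS hφ),
        conjFun_one_of_isCharacter (hS.isCharacter φ (hXS hφ))]
    have h2 : d (Cfsg.conjFun φ) = d φ := by exact_mod_cast h1
    rw [hdeg _ (hXc φ hφ), hdeg φ hφ] at h2
    have h3 : p ^ b (Cfsg.conjFun φ) = p ^ b φ := Nat.eq_of_mul_eq_mul_left he h2
    exact Nat.pow_right_injective hp.two_le h3
  -- norms
  obtain ⟨n, hn⟩ : ∃ n : (L → ℂ) → ℕ, ∀ φ ∈ S, Cfsg.classInner φ φ = (n φ : ℂ) := by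
    obtain ⟨d', n, -, hn⟩ := Cfsg.Agent.Lib.Helper11.SeqIndCoh.exists_deg_norm S hS.isCharacter
    exact ⟨n, hn⟩
  have hn1 : ∀ φ ∈ X, n φ = 1 := by
    intro φ hφ
    have := hn φ (hXS hφ)
    rw [hXn φ hφ] at this
    exact_mod_cast this.symm
  -- the minimal exponent
  obtain ⟨χ₁, hχ₁X, hχ₁min⟩ := Finset.exists_min_image X b hXne
  set i₀ := b χ₁ with hi₀
  -- main claim by strong induction on the cardinality
  have key : ∀ k : ℕ, ∀ T : Finset (L → ℂ), T.card = k → T ⊆ X →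
      (∀ φ ∈ T, Cfsg.conjFun φ ∈ T) → (∀ φ ∈ X, b φ = i₀ → φ ∈ T) →
      (∀ φ ∈ T, ∀ ψ ∈ X, b ψ < b φ → ψ ∈ T) →
      Cfsg.IsCoherent (↑T : Set (L → ℂ)) {1}ᶜ τ := by
    intro k
    induction k using Nat.strong_induction_on with
    | _ k ih =>
      intro T hTk hTX hTc hT0 hTdown
      have hχ₁T : χ₁ ∈ T := hT0 χ₁ hχ₁X rfl
      have hTS : (↑T : Set (L → ℂ)) ⊆ S := fun φ hφ => hXS (hTX hφ)
      obtain ⟨χ, hχT, hχmax⟩ := Finset.exists_max_image T b ⟨χ₁, hχ₁T⟩
      by_cases hlev : b χ = i₀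
      · -- all degrees equal
        have hsys : Cfsg.IsCoherenceSystem (↑T : Set (L → ℂ)) τ R :=
          coherenceSystem_subset hS hTS ⟨χ₁, hχ₁T⟩ (fun φ hφ => hTc φ hφ)
        apply coherent_of_equal_degrees hsys
        intro φ hφ ψ hψ
        have hbφ : b φ = i₀ := le_antisymm (hlev ▸ hχmax φ hφ) (hχ₁min φ (hTX hφ))
        have hbψ : b ψ = i₀ := le_antisymm (hlev ▸ hχmax ψ hψ) (hχ₁min ψ (hTX hψ))
        rw [hd φ (hTS hφ), hd ψ (hTS hψ), hdeg φ (hTX hφ), hdeg ψ (hTX hψ), hbφ, hbψ]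
      · have hlt : i₀ < b χ := lt_of_le_of_ne (hχ₁min χ (hTX hχT)) (Ne.symm hlev)
        have hχX : χ ∈ X := hTX hχT
        have hχS : χ ∈ S := hXS hχX
        have hχcT : Cfsg.conjFun χ ∈ T := hTc χ hχT
        have hχcne : Cfsg.conjFun χ ≠ χ := hS.conj_ne χ hχS
        set T' := (T.erase χ).erase (Cfsg.conjFun χ) with hT'
        have hT'sub : T' ⊆ T := fun φ hφ =>
          Finset.mem_of_mem_erase (Finset.mem_of_mem_erase hφ)
        have hmemT' : ∀ φ, φ ∈ T' ↔ φ ∈ T ∧ φ ≠ χ ∧ φ ≠ Cfsg.conjFun χ := by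
          intro φ
          rw [hT', Finset.mem_erase, Finset.mem_erase]
          tauto
        have hcard : T'.card < k := by
          rw [← hTk]
          calc T'.card ≤ (T.erase χ).card := Finset.card_erase_le
            _ < T.card := Finset.card_erase_lt_of_mem hχT
        have hT'c : ∀ φ ∈ T', Cfsg.conjFun φ ∈ T' := by
          intro φ hφ
          obtain ⟨h1, h2, h3⟩ := (hmemT' φ).mp hφ
          refine (hmemT' _).mpr ⟨hTc φ h1, ?_, ?_⟩
          · intro h
            apply h3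
            rw [← h, conjFun_conjFun]
          · intro h
            apply h2
            have := congrArg Cfsg.conjFun h
            rwa [conjFun_conjFun, conjFun_conjFun] at this
        have hT'0 : ∀ φ ∈ X, b φ = i₀ → φ ∈ T' := by
          intro φ hφ hb
          refine (hmemT' φ).mpr ⟨hT0 φ hφ hb, ?_, ?_⟩
          · intro h
            rw [h] at hb
            omega
          · intro h
            rw [h, hbconj χ hχX] at hb
            omega
        have hT'down : ∀ φ ∈ T', ∀ ψ ∈ X, b ψ < b φ → ψ ∈ T' := by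
          intro φ hφ ψ hψ hlt'
          obtain ⟨h1, -, -⟩ := (hmemT' φ).mp hφ
          have hle := hχmax φ h1
          refine (hmemT' ψ).mpr ⟨hTdown φ h1 ψ hψ hlt', ?_, ?_⟩
          · intro h
            rw [h] at hlt'
            omega
          · intro h
            rw [h, hbconj χ hχX] at hlt'
            omega
        have hcohT' := ih T'.card hcard T' rfl (hT'sub.trans hTX) hT'c hT'0 hT'down
        have hχnT' : χ ∉ T' := fun h => ((hmemT' χ).mp h).2.1 rfl
        have hχcnT' : Cfsg.conjFun χ ∉ T' := fun h => ((hmemT' _).mp h).2.2 rfl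
        have hχ₁T' : χ₁ ∈ T' := hT'0 χ₁ hχ₁X rfl
        have hT'S : (↑T' : Set (L → ℂ)) ⊆ S := fun φ hφ => hTS (hT'sub hφ)
        have hdvd : d χ₁ ∣ d χ := by
          rw [hdeg χ₁ hχ₁X, hdeg χ hχX]
          exact Nat.mul_dvd_mul_left e (pow_dvd_pow p hlt.le)
        -- the inequality
        have hsumge : e ^ 2 * p ^ (2 * b χ) ≤ ∑ φ ∈ T', (d φ) ^ 2 := by
          have h1 : X.filter (fun φ => b φ < b χ) ⊆ T' := by
            intro φ hφ
            obtain ⟨hφX, hφlt⟩ := Finset.mem_filter.mp hφ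
            refine (hmemT' φ).mpr ⟨hTdown χ hχT φ hφX hφlt, ?_, ?_⟩
            · intro h
              rw [h] at hφlt
              omega
            · intro h
              rw [h, hbconj χ hχX] at hφlt
              omega
          have h2 : ∑ φ ∈ X.filter (fun φ => b φ < b χ), (d φ) ^ 2 ≤ ∑ φ ∈ T', (d φ) ^ 2 :=
            Finset.sum_le_sum_of_subset h1
          have h3 : ∑ φ ∈ X.filter (fun φ => b φ < b χ), (d φ) ^ 2 =
              e ^ 2 * ∑ φ ∈ X.filter (fun φ => b φ < b χ), p ^ (2 * b φ) := by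
            rw [Finset.mul_sum]
            apply Finset.sum_congr rfl
            intro φ hφ
            rw [hdeg φ (Finset.mem_filter.mp hφ).1, mul_pow, ← pow_mul, mul_comm (b φ) 2]
          have h4 := sum_lt_dvd X b p (b χ) (hdiv χ hχX)
          have h5 : 0 < ∑ φ ∈ X.filter (fun φ => b φ < b χ), p ^ (2 * b φ) := by
            apply Finset.sum_pos
            · intro φ _
              positivity
            · exact ⟨χ₁, Finset.mem_filter.mpr ⟨hχ₁X, hlt⟩⟩
          have h6 := Nat.le_of_dvd h5 h4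
          calc e ^ 2 * p ^ (2 * b χ) ≤
              e ^ 2 * ∑ φ ∈ X.filter (fun φ => b φ < b χ), p ^ (2 * b φ) :=
                Nat.mul_le_mul_left _ h6
            _ = ∑ φ ∈ X.filter (fun φ => b φ < b χ), (d φ) ^ 2 := h3.symm
            _ ≤ _ := h2
        have hstrict : 2 * d χ * d χ₁ < e ^ 2 * p ^ (2 * b χ) := by
          rw [hdeg χ hχX, hdeg χ₁ hχ₁X, ← hi₀]
          obtain ⟨j, hj⟩ : ∃ j, b χ = i₀ + 1 + j := ⟨b χ - i₀ - 1, by omega⟩
          rw [hj]
          have e1 : 2 * (e * p ^ (i₀ + 1 + j)) * (e * p ^ i₀) =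
              e ^ 2 * (p ^ i₀) ^ 2 * p ^ j * (2 * p) := by ring
          have e2 : e ^ 2 * p ^ (2 * (i₀ + 1 + j)) =
              e ^ 2 * (p ^ i₀) ^ 2 * p ^ j * (p ^ j * p ^ 2) := by ring
          rw [e1, e2]
          have hpos : 0 < e ^ 2 * (p ^ i₀) ^ 2 * p ^ j := by positivity
          apply Nat.mul_lt_mul_of_pos_left _ hpos
          have h7 : 1 ≤ p ^ j := Nat.one_le_pow _ _ (by omega)
          nlinarith
        have hineq : (2 * d χ * d χ₁ : ℝ) < ∑ φ ∈ T', ((d φ : ℝ) ^ 2 / (n φ : ℝ)) := by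
          have h1 : ∑ φ ∈ T', ((d φ : ℝ) ^ 2 / (n φ : ℝ)) = ((∑ φ ∈ T', (d φ) ^ 2 : ℕ) : ℝ) := by
            push_cast
            apply Finset.sum_congr rfl
            intro φ hφ
            rw [hn1 φ (hTX (hT'sub hφ))]
            simp
          rw [h1]
          have h2 : 2 * d χ * d χ₁ < ∑ φ ∈ T', (d φ) ^ 2 := lt_of_lt_of_le hstrict hsumge
          exact_mod_cast h2
        have hext := coherent_extend hS d n hd hn T' hT'S hT'c hcohT' χ hχS hχnT' hχcnT' χ₁
          hχ₁T' hdvd hineq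
        have hTeq : (↑T : Set (L → ℂ)) = ↑T' ∪ {χ, Cfsg.conjFun χ} := by
          ext φ
          simp only [Finset.mem_coe, Set.mem_union, Set.mem_insert_iff, Set.mem_singleton_iff]
          rw [hmemT']
          constructor
          · intro h
            by_cases h1 : φ = χ
            · exact Or.inr (Or.inl h1)
            · by_cases h2 : φ = Cfsg.conjFun χ
              · exact Or.inr (Or.inr h2)
              · exact Or.inl ⟨h, h1, h2⟩
          · rintro (⟨h, -, -⟩ | h | h)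
            · exact h
            · exact h ▸ hχT
            · exact h ▸ hχcT
        rw [hTeq]
        exact hext
  exact key X.card X rfl (Finset.Subset.refl X) hXc (fun φ hφ _ => hφ) (fun _ _ ψ hψ _ => hψ)

end Cfsg.Agent.Lib.Helper11.SibLevels
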