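import Mathlib
import Cfsg.Prelude.Def_OddOrderLocal
import Cfsg.Agent.S0850
import Cfsg.Agent.S0161
import Cfsg.Agent.S1514
import Cfsg.Agent.Lib.Helper25.CharReal
import Cfsg.Agent.Lib.Helper11.TIFNStar
import Cfsg.Agent.Lib.Helper11.IndTrans
import Cfsg.Agent.Lib.helper2.CharInd

set_option autoImplicit false
open scoped ComplexConjugate

namespace Cfsg.Agent.Lib.Helper11.SibSetup

open Cfsg.Agent.Lib.helper7 Cfsg.Agent.Lib.helper2 Cfsg.Agent.Lib.Helper25
open Cfsg.Agent.Lib.Helper11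

/-- Abstract TI-Frobenius data: `K` is a normal subgroup of `N ≤ G` containing the centralizers
in `N` of its non-identity elements, and induction from `N` to `G` restricts back to the identity
on class functions supported on `K \ {1}`. -/
structure TIF {G : Type*} [Group G] [Fintype G] (N : Subgroup G) [Fintype N]
    (K : Subgroup N) : Prop where
  normal : K.Normal
  hC : ∀ k ∈ K, k ≠ 1 → Subgroup.centralizer ({k} : Set N) ≤ K
  hind : ∀ ϑ : N → ℂ, Cfsg.IsClassFunction N ϑ → (∀ x : N, x ∉ K → ϑ x = 0) → ϑ 1 = 0 →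
    ∀ x : N, Cfsg.indFun N ϑ x = ϑ x

/-- the TI hypotheses give the abstract data -/
theorem tif_of_TI {G : Type*} [Group G] [Fintype G] (K : Subgroup G)
    (hTI : Cfsg.IsTISubset (K : Set G))
    (hC : ∀ k ∈ K, k ≠ 1 → Subgroup.centralizer ({k} : Set G) ≤ K)
    [Fintype ↥(Subgroup.normalizer (K : Set G))] :
    TIF (Subgroup.normalizer (K : Set G)) (K.subgroupOf (Subgroup.normalizer (K : Set G))) := by
  have hTI' : ∀ g : G, g ∉ Subgroup.normalizer (K : Set G) → ∀ k ∈ K, g * k * g⁻¹ ∈ K → k = 1 :=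
    fun g hg k hk h => hTI g hg k hk h
  have hp1 := Cfsg.Agent.S0850.part_one K hTI' hC
  exact
    { normal := Subgroup.normal_in_normalizer
      hC := by
        intro k hk hk1 x hx
        rw [Subgroup.mem_subgroupOf] at hk ⊢
        have hk1' : (k : G) ≠ 1 := fun h => hk1 (Subtype.ext h)
        apply hC (k : G) hk hk1'
        rw [Subgroup.mem_centralizer_iff] at hx ⊢
        intro y hy
        rw [Set.mem_singleton_iff] at hy
        subst hy
        have := congrArg Subtype.val (hx k (Set.mem_singleton k))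
        simpa using this
      hind := fun ϑ hc h0 h1 x => Cfsg.Agent.S0850.part_two K _ hTI' hp1 ϑ hc h0 h1 x }

section

variable {G : Type*} [Group G] [Fintype G] {N : Subgroup G} [Fintype N] {K : Subgroup N}

theorem tif_zspan_vanish (h : TIF N K) {α : N → ℂ}
    (hα : α ∈ Cfsg.zspan (tifnSet K)) (x : N) (hx : x ∉ K) : α x = 0 := by
  have := h.normal
  induction hα using Submodule.span_induction with
  | mem χ hχ => exact tifn_vanish K h.hC hχ x hx
  | zero => rfl
  | add a b _ _ iha ihb => rw [Pi.add_apply, iha, ihb, add_zero]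
  | smul n a _ iha => rw [Pi.smul_apply, iha, smul_zero]

theorem tif_ind_apply (h : TIF N K) {α : N → ℂ}
    (hα : α ∈ Cfsg.zspanOn (tifnSet K) ({1}ᶜ : Set N)) (x : N) :
    Cfsg.indFun N α x = α x :=
  h.hind α (tifn_zspan_class hα.1) (tif_zspan_vanish h hα.1) (hα.2 1 (by simp)) x

omit [Fintype G] [Fintype N] in
theorem zspan_genChar {S : Set (N → ℂ)} (hS : ∀ χ ∈ S, Cfsg.IsCharacter N χ) {α : N → ℂ}
    (hα : α ∈ Cfsg.zspan S) : Cfsg.IsGeneralizedCharacter N α := by
  induction hα using Submodule.span_induction with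
  | mem χ hχ => exact ⟨χ, 0, hS χ hχ, isCharacter_zero N, by simp⟩
  | zero => exact genChar_zero N
  | add a b _ _ iha ihb => exact genChar_add iha ihb
  | smul n a _ iha => exact genChar_zsmul n iha

theorem indFun_genChar (N : Subgroup G) [Fintype N] {α : N → ℂ}
    (hα : Cfsg.IsGeneralizedCharacter N α) : Cfsg.IsGeneralizedCharacter G (Cfsg.indFun N α) := by
  obtain ⟨χ, ψ, hχ, hψ, rfl⟩ := hα
  refine ⟨_, _, isCharacter_indFun N χ hχ, isCharacter_indFun N ψ hψ, ?_⟩
  have h1 : χ - ψ = χ + (-1 : ℂ) • ψ := by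
    funext x
    simp [sub_eq_add_neg]
  rw [h1, indFun_add, indFun_smul]
  funext x
  simp [sub_eq_add_neg]

theorem indFun_zsmul (N : Subgroup G) [Fintype N] (n : ℤ) (α : N → ℂ) :
    Cfsg.indFun N (n • α) = n • Cfsg.indFun N α := by
  rw [← Int.cast_smul_eq_zsmul ℂ n α, indFun_smul, Int.cast_smul_eq_zsmul]

theorem tif_isometry (h : TIF N K) :
    Cfsg.IsLinearIsometryOn (Cfsg.zspanOn (tifnSet K) ({1}ᶜ : Set N)) (Cfsg.indFun N) := by
  refine ⟨fun α _ β _ => indFun_add N α β, fun α _ n => indFun_zsmul N n α, ?_, ?_⟩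
  · intro α hα β hβ
    rw [h7_frobenius_reciprocity N α _ (h7_indFun_isClassFunction N β)]
    congr 1
    funext x
    exact tif_ind_apply h hβ x
  · intro α hα
    apply indFun_genChar
    exact zspan_genChar (fun χ hχ => h7_irr_isCharacter hχ.1) hα.1

theorem tif_map_one (h : TIF N K) (α : N → ℂ)
    (hα : α ∈ Cfsg.zspanOn (tifnSet K) ({1}ᶜ : Set N)) : Cfsg.indFun N α 1 = 0 := by
  have := tif_ind_apply h hα 1
  simp only [Subgroup.coe_one] at this
  rw [this]
  exact hα.2 1 (by simp)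

theorem tifn_conj_mem {N : Type*} [Group N] [Finite N] (K : Subgroup N) {χ : N → ℂ}
    (hχ : χ ∈ tifnSet K) : Cfsg.conjFun χ ∈ tifnSet K := by
  obtain ⟨hirr, k, hk, hne⟩ := hχ
  refine ⟨(irrConj ⟨χ, hirr⟩).2, k, hk, ?_⟩
  intro h
  apply hne
  have := congrArg conj h
  simpa [Cfsg.conjFun] using this

theorem tifn_conj_ne {N : Type*} [Group N] [Finite N] (K : Subgroup N)
    (hodd : Odd (Nat.card N)) {χ : N → ℂ} (hχ : χ ∈ tifnSet K) : Cfsg.conjFun χ ≠ χ := by
  obtain ⟨hirr, k, hk, hne⟩ := hχ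
  intro h
  apply hne
  have hreal : ∀ g : N, (χ g).im = 0 := by
    intro g
    have := congrFun h g
    exact Complex.conj_eq_iff_im.mp this
  have := Cfsg.Agent.S0161.result hodd ⟨χ, hirr⟩ hreal
  have h1 : χ = fun _ => 1 := this
  rw [h1]

theorem tifn_nonempty {N : Type*} [Group N] [Fintype N] (K : Subgroup N) (hK : K ≠ ⊥) :
    (tifnSet K).Nonempty := by
  classical
  have := Fintype.ofFinite (Cfsg.IrrCharacter N)
  obtain ⟨k, hk1⟩ := (Subgroup.ne_bot_iff_exists_ne_one).mp hK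
  by_contra hempty
  rw [Set.not_nonempty_iff_eq_empty] at hempty
  have h1 := irr_sum_deg_mul (N := N) (k : N) (fun h => hk1 (Subtype.ext h))
  have h2 := irr_sum_deg_sq (N := N)
  have h3 : ∀ ζ : Cfsg.IrrCharacter N, (ζ : N → ℂ) (k : N) = (ζ : N → ℂ) 1 := by
    intro ζ
    apply tifn_not_mem K ζ _ (k : N) k.2
    rw [hempty]
    exact Set.notMem_empty _
  rw [Finset.sum_congr rfl (fun ζ _ => by rw [h3 ζ]), h2] at h1
  have : (Nat.card N : ℂ) ≠ 0 := by exact_mod_cast Nat.card_pos.ne'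
  exact this h1

theorem tif_system (h : TIF N K) (hodd : Odd (Nat.card N)) (hK : K ≠ ⊥) :
    ∃ R : (N → ℂ) → Finset (G → ℂ), Cfsg.IsCoherenceSystem (tifnSet K) (Cfsg.indFun N) R :=
  Cfsg.Agent.S1514.result (tifnSet K) (tifn_nonempty K hK) (fun χ hχ => hχ.1)
    (fun χ hχ => ⟨tifn_conj_mem K hχ, tifn_conj_ne K hodd hχ⟩) (Cfsg.indFun N) (tif_isometry h)
    (tif_map_one h)

end

end Cfsg.Agent.Lib.Helper11.SibSetup
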