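import Mathlib
import Cfsg.Agent.Lib.Helper11.SibSetup
import Cfsg.Agent.Lib.Helper11.SibFacts
import Cfsg.Agent.Lib.Helper11.SibLevels

set_option autoImplicit false
open scoped ComplexConjugate

namespace Cfsg.Agent.Lib.Helper11.SibCentral

open Cfsg.Agent.Lib.helper7 Cfsg.Agent.Lib.helper2 Cfsg.Agent.Lib.Helper25
open Cfsg.Agent.Lib.Helper11 Cfsg.Agent.Lib.Helper11.SibSetup Cfsg.Agent.Lib.Helper11.SibFacts
  Cfsg.Agent.Lib.Helper11.SibLevels

theorem tifnSet_finite {N : Type*} [Group N] [Finite N] (K : Subgroup N) : (tifnSet K).Finite := by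
  have := Fintype.ofFinite (Cfsg.IrrCharacter N)
  apply Set.Finite.subset (Set.finite_range (fun ζ : Cfsg.IrrCharacter N => (ζ : N → ℂ)))
  intro χ hχ
  exact ⟨⟨χ, hχ.1⟩, rfl⟩

theorem tifnSet_mono {N : Type*} [Group N] {Z K : Subgroup N} (h : Z ≤ K) :
    tifnSet Z ⊆ tifnSet K := fun _ hχ => ⟨hχ.1, hχ.2.imp fun _ hk => ⟨h hk.1, hk.2⟩⟩

/-- the exponent function: `χ 1 = e * p ^ (expo e p χ)` whenever this is possible -/
noncomputable def expo {N : Type*} [Group N] (e p : ℕ) (χ : N → ℂ) : ℕ :=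
  open Classical in
  if h : ∃ i : ℕ, χ 1 = ((e * p ^ i : ℕ) : ℂ) then Classical.choose h else 0

theorem expo_spec {N : Type*} [Group N] (e p : ℕ) (χ : N → ℂ)
    (h : ∃ i : ℕ, χ 1 = ((e * p ^ i : ℕ) : ℂ)) : χ 1 = ((e * p ^ (expo e p χ) : ℕ) : ℂ) := by
  unfold expo
  rw [dif_pos h]
  exact Classical.choose_spec h

theorem expo_eq {N : Type*} [Group N] (e p : ℕ) (he : 0 < e) (hp : 1 < p) (χ : N → ℂ) (i : ℕ)
    (h : χ 1 = ((e * p ^ i : ℕ) : ℂ)) : expo e p χ = i := by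
  have h1 := expo_spec e p χ ⟨i, h⟩
  rw [h] at h1
  have h2 : e * p ^ i = e * p ^ (expo e p χ) := by exact_mod_cast h1
  have h3 := Nat.eq_of_mul_eq_mul_left he h2
  exact (Nat.pow_right_injective hp h3).symm

section

variable {G : Type*} [Group G] [Fintype G] {N : Subgroup G} [Fintype N] {K : Subgroup N}

/-- **Peterfalvi (6.6)(b)** in the TI-Frobenius setting with a `p`-group kernel: the irreducible
characters of `N` that are not constant on a central normal subgroup `Z` form a coherent set. -/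
theorem coherent_nontriv_central (h : TIF N K) (hodd : Odd (Nat.card N))
    (p : ℕ) [hp : Fact p.Prime] (hKp : IsPGroup p K)
    (Z : Subgroup N) [hZn : Z.Normal] (hZ1 : Z ≠ ⊥) (hZK : Z ≤ K)
    (hZc : ∀ z ∈ Z, ∀ k ∈ K, z * k = k * z) :
    Cfsg.IsCoherent (tifnSet Z) ({1}ᶜ : Set N) (Cfsg.indFun N) := by
  classical
  have := h.normal
  have := Fintype.ofFinite (Cfsg.IrrCharacter N)
  have hK1 : K ≠ ⊥ := by
    intro hK
    apply hZ1
    rw [eq_bot_iff, ← hK]
    exact hZK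
  obtain ⟨R, hsys⟩ := tif_system h hodd hK1
  set e := K.index with he
  have he0 : 0 < e := Nat.pos_of_ne_zero Subgroup.index_ne_zero_of_finite
  have hp1 : 1 < p := hp.out.one_lt
  -- p is odd
  have hKpos : 1 < Nat.card K := by
    rcases Nat.lt_or_ge 1 (Nat.card K) with h1 | h1
    · exact h1
    · exfalso
      apply hK1
      have : Nat.card K = 1 := le_antisymm h1 Nat.card_pos
      exact Subgroup.card_eq_one.mp this
  have hp2 : p ≠ 2 := by
    intro h2
    obtain ⟨n, hn⟩ := (IsPGroup.iff_card).mp hKp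
    have hn0 : n ≠ 0 := by
      intro h0
      rw [h0, pow_zero] at hn
      omega
    have hdvd : 2 ∣ Nat.card N := by
      have h3 : Nat.card K ∣ Nat.card N := Subgroup.card_subgroup_dvd_card K
      rw [hn, h2] at h3
      exact (dvd_pow_self 2 hn0).trans h3
    exact (Nat.not_even_iff_odd.mpr hodd) (even_iff_two_dvd.mpr hdvd)
  -- degrees
  have hdegK : ∀ χ ∈ tifnSet K, χ 1 = ((e * p ^ (expo e p χ) : ℕ) : ℂ) ∧
      p ^ (2 * expo e p χ) * Nat.card Z ≤ Nat.card K := by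
    intro χ hχ
    obtain ⟨i, hi1, hi2⟩ := tifn_degree_ppow K h.hC p hKp Z hZK hZc hχ
    have := expo_eq e p he0 hp1 χ i hi1
    rw [this]
    exact ⟨hi1, hi2⟩
  set d : (N → ℂ) → ℕ := fun χ => e * p ^ (expo e p χ) with hd
  have hdS : ∀ φ ∈ tifnSet K, φ 1 = (d φ : ℂ) := fun φ hφ => (hdegK φ hφ).1
  -- the finite set
  set X : Finset (N → ℂ) := (tifnSet_finite Z).toFinset with hX
  have hXmem : ∀ φ, φ ∈ X ↔ φ ∈ tifnSet Z := fun φ => by rw [hX, Set.Finite.mem_toFinset]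
  have hXcoe : (↑X : Set (N → ℂ)) = tifnSet Z := by
    ext φ
    exact hXmem φ
  have hZsub : tifnSet Z ⊆ tifnSet K := tifnSet_mono hZK
  have hXS : (↑X : Set (N → ℂ)) ⊆ tifnSet K := hXcoe ▸ hZsub
  have hXne : X.Nonempty := by
    obtain ⟨χ, hχ⟩ := tifn_nonempty Z hZ1
    exact ⟨χ, (hXmem χ).mpr hχ⟩
  -- the relative index
  obtain ⟨n, hn⟩ := (IsPGroup.iff_card).mp hKp
  have hrel : Z.relIndex K * Nat.card Z = Nat.card K := by
    have h1 := Subgroup.index_mul_card (Z.subgroupOf K)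
    have hcard : Nat.card (Z.subgroupOf K) = Nat.card Z :=
      Nat.card_congr (Subgroup.subgroupOfEquivOfLe hZK).toEquiv
    rw [hcard] at h1
    exact h1
  have hrelpow : ∃ r, Z.relIndex K = p ^ r := by
    have h1 : Z.relIndex K ∣ p ^ n := by
      rw [← hn, ← hrel]
      exact Dvd.intro _ rfl
    obtain ⟨r, -, hr⟩ := (Nat.dvd_prime_pow hp.out).mp h1
    exact ⟨r, hr⟩
  obtain ⟨r, hr⟩ := hrelpow
  have hZpos : 0 < Nat.card Z := Nat.card_pos
  have hpowdvd : ∀ χ ∈ X, p ^ (2 * expo e p χ) ∣ Z.relIndex K := by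
    intro χ hχ
    have h1 := (hdegK χ (hXS hχ)).2
    rw [← hrel] at h1
    have h2 : p ^ (2 * expo e p χ) ≤ Z.relIndex K := Nat.le_of_mul_le_mul_right h1 hZpos
    rw [hr] at h2 ⊢
    exact pow_dvd_pow p ((Nat.pow_le_pow_iff_right hp1).mp h2)
  -- the sum of squares
  have hindex : Z.index = Z.relIndex K * e := (Subgroup.relIndex_mul_index hZK).symm
  have hsumC : ∑ φ ∈ X, ((d φ : ℂ)) ^ 2 = (Z.index : ℂ) * ((Nat.card Z : ℂ) - 1) := by
    rw [← nontriv_sum_sq Z, ← Finset.sum_filter]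
    symm
    apply Finset.sum_bij (fun (ζ : Cfsg.IrrCharacter N) _ => (ζ : N → ℂ))
    · intro ζ hζ
      exact (hXmem _).mpr (Finset.mem_filter.mp hζ).2
    · intro a _ b _ hab
      exact Subtype.ext hab
    · intro φ hφ
      have hφ' := (hXmem φ).mp hφ
      exact ⟨⟨φ, hφ'.1⟩, Finset.mem_filter.mpr ⟨Finset.mem_univ _, hφ'⟩, rfl⟩
    · intro ζ hζ
      have hζ' := (Finset.mem_filter.mp hζ).2
      rw [← hdS _ (hZsub hζ'), sq]
  have hsumN : ∑ φ ∈ X, (d φ) ^ 2 + Z.index = Z.index * Nat.card Z := by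
    have : ((∑ φ ∈ X, (d φ) ^ 2 + Z.index : ℕ) : ℂ) = ((Z.index * Nat.card Z : ℕ) : ℂ) := by
      push_cast
      rw [hsumC]
      ring
    exact_mod_cast this
  have hsumP : e * ∑ φ ∈ X, p ^ (2 * expo e p φ) + Z.relIndex K = Z.relIndex K * Nat.card Z := by
    have h1 : ∑ φ ∈ X, (d φ) ^ 2 = e ^ 2 * ∑ φ ∈ X, p ^ (2 * expo e p φ) := by
      rw [Finset.mul_sum]
      apply Finset.sum_congr rfl
      intro φ _
      rw [hd]
      simp only
      rw [mul_pow, ← pow_mul, mul_comm (expo e p φ) 2]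
    rw [h1, hindex] at hsumN
    have h2 : e * (e * ∑ φ ∈ X, p ^ (2 * expo e p φ) + Z.relIndex K) =
        e * (Z.relIndex K * Nat.card Z) := by
      nlinarith [hsumN]
    exact Nat.eq_of_mul_eq_mul_left he0 h2
  have hcop : Nat.Coprime e p := by
    have h1 : Nat.Coprime K.index (Nat.card K) := by
      apply Cfsg.Agent.S0850.coprime_index_card K
      intro k hk hk1 x hx
      apply h.hC k hk hk1
      rw [Subgroup.mem_centralizer_iff]
      intro y hy
      rw [Set.mem_singleton_iff] at hy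
      subst hy
      exact hx.symm
    rw [hn] at h1
    have hn0 : n ≠ 0 := by
      intro h0
      rw [h0, pow_zero] at hn
      omega
    exact (Nat.coprime_pow_right_iff (Nat.pos_of_ne_zero hn0) _ _).mp h1
  have hdiv : ∀ χ ∈ X, p ^ (2 * expo e p χ) ∣ ∑ φ ∈ X, p ^ (2 * expo e p φ) := by
    intro χ hχ
    have h1 := hpowdvd χ hχ
    have h2 : p ^ (2 * expo e p χ) ∣ e * ∑ φ ∈ X, p ^ (2 * expo e p φ) := by
      have h3 : p ^ (2 * expo e p χ) ∣ Z.relIndex K * Nat.card Z := Dvd.dvd.mul_right h1 _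
      rw [← hsumP] at h3
      exact (Nat.dvd_add_left h1).mp h3
    have hcop' : Nat.Coprime (p ^ (2 * expo e p χ)) e := (Nat.Coprime.pow_left _ hcop.symm)
    exact hcop'.dvd_of_dvd_mul_left h2
  have hcoh := coherent_of_ppower hsys d hdS X hXS
    (fun φ hφ => (hXmem _).mpr (tifn_conj_mem Z ((hXmem φ).mp hφ))) hXne
    (fun φ hφ => by
      have := irr_classInner (⟨φ, ((hXmem φ).mp hφ).1⟩ : Cfsg.IrrCharacter N) ⟨φ, ((hXmem φ).mp hφ).1⟩
      rw [if_pos rfl] at this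
      exact this)
    p e hp.out hp2 he0 (expo e p) (fun φ _ => rfl) hdiv
  rw [hXcoe] at hcoh
  exact hcoh

end

end Cfsg.Agent.Lib.Helper11.SibCentral
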