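import Mathlib
import Cfsg.Agent.Lib.Helper11.SibCentral
import Cfsg.Agent.Lib.helper6.ZassPSL1

set_option autoImplicit false
open scoped ComplexConjugate

namespace Cfsg.Agent.Lib.Helper11.SibSylow

open Cfsg.Agent.Lib.helper7 Cfsg.Agent.Lib.helper2 Cfsg.Agent.Lib.Helper25
open Cfsg.Agent.Lib.Helper11 Cfsg.Agent.Lib.Helper11.SibSetup Cfsg.Agent.Lib.Helper11.SibFacts
  Cfsg.Agent.Lib.Helper11.SibCentral

/-- if the normalizer of a subgroup `K` of odd order containing the centralizers of its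
non-identity elements has even order, then `K` is abelian -/
theorem abelian_of_even_normalizer {G : Type*} [Group G] [Finite G] (K : Subgroup G)
    (hC : ∀ k ∈ K, k ≠ 1 → Subgroup.centralizer ({k} : Set G) ≤ K) (hKodd : Odd (Nat.card K))
    (heven : Even (Nat.card (Subgroup.normalizer (K : Set G)))) :
    ∀ x ∈ K, ∀ y ∈ K, x * y = y * x := by
  haveI : Fact (Nat.Prime 2) := ⟨Nat.prime_two⟩
  have := Fintype.ofFinite ↥(Subgroup.normalizer (K : Set G))
  obtain ⟨t, ht⟩ := exists_prime_orderOf_dvd_card (G := ↥(Subgroup.normalizer (K : Set G))) 2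
    (by rw [← Nat.card_eq_fintype_card]; exact even_iff_two_dvd.mp heven)
  have hj : orderOf (t : G) = 2 := by
    rw [← ht]
    exact Subgroup.orderOf_coe t
  have hjj : (t : G) * (t : G) = 1 := by
    have := pow_orderOf_eq_one (t : G)
    rw [hj, sq] at this
    exact this
  have hnorm : ∀ k ∈ K, (t : G) * k * (t : G)⁻¹ ∈ K := fun k hk =>
    (Subgroup.mem_normalizer_iff.mp t.2 k).mp hk
  have hfpf : ∀ k ∈ K, (t : G) * k * (t : G)⁻¹ = k → k = 1 := by
    intro k hk hfix
    by_contra hk1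
    have hcen : (t : G) ∈ Subgroup.centralizer ({k} : Set G) := by
      rw [Subgroup.mem_centralizer_iff]
      intro y hy
      rw [Set.mem_singleton_iff] at hy
      subst hy
      calc y * (t : G) = (t : G) * y * (t : G)⁻¹ * (t : G) := by rw [hfix]
        _ = (t : G) * y := by group
    have htK : (t : G) ∈ K := hC k hk hk1 hcen
    have hdvd : orderOf (⟨(t : G), htK⟩ : K) ∣ Nat.card K := orderOf_dvd_natCard _
    have ho : orderOf (⟨(t : G), htK⟩ : K) = 2 := by
      rw [← hj]
      exact (Subgroup.orderOf_coe (⟨(t : G), htK⟩ : K)).symm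
    rw [ho] at hdvd
    exact (Nat.not_even_iff_odd.mpr hKodd) (even_iff_two_dvd.mpr hdvd)
  exact (Cfsg.Agent.Lib.helper6.ZassPSL1.fpf_invol_inverts K (t : G) hjj hnorm hfpf).2

theorem sylow_odd_card {G : Type*} [Group G] [Finite G] (p : ℕ) [hp : Fact p.Prime] (hp2 : p ≠ 2)
    (P : Sylow p G) : Odd (Nat.card (P : Subgroup G)) := by
  obtain ⟨n, hn⟩ := (IsPGroup.iff_card).mp P.isPGroup'
  rw [hn]
  exact Odd.pow (hp.out.odd_of_ne_two hp2)

theorem subgroupOf_ne_bot {G : Type*} [Group G] {Z N : Subgroup G} (hZN : Z ≤ N) (hZ1 : Z ≠ ⊥) :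
    Z.subgroupOf N ≠ ⊥ := by
  intro h
  apply hZ1
  rw [Subgroup.subgroupOf_eq_bot] at h
  rw [eq_bot_iff]
  intro z hz
  have : z ∈ Z ⊓ N := ⟨hz, hZN hz⟩
  rw [disjoint_iff.mp h] at this
  exact this

/-- coherence of the characters of the normalizer of a TI Sylow subgroup that are nontrivial on
a central subgroup -/
theorem sylow_central_coherent {G : Type*} [Group G] [Fintype G] (p : ℕ) [hp : Fact p.Prime]
    (P : Sylow p G) (hTI : Cfsg.IsTISubset ((P : Subgroup G) : Set G))
    (hC : ∀ k ∈ (P : Subgroup G), k ≠ 1 → Subgroup.centralizer ({k} : Set G) ≤ (P : Subgroup G))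
    [Fintype ↥(Subgroup.normalizer ((P : Subgroup G) : Set G))]
    (hodd : Odd (Nat.card ↥(Subgroup.normalizer ((P : Subgroup G) : Set G))))
    (Z : Subgroup G) (hZ1 : Z ≠ ⊥)
    (hZP : ∀ z ∈ Z, z ∈ (P : Subgroup G) ∧ ∀ y ∈ (P : Subgroup G), z * y = y * z)
    (hZn : ∀ x ∈ Subgroup.normalizer ((P : Subgroup G) : Set G), ∀ z ∈ Z, x * z * x⁻¹ ∈ Z) :
    Cfsg.IsCoherent (tifnSet (Z.subgroupOf (Subgroup.normalizer ((P : Subgroup G) : Set G))))
      ({1}ᶜ : Set ↥(Subgroup.normalizer ((P : Subgroup G) : Set G)))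
      (Cfsg.indFun (Subgroup.normalizer ((P : Subgroup G) : Set G))) := by
  have hPN : (P : Subgroup G) ≤ Subgroup.normalizer ((P : Subgroup G) : Set G) :=
    Subgroup.le_normalizer
  have hZle : Z ≤ (P : Subgroup G) := fun z hz => (hZP z hz).1
  have htif := tif_of_TI (P : Subgroup G) hTI hC
  have hnormal : (Z.subgroupOf (Subgroup.normalizer ((P : Subgroup G) : Set G))).Normal := by
    constructor
    intro z hz x
    rw [Subgroup.mem_subgroupOf] at hz ⊢
    have := hZn (x : G) x.2 (z : G) hz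
    simpa using this
  have hKp : IsPGroup p ↥((P : Subgroup G).subgroupOf
      (Subgroup.normalizer ((P : Subgroup G) : Set G))) := by
    apply IsPGroup.of_injective P.isPGroup'
      ((P : Subgroup G).subgroupOfEquivOfLe hPN).toMonoidHom
    exact ((P : Subgroup G).subgroupOfEquivOfLe hPN).injective
  apply coherent_nontriv_central htif hodd p hKp
    (Z.subgroupOf (Subgroup.normalizer ((P : Subgroup G) : Set G)))
    (subgroupOf_ne_bot (hZle.trans hPN) hZ1)
  · intro z hz
    rw [Subgroup.mem_subgroupOf] at hz ⊢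
    exact hZle hz
  · intro z hz k hk
    rw [Subgroup.mem_subgroupOf] at hz hk
    apply Subtype.ext
    simp only [Subgroup.coe_mul]
    exact (hZP (z : G) hz).2 (k : G) hk

end Cfsg.Agent.Lib.Helper11.SibSylow
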