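import Mathlib
import Cfsg.Agent.Lib.Helper11.TISylCong
import Cfsg.Agent.Lib.Helper11.SibSylow

set_option autoImplicit false
open scoped ComplexConjugate

namespace Cfsg.Agent.Lib.Helper11.SibCong

open Cfsg.Agent.Lib.helper7 Cfsg.Agent.Lib.helper2 Cfsg.Agent.Lib.Helper25
open Cfsg.Agent.Lib.Helper11 Cfsg.Agent.Lib.Helper11.SibSetup Cfsg.Agent.Lib.Helper11.SibFacts
  Cfsg.Agent.Lib.Helper11.SibCentral Cfsg.Agent.Lib.Helper11.SibSylow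

/-- the basic computation: a character of `N` whose multiplicities on the irreducible characters
nontrivial on `Z` are proportional to the degrees takes at `z ∈ Z \ {1}` a value determined by
one multiplicity. -/
theorem prop_value {N : Type*} [Group N] [Fintype N] (Z : Subgroup N)
    (ψ : N → ℂ) (hψ : Cfsg.IsCharacter N ψ)
    (hprop : ∀ φ ∈ tifnSet Z, ∀ φ' ∈ tifnSet Z,
      φ' 1 * Cfsg.classInner ψ φ = φ 1 * Cfsg.classInner ψ φ')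
    {φ₀ : N → ℂ} (hφ₀ : φ₀ ∈ tifnSet Z) (z : N) (hz : z ∈ Z) (hz1 : z ≠ 1) :
    φ₀ 1 * (ψ 1 - ψ z) = Cfsg.classInner ψ φ₀ * (Nat.card N : ℂ) := by
  classical
  have := Fintype.ofFinite (Cfsg.IrrCharacter N)
  obtain ⟨m, hm, hexp⟩ := isCharacter_expansion hψ
  have h1 : ψ 1 - ψ z = ∑ ζ : Cfsg.IrrCharacter N,
      (m ζ : ℂ) * ((ζ : N → ℂ) 1 - (ζ : N → ℂ) z) := by
    conv_lhs => rw [hexp]
    simp only [Finset.sum_apply, Pi.smul_apply, smul_eq_mul]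
    rw [← Finset.sum_sub_distrib]
    apply Finset.sum_congr rfl
    intro ζ _
    ring
  rw [h1, Finset.mul_sum]
  have h2 : ∀ ζ : Cfsg.IrrCharacter N,
      φ₀ 1 * ((m ζ : ℂ) * ((ζ : N → ℂ) 1 - (ζ : N → ℂ) z)) =
      Cfsg.classInner ψ φ₀ * ((ζ : N → ℂ) 1 * (ζ : N → ℂ) 1 - (ζ : N → ℂ) 1 * (ζ : N → ℂ) z) := by
    intro ζ
    by_cases hζ : (ζ : N → ℂ) ∈ tifnSet Z
    · have := hprop (ζ : N → ℂ) hζ φ₀ hφ₀
      rw [hm ζ] at this
      linear_combination ((ζ : N → ℂ) 1 - (ζ : N → ℂ) z) * this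
    · rw [tifn_not_mem Z ζ hζ z hz]
      ring
  rw [Finset.sum_congr rfl (fun ζ _ => h2 ζ), ← Finset.mul_sum, Finset.sum_sub_distrib,
    irr_sum_deg_sq, irr_sum_deg_mul z hz1, sub_zero]

/-- **Consequence of Peterfalvi (6.7)**: divisibility of the multiplicities. -/
theorem mult_dvd {G : Type*} [Group G] [Fintype G] (p : ℕ) [hp : Fact p.Prime]
    (P : Sylow p G) (hTI : Cfsg.IsTISubset ((P : Subgroup G) : Set G))
    (N : Subgroup G) [Fintype N] (hN : N = Subgroup.normalizer ((P : Subgroup G) : Set G))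
    (hodd : Odd (Nat.card N))
    (Z : Subgroup G) (hZ1 : Z ≠ ⊥)
    (hZP : ∀ z ∈ Z, z ∈ (P : Subgroup G) ∧ ∀ y ∈ (P : Subgroup G), z * y = y * z)
    (hZn : ∀ x ∈ N, ∀ z ∈ Z, x * z * x⁻¹ ∈ Z)
    (ξ : Cfsg.IrrCharacter G)
    (hprop : ∀ φ ∈ tifnSet (Z.subgroupOf N), ∀ φ' ∈ tifnSet (Z.subgroupOf N),
      φ' 1 * Cfsg.classInner (fun n : N => (ξ : G → ℂ) n) φ =
      φ 1 * Cfsg.classInner (fun n : N => (ξ : G → ℂ) n) φ')
    {φ₀ : N → ℂ} (hφ₀ : φ₀ ∈ tifnSet (Z.subgroupOf N)) (t₀ : ℕ)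
    (ht₀ : φ₀ 1 = ((((P : Subgroup G).subgroupOf N).index * t₀ : ℕ) : ℂ)) :
    ∃ q : ℤ, Cfsg.classInner (fun n : N => (ξ : G → ℂ) n) φ₀ = (q : ℂ) * (t₀ : ℂ) := by
  classical
  have hPN : (P : Subgroup G) ≤ N := hN ▸ Subgroup.le_normalizer
  have hZle : Z ≤ (P : Subgroup G) := fun z hz => (hZP z hz).1
  obtain ⟨ψ, hψ⟩ : ∃ ψ : N → ℂ, ψ = fun n : N => (ξ : G → ℂ) n := ⟨_, rfl⟩
  rw [← hψ] at hprop ⊢
  have hψchar : Cfsg.IsCharacter N ψ := hψ ▸ isCharacter_restrict (isCharacter_of_irr ξ) N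
  -- a non-identity element of Z
  obtain ⟨z₀, hz₀1⟩ := (Subgroup.ne_bot_iff_exists_ne_one).mp hZ1
  have hval : ∀ z ∈ Z, z ≠ 1 → φ₀ 1 * ((ξ : G → ℂ) 1 - (ξ : G → ℂ) z) =
      Cfsg.classInner ψ φ₀ * (Nat.card N : ℂ) := by
    intro z hz hz1
    have hzN : z ∈ N := hPN (hZle hz)
    have := prop_value (Z.subgroupOf N) ψ hψchar hprop hφ₀ ⟨z, hzN⟩
      (Subgroup.mem_subgroupOf.mpr hz) (fun h => hz1 (congrArg Subtype.val h))
    rw [hψ] at this ⊢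
    simpa using this
  have hφ₀ne : φ₀ 1 ≠ 0 := irr_one_ne_zero ⟨φ₀, hφ₀.1⟩
  have hconst : ∀ z ∈ Z, ∀ z' ∈ Z, z ≠ 1 → z' ≠ 1 → (ξ : G → ℂ) z = (ξ : G → ℂ) z' := by
    intro z hz z' hz' hz1 hz'1
    have h1 := hval z hz hz1
    have h2 := hval z' hz' hz'1
    have h3 : φ₀ 1 * ((ξ : G → ℂ) 1 - (ξ : G → ℂ) z) = φ₀ 1 * ((ξ : G → ℂ) 1 - (ξ : G → ℂ) z') := by
      rw [h1, h2]
    have h4 := mul_left_cancel₀ hφ₀ne h3
    linear_combination -h4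
  have hz₀' : (z₀ : G) ≠ 1 := fun h => hz₀1 (Subtype.ext h)
  have hodd' : Odd (Nat.card ↥(Subgroup.normalizer ((P : Subgroup G) : Set G))) := hN ▸ hodd
  obtain ⟨n, d, hn, hd, hdvd⟩ := Cfsg.Agent.Lib.Helper11.TISylCong.main P hTI hodd' Z hZle
    (fun x hx z hz => hZn x (hN ▸ hx) z hz)
    (fun z hz y hy => (hZP z hz).2 y hy) ξ hconst z₀.2 hz₀'
  obtain ⟨q, hq⟩ := hdvd
  refine ⟨q, ?_⟩
  have h1 := hval (z₀ : G) z₀.2 hz₀'
  rw [hn, hd, ht₀] at h1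
  have hidx : (Nat.card N : ℂ) = ((((P : Subgroup G).subgroupOf N).index : ℕ) : ℂ) *
      (Nat.card (P : Subgroup G) : ℂ) := by
    have h2 := Subgroup.index_mul_card ((P : Subgroup G).subgroupOf N)
    have hcard : Nat.card ((P : Subgroup G).subgroupOf N) = Nat.card (P : Subgroup G) :=
      Nat.card_congr (Subgroup.subgroupOfEquivOfLe hPN).toEquiv
    rw [hcard] at h2
    rw [← h2]
    push_cast
    ring
  rw [hidx] at h1
  have hq' : ((d - n : ℤ) : ℂ) = ((Nat.card (P : Subgroup G) : ℤ) : ℂ) * (q : ℂ) := by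
    rw [hq]
    push_cast
    ring
  have hidx0 : ((((P : Subgroup G).subgroupOf N).index : ℕ) : ℂ) ≠ 0 := by
    exact_mod_cast Subgroup.index_ne_zero_of_finite
  have hP0 : (Nat.card (P : Subgroup G) : ℂ) ≠ 0 := by exact_mod_cast Nat.card_pos.ne'
  push_cast at h1 hq'
  have h3 : ((((P : Subgroup G).subgroupOf N).index : ℕ) : ℂ) * (Nat.card (P : Subgroup G) : ℂ) *
      ((t₀ : ℂ) * (q : ℂ)) =
      ((((P : Subgroup G).subgroupOf N).index : ℕ) : ℂ) * (Nat.card (P : Subgroup G) : ℂ) *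
      Cfsg.classInner ψ φ₀ := by
    have h4 : ((d : ℂ) - (n : ℂ)) = (Nat.card (P : Subgroup G) : ℂ) * (q : ℂ) := hq'
    linear_combination h1 - (((P : Subgroup G).subgroupOf N).index : ℂ) * (t₀ : ℂ) * h4
  have h5 := mul_left_cancel₀ (mul_ne_zero hidx0 hP0) h3
  rw [← h5]
  ring

end Cfsg.Agent.Lib.Helper11.SibCong
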