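import Mathlib
import Cfsg.Agent.Lib.Helper11.CoherentExt

set_option autoImplicit false
open scoped ComplexConjugate

namespace Cfsg.Agent.Lib.Helper11.CohAssemble

open Cfsg.Agent.Lib.helper7 Cfsg.Agent.Lib.helper2 Cfsg.Agent.Lib.Helper25
open Cfsg.Agent.Lib.Helper11

variable {L : Type*} [Group L] [Fintype L] {G : Type*} [Group G] [Fintype G]
  {S : Set (L → ℂ)} {τ : (L → ℂ) → (G → ℂ)} {R : (L → ℂ) → Finset (G → ℂ)}

/-- General assembly: a coherent subset `S₁` (via `τ₁`) together with candidate images `X`, `X'`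
for a new conjugate pair `χ`, `conj χ`. -/
theorem coh_assemble (hS : Cfsg.IsCoherenceSystem S τ R) (n : (L → ℂ) → ℕ)
    (hn : ∀ φ ∈ S, Cfsg.classInner φ φ = (n φ : ℂ))
    (S₁ : Set (L → ℂ)) (hS₁ : S₁ ⊆ S)
    (hne : ∃ α ∈ Cfsg.zspanOn S₁ {1}ᶜ, α ≠ 0)
    {τ₁ : (L → ℂ) → (G → ℂ)} (hτ₁ : Cfsg.IsLinearIsometryOn (Cfsg.zspan S₁) τ₁)
    (hagree : ∀ α ∈ Cfsg.zspanOn S₁ {1}ᶜ, τ₁ α = τ α)
    (χ : L → ℂ) (hχ : χ ∈ S) (hχ₁ : χ ∉ S₁) (hχ₂ : Cfsg.conjFun χ ∉ S₁)
    (X X' : G → ℂ) (hXgen : Cfsg.IsGeneralizedCharacter G X)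
    (hX'gen : Cfsg.IsGeneralizedCharacter G X')
    (hXφ : ∀ φ ∈ S₁, Cfsg.classInner X (τ₁ φ) = 0)
    (hX'φ : ∀ φ ∈ S₁, Cfsg.classInner X' (τ₁ φ) = 0)
    (hXX : Cfsg.classInner X X = (n χ : ℂ)) (hX'X' : Cfsg.classInner X' X' = (n χ : ℂ))
    (hXX' : Cfsg.classInner X X' = 0)
    (hdiff : τ (χ - Cfsg.conjFun χ) = X - X')
    (m : ℤ) (hm : m ≠ 0) (β : L → ℂ) (hβ : β ∈ Cfsg.zspan S₁) (hβ1 : β 1 = (m : ℂ) * χ 1)
    (hrel : τ (m • χ - β) = m • X - τ₁ β) :
    Cfsg.IsCoherent (S₁ ∪ {χ, Cfsg.conjFun χ} : Set (L → ℂ)) {1}ᶜ τ := by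
  classical
  obtain ⟨α₀, hα₀, hα₀ne⟩ := hne
  have hτ := hS.isometry
  have hχc : Cfsg.conjFun χ ∈ S := hS.conj_mem χ hχ
  have hneχ : ∀ φ ∈ S₁, φ ≠ χ := fun φ hφ h => hχ₁ (h ▸ hφ)
  have hneχc : ∀ φ ∈ S₁, φ ≠ Cfsg.conjFun χ := fun φ hφ h => hχ₂ (h ▸ hφ)
  have hφχ : ∀ φ ∈ S₁, Cfsg.classInner φ χ = 0 := fun φ hφ =>
    hS.orthogonal φ (hS₁ hφ) χ hχ (hneχ φ hφ)
  have hφχc : ∀ φ ∈ S₁, Cfsg.classInner φ (Cfsg.conjFun χ) = 0 := fun φ hφ =>
    hS.orthogonal φ (hS₁ hφ) _ hχc (hneχc φ hφ)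
  have hχχc : Cfsg.classInner χ (Cfsg.conjFun χ) = 0 :=
    hS.orthogonal χ hχ _ hχc (Ne.symm (hS.conj_ne χ hχ))
  have hχcχ : Cfsg.classInner (Cfsg.conjFun χ) χ = 0 :=
    hS.orthogonal _ hχc χ hχ (hS.conj_ne χ hχ)
  have hnχ0 : n χ ≠ 0 := coh_norm_ne_zero hS n hn hχ
  have hnχC : (n χ : ℂ) ≠ 0 := by exact_mod_cast hnχ0
  have hχcχc : Cfsg.classInner (Cfsg.conjFun χ) (Cfsg.conjFun χ) = (n χ : ℂ) := by
    rw [classInner_conjFun_self, hn χ hχ]
  have hmC : χ - Cfsg.conjFun χ ∈ Cfsg.zspanOn S {1}ᶜ :=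
    coh_sub_conj_mem hS (Set.Subset.refl S) hS.conj_mem hχ
  have hX'X : Cfsg.classInner X' X = 0 := by
    rw [classInner_conj_symm, hXX', map_zero]
  have hXspan : ∀ γ ∈ Cfsg.zspan S₁, Cfsg.classInner X (τ₁ γ) = 0 :=
    isoOn_span_induction hτ₁ (fun w => Cfsg.classInner X w)
      (fun a b => h7_classInner_add_right _ a b) (fun k a => classInner_zsmul_right k _ a)
      (fun φ hφ => hXφ φ hφ)
  have hX'span : ∀ γ ∈ Cfsg.zspan S₁, Cfsg.classInner X' (τ₁ γ) = 0 :=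
    isoOn_span_induction hτ₁ (fun w => Cfsg.classInner X' w)
      (fun a b => h7_classInner_add_right _ a b) (fun k a => classInner_zsmul_right k _ a)
      (fun φ hφ => hX'φ φ hφ)
  have hspanX : ∀ γ ∈ Cfsg.zspan S₁, Cfsg.classInner (τ₁ γ) X = 0 := by
    intro γ hγ
    rw [classInner_conj_symm, hXspan γ hγ, map_zero]
  have hspanX' : ∀ γ ∈ Cfsg.zspan S₁, Cfsg.classInner (τ₁ γ) X' = 0 := by
    intro γ hγ
    rw [classInner_conj_symm, hX'span γ hγ, map_zero]
  have hspanχ : ∀ γ ∈ Cfsg.zspan S₁, Cfsg.classInner γ χ = 0 :=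
    zspan_induction_zero (fun w => Cfsg.classInner w χ)
      (fun a b => classInner_add_left' a b _) (fun k a => classInner_zsmul_left k a _)
      (fun φ hφ => hφχ φ hφ)
  have hspanχc : ∀ γ ∈ Cfsg.zspan S₁, Cfsg.classInner γ (Cfsg.conjFun χ) = 0 :=
    zspan_induction_zero (fun w => Cfsg.classInner w (Cfsg.conjFun χ))
      (fun a b => classInner_add_left' a b _) (fun k a => classInner_zsmul_left k a _)
      (fun φ hφ => hφχc φ hφ)
  have hχspan : ∀ γ ∈ Cfsg.zspan S₁, Cfsg.classInner χ γ = 0 := by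
    intro γ hγ
    rw [classInner_conj_symm, hspanχ γ hγ, map_zero]
  have hχcspan : ∀ γ ∈ Cfsg.zspan S₁, Cfsg.classInner (Cfsg.conjFun χ) γ = 0 := by
    intro γ hγ
    rw [classInner_conj_symm, hspanχc γ hγ, map_zero]
  -- coefficient functionals
  let c : (L → ℂ) → ℂ := fun γ => Cfsg.classInner γ χ / (n χ : ℂ)
  let c' : (L → ℂ) → ℂ := fun γ => Cfsg.classInner γ (Cfsg.conjFun χ) / (n χ : ℂ)
  let τ₂ : (L → ℂ) → (G → ℂ) := fun γ =>
    τ₁ (γ - c γ • χ - c' γ • Cfsg.conjFun χ) + c γ • X + c' γ • X'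
  set S₂ : Set (L → ℂ) := S₁ ∪ {χ, Cfsg.conjFun χ} with hS₂
  have hdecomp : ∀ γ ∈ Cfsg.zspan S₂, ∃ k k' : ℤ,
      γ - k • χ - k' • Cfsg.conjFun χ ∈ Cfsg.zspan S₁ ∧
      c γ = (k : ℂ) ∧ c' γ = (k' : ℂ) := by
    intro γ hγ
    induction hγ using Submodule.span_induction with
    | mem φ h =>
      rcases h with h | h | h
      · refine ⟨0, 0, ?_, ?_, ?_⟩
        · rw [zero_smul, zero_smul, sub_zero, sub_zero]
          exact zspan_of_mem h
        · change Cfsg.classInner φ χ / (n χ : ℂ) = ((0 : ℤ) : ℂ)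
          rw [hφχ φ h]
          simp
        · change Cfsg.classInner φ (Cfsg.conjFun χ) / (n χ : ℂ) = ((0 : ℤ) : ℂ)
          rw [hφχc φ h]
          simp
      · refine ⟨1, 0, ?_, ?_, ?_⟩
        · rw [h, one_smul, zero_smul, sub_self, sub_zero]
          exact zspan_zero _
        · change Cfsg.classInner φ χ / (n χ : ℂ) = ((1 : ℤ) : ℂ)
          rw [h, hn χ hχ, div_self hnχC]
          simp
        · change Cfsg.classInner φ (Cfsg.conjFun χ) / (n χ : ℂ) = ((0 : ℤ) : ℂ)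
          rw [h, hχχc]
          simp
      · have h' : φ = Cfsg.conjFun χ := h
        refine ⟨0, 1, ?_, ?_, ?_⟩
        · rw [h', one_smul, zero_smul, sub_zero, sub_self]
          exact zspan_zero _
        · change Cfsg.classInner φ χ / (n χ : ℂ) = ((0 : ℤ) : ℂ)
          rw [h', hχcχ]
          simp
        · change Cfsg.classInner φ (Cfsg.conjFun χ) / (n χ : ℂ) = ((1 : ℤ) : ℂ)
          rw [h', hχcχc, div_self hnχC]
          simp
    | zero =>
      refine ⟨0, 0, ?_, ?_, ?_⟩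
      · rw [zero_smul, zero_smul, sub_zero, sub_zero]
        exact zspan_zero _
      · change Cfsg.classInner 0 χ / (n χ : ℂ) = ((0 : ℤ) : ℂ)
        rw [classInner_zero_left']
        simp
      · change Cfsg.classInner 0 (Cfsg.conjFun χ) / (n χ : ℂ) = ((0 : ℤ) : ℂ)
        rw [classInner_zero_left']
        simp
    | add x y _ _ ihx ihy =>
      obtain ⟨k, k', h1, h2, h3⟩ := ihx
      obtain ⟨l, l', g1, g2, g3⟩ := ihy
      refine ⟨k + l, k' + l', ?_, ?_, ?_⟩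
      · have : x + y - (k + l) • χ - (k' + l') • Cfsg.conjFun χ =
            (x - k • χ - k' • Cfsg.conjFun χ) + (y - l • χ - l' • Cfsg.conjFun χ) := by
          rw [add_smul, add_smul]
          abel
        rw [this]
        exact zspan_add h1 g1
      · change Cfsg.classInner (x + y) χ / (n χ : ℂ) = ((k + l : ℤ) : ℂ)
        rw [classInner_add_left', add_div]
        change c x + c y = _
        rw [h2, g2]
        push_cast
        ring
      · change Cfsg.classInner (x + y) (Cfsg.conjFun χ) / (n χ : ℂ) = ((k' + l' : ℤ) : ℂ)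
        rw [classInner_add_left', add_div]
        change c' x + c' y = _
        rw [h3, g3]
        push_cast
        ring
    | smul j x _ ihx =>
      obtain ⟨k, k', h1, h2, h3⟩ := ihx
      refine ⟨j * k, j * k', ?_, ?_, ?_⟩
      · have : j • x - (j * k) • χ - (j * k') • Cfsg.conjFun χ =
            j • (x - k • χ - k' • Cfsg.conjFun χ) := by
          rw [smul_sub, smul_sub, mul_smul, mul_smul]
        rw [this]
        exact zspan_zsmul j h1
      · change Cfsg.classInner (j • x) χ / (n χ : ℂ) = ((j * k : ℤ) : ℂ)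
        rw [classInner_zsmul_left, mul_div_assoc]
        change (j : ℂ) * c x = _
        rw [h2]
        push_cast
        ring
      · change Cfsg.classInner (j • x) (Cfsg.conjFun χ) / (n χ : ℂ) = ((j * k' : ℤ) : ℂ)
        rw [classInner_zsmul_left, mul_div_assoc]
        change (j : ℂ) * c' x = _
        rw [h3]
        push_cast
        ring
  have hτ₂ : ∀ γ ∈ Cfsg.zspan S₂, ∃ k k' : ℤ, ∃ γ₁ ∈ Cfsg.zspan S₁,
      γ = γ₁ + k • χ + k' • Cfsg.conjFun χ ∧ τ₂ γ = τ₁ γ₁ + k • X + k' • X' ∧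
      c γ = (k : ℂ) ∧ c' γ = (k' : ℂ) := by
    intro γ hγ
    obtain ⟨k, k', h1, h2, h3⟩ := hdecomp γ hγ
    refine ⟨k, k', _, h1, by abel, ?_, h2, h3⟩
    change τ₁ (γ - c γ • χ - c' γ • Cfsg.conjFun χ) + c γ • X + c' γ • X' = _
    rw [h2, h3, Int.cast_smul_eq_zsmul ℂ k χ, Int.cast_smul_eq_zsmul ℂ k' (Cfsg.conjFun χ),
      Int.cast_smul_eq_zsmul ℂ k X, Int.cast_smul_eq_zsmul ℂ k' X']
  constructor
  · exact ⟨α₀, zspanOn_mono Set.subset_union_left {1}ᶜ hα₀, hα₀ne⟩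
  · refine ⟨τ₂, ⟨?_, ?_, ?_, ?_⟩, ?_⟩
    · -- additivity
      intro x hx y hy
      obtain ⟨k, k', x₁, hx₁, hxe, hxτ, hxc, hxc'⟩ := hτ₂ x hx
      obtain ⟨l, l', y₁, hy₁, hye, hyτ, hyc, hyc'⟩ := hτ₂ y hy
      have hcxy : c (x + y) = ((k + l : ℤ) : ℂ) := by
        change Cfsg.classInner (x + y) χ / (n χ : ℂ) = _
        rw [classInner_add_left', add_div]
        change c x + c y = _
        rw [hxc, hyc]
        push_cast
        ring
      have hc'xy : c' (x + y) = ((k' + l' : ℤ) : ℂ) := by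
        change Cfsg.classInner (x + y) (Cfsg.conjFun χ) / (n χ : ℂ) = _
        rw [classInner_add_left', add_div]
        change c' x + c' y = _
        rw [hxc', hyc']
        push_cast
        ring
      have hsplit : τ₂ (x + y) = τ₁ (x₁ + y₁) + (k + l) • X + (k' + l') • X' := by
        change τ₁ (x + y - c (x + y) • χ - c' (x + y) • Cfsg.conjFun χ) + c (x + y) • X +
          c' (x + y) • X' = _
        rw [hcxy, hc'xy, Int.cast_smul_eq_zsmul ℂ (k + l) χ,
          Int.cast_smul_eq_zsmul ℂ (k' + l') (Cfsg.conjFun χ),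
          Int.cast_smul_eq_zsmul ℂ (k + l) X, Int.cast_smul_eq_zsmul ℂ (k' + l') X']
        congr 3
        rw [hxe, hye, add_smul, add_smul]
        abel
      rw [hsplit, hxτ, hyτ, hτ₁.1 x₁ hx₁ y₁ hy₁, add_smul, add_smul]
      abel
    · -- homogeneity
      intro x hx j
      obtain ⟨k, k', x₁, hx₁, hxe, hxτ, hxc, hxc'⟩ := hτ₂ x hx
      have hcmx : c (j • x) = ((j * k : ℤ) : ℂ) := by
        change Cfsg.classInner (j • x) χ / (n χ : ℂ) = _
        rw [classInner_zsmul_left, mul_div_assoc]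
        change (j : ℂ) * c x = _
        rw [hxc]
        push_cast
        ring
      have hc'mx : c' (j • x) = ((j * k' : ℤ) : ℂ) := by
        change Cfsg.classInner (j • x) (Cfsg.conjFun χ) / (n χ : ℂ) = _
        rw [classInner_zsmul_left, mul_div_assoc]
        change (j : ℂ) * c' x = _
        rw [hxc']
        push_cast
        ring
      have hsplit : τ₂ (j • x) = τ₁ (j • x₁) + (j * k) • X + (j * k') • X' := by
        change τ₁ (j • x - c (j • x) • χ - c' (j • x) • Cfsg.conjFun χ) + c (j • x) • X +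
          c' (j • x) • X' = _
        rw [hcmx, hc'mx, Int.cast_smul_eq_zsmul ℂ (j * k) χ,
          Int.cast_smul_eq_zsmul ℂ (j * k') (Cfsg.conjFun χ),
          Int.cast_smul_eq_zsmul ℂ (j * k) X, Int.cast_smul_eq_zsmul ℂ (j * k') X']
        congr 3
        rw [hxe, smul_add, smul_add, mul_smul, mul_smul]
        abel
      rw [hsplit, hxτ, hτ₁.2.1 x₁ hx₁ j, smul_add, smul_add, mul_smul, mul_smul]
    · -- isometry
      intro x hx y hy
      obtain ⟨k, k', x₁, hx₁, hxe, hxτ, -, -⟩ := hτ₂ x hx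
      obtain ⟨l, l', y₁, hy₁, hye, hyτ, -, -⟩ := hτ₂ y hy
      rw [hxτ, hyτ]
      conv_rhs => rw [hxe, hye]
      rw [classInner_three, classInner_three, hτ₁.2.2.1 x₁ hx₁ y₁ hy₁, hspanX x₁ hx₁,
        hspanX' x₁ hx₁, hXspan y₁ hy₁, hX'span y₁ hy₁, hXX, hXX', hX'X, hX'X',
        hspanχ x₁ hx₁, hspanχc x₁ hx₁, hχspan y₁ hy₁, hχcspan y₁ hy₁, hn χ hχ, hχχc, hχcχ, hχcχc]
    · -- generalized characters
      intro x hx
      obtain ⟨k, k', x₁, hx₁, -, hxτ, -, -⟩ := hτ₂ x hx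
      rw [hxτ]
      exact genChar_add (genChar_add (hτ₁.2.2.2 x₁ hx₁) (genChar_zsmul k hXgen))
        (genChar_zsmul k' hX'gen)
    · -- agreement with τ
      intro x hx
      obtain ⟨k, k', x₁, hx₁, hxe, hxτ, -, -⟩ := hτ₂ x hx.1
      have hx1 : x 1 = 0 := hx.2 1 (by simp)
      have hx1' : x₁ 1 + (k : ℂ) * χ 1 + (k' : ℂ) * χ 1 = 0 := by
        have h1 : x 1 = x₁ 1 + (k : ℂ) * χ 1 + (k' : ℂ) * χ 1 := by
          conv_lhs => rw [hxe]
          rw [Pi.add_apply, Pi.add_apply, Pi.smul_apply, Pi.smul_apply,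
            conjFun_one_of_isCharacter (hS.isCharacter χ hχ), zsmul_eq_mul, zsmul_eq_mul]
        rw [← h1, hx1]
      set e3 := m • x₁ + (k + k') • β with he3
      have he3m : e3 ∈ Cfsg.zspanOn S₁ {1}ᶜ := by
        apply mem_zspanOn_one (zspan_add (zspan_zsmul _ hx₁) (zspan_zsmul _ hβ))
        rw [Pi.add_apply, Pi.smul_apply, Pi.smul_apply, hβ1, zsmul_eq_mul, zsmul_eq_mul]
        push_cast
        linear_combination (m : ℂ) * hx1'
      have he3S := zspanOn_mono hS₁ {1}ᶜ he3m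
      have hτe3 : τ e3 = m • τ₁ x₁ + (k + k') • τ₁ β := by
        rw [← hagree e3 he3m, he3, hτ₁.1 _ (zspan_zsmul _ hx₁) _ (zspan_zsmul _ hβ),
          hτ₁.2.1 x₁ hx₁, hτ₁.2.1 β hβ]
      have hmT : m • χ - β ∈ Cfsg.zspanOn S {1}ᶜ := by
        apply mem_zspanOn_one (zspan_sub (zspan_zsmul _ (zspan_of_mem hχ))
          (zspan_mono hS₁ hβ))
        rw [Pi.sub_apply, Pi.smul_apply, hβ1, zsmul_eq_mul, sub_self]
      have hmx : m • x ∈ Cfsg.zspanOn S {1}ᶜ :=
        zspanOn_zsmul m (zspanOn_mono (Set.union_subset hS₁ (by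
          intro y hy
          rcases hy with hy | hy
          · exact hy ▸ hχ
          · have : y = Cfsg.conjFun χ := hy
            exact this ▸ hχc)) {1}ᶜ hx)
      have hxe' : m • x = k • (m • χ - β) +
          k' • ((m • χ - β) - m • (χ - Cfsg.conjFun χ)) + e3 := by
        rw [hxe, he3]
        simp only [smul_sub, add_smul, smul_add]
        rw [smul_comm m k χ, smul_comm m k' (Cfsg.conjFun χ)]
        abel
      have hmC' : m • (χ - Cfsg.conjFun χ) ∈ Cfsg.zspanOn S {1}ᶜ := zspanOn_zsmul m hmC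
      have hm12 : (m • χ - β) - m • (χ - Cfsg.conjFun χ) ∈ Cfsg.zspanOn S {1}ᶜ :=
        zspanOn_sub hmT hmC'
      have hx' : x ∈ Cfsg.zspanOn S {1}ᶜ :=
        zspanOn_mono (Set.union_subset hS₁ (by
          intro y hy
          rcases hy with hy | hy
          · exact hy ▸ hχ
          · have : y = Cfsg.conjFun χ := hy
            exact this ▸ hχc)) {1}ᶜ hx
      have hτx : m • τ x = k • (m • X - τ₁ β) + k' • ((m • X - τ₁ β) - m • (X - X')) + τ e3 := by
        rw [← hτ.2.1 x hx' m, hxe',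
          hτ.1 _ (zspanOn_add (zspanOn_zsmul k hmT) (zspanOn_zsmul k' hm12)) _ he3S,
          hτ.1 _ (zspanOn_zsmul k hmT) _ (zspanOn_zsmul k' hm12), hτ.2.1 _ hmT k,
          hτ.2.1 _ hm12 k', coh_map_sub hS hmT hmC', hτ.2.1 _ hmC m, hrel, hdiff]
      have hfinal : m • τ x = m • τ₂ x := by
        rw [hτx, hτe3, hxτ]
        simp only [smul_sub, add_smul, smul_add]
        rw [smul_comm k m X, smul_comm k' m X, smul_comm k' m X']
        abel
      have hmC0 : (m : ℂ) ≠ 0 := by exact_mod_cast hm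
      funext g
      have := congrFun hfinal g
      rw [Pi.smul_apply, Pi.smul_apply, zsmul_eq_mul, zsmul_eq_mul] at this
      exact (mul_left_cancel₀ hmC0 this).symm

end Cfsg.Agent.Lib.Helper11.CohAssemble
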