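import Mathlib
import Cfsg.Agent.Lib.Helper11.CohAssemble
import Cfsg.Agent.Lib.Helper11.SibSetup

set_option autoImplicit false
open scoped ComplexConjugate

namespace Cfsg.Agent.Lib.Helper11.SibRev

open Cfsg.Agent.Lib.helper7 Cfsg.Agent.Lib.helper2 Cfsg.Agent.Lib.Helper25
open Cfsg.Agent.Lib.Helper11 Cfsg.Agent.Lib.Helper11.SibSetup
  Cfsg.Agent.Lib.Helper11.CohAssemble

/-- an irreducible character paired with a signed irreducible character -/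
theorem irr_inner_signed {G : Type*} [Group G] [Fintype G] (θ : G → ℂ)
    (hθ : Cfsg.IsGeneralizedCharacter G θ) (h1 : Cfsg.classInner θ θ = 1)
    (ξ : Cfsg.IrrCharacter G) (hne : Cfsg.classInner θ (ξ : G → ℂ) ≠ 0) :
    ∃ ε : ℂ, (ε = 1 ∨ ε = -1) ∧ (ξ : G → ℂ) = ε • θ := by
  obtain ⟨ε, η, hε, hθη⟩ := genChar_norm_one θ hθ h1
  have hηξ : η = ξ := by
    by_contra hne'
    apply hne
    rw [hθη, classInner_smul_left', irr_classInner, if_neg hne', mul_zero]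
  subst hηξ
  rcases hε with hε | hε
  · refine ⟨1, Or.inl rfl, ?_⟩
    rw [hθη, hε]
    simp
  · refine ⟨-1, Or.inr rfl, ?_⟩
    rw [hθη, hε]
    funext g
    simp

section

variable {G : Type*} [Group G] [Fintype G] {N : Subgroup G} [Fintype N]
  {S : Set (N → ℂ)} {R : (N → ℂ) → Finset (G → ℂ)}

/-- The reversed extension step: the part of `Ind (χ₁ - a ψ)` orthogonal to the image of the
coherent set is divisible by `a`. -/
theorem rev_W (hS : Cfsg.IsCoherenceSystem S (Cfsg.indFun N) R)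
    (hirr : ∀ φ ∈ S, Cfsg.IsIrrCharacter N φ)
    (S₁ : Finset (N → ℂ)) (hS₁ : (↑S₁ : Set (N → ℂ)) ⊆ S)
    (hS₁c : ∀ φ ∈ S₁, Cfsg.conjFun φ ∈ S₁)
    {τ₁ : (N → ℂ) → (G → ℂ)} (hτ₁ : Cfsg.IsLinearIsometryOn (Cfsg.zspan (↑S₁ : Set (N → ℂ))) τ₁)
    (hagree : ∀ α ∈ Cfsg.zspanOn (↑S₁ : Set (N → ℂ)) {1}ᶜ, τ₁ α = Cfsg.indFun N α)
    (ψ : N → ℂ) (hψ : ψ ∈ S) (hψ₁ : ψ ∉ S₁) (hψ₂ : Cfsg.conjFun ψ ∉ S₁)
    (χ₁ : N → ℂ) (hχ₁ : χ₁ ∈ S₁) (a : ℕ) (ha : χ₁ 1 = (a : ℂ) * ψ 1) (ha0 : a ≠ 0)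
    (hdiv : ∀ ξ : Cfsg.IrrCharacter G, (∀ φ ∈ S₁, Cfsg.classInner (τ₁ φ) (ξ : G → ℂ) = 0) →
        ∃ q : ℤ, Cfsg.classInner (fun n : N => (ξ : G → ℂ) n) χ₁ = (q : ℂ) * (a : ℂ))
    (T : G → ℂ) (hT : T = Cfsg.indFun N (χ₁ - (a : ℤ) • ψ)) :
    ∃ W : G → ℂ, Cfsg.IsGeneralizedCharacter G W ∧
      T = ∑ φ ∈ S₁, Cfsg.classInner T (τ₁ φ) • τ₁ φ + (a : ℤ) • W ∧
      (∀ φ ∈ S₁, Cfsg.classInner W (τ₁ φ) = 0) ∧
      Cfsg.classInner W (Cfsg.indFun N (ψ - Cfsg.conjFun ψ)) = -1 := by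
  classical
  have := Fintype.ofFinite (Cfsg.IrrCharacter G)
  have hτ := hS.isometry
  have hχ₁S : χ₁ ∈ S := hS₁ hχ₁
  have hψc : Cfsg.conjFun ψ ∈ S := hS.conj_mem ψ hψ
  have haC : (a : ℂ) ≠ 0 := by exact_mod_cast ha0
  have hnorm1 : ∀ φ ∈ S, Cfsg.classInner φ φ = 1 := by
    intro φ hφ
    have := irr_classInner (⟨φ, hirr φ hφ⟩ : Cfsg.IrrCharacter N) ⟨φ, hirr φ hφ⟩
    rw [if_pos rfl] at this
    exact this
  have hmT : χ₁ - (a : ℤ) • ψ ∈ Cfsg.zspanOn S {1}ᶜ := by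
    apply mem_zspanOn_one (zspan_sub (zspan_of_mem hχ₁S) (zspan_zsmul _ (zspan_of_mem hψ)))
    rw [Pi.sub_apply, Pi.smul_apply, ha, zsmul_eq_mul]
    push_cast
    ring
  have hmC : ψ - Cfsg.conjFun ψ ∈ Cfsg.zspanOn S {1}ᶜ :=
    coh_sub_conj_mem hS (Set.Subset.refl S) hS.conj_mem hψ
  have hTgen : Cfsg.IsGeneralizedCharacter G T := hT ▸ hτ.2.2.2 _ hmT
  have hτ₁gen : ∀ φ ∈ S₁, Cfsg.IsGeneralizedCharacter G (τ₁ φ) := fun φ hφ =>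
    hτ₁.2.2.2 φ (zspan_of_mem hφ)
  -- orthonormality of the images
  have horth : ∀ φ ∈ S₁, ∀ φ' ∈ S₁, Cfsg.classInner (τ₁ φ) (τ₁ φ') = if φ = φ' then 1 else 0 := by
    intro φ hφ φ' hφ'
    rw [hτ₁.2.2.1 φ (zspan_of_mem hφ) φ' (zspan_of_mem hφ')]
    by_cases h : φ = φ'
    · rw [if_pos h, h, hnorm1 φ' (hS₁ hφ')]
    · rw [if_neg h, hS.orthogonal φ (hS₁ hφ) φ' (hS₁ hφ') h]
  -- integrality of the coefficients
  have hint : ∀ φ ∈ S₁, ∃ k : ℤ, Cfsg.classInner T (τ₁ φ) = (k : ℂ) := fun φ hφ =>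
    genChar_inner_genChar_int T (τ₁ φ) hTgen (hτ₁gen φ hφ)
  -- the orthogonal part
  obtain ⟨T', hT'⟩ : ∃ T' : G → ℂ, T' = T - ∑ φ ∈ S₁, Cfsg.classInner T (τ₁ φ) • τ₁ φ := ⟨_, rfl⟩
  have hT'gen : Cfsg.IsGeneralizedCharacter G T' := by
    rw [hT']
    apply genChar_sub hTgen
    apply genChar_sum
    intro φ hφ
    obtain ⟨k, hk⟩ := hint φ hφ
    rw [hk, Int.cast_smul_eq_zsmul]
    exact genChar_zsmul k (hτ₁gen φ hφ)
  have hT'orth : ∀ φ ∈ S₁, Cfsg.classInner T' (τ₁ φ) = 0 := by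
    intro φ hφ
    rw [hT', classInner_sub_left', classInner_sum_left']
    have : ∑ i ∈ S₁, Cfsg.classInner (Cfsg.classInner T (τ₁ i) • τ₁ i) (τ₁ φ) =
        Cfsg.classInner T (τ₁ φ) := by
      rw [Finset.sum_eq_single φ]
      · rw [classInner_smul_left', horth φ hφ φ hφ, if_pos rfl, mul_one]
      · intro b hb hbφ
        rw [classInner_smul_left', horth b hb φ hφ, if_neg hbφ, mul_zero]
      · intro h
        exact absurd hφ h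
    rw [this, sub_self]
  -- orthogonality of the images to C
  have hτ₁C : ∀ φ ∈ S₁, Cfsg.classInner (τ₁ φ) (Cfsg.indFun N (ψ - Cfsg.conjFun ψ)) = 0 := by
    intro φ hφ
    rw [hS.sum_eq ψ hψ, classInner_sum_right'']
    apply Finset.sum_eq_zero
    intro α hα
    have hS₁c' : ∀ φ ∈ (↑S₁ : Set (N → ℂ)), Cfsg.conjFun φ ∈ (↑S₁ : Set (N → ℂ)) :=
      fun φ hφ => hS₁c φ hφ
    apply coh_ext_orth hS hS₁ hS₁c' hτ₁ hagree hφ hψ _ _ α hα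
    · intro h
      exact hψ₁ (h ▸ hφ)
    · intro h
      apply hψ₁
      rw [h]
      exact hS₁c φ hφ
  -- the coefficient of each irreducible character of `G` in `T'` is divisible by `a`
  have hcoef : ∀ ξ : Cfsg.IrrCharacter G, ∃ w : ℤ,
      Cfsg.classInner T' (ξ : G → ℂ) = (a : ℂ) * (w : ℂ) := by
    intro ξ
    by_cases hcase : ∀ φ ∈ S₁, Cfsg.classInner (τ₁ φ) (ξ : G → ℂ) = 0
    · obtain ⟨q, hq⟩ := hdiv ξ hcase
      have h1 : Cfsg.classInner T' (ξ : G → ℂ) = Cfsg.classInner T (ξ : G → ℂ) := by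
        rw [hT', classInner_sub_left', classInner_sum_left']
        have : ∑ i ∈ S₁, Cfsg.classInner (Cfsg.classInner T (τ₁ i) • τ₁ i) (ξ : G → ℂ) = 0 := by
          apply Finset.sum_eq_zero
          intro φ hφ
          rw [classInner_smul_left', hcase φ hφ, mul_zero]
        rw [this, sub_zero]
      obtain ⟨m, hm⟩ := classInner_character_nat (hS.isCharacter ψ hψ)
        (isCharacter_restrict (isCharacter_of_irr ξ) N)
      refine ⟨q - m, ?_⟩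
      rw [h1, hT, h7_frobenius_reciprocity N _ _
        (fun g h => irr_conj_invariant ξ g h), classInner_sub_left', classInner_zsmul_left, hm,
        classInner_conj_symm, hq]
      simp only [map_mul, map_intCast, map_natCast]
      push_cast
      ring
    · push Not at hcase
      obtain ⟨φ, hφ, hne⟩ := hcase
      obtain ⟨ε, hε, hξ⟩ := irr_inner_signed (τ₁ φ) (hτ₁gen φ hφ) (by
        rw [horth φ hφ φ hφ, if_pos rfl]) ξ hne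
      refine ⟨0, ?_⟩
      rw [hξ, h7_classInner_smul_right, hT'orth φ hφ]
      simp
  choose w hw using hcoef
  obtain ⟨W, hWdef⟩ : ∃ W : G → ℂ, W = ∑ ξ : Cfsg.IrrCharacter G, (w ξ) • (ξ : G → ℂ) := ⟨_, rfl⟩
  have hWgen : Cfsg.IsGeneralizedCharacter G W := by
    rw [hWdef]
    apply genChar_sum
    intro ξ _
    apply genChar_zsmul
    exact ⟨(ξ : G → ℂ), 0, isCharacter_of_irr ξ, isCharacter_zero G, by simp⟩
  have hT'W : T' = (a : ℤ) • W := by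
    have h1 := classFunction_expansion T' (genChar_classFunction T' hT'gen)
    rw [h1, hWdef, Finset.smul_sum]
    apply Finset.sum_congr rfl
    intro ξ _
    rw [hw ξ, ← Int.cast_smul_eq_zsmul ℂ (w ξ), ← Int.cast_smul_eq_zsmul ℂ (a : ℤ), smul_smul]
    push_cast
    rfl
  have hTeq : T = ∑ φ ∈ S₁, Cfsg.classInner T (τ₁ φ) • τ₁ φ + (a : ℤ) • W := by
    rw [← hT'W, hT']
    abel
  refine ⟨W, hWgen, hTeq, ?_, ?_⟩
  · intro φ hφ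
    have h1 := hT'orth φ hφ
    rw [hT'W, classInner_zsmul_left] at h1
    have h2 : ((a : ℤ) : ℂ) ≠ 0 := by exact_mod_cast ha0
    exact (mul_eq_zero.mp h1).resolve_left h2
  · have h1 : Cfsg.classInner T' (Cfsg.indFun N (ψ - Cfsg.conjFun ψ)) = -(a : ℂ) := by
      rw [hT', classInner_sub_left', classInner_sum_left']
      have h2 : ∑ i ∈ S₁, Cfsg.classInner (Cfsg.classInner T (τ₁ i) • τ₁ i)
          (Cfsg.indFun N (ψ - Cfsg.conjFun ψ)) = 0 := by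
        apply Finset.sum_eq_zero
        intro φ hφ
        rw [classInner_smul_left', hτ₁C φ hφ, mul_zero]
      rw [h2, sub_zero, hT, hτ.2.2.1 _ hmT _ hmC, classInner_sub_left', classInner_sub_right'',
        classInner_sub_right'', classInner_zsmul_left, classInner_zsmul_left]
      have e1 : Cfsg.classInner χ₁ ψ = 0 := hS.orthogonal χ₁ hχ₁S ψ hψ (fun h => hψ₁ (h ▸ hχ₁))
      have e2 : Cfsg.classInner χ₁ (Cfsg.conjFun ψ) = 0 :=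
        hS.orthogonal χ₁ hχ₁S _ hψc (fun h => hψ₂ (h ▸ hχ₁))
      have e3 : Cfsg.classInner ψ (Cfsg.conjFun ψ) = 0 :=
        hS.orthogonal ψ hψ _ hψc (Ne.symm (hS.conj_ne ψ hψ))
      rw [e1, e2, e3, hnorm1 ψ hψ]
      push_cast
      ring
    rw [hT'W, classInner_zsmul_left] at h1
    have h2 : ((a : ℤ) : ℂ) ≠ 0 := by exact_mod_cast ha0
    apply mul_left_cancel₀ h2
    rw [h1]
    push_cast
    ring

/-- The reversed extension, given that the coefficients of `Ind (χ₁ - a ψ)` on the image of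
the coherent set are the expected ones. -/
theorem rev_core (hS : Cfsg.IsCoherenceSystem S (Cfsg.indFun N) R)
    (hirr : ∀ φ ∈ S, Cfsg.IsIrrCharacter N φ)
    (S₁ : Finset (N → ℂ)) (hS₁ : (↑S₁ : Set (N → ℂ)) ⊆ S)
    (hS₁c : ∀ φ ∈ S₁, Cfsg.conjFun φ ∈ S₁)
    (hne : ∃ α ∈ Cfsg.zspanOn (↑S₁ : Set (N → ℂ)) {1}ᶜ, α ≠ 0)
    {τ₁ : (N → ℂ) → (G → ℂ)} (hτ₁ : Cfsg.IsLinearIsometryOn (Cfsg.zspan (↑S₁ : Set (N → ℂ))) τ₁)
    (hagree : ∀ α ∈ Cfsg.zspanOn (↑S₁ : Set (N → ℂ)) {1}ᶜ, τ₁ α = Cfsg.indFun N α)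
    (ψ : N → ℂ) (hψ : ψ ∈ S) (hψ₁ : ψ ∉ S₁) (hψ₂ : Cfsg.conjFun ψ ∉ S₁)
    (χ₁ : N → ℂ) (hχ₁ : χ₁ ∈ S₁) (a : ℕ) (ha : χ₁ 1 = (a : ℂ) * ψ 1) (ha0 : a ≠ 0)
    (hdiv : ∀ ξ : Cfsg.IrrCharacter G, (∀ φ ∈ S₁, Cfsg.classInner (τ₁ φ) (ξ : G → ℂ) = 0) →
        ∃ q : ℤ, Cfsg.classInner (fun n : N => (ξ : G → ℂ) n) χ₁ = (q : ℂ) * (a : ℂ))
    (ht : ∀ φ ∈ S₁, Cfsg.classInner (Cfsg.indFun N (χ₁ - (a : ℤ) • ψ)) (τ₁ φ) =
      if φ = χ₁ then 1 else 0) :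
    Cfsg.IsCoherent (↑S₁ ∪ {ψ, Cfsg.conjFun ψ} : Set (N → ℂ)) {1}ᶜ (Cfsg.indFun N) := by
  classical
  obtain ⟨T, hT⟩ : ∃ T : G → ℂ, T = Cfsg.indFun N (χ₁ - (a : ℤ) • ψ) := ⟨_, rfl⟩
  rw [← hT] at ht
  obtain ⟨W, hWgen, hTeq, hWorth, hWC⟩ := rev_W hS hirr S₁ hS₁ hS₁c hτ₁ hagree ψ hψ hψ₁ hψ₂ χ₁ hχ₁
    a ha ha0 hdiv T hT
  have hτ := hS.isometry
  have hχ₁S : χ₁ ∈ S := hS₁ hχ₁
  have hψc : Cfsg.conjFun ψ ∈ S := hS.conj_mem ψ hψ
  have haC : (a : ℂ) ≠ 0 := by exact_mod_cast ha0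
  have hnorm1 : ∀ φ ∈ S, Cfsg.classInner φ φ = 1 := by
    intro φ hφ
    have := irr_classInner (⟨φ, hirr φ hφ⟩ : Cfsg.IrrCharacter N) ⟨φ, hirr φ hφ⟩
    rw [if_pos rfl] at this
    exact this
  have hmT : χ₁ - (a : ℤ) • ψ ∈ Cfsg.zspanOn S {1}ᶜ := by
    apply mem_zspanOn_one (zspan_sub (zspan_of_mem hχ₁S) (zspan_zsmul _ (zspan_of_mem hψ)))
    rw [Pi.sub_apply, Pi.smul_apply, ha, zsmul_eq_mul]
    push_cast
    ring
  have hmC : ψ - Cfsg.conjFun ψ ∈ Cfsg.zspanOn S {1}ᶜ :=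
    coh_sub_conj_mem hS (Set.Subset.refl S) hS.conj_mem hψ
  obtain ⟨C, hC⟩ : ∃ C : G → ℂ, C = Cfsg.indFun N (ψ - Cfsg.conjFun ψ) := ⟨_, rfl⟩
  rw [← hC] at hWC
  have hCgen : Cfsg.IsGeneralizedCharacter G C := hC ▸ hτ.2.2.2 _ hmC
  -- T = τ₁ χ₁ + a W
  have hTeq' : T = τ₁ χ₁ + (a : ℤ) • W := by
    rw [hTeq]
    congr 1
    rw [Finset.sum_eq_single χ₁]
    · rw [ht χ₁ hχ₁, if_pos rfl, one_smul]
    · intro φ hφ hne'
      rw [ht φ hφ, if_neg hne', zero_smul]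
    · intro h
      exact absurd hχ₁ h
  have hτ₁χ₁ : Cfsg.classInner (τ₁ χ₁) (τ₁ χ₁) = 1 := by
    rw [hτ₁.2.2.1 χ₁ (zspan_of_mem hχ₁) χ₁ (zspan_of_mem hχ₁), hnorm1 χ₁ hχ₁S]
  have hWχ₁ : Cfsg.classInner W (τ₁ χ₁) = 0 := hWorth χ₁ hχ₁
  have hχ₁W : Cfsg.classInner (τ₁ χ₁) W = 0 := by
    rw [classInner_conj_symm, hWχ₁, map_zero]
  -- the norm of W
  have hTT : Cfsg.classInner T T = 1 + (a : ℂ) ^ 2 := by
    rw [hT, hτ.2.2.1 _ hmT _ hmT, classInner_sub_left', classInner_sub_right'',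
      classInner_sub_right'', classInner_zsmul_left, classInner_zsmul_left,
      classInner_zsmul_right, classInner_zsmul_right, hnorm1 χ₁ hχ₁S, hnorm1 ψ hψ]
    have e1 : Cfsg.classInner χ₁ ψ = 0 := hS.orthogonal χ₁ hχ₁S ψ hψ (fun h => hψ₁ (h ▸ hχ₁))
    have e2 : Cfsg.classInner ψ χ₁ = 0 := hS.orthogonal ψ hψ χ₁ hχ₁S (fun h => hψ₁ (h.symm ▸ hχ₁))
    rw [e1, e2]
    push_cast
    ring
  have hWW : Cfsg.classInner W W = 1 := by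
    have h1 : Cfsg.classInner T T = 1 + (a : ℂ) ^ 2 * Cfsg.classInner W W := by
      rw [hTeq', classInner_add_left', h7_classInner_add_right, h7_classInner_add_right,
        classInner_zsmul_left, classInner_zsmul_left, classInner_zsmul_right,
        classInner_zsmul_right, hτ₁χ₁, hWχ₁, hχ₁W]
      push_cast
      ring
    rw [hTT] at h1
    have h2 : (a : ℂ) ^ 2 * 1 = (a : ℂ) ^ 2 * Cfsg.classInner W W := by linear_combination h1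
    exact (mul_left_cancel₀ (pow_ne_zero 2 haC) h2).symm
  -- facts about C
  have hτ₁C : ∀ φ ∈ S₁, Cfsg.classInner (τ₁ φ) C = 0 := by
    intro φ hφ
    rw [hC, hS.sum_eq ψ hψ, classInner_sum_right'']
    apply Finset.sum_eq_zero
    intro α hα
    have hS₁c' : ∀ φ ∈ (↑S₁ : Set (N → ℂ)), Cfsg.conjFun φ ∈ (↑S₁ : Set (N → ℂ)) :=
      fun φ hφ => hS₁c φ hφ
    apply coh_ext_orth hS hS₁ hS₁c' hτ₁ hagree hφ hψ _ _ α hα
    · intro h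
      exact hψ₁ (h ▸ hφ)
    · intro h
      apply hψ₁
      rw [h]
      exact hS₁c φ hφ
  have hCτ₁ : ∀ φ ∈ S₁, Cfsg.classInner C (τ₁ φ) = 0 := by
    intro φ hφ
    rw [classInner_conj_symm, hτ₁C φ hφ, map_zero]
  have hCC : Cfsg.classInner C C = 2 := by
    rw [hC, hτ.2.2.1 _ hmC _ hmC, classInner_sub_left', classInner_sub_right'',
      classInner_sub_right'', hnorm1 ψ hψ, classInner_conjFun_self, hnorm1 ψ hψ]
    have e3 : Cfsg.classInner ψ (Cfsg.conjFun ψ) = 0 :=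
      hS.orthogonal ψ hψ _ hψc (Ne.symm (hS.conj_ne ψ hψ))
    have e4 : Cfsg.classInner (Cfsg.conjFun ψ) ψ = 0 :=
      hS.orthogonal _ hψc ψ hψ (hS.conj_ne ψ hψ)
    rw [e3, e4]
    norm_num
  have hCW : Cfsg.classInner C W = -1 := by
    rw [classInner_conj_symm, hWC]
    simp
  -- the candidates
  obtain ⟨Ψ, hΨ⟩ : ∃ Ψ : G → ℂ, Ψ = -W := ⟨_, rfl⟩
  have hΨgen : Cfsg.IsGeneralizedCharacter G Ψ := hΨ ▸ genChar_neg hWgen
  have hΨ'gen : Cfsg.IsGeneralizedCharacter G (Ψ - C) := genChar_sub hΨgen hCgen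
  have hΨφ : ∀ φ ∈ S₁, Cfsg.classInner Ψ (τ₁ φ) = 0 := by
    intro φ hφ
    rw [hΨ, classInner_neg_left, hWorth φ hφ, neg_zero]
  have hΨ'φ : ∀ φ ∈ S₁, Cfsg.classInner (Ψ - C) (τ₁ φ) = 0 := by
    intro φ hφ
    rw [classInner_sub_left', hΨφ φ hφ, hCτ₁ φ hφ, sub_zero]
  have hΨΨ : Cfsg.classInner Ψ Ψ = 1 := by
    rw [hΨ, classInner_neg_left, classInner_neg_right, hWW]
    ring
  have hΨC : Cfsg.classInner Ψ C = 1 := by
    rw [hΨ, classInner_neg_left, hWC]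
    ring
  have hCΨ : Cfsg.classInner C Ψ = 1 := by
    rw [hΨ, classInner_neg_right, hCW]
    ring
  have hΨ'Ψ' : Cfsg.classInner (Ψ - C) (Ψ - C) = 1 := by
    rw [classInner_sub_left', classInner_sub_right'', classInner_sub_right'', hΨΨ, hΨC, hCΨ, hCC]
    ring
  have hΨΨ' : Cfsg.classInner Ψ (Ψ - C) = 0 := by
    rw [classInner_sub_right'', hΨΨ, hΨC, sub_self]
  have hβ : (-1 : ℤ) • χ₁ ∈ Cfsg.zspan (↑S₁ : Set (N → ℂ)) := zspan_zsmul _ (zspan_of_mem hχ₁)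
  refine coh_assemble hS (fun _ => 1) (fun φ hφ => by rw [hnorm1 φ hφ]; simp) (↑S₁) hS₁ hne hτ₁
    hagree ψ hψ hψ₁ hψ₂ Ψ (Ψ - C) hΨgen hΨ'gen hΨφ hΨ'φ (by rw [hΨΨ]; simp) (by rw [hΨ'Ψ']; simp)
    hΨΨ' (by rw [← hC]; abel) (-(a : ℤ)) (by
      intro h
      apply ha0
      have : (a : ℤ) = 0 := by linarith
      exact_mod_cast this) ((-1 : ℤ) • χ₁) hβ (by
      rw [Pi.smul_apply, ha]
      push_cast
      simp) ?_
  have e5 : -(a : ℤ) • ψ - (-1 : ℤ) • χ₁ = χ₁ - (a : ℤ) • ψ := by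
    rw [neg_smul, neg_smul, one_smul]
    abel
  rw [e5, ← hT, hTeq', hτ₁.2.1 χ₁ (zspan_of_mem hχ₁), hΨ]
  simp only [neg_smul, one_smul, smul_neg, neg_neg]
  abel

end

end Cfsg.Agent.Lib.Helper11.SibRev
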