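import Mathlib
import Cfsg.Agent.Lib.Helper11.SibRev

set_option autoImplicit false
open scoped ComplexConjugate

namespace Cfsg.Agent.Lib.Helper11.SibRevExt

open Cfsg.Agent.Lib.helper7 Cfsg.Agent.Lib.helper2 Cfsg.Agent.Lib.Helper25
open Cfsg.Agent.Lib.Helper11 Cfsg.Agent.Lib.Helper11.SibSetup
  Cfsg.Agent.Lib.Helper11.CohAssemble Cfsg.Agent.Lib.Helper11.SibRev

/-- integer core of the reversed extension -/
theorem rev_arith {ι : Type*} [DecidableEq ι] (S₁ : Finset ι) (χ₁ φ' : ι) (hχ₁ : χ₁ ∈ S₁)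
    (hφ' : φ' ∈ S₁) (hne : φ' ≠ χ₁) (k : ι → ℤ) (d : ι → ℕ) (hd0 : ∀ φ ∈ S₁, d φ ≠ 0)
    (hdeq : d φ' = d χ₁) (hsum : ∑ φ ∈ S₁, (k φ) ^ 2 ≤ 1)
    (hprop : ∀ φ ∈ S₁, ∀ φ'' ∈ S₁, (d φ'' : ℤ) * (k φ - if φ = χ₁ then 1 else 0) =
        (d φ : ℤ) * (k φ'' - if φ'' = χ₁ then 1 else 0)) :
    (∀ φ ∈ S₁, k φ = if φ = χ₁ then 1 else 0) ∨
    (k χ₁ = 0 ∧ k φ' = -1 ∧ ∀ φ ∈ S₁, φ = χ₁ ∨ φ = φ') := by
  have hdχ : (d χ₁ : ℤ) ≠ 0 := by exact_mod_cast hd0 χ₁ hχ₁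
  by_cases hu : k χ₁ = 1
  · left
    intro φ hφ
    have h1 := hprop φ hφ χ₁ hχ₁
    rw [if_pos rfl, hu, sub_self, mul_zero] at h1
    have h2 := (mul_eq_zero.mp h1).resolve_left hdχ
    linarith
  · right
    have hu' : k χ₁ - 1 ≠ 0 := fun h => hu (by linarith)
    have hnz : ∀ φ ∈ S₁, φ ≠ χ₁ → k φ ≠ 0 := by
      intro φ hφ hφne h0
      have h1 := hprop φ hφ χ₁ hχ₁
      rw [if_pos rfl, if_neg hφne, h0, sub_zero, mul_zero] at h1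
      have hdφ : (d φ : ℤ) ≠ 0 := by exact_mod_cast hd0 φ hφ
      exact (mul_ne_zero hdφ hu') h1.symm
    have hkφ' : k φ' ≠ 0 := hnz φ' hφ' hne
    have hsq : ∀ z : ℤ, z ≠ 0 → 1 ≤ z ^ 2 := by
      intro z hz
      have : 0 < z ^ 2 := by positivity
      linarith
    have hpair : ∀ φ ∈ S₁, φ ≠ φ' → (k φ) ^ 2 + (k φ') ^ 2 ≤ 1 := by
      intro φ hφ hφne
      have hsub : ({φ, φ'} : Finset ι) ⊆ S₁ := by
        intro x hx
        rcases Finset.mem_insert.mp hx with h | h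
        · exact h ▸ hφ
        · exact (Finset.mem_singleton.mp h) ▸ hφ'
      have := Finset.sum_le_sum_of_subset_of_nonneg hsub (f := fun φ => (k φ) ^ 2)
        (fun i _ _ => by positivity)
      rw [Finset.sum_pair hφne] at this
      linarith
    have hk0 : k χ₁ = 0 := by
      have h1 := hpair χ₁ hχ₁ (Ne.symm hne)
      have h2 := hsq _ hkφ'
      have h3 : (k χ₁) ^ 2 ≤ 0 := by linarith
      have h4 : (k χ₁) ^ 2 = 0 := le_antisymm h3 (by positivity)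
      exact pow_eq_zero_iff (by norm_num) |>.mp h4
    refine ⟨hk0, ?_, ?_⟩
    · have h1 := hprop φ' hφ' χ₁ hχ₁
      rw [if_pos rfl, if_neg hne, hk0, sub_zero, hdeq] at h1
      have h2 : (d χ₁ : ℤ) * k φ' = (d χ₁ : ℤ) * (-1) := by linarith
      exact mul_left_cancel₀ hdχ h2
    · intro φ hφ
      by_contra hcon
      push Not at hcon
      have h1 := hpair φ hφ hcon.2
      have h2 := hsq _ hkφ'
      have h3 := hsq _ (hnz φ hφ hcon.1)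
      linarith

theorem conjFun_add' {X : Type*} (a b : X → ℂ) :
    Cfsg.conjFun (a + b) = Cfsg.conjFun a + Cfsg.conjFun b := by
  funext x
  simp [Cfsg.conjFun]

theorem conjFun_zsmul' {X : Type*} (n : ℤ) (a : X → ℂ) :
    Cfsg.conjFun (n • a) = n • Cfsg.conjFun a := by
  funext x
  simp [Cfsg.conjFun]

theorem conjFun_neg' {X : Type*} (a : X → ℂ) :
    Cfsg.conjFun (-a) = -Cfsg.conjFun a := by
  funext x
  simp [Cfsg.conjFun]

theorem conjFun_zero' {X : Type*} : Cfsg.conjFun (0 : X → ℂ) = 0 := by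
  funext x
  simp [Cfsg.conjFun]

theorem zspan_conjFun {X : Type*} {S₁ : Set (X → ℂ)} (hS₁c : ∀ φ ∈ S₁, Cfsg.conjFun φ ∈ S₁)
    {x : X → ℂ} (hx : x ∈ Cfsg.zspan S₁) : Cfsg.conjFun x ∈ Cfsg.zspan S₁ := by
  induction hx using Submodule.span_induction with
  | mem φ h => exact zspan_of_mem (hS₁c φ h)
  | zero => rw [conjFun_zero']; exact zspan_zero _
  | add a b _ _ iha ihb => rw [conjFun_add']; exact zspan_add iha ihb
  | smul n a _ iha => rw [conjFun_zsmul']; exact zspan_zsmul n iha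

theorem classInner_conjFun_conjFun {N : Type*} [Group N] [Fintype N] (x y : N → ℂ) :
    Cfsg.classInner (Cfsg.conjFun x) (Cfsg.conjFun y) = conj (Cfsg.classInner x y) := by
  unfold Cfsg.classInner Cfsg.conjFun
  rw [map_mul, map_sum]
  congr 1
  · simp
  · apply Finset.sum_congr rfl
    intro g _
    rw [map_mul]

theorem zspan_inner_real {N : Type*} [Group N] [Fintype N] {S₁ : Set (N → ℂ)}
    (hchar : ∀ φ ∈ S₁, Cfsg.IsCharacter N φ) :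
    ∀ x ∈ Cfsg.zspan S₁, ∀ y ∈ Cfsg.zspan S₁,
      conj (Cfsg.classInner x y) = Cfsg.classInner x y := by
  have h1 : ∀ φ ∈ S₁, ∀ y ∈ Cfsg.zspan S₁,
      conj (Cfsg.classInner φ y) - Cfsg.classInner φ y = 0 := by
    intro φ hφ
    apply zspan_induction_zero (fun w => conj (Cfsg.classInner φ w) - Cfsg.classInner φ w)
    · intro a b
      simp only [h7_classInner_add_right, map_add]
      ring
    · intro n a
      simp only [classInner_zsmul_right, map_mul, map_intCast]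
      ring
    · intro φ' hφ'
      obtain ⟨m, hm⟩ := classInner_character_nat (hchar φ hφ) (hchar φ' hφ')
      rw [hm]
      simp
  intro x hx y hy
  have h2 : conj (Cfsg.classInner x y) - Cfsg.classInner x y = 0 := by
    revert x
    apply zspan_induction_zero (fun w => conj (Cfsg.classInner w y) - Cfsg.classInner w y)
    · intro a b
      simp only [classInner_add_left', map_add]
      ring
    · intro n a
      simp only [classInner_zsmul_left, map_mul, map_intCast]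
      ring
    · intro φ hφ
      exact h1 φ hφ y hy
  exact sub_eq_zero.mp h2

section

variable {L : Type*} [Group L] [Fintype L] {G : Type*} [Group G] [Fintype G]
  {S : Set (L → ℂ)} {τ : (L → ℂ) → (G → ℂ)} {R : (L → ℂ) → Finset (G → ℂ)}

/-- For a two-element coherent set `{χ₁, conj χ₁}` the other choice of the extension. -/
theorem switch_iso (hS : Cfsg.IsCoherenceSystem S τ R) (S₁ : Set (L → ℂ)) (hS₁ : S₁ ⊆ S)
    (hS₁c : ∀ φ ∈ S₁, Cfsg.conjFun φ ∈ S₁)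
    {τ₁ : (L → ℂ) → (G → ℂ)} (hτ₁ : Cfsg.IsLinearIsometryOn (Cfsg.zspan S₁) τ₁)
    (hagree : ∀ α ∈ Cfsg.zspanOn S₁ {1}ᶜ, τ₁ α = τ α)
    (χ₁ : L → ℂ) (hχ₁ : χ₁ ∈ S₁) (hall : ∀ φ ∈ S₁, φ = χ₁ ∨ φ = Cfsg.conjFun χ₁) :
    Cfsg.IsLinearIsometryOn (Cfsg.zspan S₁) (fun γ => -τ₁ (Cfsg.conjFun γ)) ∧
    ∀ α ∈ Cfsg.zspanOn S₁ {1}ᶜ, -τ₁ (Cfsg.conjFun α) = τ α := by
  have hchar : ∀ φ ∈ S₁, Cfsg.IsCharacter L φ := fun φ hφ => hS.isCharacter φ (hS₁ hφ)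
  refine ⟨⟨?_, ?_, ?_, ?_⟩, ?_⟩
  · intro x hx y hy
    change -τ₁ (Cfsg.conjFun (x + y)) = -τ₁ (Cfsg.conjFun x) + -τ₁ (Cfsg.conjFun y)
    rw [conjFun_add', hτ₁.1 _ (zspan_conjFun hS₁c hx) _ (zspan_conjFun hS₁c hy)]
    abel
  · intro x hx n
    change -τ₁ (Cfsg.conjFun (n • x)) = n • -τ₁ (Cfsg.conjFun x)
    rw [conjFun_zsmul', hτ₁.2.1 _ (zspan_conjFun hS₁c hx) n, smul_neg]
  · intro x hx y hy
    change Cfsg.classInner (-τ₁ (Cfsg.conjFun x)) (-τ₁ (Cfsg.conjFun y)) = _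
    rw [classInner_neg_left, classInner_neg_right, neg_neg,
      hτ₁.2.2.1 _ (zspan_conjFun hS₁c hx) _ (zspan_conjFun hS₁c hy), classInner_conjFun_conjFun,
      zspan_inner_real hchar x hx y hy]
  · intro x hx
    exact genChar_neg (hτ₁.2.2.2 _ (zspan_conjFun hS₁c hx))
  · intro α hα
    have hχ₁S : χ₁ ∈ S := hS₁ hχ₁
    have hsub : S₁ ⊆ ({χ₁, Cfsg.conjFun χ₁} : Set (L → ℂ)) := by
      intro φ hφ
      rcases hall φ hφ with h | h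
      · exact Or.inl h
      · exact Or.inr h
    have hα' : α ∈ Submodule.span ℤ ({χ₁, Cfsg.conjFun χ₁} : Set (L → ℂ)) :=
      zspan_mono hsub hα.1
    obtain ⟨m, m', hmm⟩ := Submodule.mem_span_pair.mp hα'
    have hα1 : α 1 = 0 := hα.2 1 (by simp)
    have hdeg : χ₁ 1 ≠ 0 := coh_degree_ne_zero hS hχ₁S
    have hm' : m' = -m := by
      have h1 : α 1 = (m : ℂ) * χ₁ 1 + (m' : ℂ) * χ₁ 1 := by
        rw [← hmm, Pi.add_apply, Pi.smul_apply, Pi.smul_apply,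
          conjFun_one_of_isCharacter (hS.isCharacter χ₁ hχ₁S), zsmul_eq_mul, zsmul_eq_mul]
      rw [hα1] at h1
      have h2 : ((m : ℂ) + (m' : ℂ)) * χ₁ 1 = 0 := by linear_combination -h1
      have h3 := (mul_eq_zero.mp h2).resolve_right hdeg
      have h4 : ((m + m' : ℤ) : ℂ) = 0 := by push_cast; exact h3
      have h5 : m + m' = 0 := by exact_mod_cast h4
      linarith
    have hconj : Cfsg.conjFun α = -α := by
      rw [← hmm, hm', conjFun_add', conjFun_zsmul', conjFun_zsmul', conjFun_conjFun, neg_smul,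
        neg_smul]
      abel
    rw [hconj]
    have h1 : -α = (-1 : ℤ) • α := by simp
    rw [h1, hτ₁.2.1 α hα.1 (-1), hagree α hα]
    simp

end


section

variable {G : Type*} [Group G] [Fintype G] {N : Subgroup G} [Fintype N]
  {S : Set (N → ℂ)} {R : (N → ℂ) → Finset (G → ℂ)}

/-- **The reversed extension step.** -/
theorem rev_ext (hS : Cfsg.IsCoherenceSystem S (Cfsg.indFun N) R)
    (hirr : ∀ φ ∈ S, Cfsg.IsIrrCharacter N φ)
    (d : (N → ℂ) → ℕ) (hd : ∀ φ ∈ S, φ 1 = (d φ : ℂ))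
    (S₁ : Finset (N → ℂ)) (hS₁ : (↑S₁ : Set (N → ℂ)) ⊆ S)
    (hS₁c : ∀ φ ∈ S₁, Cfsg.conjFun φ ∈ S₁)
    (hne : ∃ α ∈ Cfsg.zspanOn (↑S₁ : Set (N → ℂ)) {1}ᶜ, α ≠ 0)
    {τ₁ : (N → ℂ) → (G → ℂ)} (hτ₁ : Cfsg.IsLinearIsometryOn (Cfsg.zspan (↑S₁ : Set (N → ℂ))) τ₁)
    (hagree : ∀ α ∈ Cfsg.zspanOn (↑S₁ : Set (N → ℂ)) {1}ᶜ, τ₁ α = Cfsg.indFun N α)
    (ψ : N → ℂ) (hψ : ψ ∈ S) (hψ₁ : ψ ∉ S₁) (hψ₂ : Cfsg.conjFun ψ ∉ S₁)
    (χ₁ : N → ℂ) (hχ₁ : χ₁ ∈ S₁) (a : ℕ) (ha : χ₁ 1 = (a : ℂ) * ψ 1) (ha0 : a ≠ 0)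
    (hdiv : ∀ ξ : Cfsg.IrrCharacter G, (∀ φ ∈ S₁, Cfsg.classInner (τ₁ φ) (ξ : G → ℂ) = 0) →
        ∃ q : ℤ, Cfsg.classInner (fun n : N => (ξ : G → ℂ) n) χ₁ = (q : ℂ) * (a : ℂ)) :
    Cfsg.IsCoherent (↑S₁ ∪ {ψ, Cfsg.conjFun ψ} : Set (N → ℂ)) {1}ᶜ (Cfsg.indFun N) := by
  classical
  obtain ⟨T, hT⟩ : ∃ T : G → ℂ, T = Cfsg.indFun N (χ₁ - (a : ℤ) • ψ) := ⟨_, rfl⟩
  obtain ⟨W, hWgen, hTeq, hWorth, hWC⟩ := rev_W hS hirr S₁ hS₁ hS₁c hτ₁ hagree ψ hψ hψ₁ hψ₂ χ₁ hχ₁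
    a ha ha0 hdiv T hT
  have hτ := hS.isometry
  have hχ₁S : χ₁ ∈ S := hS₁ hχ₁
  have hψc : Cfsg.conjFun ψ ∈ S := hS.conj_mem ψ hψ
  have haC : (a : ℂ) ≠ 0 := by exact_mod_cast ha0
  have hnorm1 : ∀ φ ∈ S, Cfsg.classInner φ φ = 1 := by
    intro φ hφ
    have := irr_classInner (⟨φ, hirr φ hφ⟩ : Cfsg.IrrCharacter N) ⟨φ, hirr φ hφ⟩
    rw [if_pos rfl] at this
    exact this
  have hmT : χ₁ - (a : ℤ) • ψ ∈ Cfsg.zspanOn S {1}ᶜ := by
    apply mem_zspanOn_one (zspan_sub (zspan_of_mem hχ₁S) (zspan_zsmul _ (zspan_of_mem hψ)))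
    rw [Pi.sub_apply, Pi.smul_apply, ha, zsmul_eq_mul]
    push_cast
    ring
  have hTgen : Cfsg.IsGeneralizedCharacter G T := hT ▸ hτ.2.2.2 _ hmT
  have hτ₁gen : ∀ φ ∈ S₁, Cfsg.IsGeneralizedCharacter G (τ₁ φ) := fun φ hφ =>
    hτ₁.2.2.2 φ (zspan_of_mem hφ)
  have hint : ∀ φ ∈ S₁, ∃ k : ℤ, Cfsg.classInner T (τ₁ φ) = (k : ℂ) := fun φ hφ =>
    genChar_inner_genChar_int T (τ₁ φ) hTgen (hτ₁gen φ hφ)
  choose! k hk using hint
  -- the norm of T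
  have hTT : Cfsg.classInner T T = 1 + (a : ℂ) ^ 2 := by
    rw [hT, hτ.2.2.1 _ hmT _ hmT, classInner_sub_left', classInner_sub_right'',
      classInner_sub_right'', classInner_zsmul_left, classInner_zsmul_left,
      classInner_zsmul_right, classInner_zsmul_right, hnorm1 χ₁ hχ₁S, hnorm1 ψ hψ]
    have e1 : Cfsg.classInner χ₁ ψ = 0 := hS.orthogonal χ₁ hχ₁S ψ hψ (fun h => hψ₁ (h ▸ hχ₁))
    have e2 : Cfsg.classInner ψ χ₁ = 0 := hS.orthogonal ψ hψ χ₁ hχ₁S (fun h => hψ₁ (h.symm ▸ hχ₁))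
    rw [e1, e2]
    push_cast
    ring
  have hτ₁W : ∀ φ ∈ S₁, Cfsg.classInner (τ₁ φ) W = 0 := by
    intro φ hφ
    rw [classInner_conj_symm, hWorth φ hφ, map_zero]
  have hTW : Cfsg.classInner T W = (a : ℂ) * Cfsg.classInner W W := by
    have h1 : Cfsg.classInner T W = Cfsg.classInner
        (∑ φ ∈ S₁, Cfsg.classInner T (τ₁ φ) • τ₁ φ + (a : ℤ) • W) W :=
      congrArg (fun x => Cfsg.classInner x W) hTeq
    rw [h1, classInner_add_left', classInner_sum_left', classInner_zsmul_left,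
      Finset.sum_eq_zero (fun φ hφ => by rw [classInner_smul_left', hτ₁W φ hφ, mul_zero]), zero_add]
    push_cast
    rfl
  have hTT2 : Cfsg.classInner T T = ∑ φ ∈ S₁, ((k φ : ℂ)) ^ 2 + (a : ℂ) ^ 2 * Cfsg.classInner W W := by
    have h1 : Cfsg.classInner T T = Cfsg.classInner T
        (∑ φ ∈ S₁, Cfsg.classInner T (τ₁ φ) • τ₁ φ + (a : ℤ) • W) :=
      congrArg (Cfsg.classInner T) hTeq
    rw [h1, h7_classInner_add_right, classInner_sum_right'', classInner_zsmul_right, hTW]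
    congr 1
    · apply Finset.sum_congr rfl
      intro φ hφ
      rw [h7_classInner_smul_right, hk φ hφ]
      simp only [map_intCast]
      ring
    · push_cast
      ring
  obtain ⟨g, hg⟩ := genChar_norm_nat W hWgen
  have hg0 : g ≠ 0 := by
    intro h0
    have hW0 : W = 0 := by
      apply eq_zero_of_classInner_self
      rw [hg, h0]
      simp
    rw [hW0, classInner_zero_left'] at hWC
    norm_num at hWC
  have hsum : ∑ φ ∈ S₁, (k φ) ^ 2 ≤ 1 := by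
    have h1 : ((∑ φ ∈ S₁, (k φ) ^ 2 + (a : ℤ) ^ 2 * (g : ℤ) : ℤ) : ℂ) = ((1 + (a : ℤ) ^ 2 : ℤ) : ℂ) := by
      push_cast
      rw [← hg, ← hTT2, hTT]
    have h2 : ∑ φ ∈ S₁, (k φ) ^ 2 + (a : ℤ) ^ 2 * (g : ℤ) = 1 + (a : ℤ) ^ 2 := by exact_mod_cast h1
    have h3 : (1 : ℤ) ≤ (g : ℤ) := by
      have : 1 ≤ g := Nat.one_le_iff_ne_zero.mpr hg0
      exact_mod_cast this
    have h4 : (0 : ℤ) ≤ (a : ℤ) ^ 2 := by positivity
    nlinarith
  -- proportionality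
  have hdS₁ : ∀ φ ∈ S₁, φ 1 = (d φ : ℂ) := fun φ hφ => hd φ (hS₁ hφ)
  have hprop : ∀ φ ∈ S₁, ∀ φ'' ∈ S₁, (d φ'' : ℤ) * (k φ - if φ = χ₁ then 1 else 0) =
      (d φ : ℤ) * (k φ'' - if φ'' = χ₁ then 1 else 0) := by
    intro φ hφ φ'' hφ''
    obtain ⟨β, hβ⟩ : ∃ β : N → ℂ, β = (d φ'' : ℤ) • φ - (d φ : ℤ) • φ'' := ⟨_, rfl⟩
    have hβm : β ∈ Cfsg.zspanOn (↑S₁ : Set (N → ℂ)) {1}ᶜ := by
      rw [hβ]
      apply mem_zspanOn_one (zspan_sub (zspan_zsmul _ (zspan_of_mem hφ))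
        (zspan_zsmul _ (zspan_of_mem hφ'')))
      rw [Pi.sub_apply, Pi.smul_apply, Pi.smul_apply, hdS₁ φ hφ, hdS₁ φ'' hφ'', zsmul_eq_mul,
        zsmul_eq_mul]
      push_cast
      ring
    have hβS := zspanOn_mono hS₁ {1}ᶜ hβm
    have h1 : τ₁ β = (d φ'' : ℤ) • τ₁ φ - (d φ : ℤ) • τ₁ φ'' := by
      rw [hβ, isoOn_map_sub hτ₁ (zspan_zsmul _ (zspan_of_mem hφ))
        (zspan_zsmul _ (zspan_of_mem hφ'')), hτ₁.2.1 φ (zspan_of_mem hφ),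
        hτ₁.2.1 φ'' (zspan_of_mem hφ'')]
    have h2 : Cfsg.classInner T (τ₁ β) = (d φ'' : ℂ) * (k φ : ℂ) - (d φ : ℂ) * (k φ'' : ℂ) := by
      rw [h1, classInner_sub_right'', classInner_zsmul_right, classInner_zsmul_right, hk φ hφ,
        hk φ'' hφ'']
      push_cast
      ring
    have e1 : Cfsg.classInner ψ φ = 0 := hS.orthogonal ψ hψ φ (hS₁ hφ) (fun h => hψ₁ (h.symm ▸ hφ))
    have e2 : Cfsg.classInner ψ φ'' = 0 :=
      hS.orthogonal ψ hψ φ'' (hS₁ hφ'') (fun h => hψ₁ (h.symm ▸ hφ''))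
    have e3 : Cfsg.classInner χ₁ φ = if φ = χ₁ then 1 else 0 := by
      by_cases h : φ = χ₁
      · rw [if_pos h, h, hnorm1 χ₁ hχ₁S]
      · rw [if_neg h, hS.orthogonal χ₁ hχ₁S φ (hS₁ hφ) (Ne.symm h)]
    have e4 : Cfsg.classInner χ₁ φ'' = if φ'' = χ₁ then 1 else 0 := by
      by_cases h : φ'' = χ₁
      · rw [if_pos h, h, hnorm1 χ₁ hχ₁S]
      · rw [if_neg h, hS.orthogonal χ₁ hχ₁S φ'' (hS₁ hφ'') (Ne.symm h)]
    have h3 : Cfsg.classInner T (τ₁ β) = (d φ'' : ℂ) * (if φ = χ₁ then 1 else 0) -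
        (d φ : ℂ) * (if φ'' = χ₁ then 1 else 0) := by
      rw [hagree β hβm, hT, hτ.2.2.1 _ hmT _ hβS, hβ]
      simp only [classInner_sub_left', classInner_sub_right'', classInner_zsmul_left,
        classInner_zsmul_right, e1, e2, e3, e4]
      push_cast
      ring
    rw [h2] at h3
    have h4 : (((d φ'' : ℤ) * (k φ - if φ = χ₁ then 1 else 0) : ℤ) : ℂ) =
        (((d φ : ℤ) * (k φ'' - if φ'' = χ₁ then 1 else 0) : ℤ) : ℂ) := by
      push_cast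
      split_ifs <;> split_ifs at h3 <;> linear_combination h3
    exact_mod_cast h4
  have hd0 : ∀ φ ∈ S₁, d φ ≠ 0 := fun φ hφ => coh_deg_ne_zero hS d hd (hS₁ hφ)
  have hdconj : d (Cfsg.conjFun χ₁) = d χ₁ := by
    have h1 := hd _ (hS.conj_mem χ₁ hχ₁S)
    rw [conjFun_one_of_isCharacter (hS.isCharacter χ₁ hχ₁S), hd χ₁ hχ₁S] at h1
    exact_mod_cast h1.symm
  rcases rev_arith S₁ χ₁ (Cfsg.conjFun χ₁) hχ₁ (hS₁c χ₁ hχ₁) (hS.conj_ne χ₁ hχ₁S) k d hd0 hdconj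
    hsum hprop with hcase | ⟨hk0, hk1, hall⟩
  · apply rev_core hS hirr S₁ hS₁ hS₁c hne hτ₁ hagree ψ hψ hψ₁ hψ₂ χ₁ hχ₁ a ha ha0 hdiv
    intro φ hφ
    rw [← hT, hk φ hφ, hcase φ hφ]
    split_ifs <;> simp
  · -- the two-element case: switch the extension
    have hS₁c' : ∀ φ ∈ (↑S₁ : Set (N → ℂ)), Cfsg.conjFun φ ∈ (↑S₁ : Set (N → ℂ)) :=
      fun φ hφ => hS₁c φ hφ
    obtain ⟨hiso, hagr⟩ := switch_iso hS (↑S₁ : Set (N → ℂ)) hS₁ hS₁c' hτ₁ hagree χ₁ hχ₁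
      (fun φ hφ => hall φ hφ)
    have hconjmem : ∀ φ ∈ S₁, Cfsg.conjFun φ ∈ S₁ := hS₁c
    apply rev_core hS hirr S₁ hS₁ hS₁c hne hiso hagr ψ hψ hψ₁ hψ₂ χ₁ hχ₁ a ha ha0
    · intro ξ hξ
      apply hdiv ξ
      intro φ hφ
      have h1 : Cfsg.classInner (-τ₁ (Cfsg.conjFun (Cfsg.conjFun φ))) (ξ : G → ℂ) = 0 :=
        hξ (Cfsg.conjFun φ) (hS₁c φ hφ)
      rw [conjFun_conjFun, classInner_neg_left] at h1
      exact neg_eq_zero.mp h1
    · intro φ hφ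
      change Cfsg.classInner (Cfsg.indFun N (χ₁ - (a : ℤ) • ψ)) (-τ₁ (Cfsg.conjFun φ)) = _
      rw [← hT, classInner_neg_right, hk _ (hS₁c φ hφ)]
      rcases hall φ hφ with h | h
      · rw [if_pos h, h, hk1]
        simp
      · have hne' : φ ≠ χ₁ := by
          rw [h]
          exact hS.conj_ne χ₁ hχ₁S
        rw [if_neg hne', h, conjFun_conjFun, hk0]
        simp

end

end Cfsg.Agent.Lib.Helper11.SibRevExt
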