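import Mathlib
import Cfsg.Agent.Lib.Helper11.SibRevExt
import Cfsg.Agent.Lib.Helper11.SibCentral
import Cfsg.Agent.Lib.Helper11.SibCong

set_option autoImplicit false
open scoped ComplexConjugate

namespace Cfsg.Agent.Lib.Helper11.SibMain

open Cfsg.Agent.Lib.helper7 Cfsg.Agent.Lib.helper2 Cfsg.Agent.Lib.Helper25
open Cfsg.Agent.Lib.Helper11 Cfsg.Agent.Lib.Helper11.SibSetup Cfsg.Agent.Lib.Helper11.SibFacts
  Cfsg.Agent.Lib.Helper11.SibCentral Cfsg.Agent.Lib.Helper11.SibLevels
  Cfsg.Agent.Lib.Helper11.CohAssemble Cfsg.Agent.Lib.Helper11.SibRev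
  Cfsg.Agent.Lib.Helper11.SibRevExt

/-- the index of a Frobenius-type kernel divides `|Z| - 1` for a central normal subgroup `Z` -/
theorem index_dvd_central {N : Type*} [Group N] [Finite N] (K : Subgroup N) [K.Normal]
    (hC : ∀ k ∈ K, k ≠ 1 → Subgroup.centralizer ({k} : Set N) ≤ K)
    (Z : Subgroup N) [hZ : Z.Normal] (hZK : Z ≤ K) (hZc : ∀ z ∈ Z, ∀ k ∈ K, z * k = k * z) :
    K.index ∣ Nat.card Z - 1 := by
  classical
  let _ : MulAction N (Cfsg.Agent.S0850.NonId Z) := Cfsg.Agent.S0850.conjActNonId Z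
  have hdvd : K.index ∣ Nat.card (Cfsg.Agent.S0850.NonId Z) := by
    apply Cfsg.Agent.S0850.dvd_card_of_dvd_orbits (A := N)
    intro b
    have hstab : MulAction.stabilizer N b = K := by
      ext n
      constructor
      · intro hn
        rw [MulAction.mem_stabilizer_iff] at hn
        have h1 : n * b.1 * n⁻¹ = b.1 := congrArg Subtype.val hn
        apply hC b.1 (hZK b.2.1) b.2.2
        rw [Subgroup.mem_centralizer_iff]
        intro y hy
        rw [Set.mem_singleton_iff] at hy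
        subst hy
        calc b.1 * n = n * b.1 * n⁻¹ * n := by rw [h1]
          _ = n * b.1 := by group
      · intro hn
        rw [MulAction.mem_stabilizer_iff]
        apply Subtype.ext
        change n * b.1 * n⁻¹ = b.1
        have := hZc b.1 b.2.1 n hn
        rw [← this]
        group
    rw [hstab]
    have h3 : Nat.card N = K.index * Nat.card K := (Subgroup.index_mul_card K).symm
    rw [h3, Nat.mul_div_cancel _ Nat.card_pos]
  have hcard : Nat.card Z = Nat.card (Cfsg.Agent.S0850.NonId Z) + 1 := by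
    have := Fintype.ofFinite N
    have e : Cfsg.Agent.S0850.NonId Z ≃ {k : Z // k ≠ 1} :=
      { toFun := fun k => ⟨⟨k.1, k.2.1⟩, fun h => k.2.2 (congrArg Subtype.val h)⟩
        invFun := fun k => ⟨k.1.1, k.1.2, fun h => k.2 (Subtype.ext h)⟩
        left_inv := fun k => rfl
        right_inv := fun k => rfl }
    rw [Nat.card_congr e, Nat.card_eq_fintype_card, Nat.card_eq_fintype_card,
      Fintype.card_subtype_compl, Fintype.card_subtype_eq]
    have : 0 < Fintype.card Z := Fintype.card_pos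
    omega
  rw [hcard, Nat.add_sub_cancel]
  exact hdvd

theorem two_index_le {N : Type*} [Group N] [Finite N] (hodd : Odd (Nat.card N))
    (K : Subgroup N) [K.Normal]
    (hC : ∀ k ∈ K, k ≠ 1 → Subgroup.centralizer ({k} : Set N) ≤ K)
    (Z : Subgroup N) [hZ : Z.Normal] (hZ1 : Z ≠ ⊥) (hZK : Z ≤ K)
    (hZc : ∀ z ∈ Z, ∀ k ∈ K, z * k = k * z) :
    2 * K.index ≤ Nat.card Z - 1 := by
  obtain ⟨c, hc⟩ := index_dvd_central K hC Z hZK hZc
  have hZodd : Odd (Nat.card Z) := hodd.of_dvd_nat (Subgroup.card_subgroup_dvd_card Z)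
  have hKodd : Odd K.index := hodd.of_dvd_nat (Subgroup.index_dvd_card K)
  have hZgt : 1 < Nat.card Z := by
    rcases Nat.lt_or_ge 1 (Nat.card Z) with h1 | h1
    · exact h1
    · exfalso
      apply hZ1
      have : Nat.card Z = 1 := le_antisymm h1 Nat.card_pos
      exact Subgroup.card_eq_one.mp this
  have hc0 : c ≠ 0 := by
    intro h0
    rw [h0, mul_zero] at hc
    omega
  have hc1 : c ≠ 1 := by
    intro h1
    rw [h1, mul_one] at hc
    obtain ⟨a, ha⟩ := hZodd
    obtain ⟨b, hb⟩ := hKodd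
    omega
  have hc2 : 2 ≤ c := by omega
  rw [hc]
  calc 2 * K.index = K.index * 2 := by ring
    _ ≤ K.index * c := Nat.mul_le_mul_left _ hc2

section

variable {G : Type*} [Group G] [Fintype G] {N : Subgroup G} [Fintype N] {K : Subgroup N}

/-- **Sibley's theorem** (Peterfalvi (6.8)), abstract form for a `p`-group kernel. -/
theorem sibley_TIF (h : TIF N K) (hodd : Odd (Nat.card N))
    (p : ℕ) [hp : Fact p.Prime] (hKp : IsPGroup p K)
    (Z : Subgroup N) [hZn : Z.Normal] (hZ1 : Z ≠ ⊥) (hZK : Z ≤ K)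
    (hZc : ∀ z ∈ Z, ∀ k ∈ K, z * k = k * z)
    (hdivall : ∀ ξ : Cfsg.IrrCharacter G,
      (∀ φ ∈ tifnSet Z, ∀ φ' ∈ tifnSet Z,
        φ' 1 * Cfsg.classInner (fun n : N => (ξ : G → ℂ) n) φ =
        φ 1 * Cfsg.classInner (fun n : N => (ξ : G → ℂ) n) φ') →
      ∀ φ₀ ∈ tifnSet Z, ∀ t₀ : ℕ, φ₀ 1 = ((K.index * t₀ : ℕ) : ℂ) →
        ∃ q : ℤ, Cfsg.classInner (fun n : N => (ξ : G → ℂ) n) φ₀ = (q : ℂ) * (t₀ : ℂ)) :
    Cfsg.IsCoherent (tifnSet K) ({1}ᶜ : Set N) (Cfsg.indFun N) := by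
  classical
  have := h.normal
  have := Fintype.ofFinite (Cfsg.IrrCharacter N)
  have hK1 : K ≠ ⊥ := by
    intro hK
    apply hZ1
    rw [eq_bot_iff, ← hK]
    exact hZK
  obtain ⟨R, hsys⟩ := tif_system h hodd hK1
  obtain ⟨e, he⟩ : ∃ e : ℕ, e = K.index := ⟨_, rfl⟩
  have he0 : 0 < e := he ▸ Nat.pos_of_ne_zero Subgroup.index_ne_zero_of_finite
  have hp1 : 1 < p := hp.out.one_lt
  -- degrees
  have hdegK : ∀ χ ∈ tifnSet K, χ 1 = ((e * p ^ (expo e p χ) : ℕ) : ℂ) ∧
      p ^ (2 * expo e p χ) * Nat.card Z ≤ Nat.card K := by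
    intro χ hχ
    obtain ⟨i, hi1, hi2⟩ := tifn_degree_ppow K h.hC p hKp Z hZK hZc hχ
    rw [← he] at hi1
    have := expo_eq e p he0 hp1 χ i hi1
    rw [this]
    exact ⟨hi1, hi2⟩
  obtain ⟨d, hd⟩ : ∃ d : (N → ℂ) → ℕ, d = fun χ => e * p ^ (expo e p χ) := ⟨_, rfl⟩
  have hdS : ∀ φ ∈ tifnSet K, φ 1 = (d φ : ℂ) := fun φ hφ => by
    rw [hd]
    exact (hdegK φ hφ).1
  have hirr : ∀ φ ∈ tifnSet K, Cfsg.IsIrrCharacter N φ := fun φ hφ => hφ.1
  have hnorm1 : ∀ φ ∈ tifnSet K, Cfsg.classInner φ φ = 1 := by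
    intro φ hφ
    have := irr_classInner (⟨φ, hirr φ hφ⟩ : Cfsg.IrrCharacter N) ⟨φ, hirr φ hφ⟩
    rw [if_pos rfl] at this
    exact this
  -- the finite sets
  obtain ⟨X, hX⟩ : ∃ X : Finset (N → ℂ), X = (tifnSet_finite Z).toFinset := ⟨_, rfl⟩
  have hXmem : ∀ φ, φ ∈ X ↔ φ ∈ tifnSet Z := fun φ => by rw [hX, Set.Finite.mem_toFinset]
  have hXcoe : (↑X : Set (N → ℂ)) = tifnSet Z := by
    ext φ
    exact hXmem φ
  have hZsub : tifnSet Z ⊆ tifnSet K := tifnSet_mono hZK
  have hXS : (↑X : Set (N → ℂ)) ⊆ tifnSet K := hXcoe ▸ hZsub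
  have hXne : X.Nonempty := by
    obtain ⟨χ, hχ⟩ := tifn_nonempty Z hZ1
    exact ⟨χ, (hXmem χ).mpr hχ⟩
  have hXc : ∀ φ ∈ X, Cfsg.conjFun φ ∈ X := fun φ hφ =>
    (hXmem _).mpr (tifn_conj_mem Z ((hXmem φ).mp hφ))
  obtain ⟨Sfin, hSfin⟩ : ∃ Sfin : Finset (N → ℂ), Sfin = (tifnSet_finite K).toFinset := ⟨_, rfl⟩
  have hSmem : ∀ φ, φ ∈ Sfin ↔ φ ∈ tifnSet K := fun φ => by rw [hSfin, Set.Finite.mem_toFinset]
  have hScoe : (↑Sfin : Set (N → ℂ)) = tifnSet K := by
    ext φ
    exact hSmem φ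
  have hcohX : Cfsg.IsCoherent (↑X : Set (N → ℂ)) ({1}ᶜ : Set N) (Cfsg.indFun N) := by
    rw [hXcoe]
    exact coherent_nontriv_central h hodd p hKp Z hZ1 hZK hZc
  -- numerical facts
  have hrel : Z.relIndex K * Nat.card Z = Nat.card K := by
    have h1 := Subgroup.index_mul_card (Z.subgroupOf K)
    have hcard : Nat.card (Z.subgroupOf K) = Nat.card Z :=
      Nat.card_congr (Subgroup.subgroupOfEquivOfLe hZK).toEquiv
    rw [hcard] at h1
    exact h1
  have hZpos : 0 < Nat.card Z := Nat.card_pos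
  have hindex : Z.index = Z.relIndex K * e := by
    rw [he]
    exact (Subgroup.relIndex_mul_index hZK).symm
  have hsumC : ∑ φ ∈ X, ((d φ : ℂ)) ^ 2 = (Z.index : ℂ) * ((Nat.card Z : ℂ) - 1) := by
    rw [← nontriv_sum_sq Z, ← Finset.sum_filter]
    symm
    apply Finset.sum_bij (fun (ζ : Cfsg.IrrCharacter N) _ => (ζ : N → ℂ))
    · intro ζ hζ
      exact (hXmem _).mpr (Finset.mem_filter.mp hζ).2
    · intro a _ b _ hab
      exact Subtype.ext hab
    · intro φ hφ
      have hφ' := (hXmem φ).mp hφ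
      exact ⟨⟨φ, hφ'.1⟩, Finset.mem_filter.mpr ⟨Finset.mem_univ _, hφ'⟩, rfl⟩
    · intro ζ hζ
      have hζ' := (Finset.mem_filter.mp hζ).2
      rw [← hdS _ (hZsub hζ'), sq]
  have hsumN : ∑ φ ∈ X, (d φ) ^ 2 + Z.index = Z.index * Nat.card Z := by
    have : ((∑ φ ∈ X, (d φ) ^ 2 + Z.index : ℕ) : ℂ) = ((Z.index * Nat.card Z : ℕ) : ℂ) := by
      push_cast
      rw [hsumC]
      ring
    exact_mod_cast this
  have h2e : 2 * e ≤ Nat.card Z - 1 := he ▸ two_index_le hodd K h.hC Z hZ1 hZK hZc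
  have hσX : 2 * e ^ 2 * Z.relIndex K ≤ ∑ φ ∈ X, (d φ) ^ 2 := by
    have h1 : ∑ φ ∈ X, (d φ) ^ 2 = Z.index * (Nat.card Z - 1) := by
      have h2 : Z.index * Nat.card Z = Z.index * (Nat.card Z - 1) + Z.index := by
        have : Nat.card Z = (Nat.card Z - 1) + 1 := by omega
        conv_lhs => rw [this]
        ring
      rw [h2] at hsumN
      exact Nat.add_right_cancel hsumN
    rw [h1, hindex]
    calc 2 * e ^ 2 * Z.relIndex K = Z.relIndex K * e * (2 * e) := by ring
      _ ≤ Z.relIndex K * e * (Nat.card Z - 1) := Nat.mul_le_mul_left _ h2e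
  have hdψ : ∀ ψ ∈ tifnSet K, (d ψ) ^ 2 ≤ e ^ 2 * Z.relIndex K := by
    intro ψ hψ
    have h1 := (hdegK ψ hψ).2
    rw [← hrel] at h1
    have h2 : p ^ (2 * expo e p ψ) ≤ Z.relIndex K := Nat.le_of_mul_le_mul_right h1 hZpos
    rw [hd]
    simp only
    rw [mul_pow, ← pow_mul, mul_comm (expo e p ψ) 2]
    exact Nat.mul_le_mul_left _ h2
  -- the minimal element of X
  obtain ⟨χ₁, hχ₁X, hχ₁min⟩ := Finset.exists_min_image X (expo e p) hXne
  have hχ₁Z : χ₁ ∈ tifnSet Z := (hXmem χ₁).mp hχ₁X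
  have hχ₁K : χ₁ ∈ tifnSet K := hZsub hχ₁Z
  -- main claim
  have key : ∀ k : ℕ, ∀ T : Finset (N → ℂ), T.card = k → X ⊆ T →
      (↑T : Set (N → ℂ)) ⊆ tifnSet K → (∀ φ ∈ T, Cfsg.conjFun φ ∈ T) →
      Cfsg.IsCoherent (↑T : Set (N → ℂ)) ({1}ᶜ : Set N) (Cfsg.indFun N) := by
    intro k
    induction k using Nat.strong_induction_on with
    | _ k ih =>
      intro T hTk hXT hTS hTc
      by_cases hex : ∃ ψ ∈ T, ψ ∉ X
      · obtain ⟨ψ, hψT, hψX⟩ := hex
        have hψS : ψ ∈ tifnSet K := hTS hψT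
        have hψcT : Cfsg.conjFun ψ ∈ T := hTc ψ hψT
        have hψcne : Cfsg.conjFun ψ ≠ ψ := hsys.conj_ne ψ hψS
        have hψcX : Cfsg.conjFun ψ ∉ X := by
          intro hc
          apply hψX
          have := hXc _ hc
          rwa [conjFun_conjFun] at this
        obtain ⟨T', hT'⟩ : ∃ T' : Finset (N → ℂ), T' = (T.erase ψ).erase (Cfsg.conjFun ψ) :=
          ⟨_, rfl⟩
        have hT'sub : T' ⊆ T := fun φ hφ => by
          rw [hT'] at hφ
          exact Finset.mem_of_mem_erase (Finset.mem_of_mem_erase hφ)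
        have hmemT' : ∀ φ, φ ∈ T' ↔ φ ∈ T ∧ φ ≠ ψ ∧ φ ≠ Cfsg.conjFun ψ := by
          intro φ
          rw [hT', Finset.mem_erase, Finset.mem_erase]
          tauto
        have hcard : T'.card < k := by
          rw [← hTk, hT']
          calc ((T.erase ψ).erase (Cfsg.conjFun ψ)).card ≤ (T.erase ψ).card := Finset.card_erase_le
            _ < T.card := Finset.card_erase_lt_of_mem hψT
        have hT'c : ∀ φ ∈ T', Cfsg.conjFun φ ∈ T' := by
          intro φ hφ
          obtain ⟨h1, h2, h3⟩ := (hmemT' φ).mp hφ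
          refine (hmemT' _).mpr ⟨hTc φ h1, ?_, ?_⟩
          · intro h
            apply h3
            rw [← h, conjFun_conjFun]
          · intro h
            apply h2
            have := congrArg Cfsg.conjFun h
            rwa [conjFun_conjFun, conjFun_conjFun] at this
        have hXT' : X ⊆ T' := by
          intro φ hφ
          refine (hmemT' φ).mpr ⟨hXT hφ, ?_, ?_⟩
          · intro h
            exact hψX (h ▸ hφ)
          · intro h
            exact hψcX (h ▸ hφ)
        have hT'S : (↑T' : Set (N → ℂ)) ⊆ tifnSet K := fun φ hφ => hTS (hT'sub hφ)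
        have hcohT' := ih T'.card hcard T' rfl hXT' hT'S hT'c
        have hψnT' : ψ ∉ T' := fun h => ((hmemT' ψ).mp h).2.1 rfl
        have hψcnT' : Cfsg.conjFun ψ ∉ T' := fun h => ((hmemT' _).mp h).2.2 rfl
        have hχ₁T' : χ₁ ∈ T' := hXT' hχ₁X
        have hTeq : (↑T : Set (N → ℂ)) = ↑T' ∪ {ψ, Cfsg.conjFun ψ} := by
          ext φ
          simp only [Finset.mem_coe, Set.mem_union, Set.mem_insert_iff, Set.mem_singleton_iff]
          rw [hmemT']
          constructor
          · intro h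
            by_cases h1 : φ = ψ
            · exact Or.inr (Or.inl h1)
            · by_cases h2 : φ = Cfsg.conjFun ψ
              · exact Or.inr (Or.inr h2)
              · exact Or.inl ⟨h, h1, h2⟩
          · rintro (⟨h, -, -⟩ | h | h)
            · exact h
            · exact h ▸ hψT
            · exact h ▸ hψcT
        rw [hTeq]
        by_cases hlev : expo e p χ₁ < expo e p ψ
        · -- the direct extension
          have hdvd : d χ₁ ∣ d ψ := by
            rw [hd]
            exact Nat.mul_dvd_mul_left e (pow_dvd_pow p hlev.le)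
          have hdlt : d χ₁ < d ψ := by
            rw [hd]
            exact Nat.mul_lt_mul_of_pos_left (Nat.pow_lt_pow_right hp1 hlev) he0
          have hsub : ∑ φ ∈ X, (d φ) ^ 2 ≤ ∑ φ ∈ T', (d φ) ^ 2 :=
            Finset.sum_le_sum_of_subset hXT'
          have hdψpos : 0 < d ψ := by
            rw [hd]
            positivity
          have hstrict : 2 * d ψ * d χ₁ < ∑ φ ∈ T', (d φ) ^ 2 := by
            have h1 : 2 * d ψ * d χ₁ < 2 * d ψ * d ψ :=
              Nat.mul_lt_mul_of_pos_left hdlt (by positivity)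
            have h2 := hdψ ψ hψS
            nlinarith
          have hineq : (2 * d ψ * d χ₁ : ℝ) <
              ∑ φ ∈ T', ((d φ : ℝ) ^ 2 / (((fun _ => 1 : (N → ℂ) → ℕ) φ : ℕ) : ℝ)) := by
            have h1 : ∑ φ ∈ T', ((d φ : ℝ) ^ 2 / (((fun _ => 1 : (N → ℂ) → ℕ) φ : ℕ) : ℝ)) =
                ((∑ φ ∈ T', (d φ) ^ 2 : ℕ) : ℝ) := by
              push_cast
              apply Finset.sum_congr rfl
              intro φ _
              simp
            rw [h1]
            exact_mod_cast hstrict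
          exact coherent_extend hsys d (fun _ => 1) hdS
            (fun φ hφ => by rw [hnorm1 φ hφ]; simp) T' hT'S hT'c hcohT' ψ hψS hψnT' hψcnT' χ₁
            hχ₁T' hdvd hineq
        · -- the reversed extension
          push Not at hlev
          obtain ⟨hne, τ₁, hτ₁, hagree⟩ := hcohT'
          obtain ⟨j, hj⟩ : ∃ j, expo e p χ₁ = expo e p ψ + j := ⟨_, (Nat.add_sub_cancel' hlev).symm⟩
          have ha : χ₁ 1 = ((p ^ j : ℕ) : ℂ) * ψ 1 := by
            rw [(hdegK χ₁ hχ₁K).1, (hdegK ψ hψS).1, hj]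
            push_cast
            ring
          have ha0 : p ^ j ≠ 0 := pow_ne_zero _ hp.out.ne_zero
          apply rev_ext hsys hirr d hdS T' hT'S hT'c hne hτ₁ hagree ψ hψS hψnT' hψcnT' χ₁ hχ₁T'
            (p ^ j) ha ha0
          intro ξ hξ
          obtain ⟨ψ', hψ'⟩ : ∃ ψ' : N → ℂ, ψ' = fun n : N => (ξ : G → ℂ) n := ⟨_, rfl⟩
          have hψ'char : Cfsg.IsCharacter N ψ' :=
            hψ' ▸ isCharacter_restrict (isCharacter_of_irr ξ) N
          have hprop : ∀ φ ∈ tifnSet Z, ∀ φ' ∈ tifnSet Z,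
              φ' 1 * Cfsg.classInner (fun n : N => (ξ : G → ℂ) n) φ =
              φ 1 * Cfsg.classInner (fun n : N => (ξ : G → ℂ) n) φ' := by
            intro φ hφ φ' hφ'
            rw [← hψ']
            have hφT : φ ∈ T' := hXT' ((hXmem φ).mpr hφ)
            have hφ'T : φ' ∈ T' := hXT' ((hXmem φ').mpr hφ')
            obtain ⟨β, hβ⟩ : ∃ β : N → ℂ, β = (d φ' : ℤ) • φ - (d φ : ℤ) • φ' := ⟨_, rfl⟩
            have hβm : β ∈ Cfsg.zspanOn (↑T' : Set (N → ℂ)) {1}ᶜ := by
              rw [hβ]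
              apply mem_zspanOn_one (zspan_sub (zspan_zsmul _ (zspan_of_mem hφT))
                (zspan_zsmul _ (zspan_of_mem hφ'T)))
              rw [Pi.sub_apply, Pi.smul_apply, Pi.smul_apply, hdS φ (hZsub hφ),
                hdS φ' (hZsub hφ'), zsmul_eq_mul, zsmul_eq_mul]
              push_cast
              ring
            have h1 : τ₁ β = (d φ' : ℤ) • τ₁ φ - (d φ : ℤ) • τ₁ φ' := by
              rw [hβ, isoOn_map_sub hτ₁ (zspan_zsmul _ (zspan_of_mem hφT))
                (zspan_zsmul _ (zspan_of_mem hφ'T)), hτ₁.2.1 φ (zspan_of_mem hφT),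
                hτ₁.2.1 φ' (zspan_of_mem hφ'T)]
            have h2 : Cfsg.classInner (τ₁ β) (ξ : G → ℂ) = 0 := by
              rw [h1, classInner_sub_left', classInner_zsmul_left, classInner_zsmul_left,
                hξ φ hφT, hξ φ' hφ'T]
              simp
            rw [hagree β hβm, h7_frobenius_reciprocity N β _
              (fun g h => irr_conj_invariant ξ g h), ← hψ', hβ, classInner_sub_left',
              classInner_zsmul_left, classInner_zsmul_left] at h2
            obtain ⟨m, hm⟩ := classInner_character_nat hψ'char (h7_irr_isCharacter hφ.1)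
            obtain ⟨m', hm'⟩ := classInner_character_nat hψ'char (h7_irr_isCharacter hφ'.1)
            have e1 : Cfsg.classInner φ ψ' = (m : ℂ) := by
              rw [classInner_conj_symm, hm, map_natCast]
            have e2 : Cfsg.classInner φ' ψ' = (m' : ℂ) := by
              rw [classInner_conj_symm, hm', map_natCast]
            rw [e1, e2] at h2
            rw [hm, hm', hdS φ (hZsub hφ), hdS φ' (hZsub hφ')]
            push_cast at h2
            linear_combination h2
          have hdeg1 : χ₁ 1 = ((K.index * p ^ (expo e p χ₁) : ℕ) : ℂ) := by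
            rw [← he]
            exact (hdegK χ₁ hχ₁K).1
          obtain ⟨q, hq⟩ := hdivall ξ hprop χ₁ hχ₁Z (p ^ (expo e p χ₁)) hdeg1
          refine ⟨q * (p ^ (expo e p ψ) : ℕ), ?_⟩
          rw [hq, hj]
          push_cast
          ring
      · -- T = X
        push Not at hex
        have hTX : T = X := Finset.Subset.antisymm hex hXT
        rw [hTX]
        exact hcohX
  have hfinal := key Sfin.card Sfin rfl
    (fun φ hφ => (hSmem φ).mpr (hZsub ((hXmem φ).mp hφ)))
    (fun φ hφ => (hSmem φ).mp hφ)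
    (fun φ hφ => (hSmem _).mpr (tifn_conj_mem K ((hSmem φ).mp hφ)))
  rw [hScoe] at hfinal
  exact hfinal

end

end Cfsg.Agent.Lib.Helper11.SibMain
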