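import Mathlib
import Cfsg.Agent.Lib.Helper11.SibMain

set_option autoImplicit false
open scoped ComplexConjugate

namespace Cfsg.Agent.Lib.Helper11.SibSylowMain

open Cfsg.Agent.Lib.helper7 Cfsg.Agent.Lib.helper2 Cfsg.Agent.Lib.Helper25
open Cfsg.Agent.Lib.Helper11 Cfsg.Agent.Lib.Helper11.SibSetup Cfsg.Agent.Lib.Helper11.SibFacts
  Cfsg.Agent.Lib.Helper11.SibCentral Cfsg.Agent.Lib.Helper11.SibSylow
  Cfsg.Agent.Lib.Helper11.SibCong Cfsg.Agent.Lib.Helper11.SibMain

/-- **Sibley's theorem** for a TI Sylow subgroup with odd-order normalizer. -/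
theorem sibley_sylow {G : Type*} [Group G] [Fintype G] (p : ℕ) [hp : Fact p.Prime]
    (P : Sylow p G) (hP1 : (P : Subgroup G) ≠ ⊥)
    (hTI : Cfsg.IsTISubset ((P : Subgroup G) : Set G))
    (hC : ∀ k ∈ (P : Subgroup G), k ≠ 1 → Subgroup.centralizer ({k} : Set G) ≤ (P : Subgroup G))
    [Fintype ↥(Subgroup.normalizer ((P : Subgroup G) : Set G))]
    (hodd : Odd (Nat.card ↥(Subgroup.normalizer ((P : Subgroup G) : Set G)))) :
    Cfsg.IsCoherent
      (tifnSet ((P : Subgroup G).subgroupOf (Subgroup.normalizer ((P : Subgroup G) : Set G))))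
      ({1}ᶜ : Set ↥(Subgroup.normalizer ((P : Subgroup G) : Set G)))
      (Cfsg.indFun (Subgroup.normalizer ((P : Subgroup G) : Set G))) := by
  classical
  obtain ⟨Z, hZdef⟩ : ∃ Z : Subgroup G,
      Z = (P : Subgroup G) ⊓ Subgroup.centralizer ((P : Subgroup G) : Set G) := ⟨_, rfl⟩
  have hZP : ∀ z ∈ Z, z ∈ (P : Subgroup G) ∧ ∀ y ∈ (P : Subgroup G), z * y = y * z := by
    intro z hz
    rw [hZdef] at hz
    refine ⟨hz.1, fun y hy => ?_⟩
    exact ((Subgroup.mem_centralizer_iff.mp hz.2) y hy).symm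
  have hZ1 : Z ≠ ⊥ := by
    have hnt : Nontrivial (P : Subgroup G) := by
      rw [Subgroup.nontrivial_iff_ne_bot]
      exact hP1
    have hcen := IsPGroup.center_nontrivial P.isPGroup'
    obtain ⟨c, hc1⟩ := exists_ne (1 : Subgroup.center (P : Subgroup G))
    intro hbot
    apply hc1
    have hcZ : ((c : (P : Subgroup G)) : G) ∈ Z := by
      rw [hZdef]
      refine ⟨(c : (P : Subgroup G)).2, ?_⟩
      change _ ∈ Subgroup.centralizer ((P : Subgroup G) : Set G)
      rw [Subgroup.mem_centralizer_iff]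
      intro y hy
      have := (Subgroup.mem_center_iff.mp c.2) ⟨y, hy⟩
      exact congrArg Subtype.val this
    rw [hbot, Subgroup.mem_bot] at hcZ
    apply Subtype.ext
    apply Subtype.ext
    exact hcZ
  have hZn : ∀ x ∈ Subgroup.normalizer ((P : Subgroup G) : Set G), ∀ z ∈ Z, x * z * x⁻¹ ∈ Z := by
    intro x hx z hz
    have hzP := (hZP z hz).1
    have hconj : ∀ y : G, y ∈ (P : Subgroup G) → x * y * x⁻¹ ∈ (P : Subgroup G) := fun y hy =>
      (Subgroup.mem_normalizer_iff.mp hx y).mp hy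
    have hconj' : ∀ y : G, y ∈ (P : Subgroup G) → x⁻¹ * y * x ∈ (P : Subgroup G) := fun y hy => by
      have := (Subgroup.mem_normalizer_iff.mp (Subgroup.inv_mem _ hx) y).mp hy
      simpa using this
    rw [hZdef]
    refine ⟨hconj z hzP, ?_⟩
    change _ ∈ Subgroup.centralizer ((P : Subgroup G) : Set G)
    rw [Subgroup.mem_centralizer_iff]
    intro y hy
    have h1 := (hZP z hz).2 (x⁻¹ * y * x) (hconj' y hy)
    calc y * (x * z * x⁻¹) = x * ((x⁻¹ * y * x) * z) * x⁻¹ := by group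
      _ = x * (z * (x⁻¹ * y * x)) * x⁻¹ := by rw [h1]
      _ = x * z * x⁻¹ * y := by group
  have hPN : (P : Subgroup G) ≤ Subgroup.normalizer ((P : Subgroup G) : Set G) :=
    Subgroup.le_normalizer
  have hZle : Z ≤ (P : Subgroup G) := fun z hz => (hZP z hz).1
  have htif := tif_of_TI (P : Subgroup G) hTI hC
  haveI hnormal : (Z.subgroupOf (Subgroup.normalizer ((P : Subgroup G) : Set G))).Normal := by
    constructor
    intro z hz x
    rw [Subgroup.mem_subgroupOf] at hz ⊢
    have := hZn (x : G) x.2 (z : G) hz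
    simpa using this
  have hKp : IsPGroup p ↥((P : Subgroup G).subgroupOf
      (Subgroup.normalizer ((P : Subgroup G) : Set G))) := by
    apply IsPGroup.of_injective P.isPGroup'
      ((P : Subgroup G).subgroupOfEquivOfLe hPN).toMonoidHom
    exact ((P : Subgroup G).subgroupOfEquivOfLe hPN).injective
  apply sibley_TIF htif hodd p hKp
    (Z.subgroupOf (Subgroup.normalizer ((P : Subgroup G) : Set G)))
    (subgroupOf_ne_bot (hZle.trans hPN) hZ1)
  · intro z hz
    rw [Subgroup.mem_subgroupOf] at hz ⊢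
    exact hZle hz
  · intro z hz k hk
    rw [Subgroup.mem_subgroupOf] at hz hk
    apply Subtype.ext
    simp only [Subgroup.coe_mul]
    exact (hZP (z : G) hz).2 (k : G) hk
  · intro ξ hprop φ₀ hφ₀ t₀ ht₀
    exact mult_dvd p P hTI (Subgroup.normalizer ((P : Subgroup G) : Set G)) rfl hodd Z hZ1 hZP hZn
      ξ hprop hφ₀ t₀ ht₀

end Cfsg.Agent.Lib.Helper11.SibSylowMain
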