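import Mathlib
import Cfsg.Agent.Lib.Helper11.SibSylowMain
import Cfsg.Agent.Lib.Helper11.FrobConcCore
import Cfsg.Agent.Lib.Helper11.SeqIndFrob

set_option autoImplicit false
open scoped ComplexConjugate

namespace Cfsg.Agent.Lib.Helper11.SibFrob

open Cfsg.Agent.Lib.helper7 Cfsg.Agent.Lib.helper2 Cfsg.Agent.Lib.Helper25
open Cfsg.Agent.Lib.Helper11 Cfsg.Agent.Lib.Helper11.SibSetup
  Cfsg.Agent.Lib.Helper11.FrobConcCore

section Frob

variable {X : Type*} [Group X] [Finite X]

theorem fpf_inf_bot (A W : Subgroup X)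
    (hfpf : ∀ w ∈ W, w ≠ 1 → ∀ h ∈ A, w * h = h * w → h = 1) (w : X) (hw : w ∈ W) (hw1 : w ≠ 1) :
    A ⊓ Subgroup.centralizer ({w} : Set X) = ⊥ := by
  rw [eq_bot_iff]
  intro h hh
  rw [Subgroup.mem_bot]
  apply hfpf w hw hw1 h hh.1
  exact (Subgroup.mem_centralizer_iff.mp hh.2) w (Set.mem_singleton w)

/-- in a Frobenius group given by a fixed-point-free complement, the elements outside the kernel
are conjugate under the kernel to non-identity elements of the complement -/
theorem frob_decomp (A W : Subgroup X) [hA : A.Normal] (hsup : A ⊔ W = ⊤)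
    (hfpf : ∀ w ∈ W, w ≠ 1 → ∀ h ∈ A, w * h = h * w → h = 1) (x : X) (hx : x ∉ A) :
    ∃ b ∈ A, ∃ w ∈ W, w ≠ 1 ∧ x = b * w * b⁻¹ := by
  have hxt : x ∈ A ⊔ W := by
    rw [hsup]
    exact Subgroup.mem_top x
  obtain ⟨a, ha, w, hw, rfl⟩ := Subgroup.mem_sup_of_normal_left.mp hxt
  have hw1 : w ≠ 1 := by
    rintro rfl
    apply hx
    rw [mul_one]
    exact ha
  have hnorm : w ∈ Subgroup.normalizer (A : Set X) := by
    rw [Subgroup.normalizer_eq_top]
    exact Subgroup.mem_top w
  obtain ⟨b, hb, hab⟩ := exists_comm_of_fpf A w hnorm (fpf_inf_bot A W hfpf w hw hw1) a⁻¹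
    (A.inv_mem ha)
  refine ⟨b, hb, w, hw, hw1, ?_⟩
  have h1 : a = b * w * b⁻¹ * w⁻¹ := by
    have h0 : a = (w * b * w⁻¹ * b⁻¹)⁻¹ := by
      rw [← hab, inv_inv]
    rw [h0]
    group
  rw [h1]
  group

/-- the quotient of a Frobenius group by a normal subgroup of the kernel is again a Frobenius
group -/
theorem frob_quot (A W : Subgroup X) [hA : A.Normal] (hsup : A ⊔ W = ⊤)
    (hfpf : ∀ w ∈ W, w ≠ 1 → ∀ h ∈ A, w * h = h * w → h = 1)
    (B : Subgroup X) [hB : B.Normal] (hBA : B ≤ A) (k : X) (hk : k ∈ A) (hkB : k ∉ B) (x : X)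
    (hxk : x * k * x⁻¹ * k⁻¹ ∈ B) : x ∈ A := by
  by_contra hx
  obtain ⟨b, hb, w, hw, hw1, rfl⟩ := frob_decomp A W hsup hfpf x hx
  obtain ⟨k', hk'⟩ : ∃ k' : X, k' = b⁻¹ * k * b := ⟨_, rfl⟩
  have hk'A : k' ∈ A := by
    rw [hk']
    exact A.mul_mem (A.mul_mem (A.inv_mem hb) hk) hb
  have h1 : w * k' * w⁻¹ * k'⁻¹ ∈ B := by
    have h2 : w * k' * w⁻¹ * k'⁻¹ = b⁻¹ * (b * w * b⁻¹ * k * (b * w * b⁻¹)⁻¹ * k⁻¹) * b := by
      rw [hk']
      group
    rw [h2]
    have := hB.conj_mem _ hxk b⁻¹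
    simpa using this
  have hnorm : w ∈ Subgroup.normalizer (B : Set X) := by
    rw [Subgroup.normalizer_eq_top]
    exact Subgroup.mem_top w
  have hfpfB : B ⊓ Subgroup.centralizer ({w} : Set X) = ⊥ := by
    rw [eq_bot_iff]
    intro h hh
    have h3 : h ∈ A ⊓ Subgroup.centralizer ({w} : Set X) := ⟨hBA hh.1, hh.2⟩
    rw [fpf_inf_bot A W hfpf w hw hw1] at h3
    exact h3
  obtain ⟨b', hb', hbb'⟩ := exists_comm_of_fpf B w hnorm hfpfB _ h1
  -- injectivity
  have h4 : w * (b'⁻¹ * k') = (b'⁻¹ * k') * w := by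
    have e1 : k' * w⁻¹ * k'⁻¹ = b' * w⁻¹ * b'⁻¹ := by
      calc k' * w⁻¹ * k'⁻¹ = w⁻¹ * (w * k' * w⁻¹ * k'⁻¹) := by group
        _ = w⁻¹ * (w * b' * w⁻¹ * b'⁻¹) := by rw [hbb']
        _ = b' * w⁻¹ * b'⁻¹ := by group
    have e2 : (b'⁻¹ * k') * w⁻¹ = w⁻¹ * (b'⁻¹ * k') := by
      calc (b'⁻¹ * k') * w⁻¹ = b'⁻¹ * (k' * w⁻¹ * k'⁻¹) * k' := by group
        _ = b'⁻¹ * (b' * w⁻¹ * b'⁻¹) * k' := by rw [e1]
        _ = w⁻¹ * (b'⁻¹ * k') := by group
    calc w * (b'⁻¹ * k') = w * ((b'⁻¹ * k') * w⁻¹) * w := by group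
      _ = w * (w⁻¹ * (b'⁻¹ * k')) * w := by rw [e2]
      _ = (b'⁻¹ * k') * w := by group
  have h5 : b'⁻¹ * k' = 1 :=
    hfpf w hw hw1 _ (A.mul_mem (A.inv_mem (hBA hb')) hk'A) h4
  have h6 : k' = b' := by
    have := congrArg (fun t => b' * t) h5
    simpa using this
  apply hkB
  have h7 : k = b * k' * b⁻¹ := by
    rw [hk']
    group
  rw [h7, h6]
  exact hB.conj_mem b' hb' b

theorem frob_centralizer (A W : Subgroup X) [hA : A.Normal] (hsup : A ⊔ W = ⊤)
    (hfpf : ∀ w ∈ W, w ≠ 1 → ∀ h ∈ A, w * h = h * w → h = 1)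
    (k : X) (hk : k ∈ A) (hk1 : k ≠ 1) (x : X) (hxk : x * k = k * x) : x ∈ A := by
  apply frob_quot A W hsup hfpf ⊥ bot_le k hk (fun h => hk1 (Subgroup.mem_bot.mp h)) x
  rw [Subgroup.mem_bot, hxk]
  group

end Frob

/-- the characters induced from the non-principal irreducible characters of a Frobenius kernel
are the irreducible characters not constant on the kernel -/
theorem induced_eq_tifn {L : Type*} [Group L] [Fintype L] (K : Subgroup L) [hK : K.Normal]
    (hC : ∀ k ∈ K, k ≠ 1 → Subgroup.centralizer ({k} : Set L) ≤ K) :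
    Cfsg.inducedIrrAbove K ⊥ = tifnSet K := by
  classical
  have := Fintype.ofFinite (Cfsg.IrrCharacter L)
  have := Fintype.ofFinite K
  ext φ
  constructor
  · rintro ⟨θ, hθ, hθ1, -, rfl⟩
    -- a constituent
    have hchar : Cfsg.IsCharacter L (Cfsg.indFun K θ) :=
      isCharacter_indFun K θ (h7_irr_isCharacter hθ)
    have hne0 : Cfsg.indFun K θ ≠ 0 := by
      intro h0
      have h1 := h7_indFun_one K θ
      rw [h0] at h1
      have h2 : θ 1 ≠ 0 := irr_one_ne_zero ⟨θ, hθ⟩
      have h3 : ((K.index : ℕ) : ℂ) ≠ 0 := by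
        exact_mod_cast (Subgroup.index_ne_zero_of_finite (H := K))
      simp only [Pi.zero_apply] at h1
      exact (mul_ne_zero h3 h2) h1.symm
    obtain ⟨ζ, hζ⟩ : ∃ ζ : Cfsg.IrrCharacter L,
        Cfsg.classInner (Cfsg.indFun K θ) (ζ : L → ℂ) ≠ 0 := by
      by_contra hcon
      push Not at hcon
      apply hne0
      have h1 := classFunction_expansion (Cfsg.indFun K θ) (h7_indFun_isClassFunction K θ)
      rw [h1]
      apply Finset.sum_eq_zero
      intro ζ _
      rw [hcon ζ, zero_smul]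
    -- ζ is not constant on K
    have hζmem : (ζ : L → ℂ) ∈ tifnSet K := by
      refine ⟨ζ.2, ?_⟩
      by_contra hcon
      push Not at hcon
      apply hζ
      rw [h7_frobenius_reciprocity K θ _ (fun g h => irr_conj_invariant ζ g h)]
      have h1 : (fun h : K => (ζ : L → ℂ) h) = ((ζ : L → ℂ) 1) • (fun _ : K => (1 : ℂ)) := by
        funext h
        rw [hcon (h : L) h.2]
        simp
      rw [h1, h7_classInner_smul_right]
      have h2 := irr_classInner (⟨θ, hθ⟩ : Cfsg.IrrCharacter K) (trivIrr K)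
      rw [if_neg] at h2
      · change Cfsg.classInner θ ((trivIrr K : Cfsg.IrrCharacter K) : K → ℂ) = 0 at h2
        have h3 : ((trivIrr K : Cfsg.IrrCharacter K) : K → ℂ) = fun _ => 1 := rfl
        rw [h3] at h2
        rw [h2, mul_zero]
      · intro h
        apply hθ1
        have := congrArg Subtype.val h
        exact this
    obtain ⟨θ', hθ', hζθ'⟩ := tifn_induced K hC hζmem
    rw [hζθ'] at hζ
    have hconj : ∃ g : L, θ = cj K θ' g := by
      by_contra hne
      exact hζ (classInner_indFun_of_not_conj K θ' θ hθ' hθ hne)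
    have heq : Cfsg.indFun K θ = Cfsg.indFun K θ' := (Cfsg.Agent.Lib.Helper11.SeqInd.indFun_eq_iff K θ' θ hθ' hθ).mpr hconj
    rw [heq, ← hζθ']
    exact hζmem
  · intro hφ
    obtain ⟨θ, hθ, rfl⟩ := tifn_induced K hC hφ
    refine ⟨θ, hθ, ?_, ?_, rfl⟩
    · intro h1
      obtain ⟨k, hk, hne⟩ := hφ.2
      apply hne
      rw [h1, h7_indFun_one]
      have h0 := indFun_normal_apply K (fun _ : K => (1 : ℂ)) ⟨k, hk⟩
      simp only at h0
      rw [h0]
      have h2 : ∀ x : L, cj K (fun _ : K => (1 : ℂ)) x ⟨k, hk⟩ = 1 := fun x => by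
        rw [cj_apply]
      rw [Finset.sum_congr rfl (fun x _ => h2 x)]
      simp only [Finset.sum_const, Finset.card_univ, nsmul_eq_mul, mul_one]
      have hidx : (Nat.card L : ℂ) = ((K.index : ℕ) : ℂ) * (Nat.card K : ℂ) := by
        rw [← Subgroup.index_mul_card K]
        push_cast
        ring
      have hK0 : (Nat.card K : ℂ) ≠ 0 := by exact_mod_cast Nat.card_pos.ne'
      rw [← Nat.card_eq_fintype_card, hidx]
      field_simp
    · intro a ha
      rw [Subgroup.mem_bot] at ha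
      have : a = 1 := Subtype.ext ha
      rw [this]


/-- a `p`-subgroup whose index in its normalizer is prime to `p` is a Sylow subgroup -/
theorem sylow_of_coprime_normalizer {G : Type*} [Group G] [Finite G] (p : ℕ) [hp : Fact p.Prime]
    (H : Subgroup G) (hHp : IsPGroup p H)
    (hcop : Nat.Coprime (H.subgroupOf (Subgroup.normalizer (H : Set G))).index p) :
    ∃ P : Sylow p G, (P : Subgroup G) = H := by
  obtain ⟨Q, hHQ⟩ := hHp.exists_le_sylow
  refine ⟨Q, ?_⟩
  by_contra hne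
  have hlt : H < (Q : Subgroup G) := lt_of_le_of_ne hHQ (Ne.symm hne)
  have hQnil : Group.IsNilpotent (Q : Subgroup G) := Q.isPGroup'.isNilpotent
  have hnc := @normalizerCondition_of_isNilpotent (Q : Subgroup G) _ hQnil
  have hlt' : H.subgroupOf (Q : Subgroup G) < ⊤ := by
    rw [lt_top_iff_ne_top]
    intro htop
    rw [Subgroup.subgroupOf_eq_top] at htop
    exact (not_le_of_gt hlt) htop
  obtain ⟨x, hxn, hxH⟩ := SetLike.exists_of_lt (hnc _ hlt')
  have hxN : (x : G) ∈ Subgroup.normalizer (H : Set G) := by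
    rw [Subgroup.mem_normalizer_iff]
    intro h
    constructor
    · intro hh
      have := (Subgroup.mem_normalizer_iff.mp hxn ⟨h, hHQ hh⟩).mp (Subgroup.mem_subgroupOf.mpr hh)
      exact Subgroup.mem_subgroupOf.mp this
    · intro hh
      have hhQ : h ∈ (Q : Subgroup G) := by
        have h1 : (x : G)⁻¹ * ((x : G) * h * (x : G)⁻¹) * (x : G) ∈ (Q : Subgroup G) :=
          Subgroup.mul_mem _ (Subgroup.mul_mem _ (Subgroup.inv_mem _ x.2) (hHQ hh)) x.2
        have h2 : (x : G)⁻¹ * ((x : G) * h * (x : G)⁻¹) * (x : G) = h := by group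
        rwa [h2] at h1
      have := (Subgroup.mem_normalizer_iff.mp hxn ⟨h, hhQ⟩).mpr (Subgroup.mem_subgroupOf.mpr hh)
      exact Subgroup.mem_subgroupOf.mp this
  have hxH' : (x : G) ∉ H := fun h => hxH (Subgroup.mem_subgroupOf.mpr h)
  obtain ⟨y, hy⟩ : ∃ y : ↥(Subgroup.normalizer (H : Set G)), y = ⟨(x : G), hxN⟩ := ⟨_, rfl⟩
  haveI hKn : (H.subgroupOf (Subgroup.normalizer (H : Set G))).Normal :=
    Subgroup.normal_in_normalizer
  have hpow := Subgroup.pow_index_mem (H.subgroupOf (Subgroup.normalizer (H : Set G))) y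
  obtain ⟨k, hk⟩ := Q.isPGroup' x
  have hyk : y ^ (p ^ k) = 1 := by
    apply Subtype.ext
    rw [hy]
    have := congrArg Subtype.val hk
    simpa using this
  have hord : orderOf y ∣ p ^ k := orderOf_dvd_of_pow_eq_one hyk
  have hcop' : Nat.Coprime (H.subgroupOf (Subgroup.normalizer (H : Set G))).index (orderOf y) :=
    Nat.Coprime.coprime_dvd_right hord (Nat.Coprime.pow_right k hcop)
  obtain ⟨m, hm⟩ := exists_pow_eq_self_of_coprime hcop'
  have hymem : y ∈ H.subgroupOf (Subgroup.normalizer (H : Set G)) := by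
    rw [← hm]
    exact Subgroup.pow_mem _ hpow m
  apply hxH'
  have := Subgroup.mem_subgroupOf.mp hymem
  rw [hy] at this
  exact this

section Main

variable {G : Type*} [Group G] [Fintype G]

/-- **Sibley's theorem** for a nilpotent TI Frobenius kernel with odd-order normalizer. -/
theorem frob_ti_coherent (H W₁ : Subgroup G)
    [Fintype ↥(Subgroup.normalizer (H : Set G))]
    (hodd : Odd (Nat.card ↥(Subgroup.normalizer (H : Set G))))
    (hW₁L : W₁ ≤ Subgroup.normalizer (H : Set G)) (hH1 : H ≠ ⊥)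
    (hnil : Group.IsNilpotent H)
    (hsup : H ⊔ W₁ = Subgroup.normalizer (H : Set G))
    (hfpf : ∀ w ∈ W₁, w ≠ 1 → ∀ h ∈ H, w * h = h * w → h = 1)
    (hTI : Cfsg.IsTISubset (H : Set G)) :
    Cfsg.IsCoherent (Cfsg.inducedIrrAbove (H.subgroupOf (Subgroup.normalizer (H : Set G))) ⊥)
      ({1}ᶜ : Set ↥(Subgroup.normalizer (H : Set G)))
      (Cfsg.indFun (Subgroup.normalizer (H : Set G))) := by
  classical
  have hHL : H ≤ Subgroup.normalizer (H : Set G) := Subgroup.le_normalizer
  haveI hKn : (H.subgroupOf (Subgroup.normalizer (H : Set G))).Normal :=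
    Subgroup.normal_in_normalizer
  have hsup' : H.subgroupOf (Subgroup.normalizer (H : Set G)) ⊔
      W₁.subgroupOf (Subgroup.normalizer (H : Set G)) = ⊤ := by
    rw [← Subgroup.subgroupOf_sup hHL hW₁L, hsup, Subgroup.subgroupOf_self]
  have hfpf' : ∀ w ∈ W₁.subgroupOf (Subgroup.normalizer (H : Set G)), w ≠ 1 →
      ∀ h ∈ H.subgroupOf (Subgroup.normalizer (H : Set G)), w * h = h * w → h = 1 := by
    intro w hw hw1 h hh hwh
    apply Subtype.ext
    apply hfpf (w : G) (Subgroup.mem_subgroupOf.mp hw) (fun h1 => hw1 (Subtype.ext h1)) (h : G)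
      (Subgroup.mem_subgroupOf.mp hh)
    have := congrArg Subtype.val hwh
    simpa using this
  have hCL : ∀ k ∈ H.subgroupOf (Subgroup.normalizer (H : Set G)), k ≠ 1 →
      Subgroup.centralizer ({k} : Set ↥(Subgroup.normalizer (H : Set G))) ≤
      H.subgroupOf (Subgroup.normalizer (H : Set G)) := by
    intro k hk hk1 x hx
    apply frob_centralizer _ _ hsup' hfpf' k hk hk1 x
    exact (Subgroup.mem_centralizer_iff.mp hx) k (Set.mem_singleton k) |>.symm
  have hC : ∀ k ∈ H, k ≠ 1 → Subgroup.centralizer ({k} : Set G) ≤ H := by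
    intro k hk hk1 g hg
    have hgk : k * g = g * k := (Subgroup.mem_centralizer_iff.mp hg) k (Set.mem_singleton k)
    have hgL : g ∈ Subgroup.normalizer (H : Set G) := by
      by_contra hgn
      apply hk1
      apply hTI g hgn k hk
      have : g * k * g⁻¹ = k := by
        rw [← hgk]
        group
      rw [this]
      exact hk
    have h1 := hCL ⟨k, hHL hk⟩ (Subgroup.mem_subgroupOf.mpr hk)
      (fun h => hk1 (congrArg Subtype.val h)) (x := ⟨g, hgL⟩) (by
        rw [Subgroup.mem_centralizer_iff]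
        intro y hy
        rw [Set.mem_singleton_iff] at hy
        subst hy
        apply Subtype.ext
        simp only [Subgroup.coe_mul]
        exact hgk)
    exact Subgroup.mem_subgroupOf.mp h1
  have htif := tif_of_TI H hTI hC
  have hK1 : H.subgroupOf (Subgroup.normalizer (H : Set G)) ≠ ⊥ :=
    Cfsg.Agent.Lib.Helper11.SibSylow.subgroupOf_ne_bot hHL hH1
  have hcardK : Nat.card (H.subgroupOf (Subgroup.normalizer (H : Set G))) = Nat.card H :=
    Nat.card_congr (Subgroup.subgroupOfEquivOfLe hHL).toEquiv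
  have hset := induced_eq_tifn (H.subgroupOf (Subgroup.normalizer (H : Set G))) hCL
  by_cases hpp : ∃ p m : ℕ, p.Prime ∧ Nat.card H = p ^ m
  · obtain ⟨p, m, hp, hpm⟩ := hpp
    haveI : Fact p.Prime := ⟨hp⟩
    have hHp : IsPGroup p H := IsPGroup.of_card hpm
    have hm0 : m ≠ 0 := by
      intro h0
      rw [h0, pow_zero] at hpm
      exact hH1 (Subgroup.card_eq_one.mp hpm)
    have hcop : Nat.Coprime (H.subgroupOf (Subgroup.normalizer (H : Set G))).index p := by
      have h1 : Nat.Coprime (H.subgroupOf (Subgroup.normalizer (H : Set G))).index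
          (Nat.card (H.subgroupOf (Subgroup.normalizer (H : Set G)))) := by
        apply Cfsg.Agent.S0850.coprime_index_card
        intro k hk hk1 n hnk
        apply hCL k hk hk1
        rw [Subgroup.mem_centralizer_iff]
        intro y hy
        rw [Set.mem_singleton_iff] at hy
        subst hy
        exact hnk.symm
      rw [hcardK, hpm] at h1
      exact (Nat.coprime_pow_right_iff (Nat.pos_of_ne_zero hm0) _ _).mp h1
    obtain ⟨P, hP⟩ := sylow_of_coprime_normalizer p H hHp hcop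
    subst hP
    rw [hset]
    exact Cfsg.Agent.Lib.Helper11.SibSylowMain.sibley_sylow p P hH1 hTI hC hodd
  · -- not a prime power: Peterfalvi (6.5)
    obtain ⟨R, hsys⟩ := tif_system htif hodd hK1
    rw [← hset] at hsys
    have hKnil : Group.IsNilpotent ↥(H.subgroupOf (Subgroup.normalizer (H : Set G))) :=
      @Group.nilpotent_of_mulEquiv _ _ _ _ hnil (Subgroup.subgroupOfEquivOfLe hHL).symm
    have hKsolv : Group.IsSolvable ↥(H.subgroupOf (Subgroup.normalizer (H : Set G))) := inferInstance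
    haveI hbotn : ((⊥ : Subgroup ↥(Subgroup.normalizer (H : Set G))).subgroupOf
        (H.subgroupOf (Subgroup.normalizer (H : Set G)))).Normal := by
      rw [Subgroup.bot_subgroupOf]
      infer_instance
    have hquot : Group.IsNilpotent (↥(H.subgroupOf (Subgroup.normalizer (H : Set G))) ⧸
        (⊥ : Subgroup ↥(Subgroup.normalizer (H : Set G))).subgroupOf
        (H.subgroupOf (Subgroup.normalizer (H : Set G)))) := inferInstance
    obtain ⟨H₁, hH₁⟩ : ∃ H₁ : Subgroup ↥(Subgroup.normalizer (H : Set G)),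
        H₁ = ⁅H.subgroupOf (Subgroup.normalizer (H : Set G)),
          H.subgroupOf (Subgroup.normalizer (H : Set G))⁆ ⊔ ⊥ := ⟨_, rfl⟩
    have hH₁' : H₁ = ⁅H.subgroupOf (Subgroup.normalizer (H : Set G)),
          H.subgroupOf (Subgroup.normalizer (H : Set G))⁆ := by
      rw [hH₁, sup_bot_eq]
    have hH₁K : H₁ < H.subgroupOf (Subgroup.normalizer (H : Set G)) := by
      rw [hH₁']
      haveI : Nontrivial ↥(H.subgroupOf (Subgroup.normalizer (H : Set G))) :=
        (Subgroup.nontrivial_iff_ne_bot _).mpr hK1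
      conv_rhs => rw [← (H.subgroupOf (Subgroup.normalizer (H : Set G))).range_subtype,
        MonoidHom.range_eq_map]
      have h1 : ⁅H.subgroupOf (Subgroup.normalizer (H : Set G)),
          H.subgroupOf (Subgroup.normalizer (H : Set G))⁆ =
          Subgroup.map (H.subgroupOf (Subgroup.normalizer (H : Set G))).subtype
            ⁅(⊤ : Subgroup ↥(H.subgroupOf (Subgroup.normalizer (H : Set G)))), ⊤⁆ := by
        rw [Subgroup.map_commutator, ← MonoidHom.range_eq_map, Subgroup.range_subtype]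
      rw [h1, Subgroup.map_subtype_lt_map_subtype]
      exact Group.IsSolvable.commutator_lt_top_of_nontrivial _
    haveI hH₁n : H₁.Normal := by
      rw [hH₁']
      infer_instance
    have hfrob : ∀ k ∈ H.subgroupOf (Subgroup.normalizer (H : Set G)), k ∉ H₁ →
        ∀ x : ↥(Subgroup.normalizer (H : Set G)), x * k * x⁻¹ * k⁻¹ ∈ H₁ →
        x ∈ H.subgroupOf (Subgroup.normalizer (H : Set G)) := by
      intro k hk hkH₁ x hx
      exact frob_quot _ _ hsup' hfpf' H₁ hH₁K.le k hk hkH₁ x hx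
    apply Cfsg.Agent.Lib.Helper11.SeqIndFrob.coherent_frobenius
      (H.subgroupOf (Subgroup.normalizer (H : Set G))) hKsolv
      (Cfsg.indFun (Subgroup.normalizer (H : Set G))) R hsys hodd ⊥ bot_le hquot H₁ hH₁ hH₁K hfrob
    right
    right
    left
    rintro ⟨p, m, hp, hpm⟩
    apply hpp
    refine ⟨p, m, hp, ?_⟩
    rw [← hcardK, ← hpm, Subgroup.relIndex_bot_left]

end Main

end Cfsg.Agent.Lib.Helper11.SibFrob
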