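import Mathlib
import Cfsg.Agent.Lib.Helper11.SibFrob

set_option autoImplicit false
set_option linter.unusedSectionVars false
open scoped ComplexConjugate

namespace Cfsg.Agent.Lib.Helper11.PfFam

open Cfsg.Agent.Lib.helper7 Cfsg.Agent.Lib.helper2 Cfsg.Agent.Lib.Helper25
open Cfsg.Agent.Lib.Helper11 Cfsg.Agent.Lib.Helper11.SibSetup

section General

variable {N : Type*} [Group N] [Fintype N]

/-- a sum over the group of a function vanishing off a subgroup -/
theorem sum_subgroup (K : Subgroup N) [Fintype K] (F : N → ℂ) (hF : ∀ x : N, x ∉ K → F x = 0) :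
    ∑ x : N, F x = ∑ k : K, F k := by
  classical
  have h1 : ∑ x : N, F x = ∑ x ∈ Finset.univ.filter (fun y : N => y ∈ K), F x := by
    rw [Finset.sum_filter]
    apply Finset.sum_congr rfl
    intro y _
    split_ifs with hy
    · rfl
    · exact hF y hy
  rw [h1]
  rw [Finset.sum_subtype (Finset.univ.filter (fun y : N => y ∈ K)) (p := fun y => y ∈ K)
    (fun x => by simp) F]

/-- variant of `tifn_const` with the proportionality of inner products as hypothesis -/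
theorem tifn_const' (K : Subgroup N)
    (f : N → ℂ) (hf : Cfsg.IsClassFunction N f) {χ₀ : N → ℂ} (hχ₀ : χ₀ ∈ tifnSet K)
    (hrel0 : ∀ ξ ∈ tifnSet K, Cfsg.classInner f ξ * χ₀ 1 = Cfsg.classInner f χ₀ * ξ 1)
    (k k' : N) (hk : k ∈ K) (hk' : k' ∈ K) (hk1 : k ≠ 1) (hk'1 : k' ≠ 1) : f k = f k' := by
  classical
  have := Fintype.ofFinite (Cfsg.IrrCharacter N)
  obtain ⟨n₀, hn₀pos, hn₀⟩ := irr_one_eq_finrank (⟨χ₀, hχ₀.1⟩ : Cfsg.IrrCharacter N)
  change χ₀ 1 = (n₀ : ℂ) at hn₀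
  have hn₀ne : (n₀ : ℂ) ≠ 0 := by exact_mod_cast hn₀pos.ne'
  have hrel : ∀ ζ : Cfsg.IrrCharacter N, (ζ : N → ℂ) ∈ tifnSet K →
      Cfsg.classInner f (ζ : N → ℂ) = (Cfsg.classInner f χ₀ / (n₀ : ℂ)) * (ζ : N → ℂ) 1 := by
    intro ζ hζ
    have h0 := hrel0 _ hζ
    rw [hn₀] at h0
    field_simp
    exact h0
  have hexp := classFunction_expansion f hf
  have hval : ∀ y : N, f y = ∑ ζ : Cfsg.IrrCharacter N,
      Cfsg.classInner f (ζ : N → ℂ) * (ζ : N → ℂ) y := by
    intro y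
    have := congrFun hexp y
    rw [Finset.sum_apply] at this
    simpa using this
  have hdiff : f k - f k' = ∑ ζ : Cfsg.IrrCharacter N,
      (Cfsg.classInner f χ₀ / (n₀ : ℂ)) *
        ((ζ : N → ℂ) 1 * (ζ : N → ℂ) k - (ζ : N → ℂ) 1 * (ζ : N → ℂ) k') := by
    rw [hval k, hval k', ← Finset.sum_sub_distrib]
    apply Finset.sum_congr rfl
    intro ζ _
    by_cases hζ : (ζ : N → ℂ) ∈ tifnSet K
    · rw [hrel ζ hζ]
      ring
    · rw [tifn_not_mem K ζ hζ k hk, tifn_not_mem K ζ hζ k' hk']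
      ring
  rw [← Finset.mul_sum, Finset.sum_sub_distrib, irr_sum_deg_mul k hk1,
    irr_sum_deg_mul k' hk'1] at hdiff
  have := sub_eq_zero.mp (hdiff.trans (by ring))
  exact this

/-- the principal character induced from a normal subgroup is constant on it -/
theorem indFun_one_mem (K : Subgroup N) [hK : K.Normal] (k : N) (hk : k ∈ K) :
    Cfsg.indFun K (fun _ : K => (1 : ℂ)) k = (K.index : ℂ) := by
  have h := h7_indFun_restrict_invariant K (fun _ : K => (1 : ℂ)) (fun g => by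
    funext y
    rw [cj_apply]) ⟨k, hk⟩
  simpa using h

/-- `1_K^N - ζ` -/
noncomputable def phi0 (K : Subgroup N) (ζ : N → ℂ) : N → ℂ :=
  Cfsg.indFun K (fun _ : K => (1 : ℂ)) - ζ

theorem phi0_mem (K : Subgroup N) [hK : K.Normal] (ζ : N → ℂ) (k : N) (hk : k ∈ K) :
    phi0 K ζ k = (K.index : ℂ) - ζ k := by
  unfold phi0
  rw [Pi.sub_apply, indFun_one_mem K k hk]

theorem phi0_not_mem (K : Subgroup N) [hK : K.Normal]
    (hC : ∀ k ∈ K, k ≠ 1 → Subgroup.centralizer ({k} : Set N) ≤ K) {ζ : N → ℂ}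
    (hζ : ζ ∈ tifnSet K) (x : N) (hx : x ∉ K) : phi0 K ζ x = 0 := by
  unfold phi0
  rw [Pi.sub_apply, indFun_eq_zero_of_not_mem K _ x hx, tifn_vanish K hC hζ x hx, sub_zero]

theorem phi0_one (K : Subgroup N) [hK : K.Normal] {ζ : N → ℂ} (hζ1 : ζ 1 = (K.index : ℂ)) :
    phi0 K ζ 1 = 0 := by
  rw [phi0_mem K ζ 1 K.one_mem, hζ1, sub_self]

theorem phi0_class (K : Subgroup N) {ζ : N → ℂ} (hζ : ζ ∈ tifnSet K) :
    Cfsg.IsClassFunction N (phi0 K ζ) := by
  intro g x
  unfold phi0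
  rw [Pi.sub_apply, Pi.sub_apply, h7_indFun_isClassFunction K _ g x,
    isCharacter_isClassFunction (h7_irr_isCharacter hζ.1) g x]

theorem phi0_conj (K : Subgroup N) (ζ : N → ℂ) :
    Cfsg.conjFun (phi0 K ζ) = phi0 K (Cfsg.conjFun ζ) := by
  unfold phi0
  have h1 := Cfsg.Agent.Lib.Helper11.SeqInd.conjFun_indFun K (fun _ : K => (1 : ℂ))
  have h2 : Cfsg.conjFun (fun _ : K => (1 : ℂ)) = fun _ : K => (1 : ℂ) := by
    funext y
    simp [Cfsg.conjFun]
  rw [h2] at h1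
  funext x
  have h3 := congrFun h1 x
  simp only [Cfsg.conjFun, Pi.sub_apply, map_sub] at h3 ⊢
  rw [h3]

/-- sum of the squares of the absolute values of a member of `tifnSet` over the kernel -/
theorem tifn_sum_normSq (K : Subgroup N) [hK : K.Normal] [Fintype K]
    (hC : ∀ k ∈ K, k ≠ 1 → Subgroup.centralizer ({k} : Set N) ≤ K) {ζ : N → ℂ}
    (hζ : ζ ∈ tifnSet K) : ∑ k : K, ζ k * conj (ζ k) = (Nat.card N : ℂ) := by
  have h1 := irr_classInner (⟨ζ, hζ.1⟩ : Cfsg.IrrCharacter N) ⟨ζ, hζ.1⟩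
  rw [if_pos rfl] at h1
  unfold Cfsg.classInner at h1
  have hN : (Nat.card N : ℂ) ≠ 0 := by exact_mod_cast Nat.card_pos.ne'
  have h2 : ∑ x : N, ζ x * conj (ζ x) = (Nat.card N : ℂ) := by
    field_simp at h1
    exact h1
  rw [← h2]
  symm
  apply sum_subgroup K (fun x => ζ x * conj (ζ x))
  intro x hx
  rw [tifn_vanish K hC hζ x hx, zero_mul]

end General

section Setup

variable {G : Type*} [Group G] [Fintype G] {N : Subgroup G} [Fintype N] {K : Subgroup N}
  {star : (N → ℂ) → (G → ℂ)}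

/-- induction kills functions whose support misses the conjugates of `g` -/
theorem indFun_supp (α : N → ℂ) (hα1 : α 1 = 0) (hαK : ∀ x : N, x ∉ K → α x = 0) (g : G)
    (hg : g = 1 ∨ ∀ x : G, ∀ hx : x⁻¹ * g * x ∈ N, (⟨_, hx⟩ : N) ∉ K) :
    Cfsg.indFun N α g = 0 := by
  rcases hg with rfl | hg
  · rw [h7_indFun_one, hα1, mul_zero]
  · unfold Cfsg.indFun
    rw [Finset.sum_eq_zero, mul_zero]
    intro x _
    by_cases hx : x⁻¹ * g * x ∈ N
    · rw [h7_extendByZero_mem N α _ hx]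
      exact hαK _ (hg x hx)
    · exact h7_extendByZero_not_mem N α _ hx

/-- `β = (1_K^N - ζ)^G` -/
noncomputable def beta (N : Subgroup G) [Fintype N] (K : Subgroup N) (ζ : N → ℂ) : G → ℂ :=
  Cfsg.indFun N (phi0 K ζ)

theorem beta_restrict (h : TIFNSetup N K star) {ζ : N → ℂ} (hζ : ζ ∈ tifnSet K)
    (hζ1 : ζ 1 = (K.index : ℂ)) (x : N) : beta N K ζ x = phi0 K ζ x := by
  have := h.normal
  exact h.hind _ (phi0_class K hζ) (phi0_not_mem K h.hC hζ) (phi0_one K hζ1) x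

theorem beta_supp (h : TIFNSetup N K star) {ζ : N → ℂ} (hζ : ζ ∈ tifnSet K)
    (hζ1 : ζ 1 = (K.index : ℂ)) (g : G)
    (hg : g = 1 ∨ ∀ x : G, ∀ hx : x⁻¹ * g * x ∈ N, (⟨_, hx⟩ : N) ∉ K) :
    beta N K ζ g = 0 := by
  have := h.normal
  exact indFun_supp _ (phi0_one K hζ1) (phi0_not_mem K h.hC hζ) g hg

theorem beta_gen {ζ : N → ℂ} (hζ : ζ ∈ tifnSet K) :
    Cfsg.IsGeneralizedCharacter G (beta N K ζ) := by
  apply indFun_genChar
  refine ⟨_, ζ, isCharacter_indFun K _ (h7_irr_isCharacter (trivIrr K).2),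
    h7_irr_isCharacter hζ.1, rfl⟩

theorem phi0_inner (h : TIFNSetup N K star) [Fintype K] {ζ : N → ℂ} (hζ : ζ ∈ tifnSet K)
    (f : N → ℂ) :
    Cfsg.classInner (phi0 K ζ) f =
      (Nat.card N : ℂ)⁻¹ * ∑ k : K, ((K.index : ℂ) - ζ k) * conj (f k) := by
  have := h.normal
  unfold Cfsg.classInner
  congr 1
  rw [sum_subgroup K (fun x => phi0 K ζ x * conj (f x))]
  · apply Finset.sum_congr rfl
    intro k _
    rw [phi0_mem K ζ k k.2]
  · intro x hx
    rw [phi0_not_mem K h.hC hζ x hx, zero_mul]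

theorem inner_phi0 (h : TIFNSetup N K star) [Fintype K] {ζ : N → ℂ} (hζ : ζ ∈ tifnSet K)
    (f : N → ℂ) :
    Cfsg.classInner f (phi0 K ζ) =
      (Nat.card N : ℂ)⁻¹ * ∑ k : K, f k * conj ((K.index : ℂ) - ζ k) := by
  have := h.normal
  unfold Cfsg.classInner
  congr 1
  rw [sum_subgroup K (fun x => f x * conj (phi0 K ζ x))]
  · apply Finset.sum_congr rfl
    intro k _
    rw [phi0_mem K ζ k k.2]
  · intro x hx
    rw [phi0_not_mem K h.hC hζ x hx, map_zero, mul_zero]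

theorem card_eq_index_mul (K : Subgroup N) :
    (Nat.card N : ℂ) = (K.index : ℂ) * (Nat.card K : ℂ) := by
  rw [← Subgroup.index_mul_card K]
  push_cast
  ring

theorem beta_inner (ζ : N → ℂ) (ψ : G → ℂ) (hψ : Cfsg.IsClassFunction G ψ) :
    Cfsg.classInner (beta N K ζ) ψ = Cfsg.classInner (phi0 K ζ) (fun n : N => ψ n) :=
  h7_frobenius_reciprocity N _ ψ hψ

theorem inner_beta (ζ : N → ℂ) (ψ : G → ℂ) (hψ : Cfsg.IsClassFunction G ψ) :
    Cfsg.classInner ψ (beta N K ζ) = Cfsg.classInner (fun n : N => ψ n) (phi0 K ζ) := by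
  rw [classInner_conj_symm, beta_inner ζ ψ hψ, ← classInner_conj_symm]

theorem beta_one (h : TIFNSetup N K star) {ζ : N → ℂ} (hζ : ζ ∈ tifnSet K) :
    Cfsg.classInner (beta N K ζ) (fun _ : G => (1 : ℂ)) = 1 := by
  classical
  have := h.normal
  have := Fintype.ofFinite K
  rw [beta_inner ζ _ (fun g x => rfl), phi0_inner h hζ]
  have hN : (Nat.card N : ℂ) ≠ 0 := by exact_mod_cast Nat.card_pos.ne'
  simp only [map_one, mul_one]
  rw [Finset.sum_sub_distrib, tifn_sum_zero K h.hC hζ, Finset.sum_const, Finset.card_univ,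
    nsmul_eq_mul, sub_zero, card_eq_index_mul K, ← Nat.card_eq_fintype_card]
  have hK : (Nat.card K : ℂ) ≠ 0 := by exact_mod_cast Nat.card_pos.ne'
  have he : (K.index : ℂ) ≠ 0 := by
    have : K.index ≠ 0 := Subgroup.index_ne_zero_of_finite
    exact_mod_cast this
  field_simp

theorem sum_conj_zero (h : TIFNSetup N K star) [Fintype K] {ζ : N → ℂ} (hζ : ζ ∈ tifnSet K) :
    ∑ k : K, conj (ζ k) = 0 := by
  have := h.normal
  rw [← map_sum, tifn_sum_zero K h.hC hζ, map_zero]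

theorem beta_norm (h : TIFNSetup N K star) {ζ : N → ℂ} (hζ : ζ ∈ tifnSet K)
    (hζ1 : ζ 1 = (K.index : ℂ)) :
    Cfsg.classInner (beta N K ζ) (beta N K ζ) = (K.index : ℂ) + 1 := by
  classical
  have := h.normal
  have := Fintype.ofFinite K
  have hcl : Cfsg.IsClassFunction G (beta N K ζ) := h7_indFun_isClassFunction N _
  rw [beta_inner ζ _ hcl]
  have h1 : (fun n : N => beta N K ζ n) = phi0 K ζ := by
    funext x
    exact beta_restrict h hζ hζ1 x
  rw [h1, phi0_inner h hζ]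
  have hN : (Nat.card N : ℂ) ≠ 0 := by exact_mod_cast Nat.card_pos.ne'
  have hK : (Nat.card K : ℂ) ≠ 0 := by exact_mod_cast Nat.card_pos.ne'
  have he : (K.index : ℂ) ≠ 0 := by
    have : K.index ≠ 0 := Subgroup.index_ne_zero_of_finite
    exact_mod_cast this
  have h2 : ∀ k : K, ((K.index : ℂ) - ζ k) * conj (phi0 K ζ k) =
      (K.index : ℂ) * (K.index : ℂ) - (K.index : ℂ) * conj (ζ k) - (K.index : ℂ) * ζ k +
        ζ k * conj (ζ k) := by
    intro k
    rw [phi0_mem K ζ k k.2, map_sub, Complex.conj_natCast]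
    ring
  have hs1 : ∑ _k : K, (K.index : ℂ) * (K.index : ℂ) =
      (Nat.card K : ℂ) * ((K.index : ℂ) * (K.index : ℂ)) := by
    rw [Finset.sum_const, Finset.card_univ, nsmul_eq_mul, ← Nat.card_eq_fintype_card]
  have hs2 : ∑ k : K, (K.index : ℂ) * conj (ζ k) = 0 := by
    rw [← Finset.mul_sum, sum_conj_zero h hζ, mul_zero]
  have hs3 : ∑ k : K, (K.index : ℂ) * ζ k = 0 := by
    rw [← Finset.mul_sum, tifn_sum_zero K h.hC hζ, mul_zero]
  rw [Finset.sum_congr rfl (fun k _ => h2 k), Finset.sum_add_distrib, Finset.sum_sub_distrib,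
    Finset.sum_sub_distrib, hs1, hs2, hs3, tifn_sum_normSq K h.hC hζ, card_eq_index_mul K]
  field_simp
  ring

theorem alpha_mem {ζ ξ : N → ℂ} (hζ : ζ ∈ tifnSet K) (hζ1 : ζ 1 = (K.index : ℂ))
    (hξ : ξ ∈ tifnSet K) (d : ℕ) (hd : ξ 1 = (d : ℂ) * (K.index : ℂ)) :
    ((d : ℤ) • ζ - ξ) ∈ Cfsg.zspanOn (tifnSet K) ({1}ᶜ : Set N) := by
  refine ⟨zspan_sub (zspan_zsmul _ (zspan_of_mem hζ)) (zspan_of_mem hξ), ?_⟩
  intro y hy
  have hy1 : y = 1 := by
    by_contra h'
    exact hy h'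
  subst hy1
  change (d : ℤ) • ζ 1 - ξ 1 = 0
  rw [hζ1, hd, zsmul_eq_mul]
  push_cast
  ring

theorem star_alpha (h : TIFNSetup N K star) {ζ ξ : N → ℂ} (hζ : ζ ∈ tifnSet K)
    (hξ : ξ ∈ tifnSet K) (d : ℕ) :
    star ((d : ℤ) • ζ - ξ) = (d : ℤ) • star ζ - star ξ := by
  rw [isoOn_map_sub h.hstar (zspan_zsmul _ (zspan_of_mem hζ)) (zspan_of_mem hξ),
    h.hstar.2.1 ζ (zspan_of_mem hζ)]

theorem indK1_orth (h : TIFNSetup N K star) {ξ : N → ℂ} (hξ : ξ ∈ tifnSet K) :
    Cfsg.classInner (Cfsg.indFun K (fun _ : K => (1 : ℂ))) ξ = 0 := by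
  classical
  have := h.normal
  have := Fintype.ofFinite K
  rw [h7_frobenius_reciprocity K _ ξ (isCharacter_isClassFunction (h7_irr_isCharacter hξ.1))]
  unfold Cfsg.classInner
  simp only [one_mul]
  rw [sum_conj_zero h hξ, mul_zero]

theorem irr_inner_kron {ζ ξ : N → ℂ} (hζ : Cfsg.IsIrrCharacter N ζ)
    (hξ : Cfsg.IsIrrCharacter N ξ) [Decidable (ξ = ζ)] :
    Cfsg.classInner ζ ξ = if ξ = ζ then 1 else 0 := by
  have h1 := irr_classInner (⟨ζ, hζ⟩ : Cfsg.IrrCharacter N) ⟨ξ, hξ⟩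
  simp only at h1
  rw [h1]
  by_cases hc : ξ = ζ
  · subst hc
    simp
  · rw [if_neg hc, if_neg]
    intro h2
    exact hc (congrArg Subtype.val h2).symm

theorem beta_star (h : TIFNSetup N K star) {ζ ξ : N → ℂ} (hζ : ζ ∈ tifnSet K)
    (hζ1 : ζ 1 = (K.index : ℂ)) (hξ : ξ ∈ tifnSet K) (d : ℕ)
    (hd : ξ 1 = (d : ℂ) * (K.index : ℂ)) [Decidable (ξ = ζ)] :
    Cfsg.classInner (beta N K ζ) (star ξ) =
      (d : ℂ) * (Cfsg.classInner (beta N K ζ) (star ζ) + 1) - (if ξ = ζ then 1 else 0) := by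
  have hα := alpha_mem hζ hζ1 hξ d hd
  have e1 := star_alpha h hζ hξ d
  have e2 := h.hext _ hα
  have hclβ : Cfsg.IsClassFunction G (beta N K ζ) := h7_indFun_isClassFunction N _
  have hres : (fun n : N => beta N K ζ n) = phi0 K ζ := by
    funext x
    exact beta_restrict h hζ hζ1 x
  have e3 : Cfsg.classInner (beta N K ζ) (Cfsg.indFun N ((d : ℤ) • ζ - ξ)) =
      Cfsg.classInner (phi0 K ζ) ((d : ℤ) • ζ - ξ) := by
    rw [classInner_conj_symm, h7_frobenius_reciprocity N _ _ hclβ, hres, ← classInner_conj_symm]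
  have e4 : Cfsg.classInner (phi0 K ζ) ((d : ℤ) • ζ - ξ) =
      -((d : ℂ) - (if ξ = ζ then 1 else 0)) := by
    unfold phi0
    rw [Cfsg.Agent.Lib.Helper25.classInner_sub_left, classInner_sub_right'',
      classInner_sub_right'', classInner_zsmul_right, classInner_zsmul_right,
      indK1_orth h hζ, indK1_orth h hξ, irr_inner_kron hζ.1 hζ.1, irr_inner_kron hζ.1 hξ.1,
      if_pos rfl]
    push_cast
    ring
  rw [← e2, e1, classInner_sub_right'', classInner_zsmul_right, e4] at e3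
  push_cast at e3
  linear_combination (-1 : ℂ) * e3

theorem Complex.conj_intCast' (z : ℤ) : conj (z : ℂ) = (z : ℂ) := by
  rw [← Complex.ofReal_intCast, Complex.conj_ofReal]

theorem diff_conj_mem {ξ : N → ℂ} (hξ : ξ ∈ tifnSet K) :
    (ξ - Cfsg.conjFun ξ) ∈ Cfsg.zspanOn (tifnSet K) ({1}ᶜ : Set N) := by
  refine ⟨zspan_sub (zspan_of_mem hξ) (zspan_of_mem (tifn_conj_mem K hξ)), ?_⟩
  intro y hy
  have hy1 : y = 1 := by
    by_contra h'
    exact hy h'
  subst hy1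
  obtain ⟨n, -, hn⟩ := irr_one_eq_finrank (⟨ξ, hξ.1⟩ : Cfsg.IrrCharacter N)
  change ξ 1 = (n : ℂ) at hn
  change ξ 1 - conj (ξ 1) = 0
  rw [hn, Complex.conj_natCast, sub_self]

theorem star_diff_conj (h : TIFNSetup N K star) {ξ : N → ℂ} (hξ : ξ ∈ tifnSet K) :
    star ξ - star (Cfsg.conjFun ξ) = Cfsg.indFun N (ξ - Cfsg.conjFun ξ) := by
  rw [← h.hext _ (diff_conj_mem hξ),
    isoOn_map_sub h.hstar (zspan_of_mem hξ) (zspan_of_mem (tifn_conj_mem K hξ))]

theorem star_norm_one (h : TIFNSetup N K star) {ξ : N → ℂ} (hξ : ξ ∈ tifnSet K) :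
    Cfsg.classInner (star ξ) (star ξ) = 1 := by
  classical
  rw [h.hstar.2.2.1 ξ (zspan_of_mem hξ) ξ (zspan_of_mem hξ), irr_inner_kron hξ.1 hξ.1, if_pos rfl]

theorem star_gen (h : TIFNSetup N K star) {ξ : N → ℂ} (hξ : ξ ∈ tifnSet K) :
    Cfsg.IsGeneralizedCharacter G (star ξ) :=
  h.hstar.2.2.2 ξ (zspan_of_mem hξ)

theorem star_inner (h : TIFNSetup N K star) {ξ ξ' : N → ℂ} (hξ : ξ ∈ tifnSet K)
    (hξ' : ξ' ∈ tifnSet K) [Decidable (ξ' = ξ)] :
    Cfsg.classInner (star ξ) (star ξ') = if ξ' = ξ then 1 else 0 := by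
  rw [h.hstar.2.2.1 ξ (zspan_of_mem hξ) ξ' (zspan_of_mem hξ'), irr_inner_kron hξ.1 hξ'.1]

/-- the coherent extension commutes with complex conjugation -/
theorem star_conj (h : TIFNSetup N K star) (hodd : Odd (Nat.card N)) {ξ : N → ℂ}
    (hξ : ξ ∈ tifnSet K) : star (Cfsg.conjFun ξ) = Cfsg.conjFun (star ξ) := by
  classical
  have hξc := tifn_conj_mem K hξ
  have hne := tifn_conj_ne K hodd hξ
  obtain ⟨ε, η, hε, hZ⟩ := genChar_norm_one _ (star_gen h hξ) (star_norm_one h hξ)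
  obtain ⟨ε', η', hε', hZ'⟩ := genChar_norm_one _ (star_gen h hξc) (star_norm_one h hξc)
  have horth : Cfsg.classInner (star ξ) (star (Cfsg.conjFun ξ)) = 0 := by
    rw [star_inner h hξ hξc, if_neg hne]
  -- η ≠ η'
  have hηne : η ≠ η' := by
    intro heq
    rw [hZ, hZ', heq, classInner_smul_left', h7_classInner_smul_right, irr_classInner,
      if_pos rfl] at horth
    rcases hε with rfl | rfl <;> rcases hε' with rfl | rfl <;> norm_num at horth
  -- the difference is conjugation-odd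
  have hD := star_diff_conj h hξ
  have hDc : Cfsg.conjFun (star ξ - star (Cfsg.conjFun ξ)) =
      -(star ξ - star (Cfsg.conjFun ξ)) := by
    rw [hD, Cfsg.Agent.Lib.Helper11.SeqInd.conjFun_indFun]
    have h1 : Cfsg.conjFun (ξ - Cfsg.conjFun ξ) = (-1 : ℂ) • (ξ - Cfsg.conjFun ξ) := by
      funext x
      simp [Cfsg.conjFun]
    rw [h1, indFun_smul]
    funext x
    simp
  have hsum : ∀ g : G, (ε : ℂ) * ((η : G → ℂ) g + (irrConj η : G → ℂ) g) =
      (ε' : ℂ) * ((η' : G → ℂ) g + (irrConj η' : G → ℂ) g) := by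
    intro g
    have h1 := congrFun hDc g
    rw [hZ, hZ'] at h1
    simp only [Cfsg.conjFun, Pi.sub_apply, Pi.neg_apply, Pi.smul_apply, smul_eq_mul, map_sub,
      map_mul, Complex.conj_intCast'] at h1
    rw [irrConj_apply, irrConj_apply]
    linear_combination h1
  have hfun : (ε : ℂ) • ((η : G → ℂ) + (irrConj η : G → ℂ)) =
      (ε' : ℂ) • ((η' : G → ℂ) + (irrConj η' : G → ℂ)) := by
    funext g
    simpa using hsum g
  have hinner := congrArg (fun f => Cfsg.classInner f (η : G → ℂ)) hfun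
  rw [classInner_smul_left', classInner_smul_left', classInner_add_left', classInner_add_left',
    irr_classInner, irr_classInner, irr_classInner, irr_classInner, if_pos rfl,
    if_neg (Ne.symm hηne)] at hinner
  have hη' : irrConj η' = η := by
    by_contra hcon
    rw [if_neg hcon] at hinner
    rcases hε with rfl | rfl <;> split_ifs at hinner <;> norm_num at hinner
  rw [if_pos hη'] at hinner
  have hreal : irrConj η ≠ η := by
    intro hcon
    rw [if_pos hcon] at hinner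
    rcases hε with rfl | rfl <;> rcases hε' with rfl | rfl <;> norm_num at hinner
  rw [if_neg hreal] at hinner
  have hεε : ε = ε' := by
    rcases hε with rfl | rfl <;> rcases hε' with rfl | rfl
    · rfl
    · exfalso; norm_num at hinner
    · exfalso; norm_num at hinner
    · rfl
  rw [hZ', hZ, ← hεε]
  funext g
  simp only [Cfsg.conjFun, Pi.smul_apply, smul_eq_mul, map_mul, Complex.conj_intCast']
  congr 1
  have := congrArg (fun χ : Cfsg.IrrCharacter G => (χ : G → ℂ) g) hη'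
  simp only [irrConj_apply] at this
  rw [← this, Complex.conj_conj]

theorem indFun_sub' (α γ : N → ℂ) :
    Cfsg.indFun N (α - γ) = Cfsg.indFun N α - Cfsg.indFun N γ := by
  have h1 : α - γ = α + (-1 : ℂ) • γ := by
    funext x
    simp [sub_eq_add_neg]
  rw [h1, indFun_add, indFun_smul]
  funext x
  simp [sub_eq_add_neg]

/-- `β + ζ^*` is real-valued -/
theorem beta_real (h : TIFNSetup N K star) (hodd : Odd (Nat.card N)) {ζ : N → ℂ}
    (hζ : ζ ∈ tifnSet K) :
    Cfsg.conjFun (beta N K ζ + star ζ) = beta N K ζ + star ζ := by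
  have h1 : Cfsg.conjFun (beta N K ζ) = beta N K (Cfsg.conjFun ζ) := by
    unfold beta
    rw [Cfsg.Agent.Lib.Helper11.SeqInd.conjFun_indFun, phi0_conj]
  have h2 : beta N K (Cfsg.conjFun ζ) - beta N K ζ = star ζ - Cfsg.conjFun (star ζ) := by
    unfold beta
    rw [← indFun_sub', ← star_conj h hodd hζ, star_diff_conj h hζ]
    congr 1
    unfold phi0
    funext x
    simp only [Pi.sub_apply]
    ring
  funext g
  have h3 := congrFun h1 g
  have h4 := congrFun h2 g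
  simp only [Cfsg.conjFun, Pi.add_apply, Pi.sub_apply, map_add] at h3 h4 ⊢
  rw [h3]
  linear_combination h4

theorem star_diff_supp (h : TIFNSetup N K star) {ζ ξ : N → ℂ} (hζ : ζ ∈ tifnSet K)
    (hζ1 : ζ 1 = (K.index : ℂ)) (hξ : ξ ∈ tifnSet K) (d : ℕ)
    (hd : ξ 1 = (d : ℂ) * (K.index : ℂ)) (g : G)
    (hg : g = 1 ∨ ∀ x : G, ∀ hx : x⁻¹ * g * x ∈ N, (⟨_, hx⟩ : N) ∉ K) :
    (d : ℂ) * star ζ g - star ξ g = 0 := by
  have hα := alpha_mem hζ hζ1 hξ d hd
  have e1 := star_alpha h hζ hξ d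
  have e2 := h.hext _ hα
  have e3 := indFun_supp (K := K) _ (hα.2 1 (by simp)) (tifn_zspan_vanish h hα.1) g hg
  rw [← e2, e1] at e3
  simpa using e3

theorem star_cj_supp (h : TIFNSetup N K star) (hodd : Odd (Nat.card N)) {ξ : N → ℂ}
    (hξ : ξ ∈ tifnSet K) (g : G)
    (hg : g = 1 ∨ ∀ x : G, ∀ hx : x⁻¹ * g * x ∈ N, (⟨_, hx⟩ : N) ∉ K) :
    star ξ g - conj (star ξ g) = 0 := by
  have hα := diff_conj_mem (K := K) hξ
  have e3 := indFun_supp (K := K) _ (hα.2 1 (by simp)) (tifn_zspan_vanish h hα.1) g hg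
  rw [← star_diff_conj h hξ, star_conj h hodd hξ] at e3
  simpa [Cfsg.conjFun] using e3

/-- a class function of `G` whose inner products with the exceptional characters are
proportional to the degrees is constant on `K \ {1}`, with value its inner product with `β` -/
theorem const_G (h : TIFNSetup N K star) {ζ : N → ℂ} (hζ : ζ ∈ tifnSet K)
    (hζ1 : ζ 1 = (K.index : ℂ)) (χ : G → ℂ) (hχ : Cfsg.IsClassFunction G χ)
    (hrel : ∀ ξ ∈ tifnSet K, ∀ d : ℕ, ξ 1 = (d : ℂ) * (K.index : ℂ) →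
      Cfsg.classInner χ (star ξ) = (d : ℂ) * Cfsg.classInner χ (star ζ))
    (k : N) (hk : k ∈ K) (hk1 : k ≠ 1) :
    χ k = Cfsg.classInner χ (beta N K ζ) := by
  classical
  have := h.normal
  have := Fintype.ofFinite K
  have he : (K.index : ℂ) ≠ 0 := by
    have : K.index ≠ 0 := Subgroup.index_ne_zero_of_finite
    exact_mod_cast this
  obtain ⟨f, hf⟩ : ∃ f : N → ℂ, f = fun n : N => χ n := ⟨_, rfl⟩
  have hfcl : Cfsg.IsClassFunction N f := by
    intro g x
    rw [hf]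
    have := hχ (g : G) (x : G)
    simpa using this
  have hrec : ∀ α : N → ℂ, Cfsg.classInner f α = Cfsg.classInner χ (Cfsg.indFun N α) := by
    intro α
    rw [classInner_conj_symm χ, h7_frobenius_reciprocity N α χ hχ, ← classInner_conj_symm, hf]
  have hrel0 : ∀ ξ ∈ tifnSet K, Cfsg.classInner f ξ * ζ 1 = Cfsg.classInner f ζ * ξ 1 := by
    intro ξ hξ
    obtain ⟨t, -, ht, -⟩ := tifn_degree K h.hC hξ
    have hd : ξ 1 = (t : ℂ) * (K.index : ℂ) := by rw [ht, mul_comm]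
    have hα := alpha_mem hζ hζ1 hξ t hd
    have e1 := star_alpha h hζ hξ t
    have e2 := h.hext _ hα
    have e3 := hrec ((t : ℤ) • ζ - ξ)
    rw [← e2, e1, classInner_sub_right'', classInner_sub_right'', classInner_zsmul_right,
      classInner_zsmul_right, hrel ξ hξ t hd] at e3
    rw [hζ1, hd]
    push_cast at e3
    linear_combination (-(K.index : ℂ)) * e3
  have hconst : ∀ k' : N, k' ∈ K → k' ≠ 1 → f k' = f k := fun k' hk' hk'1 =>
    tifn_const' K f hfcl hζ hrel0 k' k hk' hk hk'1 hk1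
  rw [inner_beta ζ χ hχ, ← hf, inner_phi0 h hζ]
  have h1 : ∀ y : K, f y * conj ((K.index : ℂ) - ζ y) = f k * conj ((K.index : ℂ) - ζ y) := by
    intro y
    by_cases hy : (y : N) = 1
    · rw [hy, hζ1, sub_self, map_zero, mul_zero, mul_zero]
    · rw [hconst y y.2 hy]
  rw [Finset.sum_congr rfl (fun y _ => h1 y), ← Finset.mul_sum]
  have h2 : ∑ y : K, conj ((K.index : ℂ) - ζ y) = (K.index : ℂ) * (Nat.card K : ℂ) := by
    simp only [map_sub, Complex.conj_natCast]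
    rw [Finset.sum_sub_distrib, sum_conj_zero h hζ, Finset.sum_const, Finset.card_univ,
      nsmul_eq_mul, ← Nat.card_eq_fintype_card, sub_zero]
    ring
  rw [h2, card_eq_index_mul K]
  have hK : (Nat.card K : ℂ) ≠ 0 := by exact_mod_cast Nat.card_pos.ne'
  have hfk : f k = χ k := by rw [hf]
  rw [← hfk]
  field_simp

theorem int_ineq (m : ℤ) (n : ℕ) (hn : 2 ≤ n) : 0 ≤ m * (m * (n : ℤ) - 2) := by
  have hn' : (2 : ℤ) ≤ (n : ℤ) := by exact_mod_cast hn
  rcases le_or_gt m 0 with hm | hm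
  · apply mul_nonneg_of_nonpos_of_nonpos hm
    nlinarith
  · apply mul_nonneg hm.le
    nlinarith

open Classical in
/-- lower bound for the norm of `ζ^*` on `K \ {1}` -/
theorem z_norm (h : TIFNSetup N K star) [Fintype K] {ζ : N → ℂ} (hζ : ζ ∈ tifnSet K)
    (hζ1 : ζ 1 = (K.index : ℂ)) (n : ℕ) (hn : K.index * n + 1 = Nat.card K) (hn2 : 2 ≤ n) :
    (K.index : ℝ) * (Nat.card K : ℝ) - (K.index : ℝ) ^ 2 ≤
      ∑ k : K, (if (k : N) = 1 then 0 else Complex.normSq (star ζ k)) := by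
  classical
  have := h.normal
  have he : (K.index : ℂ) ≠ 0 := by
    have : K.index ≠ 0 := Subgroup.index_ne_zero_of_finite
    exact_mod_cast this
  obtain ⟨m, hm⟩ := tifn_exceptional_values h hζ
  have hval : ∀ k : K, (k : N) ≠ 1 → star ζ k = ζ k + (m : ℂ) := by
    intro k hk
    have h1 := hm ζ hζ k k.2 hk
    rw [hζ1] at h1
    have h2 : (m : ℂ) * (K.index : ℂ) / (K.index : ℂ) = (m : ℂ) := by field_simp
    rw [h2] at h1
    linear_combination h1
  have hterm : ∀ k : K, (if (k : N) = 1 then 0 else Complex.normSq (star ζ k)) =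
      Complex.normSq (ζ k + (m : ℂ)) -
        (if (k : N) = 1 then Complex.normSq (ζ k + (m : ℂ)) else 0) := by
    intro k
    by_cases hk : (k : N) = 1
    · rw [if_pos hk, if_pos hk, sub_self]
    · rw [if_neg hk, if_neg hk, hval k hk, sub_zero]
  rw [Finset.sum_congr rfl (fun k _ => hterm k), Finset.sum_sub_distrib]
  have hone : ∑ k : K, (if (k : N) = 1 then Complex.normSq (ζ k + (m : ℂ)) else 0) =
      ((K.index : ℝ) + (m : ℝ)) ^ 2 := by
    rw [Finset.sum_eq_single (1 : K)]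
    · rw [if_pos (by simp)]
      simp only [Subgroup.coe_one]
      rw [hζ1]
      have : ((K.index : ℂ) + (m : ℂ)) = (((K.index : ℝ) + (m : ℝ) : ℝ) : ℂ) := by push_cast; rfl
      rw [this, Complex.normSq_ofReal]
      ring
    · intro k _ hk
      rw [if_neg]
      intro hk'
      apply hk
      exact Subtype.ext hk'
    · intro hh
      exact absurd (Finset.mem_univ _) hh
  have hexp : ∀ k : K, Complex.normSq (ζ k + (m : ℂ)) =
      Complex.normSq (ζ k) + 2 * (m : ℝ) * (ζ k).re + (m : ℝ) ^ 2 := by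
    intro k
    rw [Complex.normSq_add]
    have h1 : Complex.normSq (m : ℂ) = (m : ℝ) ^ 2 := by
      have : (m : ℂ) = ((m : ℝ) : ℂ) := by push_cast; rfl
      rw [this, Complex.normSq_ofReal]
      ring
    have h2 : (ζ k * conj (m : ℂ)).re = (m : ℝ) * (ζ k).re := by
      rw [Complex.conj_intCast']
      have : (m : ℂ) = ((m : ℝ) : ℂ) := by push_cast; rfl
      rw [this, Complex.re_mul_ofReal]
      ring
    rw [h1, h2]
    ring
  have hsq : ∑ k : K, Complex.normSq (ζ k) = (Nat.card N : ℝ) := by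
    have h1 := tifn_sum_normSq K h.hC hζ
    have h2 : ∀ k : K, ζ k * conj (ζ k) = ((Complex.normSq (ζ k) : ℝ) : ℂ) := fun k =>
      Complex.mul_conj _
    rw [Finset.sum_congr rfl (fun k _ => h2 k)] at h1
    have h3 : ((∑ k : K, Complex.normSq (ζ k) : ℝ) : ℂ) = ((Nat.card N : ℝ) : ℂ) := by
      push_cast
      exact h1
    exact Complex.ofReal_injective h3
  have hre : ∑ k : K, (ζ k).re = 0 := by
    rw [← Complex.re_sum, tifn_sum_zero K h.hC hζ, Complex.zero_re]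
  have hall : ∑ k : K, Complex.normSq (ζ k + (m : ℂ)) =
      (Nat.card N : ℝ) + (m : ℝ) ^ 2 * (Nat.card K : ℝ) := by
    rw [Finset.sum_congr rfl (fun k _ => hexp k), Finset.sum_add_distrib, Finset.sum_add_distrib,
      hsq, ← Finset.mul_sum, hre, Finset.sum_const, Finset.card_univ, nsmul_eq_mul,
      ← Nat.card_eq_fintype_card]
    ring
  rw [hall, hone]
  have hNK : (Nat.card N : ℝ) = (K.index : ℝ) * (Nat.card K : ℝ) := by
    rw [← Subgroup.index_mul_card K]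
    push_cast
    ring
  have hKn : (Nat.card K : ℝ) = (K.index : ℝ) * (n : ℝ) + 1 := by
    rw [← hn]
    push_cast
    ring
  have hineq : (0 : ℝ) ≤ (m : ℝ) * ((m : ℝ) * (n : ℝ) - 2) := by
    have := int_ineq m n hn2
    have h' : ((0 : ℤ) : ℝ) ≤ ((m * (m * (n : ℤ) - 2) : ℤ) : ℝ) := by exact_mod_cast this
    push_cast at h'
    exact h'
  have hepos : (0 : ℝ) ≤ (K.index : ℝ) := Nat.cast_nonneg _
  rw [hNK]
  have key : (K.index : ℝ) * (Nat.card K : ℝ) + (m : ℝ) ^ 2 * (Nat.card K : ℝ) -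
      ((K.index : ℝ) + (m : ℝ)) ^ 2 =
      (K.index : ℝ) * (Nat.card K : ℝ) - (K.index : ℝ) ^ 2 +
        (K.index : ℝ) * ((m : ℝ) * ((m : ℝ) * (n : ℝ) - 2)) := by
    rw [hKn]
    ring
  rw [key]
  have := mul_nonneg hepos hineq
  linarith

end Setup

section Degrees

variable {N : Type*} [Group N] [Fintype N]

/-- a filtered sum over the irreducible characters as a sum over the subtype of `tifnSet` -/
theorem sum_tifn (K : Subgroup N) [Fintype (Cfsg.IrrCharacter N)]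
    [Fintype {ξ : N → ℂ // ξ ∈ tifnSet K}]
    [DecidablePred fun ζ : Cfsg.IrrCharacter N => (ζ : N → ℂ) ∈ tifnSet K]
    (F : (N → ℂ) → ℂ) :
    ∑ ζ : Cfsg.IrrCharacter N, (if (ζ : N → ℂ) ∈ tifnSet K then F (ζ : N → ℂ) else 0) =
      ∑ s : {ξ : N → ℂ // ξ ∈ tifnSet K}, F (s : N → ℂ) := by
  classical
  rw [← Finset.sum_filter]
  rw [Finset.sum_subtype (Finset.univ.filter
    (fun ζ : Cfsg.IrrCharacter N => (ζ : N → ℂ) ∈ tifnSet K))
    (p := fun ζ : Cfsg.IrrCharacter N => (ζ : N → ℂ) ∈ tifnSet K) (fun x => by simp)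
    (fun ζ : Cfsg.IrrCharacter N => F (ζ : N → ℂ))]
  let e : {ζ : Cfsg.IrrCharacter N // (ζ : N → ℂ) ∈ tifnSet K} ≃
      {ξ : N → ℂ // ξ ∈ tifnSet K} :=
    { toFun := fun x => ⟨(x.1 : N → ℂ), x.2⟩
      invFun := fun s => ⟨⟨s.1, s.2.1⟩, s.2⟩
      left_inv := fun x => rfl
      right_inv := fun s => rfl }
  exact Fintype.sum_equiv e _ _ (fun x => rfl)

/-- the sum of the squares of the reduced degrees -/
theorem deg_sum (K : Subgroup N) [hK : K.Normal]
    (hC : ∀ k ∈ K, k ≠ 1 → Subgroup.centralizer ({k} : Set N) ≤ K)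
    [Fintype {ξ : N → ℂ // ξ ∈ tifnSet K}] (d : {ξ : N → ℂ // ξ ∈ tifnSet K} → ℕ)
    (hd : ∀ s : {ξ : N → ℂ // ξ ∈ tifnSet K}, (s : N → ℂ) 1 = (d s : ℂ) * (K.index : ℂ)) :
    K.index * ∑ s, (d s) ^ 2 + 1 = Nat.card K := by
  classical
  have := Fintype.ofFinite (Cfsg.IrrCharacter N)
  have h1 := tifn_sum_sq K hC
  rw [sum_tifn K (fun ξ => ξ 1 * ξ 1)] at h1
  have he : (K.index : ℂ) ≠ 0 := by
    have : K.index ≠ 0 := Subgroup.index_ne_zero_of_finite
    exact_mod_cast this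
  have h2 : ∀ s : {ξ : N → ℂ // ξ ∈ tifnSet K}, (s : N → ℂ) 1 * (s : N → ℂ) 1 =
      (K.index : ℂ) * ((K.index : ℂ) * ((d s : ℂ)) ^ 2) := by
    intro s
    rw [hd s]
    ring
  rw [Finset.sum_congr rfl (fun s _ => h2 s), ← Finset.mul_sum, ← Finset.mul_sum] at h1
  have h3 := mul_left_cancel₀ he h1
  have hKpos : 1 ≤ Nat.card K := Nat.card_pos
  have h4 : ((K.index * ∑ s, (d s) ^ 2 + 1 : ℕ) : ℂ) = ((Nat.card K : ℕ) : ℂ) := by
    push_cast
    rw [h3]
    ring
  exact_mod_cast h4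

end Degrees

end Cfsg.Agent.Lib.Helper11.PfFam
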