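import Mathlib
import Cfsg.Agent.Lib.Helper11.PfFam
import Cfsg.Agent.Lib.Helper11.PfCount
import Cfsg.Agent.Lib.Helper11.FrobKernelNil

set_option autoImplicit false
set_option linter.unusedSectionVars false
open scoped ComplexConjugate

namespace Cfsg.Agent.Lib.Helper11.PfData

open Cfsg.Agent.Lib.helper7 Cfsg.Agent.Lib.helper2 Cfsg.Agent.Lib.Helper25
open Cfsg.Agent.Lib.Helper11 Cfsg.Agent.Lib.Helper11.SibSetup Cfsg.Agent.Lib.Helper11.PfFam
  Cfsg.Agent.Lib.Helper11.PfCount

universe u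

/-- `g` lies outside the section of `H`: it is the identity or has no conjugate in `H` -/
def NotSec {G : Type u} [Group G] (H : Subgroup G) (g : G) : Prop :=
  g = 1 ∨ ∀ x : G, x⁻¹ * g * x ∉ H

/-- the character-theoretic data attached to one Frobenius family (Peterfalvi (7.8)) -/
structure FamData {G : Type u} [Group G] [Fintype G] (H : Subgroup G) [Fintype H] where
  I : Type u
  instI : Fintype I
  instD : DecidableEq I
  X : I → G → ℂ
  d : I → ℕ
  z : I
  cj : I → I
  β : G → ℂ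
  e : ℕ
  n : ℕ
  he2 : 2 ≤ e
  hn2 : 2 ≤ n
  hcard : e * n + 1 = Nat.card H
  hidx : (Subgroup.normalizer (H : Set G)).index * (e * Nat.card H) = Nat.card G
  X_gen : ∀ s, Cfsg.IsGeneralizedCharacter G (X s)
  X_orth : ∀ s t, Cfsg.classInner (X s) (X t) = if t = s then 1 else 0
  X_cj : ∀ s, X (cj s) = Cfsg.conjFun (X s)
  cj_ne : ∀ s, cj s ≠ s
  d_z : d z = 1
  d_sq : ∑ s, (d s) ^ 2 = n
  X_diff : ∀ s g, NotSec H g → (d s : ℂ) * X z g - X s g = 0
  X_cjd : ∀ s g, NotSec H g → X s g - conj (X s g) = 0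
  β_gen : Cfsg.IsGeneralizedCharacter G β
  β_supp : ∀ g, NotSec H g → β g = 0
  β_one : Cfsg.classInner β (fun _ : G => (1 : ℂ)) = 1
  β_norm : Cfsg.classInner β β = (e : ℂ) + 1
  β_X : ∀ s, Cfsg.classInner β (X s) =
    (d s : ℂ) * (Cfsg.classInner β (X z) + 1) - (if s = z then 1 else 0)
  β_real : Cfsg.conjFun (β + X z) = β + X z
  const : ∀ χ : G → ℂ, Cfsg.IsClassFunction G χ →
    (∀ s, Cfsg.classInner χ (X s) = (d s : ℂ) * Cfsg.classInner χ (X z)) →
    ∀ k ∈ H, k ≠ 1 → χ k = Cfsg.classInner χ β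
  z_norm : (e : ℝ) * (Nat.card H : ℝ) - (e : ℝ) ^ 2 ≤
    secSum H (fun g => Complex.normSq (X z g))

attribute [instance] FamData.instI FamData.instD

section Build

variable {G : Type u} [Group G] [Fintype G]

theorem notSec_imp (H : Subgroup G) (g : G) (hg : NotSec H g) :
    g = 1 ∨ ∀ x : G, ∀ hx : x⁻¹ * g * x ∈ Subgroup.normalizer (H : Set G),
      (⟨_, hx⟩ : ↥(Subgroup.normalizer (H : Set G))) ∉
        H.subgroupOf (Subgroup.normalizer (H : Set G)) := by
  rcases hg with h | h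
  · exact Or.inl h
  · right
    intro x hx hmem
    exact h x (Subgroup.mem_subgroupOf.mp hmem)

theorem famData_of_setup (H : Subgroup G) [Fintype H]
    [Fintype ↥(Subgroup.normalizer (H : Set G))]
    {star : (↥(Subgroup.normalizer (H : Set G)) → ℂ) → (G → ℂ)}
    (h : TIFNSetup (Subgroup.normalizer (H : Set G))
      (H.subgroupOf (Subgroup.normalizer (H : Set G))) star)
    (hodd : Odd (Nat.card ↥(Subgroup.normalizer (H : Set G))))
    (hlt : H < Subgroup.normalizer (H : Set G)) (hH1 : H ≠ ⊥)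
    {ζ : ↥(Subgroup.normalizer (H : Set G)) → ℂ}
    (hζ : ζ ∈ tifnSet (H.subgroupOf (Subgroup.normalizer (H : Set G))))
    (hζ1 : ζ 1 = ((H.subgroupOf (Subgroup.normalizer (H : Set G))).index : ℂ)) :
    Nonempty (FamData H) := by
  classical
  obtain ⟨N, hN⟩ : ∃ N : Subgroup G, N = Subgroup.normalizer (H : Set G) := ⟨_, rfl⟩
  obtain ⟨K, hKdef⟩ : ∃ K : Subgroup ↥(Subgroup.normalizer (H : Set G)),
      K = H.subgroupOf (Subgroup.normalizer (H : Set G)) := ⟨_, rfl⟩
  rw [← hKdef] at h hζ hζ1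
  have hHN : H ≤ Subgroup.normalizer (H : Set G) := Subgroup.le_normalizer
  have hKn := h.normal
  have := Fintype.ofFinite K
  have hfin : Fintype {ξ : ↥(Subgroup.normalizer (H : Set G)) → ℂ // ξ ∈ tifnSet K} :=
    (Cfsg.Agent.Lib.Helper11.SibCentral.tifnSet_finite K).fintype
  have hcardK : Nat.card K = Nat.card H := by
    rw [hKdef]
    exact Nat.card_congr (Subgroup.subgroupOfEquivOfLe hHN).toEquiv
  have he0 : K.index ≠ 0 := Subgroup.index_ne_zero_of_finite
  have heC : (K.index : ℂ) ≠ 0 := by exact_mod_cast he0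
  have hK1 : K ≠ ⊥ := by
    rw [hKdef]
    exact Cfsg.Agent.Lib.Helper11.SibSylow.subgroupOf_ne_bot hHN hH1
  -- degrees
  have hdeg : ∀ s : {ξ : ↥(Subgroup.normalizer (H : Set G)) → ℂ // ξ ∈ tifnSet K},
      ∃ t : ℕ, 0 < t ∧ (s : ↥(Subgroup.normalizer (H : Set G)) → ℂ) 1 =
        (t : ℂ) * (K.index : ℂ) := by
    intro s
    obtain ⟨t, ht, h1, -⟩ := tifn_degree K h.hC s.2
    exact ⟨t, ht, by rw [h1, mul_comm]⟩
  choose d hdpos hd using hdeg
  have hdz : d ⟨ζ, hζ⟩ = 1 := by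
    have h1 := hd ⟨ζ, hζ⟩
    simp only at h1
    rw [hζ1] at h1
    have h2 : ((d ⟨ζ, hζ⟩ : ℕ) : ℂ) = 1 := by
      have h3 : (1 : ℂ) * (K.index : ℂ) = (d ⟨ζ, hζ⟩ : ℂ) * (K.index : ℂ) := by
        rw [one_mul]
        exact h1
      exact (mul_right_cancel₀ heC h3).symm
    exact_mod_cast h2
  have hdeq : ∀ (ξ : ↥(Subgroup.normalizer (H : Set G)) → ℂ) (hξ : ξ ∈ tifnSet K) (d' : ℕ),
      ξ 1 = (d' : ℂ) * (K.index : ℂ) → d' = d ⟨ξ, hξ⟩ := by
    intro ξ hξ d' h1
    have h2 := hd ⟨ξ, hξ⟩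
    simp only at h2
    rw [h1] at h2
    have h3 := mul_right_cancel₀ heC h2
    exact_mod_cast h3
  have hsum := deg_sum K h.hC d hd
  -- n ≥ 2
  have hKodd : Odd (Nat.card K) := hodd.of_dvd_nat (Subgroup.card_subgroup_dvd_card K)
  have heodd : Odd K.index := hodd.of_dvd_nat (Subgroup.index_dvd_card K)
  have hnpos : 1 ≤ ∑ s, (d s) ^ 2 := by
    have h1 : (d ⟨ζ, hζ⟩) ^ 2 ≤ ∑ s, (d s) ^ 2 :=
      Finset.single_le_sum (f := fun s => (d s) ^ 2) (fun s _ => Nat.zero_le _)
        (Finset.mem_univ (⟨ζ, hζ⟩ : {ξ : ↥(Subgroup.normalizer (H : Set G)) → ℂ // ξ ∈ tifnSet K}))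
    rw [hdz] at h1
    simpa using h1
  have hn2 : 2 ≤ ∑ s, (d s) ^ 2 := by
    by_contra hcon
    have h1 : ∑ s, (d s) ^ 2 = 1 := by omega
    rw [h1, mul_one] at hsum
    rw [← hsum] at hKodd
    have : Even (K.index + 1) := heodd.add_one
    exact (Nat.not_even_iff_odd.mpr hKodd) this
  have he2 : 2 ≤ K.index := by
    have h1 : K.index ≠ 1 := by
      intro h1
      rw [Subgroup.index_eq_one, hKdef, Subgroup.subgroupOf_eq_top] at h1
      exact (not_le_of_gt hlt) h1
    omega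
  have hidx : (Subgroup.normalizer (H : Set G)).index * (K.index * Nat.card H) = Nat.card G := by
    rw [← hcardK, Subgroup.index_mul_card K, Subgroup.index_mul_card]
  have hsec : ∀ g, NotSec H g → g = 1 ∨ ∀ x : G,
      ∀ hx : x⁻¹ * g * x ∈ Subgroup.normalizer (H : Set G),
      (⟨_, hx⟩ : ↥(Subgroup.normalizer (H : Set G))) ∉ K := by
    intro g hg
    rw [hKdef]
    exact notSec_imp H g hg
  refine ⟨{
    I := {ξ : ↥(Subgroup.normalizer (H : Set G)) → ℂ // ξ ∈ tifnSet K}
    instI := hfin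
    instD := Classical.decEq _
    X := fun s => star s.1
    d := d
    z := ⟨ζ, hζ⟩
    cj := fun s => ⟨Cfsg.conjFun s.1, tifn_conj_mem K s.2⟩
    β := PfFam.beta (Subgroup.normalizer (H : Set G)) K ζ
    e := K.index
    n := ∑ s, (d s) ^ 2
    he2 := he2
    hn2 := hn2
    hcard := by rw [hsum, hcardK]
    hidx := hidx
    X_gen := fun s => star_gen h s.2
    X_orth := ?_
    X_cj := fun s => star_conj h hodd s.2
    cj_ne := ?_
    d_z := hdz
    d_sq := rfl
    X_diff := ?_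
    X_cjd := ?_
    β_gen := beta_gen hζ
    β_supp := fun g hg => beta_supp h hζ hζ1 g (hsec g hg)
    β_one := beta_one h hζ
    β_norm := beta_norm h hζ hζ1
    β_X := ?_
    β_real := beta_real h hodd hζ
    const := ?_
    z_norm := ?_ }⟩
  · intro s t
    rw [star_inner h s.2 t.2]
    by_cases hst : t = s
    · rw [if_pos hst, if_pos (congrArg Subtype.val hst)]
    · rw [if_neg hst, if_neg (fun hc => hst (Subtype.ext hc))]
  · intro s hc
    exact tifn_conj_ne K hodd s.2 (congrArg Subtype.val hc)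
  · intro s g hg
    exact star_diff_supp h hζ hζ1 s.2 (d s) (hd s) g (hsec g hg)
  · intro s g hg
    exact star_cj_supp h hodd s.2 g (hsec g hg)
  · intro s
    rw [beta_star h hζ hζ1 s.2 (d s) (hd s)]
    congr 1
    by_cases hsz : s = ⟨ζ, hζ⟩
    · rw [if_pos hsz, if_pos (congrArg Subtype.val hsz)]
    · rw [if_neg hsz, if_neg (fun hc => hsz (Subtype.ext hc))]
  · intro χ hχ hrel k hk hk1
    have hkN : k ∈ Subgroup.normalizer (H : Set G) := hHN hk
    have hkK : (⟨k, hkN⟩ : ↥(Subgroup.normalizer (H : Set G))) ∈ K := by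
      rw [hKdef]
      exact Subgroup.mem_subgroupOf.mpr hk
    have hk1' : (⟨k, hkN⟩ : ↥(Subgroup.normalizer (H : Set G))) ≠ 1 := by
      intro hc
      exact hk1 (congrArg Subtype.val hc)
    exact const_G h hζ hζ1 χ hχ (fun ξ hξ d' hd' => by
      rw [hdeq ξ hξ d' hd']
      exact hrel ⟨ξ, hξ⟩) ⟨k, hkN⟩ hkK hk1'
  · have h1 := z_norm h hζ hζ1 (∑ s, (d s) ^ 2) hsum hn2
    rw [hcardK] at h1
    refine le_trans h1 (le_of_eq ?_)
    unfold secSum
    subst hKdef
    refine Fintype.sum_equiv (Subgroup.subgroupOfEquivOfLe hHN).toEquiv _ _ ?_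
    intro k
    have hk : ((Subgroup.subgroupOfEquivOfLe hHN k : H) : G) =
        ((k : ↥(Subgroup.normalizer (H : Set G))) : G) := rfl
    simp only [MulEquiv.toEquiv_eq_coe, EquivLike.coe_coe]
    rw [hk]
    by_cases hk1 : (k : ↥(Subgroup.normalizer (H : Set G))) = 1
    · rw [if_pos hk1, if_pos (by rw [hk1]; rfl)]
    · have hk1G : (((k : ↥(Subgroup.normalizer (H : Set G))) : G)) ≠ 1 := fun hc =>
        hk1 (Subtype.ext hc)
      rw [if_neg hk1, if_neg hk1G]

/-- the coherent extension and a character of degree `e` for one Frobenius family -/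
theorem setup_exists (H : Subgroup G) [Fintype ↥(Subgroup.normalizer (H : Set G))]
    (hodd : Odd (Nat.card G)) (hTI : Cfsg.IsTISubset (H : Set G)) (hH1 : H ≠ ⊥)
    (hlt : H < Subgroup.normalizer (H : Set G))
    (hfrob : ∀ h ∈ H, h ≠ 1 →
      Subgroup.normalizer (H : Set G) ⊓ Subgroup.centralizer ({h} : Set G) ≤ H) :
    ∃ star : (↥(Subgroup.normalizer (H : Set G)) → ℂ) → (G → ℂ),
      TIFNSetup (Subgroup.normalizer (H : Set G))
        (H.subgroupOf (Subgroup.normalizer (H : Set G))) star ∧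
      ∃ ζ ∈ tifnSet (H.subgroupOf (Subgroup.normalizer (H : Set G))),
        ζ 1 = ((H.subgroupOf (Subgroup.normalizer (H : Set G))).index : ℂ) := by
  classical
  have hHN : H ≤ Subgroup.normalizer (H : Set G) := Subgroup.le_normalizer
  have hC : ∀ k ∈ H, k ≠ 1 → Subgroup.centralizer ({k} : Set G) ≤ H := by
    intro k hk hk1 g hg
    have hgk : k * g = g * k := (Subgroup.mem_centralizer_iff.mp hg) k (Set.mem_singleton k)
    have hgL : g ∈ Subgroup.normalizer (H : Set G) := by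
      by_contra hgn
      apply hk1
      apply hTI g hgn k hk
      have : g * k * g⁻¹ = k := by
        rw [← hgk]
        group
      rw [this]
      exact hk
    exact hfrob k hk hk1 ⟨hgL, hg⟩
  have htif := tif_of_TI H hTI hC
  obtain ⟨K, hKdef⟩ : ∃ K : Subgroup ↥(Subgroup.normalizer (H : Set G)),
      K = H.subgroupOf (Subgroup.normalizer (H : Set G)) := ⟨_, rfl⟩
  rw [← hKdef] at htif ⊢
  have hKn : K.Normal := htif.normal
  have hoddN : Odd (Nat.card ↥(Subgroup.normalizer (H : Set G))) :=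
    hodd.of_dvd_nat (Subgroup.card_subgroup_dvd_card _)
  have hK1 : K ≠ ⊥ := by
    rw [hKdef]
    exact Cfsg.Agent.Lib.Helper11.SibSylow.subgroupOf_ne_bot hHN hH1
  have hKtop : K ≠ ⊤ := by
    intro h1
    rw [hKdef, Subgroup.subgroupOf_eq_top] at h1
    exact (not_le_of_gt hlt) h1
  have hcop : Nat.Coprime (Nat.card K) K.index := by
    apply Nat.Coprime.symm
    apply Cfsg.Agent.S0850.coprime_index_card K
    intro k hk hk1 n hnk
    apply htif.hC k hk hk1
    rw [Subgroup.mem_centralizer_iff]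
    intro y hy
    rw [Set.mem_singleton_iff] at hy
    subst hy
    exact hnk.symm
  obtain ⟨W', hW'⟩ := Subgroup.exists_right_complement'_of_coprime hcop
  have hdisj := hW'.disjoint
  have hsupN := hW'.sup_eq_top
  obtain ⟨W₁, hW₁⟩ : ∃ W₁ : Subgroup G,
      W₁ = W'.map (Subgroup.normalizer (H : Set G)).subtype := ⟨_, rfl⟩
  have hW₁L : W₁ ≤ Subgroup.normalizer (H : Set G) := by
    rw [hW₁]
    exact Subgroup.map_subtype_le _
  have hKmap : K.map (Subgroup.normalizer (H : Set G)).subtype = H := by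
    rw [hKdef, Subgroup.subgroupOf_map_subtype, inf_of_le_left hHN]
  have hsup : H ⊔ W₁ = Subgroup.normalizer (H : Set G) := by
    have h1 : K.map (Subgroup.normalizer (H : Set G)).subtype ⊔
        W'.map (Subgroup.normalizer (H : Set G)).subtype = Subgroup.normalizer (H : Set G) := by
      rw [← Subgroup.map_sup, hsupN, ← MonoidHom.range_eq_map, Subgroup.range_subtype]
    rw [hKmap] at h1
    rw [hW₁]
    exact h1
  have hW'1 : W' ≠ ⊥ := by
    intro h1
    rw [h1, sup_bot_eq] at hsupN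
    exact hKtop hsupN
  have hW1 : W₁ ≠ ⊥ := by
    rw [hW₁]
    intro h1
    rw [Subgroup.map_eq_bot_iff_of_injective _ (Subgroup.subtype_injective _)] at h1
    exact hW'1 h1
  have hfpf : ∀ w ∈ W₁, w ≠ 1 → ∀ h ∈ H, w * h = h * w → h = 1 := by
    intro w hw hw1 h hh hwh
    by_contra hne
    apply hw1
    rw [hW₁] at hw
    obtain ⟨w', hw'W, hw'⟩ := Subgroup.mem_map.mp hw
    have hwH : w ∈ H := by
      apply hfrob h hh hne
      refine ⟨hW₁L (by rw [hW₁]; exact hw), ?_⟩
      change w ∈ Subgroup.centralizer ({h} : Set G)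
      rw [Subgroup.mem_centralizer_iff]
      intro y hy
      rw [Set.mem_singleton_iff] at hy
      subst hy
      exact hwh.symm
    have hw'K : w' ∈ K := by
      rw [hKdef, Subgroup.mem_subgroupOf]
      have : ((w' : ↥(Subgroup.normalizer (H : Set G))) : G) = w := hw'
      rw [this]
      exact hwH
    have hw'1 : w' = 1 := by
      have := (Subgroup.disjoint_def.mp hdisj) hw'K hw'W
      exact this
    rw [← hw', hw'1]
    rfl
  have hnil : Group.IsNilpotent H :=
    Cfsg.Agent.Lib.Helper11.FrobKernelNil.kernel_nilpotent H W₁ hW1 hW₁L hfpf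
  have hcoh := Cfsg.Agent.Lib.Helper11.SibFrob.frob_ti_coherent H W₁ hoddN hW₁L hH1 hnil hsup
    hfpf hTI
  rw [← hKdef, Cfsg.Agent.Lib.Helper11.SibFrob.induced_eq_tifn K htif.hC] at hcoh
  obtain ⟨-, star, hstar, hext⟩ := hcoh
  refine ⟨star, ⟨hKn, htif.hC, hstar, hext, htif.hind⟩, ?_⟩
  -- the character of degree `e`
  have := hnil
  have hsolvH : Group.IsSolvable H := IsNilpotent.to_isSolvable
  have hsolvK : Group.IsSolvable K := by
    rw [hKdef]
    exact Group.isSolvable_of_isSolvable_injective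
      (f := (Subgroup.subgroupOfEquivOfLe hHN).toMonoidHom) (MulEquiv.injective _)
  obtain ⟨θ, hθ, hθ1⟩ := Cfsg.Agent.Lib.Helper11.SeqInd.exists_linear K ⊥ hsolvK
    (bot_lt_iff_ne_bot.mpr hK1)
  refine ⟨Cfsg.indFun K θ, ?_, ?_⟩
  · rw [← Cfsg.Agent.Lib.Helper11.SibFrob.induced_eq_tifn K htif.hC]
    exact ⟨θ, hθ.1, hθ.2.1, hθ.2.2, rfl⟩
  · rw [h7_indFun_one, hθ1, mul_one]

/-- the data of Peterfalvi (7.8) exists for each Frobenius family -/
theorem famData_exists (H : Subgroup G) [Fintype H]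
    (hodd : Odd (Nat.card G)) (hTI : Cfsg.IsTISubset (H : Set G)) (hH1 : H ≠ ⊥)
    (hlt : H < Subgroup.normalizer (H : Set G))
    (hfrob : ∀ h ∈ H, h ≠ 1 →
      Subgroup.normalizer (H : Set G) ⊓ Subgroup.centralizer ({h} : Set G) ≤ H) :
    Nonempty (FamData H) := by
  classical
  have := Fintype.ofFinite ↥(Subgroup.normalizer (H : Set G))
  obtain ⟨star, hset, ζ, hζ, hζ1⟩ := setup_exists H hodd hTI hH1 hlt hfrob
  have hoddN : Odd (Nat.card ↥(Subgroup.normalizer (H : Set G))) :=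
    hodd.of_dvd_nat (Subgroup.card_subgroup_dvd_card _)
  exact famData_of_setup H hset hoddN hlt hH1 hζ hζ1

end Build

end Cfsg.Agent.Lib.Helper11.PfData
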