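import Mathlib
import Cfsg.Agent.Lib.Helper11.PfData
import Cfsg.Agent.Lib.Helper11.PfArith

set_option autoImplicit false
set_option linter.unusedSectionVars false
open scoped ComplexConjugate

namespace Cfsg.Agent.Lib.Helper11.PfCross

open Cfsg.Agent.Lib.helper7 Cfsg.Agent.Lib.helper2 Cfsg.Agent.Lib.Helper25
open Cfsg.Agent.Lib.Helper11 Cfsg.Agent.Lib.Helper11.SibSetup Cfsg.Agent.Lib.Helper11.PfFam
  Cfsg.Agent.Lib.Helper11.PfCount Cfsg.Agent.Lib.Helper11.PfData

universe u

section General

variable {G : Type u} [Group G] [Fintype G]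

/-- Bessel's inequality for the class-function inner product -/
theorem bessel {T : Type*} [Fintype T] [DecidableEq T] (f : T → G → ℂ)
    (horth : ∀ a b, Cfsg.classInner (f a) (f b) = if a = b then 1 else 0) (β : G → ℂ) :
    ∑ a, Complex.normSq (Cfsg.classInner β (f a)) ≤ (Cfsg.classInner β β).re := by
  obtain ⟨c, hc⟩ : ∃ c : T → ℂ, c = fun a => Cfsg.classInner β (f a) := ⟨_, rfl⟩
  obtain ⟨S, hS⟩ : ∃ S : G → ℂ, S = ∑ a, c a • f a := ⟨_, rfl⟩
  have hfS : ∀ a, Cfsg.classInner (f a) S = conj (c a) := by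
    intro a
    rw [hS, h7_classInner_sum_right]
    rw [Finset.sum_eq_single a]
    · rw [h7_classInner_smul_right, horth, if_pos rfl, mul_one]
    · intro b _ hb
      rw [h7_classInner_smul_right, horth, if_neg (Ne.symm hb), mul_zero]
    · intro h
      exact absurd (Finset.mem_univ _) h
  have hSS : Cfsg.classInner S S = ∑ a, c a * conj (c a) := by
    have h0 : Cfsg.classInner S S = Cfsg.classInner (∑ a, c a • f a) S := by rw [← hS]
    rw [h0, classInner_sum_left']
    apply Finset.sum_congr rfl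
    intro a _
    rw [classInner_smul_left', hfS]
  have hβS : Cfsg.classInner β S = ∑ a, c a * conj (c a) := by
    rw [hS, h7_classInner_sum_right]
    apply Finset.sum_congr rfl
    intro a _
    rw [h7_classInner_smul_right, hc]
    ring
  have hSβ : Cfsg.classInner S β = ∑ a, c a * conj (c a) := by
    rw [hS, classInner_sum_left']
    apply Finset.sum_congr rfl
    intro a _
    rw [classInner_smul_left', classInner_conj_symm (f a) β, hc]
  have hrr : Cfsg.classInner (β - S) (β - S) = Cfsg.classInner β β - ∑ a, c a * conj (c a) := by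
    rw [Cfsg.Agent.Lib.Helper25.classInner_sub_left, classInner_sub_right'',
      classInner_sub_right'', hSS, hβS, hSβ]
    ring
  have hnn : 0 ≤ (Cfsg.classInner (β - S) (β - S)).re := by
    rw [classInner_self_eq, Complex.ofReal_re]
    exact classInner_self_nonneg _
  rw [hrr, Complex.sub_re, Complex.re_sum] at hnn
  have h2 : ∀ a, (c a * conj (c a)).re = Complex.normSq (Cfsg.classInner β (f a)) := by
    intro a
    rw [Complex.mul_conj, Complex.ofReal_re, hc]
  rw [Finset.sum_congr rfl (fun a _ => h2 a)] at hnn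
  linarith

theorem irrConj_irrConj (η : Cfsg.IrrCharacter G) : irrConj (irrConj η) = η := by
  apply Subtype.ext
  funext g
  rw [irrConj_apply, irrConj_apply, Complex.conj_conj]

theorem irrConj_fixed (hodd : Odd (Nat.card G)) (η : Cfsg.IrrCharacter G)
    (h : irrConj η = η) : η = trivIrr G := by
  apply Subtype.ext
  apply Cfsg.Agent.S0161.result hodd η
  intro g
  have h1 := congrArg (fun χ : Cfsg.IrrCharacter G => (χ : G → ℂ) g) h
  simp only [irrConj_apply] at h1
  exact Complex.conj_eq_iff_im.mp h1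

/-- in a group of odd order, two real-valued generalized characters, one of them orthogonal to
the principal character, have an even inner product -/
theorem parity (hodd : Odd (Nat.card G)) (B B' : G → ℂ)
    (hB : Cfsg.IsGeneralizedCharacter G B) (hB' : Cfsg.IsGeneralizedCharacter G B')
    (hBr : Cfsg.conjFun B = B) (hB'r : Cfsg.conjFun B' = B')
    (hB1 : Cfsg.classInner B (fun _ : G => (1 : ℂ)) = 0) :
    ∃ m : ℤ, Cfsg.classInner B B' = ((2 * m : ℤ) : ℂ) := by
  classical
  have := Fintype.ofFinite (Cfsg.IrrCharacter G)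
  choose c hc using genChar_inner_int B hB
  choose c' hc' using genChar_inner_int B' hB'
  have hexp := classFunction_expansion B (genChar_classFunction B hB)
  have hinner : Cfsg.classInner B B' = ((∑ η : Cfsg.IrrCharacter G, c η * c' η : ℤ) : ℂ) := by
    conv_lhs => rw [hexp]
    rw [classInner_sum_left']
    push_cast
    apply Finset.sum_congr rfl
    intro η _
    rw [classInner_smul_left', hc η, classInner_conj_symm (η : G → ℂ) B', hc' η,
      Complex.conj_intCast']
  have hcj : ∀ (D : G → ℂ) (cD : Cfsg.IrrCharacter G → ℤ),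
      (∀ η : Cfsg.IrrCharacter G, Cfsg.classInner D (η : G → ℂ) = (cD η : ℂ)) →
      Cfsg.conjFun D = D → ∀ η, cD (irrConj η) = cD η := by
    intro D cD hcD hDr η
    have h1 : (irrConj η : G → ℂ) = Cfsg.conjFun (η : G → ℂ) := rfl
    have h2 := hcD (irrConj η)
    rw [h1] at h2
    have h3 := Cfsg.Agent.Lib.Helper11.SibRevExt.classInner_conjFun_conjFun D (η : G → ℂ)
    rw [hDr, hcD η, Complex.conj_intCast'] at h3
    rw [h3] at h2
    exact_mod_cast h2.symm
  have hc1 : c (trivIrr G) = 0 := by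
    have h1 := hc (trivIrr G)
    have h2 : ((trivIrr G : Cfsg.IrrCharacter G) : G → ℂ) = fun _ => 1 := rfl
    rw [h2, hB1] at h1
    exact_mod_cast h1.symm
  have hz : ((∑ η : Cfsg.IrrCharacter G, c η * c' η : ℤ) : ZMod 2) = 0 := by
    push_cast
    refine Finset.sum_involution (s := (Finset.univ : Finset (Cfsg.IrrCharacter G)))
      (fun η _ => irrConj η) ?_ ?_ (fun η _ => Finset.mem_univ _) ?_
    · intro η _
      rw [hcj B c hc hBr η, hcj B' c' hc' hB'r η]
      exact CharTwo.add_self_eq_zero _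
    · intro η _ hne hfix
      apply hne
      rw [irrConj_fixed hodd η hfix, hc1]
      simp
    · intro η _
      exact irrConj_irrConj η
  rw [ZMod.intCast_zmod_eq_zero_iff_dvd] at hz
  obtain ⟨m, hm⟩ := hz
  refine ⟨m, ?_⟩
  rw [hinner, hm]
  push_cast
  ring

theorem inner_disjoint (φ ψ : G → ℂ) (h : ∀ g, φ g = 0 ∨ ψ g = 0) :
    Cfsg.classInner φ ψ = 0 := by
  unfold Cfsg.classInner
  rw [Finset.sum_eq_zero, mul_zero]
  intro g _
  rcases h g with h1 | h1
  · rw [h1, zero_mul]
  · rw [h1, map_zero, mul_zero]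

theorem notSec_or (H₁ H₂ : Subgroup G) (hcop : Nat.Coprime (Nat.card H₁) (Nat.card H₂)) (g : G) :
    NotSec H₁ g ∨ NotSec H₂ g := by
  by_cases hg : g = 1
  · exact Or.inl (Or.inl hg)
  · by_contra hcon
    push Not at hcon
    obtain ⟨h1, h2⟩ := hcon
    unfold NotSec at h1 h2
    push Not at h1 h2
    obtain ⟨x, hx⟩ := h1.2
    obtain ⟨y, hy⟩ := h2.2
    have ho1 : orderOf g ∣ Nat.card H₁ := by
      have := Subgroup.orderOf_dvd_natCard H₁ hx
      have h3 : x⁻¹ * g * x = x⁻¹ * g * x⁻¹⁻¹ := by rw [inv_inv]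
      rwa [h3, orderOf_conj''] at this
    have ho2 : orderOf g ∣ Nat.card H₂ := by
      have := Subgroup.orderOf_dvd_natCard H₂ hy
      have h3 : y⁻¹ * g * y = y⁻¹ * g * y⁻¹⁻¹ := by rw [inv_inv]
      rwa [h3, orderOf_conj''] at this
    have := Nat.eq_one_of_dvd_coprimes hcop ho1 ho2
    rw [orderOf_eq_one_iff] at this
    exact hg this

theorem one_inner_one : Cfsg.classInner (fun _ : G => (1 : ℂ)) (fun _ : G => (1 : ℂ)) = 1 := by
  have := irr_classInner (trivIrr G) (trivIrr G)
  rw [if_pos rfl] at this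
  exact this

theorem genChar_one : Cfsg.IsGeneralizedCharacter G (fun _ : G => (1 : ℂ)) :=
  ⟨fun _ => 1, 0, isCharacter_of_irr (trivIrr G), isCharacter_zero G, by
    funext g
    simp⟩

end General

section Family

variable {G : Type u} [Group G] [Fintype G] {ι : Type*}
  (H : ι → Subgroup G) [∀ i, Fintype (H i)] (F : ∀ i, FamData (H i))

theorem X_norm (i : ι) (s : (F i).I) : Cfsg.classInner ((F i).X s) ((F i).X s) = 1 := by
  rw [(F i).X_orth s s, if_pos rfl]

theorem X_not_real (i : ι) (s : (F i).I)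
    (h : ∀ g, (F i).X s g - conj ((F i).X s g) = 0) : False := by
  have h1 : Cfsg.conjFun ((F i).X s) = (F i).X s := by
    funext g
    have := h g
    simp only [Cfsg.conjFun]
    linear_combination -this
  have h2 := (F i).X_orth s ((F i).cj s)
  rw [(F i).X_cj s, h1, X_norm, if_neg ((F i).cj_ne s)] at h2
  exact one_ne_zero h2

theorem fam_orth (hcop : ∀ i j, i ≠ j → Nat.Coprime (Nat.card (H i)) (Nat.card (H j)))
    {i j : ι} (hij : i ≠ j) (s : (F i).I) (t : (F j).I) :
    Cfsg.classInner ((F i).X s) ((F j).X t) = 0 := by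
  classical
  obtain ⟨ε, η, hε, hX⟩ := genChar_norm_one _ ((F i).X_gen s) (X_norm H F i s)
  obtain ⟨ε', η', hε', hY⟩ := genChar_norm_one _ ((F j).X_gen t) (X_norm H F j t)
  by_contra hne
  have hηη : η = η' := by
    by_contra hc
    apply hne
    rw [hX, hY, classInner_smul_left', h7_classInner_smul_right, irr_classInner, if_neg hc]
    ring
  have hrel : ∀ g, (F j).X t g = ((ε' * ε : ℤ) : ℂ) * (F i).X s g := by
    intro g
    rw [hX, hY, hηη]
    simp only [Pi.smul_apply, smul_eq_mul]
    push_cast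
    have : (ε : ℂ) * (ε : ℂ) = 1 := by
      rcases hε with rfl | rfl <;> norm_num
    linear_combination (-(ε' : ℂ) * (η' : G → ℂ) g) * this
  apply X_not_real H F i s
  intro g
  rcases notSec_or (H i) (H j) (hcop i j hij) g with hg | hg
  · exact (F i).X_cjd s g hg
  · have h1 := (F j).X_cjd t g hg
    rw [hrel g, map_mul, Complex.conj_intCast'] at h1
    have h2 : ((ε' * ε : ℤ) : ℂ) ≠ 0 := by
      rcases hε with rfl | rfl <;> rcases hε' with rfl | rfl <;> norm_num
    have h3 : ((ε' * ε : ℤ) : ℂ) * ((F i).X s g - conj ((F i).X s g)) = 0 := by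
      linear_combination h1
    exact (mul_eq_zero.mp h3).resolve_left h2

theorem fam_one (i : ι) (s : (F i).I) :
    Cfsg.classInner ((F i).X s) (fun _ : G => (1 : ℂ)) = 0 := by
  classical
  obtain ⟨ε, η, hε, hX⟩ := genChar_norm_one _ ((F i).X_gen s) (X_norm H F i s)
  by_contra hne
  have hη : η = trivIrr G := by
    by_contra hc
    apply hne
    have h1 : (fun _ : G => (1 : ℂ)) = ((trivIrr G : Cfsg.IrrCharacter G) : G → ℂ) := rfl
    rw [hX, h1, classInner_smul_left', irr_classInner, if_neg hc, mul_zero]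
  apply X_not_real H F i s
  intro g
  rw [hX, hη]
  have h1 : ((trivIrr G : Cfsg.IrrCharacter G) : G → ℂ) g = 1 := rfl
  simp only [Pi.smul_apply, smul_eq_mul, h1, mul_one, Complex.conj_intCast', sub_self]

theorem beta_cross (hcop : ∀ i j, i ≠ j → Nat.Coprime (Nat.card (H i)) (Nat.card (H j)))
    {i j : ι} (hij : i ≠ j) (t : (F j).I) :
    Cfsg.classInner (F i).β ((F j).X t) =
      ((F j).d t : ℂ) * Cfsg.classInner (F i).β ((F j).X (F j).z) := by
  have h1 : Cfsg.classInner (F i).β (((F j).d t : ℂ) • (F j).X (F j).z - (F j).X t) = 0 := by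
    apply inner_disjoint
    intro g
    rcases notSec_or (H i) (H j) (hcop i j hij) g with hg | hg
    · exact Or.inl ((F i).β_supp g hg)
    · right
      have := (F j).X_diff t g hg
      simpa using this
  rw [classInner_sub_right'', h7_classInner_smul_right, Complex.conj_natCast] at h1
  linear_combination -h1

theorem beta_beta (hcop : ∀ i j, i ≠ j → Nat.Coprime (Nat.card (H i)) (Nat.card (H j)))
    {i j : ι} (hij : i ≠ j) : Cfsg.classInner (F i).β (F j).β = 0 := by
  apply inner_disjoint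
  intro g
  rcases notSec_or (H i) (H j) (hcop i j hij) g with hg | hg
  · exact Or.inl ((F i).β_supp g hg)
  · exact Or.inr ((F j).β_supp g hg)

theorem Z_const (hcop : ∀ i j, i ≠ j → Nat.Coprime (Nat.card (H i)) (Nat.card (H j)))
    {i j : ι} (hij : i ≠ j) (k : G) (hk : k ∈ H j) (hk1 : k ≠ 1) :
    (F i).X (F i).z k = Cfsg.classInner ((F i).X (F i).z) (F j).β := by
  apply (F j).const _ (genChar_classFunction _ ((F i).X_gen _)) _ k hk hk1
  intro t
  rw [fam_orth H F hcop hij, fam_orth H F hcop hij, mul_zero]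

theorem inner_Z_beta (c : ι → ι → ℤ)
    (hc : ∀ i j, Cfsg.classInner (F i).β ((F j).X (F j).z) = (c i j : ℂ)) (i j : ι) :
    Cfsg.classInner ((F i).X (F i).z) (F j).β = (c j i : ℂ) := by
  rw [classInner_conj_symm, hc j i, Complex.conj_intCast']

/-- Peterfalvi (7.9): `c i j + c j i` is odd -/
theorem parity_c (hodd : Odd (Nat.card G))
    (hcop : ∀ i j, i ≠ j → Nat.Coprime (Nat.card (H i)) (Nat.card (H j)))
    (c : ι → ι → ℤ)
    (hc : ∀ i j, Cfsg.classInner (F i).β ((F j).X (F j).z) = (c i j : ℂ))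
    {i j : ι} (hij : i ≠ j) : ∃ m : ℤ, c i j + c j i - 1 = 2 * m := by
  obtain ⟨B, hB⟩ : ∃ B : ι → G → ℂ,
      B = fun i => (F i).β + (F i).X (F i).z - (fun _ : G => (1 : ℂ)) := ⟨_, rfl⟩
  have hBgen : ∀ i, Cfsg.IsGeneralizedCharacter G (B i) := by
    intro i
    rw [hB]
    exact genChar_sub (genChar_add (F i).β_gen ((F i).X_gen _)) genChar_one
  have hBr : ∀ i, Cfsg.conjFun (B i) = B i := by
    intro i
    rw [hB]
    funext g
    have h1 := congrFun (F i).β_real g
    simp only [Cfsg.conjFun, Pi.add_apply, Pi.sub_apply, map_sub, map_one] at h1 ⊢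
    rw [h1]
  have h1β : ∀ i, Cfsg.classInner (fun _ : G => (1 : ℂ)) (F i).β = 1 := by
    intro i
    rw [classInner_conj_symm, (F i).β_one, map_one]
  have h1Z : ∀ i, Cfsg.classInner (fun _ : G => (1 : ℂ)) ((F i).X (F i).z) = 0 := by
    intro i
    rw [classInner_conj_symm, fam_one H F i, map_zero]
  have hB1 : Cfsg.classInner (B i) (fun _ : G => (1 : ℂ)) = 0 := by
    rw [hB]
    simp only
    rw [Cfsg.Agent.Lib.Helper25.classInner_sub_left, classInner_add_left', (F i).β_one,
      fam_one H F i, one_inner_one]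
    ring
  obtain ⟨m, hm⟩ := parity hodd (B i) (B j) (hBgen i) (hBgen j) (hBr i) (hBr j) hB1
  refine ⟨m, ?_⟩
  rw [hB] at hm
  simp only at hm
  rw [Cfsg.Agent.Lib.Helper25.classInner_sub_left, classInner_add_left',
    classInner_sub_right'', classInner_sub_right'', classInner_sub_right'',
    h7_classInner_add_right, h7_classInner_add_right, h7_classInner_add_right,
    beta_beta H F hcop hij, hc i j, (F i).β_one, inner_Z_beta H F c hc i j,
    fam_orth H F hcop hij, fam_one H F i, h1β j, h1Z j, one_inner_one] at hm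
  have h2 : ((c i j + c j i - 1 : ℤ) : ℂ) = ((2 * m : ℤ) : ℂ) := by
    rw [← hm]
    push_cast
    ring
  exact_mod_cast h2

theorem normSq_intCast (z : ℤ) : Complex.normSq (z : ℂ) = (z : ℝ) ^ 2 := by
  have : (z : ℂ) = ((z : ℝ) : ℂ) := by push_cast; rfl
  rw [this, Complex.normSq_ofReal]
  ring

/-- the orthonormal family: the principal character and all exceptional characters -/
noncomputable def famAll : Option (Σ j : ι, (F j).I) → G → ℂ := fun a =>
  a.elim (fun _ => 1) (fun p => (F p.1).X p.2)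

theorem famAll_orth [DecidableEq ι]
    (hcop : ∀ i j, i ≠ j → Nat.Coprime (Nat.card (H i)) (Nat.card (H j)))
    (a b : Option (Σ j : ι, (F j).I)) :
    Cfsg.classInner (famAll H F a) (famAll H F b) = if a = b then 1 else 0 := by
  rcases a with _ | ⟨j, s⟩ <;> rcases b with _ | ⟨l, t⟩
  · rw [if_pos rfl]
    exact one_inner_one
  · rw [if_neg (by simp)]
    change Cfsg.classInner (fun _ : G => (1 : ℂ)) ((F l).X t) = 0
    rw [classInner_conj_symm, fam_one H F l, map_zero]
  · rw [if_neg (by simp)]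
    exact fam_one H F j s
  · change Cfsg.classInner ((F j).X s) ((F l).X t) = _
    by_cases hjl : j = l
    · subst hjl
      rw [(F j).X_orth s t]
      by_cases hst : t = s
      · subst hst
        rw [if_pos rfl, if_pos rfl]
      · rw [if_neg hst, if_neg]
        intro hc
        apply hst
        have h1 := Option.some.inj hc
        have h2 := eq_of_heq (Sigma.mk.inj h1).2
        exact h2.symm
    · rw [fam_orth H F hcop hjl, if_neg]
      intro hc
      apply hjl
      have h1 := Option.some.inj hc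
      exact (Sigma.mk.inj h1).1

/-- Peterfalvi (7.8)(b): the norm bound coming from `β i` -/
theorem bessel_beta [Fintype ι] [DecidableEq ι]
    (hcop : ∀ i j, i ≠ j → Nat.Coprime (Nat.card (H i)) (Nat.card (H j)))
    (c : ι → ι → ℤ)
    (hc : ∀ i j, Cfsg.classInner (F i).β ((F j).X (F j).z) = (c i j : ℂ)) (i : ι) :
    ∑ j, (if j ≠ i then ((F j).n : ℤ) * (c i j) ^ 2 else 0) ≤ ((F i).e : ℤ) - 1 := by
  have hb := bessel (famAll H F) (famAll_orth H F hcop) (F i).β
  rw [(F i).β_norm, Fintype.sum_option, Fintype.sum_sigma] at hb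
  have h0 : Complex.normSq (Cfsg.classInner (F i).β (famAll H F none)) = 1 := by
    change Complex.normSq (Cfsg.classInner (F i).β (fun _ : G => (1 : ℂ))) = 1
    rw [(F i).β_one, map_one]
  have hown : (1 : ℝ) ≤ ∑ s : (F i).I,
      Complex.normSq (Cfsg.classInner (F i).β (famAll H F (some ⟨i, s⟩))) := by
    have h1 : ∀ s : (F i).I, Complex.normSq (Cfsg.classInner (F i).β (famAll H F (some ⟨i, s⟩))) =
        ((((F i).d s : ℤ) * (c i i + 1) - (if s = (F i).z then 1 else 0) : ℤ) : ℝ) ^ 2 := by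
      intro s
      change Complex.normSq (Cfsg.classInner (F i).β ((F i).X s)) = _
      rw [(F i).β_X s, hc i i, ← normSq_intCast]
      congr 1
      push_cast
      split_ifs <;> simp
    rw [Finset.sum_congr rfl (fun s _ => h1 s)]
    have h2 : ∑ s : (F i).I, (((F i).d s : ℤ) * (c i i + 1) -
        (if s = (F i).z then 1 else 0)) ^ 2 =
        (c i i + 1) * ((c i i + 1) * ((F i).n : ℤ) - 2) + 1 := by
      have h3 : ∀ s : (F i).I, (((F i).d s : ℤ) * (c i i + 1) -
          (if s = (F i).z then 1 else 0)) ^ 2 =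
          (c i i + 1) ^ 2 * ((F i).d s : ℤ) ^ 2 -
          (if s = (F i).z then 2 * (c i i + 1) * ((F i).d s : ℤ) - 1 else 0) := by
        intro s
        split_ifs <;> ring
      rw [Finset.sum_congr rfl (fun s _ => h3 s), Finset.sum_sub_distrib, ← Finset.mul_sum,
        Finset.sum_ite_eq' Finset.univ (F i).z, if_pos (Finset.mem_univ _), (F i).d_z]
      have h4 : ∑ s : (F i).I, ((F i).d s : ℤ) ^ 2 = ((F i).n : ℤ) := by
        rw [← (F i).d_sq]
        push_cast
        rfl
      rw [h4]
      push_cast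
      ring
    have h5 := int_ineq (c i i + 1) (F i).n (F i).hn2
    have h6 : (1 : ℤ) ≤ ∑ s : (F i).I, (((F i).d s : ℤ) * (c i i + 1) -
        (if s = (F i).z then 1 else 0)) ^ 2 := by
      rw [h2]
      linarith
    have h7 : ((1 : ℤ) : ℝ) ≤ ((∑ s : (F i).I, (((F i).d s : ℤ) * (c i i + 1) -
        (if s = (F i).z then 1 else 0)) ^ 2 : ℤ) : ℝ) := by exact_mod_cast h6
    push_cast at h7 ⊢
    exact h7
  have hother : ∀ j, j ≠ i → ∑ s : (F j).I,
      Complex.normSq (Cfsg.classInner (F i).β (famAll H F (some ⟨j, s⟩))) =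
      ((F j).n : ℝ) * (c i j : ℝ) ^ 2 := by
    intro j hji
    have h1 : ∀ s : (F j).I, Complex.normSq (Cfsg.classInner (F i).β (famAll H F (some ⟨j, s⟩))) =
        (((F j).d s : ℝ)) ^ 2 * (c i j : ℝ) ^ 2 := by
      intro s
      change Complex.normSq (Cfsg.classInner (F i).β ((F j).X s)) = _
      rw [beta_cross H F hcop (Ne.symm hji) s, hc i j]
      have : (((F j).d s : ℂ)) * (c i j : ℂ) = (((F j).d s * c i j : ℤ) : ℂ) := by push_cast; rfl
      rw [this, normSq_intCast]
      push_cast
      ring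
    rw [Finset.sum_congr rfl (fun s _ => h1 s), ← Finset.sum_mul]
    congr 1
    rw [← (F j).d_sq]
    push_cast
    rfl
  have hsum : (1 : ℝ) + ∑ j, (if j ≠ i then ((F j).n : ℝ) * (c i j : ℝ) ^ 2 else 0) ≤
      ∑ j, ∑ s : (F j).I,
        Complex.normSq (Cfsg.classInner (F i).β (famAll H F (some ⟨j, s⟩))) := by
    have h1 : (1 : ℝ) = ∑ j, (if j = i then (1 : ℝ) else 0) := by
      rw [Finset.sum_ite_eq' Finset.univ i, if_pos (Finset.mem_univ _)]
    rw [h1, ← Finset.sum_add_distrib]
    apply Finset.sum_le_sum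
    intro j _
    by_cases hji : j = i
    · subst hji
      rw [if_pos rfl, if_neg (by simp), add_zero]
      exact hown
    · rw [if_neg hji, if_pos hji, zero_add, hother j hji]
  rw [h0] at hb
  have hre : ((((F i).e : ℂ) + 1).re) = ((F i).e : ℝ) + 1 := by simp
  rw [hre] at hb
  have hfinal : ∑ j, (if j ≠ i then ((F j).n : ℝ) * (c i j : ℝ) ^ 2 else 0) ≤
      ((F i).e : ℝ) - 1 := by linarith
  have hcast : ((∑ j, (if j ≠ i then ((F j).n : ℤ) * (c i j) ^ 2 else 0) : ℤ) : ℝ) ≤
      ((((F i).e : ℤ) - 1 : ℤ) : ℝ) := by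
    push_cast
    refine le_trans (le_of_eq ?_) hfinal
    apply Finset.sum_congr rfl
    intro j _
    split_ifs <;> simp
  exact_mod_cast hcast

theorem secSum_congr (H' : Subgroup G) [Fintype H'] (F₁ F₂ : G → ℝ)
    (h : ∀ k ∈ H', k ≠ 1 → F₁ k = F₂ k) : secSum H' F₁ = secSum H' F₂ := by
  unfold secSum
  apply Finset.sum_congr rfl
  intro k _
  by_cases hk : (k : G) = 1
  · rw [if_pos hk, if_pos hk]
  · rw [if_neg hk, if_neg hk, h k k.2 hk]

theorem secSum_const (H' : Subgroup G) [Fintype H'] (a : ℝ) :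
    secSum H' (fun _ => a) = ((Nat.card H' : ℝ) - 1) * a := by
  classical
  unfold secSum
  have h1 : ∀ k : H', (if (k : G) = 1 then (0 : ℝ) else a) =
      a - (if k = 1 then a else 0) := by
    intro k
    by_cases hk : k = 1
    · subst hk
      simp
    · have : (k : G) ≠ 1 := fun h => hk (Subtype.ext h)
      rw [if_neg this, if_neg hk, sub_zero]
  rw [Finset.sum_congr rfl (fun k _ => h1 k), Finset.sum_sub_distrib, Finset.sum_const,
    Finset.card_univ, Finset.sum_ite_eq' Finset.univ (1 : H'), if_pos (Finset.mem_univ _),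
    nsmul_eq_mul, ← Nat.card_eq_fintype_card]
  ring

/-- the norm of `ν_i ζ_i` split along the cover (Peterfalvi (7.5), (7.8)(b,c)) -/
theorem norm_Z [Fintype ι] [DecidableEq ι]
    (hcop : ∀ i j, i ≠ j → Nat.Coprime (Nat.card (H i)) (Nat.card (H j)))
    (hTI : ∀ i, Cfsg.IsTISubset (H i : Set G))
    (hcover : ∀ g : G, g ≠ 1 → ∃ i, ∃ x : G, x * g * x⁻¹ ∈ H i)
    (c : ι → ι → ℤ)
    (hc : ∀ i j, Cfsg.classInner (F i).β ((F j).X (F j).z) = (c i j : ℂ)) (i : ι) :
    (1 - ((F i).e : ℝ) / (((F i).n : ℝ) * (F i).e + 1)) +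
      ∑ j, (if j ≠ i ∧ c j i ≠ 0 then
        ((F j).n : ℝ) / (((F j).n : ℝ) * (F j).e + 1) else 0) +
      (1 - ∑ j, ((F j).n : ℝ) / (((F j).n : ℝ) * (F j).e + 1)) ≤ 1 := by
  classical
  obtain ⟨g, hg⟩ : ∃ g : ℝ, g = (Nat.card G : ℝ) := ⟨_, rfl⟩
  have hgpos : 0 < g := by
    rw [hg]
    exact_mod_cast Nat.card_pos
  -- numeric facts for each family
  have hhh : ∀ j, (Nat.card (H j) : ℝ) = ((F j).n : ℝ) * (F j).e + 1 := by
    intro j
    rw [← (F j).hcard]
    push_cast
    ring
  have hidx : ∀ j, ((Subgroup.normalizer (H j : Set G)).index : ℝ) *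
      (((F j).e : ℝ) * (((F j).n : ℝ) * (F j).e + 1)) = g := by
    intro j
    rw [hg, ← hhh j, ← (F j).hidx]
    push_cast
    ring
  have hepos : ∀ j, (0 : ℝ) < (F j).e := by
    intro j
    have := (F j).he2
    have : 0 < (F j).e := by omega
    exact_mod_cast this
  have hnpos : ∀ j, (0 : ℝ) ≤ (F j).n := fun j => Nat.cast_nonneg _
  have hhpos : ∀ j, (0 : ℝ) < ((F j).n : ℝ) * (F j).e + 1 := by
    intro j
    have := hepos j
    have := hnpos j
    positivity
  -- the class equation
  have hclass : g = 1 + ∑ j, ((Subgroup.normalizer (H j : Set G)).index : ℝ) *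
      (((F j).n : ℝ) * (F j).e) := by
    have h1 := sum_cover H hcop hTI hcover (fun _ => (1 : ℝ)) (fun _ _ => rfl)
    rw [Finset.sum_const, Finset.card_univ, nsmul_eq_mul, mul_one, ← Nat.card_eq_fintype_card,
      ← hg] at h1
    rw [h1]
    congr 1
    apply Finset.sum_congr rfl
    intro j _
    rw [secSum_const, hhh j]
    ring
  -- the norm of Z
  obtain ⟨Fz, hFz⟩ : ∃ Fz : G → ℝ, Fz = fun x => Complex.normSq ((F i).X (F i).z x) := ⟨_, rfl⟩
  have hFzcl : ∀ x y : G, Fz (y * x * y⁻¹) = Fz x := by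
    intro x y
    rw [hFz]
    simp only
    rw [genChar_classFunction _ ((F i).X_gen _) x y]
  have hnorm : ∑ x : G, Fz x = g := by
    have h1 := X_norm H F i (F i).z
    rw [classInner_self_eq] at h1
    have h2 : (Nat.card G : ℝ)⁻¹ * ∑ x : G, Complex.normSq ((F i).X (F i).z x) = 1 := by
      exact_mod_cast h1
    rw [hFz, hg]
    have hG : (Nat.card G : ℝ) ≠ 0 := by
      rw [← hg]
      exact hgpos.ne'
    field_simp at h2
    exact h2
  have hcov := sum_cover H hcop hTI hcover Fz hFzcl
  rw [hnorm] at hcov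
  have hFz1 : 1 ≤ Fz 1 := by
    obtain ⟨ε, η, hε, hX⟩ := genChar_norm_one _ ((F i).X_gen (F i).z) (X_norm H F i (F i).z)
    obtain ⟨m, hmpos, hm⟩ := irr_one_eq_finrank η
    rw [hFz]
    simp only
    rw [hX]
    simp only [Pi.smul_apply, smul_eq_mul]
    rw [hm]
    have h1 : (ε : ℂ) * (m : ℂ) = ((ε * m : ℤ) : ℂ) := by push_cast; rfl
    rw [h1, normSq_intCast]
    have h2 : (1 : ℤ) ≤ (ε * m) ^ 2 := by
      have hm' : (1 : ℤ) ≤ (m : ℤ) := by exact_mod_cast hmpos
      rcases hε with rfl | rfl <;> nlinarith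
    exact_mod_cast h2
  -- the terms
  obtain ⟨T, hT⟩ : ∃ T : ι → ℝ, T = fun j => if j = i then
      (1 - ((F i).e : ℝ) / (((F i).n : ℝ) * (F i).e + 1)) else
      (if c j i ≠ 0 then ((F j).n : ℝ) / (((F j).n : ℝ) * (F j).e + 1) else 0) := ⟨_, rfl⟩
  have hTi : T i = 1 - ((F i).e : ℝ) / (((F i).n : ℝ) * (F i).e + 1) := by
    rw [hT]
    exact if_pos rfl
  have hTj : ∀ j, j ≠ i → T j =
      (if c j i ≠ 0 then ((F j).n : ℝ) / (((F j).n : ℝ) * (F j).e + 1) else 0) := by
    intro j hji
    rw [hT]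
    exact if_neg hji
  have hterm : ∀ j, g * T j ≤ ((Subgroup.normalizer (H j : Set G)).index : ℝ) *
      secSum (H j) Fz := by
    intro j
    have hidxnn : (0 : ℝ) ≤ ((Subgroup.normalizer (H j : Set G)).index : ℝ) := Nat.cast_nonneg _
    by_cases hji : j = i
    · rw [hji, hTi]
      have h1 := (F i).z_norm
      rw [hhh i, ← hFz] at h1
      have hidxnn' : (0 : ℝ) ≤ ((Subgroup.normalizer (H i : Set G)).index : ℝ) :=
        Nat.cast_nonneg _
      have h2 := mul_le_mul_of_nonneg_left h1 hidxnn'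
      refine le_trans (le_of_eq ?_) h2
      rw [← hidx i]
      have := (hhpos i).ne'
      field_simp
    · rw [hTj j hji]
      have hsec : secSum (H j) Fz = ((Nat.card (H j) : ℝ) - 1) * (c j i : ℝ) ^ 2 := by
        rw [← secSum_const]
        apply secSum_congr
        intro k hk hk1
        rw [hFz]
        simp only
        rw [Z_const H F hcop (Ne.symm hji) k hk hk1, inner_Z_beta H F c hc i j, normSq_intCast]
      rw [hsec, hhh j]
      by_cases hcz : c j i = 0
      · rw [if_neg (not_not.mpr hcz), hcz]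
        simp
      · rw [if_pos hcz]
        have hc1 : (1 : ℝ) ≤ (c j i : ℝ) ^ 2 := by
          have h1 : (1 : ℤ) ≤ (c j i) ^ 2 := by
            have : 0 < (c j i) ^ 2 := by positivity
            omega
          exact_mod_cast h1
        have h3 : g * (((F j).n : ℝ) / (((F j).n : ℝ) * (F j).e + 1)) =
            ((Subgroup.normalizer (H j : Set G)).index : ℝ) * (((F j).n : ℝ) * (F j).e) := by
          rw [← hidx j]
          have := (hhpos j).ne'
          field_simp
        rw [h3]
        have h4 : (0 : ℝ) ≤ ((Subgroup.normalizer (H j : Set G)).index : ℝ) *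
            (((F j).n : ℝ) * (F j).e) := by
          have := hepos j
          have := hnpos j
          positivity
        have h5 : ((Subgroup.normalizer (H j : Set G)).index : ℝ) *
            ((((F j).n : ℝ) * (F j).e + 1 - 1) * (c j i : ℝ) ^ 2) =
            (((Subgroup.normalizer (H j : Set G)).index : ℝ) * (((F j).n : ℝ) * (F j).e)) *
              (c j i : ℝ) ^ 2 := by ring
        rw [h5]
        nlinarith
  have hsumT : g * ∑ j, T j ≤ g - 1 := by
    rw [Finset.mul_sum]
    have h1 := Finset.sum_le_sum (fun j (_ : j ∈ Finset.univ) => hterm j)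
    linarith
  have hsumσ : g * ∑ j, ((F j).n : ℝ) / (((F j).n : ℝ) * (F j).e + 1) = g - 1 := by
    rw [Finset.mul_sum]
    have h1 : ∀ j, g * (((F j).n : ℝ) / (((F j).n : ℝ) * (F j).e + 1)) =
        ((Subgroup.normalizer (H j : Set G)).index : ℝ) * (((F j).n : ℝ) * (F j).e) := by
      intro j
      rw [← hidx j]
      have := (hhpos j).ne'
      field_simp
    rw [Finset.sum_congr rfl (fun j _ => h1 j)]
    linarith
  have hcmp : ∑ j, T j ≤ ∑ j, ((F j).n : ℝ) / (((F j).n : ℝ) * (F j).e + 1) := by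
    have : g * ∑ j, T j ≤ g * ∑ j, ((F j).n : ℝ) / (((F j).n : ℝ) * (F j).e + 1) := by
      rw [hsumσ]
      exact hsumT
    exact le_of_mul_le_mul_left this hgpos
  have hTsplit : ∑ j, T j = (1 - ((F i).e : ℝ) / (((F i).n : ℝ) * (F i).e + 1)) +
      ∑ j, (if j ≠ i ∧ c j i ≠ 0 then
        ((F j).n : ℝ) / (((F j).n : ℝ) * (F j).e + 1) else 0) := by
    have h1 : (1 - ((F i).e : ℝ) / (((F i).n : ℝ) * (F i).e + 1)) =
        ∑ j, (if j = i then (1 - ((F i).e : ℝ) / (((F i).n : ℝ) * (F i).e + 1)) else 0) := by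
      rw [Finset.sum_ite_eq' Finset.univ i, if_pos (Finset.mem_univ _)]
    have h2 : ∀ j, T j = (if j = i then
        (1 - ((F i).e : ℝ) / (((F i).n : ℝ) * (F i).e + 1)) else 0) +
        (if j ≠ i ∧ c j i ≠ 0 then
          ((F j).n : ℝ) / (((F j).n : ℝ) * (F j).e + 1) else 0) := by
      intro j
      by_cases hji : j = i
      · rw [if_pos hji, if_neg (fun h => h.1 hji), add_zero, hji, hTi]
      · rw [if_neg hji, zero_add, hTj j hji]
        by_cases hcz : c j i = 0
        · rw [if_neg (not_not.mpr hcz), if_neg (fun h => h.2 hcz)]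
        · rw [if_pos hcz, if_pos ⟨hji, hcz⟩]
    rw [Finset.sum_congr rfl (fun j _ => h2 j), Finset.sum_add_distrib, ← h1]
  rw [← hTsplit]
  linarith

end Family

section Final

/-- Peterfalvi (7.11), given the data of (7.8) for each family -/
theorem no_partition {G : Type u} [Group G] [Fintype G] {ι : Type*}
    (H : ι → Subgroup G) [∀ i, Fintype (H i)] (F : ∀ i, FamData (H i))
    [Fintype ι] [Nonempty ι] (hodd : Odd (Nat.card G))
    (hcop : ∀ i j, i ≠ j → Nat.Coprime (Nat.card (H i)) (Nat.card (H j)))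
    (hTI : ∀ i, Cfsg.IsTISubset (H i : Set G))
    (hcover : ∀ g : G, g ≠ 1 → ∃ i, ∃ x : G, x * g * x⁻¹ ∈ H i) : False := by
  classical
  have hcint : ∀ i j, ∃ c : ℤ, Cfsg.classInner (F i).β ((F j).X (F j).z) = (c : ℂ) :=
    fun i j => genChar_inner_genChar_int _ _ (F i).β_gen ((F j).X_gen _)
  choose c hc using hcint
  apply Cfsg.Agent.Lib.Helper11.PfArith.arith_contra (fun i => (F i).e) (fun i => (F i).n) c
    (fun i => (F i).he2) (fun i => (F i).hn2)
  · intro i j hij heq
    have h1 := (F i).hcard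
    have h2 := (F j).hcard
    have h3 : Nat.card (H i) = Nat.card (H j) := by
      rw [← h1, ← h2]
      have heq' : (F i).n * (F i).e = (F j).n * (F j).e := heq
      rw [mul_comm (F i).e, mul_comm (F j).e, heq']
    have h4 := hcop i j hij
    rw [h3, Nat.coprime_self] at h4
    have h5 := (F j).he2
    have h6 := (F j).hn2
    have h7 : 4 ≤ (F j).e * (F j).n := by nlinarith
    omega
  · intro i
    exact norm_Z H F hcop hTI hcover c hc i
  · intro i
    exact bessel_beta H F hcop c hc i
  · intro i j hij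
    obtain ⟨m, hm⟩ := parity_c H F hodd hcop c hc hij
    by_contra hcon
    push Not at hcon
    rw [hcon.1, hcon.2] at hm
    omega

end Final

end Cfsg.Agent.Lib.Helper11.PfCross
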