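import Mathlib
import Cfsg.Agent.Lib.Helper11.CNSimpleE
import Cfsg.Agent.Lib.Helper11.PfCross
import Cfsg.Agent.Lib.Helper1.FrobeniusThm

/-!
Minimal simple CN-groups of odd order do not exist: the maximal nilpotent subgroups would
partition the group into TI Frobenius kernels of coprime orders.
-/

set_option autoImplicit false
open scoped Pointwise

namespace Cfsg.Agent.Lib.Helper11.CNSimpleF

open Cfsg.Agent.Lib.Helper11 Cfsg.Agent.Lib.Helper11.CNSimpleA Cfsg.Agent.Lib.Helper11.CNSimpleE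

universe u

variable {G : Type u} [Group G] [Finite G]

theorem exists_ne_one (h : MinCN G) : ∃ x : G, x ≠ 1 := by
  by_contra hx
  push Not at hx
  apply h.nonab
  intro a b
  rw [hx a, hx b]

theorem maxNilp_ne_bot (h : MinCN G) {H : Subgroup G} (hM : MaxNilp H) : H ≠ ⊥ := by
  intro hb
  obtain ⟨x, hx⟩ := exists_ne_one h
  have hnil : Group.IsNilpotent (Subgroup.zpowers x) := by
    apply isNilpotent_of_comm
    intro a ha b hb
    obtain ⟨m, rfl⟩ := Subgroup.mem_zpowers_iff.mp ha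
    obtain ⟨n, rfl⟩ := Subgroup.mem_zpowers_iff.mp hb
    exact (Commute.zpow_zpow_self x m n).eq
  have h1 := hM.max (Subgroup.zpowers x) hnil (hb ▸ bot_le)
  rw [hb] at h1
  have h2 : x ∈ Subgroup.zpowers x := Subgroup.mem_zpowers x
  rw [h1, Subgroup.mem_bot] at h2
  exact hx h2

theorem maxNilp_ne_top (h : MinCN G) {H : Subgroup G} (hM : MaxNilp H) : H ≠ ⊤ := by
  intro ht
  apply h.not_solvable
  have h3 : Group.IsNilpotent (⊤ : Subgroup G) := ht ▸ hM.nil
  have h4 : Group.IsNilpotent G := (Group.isNilpotent_congr Subgroup.topEquiv).mp h3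
  infer_instance

theorem sylow_smul_coe {p : ℕ} [Fact p.Prime] (g : G) (P : Sylow p G) :
    ((g • P : Sylow p G) : Subgroup G) = (P : Subgroup G).map (MulAut.conj g).toMonoidHom := by
  rw [Sylow.smul_def, Sylow.pointwise_smul_def]
  rfl

theorem maxNilp_ti (h : MinCN G) {H : Subgroup G} (hM : MaxNilp H) (g : G)
    (hg : H.map (MulAut.conj g).toMonoidHom ≠ H) :
    H ⊓ H.map (MulAut.conj g).toMonoidHom = ⊥ := by
  have hH1 := maxNilp_ne_bot h hM
  have hcard : Nat.card H ≠ 1 := fun hc => hH1 (Subgroup.eq_bot_of_card_eq H hc)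
  by_cases hpp : IsPrimePow (Nat.card H)
  · rw [isPrimePow_nat_iff] at hpp
    obtain ⟨p, k, hp, hk, hpk⟩ := hpp
    have : Fact p.Prime := ⟨hp⟩
    have hdvd : p ∣ Nat.card H := by
      rw [← hpk]
      exact dvd_pow_self p hk.ne'
    obtain ⟨P, hPH⟩ := hM.exists_sylow_le p hdvd
    have hHp : IsPGroup p H := IsPGroup.of_card hpk.symm
    have hHP : H = (P : Subgroup G) := P.is_maximal' hHp hPH
    have hMP : MaxNilp (P : Subgroup G) := hHP ▸ hM
    have hiso := piso_of_maxNilp P hMP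
    rw [hHP] at hg ⊢
    rw [← sylow_smul_coe] at hg ⊢
    apply h.sylow_ti hiso
    intro he
    apply hg
    rw [← he]
  · exact hM.ti_of_not_isPrimePow hpp hcard g hg

theorem isTISubset_of_ti {H : Subgroup G}
    (hTI : ∀ g : G, H.map (MulAut.conj g).toMonoidHom ≠ H →
      H ⊓ H.map (MulAut.conj g).toMonoidHom = ⊥) : Cfsg.IsTISubset (H : Set G) := by
  intro g hg x hx hgx
  by_contra hx1
  apply hg
  have h1 : H.map (MulAut.conj g⁻¹).toMonoidHom = H := by
    by_contra hne
    have h2 := hTI g⁻¹ hne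
    have h3 : x ∈ H ⊓ H.map (MulAut.conj g⁻¹).toMonoidHom := by
      refine ⟨hx, ⟨g * x * g⁻¹, hgx, ?_⟩⟩
      simp only [MulEquiv.coe_toMonoidHom, MulAut.conj_apply]
      group
    rw [h2] at h3
    exact hx1 (Subgroup.mem_bot.mp h3)
  have h4 : g⁻¹ ∈ Subgroup.normalizer (H : Set G) := by
    rw [Subgroup.mem_normalizer_iff_map_conj_eq]
    exact h1
  have := (Subgroup.normalizer (H : Set G)).inv_mem h4
  rwa [inv_inv] at this

theorem maxNilp_lt_normalizer (h : MinCN G) {H : Subgroup G} (hM : MaxNilp H) :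
    H < Subgroup.normalizer (H : Set G) := by
  refine lt_of_le_of_ne Subgroup.le_normalizer ?_
  intro heq
  have hF : Cfsg.IsFrobeniusComplement H := by
    refine ⟨maxNilp_ne_bot h hM, maxNilp_ne_top h hM, ?_⟩
    intro g hg
    have hne : H.map (MulAut.conj g).toMonoidHom ≠ H := by
      intro he
      apply hg
      rw [heq, Subgroup.mem_normalizer_iff_map_conj_eq]
      exact he
    exact maxNilp_ti h hM g hne
  obtain ⟨N, -, hNn, hNH⟩ := Cfsg.Agent.Lib.Helper1.frobenius_theorem H hF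
  rcases h.simple N hNn with h1 | h1
  · rw [h1] at hNH
    exact maxNilp_ne_top h hM (Subgroup.isComplement'_bot_left.1 hNH)
  · rw [h1] at hNH
    exact maxNilp_ne_bot h hM (Subgroup.isComplement'_top_left.1 hNH)

/-- conjugacy of maximal nilpotent subgroups -/
def conjSetoid (G : Type u) [Group G] [Finite G] : Setoid {H : Subgroup G // MaxNilp H} where
  r A B := ∃ g : G, ∀ h, h ∈ A.1 ↔ g * h * g⁻¹ ∈ B.1
  iseqv :=
    { refl := fun A => ⟨1, fun h => by simp⟩
      symm := by
        rintro A B ⟨g, hg⟩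
        refine ⟨g⁻¹, fun h => ?_⟩
        rw [hg]
        have : g * (g⁻¹ * h * g⁻¹⁻¹) * g⁻¹ = h := by group
        rw [this]
      trans := by
        rintro A B C ⟨g, hg⟩ ⟨k, hk⟩
        refine ⟨k * g, fun h => ?_⟩
        rw [hg, hk]
        have : k * (g * h * g⁻¹) * k⁻¹ = k * g * h * (k * g)⁻¹ := by group
        rw [this] }

theorem rel_of_map {A B : Subgroup G} (g : G) (hB : B = A.map (MulAut.conj g).toMonoidHom) :
    ∀ h, h ∈ A ↔ g * h * g⁻¹ ∈ B := by
  intro h
  rw [hB]
  constructor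
  · intro hh
    exact ⟨h, hh, rfl⟩
  · rintro ⟨h', hh', e⟩
    simp only [MulEquiv.coe_toMonoidHom, MulAut.conj_apply] at e
    have : h' = h := by
      have := congrArg (fun z => g⁻¹ * z * g) e
      simpa [mul_assoc] using this
    rw [← this]
    exact hh'

open Cfsg.Agent.Lib.Helper11.PfData Cfsg.Agent.Lib.Helper11.PfCross in
/-- there is no minimal simple CN-group of odd order -/
theorem minCN_false (h : MinCN G) : False := by
  classical
  have := Fintype.ofFinite G
  let ι := Quotient (conjSetoid G)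
  have : Fintype ι := Fintype.ofFinite _
  let H : ι → Subgroup G := fun i => (Quotient.out i).1
  have hH : ∀ i, MaxNilp (H i) := fun i => (Quotient.out i).2
  have hfin : ∀ i, Fintype (H i) := fun i => Fintype.ofFinite _
  have hne : Nonempty ι := by
    obtain ⟨L, -, hL⟩ := exists_maxNilp_ge h.cn (⊥ : Subgroup G) inferInstance
    exact ⟨Quotient.mk _ ⟨L, hL⟩⟩
  have hTI' : ∀ i, ∀ g : G, (H i).map (MulAut.conj g).toMonoidHom ≠ H i →
      H i ⊓ (H i).map (MulAut.conj g).toMonoidHom = ⊥ := fun i => maxNilp_ti h (hH i)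
  have hTI : ∀ i, Cfsg.IsTISubset (H i : Set G) := fun i => isTISubset_of_ti (hTI' i)
  have hF : ∀ i, Nonempty (FamData (H i)) := fun i =>
    famData_exists (H i) h.odd (hTI i) (maxNilp_ne_bot h (hH i))
      (maxNilp_lt_normalizer h (hH i))
      (by
        intro x hx hx1 a ha
        exact (hH i).centralizer_le_of_ti (hTI' i) x hx hx1 ha.2)
  have hcop : ∀ i j, i ≠ j → Nat.Coprime (Nat.card (H i)) (Nat.card (H j)) := by
    intro i j hij
    by_contra hn
    apply hij
    obtain ⟨p, hp, hpi, hpj⟩ := Nat.Prime.not_coprime_iff_dvd.1 hn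
    have : Fact p.Prime := ⟨hp⟩
    obtain ⟨g, hg⟩ := (hH i).conj_of_common_prime (hH j) p hpi hpj
    rw [← Quotient.out_eq i, ← Quotient.out_eq j]
    exact Quotient.sound ⟨g, rel_of_map g hg⟩
  have hcover : ∀ g : G, g ≠ 1 → ∃ i, ∃ x : G, x * g * x⁻¹ ∈ H i := by
    intro g hg
    obtain ⟨L, hCL, hL⟩ := exists_maxNilp_ge h.cn _ (h.cn g hg)
    refine ⟨Quotient.mk _ ⟨L, hL⟩, ?_⟩
    have h1 : (conjSetoid G).r (Quotient.mk (conjSetoid G) ⟨L, hL⟩).out ⟨L, hL⟩ :=
      Quotient.exact (Quotient.out_eq (Quotient.mk (conjSetoid G) ⟨L, hL⟩))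
    obtain ⟨x, hx⟩ := (conjSetoid G).symm h1
    refine ⟨x, (hx g).1 (hCL ?_)⟩
    rw [Subgroup.mem_centralizer_iff]
    intro z hz
    rw [Set.mem_singleton_iff] at hz
    rw [hz]
  exact no_partition H (fun i => (hF i).some) h.odd hcop hTI hcover

end Cfsg.Agent.Lib.Helper11.CNSimpleF
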