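import Mathlib
import Cfsg.Agent.Lib.Helper11.CNSimpleF
import Cfsg.Prelude.Def_LieExceptional
import Cfsg.Prelude.Def_OddOrder

/-!
The CN-theorem of Feit, Hall and Thompson: CN-groups of odd order are solvable.
-/

set_option autoImplicit false

namespace Cfsg.Agent.Lib.Helper11.CNSimpleG

open Cfsg.Agent.Lib.Helper11 Cfsg.Agent.Lib.Helper11.CNSimpleD Cfsg.Agent.Lib.Helper11.CNSimpleE
  Cfsg.Agent.Lib.Helper11.CNSimpleF

universe u

theorem cn_solvable_aux : ∀ (n : ℕ) (G : Type u) [Group G] [Finite G], Nat.card G = n →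
    Odd (Nat.card G) →
    (∀ g : G, g ≠ 1 → Group.IsNilpotent (Subgroup.centralizer ({g} : Set G))) →
    Group.IsSolvable G := by
  intro n
  induction n using Nat.strong_induction_on with
  | _ n ih =>
    intro G _ _ hn hodd hCN
    have ihK : ∀ K : Subgroup G, K ≠ ⊤ → Group.IsSolvable K := by
      intro K hK
      apply ih (Nat.card K) _ K rfl (hodd.of_dvd_nat (Subgroup.card_subgroup_dvd_card K))
        (cn_subgroup hCN K)
      rw [← hn]
      have h1 : Nat.card K ≤ Nat.card G := Subgroup.card_le_card_group K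
      rcases h1.lt_or_eq with h2 | h2
      · exact h2
      · exact absurd (Subgroup.eq_top_of_card_eq K h2) hK
    by_cases hab : ∀ a b : G, a * b = b * a
    · exact Group.isSolvable_of_comm hab
    by_cases hs : ∃ N : Subgroup G, N.Normal ∧ N ≠ ⊥ ∧ N ≠ ⊤
    · obtain ⟨N, hN, h1, h2⟩ := hs
      have hNs : Group.IsSolvable N := ihK N h2
      have hQcn := cn_quotient_solvable hCN N hNs
      have hQodd : Odd (Nat.card (G ⧸ N)) :=
        hodd.of_dvd_nat (Subgroup.card_quotient_dvd_card N)
      have hQlt : Nat.card (G ⧸ N) < n := by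
        rw [← hn, ← Subgroup.card_mul_index N, Subgroup.index_eq_card]
        have hN1 : 1 < Nat.card N := by
          have h3 : Nat.card N ≠ 1 := fun h => h1 (Subgroup.eq_bot_of_card_eq N h)
          have h4 : 0 < Nat.card N := Nat.card_pos
          omega
        have h5 : 0 < Nat.card (G ⧸ N) := Nat.card_pos
        nlinarith
      have hQs : Group.IsSolvable (G ⧸ N) := ih _ hQlt (G ⧸ N) rfl hQodd hQcn
      exact (Group.isSolvable_iff_subgroup_quotient N).2 ⟨hNs, hQs⟩
    · exfalso
      apply minCN_false (G := G)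
      refine ⟨hodd, hCN, ?_, hab, ihK⟩
      intro N hN
      by_contra h
      push Not at h
      exact hs ⟨N, hN, h.1, h.2⟩

/-- the CN-theorem for groups of odd order -/
theorem cn_solvable {G : Type u} [Group G] [Finite G] (hodd : Odd (Nat.card G))
    (hCN : Cfsg.IsCNGroup G) : Group.IsSolvable G :=
  cn_solvable_aux _ G rfl hodd hCN

/-- a minimal simple group of odd order is not a CN-group -/
theorem minSimple_cn_false {G : Type u} [Group G] [Finite G] (hG : Cfsg.IsMinSimpleOddOrder G)
    (hCN : Cfsg.IsCNGroup G) : False := by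
  obtain ⟨hodd, hsimple, hnc, hsolv⟩ := hG
  apply minCN_false (G := G)
  refine ⟨hodd, hCN, ?_, ?_, hsolv⟩
  · intro N hN
    exact hN.eq_bot_or_eq_top
  · intro hab
    exact hnc ⟨⟨hab⟩⟩

end Cfsg.Agent.Lib.Helper11.CNSimpleG
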