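import Mathlib
import Cfsg.Agent.Lib.helper14.CTE.Defs
import Cfsg.Agent.Lib.Helper11.CTESTDcore
import Cfsg.Agent.Lib.helper2.CTELIFT
import Cfsg.Agent.Lib.helper2.CTEPLIFT
import Cfsg.Agent.Lib.helper23.CTEDIAG
import Cfsg.Agent.Lib.helper23.CTEBLOCK
import Cfsg.Agent.Lib.Helper24.CTESL2GEN

/-! Project CTE, piece STD (verbatim): `ctestd_core` + LIFT, PLIFT, DIAG, BLOCK, SL2GEN. -/

set_option autoImplicit false

namespace Cfsg.Agent.Lib.helper14.CTE

open Matrix

universe u v w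

variable {F : Type u} [Field F] {G : Type v} [Group G] {ι : Type w}

/-- STD: standard form.  `π(SL3 F) = A ⊔ B` with `A ≅ B ≅ SL2 F` whose central involutions commute: after an
automorphism of `SL3 F`, `A` and `B` are the images of the two blocks. -/
theorem std_pair [Fintype F] (h2 : (2 : F) ≠ 0) (π : SL3 F →* G) (hker : π.ker ≤ Subgroup.center (SL3 F))
    (A B : Subgroup G) (eA : SL2 F ≃* A) (eB : SL2 F ≃* B) (hAB : π.range = A ⊔ B)
    (hcomm : ((eA (-1) : A) : G) * ((eB (-1) : B) : G) = ((eB (-1) : B) : G) * ((eA (-1) : A) : G)) :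
    ∃ Θ : SL3 F →* G, Θ.ker ≤ Subgroup.center (SL3 F) ∧
      (blk12 : SL2 F →* SL3 F).range.map Θ = A ∧ (blk23 : SL2 F →* SL3 F).range.map Θ = B ∧
      Θ d1 = ((eA (-1) : A) : G) ∧ Θ d3 = ((eB (-1) : B) : G) := by
  obtain ⟨p, hp⟩ := CharP.exists F
  have hpp : p.Prime := (CharP.char_is_prime_or_zero F p).resolve_right
    (fun h0 => by
      subst h0
      have : CharZero F := CharP.charP_to_charZero F
      exact not_finite F)
  have hfact : Fact p.Prime := ⟨hpp⟩
  exact ctestd_core h2 p π hker A B eA eB hAB hcomm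
    (fun A a ha hcent ha2 => lift_inv π hker A a ha hcent ha2)
    (fun t₁ t₂ h1 h2' hc => lift_comm π hker t₁ t₂ h1 h2' hc)
    (fun t h1 hc => lift_central t h1 hc)
    (fun x hx hxp => lift_p p π hker x hx hxp)
    (fun t₁ t₂ h1 h2' hc hn1 hn2 hne => diag_pair h2 t₁ t₂ h1 h2' hc hn1 hn2 hne)
    (fun g hg hgp => block12 p h2 g hg hgp)
    (fun g hg hgp => block23 p h2 g hg hgp)
    gen2 (up_ux p) (up_uy p)

end Cfsg.Agent.Lib.helper14.CTE
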