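import Cfsg.Agent.Lib.helper14.CT.Defs

/-!
# Project CT, piece LOC4 (backup core) : the self case `r = ±α_i` of the rank-two input

Steinberg's commutator trick inside an `A₂` neighbour `k` of `i`: with `r = α_i + α_k`, `s = -α_k` the relation CT2 for
`(r, s)` expresses `x̂_{α_i}` as a commutator of `x̂_r` and `x̂_s`; conjugate by `n̂_i(c)` using the non-self case.
Generic in the family `X`; the statements of `ct_comm`, `ct_inv`, `loc_nonself`, `r2_refl`, `r2_simple`, `r2_neg`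
are hypotheses.
-/

set_option autoImplicit false
set_option linter.unusedVariables false

namespace Cfsg.Agent.Lib.helper14.CT

open Cfsg.Lie Cfsg.Lie.ChevalleyDatum Cfsg.Agent.Lib.helper8

universe u v

instance ctloc4bDec (D : ChevalleyDatum) (i j r : ℕ) : Decidable (D.InRankTwoSub i j r) := by
  unfold ChevalleyDatum.InRankTwoSub; infer_instance

/-- the structure constant of the first term of the commutator formula for `(r, s)` -/
def ctloc4bC (D : ChevalleyDatum) (r s : ℕ) : ℤ := ((D.commTerms r s).head?.map (fun c => c.2.1)).getD 0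

/-- `k` is an `A₂` neighbour of `i` suitable for the commutator trick -/
def ctloc4bChk (D : ChevalleyDatum) (i k : ℕ) : Bool :=
  decide (D.InRankTwoSub i k ((D.chainRoot (D.simple i) (D.simple k) 1).getD 0) ∧
    D.InRankTwoSub i k (D.neg (D.simple k)) ∧
    (D.chainRoot (D.simple i) (D.simple k) 1).getD 0 ≠ D.simple i ∧
    (D.chainRoot (D.simple i) (D.simple k) 1).getD 0 ≠ D.neg (D.simple i) ∧
    D.neg (D.simple k) ≠ D.simple i ∧ D.neg (D.simple k) ≠ D.neg (D.simple i) ∧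
    D.neg (D.simple k) ≠ (D.chainRoot (D.simple i) (D.simple k) 1).getD 0 ∧
    D.neg (D.simple k) ≠ D.neg ((D.chainRoot (D.simple i) (D.simple k) 1).getD 0) ∧
    D.reflectRoot i (D.neg (D.simple k)) ≠
      D.reflectRoot i ((D.chainRoot (D.simple i) (D.simple k) 1).getD 0) ∧
    D.reflectRoot i (D.neg (D.simple k)) ≠
      D.neg (D.reflectRoot i ((D.chainRoot (D.simple i) (D.simple k) 1).getD 0)) ∧
    D.commTerms ((D.chainRoot (D.simple i) (D.simple k) 1).getD 0) (D.neg (D.simple k)) =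
      [(D.simple i, ctloc4bC D ((D.chainRoot (D.simple i) (D.simple k) 1).getD 0) (D.neg (D.simple k)), 1, 1)] ∧
    (ctloc4bC D ((D.chainRoot (D.simple i) (D.simple k) 1).getD 0) (D.neg (D.simple k)) = 1 ∨
      ctloc4bC D ((D.chainRoot (D.simple i) (D.simple k) 1).getD 0) (D.neg (D.simple k)) = -1) ∧
    D.commTerms (D.reflectRoot i ((D.chainRoot (D.simple i) (D.simple k) 1).getD 0))
        (D.reflectRoot i (D.neg (D.simple k))) =
      [(D.neg (D.simple i), ctloc4bC D (D.reflectRoot i ((D.chainRoot (D.simple i) (D.simple k) 1).getD 0))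
        (D.reflectRoot i (D.neg (D.simple k))), 1, 1)] ∧
    (ctloc4bC D (D.reflectRoot i ((D.chainRoot (D.simple i) (D.simple k) 1).getD 0))
        (D.reflectRoot i (D.neg (D.simple k))) = 1 ∨
      ctloc4bC D (D.reflectRoot i ((D.chainRoot (D.simple i) (D.simple k) 1).getD 0))
        (D.reflectRoot i (D.neg (D.simple k))) = -1))

/-- every node has a suitable neighbour -/
def ctloc4bAll (D : ChevalleyDatum) : Bool :=
  (List.range D.rank).all fun i => (List.range D.rank).any fun k => ctloc4bChk D i k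

theorem ctloc4b_D4 : ctloc4bAll chevD4 = true := by decide +kernel
theorem ctloc4b_F4 : ctloc4bAll chevF4 = true := by decide +kernel
theorem ctloc4b_E6 : ctloc4bAll chevE6 = true := by decide +kernel
theorem ctloc4b_E7 : ctloc4bAll chevE7 = true := by decide +kernel
theorem ctloc4b_E8 : ctloc4bAll chevE8 = true := by decide +kernel

theorem ctloc4b_cert {D : ChevalleyDatum} (hD : D ∈ [chevD4, chevF4, chevE6, chevE7, chevE8]) :
    ctloc4bAll D = true := by
  simp only [List.mem_cons, List.not_mem_nil, or_false] at hD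
  rcases hD with rfl | rfl | rfl | rfl | rfl
  · exact ctloc4b_D4
  · exact ctloc4b_F4
  · exact ctloc4b_E6
  · exact ctloc4b_E7
  · exact ctloc4b_E8

variable {D : ChevalleyDatum} {K : Type u} [Field K] {Γ : Type v} [Group Γ]

/-- `n_r(c)⁻¹ = n_r(-c)` from the inversion rule at `r` and `-r` -/
theorem ctloc4b_nS_inv (X : ℕ → K → Γ) (r : ℕ) (h1 : ∀ t : K, (X r t)⁻¹ = X r (-t))
    (h2 : ∀ t : K, (X (D.negIdx.getD r 0) t)⁻¹ = X (D.negIdx.getD r 0) (-t)) (c : K) :
    (h8nS D X r c)⁻¹ = h8nS D X r (-c) := by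
  unfold h8nS
  rw [mul_inv_rev, mul_inv_rev, h1, h2, neg_neg, inv_neg, neg_neg, mul_assoc]

/-- the commutator trick: `α_i → -α_i` -/
theorem ctloc4b_pos (X : ℕ → K → Γ)
    (Hcomm : ∀ i j r s : ℕ, D.InRankTwoSub i j r → D.InRankTwoSub i j s → s ≠ r → s ≠ D.neg r →
      ∀ t u : K, X s u * X r t = X r t * X s u * h8wX X (D.commWord K r s t u))
    (Hns : ∀ i k : ℕ, i < D.rank → k < D.rank → ∀ r : ℕ, D.InRankTwoSub i k r →
      (r ≠ D.simple i ∧ r ≠ D.neg (D.simple i)) → ∀ c : K, c ≠ 0 →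
      H8ActX X (h8nS D X (D.simple i) c) r (D.reflectRoot i r))
    (Hrefl : ∀ i j r : ℕ, D.InRankTwoSub i j r → D.InRankTwoSub i j (D.reflectRoot i r))
    (i k : ℕ) (hi : i < D.rank) (hk : k < D.rank) (hchk : ctloc4bChk D i k = true) (c : K) (hc : c ≠ 0) :
    H8ActX X (h8nS D X (D.simple i) c) (D.simple i) (D.neg (D.simple i)) := by
  unfold ctloc4bChk at hchk
  rw [decide_eq_true_eq] at hchk
  obtain ⟨hr, hs, hra, hrna, hsa, hsna, hsr, hsnr, hs'r', hs'nr', hct, hC, hct', hC'⟩ := hchk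
  generalize (D.chainRoot (D.simple i) (D.simple k) 1).getD 0 = r at *
  generalize D.neg (D.simple k) = s at *
  generalize ctloc4bC D r s = C at *
  generalize ctloc4bC D (D.reflectRoot i r) (D.reflectRoot i s) = C' at *
  obtain ⟨κ, hκ, e1⟩ := Hns i k hi hk r hr ⟨hra, hrna⟩ c hc
  obtain ⟨κ', hκ', e2⟩ := Hns i k hi hk s hs ⟨hsa, hsna⟩ c hc
  have hCne : (C : K) ≠ 0 := by
    rcases hC with h | h <;> rw [h] <;> simp
  have hC'ne : (C' : K) ≠ 0 := by
    rcases hC' with h | h <;> rw [h] <;> simp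
  -- the two commutator relations
  have c1 : ∀ t u : K, X (D.simple i) ((C : K) * (-t) * u) = (X r t * X s u)⁻¹ * (X s u * X r t) := by
    intro t u
    have := Hcomm i k r s hr hs hsr hsnr t u
    rw [this]
    unfold ChevalleyDatum.commWord h8wX
    rw [hct]
    simp only [List.map_cons, List.map_nil, List.prod_cons, List.prod_nil, pow_one, mul_one]
    group
  have c2 : ∀ t u : K, X (D.neg (D.simple i)) ((C' : K) * (-t) * u) =
      (X (D.reflectRoot i r) t * X (D.reflectRoot i s) u)⁻¹ *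
        (X (D.reflectRoot i s) u * X (D.reflectRoot i r) t) := by
    intro t u
    have := Hcomm i k _ _ (Hrefl i k r hr) (Hrefl i k s hs) hs'r' hs'nr' t u
    rw [this]
    unfold ChevalleyDatum.commWord h8wX
    rw [hct']
    simp only [List.map_cons, List.map_nil, List.prod_cons, List.prod_nil, pow_one, mul_one]
    group
  refine ⟨(C' : K) * κ * κ' * (C : K)⁻¹, by
    exact mul_ne_zero (mul_ne_zero (mul_ne_zero hC'ne hκ) hκ') (inv_ne_zero hCne), fun T => ?_⟩
  set n := h8nS D X (D.simple i) c with hn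
  have hT : T = (C : K) * (-(-((C : K)⁻¹ * T))) * 1 := by
    field_simp
  have e3 : n * X (D.simple i) T * n⁻¹ =
      (n * X r (-((C : K)⁻¹ * T)) * n⁻¹ * (n * X s 1 * n⁻¹))⁻¹ *
        (n * X s 1 * n⁻¹ * (n * X r (-((C : K)⁻¹ * T)) * n⁻¹)) := by
    conv_lhs => rw [hT, c1]
    group
  rw [e3, e1, e2, ← c2]
  congr 1
  ring

/-- LOC4 from the statements of `ct_comm`, `ct_inv`, `loc_nonself`, `r2_refl`, `r2_simple`/`r2_neg` -/
theorem ctloc4b_core (hD : D ∈ [chevD4, chevF4, chevE6, chevE7, chevE8]) (X : ℕ → K → Γ)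
    (Hcomm : ∀ i j r s : ℕ, D.InRankTwoSub i j r → D.InRankTwoSub i j s → s ≠ r → s ≠ D.neg r →
      ∀ t u : K, X s u * X r t = X r t * X s u * h8wX X (D.commWord K r s t u))
    (Hns : ∀ i k : ℕ, i < D.rank → k < D.rank → ∀ r : ℕ, D.InRankTwoSub i k r →
      (r ≠ D.simple i ∧ r ≠ D.neg (D.simple i)) → ∀ c : K, c ≠ 0 →
      H8ActX X (h8nS D X (D.simple i) c) r (D.reflectRoot i r))
    (Hrefl : ∀ i j r : ℕ, D.InRankTwoSub i j r → D.InRankTwoSub i j (D.reflectRoot i r))
    (Hinv : ∀ r : ℕ, InR2 D r → ∀ t : K, (X r t)⁻¹ = X r (-t))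
    (Hsimple : ∀ i : ℕ, i < D.rank → InR2 D (D.simple i) ∧ InR2 D (D.neg (D.simple i)))
    (i : ℕ) (hi : i < D.rank) (c : K) (hc : c ≠ 0) :
    H8ActX X (h8nS D X (D.simple i) c) (D.simple i) (D.neg (D.simple i)) ∧
    H8ActX X (h8nS D X (D.simple i) c) (D.neg (D.simple i)) (D.simple i) := by
  have hall := ctloc4b_cert hD
  unfold ctloc4bAll at hall
  rw [List.all_eq_true] at hall
  have hi' := hall i (List.mem_range.mpr hi)
  rw [List.any_eq_true] at hi'
  obtain ⟨k, hk, hchk⟩ := hi'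
  have hk' : k < D.rank := List.mem_range.mp hk
  refine ⟨ctloc4b_pos X Hcomm Hns Hrefl i k hi hk' hchk c hc, ?_⟩
  obtain ⟨d, hd, e⟩ := ctloc4b_pos X Hcomm Hns Hrefl i k hi hk' hchk (-c) (neg_ne_zero.mpr hc)
  have hinv : (h8nS D X (D.simple i) c)⁻¹ = h8nS D X (D.simple i) (-c) :=
    ctloc4b_nS_inv X (D.simple i) (Hinv _ (Hsimple i hi).1) (Hinv _ (Hsimple i hi).2) c
  rw [← hinv] at e
  refine ⟨d⁻¹, inv_ne_zero hd, fun T => ?_⟩
  have h1 := e (d⁻¹ * T)
  rw [mul_inv_cancel_left₀ hd] at h1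
  have h2 : D.neg (D.simple i) = D.negIdx.getD (D.simple i) 0 := rfl
  rw [← h1]
  group

end Cfsg.Agent.Lib.helper14.CT
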