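import Mathlib
import Cfsg.Agent.Lib.Helper11.CoherentEq

set_option autoImplicit false
open scoped ComplexConjugate

namespace Cfsg.Agent.Lib.Helper11.CohX0Gen

open Cfsg.Agent.Lib.helper7 Cfsg.Agent.Lib.helper2 Cfsg.Agent.Lib.Helper25
open Cfsg.Agent.Lib.Helper11

variable {L : Type*} [Group L] [Fintype L] {G : Type*} [Group G] [Fintype G]
  {S : Set (L → ℂ)} {τ : (L → ℂ) → (G → ℂ)}

/-- version of `coherent_of_X0` that does not need a coherence system -/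
theorem coherent_of_X0_gen
    (hτ : Cfsg.IsLinearIsometryOn (Cfsg.zspanOn S {1}ᶜ) τ)
    (horth : ∀ χ ∈ S, ∀ φ ∈ S, χ ≠ φ → Cfsg.classInner χ φ = 0)
    (hdeg : ∀ φ ∈ S, ∀ ψ ∈ S, φ 1 = ψ 1)
    {χ₀ ψ₀ : L → ℂ} (hχ₀ : χ₀ ∈ S) (hψ₀ : ψ₀ ∈ S) (hne₀ : ψ₀ ≠ χ₀) (hd0' : χ₀ 1 ≠ 0)
    (X₀ : G → ℂ) (hgen : Cfsg.IsGeneralizedCharacter G X₀)
    (hnorm : Cfsg.classInner X₀ X₀ = Cfsg.classInner χ₀ χ₀)
    (hX : ∀ ψ ∈ S, ψ ≠ χ₀ → Cfsg.classInner (τ (χ₀ - ψ)) X₀ = Cfsg.classInner χ₀ χ₀) :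
    Cfsg.IsCoherent S {1}ᶜ τ := by
  classical
  have hmap0 : τ 0 = 0 := by
    have h0 : (0 : L → ℂ) ∈ Cfsg.zspanOn S {1}ᶜ := ⟨zspan_zero S, fun x _ => rfl⟩
    have := hτ.2.1 0 h0 0
    simpa using this
  set d : ℂ := χ₀ 1 with hd
  have hd0 : d ≠ 0 := hd0'
  have hdeg' : ∀ φ ∈ S, φ 1 = d := fun φ hφ => hdeg φ hφ χ₀ hχ₀
  set D : Set (L → ℂ) := {δ | ∃ ψ ∈ S, δ = χ₀ - ψ} with hD
  have hDE : ∀ γ ∈ Cfsg.zspan D, γ ∈ Cfsg.zspanOn S {1}ᶜ := by
    apply zspan_subset_zspanOn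
    rintro δ ⟨ψ, hψ, rfl⟩
    exact coh_sub_mem hdeg hχ₀ hψ
  -- (I2)
  have hI2 : ∀ γ ∈ Cfsg.zspan D, Cfsg.classInner (τ γ) X₀ = Cfsg.classInner γ χ₀ := by
    intro γ hγ
    induction hγ using Submodule.span_induction with
    | mem δ h =>
      obtain ⟨ψ, hψ, rfl⟩ := h
      by_cases hne : ψ = χ₀
      · rw [hne, sub_self, hmap0, classInner_zero_left', classInner_zero_left']
      · rw [hX ψ hψ hne, classInner_sub_left', horth ψ hψ χ₀ hχ₀ hne, sub_zero]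
    | zero => rw [hmap0, classInner_zero_left', classInner_zero_left']
    | add a b ha hb iha ihb =>
      rw [hτ.1 a (hDE a ha) b (hDE b hb), classInner_add_left', classInner_add_left', iha, ihb]
    | smul n a ha iha =>
      rw [hτ.2.1 a (hDE a ha) n, classInner_zsmul_left, classInner_zsmul_left, iha]
  have hI2' : ∀ γ ∈ Cfsg.zspan D, Cfsg.classInner X₀ (τ γ) = Cfsg.classInner χ₀ γ := by
    intro γ hγ
    rw [classInner_conj_symm X₀ (τ γ), hI2 γ hγ, ← classInner_conj_symm]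
  -- the extension
  let cf : (L → ℂ) → ℂ := fun α => α 1 / d
  let τ₁ : (L → ℂ) → (G → ℂ) := fun α => τ (α - cf α • χ₀) + cf α • X₀
  have hkey : ∀ α ∈ Cfsg.zspan S, ∃ m : ℤ, α - m • χ₀ ∈ Cfsg.zspan D ∧
      τ₁ α = τ (α - m • χ₀) + m • X₀ ∧ α = (α - m • χ₀) + m • χ₀ := by
    intro α hα
    obtain ⟨m, hm1, hm2⟩ := coh_coeff d hdeg' hχ₀ α hα
    refine ⟨m, hm2, ?_, by abel⟩
    have hcf : cf α = (m : ℂ) := by
      change α 1 / d = (m : ℂ)
      rw [hm1, mul_div_assoc, div_self hd0, mul_one]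
    change τ (α - cf α • χ₀) + cf α • X₀ = _
    rw [hcf, Int.cast_smul_eq_zsmul ℂ m χ₀, Int.cast_smul_eq_zsmul ℂ m X₀]
  constructor
  · refine ⟨χ₀ - ψ₀, coh_sub_mem hdeg hχ₀ hψ₀, ?_⟩
    intro h
    apply hne₀
    exact (sub_eq_zero.mp h).symm
  · refine ⟨τ₁, ⟨?_, ?_, ?_, ?_⟩, ?_⟩
    · intro α hα β hβ
      obtain ⟨a, ha1, ha2, -⟩ := hkey α hα
      obtain ⟨b, hb1, hb2, -⟩ := hkey β hβ
      obtain ⟨c, hc1, hc2, -⟩ := hkey (α + β) (zspan_add hα hβ)
      -- determine c = a + b via the value at one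
      obtain ⟨a', ha'1, -⟩ := coh_coeff d hdeg' hχ₀ α hα
      have hsplit : τ₁ (α + β) = τ ((α - a • χ₀) + (β - b • χ₀)) + (a + b) • X₀ := by
        change τ (α + β - cf (α + β) • χ₀) + cf (α + β) • X₀ = _
        have hcfα : cf α = (a : ℂ) := by
          have h1 := (hDE _ ha1).2 1 (by simp)
          rw [Pi.sub_apply, Pi.smul_apply, zsmul_eq_mul, sub_eq_zero] at h1
          change α 1 / d = (a : ℂ)
          rw [h1, ← hd, mul_div_assoc, div_self hd0, mul_one]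
        have hcfβ : cf β = (b : ℂ) := by
          have h1 := (hDE _ hb1).2 1 (by simp)
          rw [Pi.sub_apply, Pi.smul_apply, zsmul_eq_mul, sub_eq_zero] at h1
          change β 1 / d = (b : ℂ)
          rw [h1, ← hd, mul_div_assoc, div_self hd0, mul_one]
        have hcfαβ : cf (α + β) = ((a + b : ℤ) : ℂ) := by
          change (α + β) 1 / d = _
          rw [Pi.add_apply, add_div]
          change cf α + cf β = _
          rw [hcfα, hcfβ]
          push_cast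
          ring
        rw [hcfαβ, Int.cast_smul_eq_zsmul ℂ (a + b) χ₀, Int.cast_smul_eq_zsmul ℂ (a + b) X₀]
        congr 2
        rw [add_smul]
        abel
      rw [hsplit, ha2, hb2, hτ.1 _ (hDE _ ha1) _ (hDE _ hb1), add_smul]
      abel
    · intro α hα n
      obtain ⟨a, ha1, ha2, -⟩ := hkey α hα
      have hcfα : cf α = (a : ℂ) := by
        have h1 := (hDE _ ha1).2 1 (by simp)
        rw [Pi.sub_apply, Pi.smul_apply, zsmul_eq_mul, sub_eq_zero] at h1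
        change α 1 / d = (a : ℂ)
        rw [h1, ← hd, mul_div_assoc, div_self hd0, mul_one]
      have hcfnα : cf (n • α) = ((n * a : ℤ) : ℂ) := by
        change (n • α) 1 / d = _
        rw [Pi.smul_apply, zsmul_eq_mul, mul_div_assoc]
        change (n : ℂ) * cf α = _
        rw [hcfα]
        push_cast
        ring
      have hsplit : τ₁ (n • α) = τ (n • (α - a • χ₀)) + (n * a) • X₀ := by
        change τ (n • α - cf (n • α) • χ₀) + cf (n • α) • X₀ = _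
        rw [hcfnα, Int.cast_smul_eq_zsmul ℂ (n * a) χ₀, Int.cast_smul_eq_zsmul ℂ (n * a) X₀]
        congr 2
        rw [smul_sub, mul_smul]
      rw [hsplit, ha2, hτ.2.1 _ (hDE _ ha1) n, smul_add, mul_smul]
    · intro α hα β hβ
      obtain ⟨a, ha1, ha2, ha3⟩ := hkey α hα
      obtain ⟨b, hb1, hb2, hb3⟩ := hkey β hβ
      rw [ha2, hb2]
      conv_rhs => rw [ha3, hb3]
      simp only [classInner_add_left', h7_classInner_add_right, classInner_zsmul_left,
        classInner_zsmul_right]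
      rw [hτ.2.2.1 _ (hDE _ ha1) _ (hDE _ hb1), hI2 _ ha1, hI2' _ hb1, hnorm]
    · intro α hα
      obtain ⟨a, ha1, ha2, -⟩ := hkey α hα
      rw [ha2]
      exact genChar_add (hτ.2.2.2 _ (hDE _ ha1)) (genChar_zsmul a hgen)
    · intro α hα
      have h1 : α 1 = 0 := hα.2 1 (by simp)
      change τ (α - cf α • χ₀) + cf α • X₀ = τ α
      have hcf : cf α = 0 := by
        change α 1 / d = 0
        rw [h1, zero_div]
      rw [hcf, zero_smul, zero_smul, sub_zero, add_zero]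


end Cfsg.Agent.Lib.Helper11.CohX0Gen
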