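import Mathlib

set_option autoImplicit false
set_option linter.style.haveILetI false

namespace Cfsg.Agent.Lib.Helper11

open Polynomial

/-- In `AdjoinRoot f` (`f` monic irreducible), the norm of `t - root f` is `f(t)`. -/
theorem norm_sub_root {K : Type*} [Field K] (f : K[X]) (hf : f.Monic) [Fact (Irreducible f)]
    (t : K) : Algebra.norm K (algebraMap K (AdjoinRoot f) t - AdjoinRoot.root f) = f.eval t := by
  classical
  set pb := AdjoinRoot.powerBasis hf.ne_zero with hpb
  rw [Algebra.norm_eq_matrix_det pb.basis, map_sub, AlgHom.commutes]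
  have h1 : (Algebra.leftMulMatrix pb.basis (AdjoinRoot.root f)).charpoly = f := by
    have := charpoly_leftMulMatrix pb
    rw [AdjoinRoot.minpoly_powerBasis_gen_of_monic hf] at this
    exact this
  conv_rhs => rw [← h1]
  rw [Matrix.eval_charpoly]
  rfl

/-- the cubic `X(X-2)(X-c) + (X-1)` in expanded form -/
noncomputable def cubic {K : Type*} [Field K] (c : K) : K[X] :=
  C 1 * X ^ 3 + C (-(2 + c)) * X ^ 2 + C (2 * c + 1) * X + C (-1)

theorem cubic_eval {K : Type*} [Field K] (c x : K) :
    (cubic c).eval x = x * (x - 2) * (x - c) + (x - 1) := by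
  simp [cubic]; ring

theorem cubic_monic {K : Type*} [Field K] (c : K) : (cubic c).Monic := by
  rw [Monic, cubic, leadingCoeff_cubic one_ne_zero]

theorem cubic_natDegree {K : Type*} [Field K] (c : K) : (cubic c).natDegree = 3 :=
  natDegree_cubic one_ne_zero

/-- some cubic `X(X-2)(X-c) + (X-1)` has no root in `ZMod p` -/
theorem exists_cubic_no_root (p : ℕ) [Fact p.Prime] :
    ∃ c : ZMod p, ∀ x : ZMod p, x * (x - 2) * (x - c) + (x - 1) ≠ 0 := by
  by_contra hcon
  push Not at hcon
  choose x hx using hcon
  have hx0 : ∀ c, x c ≠ 0 := by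
    intro c h0
    have := hx c
    rw [h0] at this
    simp at this
  have hx2 : ∀ c, x c ≠ 2 := by
    intro c h0
    have := hx c
    rw [h0] at this
    have h1 : (1 : ZMod p) = 0 := by linear_combination this
    exact one_ne_zero h1
  have hinj : Function.Injective x := by
    intro c c' h
    have e1 := hx c
    have e2 := hx c'
    rw [← h] at e2
    have e3 : x c * (x c - 2) * (c' - c) = 0 := by linear_combination e1 - e2
    rcases mul_eq_zero.mp e3 with h1 | h1
    · rcases mul_eq_zero.mp h1 with h2 | h2
      · exact absurd h2 (hx0 c)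
      · exact absurd (sub_eq_zero.mp h2) (hx2 c)
    · exact (sub_eq_zero.mp h1).symm
  obtain ⟨c, hc⟩ := (Finite.injective_iff_surjective.mp hinj) 0
  exact hx0 c hc

end Cfsg.Agent.Lib.Helper11
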