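import Mathlib
import Cfsg.Prelude.Def_Solvable
import Cfsg.Agent.Lib.Helper11.PStableOdd2
import Cfsg.Agent.Lib.Helper1.FrattiniFaithful
import Cfsg.Agent.Lib.Helper1.Frat
import Cfsg.Agent.Lib.Helper1.CFitting
import Cfsg.Agent.Lib.Helper1.PLength
import Cfsg.Agent.Lib.Helper20.Metacyclic1
import Cfsg.Agent.Lib.Lead.Coprime

/-!
# Solvable groups of odd order whose Sylow `p`-subgroups have cyclic derived subgroup

If `O_{p'}(Y) = 1` then a Sylow `p`-subgroup with cyclic derived subgroup is normal.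
-/

set_option autoImplicit false

namespace Cfsg.Agent.Lib.Helper11.CyclicDerived

open scoped commutatorElement

variable {Y : Type*} [Group Y]

/-- a `p`-element `x` normalizing the cyclic `p`-group `⟨t⟩`: for `c ∈ ⟨t⟩`, `[x, c]` is the `p`-th
power of a power of `c` -/
theorem comm_eq_pow [Finite Y] (p : ℕ) [Fact p.Prime] (t x : Y) (ht : ∃ l : ℕ, t ^ p ^ l = 1)
    (hx : ∃ k : ℕ, x ^ p ^ k = 1) (hxt : x * t * x⁻¹ ∈ Subgroup.zpowers t) (c : Y)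
    (hc : c ∈ Subgroup.zpowers t) : ∃ m : ℕ, x * c * x⁻¹ * c⁻¹ = (c ^ m) ^ p := by
  have hpp : p.Prime := Fact.out
  by_cases ht1 : t = 1
  · refine ⟨0, ?_⟩
    rw [ht1, Subgroup.zpowers_one_eq_bot, Subgroup.mem_bot] at hc
    rw [hc]; simp
  · have hfin : IsOfFinOrder t := isOfFinOrder_of_finite t
    obtain ⟨j, hj⟩ := mem_powers_iff_mem_zpowers.mpr hxt
    have hj' : x * t * x⁻¹ = t ^ j := hj.symm
    obtain ⟨i, hi⟩ := mem_powers_iff_mem_zpowers.mpr hc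
    have hi' : c = t ^ i := hi.symm
    have hj1 : 1 ≤ j := by
      rcases Nat.eq_zero_or_pos j with h0 | h0
      · exfalso
        rw [h0, pow_zero] at hj'
        apply ht1
        have : t = x⁻¹ * (x * t * x⁻¹) * x := by group
        rw [this, hj']; group
      · exact h0
    obtain ⟨k, hk⟩ := hx
    have h1 := Cfsg.Agent.Lib.Helper20.pair_conj_pow_pow hj' 1 (p ^ k)
    rw [hk, pow_one, one_mul, one_mul, inv_one, mul_one] at h1
    have hjk1 : 1 ≤ j ^ p ^ k := Nat.one_le_pow _ _ hj1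
    have h2 : t ^ (j ^ p ^ k - 1) = 1 := by
      have : t ^ (j ^ p ^ k - 1) * t = t := by
        rw [← pow_succ, Nat.sub_add_cancel hjk1]; exact h1.symm
      exact mul_eq_right.mp this |> fun h => h
    have h3 : orderOf t ∣ j ^ p ^ k - 1 := orderOf_dvd_of_pow_eq_one h2
    obtain ⟨l, hl⟩ := ht
    have h4 : p ∣ orderOf t := by
      obtain ⟨l', _, hl'⟩ := (Nat.dvd_prime_pow hpp).mp (orderOf_dvd_of_pow_eq_one hl)
      rcases Nat.eq_zero_or_pos l' with h0 | h0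
      · rw [h0, pow_zero, orderOf_eq_one_iff] at hl'
        exact absurd hl' ht1
      · rw [hl']; exact dvd_pow_self p h0.ne'
    have h5 : p ∣ j ^ p ^ k - 1 := h4.trans h3
    have h6 : ((j : ZMod p)) = 1 := by
      have h7 : ((j ^ p ^ k - 1 : ℕ) : ZMod p) = 0 := (ZMod.natCast_eq_zero_iff _ _).mpr h5
      rw [Nat.cast_sub hjk1, Nat.cast_pow, ZMod.pow_card_pow, Nat.cast_one, sub_eq_zero] at h7
      exact h7
    have h8 : p ∣ j - 1 := by
      rw [← ZMod.natCast_eq_zero_iff, Nat.cast_sub hj1, h6, Nat.cast_one, sub_self]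
    obtain ⟨m, hm⟩ := h8
    refine ⟨m, ?_⟩
    have h9 : x * c * x⁻¹ = t ^ (i * j) := by
      rw [hi']; exact Cfsg.Agent.Lib.Helper20.pair_conj_pow hj' i
    have h10 : i * j = i * (j - 1) + i := by
      have : j = (j - 1) + 1 := (Nat.sub_add_cancel hj1).symm
      conv_lhs => rw [this]
      ring
    rw [h9, h10, pow_add, hi', mul_inv_cancel_right, ← pow_mul, ← pow_mul, hm]
    congr 1; ring

open Cfsg.Agent.Lib.Helper11.PStableOdd in
/-- if `O_{p'}(Y) = 1`, `Y` solvable of odd order, a `p`-subgroup `S ≥ O_p(Y)` with cyclic derived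
subgroup lies in `O_p(Y)` -/
theorem le_pCore_of_cyclic_commutator [Finite Y] [Group.IsSolvable Y] (hodd : Odd (Nat.card Y))
    (p : ℕ) [Fact p.Prime] (hO : Cfsg.pPrimeCore p Y = ⊥) (S : Subgroup Y) (hS : IsPGroup p S)
    (hPS : Cfsg.pCore p Y ≤ S) (hcyc : IsCyclic ↥⁅S, S⁆) : S ≤ Cfsg.pCore p Y := by
  have hpp : p.Prime := Fact.out
  by_cases hp2 : p = 2
  · -- `S` is trivial
    intro x hx
    obtain ⟨k, hk⟩ := hS ⟨x, hx⟩
    have hk' : x ^ p ^ k = 1 := by simpa using congrArg Subtype.val hk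
    have h1 : orderOf x ∣ p ^ k := orderOf_dvd_of_pow_eq_one hk'
    have h2 : Odd (orderOf x) := Odd.of_dvd_nat hodd (orderOf_dvd_natCard x)
    obtain ⟨l, _, hl⟩ := (Nat.dvd_prime_pow hpp).mp h1
    rw [hl, hp2] at h2
    rcases Nat.eq_zero_or_pos l with h0 | h0
    · rw [h0, pow_zero, orderOf_eq_one_iff] at hl
      rw [hl]; exact one_mem _
    · exfalso
      exact (Nat.not_even_iff_odd.mpr h2) (Nat.even_pow.mpr ⟨even_two, h0.ne'⟩)
  obtain ⟨P, hP⟩ : ∃ P : Subgroup Y, P = Cfsg.pCore p Y := ⟨_, rfl⟩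
  rw [← hP] at hPS ⊢
  have hPn : P.Normal := hP ▸ Cfsg.Agent.Lib.Helper1.pCore_normal p
  have hPp : IsPGroup p ↥P := hP ▸ Cfsg.Agent.Lib.Helper1.pCore_isPGroup p
  have hCP : Subgroup.centralizer (P : Set Y) ≤ P := by
    rw [hP]; exact Cfsg.Agent.Lib.Helper1.centralizer_pCore_le p hO
  -- the generator of `T = S'`
  obtain ⟨g, hg⟩ := isCyclic_iff_exists_zpowers_eq_top.mp hcyc
  have hTt : ∀ c ∈ ⁅S, S⁆, c ∈ Subgroup.zpowers (g : Y) := by
    intro c hc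
    have h1 : (⟨c, hc⟩ : ↥⁅S, S⁆) ∈ Subgroup.zpowers g := by rw [hg]; trivial
    obtain ⟨i, hi⟩ := Subgroup.mem_zpowers_iff.mp h1
    refine Subgroup.mem_zpowers_iff.mpr ⟨i, ?_⟩
    have := congrArg Subtype.val hi
    simpa using this
  have hTS : ⁅S, S⁆ ≤ S := by
    rw [Subgroup.commutator_le]
    intro a ha b hb
    rw [commutatorElement_def]
    exact S.mul_mem (S.mul_mem (S.mul_mem ha hb) (S.inv_mem ha)) (S.inv_mem hb)
  have hgS : (g : Y) ∈ S := hTS g.2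
  have hgp : ∃ l : ℕ, (g : Y) ^ p ^ l = 1 := by
    obtain ⟨l, hl⟩ := hS ⟨g, hgS⟩
    exact ⟨l, by simpa using congrArg Subtype.val hl⟩
  have hSnT : S ≤ Subgroup.normalizer ((⁅S, S⁆ : Subgroup Y) : Set Y) :=
    Cfsg.Agent.Lib.Lead.le_normalizer_commutator S S S Subgroup.le_normalizer
      Subgroup.le_normalizer
  obtain ⟨Φ, hΦ⟩ : ∃ Φ : Subgroup Y, Φ = (frattini ↥P).map P.subtype := ⟨_, rfl⟩
  have hΦn : Φ.Normal := by
    rw [hΦ]
    exact Cfsg.Agent.Lib.Helper5.h5_normal_map_of_characteristic P (frattini ↥P)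
  intro x hx
  have hxp : ∃ k : ℕ, x ^ p ^ k = 1 := by
    obtain ⟨k, hk⟩ := hS ⟨x, hx⟩
    exact ⟨k, by simpa using congrArg Subtype.val hk⟩
  have hxg : x * (g : Y) * x⁻¹ ∈ Subgroup.zpowers (g : Y) := by
    apply hTt
    exact (Subgroup.mem_set_normalizer_iff.mp (hSnT hx) _).mp g.2
  -- key: `[x, c] ∈ Φ` for `c ∈ S' ∩ P`
  have key : ∀ c ∈ ⁅S, S⁆, c ∈ P → x * c * x⁻¹ * c⁻¹ ∈ Φ := by
    intro c hc hcP
    obtain ⟨m, hm⟩ := comm_eq_pow p (g : Y) x hgp hxp hxg c (hTt c hc)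
    rw [hm, hΦ]
    refine ⟨(⟨c ^ m, P.pow_mem hcP m⟩ : ↥P) ^ p,
      Cfsg.Agent.Lib.Helper1.pgroup_pow_mem_frattini hPp _, ?_⟩
    simp
  obtain ⟨P₂, hP₂⟩ : ∃ P₂ : Subgroup (Y ⧸ Φ), P₂ = P.map (QuotientGroup.mk' Φ) := ⟨_, rfl⟩
  have hP₂n : P₂.Normal := by
    rw [hP₂]; exact Subgroup.Normal.map hPn _ (QuotientGroup.mk'_surjective Φ)
  have hP₂p : IsPGroup p ↥P₂ := by rw [hP₂]; exact hPp.map _
  have hquad : Quad P₂ (QuotientGroup.mk' Φ x) := by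
    intro v₂ hv₂
    rw [hP₂] at hv₂
    obtain ⟨v, hv, rfl⟩ := hv₂
    have hcT : x * v * x⁻¹ * v⁻¹ ∈ ⁅S, S⁆ := by
      have : x * v * x⁻¹ * v⁻¹ = ⁅x, v⁆ := by rw [commutatorElement_def]
      rw [this]
      exact Subgroup.commutator_mem_commutator hx (hPS hv)
    have hcP : x * v * x⁻¹ * v⁻¹ ∈ P := P.mul_mem (hPn.conj_mem v hv x) (P.inv_mem hv)
    have h1 := key _ hcT hcP
    have h2 : QuotientGroup.mk' Φ (x * (x * v * x⁻¹ * v⁻¹) * x⁻¹ * (x * v * x⁻¹ * v⁻¹)⁻¹) = 1 :=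
      (QuotientGroup.eq_one_iff _).mpr h1
    rw [map_mul, map_inv, mul_inv_eq_one] at h2
    simpa only [map_mul, map_inv] using h2
  have hx₂p : ∃ k : ℕ, (QuotientGroup.mk' Φ x) ^ p ^ k = 1 := by
    obtain ⟨k, hk⟩ := hxp
    exact ⟨k, by rw [← map_pow, hk, map_one]⟩
  have hodd₂ : Odd (Nat.card (Y ⧸ Φ)) := Odd.of_dvd_nat hodd (Subgroup.card_quotient_dvd_card _)
  have h1 := Cfsg.Agent.Lib.Helper11.PStableOdd2.quad_mem_pCore_normal p hp2 hodd₂ P₂ hP₂p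
    (QuotientGroup.mk' Φ x) hx₂p hquad
  have hC₂n : (Subgroup.centralizer (P₂ : Set (Y ⧸ Φ))).Normal := Subgroup.normal_centralizer
  obtain ⟨ψ, hψ⟩ : ∃ ψ : Y →* (Y ⧸ Φ) ⧸ Subgroup.centralizer (P₂ : Set (Y ⧸ Φ)),
      ψ = (QuotientGroup.mk' (Subgroup.centralizer (P₂ : Set (Y ⧸ Φ)))).comp
        (QuotientGroup.mk' Φ) := ⟨_, rfl⟩
  obtain ⟨Q, hQ⟩ : ∃ Q : Subgroup Y,
      Q = (Cfsg.pCore p ((Y ⧸ Φ) ⧸ Subgroup.centralizer (P₂ : Set (Y ⧸ Φ)))).comap ψ := ⟨_, rfl⟩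
  have hQn : Q.Normal := by
    rw [hQ]
    have := Cfsg.Agent.Lib.Helper1.pCore_normal (G := (Y ⧸ Φ) ⧸ Subgroup.centralizer
      (P₂ : Set (Y ⧸ Φ))) p
    exact Subgroup.Normal.comap this ψ
  have hxQ : x ∈ Q := by
    rw [hQ, Subgroup.mem_comap, hψ]
    exact h1
  have hkerP : ∀ k : Y, ψ k = 1 → k ∈ P := by
    intro k hk
    rw [hP]
    have hPn' : (Cfsg.pCore p Y).Normal := hP ▸ hPn
    apply Cfsg.Agent.Lib.Helper1.mem_pCore_of_trivial_on_frattini_quotient (Cfsg.pCore p Y)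
      (hP ▸ hPp) (hP ▸ hCP) k
    rw [← hP, ← hΦ]
    intro v hv
    rw [hψ, MonoidHom.comp_apply, QuotientGroup.mk'_apply, QuotientGroup.eq_one_iff] at hk
    have h2 : QuotientGroup.mk' Φ v ∈ P₂ := by rw [hP₂]; exact Subgroup.mem_map_of_mem _ hv
    have h3 := (Subgroup.mem_centralizer_iff.mp hk) _ h2
    rw [← QuotientGroup.eq_one_iff, ← QuotientGroup.mk'_apply, map_mul, map_mul, map_mul,
      map_inv, map_inv, ← h3]
    group
  have hQp : IsPGroup p ↥Q := by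
    rintro ⟨y, hy⟩
    rw [hQ, Subgroup.mem_comap] at hy
    obtain ⟨a, ha⟩ := (Cfsg.Agent.Lib.Helper1.pCore_isPGroup (G := (Y ⧸ Φ) ⧸
      Subgroup.centralizer (P₂ : Set (Y ⧸ Φ))) p) ⟨ψ y, hy⟩
    have ha' : ψ (y ^ p ^ a) = 1 := by
      rw [map_pow]
      simpa using congrArg Subtype.val ha
    obtain ⟨b, hb⟩ := hPp ⟨y ^ p ^ a, hkerP _ ha'⟩
    have hb' : (y ^ p ^ a) ^ p ^ b = 1 := by simpa using congrArg Subtype.val hb
    refine ⟨a + b, Subtype.ext ?_⟩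
    simp only [Subgroup.coe_pow, Subgroup.coe_one]
    rw [pow_add, pow_mul]
    exact hb'
  have hQP : Q ≤ P := by
    rw [hP]; exact Cfsg.Agent.Lib.Helper1.le_pCore hQn hQp
  exact hQP hxQ

end Cfsg.Agent.Lib.Helper11.CyclicDerived
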