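import Mathlib
import Cfsg.Agent.Lib.Helper11.CyclicTIUnique
import Cfsg.Agent.Lib.Helper11.GaloisConj
import Cfsg.Agent.Lib.Helper11.GaloisRat
import Cfsg.Agent.Lib.Helper11.CyclicTI
import Cfsg.Agent.Lib.helper7.Induction

set_option autoImplicit false
set_option linter.style.haveILetI false
open scoped ComplexConjugate

namespace Cfsg.Agent.Lib.Helper11

open Cfsg.Agent.Lib.helper7

/-- induction of class functions commutes with field automorphisms of `ℂ` -/
theorem indFun_ringAut {G : Type*} [Group G] [Fintype G] (H : Subgroup G) (σ : ℂ ≃+* ℂ)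
    (θ : H → ℂ) :
    Cfsg.indFun H (fun h => σ (θ h)) = fun g => σ (Cfsg.indFun H θ g) := by
  funext g
  unfold Cfsg.indFun
  rw [map_mul, map_inv₀, map_natCast, map_sum]
  congr 1
  refine Finset.sum_congr rfl fun x _ => ?_
  by_cases hx : x⁻¹ * g * x ∈ H
  · rw [h7_extendByZero_mem H _ _ hx, h7_extendByZero_mem H _ _ hx]
  · rw [h7_extendByZero_not_mem H _ _ hx, h7_extendByZero_not_mem H _ _ hx, map_zero]

/-- the action of a field automorphism on linear characters -/
noncomputable def twist {W : Type*} [Group W] (τ : ℂ ≃+* ℂ) (ω : W →* ℂˣ) : W →* ℂˣ :=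
  (Units.map (τ : ℂ →* ℂ)).comp ω

theorem twist_apply {W : Type*} [Group W] (τ : ℂ ≃+* ℂ) (ω : W →* ℂˣ) (w : W) :
    ((twist τ ω w : ℂˣ) : ℂ) = τ (ω w : ℂ) := rfl

theorem twist_one {W : Type*} [Group W] (τ : ℂ ≃+* ℂ) : twist τ (1 : W →* ℂˣ) = 1 := by
  ext w
  rw [twist_apply]
  simp

theorem twist_mul {W : Type*} [Group W] (τ : ℂ ≃+* ℂ) (φ ψ : W →* ℂˣ) :
    twist τ (φ * ψ) = twist τ φ * twist τ ψ := by
  ext w
  rw [twist_apply]
  simp [twist_apply]

theorem twist_injective {W : Type*} [Group W] (τ : ℂ ≃+* ℂ) :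
    Function.Injective (twist τ : (W →* ℂˣ) → (W →* ℂˣ)) := by
  intro φ ψ h
  ext w
  have := congrArg (fun η : W →* ℂˣ => ((η w : ℂˣ) : ℂ)) h
  simp only [twist_apply] at this
  exact τ.injective this

theorem twist_apply_eq_one_iff {W : Type*} [Group W] (τ : ℂ ≃+* ℂ) (ω : W →* ℂˣ) (w : W) :
    twist τ ω w = 1 ↔ ω w = 1 := by
  constructor
  · intro h
    have := congrArg (fun u : ℂˣ => (u : ℂ)) h
    simp only [twist_apply, Units.val_one] at this
    have h2 : τ (ω w : ℂ) = τ 1 := by rw [this, map_one]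
    exact Units.ext (τ.injective h2)
  · intro h
    apply Units.ext
    rw [twist_apply, h]
    simp

/-- Galois equivariance of a cyclic TI family. -/
theorem cyclicTI_galois {G : Type*} [Group G] [Fintype G] (W₁ W₂ : Subgroup G)
    (hW : Cfsg.IsSelfNormalizingCyclic W₁ W₂) (hodd : Odd (Nat.card ↥(W₁ ⊔ W₂)))
    (χ : (↥(W₁ ⊔ W₂) →* ℂˣ) → (G → ℂ)) (hχ : Cfsg.IsCyclicTIFamily W₁ W₂ χ)
    (τ : ℂ ≃+* ℂ) (ω : ↥(W₁ ⊔ W₂) →* ℂˣ) :
    χ (twist τ ω) = fun g => τ (χ ω g) := by
  classical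
  set α' : (↥(W₁ ⊔ W₂) →* ℂˣ) → (G → ℂ) := fun ω g => τ.symm (χ (twist τ ω) g) with hα'def
  have hsi : ∀ ω, IsSignedIrr G (χ ω) := fun ω => hχ.irr_or_neg ω
  have hsi' : ∀ ω, IsSignedIrr G (α' ω) := by
    intro ω
    rcases hχ.irr_or_neg (twist τ ω) with h | h
    · left; exact isIrrCharacter_ringAut τ.symm h
    · right
      have := isIrrCharacter_ringAut τ.symm h
      convert this using 1
      funext g
      simp [hα'def]
  have horth : ∀ ω ω', ω ≠ ω' → Cfsg.classInner (χ ω) (χ ω') = 0 := by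
    intro ω ω' h
    rw [hχ.orthonormal, if_neg h]
  have hinj : ∀ a b, χ a = χ b → a = b := by
    intro a b h
    by_contra hne
    have h1 := hχ.orthonormal a b
    rw [if_neg hne, h, signedIrr_norm (hsi b)] at h1
    exact one_ne_zero h1
  have hneg : ∀ a b, χ a ≠ -χ b := by
    intro a b h
    have h1 := hχ.orthonormal a b
    rw [h, classInner_neg_left, signedIrr_norm (hsi b)] at h1
    split_ifs at h1 <;> norm_num at h1
  have horth' : ∀ ω ω', ω ≠ ω' → Cfsg.classInner (α' ω) (α' ω') = 0 := by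
    intro ω ω' h
    rcases signedIrr_inner (hsi' ω) (hsi' ω') with h0 | ⟨-, h0⟩ | ⟨-, h0⟩
    · exact h0
    · exfalso
      apply h
      apply twist_injective τ
      apply hinj
      funext g
      have := congrFun h0 g
      simp only [hα'def] at this
      exact τ.symm.injective this
    · exfalso
      apply hneg (twist τ ω) (twist τ ω')
      funext g
      have := congrFun h0 g
      simp only [hα'def, Pi.neg_apply] at this
      rw [← map_neg] at this
      exact τ.symm.injective this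
  have h1 : χ 1 = α' 1 := by
    funext g
    simp only [hα'def, twist_one, hχ.map_one, map_one]
  have hid : ∀ φ ψ : ↥(W₁ ⊔ W₂) →* ℂˣ, φ ≠ 1 → ψ ≠ 1 →
      (∀ w : ↥(W₁ ⊔ W₂), (w : G) ∈ W₂ → φ w = 1) →
      (∀ w : ↥(W₁ ⊔ W₂), (w : G) ∈ W₁ → ψ w = 1) →
      χ φ + χ ψ - χ (φ * ψ) = α' φ + α' ψ - α' (φ * ψ) := by
    intro φ ψ _ _ hφ hψ
    have e1 := ind_betaFun W₁ W₂ χ hχ φ ψ hφ hψ
    have e2 := ind_betaFun W₁ W₂ χ hχ (twist τ φ) (twist τ ψ)
      (fun w hw => (twist_apply_eq_one_iff τ φ w).mpr (hφ w hw))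
      (fun w hw => (twist_apply_eq_one_iff τ ψ w).mpr (hψ w hw))
    have e3 : betaFun (twist τ φ) (twist τ ψ) = fun w => τ (betaFun φ ψ w) := by
      funext w
      simp only [betaFun, twist_apply, map_add, map_sub, map_mul, map_one]
    rw [e3, indFun_ringAut, e1] at e2
    funext g
    have e4 := congrFun e2 g
    simp only [map_add, map_sub, map_one] at e4
    simp only [Pi.add_apply, Pi.sub_apply, hα'def, twist_mul]
    have e5 : χ (twist τ φ) g + χ (twist τ ψ) g - χ (twist τ φ * twist τ ψ) g =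
        τ (χ φ g + χ ψ g - χ (φ * ψ) g) := by
      simp only [map_add, map_sub]
      linear_combination e4
    rw [← map_add, ← map_sub, e5, RingEquiv.symm_apply_apply]
  have hmain := family_match W₁ W₂ hW hodd χ α' hsi hsi' horth horth' h1 hid
  funext g
  have := congrFun (congrFun hmain ω) g
  simp only [hα'def] at this
  rw [this, RingEquiv.apply_symm_apply]

end Cfsg.Agent.Lib.Helper11
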