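import Mathlib
import Cfsg.Prelude.Def_OddOrderLocal

set_option autoImplicit false

namespace Cfsg.Agent.Lib.Helper11

theorem mem_normalizer_singleton_iff {G : Type*} [Group G] (a g : G) :
    g ∈ Subgroup.normalizer ({a} : Set G) ↔ g * a * g⁻¹ = a := by
  rw [Subgroup.mem_set_normalizer_iff]
  constructor
  · intro h
    exact (h a).mp rfl
  · intro h b
    simp only [Set.mem_singleton_iff]
    constructor
    · intro hb; rw [hb, h]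
    · intro hb
      have : g * b * g⁻¹ = g * a * g⁻¹ := by rw [hb, h]
      rw [mul_assoc, mul_assoc] at this
      exact mul_right_cancel (mul_left_cancel this)

/-- conjugation by an element normalizing a cyclic subgroup acts as a power map -/
theorem exists_zpow_of_conj_mem {G : Type*} [Group G] (W : Subgroup G) (hc : IsCyclic ↥W) (y : G)
    (hy : ∀ u ∈ W, y * u * y⁻¹ ∈ W) : ∃ k : ℤ, ∀ u ∈ W, y * u * y⁻¹ = u ^ k := by
  obtain ⟨g, hg⟩ := hc.exists_generator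
  have h1 := hy g g.2
  have h2 := hg ⟨y * g * y⁻¹, h1⟩
  rw [Subgroup.mem_zpowers_iff] at h2
  obtain ⟨k, hk⟩ := h2
  have hk' : (g : G) ^ k = y * g * y⁻¹ := by
    have := congrArg (Subtype.val) hk
    simpa using this
  refine ⟨k, ?_⟩
  intro u hu
  have h3 := hg ⟨u, hu⟩
  rw [Subgroup.mem_zpowers_iff] at h3
  obtain ⟨m, hm⟩ := h3
  have hm' : (g : G) ^ m = u := by
    have := congrArg (Subtype.val) hm
    simpa using this
  rw [← hm', ← zpow_mul, mul_comm, zpow_mul, hk']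
  simp [conj_zpow]

theorem conj_mem_of_cyclic {G : Type*} [Group G] (W A : Subgroup G) (hc : IsCyclic ↥W) (y : G)
    (hy : ∀ u ∈ W, y * u * y⁻¹ ∈ W) (u : G) (hu : u ∈ W) (hA : u ∈ A) : y * u * y⁻¹ ∈ A := by
  obtain ⟨k, hk⟩ := exists_zpow_of_conj_mem W hc y hy
  rw [hk u hu]
  exact A.zpow_mem hA k

/-- the TI property of `W \ (W₁ ∪ W₂)`: if `w` and `x⁻¹ w x` both lie in it then `x ∈ W` -/
theorem mem_of_conj_mem_off {G : Type*} [Group G] (W₁ W₂ : Subgroup G)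
    (hW : Cfsg.IsSelfNormalizingCyclic W₁ W₂) (w x : G)
    (hw : w ∈ W₁ ⊔ W₂) (hw1 : w ∉ W₁) (hw2 : w ∉ W₂)
    (hc : x⁻¹ * w * x ∈ W₁ ⊔ W₂) (hc1 : x⁻¹ * w * x ∉ W₁) (hc2 : x⁻¹ * w * x ∉ W₂) :
    x ∈ W₁ ⊔ W₂ := by
  obtain ⟨-, -, -, -, hcyc, hN⟩ := hW
  have hab : ∀ a ∈ W₁ ⊔ W₂, ∀ b ∈ W₁ ⊔ W₂, a * b = b * a := by
    intro a ha b hb
    have := @IsCyclic.isMulCommutative _ _ hcyc
    have h := mul_comm' (⟨a, ha⟩ : ↥(W₁ ⊔ W₂)) ⟨b, hb⟩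
    exact congrArg Subtype.val h
  have hNw : Subgroup.normalizer ({w} : Set G) = W₁ ⊔ W₂ := by
    apply hN
    · intro z hz
      rw [Set.mem_singleton_iff] at hz
      subst hz
      refine ⟨hw, ?_⟩
      rintro (h | h)
      · exact hw1 h
      · exact hw2 h
    · exact ⟨w, rfl⟩
  have hNw' : Subgroup.normalizer ({x⁻¹ * w * x} : Set G) = W₁ ⊔ W₂ := by
    apply hN
    · intro z hz
      rw [Set.mem_singleton_iff] at hz
      subst hz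
      refine ⟨hc, ?_⟩
      rintro (h | h)
      · exact hc1 h
      · exact hc2 h
    · exact ⟨_, rfl⟩
  -- x normalizes W in both directions
  have hx1 : ∀ u ∈ W₁ ⊔ W₂, x * u * x⁻¹ ∈ W₁ ⊔ W₂ := by
    intro u hu
    rw [← hNw, mem_normalizer_singleton_iff]
    have h1 := hab u hu _ hc
    have : x * u * x⁻¹ * w * (x * u * x⁻¹)⁻¹ = x * (u * (x⁻¹ * w * x) * u⁻¹) * x⁻¹ := by group
    rw [this, h1]
    group
  have hx2 : ∀ u ∈ W₁ ⊔ W₂, x⁻¹ * u * x⁻¹⁻¹ ∈ W₁ ⊔ W₂ := by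
    intro u hu
    rw [← hNw', mem_normalizer_singleton_iff]
    have h1 := hab u hu _ hw
    have : x⁻¹ * u * x⁻¹⁻¹ * (x⁻¹ * w * x) * (x⁻¹ * u * x⁻¹⁻¹)⁻¹ = x⁻¹ * (u * w * u⁻¹) * x := by group
    rw [this, h1]
    group
  -- x normalizes V
  have hV : ∀ y : G, (∀ u ∈ W₁ ⊔ W₂, y * u * y⁻¹ ∈ W₁ ⊔ W₂) →
      (∀ u ∈ W₁ ⊔ W₂, y⁻¹ * u * y⁻¹⁻¹ ∈ W₁ ⊔ W₂) →
      ∀ h ∈ (↑(W₁ ⊔ W₂) : Set G) \ (↑W₁ ∪ ↑W₂), y * h * y⁻¹ ∈ (↑(W₁ ⊔ W₂) : Set G) \ (↑W₁ ∪ ↑W₂) := by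
    intro y hy1 hy2 h hh
    refine ⟨hy1 h hh.1, ?_⟩
    rintro (h1 | h1)
    · apply hh.2
      left
      have := conj_mem_of_cyclic (W₁ ⊔ W₂) W₁ hcyc y⁻¹ hy2 (y * h * y⁻¹) (hy1 h hh.1) h1
      have e : y⁻¹ * (y * h * y⁻¹) * y⁻¹⁻¹ = h := by group
      rw [e] at this
      exact this
    · apply hh.2
      right
      have := conj_mem_of_cyclic (W₁ ⊔ W₂) W₂ hcyc y⁻¹ hy2 (y * h * y⁻¹) (hy1 h hh.1) h1
      have e : y⁻¹ * (y * h * y⁻¹) * y⁻¹⁻¹ = h := by group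
      rw [e] at this
      exact this
  have hNV : Subgroup.normalizer ((↑(W₁ ⊔ W₂) : Set G) \ (↑W₁ ∪ ↑W₂)) = W₁ ⊔ W₂ := by
    apply hN _ subset_rfl
    refine ⟨w, hw, ?_⟩
    rintro (h | h)
    · exact hw1 h
    · exact hw2 h
  rw [← hNV, Subgroup.mem_set_normalizer_iff]
  intro h
  constructor
  · exact hV x hx1 hx2 h
  · intro hh
    have := hV x⁻¹ hx2 (by simpa using hx1) _ hh
    have e : x⁻¹ * (x * h * x⁻¹) * x⁻¹⁻¹ = h := by group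
    rw [e] at this
    exact this

end Cfsg.Agent.Lib.Helper11
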