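import Mathlib
import Cfsg.Prelude.Def_OddOrderLocal
import Cfsg.Prelude.Def_OddOrderChar
import Cfsg.Agent.Lib.Helper11.CyclicTISet
import Cfsg.Agent.Lib.Helper11.LinChar

set_option autoImplicit false
open scoped ComplexConjugate

namespace Cfsg.Agent.Lib.Helper11

open Cfsg.Agent.Lib.helper7

/-- a function on `W` vanishing on `W₁ ∪ W₂` induces to a function agreeing with it on
`W \ (W₁ ∪ W₂)` -/
theorem indFun_off {G : Type*} [Group G] [Fintype G] (W₁ W₂ : Subgroup G)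
    (hW : Cfsg.IsSelfNormalizingCyclic W₁ W₂) (β : ↥(W₁ ⊔ W₂) → ℂ)
    (hβ1 : ∀ w : ↥(W₁ ⊔ W₂), (w : G) ∈ W₁ → β w = 0)
    (hβ2 : ∀ w : ↥(W₁ ⊔ W₂), (w : G) ∈ W₂ → β w = 0)
    (w : ↥(W₁ ⊔ W₂)) (hw1 : (w : G) ∉ W₁) (hw2 : (w : G) ∉ W₂) :
    Cfsg.indFun (W₁ ⊔ W₂) β (w : G) = β w := by
  classical
  have hcyc := hW.2.2.2.2.1
  have hab : ∀ a ∈ W₁ ⊔ W₂, ∀ b ∈ W₁ ⊔ W₂, a * b = b * a := by
    intro a ha b hb
    have := @IsCyclic.isMulCommutative _ _ hcyc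
    have h := mul_comm' (⟨a, ha⟩ : ↥(W₁ ⊔ W₂)) ⟨b, hb⟩
    exact congrArg Subtype.val h
  unfold Cfsg.indFun
  have h1 : ∀ x : G, Cfsg.extendByZero (W₁ ⊔ W₂) β (x⁻¹ * (w : G) * x) =
      if x ∈ W₁ ⊔ W₂ then β w else 0 := by
    intro x
    by_cases hx : x ∈ W₁ ⊔ W₂
    · rw [if_pos hx]
      have : x⁻¹ * (w : G) * x = (w : G) := by
        rw [mul_assoc, hab (w : G) w.2 x hx, ← mul_assoc, inv_mul_cancel, one_mul]
      rw [this, h7_extendByZero_coe]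
    · rw [if_neg hx]
      by_cases hc : x⁻¹ * (w : G) * x ∈ W₁ ⊔ W₂
      · rw [h7_extendByZero_mem _ _ _ hc]
        by_cases hc1 : x⁻¹ * (w : G) * x ∈ W₁
        · exact hβ1 _ hc1
        · by_cases hc2 : x⁻¹ * (w : G) * x ∈ W₂
          · exact hβ2 _ hc2
          · exact absurd (mem_of_conj_mem_off W₁ W₂ hW (w : G) x w.2 hw1 hw2 hc hc1 hc2) hx
      · rw [h7_extendByZero_not_mem _ _ _ hc]
  simp only [h1]
  rw [Finset.sum_ite, Finset.sum_const_zero, add_zero, Finset.sum_const, nsmul_eq_mul]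
  have hcard : (Finset.univ.filter (fun x : G => x ∈ W₁ ⊔ W₂)).card = Nat.card ↥(W₁ ⊔ W₂) := by
    rw [Nat.card_eq_fintype_card, Fintype.card_subtype]
  rw [hcard]
  have hne : (Nat.card ↥(W₁ ⊔ W₂) : ℂ) ≠ 0 := by exact_mod_cast Nat.card_pos.ne'
  field_simp

end Cfsg.Agent.Lib.Helper11
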