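import Mathlib

set_option autoImplicit false

namespace Cfsg.Agent.Lib.Helper11.DadeVirtA

variable {G : Type*} [Group G] [Fintype G]

open Classical in
/-- the number of `x` with `x g x⁻¹ ∈ a K` -/
noncomputable def cnt (K : Subgroup G) (a g : G) : ℕ :=
  (Finset.univ.filter (fun x : G => a⁻¹ * (x * g * x⁻¹) ∈ K)).card

open Classical in
/-- coprime action by counting: every element of the coset `a K` is `K`-conjugate into `a C` -/
theorem exists_conj_mem (K C : Subgroup G) (a : G) (hCK : C ≤ K)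
    (hnorm : ∀ k ∈ K, a⁻¹ * k * a ∈ K)
    (hC2 : ∀ t ∈ K, t * a = a * t → t ∈ C)
    (hpart : ∀ t ∈ K, ∀ u ∈ C, ∀ u' ∈ C, t * (a * u) * t⁻¹ = a * u' → t * a * t⁻¹ = a)
    (h : G) (hh : h ∈ K) : ∃ k ∈ K, ∃ u ∈ C, k * (a * u) * k⁻¹ = a * h := by
  have hmem : ∀ p : K × C, a⁻¹ * ((p.1 : G) * (a * (p.2 : G)) * (p.1 : G)⁻¹) ∈ K := by
    intro p
    have h1 : a⁻¹ * ((p.1 : G) * (a * (p.2 : G)) * (p.1 : G)⁻¹) =
        (a⁻¹ * (p.1 : G) * a) * (p.2 : G) * (p.1 : G)⁻¹ := by group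
    rw [h1]
    exact K.mul_mem (K.mul_mem (hnorm _ p.1.2) (hCK p.2.2)) (K.inv_mem p.1.2)
  let f : K × C → K := fun p => ⟨_, hmem p⟩
  have hfib : ∀ y ∈ (Finset.univ : Finset (K × C)).image f,
      ((Finset.univ : Finset (K × C)).filter (fun p => f p = y)).card ≤ Fintype.card C := by
    intro y hy
    obtain ⟨p₀, -, hp₀⟩ := Finset.mem_image.mp hy
    have hkey : ∀ p : K × C, f p = y → (p₀.1 : G)⁻¹ * (p.1 : G) ∈ C := by
      intro p hp
      have h1 : (p.1 : G) * (a * (p.2 : G)) * (p.1 : G)⁻¹ =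
          (p₀.1 : G) * (a * (p₀.2 : G)) * (p₀.1 : G)⁻¹ := by
        have := congrArg (fun z : K => a * (z : G)) (hp.trans hp₀.symm)
        simpa [f, mul_assoc] using this
      have ht : (p₀.1 : G)⁻¹ * (p.1 : G) ∈ K := K.mul_mem (K.inv_mem p₀.1.2) p.1.2
      have h2 : ((p₀.1 : G)⁻¹ * (p.1 : G)) * (a * (p.2 : G)) * ((p₀.1 : G)⁻¹ * (p.1 : G))⁻¹ =
          a * (p₀.2 : G) := by
        calc ((p₀.1 : G)⁻¹ * (p.1 : G)) * (a * (p.2 : G)) * ((p₀.1 : G)⁻¹ * (p.1 : G))⁻¹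
            = (p₀.1 : G)⁻¹ * ((p.1 : G) * (a * (p.2 : G)) * (p.1 : G)⁻¹) * (p₀.1 : G) := by group
          _ = (p₀.1 : G)⁻¹ * ((p₀.1 : G) * (a * (p₀.2 : G)) * (p₀.1 : G)⁻¹) * (p₀.1 : G) := by
              rw [h1]
          _ = a * (p₀.2 : G) := by group
      have h3 := hpart _ ht _ p.2.2 _ p₀.2.2 h2
      apply hC2 _ ht
      calc (p₀.1 : G)⁻¹ * (p.1 : G) * a
          = ((p₀.1 : G)⁻¹ * (p.1 : G) * a * ((p₀.1 : G)⁻¹ * (p.1 : G))⁻¹) *
            ((p₀.1 : G)⁻¹ * (p.1 : G)) := by group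
        _ = a * ((p₀.1 : G)⁻¹ * (p.1 : G)) := by rw [h3]
    rw [← Finset.card_univ]
    apply Finset.card_le_card_of_injOn
      (fun p => if hp : f p = y then (⟨_, hkey p hp⟩ : C) else 1)
    · intro p _
      exact Finset.mem_univ _
    · intro p hp q hq hpq
      have hp' : f p = y := (Finset.mem_filter.mp hp).2
      have hq' : f q = y := (Finset.mem_filter.mp hq).2
      simp only [dif_pos hp', dif_pos hq'] at hpq
      have h1 : (p.1 : G) = (q.1 : G) := by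
        have := congrArg Subtype.val hpq
        simpa using this
      have h2 : (p.1 : G) * (a * (p.2 : G)) * (p.1 : G)⁻¹ =
          (q.1 : G) * (a * (q.2 : G)) * (q.1 : G)⁻¹ := by
        have := congrArg (fun z : K => a * (z : G)) (hp'.trans hq'.symm)
        simpa [f, mul_assoc] using this
      rw [h1] at h2
      have h3 : (p.2 : G) = (q.2 : G) := by
        have h4 := mul_right_cancel h2
        have h5 := mul_left_cancel h4
        exact mul_left_cancel h5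
      exact Prod.ext (Subtype.ext h1) (Subtype.ext h3)
  have h1 := Finset.card_le_mul_card_image (f := f) (Finset.univ : Finset (K × C))
    (Fintype.card C) hfib
  rw [Finset.card_univ, Fintype.card_prod, mul_comm] at h1
  have hCpos : 0 < Fintype.card C := Fintype.card_pos
  have h2 : Fintype.card K ≤ ((Finset.univ : Finset (K × C)).image f).card :=
    Nat.le_of_mul_le_mul_left h1 hCpos
  have h3 : (Finset.univ : Finset (K × C)).image f = Finset.univ := by
    apply Finset.eq_univ_of_card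
    exact le_antisymm (Finset.card_le_univ _) h2
  have h4 : (⟨h, hh⟩ : K) ∈ (Finset.univ : Finset (K × C)).image f := by
    rw [h3]; exact Finset.mem_univ _
  obtain ⟨p, -, hp⟩ := Finset.mem_image.mp h4
  refine ⟨p.1, p.1.2, p.2, p.2.2, ?_⟩
  have := congrArg (fun z : K => a * (z : G)) hp
  simpa [f, mul_assoc] using this

open Classical in
/-- for fixed `y`, the number of `k ∈ K` conjugating `y` into `a C` -/
theorem card_conj_into (K C : Subgroup G) (a : G) (hCK : C ≤ K)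
    (hnorm : ∀ k ∈ K, a⁻¹ * k * a ∈ K)
    (hC1 : ∀ u ∈ C, a * u = u * a)
    (hC2 : ∀ t ∈ K, t * a = a * t → t ∈ C)
    (hpart : ∀ t ∈ K, ∀ u ∈ C, ∀ u' ∈ C, t * (a * u) * t⁻¹ = a * u' → t * a * t⁻¹ = a)
    (y : G) :
    ((Finset.univ : Finset K).filter (fun k : K => a⁻¹ * ((k : G)⁻¹ * y * (k : G)) ∈ C)).card =
      if a⁻¹ * y ∈ K then Fintype.card C else 0 := by
  by_cases hy : a⁻¹ * y ∈ K
  · rw [if_pos hy]
    obtain ⟨k₀, hk₀, u₀, hu₀, hku⟩ := exists_conj_mem K C a hCK hnorm hC2 hpart (a⁻¹ * y) hy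
    have hy' : y = k₀ * (a * u₀) * k₀⁻¹ := by
      rw [hku]; group
    rw [← Finset.card_univ]
    symm
    apply Finset.card_bij (fun (t : C) _ => (⟨k₀ * (t : G), K.mul_mem hk₀ (hCK t.2)⟩ : K))
    · intro t _
      rw [Finset.mem_filter]
      refine ⟨Finset.mem_univ _, ?_⟩
      have hta : a * (t : G) = (t : G) * a := hC1 _ t.2
      have hta' : (t : G)⁻¹ * a = a * (t : G)⁻¹ := by
        calc (t : G)⁻¹ * a = (t : G)⁻¹ * (a * (t : G)) * (t : G)⁻¹ := by group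
          _ = (t : G)⁻¹ * ((t : G) * a) * (t : G)⁻¹ := by rw [hta]
          _ = a * (t : G)⁻¹ := by group
      have h1 : a⁻¹ * ((k₀ * (t : G))⁻¹ * y * (k₀ * (t : G))) =
          (t : G)⁻¹ * u₀ * (t : G) := by
        rw [hy']
        calc a⁻¹ * ((k₀ * (t : G))⁻¹ * (k₀ * (a * u₀) * k₀⁻¹) * (k₀ * (t : G)))
            = a⁻¹ * (((t : G)⁻¹ * a) * u₀ * (t : G)) := by group
          _ = a⁻¹ * ((a * (t : G)⁻¹) * u₀ * (t : G)) := by rw [hta']
          _ = (t : G)⁻¹ * u₀ * (t : G) := by group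
      show a⁻¹ * ((k₀ * (t : G))⁻¹ * y * (k₀ * (t : G))) ∈ C
      rw [h1]
      exact C.mul_mem (C.mul_mem (C.inv_mem t.2) hu₀) t.2
    · intro t _ t' _ htt
      have := congrArg Subtype.val htt
      simp only at this
      exact Subtype.ext (mul_left_cancel this)
    · intro k hk
      have hk' : a⁻¹ * ((k : G)⁻¹ * y * (k : G)) ∈ C := (Finset.mem_filter.mp hk).2
      have ht : (k : G)⁻¹ * k₀ ∈ K := K.mul_mem (K.inv_mem k.2) hk₀
      have h2 : ((k : G)⁻¹ * k₀) * (a * u₀) * ((k : G)⁻¹ * k₀)⁻¹ =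
          a * (a⁻¹ * ((k : G)⁻¹ * y * (k : G))) := by
        rw [hy']; group
      have h3 := hpart _ ht _ hu₀ _ hk' h2
      have h4 : (k : G)⁻¹ * k₀ ∈ C := by
        apply hC2 _ ht
        calc (k : G)⁻¹ * k₀ * a
            = ((k : G)⁻¹ * k₀ * a * ((k : G)⁻¹ * k₀)⁻¹) * ((k : G)⁻¹ * k₀) := by group
          _ = a * ((k : G)⁻¹ * k₀) := by rw [h3]
      have h5 : k₀⁻¹ * (k : G) ∈ C := by
        have := C.inv_mem h4
        simpa using this
      refine ⟨⟨_, h5⟩, Finset.mem_univ _, ?_⟩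
      apply Subtype.ext
      show k₀ * (k₀⁻¹ * (k : G)) = (k : G)
      group
  · rw [if_neg hy]
    rw [Finset.card_eq_zero, Finset.filter_eq_empty_iff]
    intro k _ hk
    apply hy
    have h1 : a⁻¹ * y = (a⁻¹ * (k : G) * a) * (a⁻¹ * ((k : G)⁻¹ * y * (k : G))) * (k : G)⁻¹ := by
      group
    rw [h1]
    exact K.mul_mem (K.mul_mem (hnorm _ k.2) (hCK hk)) (K.inv_mem k.2)

open Classical in
/-- the counting reduction: `cnt K / |K| = cnt C / |C|` -/
theorem cnt_reduce (K C : Subgroup G) (a : G) (hCK : C ≤ K)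
    (hnorm : ∀ k ∈ K, a⁻¹ * k * a ∈ K)
    (hC1 : ∀ u ∈ C, a * u = u * a)
    (hC2 : ∀ t ∈ K, t * a = a * t → t ∈ C)
    (hpart : ∀ t ∈ K, ∀ u ∈ C, ∀ u' ∈ C, t * (a * u) * t⁻¹ = a * u' → t * a * t⁻¹ = a)
    (g : G) :
    cnt K a g * Fintype.card C = cnt C a g * Fintype.card K := by
  have h1 : ∑ k : K, ∑ x : G,
      (if a⁻¹ * ((k : G)⁻¹ * (x * g * x⁻¹) * (k : G)) ∈ C then 1 else 0) =
      cnt C a g * Fintype.card K := by
    have h2 : ∀ k : K, ∑ x : G,
        (if a⁻¹ * ((k : G)⁻¹ * (x * g * x⁻¹) * (k : G)) ∈ C then 1 else 0) = cnt C a g := by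
      intro k
      unfold cnt
      rw [Finset.card_filter]
      apply Fintype.sum_equiv (Equiv.mulLeft (k : G)⁻¹)
      intro x
      have : (Equiv.mulLeft (k : G)⁻¹ x) * g * (Equiv.mulLeft (k : G)⁻¹ x)⁻¹ =
          (k : G)⁻¹ * (x * g * x⁻¹) * (k : G) := by
        simp only [Equiv.coe_mulLeft]
        group
      rw [this]
    rw [Finset.sum_congr rfl (fun k _ => h2 k), Finset.sum_const, Finset.card_univ, smul_eq_mul,
      mul_comm]
  rw [← h1, Finset.sum_comm]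
  have h3 : ∀ x : G, ∑ k : K,
      (if a⁻¹ * ((k : G)⁻¹ * (x * g * x⁻¹) * (k : G)) ∈ C then 1 else 0) =
      if a⁻¹ * (x * g * x⁻¹) ∈ K then Fintype.card C else 0 := by
    intro x
    rw [← Finset.card_filter]
    exact card_conj_into K C a hCK hnorm hC1 hC2 hpart (x * g * x⁻¹)
  rw [Finset.sum_congr rfl (fun x _ => h3 x)]
  unfold cnt
  rw [Finset.card_filter, Finset.sum_mul]
  apply Finset.sum_congr rfl
  intro x _
  split_ifs <;> simp

end Cfsg.Agent.Lib.Helper11.DadeVirtA
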