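import Mathlib
import Cfsg.Prelude.Def_OddOrderChar
import Cfsg.Agent.Lib.Helper11.Dade
import Cfsg.Agent.Lib.Helper11.DadeVirtA

set_option autoImplicit false

namespace Cfsg.Agent.Lib.Helper11.DadeVirtB

open Cfsg.Agent.Lib.Helper11 Cfsg.Agent.Lib.Helper11.DadeVirtA

variable {G : Type*} [Group G] {A : Set G} {L : Subgroup G} {H : G → Subgroup G}

/-- intersection of the supporting subgroups over a finite set -/
def HB (H : G → Subgroup G) (B : Finset G) : Subgroup G := ⨅ b ∈ B, H b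

theorem mem_HB {B : Finset G} {h : G} : h ∈ HB H B ↔ ∀ b ∈ B, h ∈ H b := by
  unfold HB
  simp [Subgroup.mem_iInf]

theorem HB_insert [DecidableEq G] (a : G) (B : Finset G) :
    HB H (insert a B) = H a ⊓ HB H B := by
  unfold HB
  rw [Finset.iInf_insert]

/-- the normalizer in `L` of a finite set -/
def NB (L : Subgroup G) (B : Finset G) : Subgroup G := L ⊓ Subgroup.normalizer (↑B : Set G)

theorem mem_NB {B : Finset G} {l : G} :
    l ∈ NB L B ↔ l ∈ L ∧ ∀ n, n ∈ B ↔ l * n * l⁻¹ ∈ B := by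
  unfold NB
  rw [Subgroup.mem_inf, Subgroup.mem_set_normalizer_iff]
  simp only [Finset.mem_coe]

theorem conj_mem_HB [Finite G] (hD : Cfsg.DadeHypothesis A L H) {B : Finset G}
    (hBA : ∀ b ∈ B, b ∈ A) {l h : G} (hl : l ∈ NB L B) (hh : h ∈ HB H B) :
    l * h * l⁻¹ ∈ HB H B := by
  rw [mem_HB]
  intro b hb
  have hl' : l⁻¹ ∈ NB L B := (NB L B).inv_mem hl
  have hb' : l⁻¹ * b * l ∈ B := by
    have := ((mem_NB.mp hl').2 b).mp hb
    simpa using this
  have h1 : l * (l⁻¹ * b * l) * l⁻¹ = b := by group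
  have h2 := dade_conj_mem_H hD (hBA _ hb') (mem_HB.mp hh _ hb') l (by rw [h1]; exact hBA b hb)
  rw [h1] at h2
  exact h2

theorem conj_mem_HB' [Finite G] (hD : Cfsg.DadeHypothesis A L H) {B : Finset G}
    (hBA : ∀ b ∈ B, b ∈ A) {l h : G} (hl : l ∈ NB L B) (hh : h ∈ HB H B) :
    l⁻¹ * h * l ∈ HB H B := by
  have := conj_mem_HB hD hBA ((NB L B).inv_mem hl) hh
  simpa using this

theorem HB_inf_L [Finite G] (hD : Cfsg.DadeHypothesis A L H) {B : Finset G}
    (hBA : ∀ b ∈ B, b ∈ A) (hB : B.Nonempty) {h : G} (hh : h ∈ HB H B) (hL : h ∈ L) : h = 1 := by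
  obtain ⟨b, hb⟩ := hB
  exact dade_H_inf_L hD (hBA b hb) (mem_HB.mp hh b hb) hL

/-- an element of `HB B` commuting with `a ∈ A` lies in `H a` -/
theorem mem_H_of_comm [Finite G] (hD : Cfsg.DadeHypothesis A L H) {B : Finset G}
    (hBA : ∀ b ∈ B, b ∈ A) (hB : B.Nonempty) {a : G} (ha : a ∈ A) {t : G} (ht : t ∈ HB H B)
    (hta : t * a = a * t) : t ∈ H a := by
  obtain ⟨b, hb⟩ := hB
  have htb : t ∈ H b := mem_HB.mp ht b hb
  have hC : t ∈ Subgroup.centralizer ({a} : Set G) := by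
    rw [Subgroup.mem_centralizer_iff]
    intro h hh
    rw [Set.mem_singleton_iff.mp hh]
    exact hta.symm
  have hM : Subgroup.zpowers t ≤ H a ⊔ (L ⊓ Subgroup.centralizer ({a} : Set G)) := by
    rw [hD.sup_eq _ ha, Subgroup.zpowers_le]
    exact hC
  have hcop : (Nat.card (Subgroup.zpowers t)).Coprime
      (Nat.card ↥(L ⊓ Subgroup.centralizer ({a} : Set G))) := by
    rw [Nat.card_zpowers]
    exact Nat.Coprime.coprime_dvd_left (Subgroup.orderOf_dvd_natCard _ htb)
      (hD.coprime b (hBA b hb) a ha)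
  have := le_of_le_sup_of_coprime (H a) (L ⊓ Subgroup.centralizer ({a} : Set G))
    (Subgroup.zpowers t) (dade_CL_le_normalizer hD ha) (hD.inf_eq_bot _ ha) hM hcop
  exact this (Subgroup.mem_zpowers _)

open Classical in
theorem cnt_insert [Fintype G] (hD : Cfsg.DadeHypothesis A L H) {B : Finset G}
    (hBA : ∀ b ∈ B, b ∈ A) (hB : B.Nonempty) {a : G} (ha : a ∈ A)
    (haB : a ∈ Subgroup.normalizer (↑B : Set G)) (g : G) :
    cnt (HB H B) a g * Nat.card (HB H (insert a B)) =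
      cnt (HB H (insert a B)) a g * Nat.card (HB H B) := by
  rw [Nat.card_eq_fintype_card, Nat.card_eq_fintype_card]
  have haN : a ∈ NB L B := Subgroup.mem_inf.mpr ⟨hD.subset ha, haB⟩
  apply cnt_reduce
  · rw [HB_insert]
    exact inf_le_right
  · intro k hk
    exact conj_mem_HB' hD hBA haN hk
  · intro u hu
    rw [HB_insert] at hu
    exact dade_comm hD ha hu.1
  · intro t ht hta
    rw [HB_insert]
    exact ⟨mem_H_of_comm hD hBA hB ha ht hta, ht⟩
  · intro t _ u hu u' hu' h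
    rw [HB_insert] at hu hu'
    exact dade_part_unique hD ha ha hu.1 hu'.1 t h

end Cfsg.Agent.Lib.Helper11.DadeVirtB
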