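import Mathlib
import Cfsg.Prelude.Def_OddOrderChar
import Cfsg.Agent.Lib.Helper11.DadeVirtB
import Cfsg.Agent.Lib.Helper11.IndTrans
import Cfsg.Agent.Lib.helper2.CharInd
import Cfsg.Agent.Lib.helper2.CharNat

set_option autoImplicit false

namespace Cfsg.Agent.Lib.Helper11.DadeVirtC

open Cfsg.Agent.Lib.Helper11 Cfsg.Agent.Lib.Helper11.DadeVirtA Cfsg.Agent.Lib.Helper11.DadeVirtB
open Cfsg.Agent.Lib.helper7 Cfsg.Agent.Lib.helper2

variable {G : Type*} [Group G] {A : Set G} {L : Subgroup G} {H : G → Subgroup G}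

theorem NB_le_normalizer [Finite G] (hD : Cfsg.DadeHypothesis A L H) {B : Finset G}
    (hBA : ∀ b ∈ B, b ∈ A) :
    NB L B ≤ Subgroup.normalizer ((HB H B : Subgroup G) : Set G) := by
  intro l hl
  rw [Subgroup.mem_normalizer_iff]
  intro h
  constructor
  · intro hh
    exact conj_mem_HB hD hBA hl hh
  · intro hh
    have := conj_mem_HB' hD hBA hl hh
    simpa [mul_assoc] using this

theorem exists_decomp [Finite G] (hD : Cfsg.DadeHypothesis A L H) {B : Finset G}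
    (hBA : ∀ b ∈ B, b ∈ A) {m : G} (hm : m ∈ NB L B ⊔ HB H B) :
    ∃ l ∈ NB L B, l⁻¹ * m ∈ HB H B := by
  have h1 : m ∈ ((NB L B ⊔ HB H B : Subgroup G) : Set G) := hm
  rw [Subgroup.coe_mul_of_left_le_normalizer_right _ _ (NB_le_normalizer hD hBA)] at h1
  obtain ⟨l, hl, k, hk, rfl⟩ := Set.mem_mul.mp h1
  refine ⟨l, hl, ?_⟩
  have : l⁻¹ * (l * k) = k := by group
  rw [this]
  exact hk

theorem decomp_unique [Finite G] (hD : Cfsg.DadeHypothesis A L H) {B : Finset G}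
    (hBA : ∀ b ∈ B, b ∈ A) (hB : B.Nonempty) {m l l' : G} (hl : l ∈ NB L B) (hl' : l' ∈ NB L B)
    (h : l⁻¹ * m ∈ HB H B) (h' : l'⁻¹ * m ∈ HB H B) : l = l' := by
  have h1 : l'⁻¹ * l = (l'⁻¹ * m) * (l⁻¹ * m)⁻¹ := by group
  have h2 : l'⁻¹ * l ∈ HB H B := by
    rw [h1]
    exact (HB H B).mul_mem h' ((HB H B).inv_mem h)
  have h3 : l'⁻¹ * l ∈ L := L.mul_mem (L.inv_mem (mem_NB.mp hl').1) (mem_NB.mp hl).1
  have h4 := HB_inf_L hD hBA hB h2 h3
  rw [inv_mul_eq_one] at h4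
  exact h4.symm

theorem card_sup [Finite G] (hD : Cfsg.DadeHypothesis A L H) {B : Finset G}
    (hBA : ∀ b ∈ B, b ∈ A) (hB : B.Nonempty) :
    Nat.card ↥(NB L B ⊔ HB H B) = Nat.card (NB L B) * Nat.card (HB H B) := by
  rw [← Nat.card_prod]
  symm
  apply Nat.card_congr
  refine Equiv.ofBijective (fun p : NB L B × HB H B =>
    (⟨(p.1 : G) * (p.2 : G), Subgroup.mul_mem_sup p.1.2 p.2.2⟩ : ↥(NB L B ⊔ HB H B))) ⟨?_, ?_⟩
  · intro p q hpq
    have h1 : (p.1 : G) * (p.2 : G) = (q.1 : G) * (q.2 : G) := congrArg Subtype.val hpq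
    have h2 : (p.1 : G) = (q.1 : G) := by
      apply decomp_unique hD hBA hB p.1.2 q.1.2 (m := (p.1 : G) * (p.2 : G))
      · have : (p.1 : G)⁻¹ * ((p.1 : G) * (p.2 : G)) = (p.2 : G) := by group
        rw [this]; exact p.2.2
      · rw [h1]
        have : (q.1 : G)⁻¹ * ((q.1 : G) * (q.2 : G)) = (q.2 : G) := by group
        rw [this]; exact q.2.2
    rw [h2] at h1
    exact Prod.ext (Subtype.ext h2) (Subtype.ext (mul_left_cancel h1))
  · rintro ⟨m, hm⟩
    obtain ⟨l, hl, hk⟩ := exists_decomp hD hBA hm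
    refine ⟨(⟨l, hl⟩, ⟨l⁻¹ * m, hk⟩), ?_⟩
    apply Subtype.ext
    show l * (l⁻¹ * m) = m
    group

theorem indFun_sub_fun [Fintype G] (M : Subgroup G) (a b : M → ℂ) :
    Cfsg.indFun M (a - b) = Cfsg.indFun M a - Cfsg.indFun M b := by
  have h1 : a - b = a + (-1 : ℂ) • b := by
    funext m
    simp [sub_eq_add_neg]
  rw [h1, indFun_add, indFun_smul]
  funext g
  simp [sub_eq_add_neg]

open Classical in
theorem exists_F [Fintype G] [Fintype L] (hD : Cfsg.DadeHypothesis A L H) (α : L → ℂ)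
    (hα : Cfsg.IsGeneralizedCharacter L α) (hαA : ∀ x : L, (x : G) ∉ A → α x = 0)
    (B : Finset G) (hBA : ∀ b ∈ B, b ∈ A) (hB : B.Nonempty) :
    ∃ F : G → ℂ, Cfsg.IsGeneralizedCharacter G F ∧ ∀ g : G,
      F g = ((Nat.card (NB L B) : ℂ) * (Nat.card (HB H B) : ℂ))⁻¹ *
        ∑ a : G, (if a ∈ A ∧ a ∈ Subgroup.normalizer (↑B : Set G) then
          Cfsg.extendByZero L α a * (cnt (HB H B) a g : ℂ) else 0) := by
  have hex : ∀ m : ↥(NB L B ⊔ HB H B), ∃ l : L, (l : G) ∈ NB L B ∧ (l : G)⁻¹ * (m : G) ∈ HB H B := by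
    intro m
    obtain ⟨l, hl, hk⟩ := exists_decomp hD hBA m.2
    exact ⟨⟨l, (mem_NB.mp hl).1⟩, hl, hk⟩
  choose π hπ using hex
  have hπmul : ∀ m₁ m₂ : ↥(NB L B ⊔ HB H B), π (m₁ * m₂) = π m₁ * π m₂ := by
    intro m₁ m₂
    apply Subtype.ext
    apply decomp_unique hD hBA hB (hπ (m₁ * m₂)).1
      (m := ((m₁ * m₂ : ↥(NB L B ⊔ HB H B)) : G))
    · rw [Subgroup.coe_mul]
      exact (NB L B).mul_mem (hπ m₁).1 (hπ m₂).1
    · exact (hπ (m₁ * m₂)).2
    · have h1 : ((π m₁ * π m₂ : L) : G)⁻¹ * ((m₁ * m₂ : ↥(NB L B ⊔ HB H B)) : G) =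
          ((π m₂ : G)⁻¹ * ((π m₁ : G)⁻¹ * (m₁ : G)) * (π m₂ : G)) * ((π m₂ : G)⁻¹ * (m₂ : G)) := by
        simp only [Subgroup.coe_mul]
        group
      rw [h1]
      exact (HB H B).mul_mem (conj_mem_HB' hD hBA (hπ m₂).1 (hπ m₁).2) (hπ m₂).2
  let πhom : ↥(NB L B ⊔ HB H B) →* L := MonoidHom.mk' π hπmul
  obtain ⟨χ, ψ, hχ, hψ, rfl⟩ := hα
  refine ⟨Cfsg.indFun (NB L B ⊔ HB H B) (fun m => (χ - ψ) (π m)), ?_, ?_⟩
  · have h1 : (fun m : ↥(NB L B ⊔ HB H B) => (χ - ψ) (π m)) =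
        (fun m => χ (πhom m)) - (fun m => ψ (πhom m)) := by
      funext m
      rfl
    rw [h1, indFun_sub_fun]
    exact ⟨_, _, isCharacter_indFun _ _ (isCharacter_comp_hom hχ πhom),
      isCharacter_indFun _ _ (isCharacter_comp_hom hψ πhom), rfl⟩
  · intro g
    have hext : ∀ y : G, Cfsg.extendByZero (NB L B ⊔ HB H B) (fun m => (χ - ψ) (π m)) y =
        ∑ a : G, (if a ∈ A ∧ a ∈ Subgroup.normalizer (↑B : Set G) ∧ a⁻¹ * y ∈ HB H B then
          Cfsg.extendByZero L (χ - ψ) a else 0) := by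
      intro y
      by_cases hy : y ∈ NB L B ⊔ HB H B
      · rw [h7_extendByZero_mem _ _ y hy]
        have hl := hπ ⟨y, hy⟩
        rw [Finset.sum_eq_single ((π ⟨y, hy⟩ : L) : G)]
        · by_cases hA : ((π ⟨y, hy⟩ : L) : G) ∈ A
          · rw [if_pos ⟨hA, (Subgroup.mem_inf.mp hl.1).2, hl.2⟩, h7_extendByZero_coe]
          · rw [if_neg (fun h => hA h.1)]
            exact hαA _ hA
        · intro a _ ha
          rw [if_neg]
          rintro ⟨haA, haB, hay⟩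
          apply ha
          exact decomp_unique hD hBA hB (Subgroup.mem_inf.mpr ⟨hD.subset haA, haB⟩) hl.1 hay hl.2
        · intro h
          exact absurd (Finset.mem_univ _) h
      · rw [h7_extendByZero_not_mem _ _ y hy]
        symm
        apply Finset.sum_eq_zero
        intro a _
        rw [if_neg]
        rintro ⟨haA, haB, hay⟩
        apply hy
        have : y = a * (a⁻¹ * y) := by group
        rw [this]
        exact Subgroup.mul_mem_sup (Subgroup.mem_inf.mpr ⟨hD.subset haA, haB⟩) hay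
    unfold Cfsg.indFun
    rw [card_sup hD hBA hB]
    push_cast
    congr 1
    rw [Finset.sum_congr rfl (fun x _ => hext (x⁻¹ * g * x)), Finset.sum_comm]
    apply Finset.sum_congr rfl
    intro a _
    by_cases ha : a ∈ A ∧ a ∈ Subgroup.normalizer (↑B : Set G)
    · rw [if_pos ha]
      have h2 : ∀ x : G, (if a ∈ A ∧ a ∈ Subgroup.normalizer (↑B : Set G) ∧
          a⁻¹ * (x⁻¹ * g * x) ∈ HB H B then Cfsg.extendByZero L (χ - ψ) a else 0) =
          Cfsg.extendByZero L (χ - ψ) a * (if a⁻¹ * (x⁻¹ * g * x) ∈ HB H B then 1 else 0) := by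
        intro x
        by_cases hx : a⁻¹ * (x⁻¹ * g * x) ∈ HB H B
        · rw [if_pos ⟨ha.1, ha.2, hx⟩, if_pos hx, mul_one]
        · rw [if_neg (fun h => hx h.2.2), if_neg hx, mul_zero]
      rw [Finset.sum_congr rfl (fun x _ => h2 x), ← Finset.mul_sum]
      congr 1
      unfold cnt
      rw [Finset.card_filter]
      push_cast
      apply Fintype.sum_equiv (Equiv.inv G)
      intro x
      simp only [Equiv.inv_apply, inv_inv]
    · rw [if_neg ha]
      apply Finset.sum_eq_zero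
      intro x _
      rw [if_neg]
      exact fun h => ha ⟨h.1, h.2.1⟩

end Cfsg.Agent.Lib.Helper11.DadeVirtC
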