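import Mathlib
import Cfsg.Prelude.Def_OddOrderChar
import Cfsg.Agent.Lib.Helper11.DadeVirtC

set_option autoImplicit false

namespace Cfsg.Agent.Lib.Helper11.DadeVirtD

open Cfsg.Agent.Lib.Helper11 Cfsg.Agent.Lib.Helper11.DadeVirtA Cfsg.Agent.Lib.Helper11.DadeVirtB
open Cfsg.Agent.Lib.Helper11.DadeVirtC
open Cfsg.Agent.Lib.helper7 Cfsg.Agent.Lib.helper2

variable {G : Type*} [Group G] {A : Set G} {L : Subgroup G} {H : G → Subgroup G}

open Classical in
/-- the nonempty subsets of `A` -/
noncomputable def Pset [Fintype G] (A : Set G) : Finset (Finset G) :=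
  ((Finset.univ.filter (fun a : G => a ∈ A)).powerset).filter (fun B => B.Nonempty)

omit [Group G] in
theorem mem_Pset [Fintype G] {B : Finset G} : B ∈ Pset A ↔ (∀ b ∈ B, b ∈ A) ∧ B.Nonempty := by
  classical
  unfold Pset
  rw [Finset.mem_filter, Finset.mem_powerset]
  constructor
  · rintro ⟨h1, h2⟩
    exact ⟨fun b hb => (Finset.mem_filter.mp (h1 hb)).2, h2⟩
  · rintro ⟨h1, h2⟩
    exact ⟨fun b hb => Finset.mem_filter.mpr ⟨Finset.mem_univ _, h1 b hb⟩, h2⟩

theorem conj_eq_self_iff (a n : G) : a * n * a⁻¹ = a ↔ n = a := by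
  constructor
  · intro h
    have h1 : a * n = a * a := by
      calc a * n = (a * n * a⁻¹) * a := by group
        _ = a * a := by rw [h]
    exact mul_left_cancel h1
  · rintro rfl
    group

theorem nzr_insert [DecidableEq G] {a : G} {B : Finset G}
    (h : a ∈ Subgroup.normalizer (↑B : Set G)) :
    a ∈ Subgroup.normalizer (↑(insert a B) : Set G) := by
  rw [Subgroup.mem_set_normalizer_iff] at h ⊢
  intro n
  simp only [Finset.coe_insert, Set.mem_insert_iff, Finset.mem_coe] at h ⊢
  rw [conj_eq_self_iff, h n]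

theorem nzr_erase [DecidableEq G] {a : G} {B : Finset G}
    (h : a ∈ Subgroup.normalizer (↑B : Set G)) :
    a ∈ Subgroup.normalizer (↑(B.erase a) : Set G) := by
  rw [Subgroup.mem_set_normalizer_iff] at h ⊢
  intro n
  simp only [Finset.coe_erase, Set.mem_sdiff, Set.mem_singleton_iff, Finset.mem_coe] at h ⊢
  rw [conj_eq_self_iff, h n]

theorem nzr_singleton [DecidableEq G] (a : G) :
    a ∈ Subgroup.normalizer (↑({a} : Finset G) : Set G) := by
  rw [Subgroup.mem_set_normalizer_iff]
  intro n
  simp only [Finset.coe_singleton, Set.mem_singleton_iff]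
  rw [conj_eq_self_iff]

open Classical in
/-- the weight of a subset -/
noncomputable def wt [Fintype G] (H : G → Subgroup G) (a g : G) (B : Finset G) : ℂ :=
  (cnt (HB H B) a g : ℂ) / (Nat.card (HB H B) : ℂ)

open Classical in
theorem wt_insert [Fintype G] (hD : Cfsg.DadeHypothesis A L H) {B : Finset G}
    (hBA : ∀ b ∈ B, b ∈ A) (hB : B.Nonempty) {a : G} (ha : a ∈ A)
    (haB : a ∈ Subgroup.normalizer (↑B : Set G)) (g : G) :
    wt H a g (insert a B) = wt H a g B := by
  unfold wt
  have h1 := cnt_insert hD hBA hB ha haB g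
  have h2 : (Nat.card (HB H B) : ℂ) ≠ 0 := by exact_mod_cast Nat.card_pos.ne'
  have h3 : (Nat.card (HB H (insert a B)) : ℂ) ≠ 0 := by exact_mod_cast Nat.card_pos.ne'
  have h4 : (cnt (HB H B) a g : ℂ) * (Nat.card (HB H (insert a B)) : ℂ) =
      (cnt (HB H (insert a B)) a g : ℂ) * (Nat.card (HB H B) : ℂ) := by exact_mod_cast h1
  rw [div_eq_div_iff h3 h2]
  exact h4.symm

open Classical in
theorem pair_sum [Fintype G] (hD : Cfsg.DadeHypothesis A L H) {a : G} (ha : a ∈ A) (g : G) :
    ∑ B ∈ (Pset A).filter (fun B : Finset G => a ∈ Subgroup.normalizer (↑B : Set G)),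
      (-1 : ℂ) ^ (B.card + 1) * wt H a g B = wt H a g {a} := by
  have hmem : ({a} : Finset G) ∈ (Pset A).filter
      (fun B : Finset G => a ∈ Subgroup.normalizer (↑B : Set G)) := by
    rw [Finset.mem_filter, mem_Pset]
    refine ⟨⟨?_, Finset.singleton_nonempty a⟩, nzr_singleton a⟩
    intro b hb
    rw [Finset.mem_singleton.mp hb]
    exact ha
  rw [← Finset.add_sum_erase _ _ hmem]
  have hzero : ∑ B ∈ ((Pset A).filter
      (fun B : Finset G => a ∈ Subgroup.normalizer (↑B : Set G))).erase {a},
      (-1 : ℂ) ^ (B.card + 1) * wt H a g B = 0 := by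
    apply Finset.sum_involution (fun B _ => if a ∈ B then B.erase a else insert a B)
    · intro B hB
      obtain ⟨hne, hB'⟩ := Finset.mem_erase.mp hB
      obtain ⟨hP, hn⟩ := Finset.mem_filter.mp hB'
      obtain ⟨hBA, hBne⟩ := mem_Pset.mp hP
      by_cases haB : a ∈ B
      · rw [if_pos haB]
        have hins : insert a (B.erase a) = B := Finset.insert_erase haB
        have hne' : (B.erase a).Nonempty := by
          rw [Finset.nonempty_iff_ne_empty]
          intro h
          apply hne
          rw [← hins, h]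
          rfl
        have hBA' : ∀ b ∈ B.erase a, b ∈ A := fun b hb => hBA b (Finset.mem_of_mem_erase hb)
        have h1 := wt_insert hD hBA' hne' ha (nzr_erase hn) g
        rw [hins] at h1
        have h2 : B.card = (B.erase a).card + 1 := (Finset.card_erase_add_one haB).symm
        rw [h1, h2]
        ring
      · rw [if_neg haB]
        have h1 := wt_insert hD hBA hBne ha hn g
        rw [h1, Finset.card_insert_of_notMem haB]
        ring
    · intro B _ _
      by_cases haB : a ∈ B
      · rw [if_pos haB]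
        intro h
        have : a ∈ B.erase a := by rw [h]; exact haB
        exact (Finset.notMem_erase a B) this
      · rw [if_neg haB]
        intro h
        apply haB
        rw [← h]
        exact Finset.mem_insert_self a B
    · intro B _
      by_cases haB : a ∈ B
      · simp only [if_pos haB, Finset.notMem_erase, if_false]
        exact Finset.insert_erase haB
      · simp only [if_neg haB, Finset.mem_insert_self, if_true]
        exact Finset.erase_insert haB
    · intro B hB
      obtain ⟨hne, hB'⟩ := Finset.mem_erase.mp hB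
      obtain ⟨hP, hn⟩ := Finset.mem_filter.mp hB'
      obtain ⟨hBA, hBne⟩ := mem_Pset.mp hP
      by_cases haB : a ∈ B
      · rw [if_pos haB]
        have hins : insert a (B.erase a) = B := Finset.insert_erase haB
        have hne' : (B.erase a).Nonempty := by
          rw [Finset.nonempty_iff_ne_empty]
          intro h
          apply hne
          rw [← hins, h]
          rfl
        rw [Finset.mem_erase, Finset.mem_filter, mem_Pset]
        refine ⟨?_, ⟨fun b hb => hBA b (Finset.mem_of_mem_erase hb), hne'⟩, nzr_erase hn⟩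
        intro h
        have : a ∈ B.erase a := by rw [h]; exact Finset.mem_singleton_self a
        exact (Finset.notMem_erase a B) this
      · rw [if_neg haB]
        rw [Finset.mem_erase, Finset.mem_filter, mem_Pset]
        refine ⟨?_, ⟨?_, Finset.insert_nonempty a B⟩, nzr_insert hn⟩
        · intro h
          obtain ⟨b, hb⟩ := hBne
          have hb' : b ∈ insert a B := Finset.mem_insert_of_mem hb
          rw [h, Finset.mem_singleton] at hb'
          exact haB (hb' ▸ hb)
        · intro b hb
          rcases Finset.mem_insert.mp hb with rfl | hb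
          · exact ha
          · exact hBA b hb
  rw [hzero, add_zero, Finset.card_singleton]
  norm_num

open Classical in
/-- the explicit class function attached to a subset -/
noncomputable def Phi [Fintype G] (A : Set G) (L : Subgroup G) (H : G → Subgroup G) (α : L → ℂ)
    (B : Finset G) : G → ℂ :=
  fun g => ((Nat.card (NB L B) : ℂ) * (Nat.card (HB H B) : ℂ))⁻¹ *
    ∑ a : G, (if a ∈ A ∧ a ∈ Subgroup.normalizer (↑B : Set G) then
      Cfsg.extendByZero L α a * (cnt (HB H B) a g : ℂ) else 0)

theorem Phi_genChar [Fintype G] [Fintype L] (hD : Cfsg.DadeHypothesis A L H) (α : L → ℂ)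
    (hα : Cfsg.IsGeneralizedCharacter L α) (hαA : ∀ x : L, (x : G) ∉ A → α x = 0)
    (B : Finset G) (hBA : ∀ b ∈ B, b ∈ A) (hB : B.Nonempty) :
    Cfsg.IsGeneralizedCharacter G (Phi A L H α B) := by
  obtain ⟨F, hF, hFg⟩ := exists_F hD α hα hαA B hBA hB
  have : Phi A L H α B = F := by
    funext g
    rw [hFg g]
    rfl
  rw [this]
  exact hF

theorem HB_singleton (a : G) : HB H ({a} : Finset G) = H a := by
  ext h
  rw [mem_HB]
  constructor
  · intro hh
    exact hh a (Finset.mem_singleton_self a)
  · intro hh b hb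
    rw [Finset.mem_singleton.mp hb]
    exact hh

open Classical in
/-- the total weight of the conjugations of `g` into the cosets `a * H a` -/
theorem sum_cnt_eq [Fintype G] (hD : Cfsg.DadeHypothesis A L H) (g : G)
    (hg : g ∈ dadeSupp A H) :
    ∑ a : G, (if a ∈ A then (cnt (H a) a g : ℂ) / (Nat.card (H a) : ℂ) else 0) =
      (Nat.card L : ℂ) := by
  rw [← dade_weight ℂ hD g hg, Finset.sum_filter, Fintype.sum_prod_type]
  have h1 : ∀ x : G, (∑ y : G × G,
      if (x, y).2.1 ∈ A ∧ (x, y).2.2 ∈ H (x, y).2.1 ∧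
        (x, y).1 * g * (x, y).1⁻¹ = (x, y).2.1 * (x, y).2.2 then
        ((Nat.card (H (x, y).2.1) : ℂ))⁻¹ else 0) =
      ∑ a : G, ∑ u : G, if a ∈ A ∧ u ∈ H a ∧ x * g * x⁻¹ = a * u then
        ((Nat.card (H a) : ℂ))⁻¹ else 0 := by
    intro x
    rw [Fintype.sum_prod_type]
  rw [Finset.sum_congr rfl (fun x _ => h1 x), Finset.sum_comm]
  apply Finset.sum_congr rfl
  intro a _
  by_cases ha : a ∈ A
  · rw [if_pos ha]
    unfold cnt
    rw [Finset.card_filter]
    push_cast
    rw [Finset.sum_div]
    apply Finset.sum_congr rfl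
    intro x _
    rw [Finset.sum_eq_single (a⁻¹ * (x * g * x⁻¹))]
    · by_cases hx : a⁻¹ * (x * g * x⁻¹) ∈ H a
      · rw [if_pos hx, if_pos ⟨ha, hx, by group⟩]
        simp
      · rw [if_neg hx, if_neg (fun h => hx h.2.1)]
        simp
    · intro u _ hu
      rw [if_neg]
      rintro ⟨-, -, h3⟩
      apply hu
      rw [h3]
      group
    · intro h
      exact absurd (Finset.mem_univ _) h
  · rw [if_neg ha]
    symm
    apply Finset.sum_eq_zero
    intro x _
    apply Finset.sum_eq_zero
    intro u _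
    rw [if_neg (fun h => ha h.1)]

open Classical in
theorem cnt_pos_mem [Fintype G] {a g : G} (_ha : a ∈ A) (h : cnt (H a) a g ≠ 0) :
    ∃ x u : G, u ∈ H a ∧ x * g * x⁻¹ = a * u := by
  unfold cnt at h
  obtain ⟨x, hx⟩ := Finset.card_pos.mp (Nat.pos_of_ne_zero h)
  refine ⟨x, a⁻¹ * (x * g * x⁻¹), (Finset.mem_filter.mp hx).2, by group⟩

open Classical in
/-- the alternating sum of the induced functions is the Dade map -/
theorem sum_Phi [Fintype G] [Fintype L] (hD : Cfsg.DadeHypothesis A L H) (α : L → ℂ)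
    (hα : Cfsg.IsClassFunction L α) (g : G) :
    ∑ B ∈ Pset A, ((-1 : ℂ) ^ (B.card + 1) * ((Nat.card (NB L B) : ℂ) / (Nat.card L : ℂ))) *
      Phi A L H α B g = Cfsg.dadeIsometry A L H α g := by
  have hL : (Nat.card L : ℂ) ≠ 0 := by exact_mod_cast Nat.card_pos.ne'
  -- step 1
  have h1 : ∀ B ∈ Pset A, ((-1 : ℂ) ^ (B.card + 1) *
      ((Nat.card (NB L B) : ℂ) / (Nat.card L : ℂ))) * Phi A L H α B g =
      ∑ a : G, (if a ∈ A ∧ a ∈ Subgroup.normalizer (↑B : Set G) then
        (Nat.card L : ℂ)⁻¹ * Cfsg.extendByZero L α a *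
          ((-1 : ℂ) ^ (B.card + 1) * wt H a g B) else 0) := by
    intro B _
    have hN : (Nat.card (NB L B) : ℂ) ≠ 0 := by exact_mod_cast Nat.card_pos.ne'
    have hK : (Nat.card (HB H B) : ℂ) ≠ 0 := by exact_mod_cast Nat.card_pos.ne'
    unfold Phi
    rw [Finset.mul_sum, Finset.mul_sum]
    apply Finset.sum_congr rfl
    intro a _
    by_cases ha : a ∈ A ∧ a ∈ Subgroup.normalizer (↑B : Set G)
    · rw [if_pos ha, if_pos ha]
      unfold wt
      field_simp
    · rw [if_neg ha, if_neg ha, mul_zero, mul_zero]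
  rw [Finset.sum_congr rfl h1, Finset.sum_comm]
  -- step 2
  have h2 : ∀ a : G, (∑ B ∈ Pset A, (if a ∈ A ∧ a ∈ Subgroup.normalizer (↑B : Set G) then
        (Nat.card L : ℂ)⁻¹ * Cfsg.extendByZero L α a *
          ((-1 : ℂ) ^ (B.card + 1) * wt H a g B) else 0)) =
      if a ∈ A then (Nat.card L : ℂ)⁻¹ * (Cfsg.extendByZero L α a *
        ((cnt (H a) a g : ℂ) / (Nat.card (H a) : ℂ))) else 0 := by
    intro a
    by_cases ha : a ∈ A
    · rw [if_pos ha]
      have h3 : ∀ B ∈ Pset A, (if a ∈ A ∧ a ∈ Subgroup.normalizer (↑B : Set G) then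
          (Nat.card L : ℂ)⁻¹ * Cfsg.extendByZero L α a *
            ((-1 : ℂ) ^ (B.card + 1) * wt H a g B) else 0) =
          if a ∈ Subgroup.normalizer (↑B : Set G) then
            (Nat.card L : ℂ)⁻¹ * Cfsg.extendByZero L α a *
              ((-1 : ℂ) ^ (B.card + 1) * wt H a g B) else 0 := by
        intro B _
        by_cases hB : a ∈ Subgroup.normalizer (↑B : Set G)
        · rw [if_pos ⟨ha, hB⟩, if_pos hB]
        · rw [if_neg (fun h => hB h.2), if_neg hB]
      rw [Finset.sum_congr rfl h3, ← Finset.sum_filter, ← Finset.mul_sum, pair_sum hD ha g]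
      unfold wt
      rw [HB_singleton, mul_assoc]
    · rw [if_neg ha]
      apply Finset.sum_eq_zero
      intro B _
      rw [if_neg (fun h => ha h.1)]
  rw [Finset.sum_congr rfl (fun a _ => h2 a)]
  -- step 3
  by_cases hg : g ∈ dadeSupp A H
  · have h4 : ∀ a : G, (if a ∈ A then (Nat.card L : ℂ)⁻¹ * (Cfsg.extendByZero L α a *
        ((cnt (H a) a g : ℂ) / (Nat.card (H a) : ℂ))) else 0) =
        (Nat.card L : ℂ)⁻¹ * Cfsg.dadeIsometry A L H α g *
          (if a ∈ A then (cnt (H a) a g : ℂ) / (Nat.card (H a) : ℂ) else 0) := by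
      intro a
      by_cases ha : a ∈ A
      · rw [if_pos ha, if_pos ha]
        by_cases hc : cnt (H a) a g = 0
        · rw [hc]
          simp
        · obtain ⟨x, u, hu, hx⟩ := cnt_pos_mem ha hc
          have h5 := dadeIsometry_apply hD α hα g ⟨a, hD.subset ha⟩ ha x u hu hx
          rw [h5, h7_extendByZero_mem L α a (hD.subset ha)]
          ring
      · rw [if_neg ha, if_neg ha, mul_zero]
    rw [Finset.sum_congr rfl (fun a _ => h4 a), ← Finset.mul_sum, sum_cnt_eq hD g hg]
    field_simp
  · rw [dadeIsometry_zero α g hg]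
    apply Finset.sum_eq_zero
    intro a _
    by_cases ha : a ∈ A
    · rw [if_pos ha]
      have hc : cnt (H a) a g = 0 := by
        by_contra hc
        obtain ⟨x, u, hu, hx⟩ := cnt_pos_mem ha hc
        exact hg ⟨a, ha, u, hu, x, hx⟩
      rw [hc]
      simp
    · rw [if_neg ha]

end Cfsg.Agent.Lib.Helper11.DadeVirtD
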