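import Mathlib
import Cfsg.Prelude.Def_OddOrderChar
import Cfsg.Agent.Lib.Helper11.DadeVirtD
import Cfsg.Agent.Lib.Helper11.OrbitSum
import Cfsg.Agent.Lib.Helper11.Coherence

set_option autoImplicit false

namespace Cfsg.Agent.Lib.Helper11.DadeVirtE

open Cfsg.Agent.Lib.Helper11 Cfsg.Agent.Lib.Helper11.DadeVirtA Cfsg.Agent.Lib.Helper11.DadeVirtB
open Cfsg.Agent.Lib.Helper11.DadeVirtC Cfsg.Agent.Lib.Helper11.DadeVirtD
open Cfsg.Agent.Lib.helper7 Cfsg.Agent.Lib.helper2

variable {G : Type*} [Group G] {A : Set G} {L : Subgroup G} {H : G → Subgroup G}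

open Classical in
/-- the conjugate of a finite subset -/
noncomputable def cB (l : G) (B : Finset G) : Finset G := B.image (fun b => l * b * l⁻¹)

theorem mem_cB {l y : G} {B : Finset G} : y ∈ cB l B ↔ l⁻¹ * y * l ∈ B := by
  classical
  unfold cB
  rw [Finset.mem_image]
  constructor
  · rintro ⟨b, hb, rfl⟩
    have : l⁻¹ * (l * b * l⁻¹) * l = b := by group
    rw [this]
    exact hb
  · intro h
    exact ⟨_, h, by group⟩

/-- the conjugation action of `L` on finite subsets of `G` -/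
@[reducible] noncomputable def act (L : Subgroup G) : MulAction L (Finset G) where
  smul l B := cB (l : G) B
  one_smul B := by
    ext y
    show y ∈ cB ((1 : L) : G) B ↔ y ∈ B
    rw [mem_cB]
    simp
  mul_smul l l' B := by
    ext y
    show y ∈ cB ((l * l' : L) : G) B ↔ y ∈ cB (l : G) (cB (l' : G) B)
    rw [mem_cB, mem_cB, mem_cB]
    have : ((l * l' : L) : G)⁻¹ * y * ((l * l' : L) : G) =
        (l' : G)⁻¹ * ((l : G)⁻¹ * y * (l : G)) * (l' : G) := by
      simp only [Subgroup.coe_mul]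
      group
    rw [this]

theorem cB_subset (hD : Cfsg.DadeHypothesis A L H) {l : G} (hl : l ∈ L) {B : Finset G}
    (hBA : ∀ b ∈ B, b ∈ A) : ∀ b ∈ cB l B, b ∈ A := by
  intro b hb
  have h1 := hD.conj_mem l hl _ (hBA _ (mem_cB.mp hb))
  have h2 : l * (l⁻¹ * b * l) * l⁻¹ = b := by group
  rw [h2] at h1
  exact h1

theorem cB_nonempty {l : G} {B : Finset G} (hB : B.Nonempty) : (cB l B).Nonempty := by
  classical
  exact hB.image _

theorem card_cB (l : G) (B : Finset G) : (cB l B).card = B.card := by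
  classical
  unfold cB
  apply Finset.card_image_of_injective
  intro b b' h
  simpa using h

theorem mem_HB_cB [Finite G] (hD : Cfsg.DadeHypothesis A L H) {l : G} (hl : l ∈ L) {B : Finset G}
    (hBA : ∀ b ∈ B, b ∈ A) {h : G} : h ∈ HB H (cB l B) ↔ l⁻¹ * h * l ∈ HB H B := by
  rw [mem_HB, mem_HB]
  constructor
  · intro hh b hb
    have hb' : l * b * l⁻¹ ∈ cB l B := by
      rw [mem_cB]
      have : l⁻¹ * (l * b * l⁻¹) * l = b := by group
      rw [this]; exact hb
    have hA' : l * b * l⁻¹ ∈ A := hD.conj_mem l hl b (hBA b hb)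
    have h1 := dade_conj_mem_H hD hA' (hh _ hb') l⁻¹ (by
      have : l⁻¹ * (l * b * l⁻¹) * l⁻¹⁻¹ = b := by group
      rw [this]; exact hBA b hb)
    have h2 : l⁻¹ * (l * b * l⁻¹) * l⁻¹⁻¹ = b := by group
    rw [h2, inv_inv] at h1
    exact h1
  · intro hh b' hb'
    have hb := mem_cB.mp hb'
    have h2 : l * (l⁻¹ * b' * l) * l⁻¹ = b' := by group
    have h1 := dade_conj_mem_H hD (hBA _ hb) (hh _ hb) l (by
      rw [h2]; exact cB_subset hD hl hBA b' hb')
    rw [h2] at h1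
    have h3 : l * (l⁻¹ * h * l) * l⁻¹ = h := by group
    rw [h3] at h1
    exact h1

theorem card_HB_cB [Finite G] (hD : Cfsg.DadeHypothesis A L H) {l : G} (hl : l ∈ L)
    {B : Finset G} (hBA : ∀ b ∈ B, b ∈ A) :
    Nat.card (HB H (cB l B)) = Nat.card (HB H B) := by
  apply Nat.card_congr
  refine ⟨fun h => ⟨l⁻¹ * (h : G) * l, (mem_HB_cB hD hl hBA).mp h.2⟩,
    fun k => ⟨l * (k : G) * l⁻¹, (mem_HB_cB hD hl hBA).mpr (by
      have : l⁻¹ * (l * (k : G) * l⁻¹) * l = (k : G) := by group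
      rw [this]; exact k.2)⟩, ?_, ?_⟩
  · intro h
    apply Subtype.ext
    show l * (l⁻¹ * (h : G) * l) * l⁻¹ = (h : G)
    group
  · intro k
    apply Subtype.ext
    show l⁻¹ * (l * (k : G) * l⁻¹) * l = (k : G)
    group

theorem mem_nzr_cB {l a : G} {B : Finset G} :
    a ∈ Subgroup.normalizer (↑(cB l B) : Set G) ↔
      l⁻¹ * a * l ∈ Subgroup.normalizer (↑B : Set G) := by
  rw [Subgroup.mem_set_normalizer_iff, Subgroup.mem_set_normalizer_iff]
  simp only [Finset.mem_coe, mem_cB]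
  constructor
  · intro h m
    have h1 := h (l * m * l⁻¹)
    have e1 : l⁻¹ * (l * m * l⁻¹) * l = m := by group
    have e2 : l⁻¹ * (a * (l * m * l⁻¹) * a⁻¹) * l = l⁻¹ * a * l * m * (l⁻¹ * a * l)⁻¹ := by group
    rw [e1, e2] at h1
    exact h1
  · intro h n
    have h1 := h (l⁻¹ * n * l)
    have e2 : l⁻¹ * a * l * (l⁻¹ * n * l) * (l⁻¹ * a * l)⁻¹ = l⁻¹ * (a * n * a⁻¹) * l := by group
    rw [e2] at h1
    exact h1

theorem mem_NB_cB {l a : G} (hl : l ∈ L) {B : Finset G} :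
    a ∈ NB L (cB l B) ↔ l⁻¹ * a * l ∈ NB L B := by
  unfold NB
  rw [Subgroup.mem_inf, Subgroup.mem_inf, mem_nzr_cB]
  constructor
  · rintro ⟨h1, h2⟩
    exact ⟨L.mul_mem (L.mul_mem (L.inv_mem hl) h1) hl, h2⟩
  · rintro ⟨h1, h2⟩
    refine ⟨?_, h2⟩
    have : a = l * (l⁻¹ * a * l) * l⁻¹ := by group
    rw [this]
    exact L.mul_mem (L.mul_mem hl h1) (L.inv_mem hl)

theorem card_NB_cB {l : G} (hl : l ∈ L) {B : Finset G} :
    Nat.card (NB L (cB l B)) = Nat.card (NB L B) := by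
  apply Nat.card_congr
  refine ⟨fun h => ⟨l⁻¹ * (h : G) * l, (mem_NB_cB hl).mp h.2⟩,
    fun k => ⟨l * (k : G) * l⁻¹, (mem_NB_cB hl).mpr (by
      have : l⁻¹ * (l * (k : G) * l⁻¹) * l = (k : G) := by group
      rw [this]; exact k.2)⟩, ?_, ?_⟩
  · intro h
    apply Subtype.ext
    show l * (l⁻¹ * (h : G) * l) * l⁻¹ = (h : G)
    group
  · intro k
    apply Subtype.ext
    show l⁻¹ * (l * (k : G) * l⁻¹) * l = (k : G)
    group

open Classical in
theorem cnt_cB [Fintype G] (hD : Cfsg.DadeHypothesis A L H) {l : G} (hl : l ∈ L)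
    {B : Finset G} (hBA : ∀ b ∈ B, b ∈ A) (a g : G) :
    cnt (HB H (cB l B)) (l * a * l⁻¹) g = cnt (HB H B) a g := by
  unfold cnt
  apply Finset.card_bij (fun x _ => l⁻¹ * x)
  · intro x hx
    rw [Finset.mem_filter] at hx ⊢
    refine ⟨Finset.mem_univ _, ?_⟩
    have h1 := (mem_HB_cB hD hl hBA).mp hx.2
    have e : l⁻¹ * ((l * a * l⁻¹)⁻¹ * (x * g * x⁻¹)) * l =
        a⁻¹ * (l⁻¹ * x * g * (l⁻¹ * x)⁻¹) := by group
    rw [e] at h1
    exact h1
  · intro x _ x' _ h
    exact mul_left_cancel h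
  · intro y hy
    rw [Finset.mem_filter] at hy
    refine ⟨l * y, ?_, by group⟩
    rw [Finset.mem_filter]
    refine ⟨Finset.mem_univ _, ?_⟩
    rw [mem_HB_cB hD hl hBA]
    have e : l⁻¹ * ((l * a * l⁻¹)⁻¹ * (l * y * g * (l * y)⁻¹)) * l =
        a⁻¹ * (y * g * y⁻¹) := by group
    rw [e]
    exact hy.2

theorem extend_conj (α : L → ℂ) (hα : Cfsg.IsClassFunction L α) {l : G} (hl : l ∈ L) {a : G}
    (ha : a ∈ L) : Cfsg.extendByZero L α (l * a * l⁻¹) = Cfsg.extendByZero L α a := by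
  rw [h7_extendByZero_mem L α _ (L.mul_mem (L.mul_mem hl ha) (L.inv_mem hl)),
    h7_extendByZero_mem L α a ha]
  exact hα ⟨a, ha⟩ ⟨l, hl⟩

open Classical in
theorem Phi_cB [Fintype G] (hD : Cfsg.DadeHypothesis A L H) (α : L → ℂ)
    (hα : Cfsg.IsClassFunction L α) {l : G} (hl : l ∈ L) {B : Finset G}
    (hBA : ∀ b ∈ B, b ∈ A) :
    Phi A L H α (cB l B) = Phi A L H α B := by
  funext g
  unfold Phi
  rw [card_HB_cB hD hl hBA, card_NB_cB hl]
  congr 1
  symm
  apply Fintype.sum_equiv (MulAut.conj l).toEquiv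
  intro a
  have e : (MulAut.conj l).toEquiv a = l * a * l⁻¹ := rfl
  rw [e]
  have h1 : l * a * l⁻¹ ∈ A ↔ a ∈ A := by
    constructor
    · intro h
      have := hD.conj_mem l⁻¹ (L.inv_mem hl) _ h
      have e2 : l⁻¹ * (l * a * l⁻¹) * l⁻¹⁻¹ = a := by group
      rw [e2] at this
      exact this
    · exact fun h => hD.conj_mem l hl a h
  have h2 : l * a * l⁻¹ ∈ Subgroup.normalizer (↑(cB l B) : Set G) ↔
      a ∈ Subgroup.normalizer (↑B : Set G) := by
    rw [mem_nzr_cB]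
    have e2 : l⁻¹ * (l * a * l⁻¹) * l = a := by group
    rw [e2]
  by_cases ha : a ∈ A ∧ a ∈ Subgroup.normalizer (↑B : Set G)
  · rw [if_pos ha, if_pos ⟨h1.mpr ha.1, h2.mpr ha.2⟩, cnt_cB hD hl hBA,
      extend_conj α hα hl (hD.subset ha.1)]
  · rw [if_neg ha, if_neg (fun h => ha ⟨h1.mp h.1, h2.mp h.2⟩)]

theorem card_stabilizer (B : Finset G) :
    Nat.card (@MulAction.stabilizer L (Finset G) _ (act L) B) = Nat.card (NB L B) := by
  letI := act L
  apply Nat.card_congr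
  have key : ∀ l : L, l ∈ MulAction.stabilizer L B ↔ (l : G) ∈ NB L B := by
    intro l
    rw [MulAction.mem_stabilizer_iff, mem_NB]
    show cB (l : G) B = B ↔ _
    constructor
    · intro h
      refine ⟨l.2, fun n => ?_⟩
      constructor
      · intro hn
        rw [← h, mem_cB]
        have : (l : G)⁻¹ * ((l : G) * n * (l : G)⁻¹) * (l : G) = n := by group
        rw [this]; exact hn
      · intro hn
        rw [← h, mem_cB] at hn
        have : (l : G)⁻¹ * ((l : G) * n * (l : G)⁻¹) * (l : G) = n := by group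
        rw [this] at hn; exact hn
    · rintro ⟨-, h⟩
      ext y
      rw [mem_cB, h ((l : G)⁻¹ * y * (l : G))]
      have : (l : G) * ((l : G)⁻¹ * y * (l : G)) * (l : G)⁻¹ = y := by group
      rw [this]
  refine ⟨fun l => ⟨(l : L), (key l).mp l.2⟩,
    fun n => ⟨⟨(n : G), (mem_NB.mp n.2).1⟩, (key _).mpr n.2⟩, ?_, ?_⟩
  · intro l
    rfl
  · intro n
    rfl

/-- **Peterfalvi (2.7)**: the Dade map sends generalized characters supported in `A` to
generalized characters. -/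
theorem dade_virtual [Fintype G] [Fintype L] (hD : Cfsg.DadeHypothesis A L H) (α : L → ℂ)
    (hα : Cfsg.IsGeneralizedCharacter L α) (hαA : ∀ x : L, (x : G) ∉ A → α x = 0) :
    Cfsg.IsGeneralizedCharacter G (Cfsg.dadeIsometry A L H α) := by
  classical
  letI := act L
  have hcf : Cfsg.IsClassFunction L α := by
    obtain ⟨χ, ψ, hχ, hψ, rfl⟩ := hα
    intro g h
    simp only [Pi.sub_apply]
    rw [isCharacter_isClassFunction hχ g h, isCharacter_isClassFunction hψ g h]
  have h1 : Cfsg.dadeIsometry A L H α = ∑ B ∈ Pset A,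
      ((Nat.card (MulAction.stabilizer L B) : ℂ) / (Nat.card L : ℂ)) •
        ((-1 : ℂ) ^ (B.card + 1) • Phi A L H α B) := by
    funext g
    rw [← sum_Phi hD α hcf g, Finset.sum_apply]
    apply Finset.sum_congr rfl
    intro B _
    rw [card_stabilizer B]
    simp only [Pi.smul_apply, smul_eq_mul]
    ring
  rw [h1]
  apply Cfsg.Agent.Lib.Helper11.OrbitSum.orbit_sum (Γ := L) (X := Finset G)
    (Cfsg.IsGeneralizedCharacter G) (genChar_zero G) (fun u v hu hv => genChar_add hu hv)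
    (fun B => (-1 : ℂ) ^ (B.card + 1) • Phi A L H α B) (Pset A).card (Pset A) le_rfl
  · intro l B hB
    rw [mem_Pset] at hB ⊢
    exact ⟨cB_subset hD l.2 hB.1, cB_nonempty hB.2⟩
  · intro l B hB
    rw [mem_Pset] at hB
    show (-1 : ℂ) ^ ((cB (l : G) B).card + 1) • Phi A L H α (cB (l : G) B) =
      (-1 : ℂ) ^ (B.card + 1) • Phi A L H α B
    rw [card_cB, Phi_cB hD α hcf l.2 hB.1]
  · intro B hB
    rw [mem_Pset] at hB
    have h2 := Phi_genChar hD α hα hαA B hB.1 hB.2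
    rcases Nat.even_or_odd (B.card + 1) with he | ho
    · rw [he.neg_one_pow, one_smul]
      exact h2
    · rw [ho.neg_one_pow, neg_smul, one_smul]
      exact genChar_neg h2

end Cfsg.Agent.Lib.Helper11.DadeVirtE
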