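import Mathlib
import Cfsg.Prelude.Def_GeometricClasses
import Cfsg.Agent.Lib.Helper27.ASC.Defs
import Cfsg.Agent.Lib.helper23.ASCO.Defs
import Cfsg.Agent.Lib.Helper19.ASG.Defs
import Cfsg.Agent.Lib.Helper1.ASGCLIF3
import Cfsg.Agent.Lib.Helper25.ASO.Defs
import Cfsg.Agent.Lib.helper23.ASE.Defs
import Cfsg.Agent.Lib.Helper25.ASOADJ
import Cfsg.Agent.Lib.helper6.SPXFSADIM

/-!
# Project E10M (S5850), field block, piece F-SADVD : `efield_sa_dvd`
-/

set_option autoImplicit false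
set_option linter.unusedVariables false
set_option linter.unusedSectionVars false

namespace Cfsg.Agent.Lib.Helper16.E10M

open Cfsg Cfsg.Geo Cfsg.Agent.Lib.Helper27.ASC Cfsg.Agent.Lib.helper23.ASCO Cfsg.Agent.Lib.Helper19.ASG
  Cfsg.Agent.Lib.Helper25.ASO
open scoped MatrixGroups Matrix Kronecker

variable {n : ℕ} {F : Type*} [Field F] [Fintype F]

/-- evaluation of matrices at a vector, as a linear map -/
def e10mfsadvd_eval (v : Fin n → F) : Matrix (Fin n) (Fin n) F →ₗ[F] (Fin n → F) where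
  toFun := fun M => M *ᵥ v
  map_add' := fun M N => Matrix.add_mulVec M N v
  map_smul' := fun c M => Matrix.smul_mulVec c M v

/-- a `K`-invariant Lagrangian subspace for the polar form -/
theorem e10mfsadvd_lagrangian (Q : QuadraticForm F (Fin n → F)) (hQ : (QuadraticMap.polarBilin Q).Nondegenerate)
    (K : Subalgebra F (Matrix (Fin n) (Fin n) F))
    (hsa : ∀ k ∈ K, oadj (⇑Q) k = k)
    (halt : ∀ k ∈ K, ∀ v : Fin n → F, QuadraticMap.polar (⇑Q) (k *ᵥ v) v = 0) :
    ∃ W : Submodule F (Fin n → F), (∀ k ∈ K, ∀ w ∈ W, k *ᵥ w ∈ W) ∧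
      (∀ u ∈ W, ∀ v ∈ W, QuadraticMap.polar (⇑Q) u v = 0) ∧ 2 * Module.finrank F W = n := by
  classical
  let Pr : Submodule F (Fin n → F) → Prop := fun W =>
    (∀ k ∈ K, ∀ w ∈ W, k *ᵥ w ∈ W) ∧ ∀ u ∈ W, ∀ v ∈ W, QuadraticMap.polar (⇑Q) u v = 0
  have hsa' : ∀ k ∈ K, ∀ u v : Fin n → F,
      QuadraticMap.polar (⇑Q) (k *ᵥ u) v = QuadraticMap.polar (⇑Q) u (k *ᵥ v) := by
    intro k hk u v
    rw [oadj_spec Q hQ k u v, hsa k hk]
  have hbot : Pr ⊥ := by
    refine ⟨?_, ?_⟩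
    · intro k _ w hw
      rw [(Submodule.mem_bot F).mp hw, Matrix.mulVec_zero]
      exact Submodule.zero_mem _
    · intro u hu v _
      rw [(Submodule.mem_bot F).mp hu]
      exact QuadraticMap.polar_zero_left Q v
  have hVrank : Module.finrank F (Fin n → F) = n := by
    rw [Module.finrank_fintype_fun_eq_card, Fintype.card_fin]
  obtain ⟨d, ⟨W, hW, hWn⟩, hmax⟩ : ∃ d, (∃ W, Pr W ∧ Module.finrank F W = d) ∧
      ∀ W', Pr W' → Module.finrank F W' ≤ d := by
    have hbd : ∀ W' : Submodule F (Fin n → F), Module.finrank F W' ≤ n := by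
      intro W'
      have := Submodule.finrank_le W'
      rwa [hVrank] at this
    refine ⟨Nat.findGreatest (fun d => ∃ W, Pr W ∧ Module.finrank F W = d) n, ?_, ?_⟩
    · exact Nat.findGreatest_spec (P := fun d => ∃ W, Pr W ∧ Module.finrank F W = d) (Nat.zero_le _)
        ⟨⊥, hbot, finrank_bot F _⟩
    · intro W' hW'
      exact Nat.le_findGreatest (hbd W') ⟨W', hW', rfl⟩
  refine ⟨W, hW.1, hW.2, ?_⟩
  have hmemorth : ∀ v : Fin n → F, v ∈ LinearMap.BilinForm.orthogonal (QuadraticMap.polarBilin Q) W ↔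
      ∀ w ∈ W, QuadraticMap.polar (⇑Q) w v = 0 := by
    intro v
    rw [LinearMap.BilinForm.mem_orthogonal_iff]
    rfl
  -- `orth W ≤ W`
  have horth : LinearMap.BilinForm.orthogonal (QuadraticMap.polarBilin Q) W ≤ W := by
    intro v hv
    rw [hmemorth] at hv
    let Kv : Submodule F (Fin n → F) := (Subalgebra.toSubmodule K).map (e10mfsadvd_eval v)
    have hKv : ∀ x, x ∈ Kv ↔ ∃ k ∈ K, k *ᵥ v = x := by
      intro x
      constructor
      · rintro ⟨k, hk, rfl⟩
        exact ⟨k, hk, rfl⟩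
      · rintro ⟨k, hk, rfl⟩
        exact ⟨k, hk, rfl⟩
    have hP2 : Pr (W ⊔ Kv) := by
      refine ⟨?_, ?_⟩
      · intro k hk x hx
        obtain ⟨w, hw, y, hy, rfl⟩ := Submodule.mem_sup.mp hx
        obtain ⟨k', hk', rfl⟩ := (hKv y).mp hy
        rw [Matrix.mulVec_add, Matrix.mulVec_mulVec]
        exact Submodule.add_mem _ (Submodule.mem_sup_left (hW.1 k hk w hw))
          (Submodule.mem_sup_right ((hKv _).mpr ⟨k * k', K.mul_mem hk hk', rfl⟩))
      · intro x hx y hy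
        obtain ⟨w, hw, x', hx', rfl⟩ := Submodule.mem_sup.mp hx
        obtain ⟨k₁, hk₁, rfl⟩ := (hKv x').mp hx'
        obtain ⟨w', hw', y', hy', rfl⟩ := Submodule.mem_sup.mp hy
        obtain ⟨k₂, hk₂, rfl⟩ := (hKv y').mp hy'
        have e1 : QuadraticMap.polar (⇑Q) w w' = 0 := hW.2 w hw w' hw'
        have e2 : QuadraticMap.polar (⇑Q) w (k₂ *ᵥ v) = 0 := by
          rw [← hsa' k₂ hk₂ w v]
          exact hv _ (hW.1 k₂ hk₂ w hw)
        have e3 : QuadraticMap.polar (⇑Q) (k₁ *ᵥ v) w' = 0 := by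
          rw [QuadraticMap.polar_comm, ← hsa' k₁ hk₁ w' v]
          exact hv _ (hW.1 k₁ hk₁ w' hw')
        have e4 : QuadraticMap.polar (⇑Q) (k₁ *ᵥ v) (k₂ *ᵥ v) = 0 := by
          rw [hsa' k₁ hk₁ v (k₂ *ᵥ v), Matrix.mulVec_mulVec, QuadraticMap.polar_comm]
          exact halt (k₁ * k₂) (K.mul_mem hk₁ hk₂) v
        rw [QuadraticMap.polar_add_left, QuadraticMap.polar_add_right, QuadraticMap.polar_add_right,
          e1, e2, e3, e4]
        simp
    have hle : W ≤ W ⊔ Kv := le_sup_left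
    have heq : W = W ⊔ Kv := by
      apply Submodule.eq_of_le_of_finrank_le hle
      rw [hWn]
      exact hmax _ hP2
    rw [heq]
    refine Submodule.mem_sup_right ((hKv v).mpr ⟨1, K.one_mem, Matrix.one_mulVec v⟩)
  have hle : W ≤ LinearMap.BilinForm.orthogonal (QuadraticMap.polarBilin Q) W := by
    intro w hw
    rw [hmemorth]
    intro w' hw'
    exact hW.2 w' hw' w hw
  have heq : LinearMap.BilinForm.orthogonal (QuadraticMap.polarBilin Q) W = W := le_antisymm horth hle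
  have hfr := LinearMap.BilinForm.finrank_orthogonal hQ W
  rw [heq, hVrank] at hfr
  have := Submodule.finrank_le W
  rw [hVrank] at this
  omega

/-- F-SADVD : a self-adjoint field subalgebra of degree `r` on which the polar form alternates: `2 r ∣ n`.  (COPY of
`helper6.SPXFSADIM` `spxfsadim_lagrangian` + `spxfsadim_dvd` (generic) for the bilinear form `polarBilin Q`: a maximal `K`-invariant
totally isotropic subspace `W` satisfies `W^⊥ = W`, `2 dim W = n`, and `r ∣ dim W`.) -/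
theorem efield_sa_dvd (Q : QuadraticForm F (Fin n → F)) (hQ : (QuadraticMap.polarBilin Q).Nondegenerate) {r : ℕ}
    (K : Subalgebra F (Matrix (Fin n) (Fin n) F)) (hK : IsFieldSubalgebra r K)
    (hsa : ∀ k ∈ K, oadj (⇑Q) k = k)
    (halt : ∀ k ∈ K, ∀ v : Fin n → F, QuadraticMap.polar (⇑Q) (k *ᵥ v) v = 0) : 2 * r ∣ n := by
  obtain ⟨W, hW, _, hWn⟩ := e10mfsadvd_lagrangian Q hQ K hsa halt
  obtain ⟨c, hc⟩ := Cfsg.Agent.Lib.helper6.SPX.spxfsadim_dvd K hK W hW
  exact ⟨c, by rw [← hWn, hc]; ring⟩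

end Cfsg.Agent.Lib.Helper16.E10M
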