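import Mathlib
import Cfsg.Prelude.Def_GeometricClasses
import Cfsg.Agent.Lib.Helper27.ASC.Defs
import Cfsg.Agent.Lib.helper23.ASCO.Defs
import Cfsg.Agent.Lib.Helper19.ASG.Defs
import Cfsg.Agent.Lib.Helper1.ASGCLIF3
import Cfsg.Agent.Lib.Helper25.ASO.Defs
import Cfsg.Agent.Lib.helper23.ASE.Defs
import Cfsg.Agent.Lib.Helper20.ASE10M.Defs
import Cfsg.Agent.Lib.Helper25.ASOADJ
import Cfsg.Agent.Lib.Lead.ASED1INV
import Cfsg.Agent.Lib.Helper11.E10MFSADVD

/-!
# Project E10M (S5850), field block stage 2, piece F5-COORDE : `efield_coord_even`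
-/

set_option autoImplicit false
set_option linter.unusedVariables false
set_option linter.unusedSectionVars false

namespace Cfsg.Agent.Lib.Helper16.E10M

open Cfsg Cfsg.Geo Cfsg.Agent.Lib.Helper27.ASC Cfsg.Agent.Lib.helper23.ASCO Cfsg.Agent.Lib.Helper19.ASG
  Cfsg.Agent.Lib.Helper25.ASO
open scoped MatrixGroups Matrix Kronecker

variable {n : ℕ} {F : Type*} [Field F] [Fintype F]

/-- every functional on `K` is `k ↦ A (d k)` when `A` is non-degenerate (copy of `uxfld62pair_repr` for `Fin n`) -/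
theorem e10mf5coorde_repr (K : Subalgebra F (Matrix (Fin n) (Fin n) F))
    (A : K →ₗ[F] F) (hA : ∀ c : K, (∀ k : K, A (c * k) = 0) → c = 0) (φ : K →ₗ[F] F) :
    ∃ d : K, ∀ k : K, φ k = A (d * k) := by
  classical
  have : Module.Finite F K := inferInstance
  let Θ : K →ₗ[F] (K →ₗ[F] F) := (LinearMap.mul F K).compr₂ A
  have hΘ : ∀ d k : K, Θ d k = A (d * k) := fun d k => rfl
  have hinj : Function.Injective Θ := by
    rw [injective_iff_map_eq_zero]
    intro c hc
    apply hA c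
    intro k
    rw [← hΘ, hc]
    rfl
  have hdim : Module.finrank F K = Module.finrank F (K →ₗ[F] F) := (Subspace.dual_finrank_eq).symm
  have hsurj : Function.Surjective Θ :=
    (LinearMap.injective_iff_surjective_of_finrank_eq_finrank hdim).1 hinj
  obtain ⟨d, hd⟩ := hsurj φ
  exact ⟨d, fun k => by rw [← hd, hΘ]⟩

/-- two vectors on which `K × K` acts freely span `F^n` over `K` (`n = 2 r`) -/
theorem e10mf5coorde_surj {r : ℕ} (hn : n = 2 * r) (K : Subalgebra F (Matrix (Fin n) (Fin n) F))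
    (hfr : Module.finrank F K = r) (v w : Fin n → F)
    (hinj : ∀ a ∈ K, ∀ b ∈ K, a *ᵥ v + b *ᵥ w = 0 → a = 0 ∧ b = 0) (x : Fin n → F) :
    ∃ a ∈ K, ∃ b ∈ K, x = a *ᵥ v + b *ᵥ w := by
  classical
  let φ : (K × K) →ₗ[F] (Fin n → F) :=
    { toFun := fun p => (p.1 : Matrix (Fin n) (Fin n) F) *ᵥ v + (p.2 : Matrix (Fin n) (Fin n) F) *ᵥ w
      map_add' := by
        intro p p'
        simp only [Prod.fst_add, Prod.snd_add, Subalgebra.coe_add, Matrix.add_mulVec]
        abel
      map_smul' := by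
        intro c p
        simp only [Prod.smul_fst, Prod.smul_snd, Subalgebra.coe_smul, Matrix.smul_mulVec, RingHom.id_apply,
          smul_add] }
  have hφinj : Function.Injective φ := by
    rw [injective_iff_map_eq_zero]
    intro p hp
    have h := hinj p.1 p.1.2 p.2 p.2.2 hp
    ext1
    · exact Subtype.ext h.1
    · exact Subtype.ext h.2
  have hdim : Module.finrank F (K × K) = Module.finrank F (Fin n → F) := by
    rw [Module.finrank_prod, hfr, Module.finrank_fin_fun, hn]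
    ring
  have hφsurj : Function.Surjective φ :=
    (LinearMap.injective_iff_surjective_of_finrank_eq_finrank hdim).1 hφinj
  obtain ⟨p, hp⟩ := hφsurj x
  exact ⟨p.1, p.1.2, p.2, p.2.2, hp.symm⟩

/-- characteristic 2 : squaring is an additive bijection of the finite field `K` -/
theorem e10mf5coorde_sq (h2 : (2 : F) = 0) {r : ℕ} (K : Subalgebra F (Matrix (Fin n) (Fin n) F))
    (hK : IsFieldSubalgebra r K) : ∃ S : K ≃+ K, ∀ a : K, S a = a * a := by
  classical
  have hcomm : ∀ a b : K, a * b = b * a := fun a b => Subtype.ext (hK.comm a a.2 b b.2)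
  have hdouble : ∀ a : K, a + a = 0 := by
    intro a
    rw [← two_smul F a, h2, zero_smul]
  let S0 : K →+ K :=
    { toFun := fun a => a * a
      map_zero' := by simp
      map_add' := by
        intro a b
        have : (a + b) * (a + b) = a * a + b * b + (a * b + a * b) := by
          rw [mul_add, add_mul, add_mul, hcomm b a]
          abel
        rw [this, hdouble, add_zero] }
  have hS0 : ∀ a : K, S0 a = a * a := fun a => rfl
  have hinj : Function.Injective S0 := by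
    rw [injective_iff_map_eq_zero]
    intro a ha
    rw [hS0] at ha
    by_contra hne
    obtain ⟨y, hy, hay⟩ := hK.inv a a.2 (fun h => hne (Subtype.ext h))
    apply hne
    have h1 : (a : Matrix (Fin n) (Fin n) F) * a = 0 := congrArg Subtype.val ha
    apply Subtype.ext
    calc (a : Matrix (Fin n) (Fin n) F) = a * (a * y) := by rw [hay, Matrix.mul_one]
      _ = (a * a) * y := by rw [Matrix.mul_assoc]
      _ = 0 := by rw [h1, Matrix.zero_mul]
  have : Finite K := Finite.of_injective (fun x : K => (x : Matrix (Fin n) (Fin n) F)) Subtype.val_injective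
  have hsurj : Function.Surjective S0 := Finite.injective_iff_surjective.mp hinj
  exact ⟨AddEquiv.ofBijective S0 ⟨hinj, hsurj⟩, fun a => rfl⟩

/-- characteristic 2, `K` self-adjoint with `f (k x) x = 0` : `a ↦ Q (a x)` is additive on `K` -/
theorem e10mf5coorde_Qadd (Q : QuadraticForm F (Fin n → F))
    (hQ : (QuadraticMap.polarBilin Q).Nondegenerate) (K : Subalgebra F (Matrix (Fin n) (Fin n) F))
    (hsa : ∀ k ∈ K, oadj (⇑Q) k = k)
    (halt : ∀ k ∈ K, ∀ v : Fin n → F, QuadraticMap.polar (⇑Q) (k *ᵥ v) v = 0)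
    (x : Fin n → F) (a b : Matrix (Fin n) (Fin n) F) (ha : a ∈ K) (hb : b ∈ K) :
    Q ((a + b) *ᵥ x) = Q (a *ᵥ x) + Q (b *ᵥ x) := by
  have h1 : QuadraticMap.polar (⇑Q) (a *ᵥ x) (b *ᵥ x) = 0 := by
    rw [oadj_spec Q hQ a x (b *ᵥ x), hsa a ha, Matrix.mulVec_mulVec, QuadraticMap.polar_comm]
    exact halt (a * b) (K.mul_mem ha hb) x
  rw [Matrix.add_mulVec]
  unfold QuadraticMap.polar at h1
  linear_combination h1

/-- characteristic 2 : the functional `k ↦ Q (√k x)` on `K` -/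
theorem e10mf5coorde_phi (h2 : (2 : F) = 0) {r : ℕ} (Q : QuadraticForm F (Fin n → F))
    (hQ : (QuadraticMap.polarBilin Q).Nondegenerate) (K : Subalgebra F (Matrix (Fin n) (Fin n) F))
    (hK : IsFieldSubalgebra r K) (hsa : ∀ k ∈ K, oadj (⇑Q) k = k)
    (halt : ∀ k ∈ K, ∀ v : Fin n → F, QuadraticMap.polar (⇑Q) (k *ᵥ v) v = 0) (x : Fin n → F) :
    ∃ φ : K →ₗ[F] F, ∀ a : K, φ (a * a) = Q ((a : Matrix (Fin n) (Fin n) F) *ᵥ x) := by
  classical
  obtain ⟨S, hS⟩ := e10mf5coorde_sq h2 K hK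
  have hchar : CharP F 2 := CharTwo.of_one_ne_zero_of_two_eq_zero one_ne_zero h2
  have hrc : ringChar F = 2 := ringChar.eq F 2
  have hSsmul : ∀ (d : F) (a : K), S (d • a) = (d * d) • S a := by
    intro d a
    rw [hS, hS, smul_mul_smul_comm]
  let φ : K →ₗ[F] F :=
    { toFun := fun k => Q ((S.symm k : Matrix (Fin n) (Fin n) F) *ᵥ x)
      map_add' := by
        intro k k'
        rw [map_add, Subalgebra.coe_add]
        exact e10mf5coorde_Qadd Q hQ K hsa halt x _ _ (S.symm k).2 (S.symm k').2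
      map_smul' := by
        intro c k
        obtain ⟨d, hd⟩ := FiniteField.isSquare_of_char_two hrc c
        have h1 : S.symm (c • k) = d • S.symm k := by
          apply S.injective
          rw [AddEquiv.apply_symm_apply, hSsmul, AddEquiv.apply_symm_apply, hd]
        rw [h1, Subalgebra.coe_smul, Matrix.smul_mulVec, QuadraticMap.map_smul, RingHom.id_apply, hd, smul_eq_mul] }
  refine ⟨φ, fun a => ?_⟩
  show Q ((S.symm (a * a) : Matrix (Fin n) (Fin n) F) *ᵥ x) = _
  rw [← hS, AddEquiv.symm_apply_apply]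

/-- F5-COORDE : characteristic 2 (with `f (k v) v = 0`, F-SAALT): coordinates exist.  (`v` with `Q v ≠ 0`, `w ∉ K v`;
`a ↦ Q (a v)` is additive on `K` (`f (a v) (a' v) = f ((a a') v) v = 0`) with `Q ((c a) v) = c² Q (a v)`, so `k ↦ Q (√k v)` is an
`F`-linear functional on `K` (`√` the inverse of the Frobenius of the finite field `K`), non-zero at `1`; extend it to a functional `ℓ` on
all matrices (`LinearMap.exists_extend`): `Q (a v) = ℓ (a²)`.  `β` with `Q (b w) = ℓ (β b²)` and `s` with `f (k v) w = ℓ (s k)` from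
F5-REPR; `Q (a v + b w) = Q (a v) + Q (b w) + f ((a b) v) w`.) -/
theorem efield_coord_even (h2 : (2 : F) = 0) {r : ℕ} (hn : n = 2 * r) (hr : 0 < r) (Q : QuadraticForm F (Fin n → F))
    (hQ : (QuadraticMap.polarBilin Q).Nondegenerate) (K : Subalgebra F (Matrix (Fin n) (Fin n) F))
    (hK : IsFieldSubalgebra r K) (hsa : ∀ k ∈ K, oadj (⇑Q) k = k)
    (halt : ∀ k ∈ K, ∀ v : Fin n → F, QuadraticMap.polar (⇑Q) (k *ᵥ v) v = 0) :
    ∃ (ℓ : Matrix (Fin n) (Fin n) F →ₗ[F] F) (v w : Fin n → F) (s β : Matrix (Fin n) (Fin n) F),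
      EFieldCoord (⇑Q) K ℓ v w s β := by
  classical
  have hcomm : ∀ a b : K, a * b = b * a := fun a b => Subtype.ext (hK.comm a a.2 b b.2)
  -- the vector `v`
  obtain ⟨v, hv⟩ := Cfsg.Agent.Lib.helper23.ASE.ased1inv_exists_nonsing (by omega : 0 < n) Q hQ
  have hv0 : v ≠ 0 := by
    intro h
    apply hv
    rw [h, QuadraticMap.map_zero]
  -- the functionals
  obtain ⟨φv, hφv⟩ := e10mf5coorde_phi h2 Q hQ K hK hsa halt v
  -- extend to all matrices
  obtain ⟨ℓ, hℓ⟩ := LinearMap.exists_extend (φv.comp (Subalgebra.toSubmoduleEquiv K).toLinearMap)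
  have hℓK : ∀ k : K, ℓ (k : Matrix (Fin n) (Fin n) F) = φv k := by
    intro k
    have := LinearMap.congr_fun hℓ ⟨k.1, k.2⟩
    exact this
  have hφv1 : φv 1 = Q v := by
    have := hφv 1
    rw [mul_one, Subalgebra.coe_one, Matrix.one_mulVec] at this
    exact this
  -- non-degeneracy of `φv`
  have hnd : ∀ c : K, (∀ k : K, φv (c * k) = 0) → c = 0 := by
    intro c hc
    by_contra hne
    obtain ⟨y, hy, hcy⟩ := hK.inv c c.2 (fun h => hne (Subtype.ext h))
    have h1 : c * ⟨y, hy⟩ = 1 := Subtype.ext hcy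
    have := hc ⟨y, hy⟩
    rw [h1, hφv1] at this
    exact hv this
  -- the vector `w`
  let Kv : Submodule F (Fin n → F) := (Subalgebra.toSubmodule K).map (e10mfsadvd_eval v)
  have hKv : ∀ x, x ∈ Kv ↔ ∃ k ∈ K, k *ᵥ v = x := by
    intro x
    constructor
    · rintro ⟨k, hk, rfl⟩
      exact ⟨k, hk, rfl⟩
    · rintro ⟨k, hk, rfl⟩
      exact ⟨k, hk, rfl⟩
  have hKvlt : Kv < ⊤ := by
    rw [lt_top_iff_ne_top]
    intro htop
    have h1 : Module.finrank F Kv ≤ Module.finrank F (Subalgebra.toSubmodule K) := Submodule.finrank_map_le _ _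
    have h2' : Module.finrank F (Subalgebra.toSubmodule K) = r := hK.finrank_eq
    rw [htop, finrank_top, Module.finrank_fin_fun] at h1
    omega
  obtain ⟨w, -, hw⟩ := SetLike.exists_of_lt hKvlt
  obtain ⟨φw, hφw⟩ := e10mf5coorde_phi h2 Q hQ K hK hsa halt w
  -- `inj`
  have hinj : ∀ a ∈ K, ∀ b ∈ K, a *ᵥ v + b *ᵥ w = 0 → a = 0 ∧ b = 0 := by
    intro a ha b hb hab
    have hb0 : b = 0 := by
      by_contra hne
      obtain ⟨y, hy, hby⟩ := hK.inv b hb hne
      have hyb : y * b = 1 := by rw [hK.comm y hy b hb, hby]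
      apply hw
      rw [hKv]
      refine ⟨-(y * a), K.neg_mem (K.mul_mem hy ha), ?_⟩
      have h1 : b *ᵥ w = -(a *ᵥ v) := eq_neg_of_add_eq_zero_right hab
      calc (-(y * a)) *ᵥ v = y *ᵥ (-(a *ᵥ v)) := by
            rw [Matrix.neg_mulVec, ← Matrix.mulVec_mulVec, Matrix.mulVec_neg]
        _ = y *ᵥ (b *ᵥ w) := by rw [h1]
        _ = w := by rw [Matrix.mulVec_mulVec, hyb, Matrix.one_mulVec]
    refine ⟨?_, hb0⟩
    rw [hb0, Matrix.zero_mulVec, add_zero] at hab
    by_contra hne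
    obtain ⟨y, hy, hay⟩ := hK.inv a ha hne
    have hya : y * a = 1 := by rw [hK.comm y hy a ha, hay]
    apply hv0
    calc v = y *ᵥ (a *ᵥ v) := by rw [Matrix.mulVec_mulVec, hya, Matrix.one_mulVec]
      _ = 0 := by rw [hab, Matrix.mulVec_zero]
  -- `β`
  obtain ⟨β, hβ⟩ := e10mf5coorde_repr K φv hnd φw
  -- `s`
  let χ : K →ₗ[F] F :=
    (((QuadraticMap.polarBilin Q).flip w).comp (e10mfsadvd_eval v)).comp K.val.toLinearMap
  have hχ : ∀ k : K, χ k = QuadraticMap.polar (⇑Q) ((k : Matrix (Fin n) (Fin n) F) *ᵥ v) w := fun k => rfl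
  obtain ⟨s, hs⟩ := e10mf5coorde_repr K φv hnd χ
  refine ⟨ℓ, v, w, s, β, ⟨s.2, β.2, ?_, hinj, e10mf5coorde_surj hn K hK.finrank_eq v w hinj, ?_⟩⟩
  · intro c hc h
    have := hnd ⟨c, hc⟩ (fun k => by
      rw [hcomm, ← hℓK]
      exact h k k.2)
    exact congrArg Subtype.val this
  · intro a ha b hb
    have e1 : ℓ (a * a) = Q (a *ᵥ v) := by
      have := hℓK (⟨a, ha⟩ * ⟨a, ha⟩)
      rw [hφv] at this
      exact this
    have e2 : ℓ (β * b * b) = Q (b *ᵥ w) := by
      have := hℓK (β * (⟨b, hb⟩ * ⟨b, hb⟩))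
      rw [← hβ, hφw] at this
      rw [Matrix.mul_assoc]
      exact this
    have e3 : ℓ (s * a * b) = QuadraticMap.polar (⇑Q) (a *ᵥ v) (b *ᵥ w) := by
      have := hℓK (s * (⟨b, hb⟩ * ⟨a, ha⟩))
      rw [← hs, hχ] at this
      have e4 : (s : Matrix (Fin n) (Fin n) F) * a * b = s * (b * a) := by
        rw [Matrix.mul_assoc, hK.comm a ha b hb]
      rw [e4]
      refine this.trans ?_
      show QuadraticMap.polar (⇑Q) ((b * a) *ᵥ v) w = _
      rw [← Matrix.mulVec_mulVec, oadj_spec Q hQ b (a *ᵥ v) w, hsa b hb]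
    rw [map_add ℓ, map_add ℓ, e1, e2, e3]
    unfold QuadraticMap.polar
    ring

end Cfsg.Agent.Lib.Helper16.E10M
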