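import Mathlib
import Cfsg.Prelude.Def_GeometricClasses
import Cfsg.Agent.Lib.Helper27.ASC.Defs
import Cfsg.Agent.Lib.helper23.ASCO.Defs
import Cfsg.Agent.Lib.Helper19.ASG.Defs
import Cfsg.Agent.Lib.Helper1.ASGCLIF3
import Cfsg.Agent.Lib.Helper25.ASO.Defs
import Cfsg.Agent.Lib.helper23.ASE.Defs
import Cfsg.Agent.Lib.Helper25.ASOADJ
import Cfsg.Agent.Lib.Helper11.E10MFSADVD

/-!
# Project E10M (S5850), field block, piece F-SAALT : `efield_sa_alt`

Also `e10mfsaalt_kernel_top` : the statement of F-KER (`efield_kernel_top`) under my own name (proved here, self-contained).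
-/

set_option autoImplicit false
set_option linter.unusedVariables false
set_option linter.unusedSectionVars false

namespace Cfsg.Agent.Lib.Helper16.E10M

open Cfsg Cfsg.Geo Cfsg.Agent.Lib.Helper27.ASC Cfsg.Agent.Lib.helper23.ASCO Cfsg.Agent.Lib.Helper19.ASG
  Cfsg.Agent.Lib.Helper25.ASO
open scoped MatrixGroups Matrix Kronecker

variable {n : ℕ} {F : Type*} [Field F] [Fintype F]

/-- the statement of F-KER under my own name : a `G`-invariant subspace which is the kernel of an additive map into a finite group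
with fewer than `|F| ^ n` elements is everything (`G` irreducible). -/
theorem e10mfsaalt_kernel_top {G : Subgroup (GL (Fin n) F)} (hG : Irr G) (W : Submodule F (Fin n → F))
    (hinv : ∀ g ∈ G, ∀ v ∈ W, (g : Matrix (Fin n) (Fin n) F) *ᵥ v ∈ W) {A : Type*} [AddCommGroup A] [Fintype A]
    (Φ : (Fin n → F) →+ A) (hW : ∀ v, v ∈ W ↔ Φ v = 0) (hcard : Fintype.card A < Fintype.card F ^ n) :
    W = ⊤ := by
  classical
  have hmap : ∀ s ∈ matrixSet G, W.map (Matrix.toLin' s) ≤ W := by
    rintro s ⟨g, hg, rfl⟩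
    rintro _ ⟨v, hv, rfl⟩
    rw [Matrix.toLin'_apply]
    exact hinv g hg v hv
  rcases hG W hmap with h | h
  · exfalso
    have hinj : Function.Injective Φ := by
      rw [injective_iff_map_eq_zero]
      intro v hv
      have hvW : v ∈ W := (hW v).mpr hv
      rw [h] at hvW
      exact (Submodule.mem_bot F).mp hvW
    have hle := Fintype.card_le_of_injective Φ hinj
    have hV : Fintype.card (Fin n → F) = Fintype.card F ^ n := by
      rw [Fintype.card_fun, Fintype.card_fin]
    omega
  · exact h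

/-- the polar form is additive in `v ↦ f (k v) v` when `k` is self-adjoint and `2 = 0` -/
theorem e10mfsaalt_add (h2 : (2 : F) = 0) (Q : QuadraticForm F (Fin n → F))
    (hQ : (QuadraticMap.polarBilin Q).Nondegenerate) (k : Matrix (Fin n) (Fin n) F) (hk : oadj (⇑Q) k = k)
    (u v : Fin n → F) :
    QuadraticMap.polar (⇑Q) (k *ᵥ (u + v)) (u + v) =
      QuadraticMap.polar (⇑Q) (k *ᵥ u) u + QuadraticMap.polar (⇑Q) (k *ᵥ v) v := by
  have hsa : QuadraticMap.polar (⇑Q) (k *ᵥ v) u = QuadraticMap.polar (⇑Q) (k *ᵥ u) v := by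
    rw [oadj_spec Q hQ k v u, hk, QuadraticMap.polar_comm]
  rw [Matrix.mulVec_add, QuadraticMap.polar_add_left, QuadraticMap.polar_add_right, QuadraticMap.polar_add_right, hsa]
  have : QuadraticMap.polar (⇑Q) (k *ᵥ u) v + QuadraticMap.polar (⇑Q) (k *ᵥ u) v = 0 := by
    rw [← two_mul, h2, zero_mul]
  linear_combination this

/-- F-SAALT : characteristic 2: on a self-adjoint field subalgebra normalised by an irreducible group of isometries the polar form
alternates: `f (k v) v = 0`.  (`Φ v = (k ↦ f (k v) v) : K → F` is additive in `v` (`f (k u) v + f (k v) u = 2 f (k u) v = 0` by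
self-adjointness and symmetry) and `Φ (c v) = c² Φ v`, so `W = ker Φ` is a subspace; `g ∈ G`: `f (k g v) (g v) = f ((g⁻¹ k g) v) v`,
`g⁻¹ k g ∈ K`: `W` is `G`-invariant; the values of `Φ` are `F`-linear functionals on `K` (`|Hom| = |F| ^ r < |F| ^ n`): F-KER.) -/
theorem efield_sa_alt (h2 : (2 : F) = 0) (Q : QuadraticForm F (Fin n → F))
    (hQ : (QuadraticMap.polarBilin Q).Nondegenerate) {G : Subgroup (GL (Fin n) F)} (hG : Irr G)
    (hGO : G ≤ isometryGroup F (⇑Q)) {r : ℕ} (hrn : r < n) (K : Subalgebra F (Matrix (Fin n) (Fin n) F))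
    (hK : IsFieldSubalgebra r K) (hsa : ∀ k ∈ K, oadj (⇑Q) k = k) (hGK : G ≤ subalgebraNormalizer K) :
    ∀ k ∈ K, ∀ v : Fin n → F, QuadraticMap.polar (⇑Q) (k *ᵥ v) v = 0 := by
  classical
  -- the subspace
  let W : Submodule F (Fin n → F) :=
    { carrier := {v | ∀ k ∈ K, QuadraticMap.polar (⇑Q) (k *ᵥ v) v = 0}
      add_mem' := by
        intro u v hu hv k hk
        rw [e10mfsaalt_add h2 Q hQ k (hsa k hk) u v, hu k hk, hv k hk, add_zero]
      zero_mem' := by
        intro k hk
        exact QuadraticMap.polar_zero_right Q _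
      smul_mem' := by
        intro c v hv k hk
        show QuadraticMap.polar (⇑Q) (k *ᵥ (c • v)) (c • v) = 0
        rw [Matrix.mulVec_smul, QuadraticMap.polar_smul_left, QuadraticMap.polar_smul_right, hv k hk]
        simp }
  have hWmem : ∀ v, v ∈ W ↔ ∀ k ∈ K, QuadraticMap.polar (⇑Q) (k *ᵥ v) v = 0 := fun v => Iff.rfl
  -- invariance
  have hinv : ∀ g ∈ G, ∀ v ∈ W, (g : Matrix (Fin n) (Fin n) F) *ᵥ v ∈ W := by
    intro g hg v hv
    rw [hWmem] at hv ⊢
    intro k hk
    have hgK := hGK hg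
    have hk' : ((g⁻¹ : GL (Fin n) F) : Matrix (Fin n) (Fin n) F) * k * (g : Matrix (Fin n) (Fin n) F) ∈ K := by
      rw [hgK]
      have e : (g : Matrix (Fin n) (Fin n) F) *
          (((g⁻¹ : GL (Fin n) F) : Matrix (Fin n) (Fin n) F) * k * (g : Matrix (Fin n) (Fin n) F)) *
          ((g⁻¹ : GL (Fin n) F) : Matrix (Fin n) (Fin n) F) = k := by
        have h1 : (g : Matrix (Fin n) (Fin n) F) * ((g⁻¹ : GL (Fin n) F) : Matrix (Fin n) (Fin n) F) = 1 := by
          rw [← Units.val_mul, mul_inv_cancel, Units.val_one]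
        calc (g : Matrix (Fin n) (Fin n) F) *
            (((g⁻¹ : GL (Fin n) F) : Matrix (Fin n) (Fin n) F) * k * (g : Matrix (Fin n) (Fin n) F)) *
            ((g⁻¹ : GL (Fin n) F) : Matrix (Fin n) (Fin n) F)
            = ((g : Matrix (Fin n) (Fin n) F) * ((g⁻¹ : GL (Fin n) F) : Matrix (Fin n) (Fin n) F)) * k *
              ((g : Matrix (Fin n) (Fin n) F) * ((g⁻¹ : GL (Fin n) F) : Matrix (Fin n) (Fin n) F)) := by
                simp only [Matrix.mul_assoc]
          _ = k := by rw [h1, Matrix.one_mul, Matrix.mul_one]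
      rw [e]
      exact hk
    have e2 : k *ᵥ ((g : Matrix (Fin n) (Fin n) F) *ᵥ v) =
        (g : Matrix (Fin n) (Fin n) F) *ᵥ
          ((((g⁻¹ : GL (Fin n) F) : Matrix (Fin n) (Fin n) F) * k * (g : Matrix (Fin n) (Fin n) F)) *ᵥ v) := by
      have h1 : (g : Matrix (Fin n) (Fin n) F) * ((g⁻¹ : GL (Fin n) F) : Matrix (Fin n) (Fin n) F) = 1 := by
        rw [← Units.val_mul, mul_inv_cancel, Units.val_one]
      rw [Matrix.mulVec_mulVec, Matrix.mulVec_mulVec, ← Matrix.mul_assoc, ← Matrix.mul_assoc, h1, Matrix.one_mul]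
    rw [e2, asoadj_iso_polar Q g (hGO hg)]
    exact hv _ hk'
  -- the additive map
  have : Module.Finite F K := inferInstance
  let b : Module.Basis (Fin r) F K := Module.finBasisOfFinrankEq F K hK.finrank_eq
  let Φ : (Fin n → F) →+ (Fin r → F) :=
    { toFun := fun v i => QuadraticMap.polar (⇑Q) ((b i : Matrix (Fin n) (Fin n) F) *ᵥ v) v
      map_zero' := by
        funext i
        exact QuadraticMap.polar_zero_right Q _
      map_add' := by
        intro u v
        funext i
        exact e10mfsaalt_add h2 Q hQ _ (hsa _ (b i).2) u v }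
  have hΦ : ∀ v, v ∈ W ↔ Φ v = 0 := by
    intro v
    rw [hWmem]
    constructor
    · intro h
      funext i
      exact h _ (b i).2
    · intro h k hk
      let L : K →ₗ[F] F :=
        (((QuadraticMap.polarBilin Q).flip v).comp (e10mfsadvd_eval v)).comp K.val.toLinearMap
      have hL : L = 0 := by
        apply b.ext
        intro i
        exact congrFun h i
      have := LinearMap.congr_fun hL ⟨k, hk⟩
      exact this
  have hcard : Fintype.card (Fin r → F) < Fintype.card F ^ n := by
    rw [Fintype.card_fun, Fintype.card_fin]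
    exact Nat.pow_lt_pow_right Fintype.one_lt_card hrn
  have htop := e10mfsaalt_kernel_top hG W hinv Φ hΦ hcard
  intro k hk v
  have hv : v ∈ W := by
    rw [htop]
    exact Submodule.mem_top
  exact hv k hk

end Cfsg.Agent.Lib.Helper16.E10M
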