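import Mathlib
import Cfsg.Prelude.Def_GeometricClasses
import Cfsg.Agent.Lib.Helper27.ASC.Defs
import Cfsg.Agent.Lib.helper23.ASCO.Defs
import Cfsg.Agent.Lib.Helper19.ASG.Defs
import Cfsg.Agent.Lib.Helper25.ASO.Defs
import Cfsg.Agent.Lib.helper23.ASE.Defs
import Cfsg.Agent.Lib.Helper26.E12P.Defs

/-!
# Project E12P (S5871), piece WITTC : `plus_cancel` (Witt cancellation for the plus type, WITHOUT Witt's theorem)

`U` totally singular of dimension `n / 2`, `T ≤ Y` totally singular of dimension `dim Y / 2`.  `A = U ⊓ T^⊥ ⊇ (U ⊔ T)^⊥`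
(as `U^⊥ = U`), `B = T ⊔ A` is totally singular, contains `T`, and `dim B ≥ n / 2` (hence `= n / 2`).  `B ≤ T^⊥ = T ⊔ Z`, so
`B = T ⊔ (Z ⊓ B)` (modular law) and `dim (Z ⊓ B) = n / 2 - dim T = dim Z / 2`.
-/

set_option autoImplicit false
set_option linter.unusedVariables false
set_option linter.unusedSectionVars false

namespace Cfsg.Agent.Lib.Helper26.E12P

open Cfsg Cfsg.Geo Cfsg.Agent.Lib.Helper27.ASC Cfsg.Agent.Lib.helper23.ASCO Cfsg.Agent.Lib.Helper19.ASG
  Cfsg.Agent.Lib.Helper25.ASO Cfsg.Agent.Lib.helper23.ASE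
open scoped MatrixGroups Matrix Kronecker

variable {n : ℕ} {F : Type*} [Field F] [Fintype F]

/-- Witt cancellation for the plus type, for any field (no finiteness) -/
theorem e12pwittc_core {K : Type*} [Field K] (Q : QuadraticForm K (Fin n → K))
    (hQ : (QuadraticMap.polarBilin Q).Nondegenerate)
    (hplus : IsPlusTypeOn (⇑Q) ⊤) (Y Z : Submodule K (Fin n → K))
    (horth : AreOrthogonalFor (QuadraticMap.polar (⇑Q)) Y Z) (hsup : Y ⊔ Z = ⊤) (hY : IsPlusTypeOn (⇑Q) Y) :
    IsPlusTypeOn (⇑Q) Z := by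
  classical
  obtain ⟨U, -, hUts, hUd⟩ := hplus
  obtain ⟨T, hTY, hTts, hTd⟩ := hY
  have hV : Module.finrank K (Fin n → K) = n := Module.finrank_fin_fun K
  rw [finrank_top, hV] at hUd
  have hmem : ∀ (W : Submodule K (Fin n → K)) (x : Fin n → K),
      x ∈ LinearMap.BilinForm.orthogonal (QuadraticMap.polarBilin Q) W ↔
        ∀ y ∈ W, QuadraticMap.polar (⇑Q) y x = 0 := by
    intro W x
    rw [LinearMap.BilinForm.mem_orthogonal_iff]
    rfl
  -- totally singular subspaces are totally isotropic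
  have hiso : ∀ W : Submodule K (Fin n → K), IsTotallySingularQuad (⇑Q) W →
      W ≤ LinearMap.BilinForm.orthogonal (QuadraticMap.polarBilin Q) W := by
    intro W hW x hx
    rw [hmem]
    intro y hy
    unfold QuadraticMap.polar
    rw [hW _ (W.add_mem hy hx), hW y hy, hW x hx]
    ring
  have horthdim : ∀ W : Submodule K (Fin n → K),
      Module.finrank K (LinearMap.BilinForm.orthogonal (QuadraticMap.polarBilin Q) W) + Module.finrank K W = n := by
    intro W
    have h1 := LinearMap.BilinForm.finrank_orthogonal hQ W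
    have h2 := Submodule.finrank_le W
    rw [hV] at h1 h2
    omega
  have hanti : ∀ W W' : Submodule K (Fin n → K), W ≤ W' →
      LinearMap.BilinForm.orthogonal (QuadraticMap.polarBilin Q) W' ≤
        LinearMap.BilinForm.orthogonal (QuadraticMap.polarBilin Q) W := by
    intro W W' h x hx
    rw [hmem] at hx ⊢
    intro y hy
    exact hx y (h hy)
  -- `Y ⊓ Z = ⊥`
  have hYZ : Y ⊓ Z = ⊥ := by
    rw [eq_bot_iff]
    intro x hx
    rw [Submodule.mem_bot]
    obtain ⟨hxY, hxZ⟩ := Submodule.mem_inf.mp hx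
    apply hQ.2 x
    intro v
    have hv : v ∈ Y ⊔ Z := by
      rw [hsup]
      exact Submodule.mem_top
    obtain ⟨y, hy, z, hz, rfl⟩ := Submodule.mem_sup.mp hv
    show QuadraticMap.polar (⇑Q) (y + z) x = 0
    rw [QuadraticMap.polar_add_left, horth y hy x hxZ, QuadraticMap.polar_comm, horth x hxY z hz, add_zero]
  have hdimYZ : Module.finrank K Y + Module.finrank K Z = n := by
    have h1 := Submodule.finrank_sup_add_finrank_inf_eq Y Z
    rw [hsup, hYZ, finrank_top, finrank_bot, hV] at h1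
    omega
  -- `T^⊥ = T ⊔ Z`
  have hTZ : T ⊓ Z = ⊥ := by
    rw [eq_bot_iff, ← hYZ]
    exact inf_le_inf_right Z hTY
  have hTperp : LinearMap.BilinForm.orthogonal (QuadraticMap.polarBilin Q) T = T ⊔ Z := by
    symm
    apply Submodule.eq_of_le_of_finrank_le
    · refine sup_le (hiso T hTts) ?_
      intro z hz
      rw [hmem]
      intro t ht
      exact horth t (hTY ht) z hz
    · have h1 := Submodule.finrank_sup_add_finrank_inf_eq T Z
      rw [hTZ, finrank_bot] at h1
      have h2 := horthdim T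
      omega
  -- `U^⊥ = U`
  have hUperp : LinearMap.BilinForm.orthogonal (QuadraticMap.polarBilin Q) U = U := by
    symm
    apply Submodule.eq_of_le_of_finrank_le (hiso U hUts)
    have h2 := horthdim U
    omega
  -- `A`
  have hA1 : LinearMap.BilinForm.orthogonal (QuadraticMap.polarBilin Q) (U ⊔ T) ≤
      U ⊓ LinearMap.BilinForm.orthogonal (QuadraticMap.polarBilin Q) T := by
    refine le_inf ?_ (hanti _ _ le_sup_right)
    have := hanti _ _ (le_sup_left : U ≤ U ⊔ T)
    rwa [hUperp] at this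
  have hAd : n + Module.finrank K (U ⊓ T : Submodule K (Fin n → K)) ≤
      Module.finrank K (U ⊓ LinearMap.BilinForm.orthogonal (QuadraticMap.polarBilin Q) T :
        Submodule K (Fin n → K)) + Module.finrank K U + Module.finrank K T := by
    have h1 := Submodule.finrank_mono hA1
    have h2 := horthdim (U ⊔ T)
    have h3 := Submodule.finrank_sup_add_finrank_inf_eq U T
    omega
  -- `B`
  have hBts : IsTotallySingularQuad (⇑Q)
      (T ⊔ (U ⊓ LinearMap.BilinForm.orthogonal (QuadraticMap.polarBilin Q) T)) := by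
    intro x hx
    obtain ⟨t, ht, a, ha, rfl⟩ := Submodule.mem_sup.mp hx
    obtain ⟨haU, haT⟩ := Submodule.mem_inf.mp ha
    have h1 : QuadraticMap.polar (⇑Q) t a = 0 := ((hmem T a).mp haT) t ht
    have h2 : Q (t + a) = Q t + Q a + QuadraticMap.polar (⇑Q) t a := by
      unfold QuadraticMap.polar
      ring
    rw [h2, h1, hTts t ht, hUts a haU]
    ring
  have hBd1 : n ≤ 2 * Module.finrank K
      (T ⊔ (U ⊓ LinearMap.BilinForm.orthogonal (QuadraticMap.polarBilin Q) T) : Submodule K (Fin n → K)) := by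
    have h1 := Submodule.finrank_sup_add_finrank_inf_eq T
      (U ⊓ LinearMap.BilinForm.orthogonal (QuadraticMap.polarBilin Q) T)
    have h2 : Module.finrank K
        (T ⊓ (U ⊓ LinearMap.BilinForm.orthogonal (QuadraticMap.polarBilin Q) T) : Submodule K (Fin n → K)) ≤
        Module.finrank K (U ⊓ T : Submodule K (Fin n → K)) := by
      apply Submodule.finrank_mono
      intro x hx
      obtain ⟨hxT, hxA⟩ := Submodule.mem_inf.mp hx
      exact Submodule.mem_inf.mpr ⟨(Submodule.mem_inf.mp hxA).1, hxT⟩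
    omega
  have hBd2 : 2 * Module.finrank K
      (T ⊔ (U ⊓ LinearMap.BilinForm.orthogonal (QuadraticMap.polarBilin Q) T) : Submodule K (Fin n → K)) ≤ n := by
    have h1 := Submodule.finrank_mono (hiso _ hBts)
    have h2 := horthdim (T ⊔ (U ⊓ LinearMap.BilinForm.orthogonal (QuadraticMap.polarBilin Q) T))
    omega
  have hBle : T ⊔ (U ⊓ LinearMap.BilinForm.orthogonal (QuadraticMap.polarBilin Q) T) ≤ T ⊔ Z := by
    rw [← hTperp]
    exact sup_le (hiso T hTts) inf_le_right
  have hBmod : T ⊔ (U ⊓ LinearMap.BilinForm.orthogonal (QuadraticMap.polarBilin Q) T) =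
      T ⊔ (Z ⊓ (T ⊔ (U ⊓ LinearMap.BilinForm.orthogonal (QuadraticMap.polarBilin Q) T))) := by
    have h1 := sup_inf_assoc_of_le Z
      (le_sup_left : T ≤ T ⊔ (U ⊓ LinearMap.BilinForm.orthogonal (QuadraticMap.polarBilin Q) T))
    rw [← h1]
    exact (inf_eq_right.mpr hBle).symm
  refine ⟨Z ⊓ (T ⊔ (U ⊓ LinearMap.BilinForm.orthogonal (QuadraticMap.polarBilin Q) T)), inf_le_left,
    fun x hx => hBts x (Submodule.mem_inf.mp hx).2, ?_⟩
  have h1 := Submodule.finrank_sup_add_finrank_inf_eq T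
    (Z ⊓ (T ⊔ (U ⊓ LinearMap.BilinForm.orthogonal (QuadraticMap.polarBilin Q) T)))
  rw [← hBmod] at h1
  have h2 : T ⊓ (Z ⊓ (T ⊔ (U ⊓ LinearMap.BilinForm.orthogonal (QuadraticMap.polarBilin Q) T))) = ⊥ := by
    rw [eq_bot_iff, ← hTZ, ← inf_assoc]
    exact inf_le_left
  rw [h2, finrank_bot] at h1
  omega

/-- WITTC : if the space is of plus type and splits orthogonally as `Y ⊥ Z` with `Y` of plus type, then `Z` is of plus type. -/
theorem plus_cancel (Q : QuadraticForm F (Fin n → F)) (hQ : (QuadraticMap.polarBilin Q).Nondegenerate)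
    (hplus : IsPlusTypeOn (⇑Q) ⊤) (Y Z : Submodule F (Fin n → F))
    (horth : AreOrthogonalFor (QuadraticMap.polar (⇑Q)) Y Z) (hsup : Y ⊔ Z = ⊤) (hY : IsPlusTypeOn (⇑Q) Y) :
    IsPlusTypeOn (⇑Q) Z :=
  e12pwittc_core Q hQ hplus Y Z horth hsup hY

end Cfsg.Agent.Lib.Helper26.E12P
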