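import Mathlib
import Cfsg.Prelude.Def_GeometricClasses
import Cfsg.Agent.Lib.Helper27.ASC.Defs
import Cfsg.Agent.Lib.helper23.ASCO.Defs
import Cfsg.Agent.Lib.Helper19.ASG.Defs
import Cfsg.Agent.Lib.Helper25.ASO.Defs
import Cfsg.Agent.Lib.helper23.ASE.Defs
import Cfsg.Agent.Lib.Helper26.E12P.Defs
import Cfsg.Agent.Lib.Helper11.ASESIMIL
import Cfsg.Agent.Lib.Helper11.E12PWITTC
import Cfsg.Agent.Lib.Helper13.EM12ISOPLUS

/-!
# Project E12P (S5871), piece BLK3 : `three_blocks_plus`
-/

set_option autoImplicit false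
set_option linter.unusedVariables false
set_option linter.unusedSectionVars false

namespace Cfsg.Agent.Lib.Helper26.E12P

open Cfsg Cfsg.Geo Cfsg.Agent.Lib.Helper27.ASC Cfsg.Agent.Lib.helper23.ASCO Cfsg.Agent.Lib.Helper19.ASG
  Cfsg.Agent.Lib.Helper25.ASO Cfsg.Agent.Lib.helper23.ASE
open scoped MatrixGroups Matrix Kronecker

variable {n : ℕ} {F : Type*} [Field F] [Fintype F]

/-- two orthogonal isometric non-degenerate subspaces of even dimension with trivial intersection span a subspace of plus type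
(the graph of `σ ∘ g`, `g` a similitude with multiplier `-1`) -/
theorem e12pblk3h11_pair (Q : QuadraticForm F (Fin n → F)) (W W' : Submodule F (Fin n → F))
    (hW : IsNondegenerateOn (QuadraticMap.polar (⇑Q)) W) (hev : Even (Module.finrank F W))
    (hiso : AreIsometricFor (⇑Q) W W') (horth : AreOrthogonalFor (QuadraticMap.polar (⇑Q)) W W')
    (hdisj : W ⊓ W' = ⊥) : IsPlusTypeOn (⇑Q) (W ⊔ W') := by
  classical
  obtain ⟨σ, hσ⟩ := hiso
  obtain ⟨g, hg⟩ := Cfsg.Agent.Lib.helper23.ASE.exists_similitude Q W hW hev (-1) (by simp)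
  let L : W →ₗ[F] (Fin n → F) :=
    W.subtype + W'.subtype.comp ((σ : W →ₗ[F] W').comp (g : W →ₗ[F] W))
  have hL : ∀ w : W, L w = (w : Fin n → F) + ((σ (g w) : W') : Fin n → F) := fun w => rfl
  have hLinj : Function.Injective L := by
    rw [injective_iff_map_eq_zero]
    intro w hw
    rw [hL] at hw
    have h1 : (w : Fin n → F) ∈ W ⊓ W' := by
      refine Submodule.mem_inf.mpr ⟨w.2, ?_⟩
      have : (w : Fin n → F) = -((σ (g w) : W') : Fin n → F) := eq_neg_of_add_eq_zero_left hw
      rw [this]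
      exact W'.neg_mem (σ (g w)).2
    rw [hdisj, Submodule.mem_bot] at h1
    exact Subtype.ext h1
  refine ⟨LinearMap.range L, ?_, ?_, ?_⟩
  · rintro _ ⟨w, rfl⟩
    rw [hL]
    exact Submodule.add_mem _ (Submodule.mem_sup_left w.2) (Submodule.mem_sup_right (σ (g w)).2)
  · rintro _ ⟨w, rfl⟩
    rw [hL]
    have h1 : QuadraticMap.polar (⇑Q) (w : Fin n → F) ((σ (g w) : W') : Fin n → F) = 0 :=
      horth _ w.2 _ (σ (g w)).2
    have h2 : Q ((w : Fin n → F) + ((σ (g w) : W') : Fin n → F)) =
        Q (w : Fin n → F) + Q ((σ (g w) : W') : Fin n → F) +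
          QuadraticMap.polar (⇑Q) (w : Fin n → F) ((σ (g w) : W') : Fin n → F) := by
      unfold QuadraticMap.polar
      ring
    rw [h2, h1, hσ, hg]
    ring
  · rw [LinearMap.finrank_range_of_inj hLinj]
    have h1 := Submodule.finrank_sup_add_finrank_inf_eq W W'
    rw [hdisj, finrank_bot] at h1
    have h2 : Module.finrank F W' = Module.finrank F W := σ.finrank_eq.symm
    omega

/-- BLK3 : three pairwise orthogonal isometric blocks of even dimension in a space of plus type are of plus type. -/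
theorem three_blocks_plus (Q : QuadraticForm F (Fin n → F)) (hQ : (QuadraticMap.polarBilin Q).Nondegenerate)
    (hplus : IsPlusTypeOn (⇑Q) ⊤) {k : ℕ} (hk : Even k) (D : Fin 3 → Submodule F (Fin n → F))
    (hD : IsOrthogonalMDecomposition (⇑Q) k D) : ∀ i, IsPlusTypeOn (⇑Q) (D i) := by
  classical
  have hnd := hD.decomp
  have hdec := hnd.decomp
  have h0 : IsPlusTypeOn (⇑Q) (D 0) := by
    have hev : Even (Module.finrank F (D 1)) := by
      rw [hdec.finrank_eq]
      exact hk
    have hdisj : D 1 ⊓ D 2 = ⊥ := by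
      have := hdec.indep.pairwiseDisjoint (by decide : (1 : Fin 3) ≠ 2)
      exact disjoint_iff.mp this
    have hY : IsPlusTypeOn (⇑Q) (D 1 ⊔ D 2) :=
      e12pblk3h11_pair Q (D 1) (D 2) (hnd.nondegenerate 1) hev (hD.isometric 1 2)
        (hnd.orthogonal 1 2 (by decide)) hdisj
    apply plus_cancel Q hQ hplus (D 1 ⊔ D 2) (D 0) ?_ ?_ hY
    · intro u hu v hv
      obtain ⟨a, ha, b, hb, rfl⟩ := Submodule.mem_sup.mp hu
      rw [QuadraticMap.polar_add_left, hnd.orthogonal 1 0 (by decide) a ha v hv,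
        hnd.orthogonal 2 0 (by decide) b hb v hv, add_zero]
    · rw [eq_top_iff, ← hdec.iSup_eq_top]
      apply iSup_le
      intro i
      fin_cases i
      · exact le_sup_right
      · exact le_sup_left.trans le_sup_left
      · exact le_sup_right.trans le_sup_left
  intro i
  exact Cfsg.Agent.Lib.helper7.EM12.plus_of_isometric (⇑Q) (D 0) (D i) (hD.isometric 0 i) h0

end Cfsg.Agent.Lib.Helper26.E12P
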