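import Cfsg.Agent.Lib.Helper29.ExtrL.Basic

/-!
# EXTRACTION-L, piece Fa (`c0_weights`): under `C0`, every column of a non-monomial element of `M`
has at most one zero.
-/

set_option autoImplicit false

namespace Cfsg.Agent.Lib.Helper11.ExtrL

open Matrix Cfsg.Agent.Lib.Helper29.ExtrL

variable {ι : Type} [Fintype ι] [DecidableEq ι] {F : Type*} [Field F]

/-- at most three columns of an invertible matrix lie in the span of three vectors. -/
theorem fa_dim (g : Matrix.GeneralLinearGroup ι F) (S : Finset ι) (v1 v2 v3 : ι → F)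
    (hS : ∀ s ∈ S, (fun r => (g : Matrix ι ι F) r s) ∈
      Submodule.span F ({v1, v2, v3} : Set (ι → F))) :
    S.card ≤ 3 := by
  classical
  have hli : LinearIndependent F (g : Matrix ι ι F).col :=
    Matrix.linearIndependent_cols_iff_isUnit.2 (Units.isUnit g)
  have hli' : LinearIndependent F (fun s : S => (g : Matrix ι ι F).col s.1) :=
    hli.comp (fun s : S => s.1) Subtype.val_injective
  have h1 := finrank_span_eq_card hli'
  have hle : Submodule.span F (Set.range (fun s : S => (g : Matrix ι ι F).col s.1)) ≤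
      Submodule.span F ({v1, v2, v3} : Set (ι → F)) := by
    rw [Submodule.span_le]
    rintro _ ⟨s, rfl⟩
    exact hS s.1 s.2
  have h2 := Submodule.finrank_mono hle
  have h3 : Module.finrank F (Submodule.span F ({v1, v2, v3} : Set (ι → F))) ≤ 3 := by
    have h := finrank_span_finset_le_card (R := F) ({v1, v2, v3} : Finset (ι → F))
    have hc : ({v1, v2, v3} : Finset (ι → F)).card ≤ 3 := Finset.card_le_three
    have he : ((({v1, v2, v3} : Finset (ι → F)) : Set (ι → F))) = ({v1, v2, v3} : Set (ι → F)) := by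
      simp
    rw [Set.finrank, he] at h
    exact h.trans hc
  rw [Fintype.card_coe] at h1
  omega

/-- the basic relation: if column `b` of `g⁻¹ T_{ij}(e) g` is supported at row `s`, then
`T_{ij}(e)` maps column `b` of `g` to a multiple of column `s` of `g`. -/
theorem fa_star (g : Matrix.GeneralLinearGroup ι F) (i j : ι) (e : Fˣ) (b s : ι)
    (hcol : ColAt ((g⁻¹ * Tij i j e * g : Matrix.GeneralLinearGroup ι F) : Matrix ι ι F) b s)
    (r : ι) :
    (((if r = i then e else if r = j then e⁻¹ else 1 : Fˣ)) : F) * (g : Matrix ι ι F) r b =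
      (g : Matrix ι ι F) r s *
        ((g⁻¹ * Tij i j e * g : Matrix.GeneralLinearGroup ι F) : Matrix ι ι F) s b := by
  have h : (Tij i j e * g : Matrix.GeneralLinearGroup ι F) = g * (g⁻¹ * Tij i j e * g) := by
    group
  have h' := congrArg (fun x : Matrix.GeneralLinearGroup ι F => (x : Matrix ι ι F) r b) h
  simp only [Units.val_mul] at h'
  have hl : (((Tij i j e : Matrix.GeneralLinearGroup ι F) : Matrix ι ι F) * (g : Matrix ι ι F)) r b
      = (((if r = i then e else if r = j then e⁻¹ else 1 : Fˣ)) : F) * (g : Matrix ι ι F) r b := by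
    unfold Tij
    rw [dg_mul_apply]
  rw [← hl, h', Matrix.mul_apply]
  rw [Finset.sum_eq_single s]
  · simp only [Units.val_mul]
  · intro s' _ hs'
    have := hcol s' hs'
    simp only [Units.val_mul] at this
    rw [this, mul_zero]
  · intro h0; exact (h0 (Finset.mem_univ s)).elim

/-- two values `e, e'` giving the same target column coincide. -/
theorem fa_inj_aux (g : Matrix.GeneralLinearGroup ι F) (i j : ι) (e e' : Fˣ) (b s k : ι)
    (hcol : ColAt ((g⁻¹ * Tij i j e * g : Matrix.GeneralLinearGroup ι F) : Matrix ι ι F) b s)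
    (hcol' : ColAt ((g⁻¹ * Tij i j e' * g : Matrix.GeneralLinearGroup ι F) : Matrix ι ι F) b s)
    (hki : k ≠ i) (hkj : k ≠ j) (hk0 : (g : Matrix ι ι F) k b ≠ 0)
    (hij0 : (g : Matrix ι ι F) i b = 0 → (g : Matrix ι ι F) j b ≠ 0) : e = e' := by
  have hstar := fun (r : ι) => fa_star g i j e b s hcol r
  have hstar' := fun (r : ι) => fa_star g i j e' b s hcol' r
  generalize ((g⁻¹ * Tij i j e * g : Matrix.GeneralLinearGroup ι F) : Matrix ι ι F) s b = c
    at hstar
  generalize ((g⁻¹ * Tij i j e' * g : Matrix.GeneralLinearGroup ι F) : Matrix ι ι F) s b = c'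
    at hstar'
  have hk := hstar k
  have hk' := hstar' k
  rw [if_neg hki, if_neg hkj, Units.val_one, one_mul] at hk hk'
  have hgk0 : (g : Matrix ι ι F) k s ≠ 0 := by
    intro h0
    rw [h0, zero_mul] at hk
    exact hk0 hk
  have hcc : c = c' := mul_left_cancel₀ hgk0 (hk.symm.trans hk')
  subst hcc
  by_cases hi0 : (g : Matrix ι ι F) i b = 0
  · have hj0 := hij0 hi0
    have h1 := hstar j
    have h2 := hstar' j
    by_cases hji : j = i
    · exact (hj0 (hji ▸ hi0)).elim
    · rw [if_neg hji, if_pos rfl] at h1 h2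
      have h3 : ((e⁻¹ : Fˣ) : F) * (g : Matrix ι ι F) j b
          = ((e'⁻¹ : Fˣ) : F) * (g : Matrix ι ι F) j b := by
        rw [h1, h2]
      have h4 := mul_right_cancel₀ hj0 h3
      have h5 : (e⁻¹ : Fˣ) = e'⁻¹ := Units.ext h4
      exact inv_injective h5
  · have h1 := hstar i
    have h2 := hstar' i
    rw [if_pos rfl] at h1 h2
    have h3 : (e : F) * (g : Matrix ι ι F) i b = (e' : F) * (g : Matrix ι ι F) i b := by
      rw [h1, h2]
    exact Units.ext (mul_right_cancel₀ hi0 h3)

/-- (Q'): if `g⁻¹ T_{ij}(e) g` is monomial for all `e`, every column of `g` vanishes at `i, j` or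
vanishes outside `{i, j}`. -/
theorem fa_Q [Fintype F] (hq : 5 ≤ Fintype.card F) (g : Matrix.GeneralLinearGroup ι F) (i j : ι)
    (hmono : ∀ e : Fˣ,
      IsMono ((g⁻¹ * Tij i j e * g : Matrix.GeneralLinearGroup ι F) : Matrix ι ι F))
    (b : ι) :
    ((g : Matrix ι ι F) i b = 0 ∧ (g : Matrix ι ι F) j b = 0) ∨
      ∀ k, k ≠ i → k ≠ j → (g : Matrix ι ι F) k b = 0 := by
  classical
  by_contra hcon
  push Not at hcon
  obtain ⟨hij0, k, hki, hkj, hk0⟩ := hcon
  choose σ hσ using fun e : Fˣ => hmono e b
  have hinj : Function.Injective σ := by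
    intro e e' hee
    exact fa_inj_aux g i j e e' b (σ e) k (hσ e) (hee ▸ hσ e') hki hkj hk0 hij0
  -- the image of σ
  have hcard : (Finset.univ.image σ).card = Fintype.card F - 1 := by
    rw [Finset.card_image_of_injective _ hinj, Finset.card_univ, Fintype.card_units]
  have hle := fa_dim g (Finset.univ.image σ)
    (fun r => if r = i ∨ r = j then 0 else (g : Matrix ι ι F) r b)
    (Pi.single i 1) (Pi.single j 1) (by
      intro s hs
      obtain ⟨e, _, rfl⟩ := Finset.mem_image.mp hs
      have hstar := fun (r : ι) => fa_star g i j e b (σ e) (hσ e) r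
      generalize ((g⁻¹ * Tij i j e * g : Matrix.GeneralLinearGroup ι F) : Matrix ι ι F) (σ e) b = c
        at hstar
      have hc0 : c ≠ 0 := by
        intro h0
        have := hstar k
        rw [if_neg hki, if_neg hkj, Units.val_one, one_mul, h0, mul_zero] at this
        exact hk0 this
      have hval : (fun r => (g : Matrix ι ι F) r (σ e)) =
          c⁻¹ • ((fun r => if r = i ∨ r = j then 0 else (g : Matrix ι ι F) r b) +
            ((e : F) * (g : Matrix ι ι F) i b) • (Pi.single i (1 : F) : ι → F) +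
            (if j = i then (0 : F) else (((e⁻¹ : Fˣ) : F) * (g : Matrix ι ι F) j b)) •
              (Pi.single j (1 : F) : ι → F)) := by
        funext r
        have hr := hstar r
        have hgr : (g : Matrix ι ι F) r (σ e) =
            c⁻¹ * ((((if r = i then e else if r = j then e⁻¹ else 1 : Fˣ)) : F) *
              (g : Matrix ι ι F) r b) := by
          rw [hr]
          field_simp [hc0]
        rw [hgr]
        simp only [Pi.smul_apply, Pi.add_apply, smul_eq_mul, Pi.single_apply]
        congr 1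
        by_cases hri : r = i
        · subst hri
          by_cases hjr : j = r
          · subst hjr; simp
          · simp [hjr, Ne.symm hjr]
        · by_cases hrj : r = j
          · subst hrj
            simp [hri]
          · simp [hri, hrj]
      rw [hval]
      refine Submodule.smul_mem _ _ (Submodule.add_mem _ (Submodule.add_mem _ ?_ ?_) ?_)
      · exact Submodule.subset_span (by simp)
      · exact Submodule.smul_mem _ _ (Submodule.subset_span (by simp))
      · exact Submodule.smul_mem _ _ (Submodule.subset_span (by simp)))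
  omega

/-- (K) for `T_{jk}(e)` and a column vanishing at rows `j, k`. -/
theorem fa_K {M : Subgroup (Matrix.GeneralLinearGroup ι F)} (hN : HasMonoSL M) (hC0 : C0 M)
    {g : Matrix.GeneralLinearGroup ι F} (hg : g ∈ M) (a j k : ι) (hjk : j ≠ k)
    (h0j : (g : Matrix ι ι F) j a = 0) (h0k : (g : Matrix ι ι F) k a = 0) (e : Fˣ) :
    IsMono ((g⁻¹ * Tij j k e * g : Matrix.GeneralLinearGroup ι F) : Matrix ι ι F) := by
  apply c0_conj hC0 hg (Tij_mem hN hjk e) a 1
  intro r
  unfold Tij
  rw [dg_mul_apply, one_mul]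
  by_cases hrj : r = j
  · subst hrj
    rw [h0j, mul_zero]
  · by_cases hrk : r = k
    · subst hrk
      rw [h0k, mul_zero]
    · rw [if_neg hrj, if_neg hrk, Units.val_one, one_mul]

/-- step (1): no column of a non-monomial element has three zeros. -/
theorem fa_three [Fintype F] (hq : 5 ≤ Fintype.card F)
    (M : Subgroup (Matrix.GeneralLinearGroup ι F)) (hN : HasMonoSL M) (hC0 : C0 M)
    (g : Matrix.GeneralLinearGroup ι F) (hg : g ∈ M) (hnm : ¬ IsMono (g : Matrix ι ι F))
    (a j k l : ι) (hjk : j ≠ k) (hjl : j ≠ l) (hkl : k ≠ l)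
    (h0j : (g : Matrix ι ι F) j a = 0) (h0k : (g : Matrix ι ι F) k a = 0)
    (h0l : (g : Matrix ι ι F) l a = 0) : False := by
  have hQ1 := fa_Q hq g j k (fun e => fa_K hN hC0 hg a j k hjk h0j h0k e)
  have hQ2 := fa_Q hq g j l (fun e => fa_K hN hC0 hg a j l hjl h0j h0l e)
  obtain ⟨b, hb⟩ := gl_row_ne_zero g j
  have h1 : ∀ r, r ≠ j → r ≠ k → (g : Matrix ι ι F) r b = 0 := by
    rcases hQ1 b with h | h
    · exact (hb h.1).elim
    · exact h
  have h2 : ∀ r, r ≠ j → r ≠ l → (g : Matrix ι ι F) r b = 0 := by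
    rcases hQ2 b with h | h
    · exact (hb h.1).elim
    · exact h
  apply hnm
  apply hC0 g hg
  refine ⟨b, j, fun r hr => ?_⟩
  by_cases hrk : r = k
  · subst hrk
    exact h2 r hr hkl
  · exact h1 r hr hrk

/-- Fa -/
theorem c0_weights [Fintype F] (hq : 5 ≤ Fintype.card F) (hn : 5 ≤ Fintype.card ι)
    (M : Subgroup (Matrix.GeneralLinearGroup ι F)) (hMS : InSL M) (hN : HasMonoSL M)
    (hC0 : C0 M) : W1 M := by
  classical
  intro g hg hnm a i j hij h0
  obtain ⟨h0i, h0j⟩ := h0
  have hQ := fa_Q hq g i j (fun e => fa_K hN hC0 hg a i j hij h0i h0j e)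
  obtain ⟨b, hb⟩ := gl_row_ne_zero g i
  have h1 : ∀ r, r ≠ i → r ≠ j → (g : Matrix ι ι F) r b = 0 := by
    rcases hQ b with h | h
    · exact (hb h.1).elim
    · exact h
  -- three further rows
  have hcard : 2 < ((Finset.univ.erase i).erase j).card := by
    rw [Finset.card_erase_of_mem (Finset.mem_erase.mpr ⟨Ne.symm hij, Finset.mem_univ j⟩),
      Finset.card_erase_of_mem (Finset.mem_univ i), Finset.card_univ]
    omega
  obtain ⟨r1, r2, r3, hr1, hr2, hr3, h12, h13, h23⟩ := Finset.two_lt_card_iff.mp hcard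
  simp only [Finset.mem_erase, Finset.mem_univ, and_true] at hr1 hr2 hr3
  exact fa_three hq M hN hC0 g hg hnm b r1 r2 r3 h12 h13 h23
    (h1 r1 hr1.2 hr1.1) (h1 r2 hr2.2 hr2.1) (h1 r3 hr3.2 hr3.1)

end Cfsg.Agent.Lib.Helper11.ExtrL
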