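import Cfsg.Agent.Lib.Helper29.ExtrL.G12

/-!
# EXTRACTION-L, piece G4 (`gl_q5`): the GL-theorem over the field with five elements.
-/

set_option autoImplicit false

namespace Cfsg.Agent.Lib.Helper11.ExtrL

open Matrix Cfsg.Agent.Lib.Helper29.ExtrL

variable {κ : Type} [Fintype κ] [DecidableEq κ] {F : Type*} [Field F]

/-- entries of `ρ = h d_k(e) h⁻¹`. -/
theorem q5_rho_apply (h : Matrix.GeneralLinearGroup κ F) (k : κ) (e : Fˣ) (i j : κ) :
    ((h * dk k e * h⁻¹ : Matrix.GeneralLinearGroup κ F) : Matrix κ κ F) i j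
      = (if i = j then 1 else 0) + ((e : F) - 1) * (h : Matrix κ κ F) i k *
          ((h⁻¹ : Matrix.GeneralLinearGroup κ F) : Matrix κ κ F) k j := by
  rw [conj_dk_val, PP_apply]

/-- entries of `ρ⁻¹`. -/
theorem q5_rho_inv_apply (h : Matrix.GeneralLinearGroup κ F) (k : κ) (e : Fˣ) (i j : κ) :
    (((h * dk k e * h⁻¹)⁻¹ : Matrix.GeneralLinearGroup κ F) : Matrix κ κ F) i j
      = (if i = j then 1 else 0) + (((e⁻¹ : Fˣ) : F) - 1) * (h : Matrix κ κ F) i k *
          ((h⁻¹ : Matrix.GeneralLinearGroup κ F) : Matrix κ κ F) k j := by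
  rw [conj_inv_eq, dk_inv, conj_dk_val, PP_apply]

/-- numerics in characteristic five: a natural number `a` with `a, a - 1, 2a - 1` prime to `5` is
none of `0, 1, 1/2`. -/
theorem q5_num (hne : ∀ n : ℕ, ¬ 5 ∣ n → (n : F) ≠ 0) (h5 : (5 : F) = 0) (a : ℕ)
    (ha0 : ¬ 5 ∣ a) (ha1 : ¬ 5 ∣ (a + 4)) (ha2 : ¬ 5 ∣ (2 * a + 4)) :
    ¬ ((a : F) = 0 ∨ (a : F) = 1 ∨ 2 * (a : F) = 1) := by
  rintro (h | h | h)
  · exact hne a ha0 h
  · refine hne (a + 4) ha1 ?_
    push_cast
    linear_combination h + h5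
  · refine hne (2 * a + 4) ha2 ?_
    push_cast
    linear_combination h + h5

/-- (i): two nonzero entries in a column force both `A`'s to be `1/2`. -/
theorem q5_i [Fintype F] (hne : ∀ n : ℕ, ¬ 5 ∣ n → (n : F) ≠ 0) (h5 : (5 : F) = 0)
    (hq3 : 3 ≤ Fintype.card F) (H : Subgroup (Matrix.GeneralLinearGroup κ F))
    (hD : HasDiag H) (hno : ¬ HasElemTv H) (h : Matrix.GeneralLinearGroup κ F) (hh : h ∈ H)
    (k l l' : κ) (hll' : l ≠ l') (hl : (h : Matrix κ κ F) l k ≠ 0)
    (hl' : (h : Matrix κ κ F) l' k ≠ 0) :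
    2 * ((h : Matrix κ κ F) l k * ((h⁻¹ : Matrix.GeneralLinearGroup κ F) : Matrix κ κ F) k l) = 1 ∧
    2 * ((h : Matrix κ κ F) l' k * ((h⁻¹ : Matrix.GeneralLinearGroup κ F) : Matrix κ κ F) k l') = 1 := by
  have hφl : ((h⁻¹ : Matrix.GeneralLinearGroup κ F) : Matrix κ κ F) k l ≠ 0 :=
    fun h0 => hl ((gl_P1 hq3 H hD hno h hh k l).mpr h0)
  have hφl' : ((h⁻¹ : Matrix.GeneralLinearGroup κ F) : Matrix κ κ F) k l' ≠ 0 :=
    fun h0 => hl' ((gl_P1 hq3 H hD hno h hh k l').mpr h0)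
  have hA := gl_P2 hq3 H hD hno h hh k l
  have hA' := gl_P2 hq3 H hD hno h hh k l'
  have hρ : h * dk k (-1) * h⁻¹ ∈ H := H.mul_mem (H.mul_mem hh (dk_mem hD k (-1))) (H.inv_mem hh)
  have hP := gl_P2 hq3 H hD hno _ hρ l' l
  have e1 : ((h * dk k (-1) * h⁻¹ : Matrix.GeneralLinearGroup κ F) : Matrix κ κ F) l l'
      = (-2) * (h : Matrix κ κ F) l k * ((h⁻¹ : Matrix.GeneralLinearGroup κ F) : Matrix κ κ F) k l' := by
    rw [q5_rho_apply, if_neg hll', zero_add, Units.val_neg, Units.val_one]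
    ring
  have e2 : (((h * dk k (-1) * h⁻¹)⁻¹ : Matrix.GeneralLinearGroup κ F) : Matrix κ κ F) l' l
      = (-2) * (h : Matrix κ κ F) l' k * ((h⁻¹ : Matrix.GeneralLinearGroup κ F) : Matrix κ κ F) k l := by
    rw [q5_rho_inv_apply, if_neg hll'.symm, zero_add, inv_neg, inv_one, Units.val_neg, Units.val_one]
    ring
  rw [e1, e2] at hP
  generalize hAd : (h : Matrix κ κ F) l k * ((h⁻¹ : Matrix.GeneralLinearGroup κ F) : Matrix κ κ F) k l = A
    at hA ⊢
  generalize hAd' : (h : Matrix κ κ F) l' k * ((h⁻¹ : Matrix.GeneralLinearGroup κ F) : Matrix κ κ F) k l' = A'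
    at hA' ⊢
  have hprod : (-2) * (h : Matrix κ κ F) l k * ((h⁻¹ : Matrix.GeneralLinearGroup κ F) : Matrix κ κ F) k l' *
      ((-2) * (h : Matrix κ κ F) l' k * ((h⁻¹ : Matrix.GeneralLinearGroup κ F) : Matrix κ κ F) k l)
      = 4 * A * A' := by
    rw [← hAd, ← hAd']; ring
  rw [hprod] at hP
  have hA0 : A ≠ 0 := by rw [← hAd]; exact mul_ne_zero hl hφl
  have hA0' : A' ≠ 0 := by rw [← hAd']; exact mul_ne_zero hl' hφl'
  have hAc : A = 1 ∨ A = 3 := by
    rcases hA with h0 | h1 | h2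
    · exact (hA0 h0).elim
    · exact Or.inl h1
    · exact Or.inr (by linear_combination 3 * h2 - A * h5)
  have hAc' : A' = 1 ∨ A' = 3 := by
    rcases hA' with h0 | h1 | h2
    · exact (hA0' h0).elim
    · exact Or.inl h1
    · exact Or.inr (by linear_combination 3 * h2 - A' * h5)
  rcases hAc with hA1 | hA3 <;> rcases hAc' with hA1' | hA3'
  · exfalso
    rw [hA1, hA1'] at hP
    refine q5_num hne h5 4 (by decide) (by decide) (by decide) ?_
    push_cast
    rcases hP with h | h | h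
    · exact Or.inl (by linear_combination h)
    · exact Or.inr (Or.inl (by linear_combination h))
    · exact Or.inr (Or.inr (by linear_combination h))
  · exfalso
    rw [hA1, hA3'] at hP
    refine q5_num hne h5 12 (by decide) (by decide) (by decide) ?_
    push_cast
    rcases hP with h | h | h
    · exact Or.inl (by linear_combination h)
    · exact Or.inr (Or.inl (by linear_combination h))
    · exact Or.inr (Or.inr (by linear_combination h))
  · exfalso
    rw [hA3, hA1'] at hP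
    refine q5_num hne h5 12 (by decide) (by decide) (by decide) ?_
    push_cast
    rcases hP with h | h | h
    · exact Or.inl (by linear_combination h)
    · exact Or.inr (Or.inl (by linear_combination h))
    · exact Or.inr (Or.inr (by linear_combination h))
  · rw [hA3, hA3']
    constructor <;> linear_combination h5

/-- (ii): no column has three nonzero entries. -/
theorem q5_ii [Fintype F] (hne : ∀ n : ℕ, ¬ 5 ∣ n → (n : F) ≠ 0) (h5 : (5 : F) = 0)
    (hq3 : 3 ≤ Fintype.card F) (H : Subgroup (Matrix.GeneralLinearGroup κ F))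
    (hD : HasDiag H) (hno : ¬ HasElemTv H) (h : Matrix.GeneralLinearGroup κ F) (hh : h ∈ H)
    (k l l' l'' : κ) (hll' : l ≠ l') (hll'' : l ≠ l'') (hl'l'' : l' ≠ l'')
    (hl : (h : Matrix κ κ F) l k ≠ 0) (hl' : (h : Matrix κ κ F) l' k ≠ 0)
    (hl'' : (h : Matrix κ κ F) l'' k ≠ 0) : False := by
  have hφl : ((h⁻¹ : Matrix.GeneralLinearGroup κ F) : Matrix κ κ F) k l ≠ 0 :=
    fun h0 => hl ((gl_P1 hq3 H hD hno h hh k l).mpr h0)
  obtain ⟨hA, hA'⟩ := q5_i hne h5 hq3 H hD hno h hh k l l' hll' hl hl'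
  have hρ : h * dk k (-1) * h⁻¹ ∈ H := H.mul_mem (H.mul_mem hh (dk_mem hD k (-1))) (H.inv_mem hh)
  have h2 : (-2 : F) ≠ 0 := by
    have := hne 2 (by decide)
    push_cast at this
    exact neg_ne_zero.mpr this
  have e1 : ((h * dk k (-1) * h⁻¹ : Matrix.GeneralLinearGroup κ F) : Matrix κ κ F) l' l
      = (-2) * (h : Matrix κ κ F) l' k * ((h⁻¹ : Matrix.GeneralLinearGroup κ F) : Matrix κ κ F) k l := by
    rw [q5_rho_apply, if_neg hll'.symm, zero_add, Units.val_neg, Units.val_one]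
    ring
  have e1' : ((h * dk k (-1) * h⁻¹ : Matrix.GeneralLinearGroup κ F) : Matrix κ κ F) l'' l
      = (-2) * (h : Matrix κ κ F) l'' k * ((h⁻¹ : Matrix.GeneralLinearGroup κ F) : Matrix κ κ F) k l := by
    rw [q5_rho_apply, if_neg hll''.symm, zero_add, Units.val_neg, Units.val_one]
    ring
  have e2 : (((h * dk k (-1) * h⁻¹)⁻¹ : Matrix.GeneralLinearGroup κ F) : Matrix κ κ F) l l'
      = (-2) * (h : Matrix κ κ F) l k * ((h⁻¹ : Matrix.GeneralLinearGroup κ F) : Matrix κ κ F) k l' := by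
    rw [q5_rho_inv_apply, if_neg hll', zero_add, inv_neg, inv_one, Units.val_neg, Units.val_one]
    ring
  have hne1 : ((h * dk k (-1) * h⁻¹ : Matrix.GeneralLinearGroup κ F) : Matrix κ κ F) l' l ≠ 0 := by
    rw [e1]; exact mul_ne_zero (mul_ne_zero h2 hl') hφl
  have hne2 : ((h * dk k (-1) * h⁻¹ : Matrix.GeneralLinearGroup κ F) : Matrix κ κ F) l'' l ≠ 0 := by
    rw [e1']; exact mul_ne_zero (mul_ne_zero h2 hl'') hφl
  obtain ⟨hB, -⟩ := q5_i hne h5 hq3 H hD hno _ hρ l l' l'' hl'l'' hne1 hne2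
  rw [e1, e2] at hB
  have h10 : (1 : F) = 0 := by
    linear_combination hB - 4 * ((h : Matrix κ κ F) l' k *
      ((h⁻¹ : Matrix.GeneralLinearGroup κ F) : Matrix κ κ F) k l') * hA - 2 * hA'
  exact one_ne_zero h10

/-- the transposition matrix. -/
def swM (l l' : κ) : Matrix κ κ F := fun a b => if Equiv.swap l l' b = a then 1 else 0

theorem swM_mul_apply (l l' : κ) (X : Matrix κ κ F) (a c : κ) :
    ((swM l l' : Matrix κ κ F) * X) a c = X (Equiv.swap l l' a) c := by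
  rw [Matrix.mul_apply, Finset.sum_eq_single (Equiv.swap l l' a)]
  · unfold swM
    rw [Equiv.swap_apply_self, if_pos rfl, one_mul]
  · intro b _ hb
    unfold swM
    rw [if_neg, zero_mul]
    intro hba
    apply hb
    rw [← hba, Equiv.swap_apply_self]
  · intro h0; exact (h0 (Finset.mem_univ _)).elim

theorem mul_swM_apply (l l' : κ) (X : Matrix κ κ F) (a c : κ) :
    (X * (swM l l' : Matrix κ κ F)) a c = X a (Equiv.swap l l' c) := by
  rw [Matrix.mul_apply, Finset.sum_eq_single (Equiv.swap l l' c)]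
  · unfold swM
    rw [if_pos rfl, mul_one]
  · intro b _ hb
    unfold swM
    rw [if_neg (Ne.symm hb), mul_zero]
  · intro h0; exact (h0 (Finset.mem_univ _)).elim

theorem swM_mul_self (l l' : κ) : (swM l l' : Matrix κ κ F) * swM l l' = 1 := by
  ext a c
  rw [swM_mul_apply, Matrix.one_apply]
  unfold swM
  by_cases hac : a = c
  · subst hac
    rw [if_pos rfl, if_pos rfl]
  · rw [if_neg hac, if_neg]
    intro h0
    exact hac ((Equiv.swap l l').injective h0.symm)

/-- the transposition matrix as an element of `GL`. -/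
def swG (l l' : κ) : Matrix.GeneralLinearGroup κ F :=
  ⟨swM l l', swM l l', swM_mul_self l l', swM_mul_self l l'⟩

theorem swG_mem {H : Subgroup (Matrix.GeneralLinearGroup κ F)} (hS : HasSwaps H) (l l' : κ) :
    (swG l l' : Matrix.GeneralLinearGroup κ F) ∈ H :=
  hS l l' _ (fun _ _ => rfl)

theorem swG_conj_apply (l l' : κ) (x : Matrix.GeneralLinearGroup κ F) (a c : κ) :
    ((swG l l' * x * (swG l l')⁻¹ : Matrix.GeneralLinearGroup κ F) : Matrix κ κ F) a c
      = (x : Matrix κ κ F) (Equiv.swap l l' a) (Equiv.swap l l' c) := by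
  rw [Units.val_mul, Units.val_mul]
  show ((swM l l' : Matrix κ κ F) * (x : Matrix κ κ F) * (swM l l' : Matrix κ κ F)) a c = _
  rw [mul_swM_apply, swM_mul_apply]

/-- conjugating `1 + u φ` by a transposition. -/
theorem swG_conj_PP (l l' : κ) (x : Matrix.GeneralLinearGroup κ F) (u φ : κ → F)
    (hx : (x : Matrix κ κ F) = PP u φ) :
    ((swG l l' * x * (swG l l')⁻¹ : Matrix.GeneralLinearGroup κ F) : Matrix κ κ F)
      = PP (fun i => u (Equiv.swap l l' i)) (fun j => φ (Equiv.swap l l' j)) := by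
  ext a c
  rw [swG_conj_apply, hx, PP_apply, PP_apply]
  congr 1
  by_cases hac : a = c
  · subst hac; rw [if_pos rfl, if_pos rfl]
  · rw [if_neg hac, if_neg]
    intro h0
    exact hac ((Equiv.swap l l').injective h0)

theorem PP_mul_apply (u φ u' φ' : κ → F) (a c : κ) :
    (PP u φ * PP u' φ') a c
      = (if a = c then 1 else 0) + u a * φ c + u' a * φ' c + u a * ((φ ⬝ᵥ u') * φ' c) := by
  rw [PP_mul]
  simp only [Matrix.add_apply, Matrix.one_apply, vecMulVec_apply, Pi.smul_apply, smul_eq_mul]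

theorem q5_sum1 (l l2 l' : κ) (hl2l : l2 ≠ l) (hl'l2 : l' ≠ l2) (u φ : κ → F)
    (hu : ∀ m, m ≠ l → m ≠ l2 → u m = 0) (hφ : φ l' = 0) :
    (φ ⬝ᵥ fun i => u (Equiv.swap l l' i)) = φ l2 * u l2 := by
  simp only [dotProduct]
  rw [Finset.sum_eq_single l2]
  · rw [Equiv.swap_apply_of_ne_of_ne hl2l (Ne.symm hl'l2)]
  · intro b _ hb
    by_cases hbl : b = l
    · subst hbl
      rw [Equiv.swap_apply_left]
      by_cases hl'b : l' = b
      · rw [hl'b] at hφ; rw [hφ, zero_mul]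
      · rw [hu l' hl'b hl'l2, mul_zero]
    · by_cases hbl' : b = l'
      · subst hbl'
        rw [hφ, zero_mul]
      · rw [Equiv.swap_apply_of_ne_of_ne hbl hbl', hu b hbl hb, mul_zero]
  · intro h0; exact (h0 (Finset.mem_univ _)).elim

theorem q5_sum2 (l l2 l' : κ) (hl2l : l2 ≠ l) (hl'l2 : l' ≠ l2) (u φ : κ → F)
    (hu : ∀ m, m ≠ l → m ≠ l2 → u m = 0) (hφ : φ l' = 0) :
    ((fun i => φ (Equiv.swap l l' i)) ⬝ᵥ u) = φ l2 * u l2 := by
  simp only [dotProduct]
  rw [Finset.sum_eq_single l2]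
  · rw [Equiv.swap_apply_of_ne_of_ne hl2l (Ne.symm hl'l2)]
  · intro b _ hb
    by_cases hbl : b = l
    · subst hbl
      rw [Equiv.swap_apply_left, hφ, zero_mul]
    · rw [hu b hbl hb, mul_zero]
  · intro h0; exact (h0 (Finset.mem_univ _)).elim

/-- (iii): no column has exactly two nonzero entries. -/
theorem q5_iii [Fintype F] (hne : ∀ n : ℕ, ¬ 5 ∣ n → (n : F) ≠ 0) (h5 : (5 : F) = 0)
    (hq3 : 3 ≤ Fintype.card F) (H : Subgroup (Matrix.GeneralLinearGroup κ F))
    (hD : HasDiag H) (hS : HasSwaps H) (hno : ¬ HasElemTv H)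
    (h : Matrix.GeneralLinearGroup κ F) (hh : h ∈ H)
    (k l l2 l' : κ) (hl2l : l2 ≠ l) (hl'l : l' ≠ l) (hl'l2 : l' ≠ l2)
    (hl : (h : Matrix κ κ F) l k ≠ 0) (hl2 : (h : Matrix κ κ F) l2 k ≠ 0)
    (hsupp : ∀ m, m ≠ l → m ≠ l2 → (h : Matrix κ κ F) m k = 0) : False := by
  obtain ⟨hA, hA2⟩ := q5_i hne h5 hq3 H hD hno h hh k l l2 (Ne.symm hl2l) hl hl2
  have hφl' : ((h⁻¹ : Matrix.GeneralLinearGroup κ F) : Matrix κ κ F) k l' = 0 :=
    (gl_P1 hq3 H hD hno h hh k l').mp (hsupp l' hl'l hl'l2)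
  have h2ne : (2 : F) ≠ 0 := by
    have := hne 2 (by decide)
    push_cast at this
    exact this
  set e2 : Fˣ := Units.mk0 (2 : F) h2ne with he2
  have he2v : (e2 : F) = 2 := Units.val_mk0 h2ne
  have he2i : ((e2⁻¹ : Fˣ) : F) = 3 := by
    rw [Units.val_inv_eq_inv_val, he2v]
    apply inv_eq_of_mul_eq_one_right
    linear_combination h5
  set φ : κ → F := fun j => ((h⁻¹ : Matrix.GeneralLinearGroup κ F) : Matrix κ κ F) k j with hφ
  set u : κ → F := fun i => ((e2 : F) - 1) * (h : Matrix κ κ F) i k with hu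
  set v : κ → F := fun i => (((e2⁻¹ : Fˣ) : F) - 1) * (h : Matrix κ κ F) i k with hv
  have hr : ((h * dk k e2 * h⁻¹ : Matrix.GeneralLinearGroup κ F) : Matrix κ κ F) = PP u φ :=
    conj_dk_val h k e2
  have hri : ((h * dk k e2⁻¹ * h⁻¹ : Matrix.GeneralLinearGroup κ F) : Matrix κ κ F) = PP v φ :=
    conj_dk_val h k e2⁻¹
  have hrH : h * dk k e2 * h⁻¹ ∈ H := H.mul_mem (H.mul_mem hh (dk_mem hD k e2)) (H.inv_mem hh)
  have hsw : (swG l l' : Matrix.GeneralLinearGroup κ F) ∈ H := swG_mem hS l l'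
  set x : Matrix.GeneralLinearGroup κ F :=
    (h * dk k e2 * h⁻¹) * (swG l l' * (h * dk k e2 * h⁻¹) * (swG l l')⁻¹) with hx
  have hxH : x ∈ H := H.mul_mem hrH (H.mul_mem (H.mul_mem hsw hrH) (H.inv_mem hsw))
  have hxinv : x⁻¹ = (swG l l' * (h * dk k e2⁻¹ * h⁻¹) * (swG l l')⁻¹) * (h * dk k e2⁻¹ * h⁻¹) := by
    rw [hx, ← dk_inv]
    group
  have hxv : (x : Matrix κ κ F) = PP u φ * PP (fun i => u (Equiv.swap l l' i))
      (fun j => φ (Equiv.swap l l' j)) := by
    rw [hx, Units.val_mul, swG_conj_PP l l' _ u φ hr, hr]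
  have hxiv : ((x⁻¹ : Matrix.GeneralLinearGroup κ F) : Matrix κ κ F)
      = PP (fun i => v (Equiv.swap l l' i)) (fun j => φ (Equiv.swap l l' j)) * PP v φ := by
    rw [hxinv, Units.val_mul, swG_conj_PP l l' _ v φ hri, hri]
  have hul' : u l' = 0 := by rw [hu]; simp only; rw [hsupp l' hl'l hl'l2, mul_zero]
  have hvl' : v l' = 0 := by rw [hv]; simp only; rw [hsupp l' hl'l hl'l2, mul_zero]
  have husupp : ∀ m, m ≠ l → m ≠ l2 → u m = 0 := by
    intro m h1 h2; rw [hu]; simp only; rw [hsupp m h1 h2, mul_zero]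
  have hvsupp : ∀ m, m ≠ l → m ≠ l2 → v m = 0 := by
    intro m h1 h2; rw [hv]; simp only; rw [hsupp m h1 h2, mul_zero]
  have e1 : (x : Matrix κ κ F) l l' = u l * (φ l2 * u l2 * φ l) := by
    rw [hxv, PP_mul_apply, q5_sum1 l l2 l' hl2l hl'l2 u φ husupp hφl', if_neg (Ne.symm hl'l),
      Equiv.swap_apply_left, Equiv.swap_apply_right, hul']
    have : φ l' = 0 := hφl'
    rw [this]
    ring
  have e2' : ((x⁻¹ : Matrix.GeneralLinearGroup κ F) : Matrix κ κ F) l' l
      = v l * (φ l2 * v l2 * φ l) := by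
    rw [hxiv, PP_mul_apply, q5_sum2 l l2 l' hl2l hl'l2 v φ hvsupp hφl', if_neg hl'l,
      Equiv.swap_apply_left, Equiv.swap_apply_right, hvl']
    have : φ l' = 0 := hφl'
    rw [this]
    ring
  have hP := gl_P2 hq3 H hD hno x hxH l' l
  rw [e1, e2'] at hP
  -- the product is `4 (A A₂)²`, and `4 * it = 1`
  have hul : u l = (h : Matrix κ κ F) l k := by rw [hu]; simp only; rw [he2v]; ring
  have hul2 : u l2 = (h : Matrix κ κ F) l2 k := by rw [hu]; simp only; rw [he2v]; ring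
  have hvl : v l = 2 * (h : Matrix κ κ F) l k := by rw [hv]; simp only; rw [he2i]; ring
  have hvl2 : v l2 = 2 * (h : Matrix κ κ F) l2 k := by rw [hv]; simp only; rw [he2i]; ring
  rw [hul, hul2, hvl, hvl2] at hP
  have hφl : φ l = ((h⁻¹ : Matrix.GeneralLinearGroup κ F) : Matrix κ κ F) k l := rfl
  have hφl2 : φ l2 = ((h⁻¹ : Matrix.GeneralLinearGroup κ F) : Matrix κ κ F) k l2 := rfl
  rw [hφl, hφl2] at hP
  generalize (h : Matrix κ κ F) l k = a at hP hA
  generalize (h : Matrix κ κ F) l2 k = a2 at hP hA2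
  generalize ((h⁻¹ : Matrix.GeneralLinearGroup κ F) : Matrix κ κ F) k l = b at hP hA
  generalize ((h⁻¹ : Matrix.GeneralLinearGroup κ F) : Matrix κ κ F) k l2 = b2 at hP hA2
  have h4P : 4 * (a * (b2 * a2 * b) * (2 * a * (b2 * (2 * a2) * b))) = 1 := by
    linear_combination (4 * (a * b) * (a2 * b2) + 1) * (2 * (a2 * b2) * hA + hA2)
  generalize a * (b2 * a2 * b) * (2 * a * (b2 * (2 * a2) * b)) = P at hP h4P
  rcases hP with h0 | h1 | h2
  · rw [h0, mul_zero] at h4P
    exact zero_ne_one h4P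
  · rw [h1, mul_one] at h4P
    refine hne 3 (by decide) ?_
    push_cast
    linear_combination h4P
  · have : (1 : F) = 0 := by linear_combination h4P - 2 * h2
    exact one_ne_zero this

/-- G4 -/
theorem gl_q5 {κ : Type} [Fintype κ] [DecidableEq κ] {F : Type*} [Field F] [Fintype F]
    (hq : Fintype.card F = 5) (hκ : 3 ≤ Fintype.card κ)
    (H : Subgroup (Matrix.GeneralLinearGroup κ F))
    (hD : HasDiag H) (hS : HasSwaps H) (hno : ¬ HasElemTv H)
    (h : Matrix.GeneralLinearGroup κ F) (hh : h ∈ H) :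
    IsMono (h : Matrix κ κ F) := by
  classical
  have : Fact (Nat.Prime 5) := ⟨by norm_num⟩
  have : CharP F 5 := charP_of_card_eq_prime hq
  have h5 : (5 : F) = 0 := by exact_mod_cast CharP.cast_eq_zero F 5
  have hne : ∀ n : ℕ, ¬ 5 ∣ n → (n : F) ≠ 0 :=
    fun n hn h0 => hn ((CharP.cast_eq_zero_iff F 5 n).mp h0)
  have hq3 : 3 ≤ Fintype.card F := by omega
  intro a
  by_contra hcon
  set S : Finset κ := Finset.univ.filter (fun l => (h : Matrix κ κ F) l a ≠ 0) with hSdef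
  have hmem : ∀ l, l ∈ S ↔ (h : Matrix κ κ F) l a ≠ 0 := by
    intro l; rw [hSdef, Finset.mem_filter]; simp
  have hS2 : 2 ≤ S.card := by
    by_contra hlt
    have hle : S.card ≤ 1 := by omega
    rw [Finset.card_le_one] at hle
    obtain ⟨i, hi⟩ := gl_col_ne_zero h a
    apply hcon
    refine ⟨i, fun j hj => ?_⟩
    by_contra hja
    exact hj (hle j ((hmem j).mpr hja) i ((hmem i).mpr hi))
  rcases eq_or_lt_of_le hS2 with h2 | h3
  · obtain ⟨l, l2, hll2, hSeq⟩ := Finset.card_eq_two.mp h2.symm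
    have hex : ∃ l', l' ∉ S := by
      by_contra hall
      push Not at hall
      have : S = Finset.univ := Finset.eq_univ_iff_forall.mpr hall
      rw [this, Finset.card_univ] at h2
      omega
    obtain ⟨l', hl'⟩ := hex
    have hl'l : l' ≠ l := by
      intro h0; apply hl'; rw [h0, hSeq]; simp
    have hl'l2 : l' ≠ l2 := by
      intro h0; apply hl'; rw [h0, hSeq]; simp
    have hl : (h : Matrix κ κ F) l a ≠ 0 := (hmem l).mp (by rw [hSeq]; simp)
    have hl2 : (h : Matrix κ κ F) l2 a ≠ 0 := (hmem l2).mp (by rw [hSeq]; simp)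
    refine q5_iii hne h5 hq3 H hD hS hno h hh a l l2 l' (Ne.symm hll2) hl'l hl'l2 hl hl2 ?_
    intro m hm hm2
    by_contra hma
    have := (hmem m).mpr hma
    rw [hSeq] at this
    simp only [Finset.mem_insert, Finset.mem_singleton] at this
    rcases this with h0 | h0
    · exact hm h0
    · exact hm2 h0
  · obtain ⟨l, l', l'', hl, hl', hl'', h1, h2, h3'⟩ := Finset.two_lt_card_iff.mp h3
    exact q5_ii hne h5 hq3 H hD hno h hh a l l' l'' h1 h2 h3'
      ((hmem l).mp hl) ((hmem l').mp hl') ((hmem l'').mp hl'')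

end Cfsg.Agent.Lib.Helper11.ExtrL
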