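import Mathlib
import Cfsg.Agent.S0851
import Cfsg.Agent.Lib.Helper11.CohX0Gen
import Cfsg.Agent.Lib.Helper11.SibMain

set_option autoImplicit false
open scoped ComplexConjugate

namespace Cfsg.Agent.Lib.Helper11.SibAbelian

open Cfsg.Agent.Lib.helper7 Cfsg.Agent.Lib.helper2 Cfsg.Agent.Lib.Helper25
open Cfsg.Agent.Lib.Helper11 Cfsg.Agent.Lib.Helper11.SibSetup Cfsg.Agent.Lib.Helper11.SibFacts
  Cfsg.Agent.Lib.Helper11.SibCentral Cfsg.Agent.Lib.Helper11.SibMain
  Cfsg.Agent.Lib.Helper11.CohX0Gen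

/-- the elements of order dividing `p` in an abelian normal subgroup -/
def omegaSub {N : Type*} [Group N] (K : Subgroup N)
    (hab : ∀ a b : N, a ∈ K → b ∈ K → a * b = b * a) (p : ℕ) : Subgroup N where
  carrier := {x | x ∈ K ∧ x ^ p = 1}
  one_mem' := ⟨K.one_mem, one_pow p⟩
  mul_mem' := by
    rintro a b ⟨ha, ha1⟩ ⟨hb, hb1⟩
    refine ⟨K.mul_mem ha hb, ?_⟩
    have hc : Commute a b := hab a b ha hb
    rw [hc.mul_pow, ha1, hb1, one_mul]
  inv_mem' := by
    rintro a ⟨ha, ha1⟩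
    exact ⟨K.inv_mem ha, by rw [inv_pow, ha1, inv_one]⟩

theorem mem_omegaSub {N : Type*} [Group N] (K : Subgroup N)
    (hab : ∀ a b : N, a ∈ K → b ∈ K → a * b = b * a) (p : ℕ) (x : N) :
    x ∈ omegaSub K hab p ↔ x ∈ K ∧ x ^ p = 1 := Iff.rfl

/-- a transitive-type counting argument: if `|K| = |N : K| + 1` for an abelian `p`-group kernel
then `K` has exponent `p` -/
theorem exponent_of_card {N : Type*} [Group N] [Finite N] (K : Subgroup N) [hK : K.Normal]
    (hC : ∀ k ∈ K, k ≠ 1 → Subgroup.centralizer ({k} : Set N) ≤ K)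
    (hab : ∀ a b : N, a ∈ K → b ∈ K → a * b = b * a) (p : ℕ) [hp : Fact p.Prime]
    (hKp : IsPGroup p K) (hK1 : K ≠ ⊥) (hcard : Nat.card K = K.index + 1) :
    ∀ x ∈ K, x ^ p = 1 := by
  classical
  obtain ⟨Z, hZ⟩ : ∃ Z : Subgroup N, Z = omegaSub K hab p := ⟨_, rfl⟩
  have hZK : Z ≤ K := fun x hx => by
    rw [hZ] at hx
    exact hx.1
  haveI hZn : Z.Normal := by
    constructor
    intro x hx n
    rw [hZ] at hx ⊢
    exact ⟨hK.conj_mem x hx.1 n, by rw [conj_pow, hx.2]; group⟩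
  have hZc : ∀ z ∈ Z, ∀ k ∈ K, z * k = k * z := fun z hz k hk => hab z k (hZK hz) hk
  have hZ1 : Z ≠ ⊥ := by
    have := Fintype.ofFinite K
    have hKgt : p ∣ Fintype.card K := by
      obtain ⟨n, hn⟩ := (IsPGroup.iff_card).mp hKp
      have hn0 : n ≠ 0 := by
        intro h0
        rw [h0, pow_zero] at hn
        exact hK1 (Subgroup.card_eq_one.mp hn)
      rw [← Nat.card_eq_fintype_card, hn]
      exact dvd_pow_self p hn0
    obtain ⟨x, hx⟩ := exists_prime_orderOf_dvd_card p hKgt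
    intro hbot
    have hxZ : (x : N) ∈ Z := by
      rw [hZ]
      refine ⟨x.2, ?_⟩
      have h1 : x ^ p = 1 := by
        rw [← hx]
        exact pow_orderOf_eq_one x
      have := congrArg Subtype.val h1
      simpa using this
    rw [hbot, Subgroup.mem_bot] at hxZ
    have hx1 : x = 1 := Subtype.ext hxZ
    rw [hx1, orderOf_one] at hx
    exact hp.out.one_lt.ne hx
  obtain ⟨c, hc⟩ := index_dvd_central K hC Z hZK hZc
  have hZgt : 1 < Nat.card Z := by
    rcases Nat.lt_or_ge 1 (Nat.card Z) with h1 | h1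
    · exact h1
    · exfalso
      apply hZ1
      have : Nat.card Z = 1 := le_antisymm h1 Nat.card_pos
      exact Subgroup.card_eq_one.mp this
  have hc0 : c ≠ 0 := by
    intro h0
    rw [h0, mul_zero] at hc
    omega
  have hge : K.index ≤ Nat.card Z - 1 := by
    rw [hc]
    exact Nat.le_mul_of_pos_right _ (Nat.pos_of_ne_zero hc0)
  have hZle : Nat.card Z ≤ Nat.card K := Subgroup.card_le_of_le hZK
  have hcardeq : Nat.card Z = Nat.card K := by omega
  have hZeq : Z = K := Subgroup.eq_of_le_of_card_ge hZK (by rw [hcardeq])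
  intro x hx
  rw [← hZeq, hZ] at hx
  exact hx.2

section

variable {G : Type*} [Group G] [Fintype G] {N : Subgroup G} [Fintype N] {K : Subgroup N}

/-- the abelian case of Sibley's theorem (no parity assumption) -/
theorem abelian_case (h : TIF N K)
    (hab : ∀ a b : N, a ∈ K → b ∈ K → a * b = b * a) (p : ℕ) [hp : Fact p.Prime]
    (hKp : IsPGroup p K) (hK1 : K ≠ ⊥) :
    (Nat.card {χ : N → ℂ // χ ∈ tifnSet K} = 1 ∧ (∀ x ∈ K, x ^ p = 1) ∧
      Nat.card K = K.index + 1) ∨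
    Cfsg.IsCoherent (tifnSet K) ({1}ᶜ : Set N) (Cfsg.indFun N) := by
  classical
  have := h.normal
  have := Fintype.ofFinite (Cfsg.IrrCharacter N)
  have hdeg : ∀ χ ∈ tifnSet K, χ 1 = (K.index : ℂ) := fun χ hχ =>
    Cfsg.Agent.S0851.tifn_abelian_degree K h.hC hab hχ
  have hidx0 : (K.index : ℂ) ≠ 0 := by
    exact_mod_cast (Subgroup.index_ne_zero_of_finite (H := K))
  by_cases h2 : ∃ χ₀ ∈ tifnSet K, ∃ ψ₀ ∈ tifnSet K, ψ₀ ≠ χ₀
  · right
    obtain ⟨χ₀, hχ₀, ψ₀, hψ₀, hne⟩ := h2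
    obtain ⟨ε, f, hε, hinj, hF⟩ := Cfsg.Agent.S0851.tifn_abelian_bs N K h.hC hab h.hind
    have hεε : ε * conj ε = 1 := by
      rcases hε with rfl | rfl <;> simp
    obtain ⟨t₀, ht₀⟩ : ∃ t₀ : {χ : Cfsg.IrrCharacter N // ∃ k : N, k ∈ K ∧
        (χ : N → ℂ) k ≠ (χ : N → ℂ) 1}, t₀ = ⟨⟨χ₀, hχ₀.1⟩, hχ₀.2⟩ := ⟨_, rfl⟩
    have hirr1 : ∀ ξ : Cfsg.IrrCharacter G, Cfsg.classInner (ξ : G → ℂ) (ξ : G → ℂ) = 1 := by
      intro ξ
      have := irr_classInner ξ ξ
      rwa [if_pos rfl] at this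
    have hnorm1 : ∀ φ ∈ tifnSet K, Cfsg.classInner φ φ = 1 := by
      intro φ hφ
      have := irr_classInner (⟨φ, hφ.1⟩ : Cfsg.IrrCharacter N) ⟨φ, hφ.1⟩
      rw [if_pos rfl] at this
      exact this
    apply coherent_of_X0_gen (tif_isometry h) ?_ ?_ hχ₀ hψ₀ hne ?_ (ε • (f t₀ : G → ℂ)) ?_ ?_ ?_
    · intro χ hχ φ hφ hne'
      have := irr_classInner (⟨χ, hχ.1⟩ : Cfsg.IrrCharacter N) ⟨φ, hφ.1⟩
      rw [if_neg (fun h => hne' (congrArg Subtype.val h))] at this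
      exact this
    · intro φ hφ ψ hψ
      rw [hdeg φ hφ, hdeg ψ hψ]
    · rw [hdeg χ₀ hχ₀]
      exact hidx0
    · rcases hε with rfl | rfl
      · rw [one_smul]
        exact ⟨(f t₀ : G → ℂ), 0, isCharacter_of_irr (f t₀), isCharacter_zero G, by simp⟩
      · refine ⟨0, (f t₀ : G → ℂ), isCharacter_zero G, isCharacter_of_irr (f t₀), ?_⟩
        funext g
        simp
    · rw [classInner_smul_left', h7_classInner_smul_right, hirr1, hnorm1 χ₀ hχ₀]
      linear_combination hεε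
    · intro ψ hψ hψne
      obtain ⟨t, ht⟩ : ∃ t : {χ : Cfsg.IrrCharacter N // ∃ k : N, k ∈ K ∧
          (χ : N → ℂ) k ≠ (χ : N → ℂ) 1}, t = ⟨⟨ψ, hψ.1⟩, hψ.2⟩ := ⟨_, rfl⟩
      have hF' := hF t₀ t
      have e1 : ((t₀.1 : Cfsg.IrrCharacter N) : N → ℂ) = χ₀ := by rw [ht₀]
      have e2 : ((t.1 : Cfsg.IrrCharacter N) : N → ℂ) = ψ := by rw [ht]
      rw [e1, e2] at hF'
      have htne : f t ≠ f t₀ := by
        intro heq
        have := hinj heq
        rw [ht, ht₀] at this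
        apply hψne
        have h3 := congrArg (fun s : {χ : Cfsg.IrrCharacter N // ∃ k : N, k ∈ K ∧
          (χ : N → ℂ) k ≠ (χ : N → ℂ) 1} => ((s.1 : Cfsg.IrrCharacter N) : N → ℂ)) this
        exact h3
      rw [hF', classInner_smul_left', h7_classInner_smul_right, classInner_sub_left', hirr1,
        irr_classInner, if_neg htne, hnorm1 χ₀ hχ₀]
      linear_combination hεε
  · left
    push Not at h2
    obtain ⟨χ₀, hχ₀⟩ := tifn_nonempty K hK1
    have hall : ∀ ψ ∈ tifnSet K, ψ = χ₀ := fun ψ hψ => h2 χ₀ hχ₀ ψ hψ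
    have hcard1 : Nat.card {χ : N → ℂ // χ ∈ tifnSet K} = 1 := by
      rw [Nat.card_eq_one_iff_unique]
      refine ⟨⟨fun a b => Subtype.ext ?_⟩, ⟨⟨χ₀, hχ₀⟩⟩⟩
      rw [hall a.1 a.2, hall b.1 b.2]
    have hsum := nontriv_sum_sq K
    have hsum' : ∑ ζ : Cfsg.IrrCharacter N,
        (if (ζ : N → ℂ) ∈ tifnSet K then (ζ : N → ℂ) 1 * (ζ : N → ℂ) 1 else 0) =
        (K.index : ℂ) * (K.index : ℂ) := by
      rw [Finset.sum_eq_single (⟨χ₀, hχ₀.1⟩ : Cfsg.IrrCharacter N)]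
      · rw [if_pos hχ₀]
        change χ₀ 1 * χ₀ 1 = _
        rw [hdeg χ₀ hχ₀]
      · intro ζ _ hζne
        rw [if_neg]
        intro hζ
        apply hζne
        exact Subtype.ext (hall _ hζ)
      · intro hn
        exact absurd (Finset.mem_univ _) hn
    rw [hsum'] at hsum
    have hcardK : Nat.card K = K.index + 1 := by
      have h3 : (K.index : ℂ) = (Nat.card K : ℂ) - 1 := mul_left_cancel₀ hidx0 hsum
      have h4 : ((Nat.card K : ℕ) : ℂ) = ((K.index + 1 : ℕ) : ℂ) := by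
        push_cast
        rw [h3]
        ring
      exact_mod_cast h4
    exact ⟨hcard1, exponent_of_card K h.hC hab p hKp hK1 hcardK, hcardK⟩

end

end Cfsg.Agent.Lib.Helper11.SibAbelian
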