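import Mathlib
import Cfsg.Agent.Lib.Helper11.SibMain
import Cfsg.Agent.Lib.Helper11.SibAbelian

set_option autoImplicit false

namespace Cfsg.Agent.Lib.Helper11.FSFinal

open Cfsg.Agent.Lib.Helper11 Cfsg.Agent.Lib.Helper11.SibMain Cfsg.Agent.Lib.Helper11.SibAbelian
open scoped commutatorElement

/-- a nilpotent Frobenius kernel of order one more than its index is abelian -/
theorem abelian_of_card {N : Type*} [Group N] [Finite N] (K : Subgroup N) [hK : K.Normal]
    (hC : ∀ k ∈ K, k ≠ 1 → Subgroup.centralizer ({k} : Set N) ≤ K)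
    (hnil : Group.IsNilpotent K) (hK1 : K ≠ ⊥) (hcard : Nat.card K = K.index + 1) :
    ∀ a b : N, a ∈ K → b ∈ K → a * b = b * a := by
  classical
  obtain ⟨Z, hZ⟩ : ∃ Z : Subgroup N, Z = (Subgroup.center K).map K.subtype := ⟨_, rfl⟩
  have hZK : Z ≤ K := by
    rw [hZ]
    exact Subgroup.map_subtype_le _
  have hZn : Z.Normal := by
    rw [hZ]
    exact ConjAct.normal_of_characteristic_of_normal
  have hZc : ∀ z ∈ Z, ∀ k ∈ K, z * k = k * z := by
    intro z hz k hk
    rw [hZ] at hz
    obtain ⟨z', hz', rfl⟩ := hz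
    have := (Subgroup.mem_center_iff.mp hz') ⟨k, hk⟩
    have h2 := congrArg Subtype.val this
    simpa using h2.symm
  have hnt : Nontrivial K := by
    rw [Subgroup.nontrivial_iff_ne_bot]
    exact hK1
  have hZ1 : Z ≠ ⊥ := by
    intro hbot
    apply Group.IsNilpotent.center_ne_bot K
    rw [hZ] at hbot
    rw [Subgroup.map_eq_bot_iff_of_injective _ (Subgroup.subtype_injective K)] at hbot
    exact hbot
  obtain ⟨c, hc⟩ := index_dvd_central K hC Z hZK hZc
  have hZgt : 1 < Nat.card Z := by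
    rcases Nat.lt_or_ge 1 (Nat.card Z) with h1 | h1
    · exact h1
    · exfalso
      apply hZ1
      have : Nat.card Z = 1 := le_antisymm h1 Nat.card_pos
      exact Subgroup.card_eq_one.mp this
  have hc0 : c ≠ 0 := by
    intro h0
    rw [h0, mul_zero] at hc
    omega
  have hge : K.index ≤ Nat.card Z - 1 := by
    rw [hc]
    exact Nat.le_mul_of_pos_right _ (Nat.pos_of_ne_zero hc0)
  have hZle : Nat.card Z ≤ Nat.card K := Subgroup.card_le_of_le hZK
  have hcardeq : Nat.card Z = Nat.card K := by omega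
  have hZeq : Z = K := Subgroup.eq_of_le_of_card_ge hZK (by rw [hcardeq])
  intro a b ha hb
  rw [← hZeq] at ha
  exact hZc a ha b hb

/-- an abelian Frobenius kernel of order one more than its index has prime exponent -/
theorem exponent_of_card' {N : Type*} [Group N] [Finite N] (K : Subgroup N) [hK : K.Normal]
    (hC : ∀ k ∈ K, k ≠ 1 → Subgroup.centralizer ({k} : Set N) ≤ K)
    (hab : ∀ a b : N, a ∈ K → b ∈ K → a * b = b * a) (p : ℕ) [hp : Fact p.Prime]
    (hKp : p ∣ Nat.card K) (hcard : Nat.card K = K.index + 1) :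
    ∀ x ∈ K, x ^ p = 1 := by
  classical
  obtain ⟨Z, hZ⟩ : ∃ Z : Subgroup N, Z = omegaSub K hab p := ⟨_, rfl⟩
  have hZK : Z ≤ K := fun x hx => by
    rw [hZ] at hx
    exact hx.1
  have hZn : Z.Normal := by
    constructor
    intro x hx n
    rw [hZ] at hx ⊢
    exact ⟨hK.conj_mem x hx.1 n, by rw [conj_pow, hx.2]; group⟩
  have hZc : ∀ z ∈ Z, ∀ k ∈ K, z * k = k * z := fun z hz k hk => hab z k (hZK hz) hk
  have hZ1 : Z ≠ ⊥ := by
    have := Fintype.ofFinite K
    have hKgt : p ∣ Fintype.card K := by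
      rw [← Nat.card_eq_fintype_card]
      exact hKp
    obtain ⟨x, hx⟩ := exists_prime_orderOf_dvd_card p hKgt
    intro hbot
    have hxZ : (x : N) ∈ Z := by
      rw [hZ]
      refine ⟨x.2, ?_⟩
      have h1 : x ^ p = 1 := by
        rw [← hx]
        exact pow_orderOf_eq_one x
      have := congrArg Subtype.val h1
      simpa using this
    rw [hbot, Subgroup.mem_bot] at hxZ
    have hx1 : x = 1 := Subtype.ext hxZ
    rw [hx1, orderOf_one] at hx
    exact hp.out.one_lt.ne hx
  obtain ⟨c, hc⟩ := index_dvd_central K hC Z hZK hZc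
  have hZgt : 1 < Nat.card Z := by
    rcases Nat.lt_or_ge 1 (Nat.card Z) with h1 | h1
    · exact h1
    · exfalso
      apply hZ1
      have : Nat.card Z = 1 := le_antisymm h1 Nat.card_pos
      exact Subgroup.card_eq_one.mp this
  have hc0 : c ≠ 0 := by
    intro h0
    rw [h0, mul_zero] at hc
    omega
  have hge : K.index ≤ Nat.card Z - 1 := by
    rw [hc]
    exact Nat.le_mul_of_pos_right _ (Nat.pos_of_ne_zero hc0)
  have hZle : Nat.card Z ≤ Nat.card K := Subgroup.card_le_of_le hZK
  have hcardeq : Nat.card Z = Nat.card K := by omega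
  have hZeq : Z = K := Subgroup.eq_of_le_of_card_ge hZK (by rw [hcardeq])
  intro x hx
  rw [← hZeq, hZ] at hx
  exact hx.2

/-- a `p`-subgroup containing the centralizers of its non-identity elements is a Sylow subgroup -/
theorem sylow_of_cent {G : Type*} [Group G] [Finite G] (K : Subgroup G) (hK1 : K ≠ ⊥)
    (hC : ∀ k ∈ K, k ≠ 1 → Subgroup.centralizer ({k} : Set G) ≤ K)
    (p : ℕ) [hp : Fact p.Prime] (hKp : IsPGroup p K) :
    ∃ P : Sylow p G, (P : Subgroup G) = K := by
  classical
  obtain ⟨T, hKT⟩ := hKp.exists_le_sylow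
  refine ⟨T, le_antisymm ?_ hKT⟩
  obtain ⟨k, hk1⟩ := (Subgroup.ne_bot_iff_exists_ne_one).mp hK1
  have hTnt : Nontrivial (T : Subgroup G) := by
    rw [Subgroup.nontrivial_iff_ne_bot]
    intro h
    apply hK1
    rw [eq_bot_iff, ← h]
    exact hKT
  have hcn := IsPGroup.center_nontrivial T.isPGroup'
  obtain ⟨z, hz1⟩ := exists_ne (1 : Subgroup.center (T : Subgroup G))
  have hzc : ∀ t : G, t ∈ (T : Subgroup G) → t * ((z : (T : Subgroup G)) : G) =
      ((z : (T : Subgroup G)) : G) * t := by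
    intro t ht
    have := (Subgroup.mem_center_iff.mp z.2) ⟨t, ht⟩
    have h2 := congrArg Subtype.val this
    simpa using h2
  have hz1' : ((z : (T : Subgroup G)) : G) ≠ 1 := by
    intro h
    apply hz1
    apply Subtype.ext
    apply Subtype.ext
    simpa using h
  have hk1' : (k : G) ≠ 1 := fun h => hk1 (Subtype.ext h)
  have hzK : ((z : (T : Subgroup G)) : G) ∈ K := by
    apply hC (k : G) k.2 hk1'
    rw [Subgroup.mem_centralizer_iff]
    intro y hy
    rw [Set.mem_singleton_iff] at hy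
    subst hy
    exact hzc _ (hKT k.2)
  intro t ht
  apply hC _ hzK hz1'
  rw [Subgroup.mem_centralizer_iff]
  intro y hy
  rw [Set.mem_singleton_iff] at hy
  subst hy
  exact (hzc t ht).symm

/-- the index of the derived subgroup is the same computed in an intermediate subgroup -/
theorem commutator_index_subgroupOf {G : Type*} [Group G] (K N : Subgroup G) (hKN : K ≤ N) :
    (⁅K.subgroupOf N, K.subgroupOf N⁆.subgroupOf (K.subgroupOf N)).index =
      (⁅K, K⁆.subgroupOf K).index := by
  have h1 : (K.subgroupOf N).map N.subtype = K := by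
    rw [Subgroup.map_subgroupOf_eq_of_le hKN]
  have h2 : (⁅K.subgroupOf N, K.subgroupOf N⁆).map N.subtype = ⁅K, K⁆ := by
    rw [Subgroup.map_commutator, h1]
  change (⁅K.subgroupOf N, K.subgroupOf N⁆).relIndex (K.subgroupOf N) = (⁅K, K⁆).relIndex K
  rw [← Subgroup.relIndex_map_map_of_injective _ _ (Subgroup.subtype_injective N), h1, h2]

/-- arithmetic for the Sylow 2 exception -/
theorem two_pow_lt (j m e : ℕ) (he2 : 2 ≤ e) (hm0 : m ≠ 0) (hdvd : e ∣ 2 ^ m - 1)
    (hle : 2 ^ j ≤ 4 * e ^ 2 + 1) : 2 ^ j < 4 * e ^ 2 := by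
  have hodd : Odd e := by
    rcases Nat.even_or_odd e with h | h
    · exfalso
      have h2 : 2 ∣ 2 ^ m - 1 := dvd_trans h.two_dvd hdvd
      have hpos : 0 < 2 ^ m := by positivity
      have : 2 ∣ 2 ^ m := dvd_pow_self 2 hm0
      omega
    · exact h
  have he2' : 4 ≤ e ^ 2 := by nlinarith
  rcases Nat.lt_or_ge (2 ^ j) (4 * e ^ 2) with h | h
  · exact h
  · exfalso
    have hcases : 2 ^ j = 4 * e ^ 2 ∨ 2 ^ j = 4 * e ^ 2 + 1 := by omega
    rcases hcases with h1 | h1
    · have hed : e ∣ 2 ^ j := by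
        rw [h1]
        exact ⟨4 * e, by ring⟩
      obtain ⟨i, -, hi⟩ := (Nat.dvd_prime_pow Nat.prime_two).mp hed
      rcases Nat.eq_zero_or_pos i with hi0 | hi0
      · subst hi0
        simp at hi
        omega
      · rw [hi] at hodd
        have : Even (2 ^ i) := (Nat.even_pow.mpr ⟨even_two, hi0.ne'⟩)
        exact (Nat.not_odd_iff_even.mpr this) hodd
    · rcases Nat.eq_zero_or_pos j with hj | hj
      · subst hj
        simp at h1
        omega
      · have : 2 ∣ 2 ^ j := dvd_pow_self 2 hj.ne'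
        have h4 : 2 ∣ 4 * e ^ 2 := ⟨2 * e ^ 2, by ring⟩
        omega

end Cfsg.Agent.Lib.Helper11.FSFinal
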