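import Mathlib

set_option autoImplicit false

namespace Cfsg.Agent.Lib.Helper11

/-- if every row of a 0/nonzero pattern has at least two marked entries, there are at least
`2 * (number of rows)` marked entries -/
theorem card_ge_two_mul_rows {Φ Ψ : Type*} [Fintype Φ] [Fintype Ψ] [DecidableEq Φ]
    [DecidableEq Ψ] (P : Φ → Ψ → Prop) [∀ a b, Decidable (P a b)]
    (h : ∀ φ, ∃ ψ ψ', ψ ≠ ψ' ∧ P φ ψ ∧ P φ ψ') :
    2 * Fintype.card Φ ≤ (Finset.univ.filter (fun p : Φ × Ψ => P p.1 p.2)).card := by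
  choose f₁ f₂ hne h1 h2 using h
  have hsub : (Finset.univ.image (fun φ => (φ, f₁ φ))) ∪ (Finset.univ.image (fun φ => (φ, f₂ φ))) ⊆
      Finset.univ.filter (fun p : Φ × Ψ => P p.1 p.2) := by
    intro p hp
    rw [Finset.mem_union, Finset.mem_image, Finset.mem_image] at hp
    rw [Finset.mem_filter]
    refine ⟨Finset.mem_univ _, ?_⟩
    rcases hp with ⟨φ, -, rfl⟩ | ⟨φ, -, rfl⟩
    · exact h1 φ
    · exact h2 φ
  have hdisj : Disjoint (Finset.univ.image (fun φ : Φ => (φ, f₁ φ)))
      (Finset.univ.image (fun φ : Φ => (φ, f₂ φ))) := by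
    rw [Finset.disjoint_left]
    intro p hp1 hp2
    rw [Finset.mem_image] at hp1 hp2
    obtain ⟨φ, -, rfl⟩ := hp1
    obtain ⟨φ', -, h'⟩ := hp2
    have e1 : φ' = φ := congrArg Prod.fst h'
    have e2 : f₂ φ' = f₁ φ := congrArg Prod.snd h'
    rw [e1] at e2
    exact hne φ e2.symm
  have hc1 : (Finset.univ.image (fun φ : Φ => (φ, f₁ φ))).card = Fintype.card Φ := by
    rw [Finset.card_image_of_injective _ (fun a b hab => congrArg Prod.fst hab), Finset.card_univ]
  have hc2 : (Finset.univ.image (fun φ : Φ => (φ, f₂ φ))).card = Fintype.card Φ := by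
    rw [Finset.card_image_of_injective _ (fun a b hab => congrArg Prod.fst hab), Finset.card_univ]
  have := Finset.card_le_card hsub
  rw [Finset.card_union_of_disjoint hdisj, hc1, hc2] at this
  omega

theorem card_ge_two_mul_cols {Φ Ψ : Type*} [Fintype Φ] [Fintype Ψ] [DecidableEq Φ]
    [DecidableEq Ψ] (P : Φ → Ψ → Prop) [∀ a b, Decidable (P a b)]
    (h : ∀ ψ, ∃ φ φ', φ ≠ φ' ∧ P φ ψ ∧ P φ' ψ) :
    2 * Fintype.card Ψ ≤ (Finset.univ.filter (fun p : Φ × Ψ => P p.1 p.2)).card := by
  have h1 := card_ge_two_mul_rows (fun ψ φ => P φ ψ) h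
  have h2 : (Finset.univ.filter (fun p : Ψ × Φ => P p.2 p.1)).card =
      (Finset.univ.filter (fun p : Φ × Ψ => P p.1 p.2)).card := by
    apply Finset.card_bij (fun p _ => (p.2, p.1))
    · intro p hp
      rw [Finset.mem_filter] at hp ⊢
      exact ⟨Finset.mem_univ _, hp.2⟩
    · intro p _ q _ hpq
      have e1 := congrArg Prod.fst hpq
      have e2 := congrArg Prod.snd hpq
      exact Prod.ext e2 e1
    · intro p hp
      rw [Finset.mem_filter] at hp
      exact ⟨(p.2, p.1), by rw [Finset.mem_filter]; exact ⟨Finset.mem_univ _, hp.2⟩, rfl⟩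
  rw [← h2]
  exact h1

/-- the combinatorial core: an additive pattern `u φ + v ψ` with few nonzero entries -/
theorem few_nonzero {Φ Ψ : Type*} [Fintype Φ] [Fintype Ψ] [DecidableEq Φ] [DecidableEq Ψ]
    (u : Φ → ℂ) (v : Ψ → ℂ) (n₁ n₂ : ℕ) (h1 : Fintype.card Φ = n₁) (h2 : Fintype.card Ψ = n₂)
    (hn₁ : 3 ≤ n₁) (hn : n₁ + 2 ≤ n₂)
    (hfew : (Finset.univ.filter (fun p : Φ × Ψ => u p.1 + v p.2 ≠ 0)).card < 2 * n₁) :
    (∀ φ ψ, u φ + v ψ = 0) ∨
    (∃ ψ₀ c, ∀ φ ψ, u φ + v ψ = if ψ = ψ₀ then c else 0) ∨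
    (∃ φ₀ c, ∀ φ ψ, u φ + v ψ = if φ = φ₀ then c else 0) := by
  set Z := Finset.univ.filter (fun p : Φ × Ψ => u p.1 + v p.2 ≠ 0) with hZ
  -- a row with at most one nonzero entry
  have hrow : ∃ φ₁, ∀ ψ ψ', u φ₁ + v ψ ≠ 0 → u φ₁ + v ψ' ≠ 0 → ψ = ψ' := by
    by_contra hcon
    push Not at hcon
    have : 2 * Fintype.card Φ ≤ Z.card := card_ge_two_mul_rows (fun φ ψ => u φ + v ψ ≠ 0) (by
      intro φ
      obtain ⟨ψ, ψ', ha, hb, hc⟩ := hcon φ
      exact ⟨ψ, ψ', hc, ha, hb⟩)
    rw [h1] at this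
    omega
  have hcol : ∃ ψ₁, ∀ φ φ', u φ + v ψ₁ ≠ 0 → u φ' + v ψ₁ ≠ 0 → φ = φ' := by
    by_contra hcon
    push Not at hcon
    have : 2 * Fintype.card Ψ ≤ Z.card := card_ge_two_mul_cols (fun φ ψ => u φ + v ψ ≠ 0) (by
      intro ψ
      obtain ⟨φ, φ', ha, hb, hc⟩ := hcon ψ
      exact ⟨φ, φ', hc, ha, hb⟩)
    rw [h2] at this
    omega
  obtain ⟨φ₁, hφ₁⟩ := hrow
  obtain ⟨ψ₁, hψ₁⟩ := hcol
  set t : ℂ := -u φ₁ with ht
  set s : ℂ := -v ψ₁ with hs
  have hPv : ∀ ψ ψ', v ψ ≠ t → v ψ' ≠ t → ψ = ψ' := by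
    intro ψ ψ' ha hb
    apply hφ₁ ψ ψ'
    · intro h; apply ha; rw [ht]; linear_combination h
    · intro h; apply hb; rw [ht]; linear_combination h
  have hPu : ∀ φ φ', u φ ≠ s → u φ' ≠ s → φ = φ' := by
    intro φ φ' ha hb
    apply hψ₁ φ φ'
    · intro h; apply ha; rw [hs]; linear_combination h
    · intro h; apply hb; rw [hs]; linear_combination h
  have hcardΦ : ∀ φ₀ : Φ, (Finset.univ.erase φ₀).card = n₁ - 1 := by
    intro φ₀
    rw [Finset.card_erase_of_mem (Finset.mem_univ _), Finset.card_univ, h1]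
  have hcardΨ : ∀ ψ₀ : Ψ, (Finset.univ.erase ψ₀).card = n₂ - 1 := by
    intro ψ₀
    rw [Finset.card_erase_of_mem (Finset.mem_univ _), Finset.card_univ, h2]
  obtain ⟨m, rfl⟩ : ∃ m, n₁ = m + 1 := ⟨n₁ - 1, by omega⟩
  obtain ⟨k, rfl⟩ : ∃ k, n₂ = k + 1 := ⟨n₂ - 1, by omega⟩
  have hm : 2 ≤ m := by omega
  have hk : m + 2 ≤ k := by omega
  by_cases hv : ∃ ψ₀, v ψ₀ ≠ t
  · obtain ⟨ψ₀, hψ₀⟩ := hv
    have hvt : ∀ ψ, ψ ≠ ψ₀ → v ψ = t := by
      intro ψ hne
      by_contra h
      exact hne (hPv ψ ψ₀ h hψ₀)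
    by_cases hu : ∃ φ₀, u φ₀ ≠ s
    · -- case (d): impossible
      exfalso
      obtain ⟨φ₀, hφ₀⟩ := hu
      have hus : ∀ φ, φ ≠ φ₀ → u φ = s := by
        intro φ hne
        by_contra h
        exact hne (hPu φ φ₀ h hφ₀)
      by_cases hst : s + t = 0
      · have hsub : (({φ₀} : Finset Φ) ×ˢ (Finset.univ.erase ψ₀)) ∪
            ((Finset.univ.erase φ₀) ×ˢ ({ψ₀} : Finset Ψ)) ⊆ Z := by
          intro p hp
          rw [Finset.mem_union, Finset.mem_product, Finset.mem_product] at hp
          rw [hZ, Finset.mem_filter]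
          refine ⟨Finset.mem_univ _, ?_⟩
          rcases hp with ⟨ha, hb⟩ | ⟨ha, hb⟩
          · rw [Finset.mem_singleton] at ha
            rw [ha, hvt p.2 (Finset.mem_erase.mp hb).1]
            intro h
            apply hφ₀
            linear_combination h - hst
          · rw [Finset.mem_singleton] at hb
            rw [hb, hus p.1 (Finset.mem_erase.mp ha).1]
            intro h
            apply hψ₀
            linear_combination h - hst
        have hdisj : Disjoint (({φ₀} : Finset Φ) ×ˢ (Finset.univ.erase ψ₀))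
            ((Finset.univ.erase φ₀) ×ˢ ({ψ₀} : Finset Ψ)) := by
          rw [Finset.disjoint_left]
          intro p hp1 hp2
          rw [Finset.mem_product] at hp1 hp2
          have := (Finset.mem_erase.mp hp2.1).1
          exact this (Finset.mem_singleton.mp hp1.1)
        have := Finset.card_le_card hsub
        rw [Finset.card_union_of_disjoint hdisj, Finset.card_product, Finset.card_product,
          hcardΦ, hcardΨ, Finset.card_singleton, Finset.card_singleton] at this
        simp only [Nat.add_sub_cancel] at this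
        omega
      · have hsub : (Finset.univ.erase φ₀) ×ˢ (Finset.univ.erase ψ₀) ⊆ Z := by
          intro p hp
          rw [Finset.mem_product] at hp
          rw [hZ, Finset.mem_filter]
          refine ⟨Finset.mem_univ _, ?_⟩
          rw [hus p.1 (Finset.mem_erase.mp hp.1).1, hvt p.2 (Finset.mem_erase.mp hp.2).1]
          exact hst
        have := Finset.card_le_card hsub
        rw [Finset.card_product, hcardΦ, hcardΨ] at this
        simp only [Nat.add_sub_cancel] at this
        nlinarith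
    · -- case (c): one exceptional column
      push Not at hu
      right; left
      have hst : s + t = 0 := by
        by_contra hst
        have hsub : (Finset.univ : Finset Φ) ×ˢ (Finset.univ.erase ψ₀) ⊆ Z := by
          intro p hp
          rw [Finset.mem_product] at hp
          rw [hZ, Finset.mem_filter]
          refine ⟨Finset.mem_univ _, ?_⟩
          rw [hu p.1, hvt p.2 (Finset.mem_erase.mp hp.2).1]
          exact hst
        have := Finset.card_le_card hsub
        rw [Finset.card_product, Finset.card_univ, h1, hcardΨ] at this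
        simp only [Nat.add_sub_cancel] at this
        nlinarith
      refine ⟨ψ₀, s + v ψ₀, ?_⟩
      intro φ ψ
      by_cases hψ : ψ = ψ₀
      · rw [if_pos hψ, hψ, hu φ]
      · rw [if_neg hψ, hu φ, hvt ψ hψ, hst]
  · push Not at hv
    by_cases hu : ∃ φ₀, u φ₀ ≠ s
    · -- case (b): one exceptional row
      obtain ⟨φ₀, hφ₀⟩ := hu
      have hus : ∀ φ, φ ≠ φ₀ → u φ = s := by
        intro φ hne
        by_contra h
        exact hne (hPu φ φ₀ h hφ₀)
      right; right
      have hst : s + t = 0 := by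
        by_contra hst
        have hsub : (Finset.univ.erase φ₀) ×ˢ (Finset.univ : Finset Ψ) ⊆ Z := by
          intro p hp
          rw [Finset.mem_product] at hp
          rw [hZ, Finset.mem_filter]
          refine ⟨Finset.mem_univ _, ?_⟩
          rw [hus p.1 (Finset.mem_erase.mp hp.1).1, hv p.2]
          exact hst
        have := Finset.card_le_card hsub
        rw [Finset.card_product, Finset.card_univ, h2, hcardΦ] at this
        simp only [Nat.add_sub_cancel] at this
        nlinarith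
      refine ⟨φ₀, u φ₀ + t, ?_⟩
      intro φ ψ
      by_cases hφ : φ = φ₀
      · rw [if_pos hφ, hφ, hv ψ]
      · rw [if_neg hφ, hus φ hφ, hv ψ, hst]
    · -- case (a)
      push Not at hu
      left
      have hst : s + t = 0 := by
        by_contra hst
        have hsub : (Finset.univ : Finset Φ) ×ˢ (Finset.univ : Finset Ψ) ⊆ Z := by
          intro p _
          rw [hZ, Finset.mem_filter]
          refine ⟨Finset.mem_univ _, ?_⟩
          rw [hu p.1, hv p.2]
          exact hst
        have := Finset.card_le_card hsub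
        rw [Finset.card_product, Finset.card_univ, Finset.card_univ, h1, h2] at this
        nlinarith
      intro φ ψ
      rw [hu φ, hv ψ, hst]

end Cfsg.Agent.Lib.Helper11
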