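import Mathlib
import Cfsg.Agent.S1528
import Cfsg.Agent.Lib.Helper11.BoundIrr

set_option autoImplicit false
open scoped ComplexConjugate

namespace Cfsg.Agent.Lib.Helper11.FrobIrr

open Cfsg.Agent.Lib.Helper11 Cfsg.Agent.Lib.helper7 Cfsg.Agent.Lib.helper2 Cfsg.Agent.Lib.Helper25
  Cfsg.Agent.Lib.Helper11.SeqInd Cfsg.Agent.Lib.Helper11.SeqIndCoh

variable {L : Type*} [Group L] [Fintype L]

/-- the function induced from the principal character of a normal subgroup is constant on it -/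
theorem indFun_one_const (H : Subgroup L) [hH : H.Normal] (h : L) (hh : h ∈ H) :
    Cfsg.indFun H (fun _ : H => (1 : ℂ)) h = Cfsg.indFun H (fun _ : H => (1 : ℂ)) 1 := by
  unfold Cfsg.indFun
  congr 1
  apply Finset.sum_congr rfl
  intro x _
  have h1 : x⁻¹ * h * x ∈ H := by
    have := hH.conj_mem h hh x⁻¹
    simpa using this
  have h2 : x⁻¹ * 1 * x ∈ H := by simp
  have e1 : Cfsg.extendByZero H (fun _ : H => (1 : ℂ)) (x⁻¹ * h * x) = 1 := by
    unfold Cfsg.extendByZero
    have : x⁻¹ * h * x = ((⟨x⁻¹ * h * x, h1⟩ : H) : L) := rfl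
    rw [this, Subtype.val_injective.extend_apply]
  have e2 : Cfsg.extendByZero H (fun _ : H => (1 : ℂ)) (x⁻¹ * 1 * x) = 1 := by
    unfold Cfsg.extendByZero
    have : x⁻¹ * 1 * x = ((⟨x⁻¹ * 1 * x, h2⟩ : H) : L) := rfl
    rw [this, Subtype.val_injective.extend_apply]
  rw [e1, e2]

/-- in a Frobenius group the characters induced from the non-principal irreducible characters
of the kernel are irreducible -/
theorem irr_of_induced (H : Subgroup L) [hH : H.Normal]
    (hC : ∀ n ∈ H, n ≠ 1 → Subgroup.centralizer ({n} : Set L) ≤ H) {χ : L → ℂ}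
    (hχ : χ ∈ Cfsg.inducedIrrAbove H ⊥) : Cfsg.IsIrrCharacter L χ := by
  classical
  have : Fintype H := Fintype.ofFinite _
  obtain ⟨θ, hθ, hθ1, -, rfl⟩ := hχ
  apply h7_irr_of_norm_one (isCharacter_indFun H θ (h7_irr_isCharacter hθ))
  exact Cfsg.Agent.S1528.norm_ind H hC θ hθ hθ1

theorem set_eq (H : Subgroup L) [hH : H.Normal]
    (hC : ∀ n ∈ H, n ≠ 1 → Subgroup.centralizer ({n} : Set L) ≤ H) :
    {χ : L → ℂ | Cfsg.IsIrrCharacter L χ ∧ ∃ h ∈ H, χ h ≠ χ 1} = Cfsg.inducedIrrAbove H ⊥ := by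
  classical
  have : Fintype H := Fintype.ofFinite _
  ext χ
  constructor
  · rintro ⟨hχ, hker⟩
    obtain ⟨φ, hφ, rfl⟩ := Cfsg.Agent.S1528.result H hC χ hχ hker
    refine ⟨φ, hφ, ?_, fun a ha => ?_, rfl⟩
    · intro h1
      obtain ⟨h, hh, hne⟩ := hker
      apply hne
      rw [h1]
      exact indFun_one_const H h hh
    · have : a = 1 := Subtype.ext (by simpa using ha)
      rw [this]
  · intro hχ
    refine ⟨irr_of_induced H hC hχ, ?_⟩
    obtain ⟨θ, hθ, hθ1, -, rfl⟩ := hχ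
    by_contra hcon
    push Not at hcon
    have hirr := irr_of_induced H hC (χ := Cfsg.indFun H θ) ⟨θ, hθ, hθ1, fun a ha => by
      have : a = 1 := Subtype.ext (by simpa using ha)
      rw [this], rfl⟩
    have h1 := h7_frobenius_reciprocity H θ (Cfsg.indFun H θ) (h7_indFun_isClassFunction H θ)
    have h2 : Cfsg.classInner (Cfsg.indFun H θ) (Cfsg.indFun H θ) = 1 := h7_irr_norm hirr
    rw [h2] at h1
    have h3 : (fun h : H => Cfsg.indFun H θ h) =
        (Cfsg.indFun H θ 1) • (trivIrr H : H → ℂ) := by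
      funext h
      rw [Pi.smul_apply, trivIrr_apply, smul_eq_mul, mul_one]
      exact hcon h h.2
    rw [h3, h7_classInner_smul_right] at h1
    have h4 := irr_classInner ⟨θ, hθ⟩ (trivIrr H)
    have h5 : (⟨θ, hθ⟩ : Cfsg.IrrCharacter H) ≠ trivIrr H := by
      intro h
      apply hθ1
      have := congrArg Subtype.val h
      simp only at this
      rw [this]
      rfl
    rw [if_neg h5] at h4
    simp only at h4
    rw [h4, mul_zero] at h1
    exact one_ne_zero h1

/-- the index of a Frobenius kernel divides `[H : A] - 1` for normal subgroups `A` of the whole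
group inside the kernel -/
theorem index_dvd (H : Subgroup L) [hH : H.Normal]
    (hC : ∀ n ∈ H, n ≠ 1 → Subgroup.centralizer ({n} : Set L) ≤ H)
    (A : Subgroup L) [hA : A.Normal] : H.index ∣ A.relIndex H - 1 := by
  classical
  have hirr : ∀ φ ∈ Cfsg.inducedIrrAbove H A, Cfsg.IsIrrCharacter L φ :=
    fun φ hφ => irr_of_induced H hC (inducedIrrAbove_mono H bot_le hφ)
  have hchar : ∀ χ ∈ Cfsg.inducedIrrAbove H A, Cfsg.IsCharacter L χ :=
    fun χ hχ => isCharacter_of_irr ⟨χ, hirr χ hχ⟩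
  obtain ⟨d, n, hd, -⟩ := exists_deg_norm _ hchar
  have h1 := Cfsg.Agent.Lib.Helper11.BoundIrr.sum_sq_nat H A d hd hirr
  have hepos : 0 < H.index := Nat.pos_of_ne_zero Subgroup.index_ne_zero_of_finite
  have h2 : H.index ^ 2 ∣ ∑ φ ∈ (inducedIrrAbove_finite H A).toFinset, d φ ^ 2 := by
    apply Finset.dvd_sum
    intro φ hφ
    have hφ' := (Set.Finite.mem_toFinset _).mp hφ
    have hφ'' := hφ'
    rw [inducedIrrAbove_eq] at hφ''
    obtain ⟨θ, hθ, rfl⟩ := hφ''
    obtain ⟨dθ, -, hdθ⟩ := irr_one_eq_finrank ⟨θ, hθ.1⟩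
    have h3 := deg_indFun H d θ dθ hdθ (hd _ hφ')
    rw [h3, mul_pow]
    exact Dvd.intro _ rfl
  rw [h1, pow_two] at h2
  exact Nat.dvd_of_mul_dvd_mul_left hepos h2

end Cfsg.Agent.Lib.Helper11.FrobIrr
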