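import Mathlib
import Cfsg.Agent.Lib.Helper11.FrobIrr
import Cfsg.Agent.Lib.Helper11.SeqIndFrob

set_option autoImplicit false
open scoped ComplexConjugate commutatorElement Pointwise

namespace Cfsg.Agent.Lib.Helper11.FrobChain

open Cfsg.Agent.Lib.Helper11 Cfsg.Agent.Lib.helper7 Cfsg.Agent.Lib.helper2 Cfsg.Agent.Lib.Helper25
  Cfsg.Agent.Lib.Helper11.SeqInd Cfsg.Agent.Lib.Helper11.SeqIndCoh
  Cfsg.Agent.Lib.Helper11.SeqIndNil Cfsg.Agent.Lib.Helper11.SeqIndFrob
  Cfsg.Agent.Lib.Helper11.FrobIrr Cfsg.Agent.Lib.Helper11.BoundIrr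

theorem ineq_strict_arith (e a b : ℕ) (he : 1 ≤ e) (ha : e + 1 ≤ a) (hb : e + 1 ≤ b) :
    4 * e ^ 2 * b < (a * b - 1) ^ 2 := by
  have h1 : (e + 1) * b ≤ a * b := Nat.mul_le_mul_right b ha
  have hb1 : 1 ≤ b := by omega
  have h2 : 1 ≤ (e + 1) * b := Nat.one_le_iff_ne_zero.mpr (Nat.mul_ne_zero (by omega) (by omega))
  have h3 : (e + 1) * b - 1 ≤ a * b - 1 := Nat.sub_le_sub_right h1 1
  have h4 : ((e + 1) * b - 1) ^ 2 ≤ (a * b - 1) ^ 2 := Nat.pow_le_pow_left h3 2
  refine lt_of_lt_of_le ?_ h4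
  obtain ⟨t, ht⟩ : ∃ t, (e + 1) * b = t + 1 := ⟨(e + 1) * b - 1, by omega⟩
  rw [ht, Nat.add_sub_cancel]
  have h5 : (t + 1) ^ 2 = (e + 1) ^ 2 * b ^ 2 := by rw [← ht]; ring
  have h6 : (e + 1) ^ 3 * b ≤ (e + 1) ^ 2 * b ^ 2 := by
    calc (e + 1) ^ 3 * b = (e + 1) ^ 2 * b * (e + 1) := by ring
      _ ≤ (e + 1) ^ 2 * b * b := Nat.mul_le_mul_left _ hb
      _ = (e + 1) ^ 2 * b ^ 2 := by ring
  have h7 : 4 * e ^ 2 + 2 * (e + 1) ≤ (e + 1) ^ 3 := by
    nlinarith [Nat.pow_le_pow_left he 2, Nat.pow_le_pow_left he 3]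
  have h8 : (4 * e ^ 2 + 2 * (e + 1)) * b ≤ (e + 1) ^ 3 * b := Nat.mul_le_mul_right b h7
  have h9 : t ^ 2 + 2 * t + 1 = (t + 1) ^ 2 := by ring
  have h10 : 2 * (e + 1) * b = 2 * t + 2 := by rw [mul_assoc, ht]; ring
  nlinarith

theorem ineq_big_arith (e w : ℕ) (hw : 4 * e ^ 2 + 2 ≤ w) :
    4 * e ^ 2 * w < (w - 1) ^ 2 := by
  obtain ⟨t, ht⟩ : ∃ t, w = t + 1 := ⟨w - 1, by omega⟩
  rw [ht, Nat.add_sub_cancel]
  have h1 : 4 * e ^ 2 + 1 ≤ t := by omega
  nlinarith

variable {L : Type*} [Group L] [Fintype L] {G : Type*} [Group G] [Fintype G]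

/-- the data of a Frobenius group with kernel `H` and an isometry on the integer combinations
of the characters induced from `H` that vanish at `1` -/
structure FData (H : Subgroup L) (τ : (L → ℂ) → (G → ℂ)) : Prop where
  normal : H.Normal
  cent : ∀ n ∈ H, n ≠ 1 → Subgroup.centralizer ({n} : Set L) ≤ H
  iso : Cfsg.IsLinearIsometryOn (Cfsg.zspanOn (Cfsg.inducedIrrAbove H ⊥) {1}ᶜ) τ
  one : ∀ α ∈ Cfsg.zspanOn (Cfsg.inducedIrrAbove H ⊥) {1}ᶜ, τ α 1 = 0
  solv : Group.IsSolvable H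

variable {H : Subgroup L} {τ : (L → ℂ) → (G → ℂ)}

theorem index_pos (H : Subgroup L) : 1 ≤ H.index :=
  Nat.pos_of_ne_zero Subgroup.index_ne_zero_of_finite

/-- `[D : A] ≥ e + 1` for normal subgroups `A < D ≤ H` -/
theorem succ_index_le (hD : FData H τ) (A D : Subgroup L) [hA : A.Normal] [hDn : D.Normal]
    (hAD : A < D) (hDH : D ≤ H) : H.index + 1 ≤ A.relIndex D := by
  have := hD.normal
  have h1 := index_dvd H hD.cent A
  have h2 := index_dvd H hD.cent D
  have h3 : A.relIndex D * D.relIndex H = A.relIndex H :=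
    Subgroup.relIndex_mul_relIndex A D H hAD.le hDH
  have ha1 : A.relIndex D ≠ 1 := by
    intro h
    rw [Subgroup.relIndex_eq_one] at h
    exact (not_le_of_gt hAD) h
  have hapos : 1 ≤ A.relIndex D :=
    Nat.pos_of_ne_zero (Subgroup.index_ne_zero_of_finite (H := A.subgroupOf D))
  have hbpos : 1 ≤ D.relIndex H :=
    Nat.pos_of_ne_zero (Subgroup.index_ne_zero_of_finite (H := D.subgroupOf H))
  generalize A.relIndex D = a at *
  generalize D.relIndex H = b at *
  rw [← h3] at h1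
  have h4 : H.index ∣ a - 1 := by
    have h5 : H.index ∣ a * (b - 1) := Dvd.dvd.mul_left h2 a
    have h6 : a * b - 1 - a * (b - 1) = a - 1 := by
      obtain ⟨b', rfl⟩ : ∃ b', b = b' + 1 := ⟨b - 1, by omega⟩
      simp only [Nat.add_sub_cancel]
      have : a * (b' + 1) = a * b' + a := by ring
      rw [this]
      omega
    rw [← h6]
    exact Nat.dvd_sub h1 h5
  have h7 : H.index ≤ a - 1 := Nat.le_of_dvd (by omega) h4
  omega

/-- the inequality of the coherence step for `A < D < H` -/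
theorem ineq_of_strict (hD : FData H τ) (A D : Subgroup L) [hA : A.Normal] [hDn : D.Normal]
    (hAD : A < D) (hDH : D < H) :
    4 * H.index ^ 2 * D.relIndex H < (A.relIndex H - 1) ^ 2 := by
  have := hD.normal
  have h1 := succ_index_le hD A D hAD hDH.le
  have h2 := succ_index_le hD D H hDH le_rfl
  have h3 : A.relIndex D * D.relIndex H = A.relIndex H :=
    Subgroup.relIndex_mul_relIndex A D H hAD.le hDH.le
  rw [← h3]
  exact ineq_strict_arith _ _ _ (index_pos H) h1 h2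

/-- one coherence step -/
theorem step (hD : FData H τ) (A B D : Subgroup L) [hA : A.Normal] [hB : B.Normal]
    (hAH : A < H) (hBA : B ≤ A) (hBD : B ≤ D) (hDH : D ≤ H)
    (hcent : ∀ x ∈ D, ∀ y ∈ H, x * y * x⁻¹ * y⁻¹ ∈ B)
    (hcoh : Cfsg.IsCoherent (Cfsg.inducedIrrAbove H A) {1}ᶜ τ)
    (hlt : 4 * H.index ^ 2 * D.relIndex H < (A.relIndex H - 1) ^ 2) :
    Cfsg.IsCoherent (Cfsg.inducedIrrAbove H B) {1}ᶜ τ := by
  have := hD.normal
  exact coherent_of_bound_irr H hD.solv τ hD.iso hD.one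
    (fun χ hχ => irr_of_induced H hD.cent hχ) A B H D hAH hBA hBD hDH le_rfl hcent hcoh hlt

/-- the base of the induction: `S(A)` is coherent when `H / A` is abelian and large enough -/
theorem coherent_base (hD : FData H τ) (A : Subgroup L) [hA : A.Normal] (hAH : A ≤ H)
    (hab : ∀ x ∈ H, ∀ y ∈ H, x * y * x⁻¹ * y⁻¹ ∈ A)
    (hbig : 2 * H.index ≤ A.relIndex H - 1) :
    Cfsg.IsCoherent (Cfsg.inducedIrrAbove H A) {1}ᶜ τ := by
  classical
  have := hD.normal
  have hsub : Cfsg.inducedIrrAbove H A ⊆ Cfsg.inducedIrrAbove H ⊥ :=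
    inducedIrrAbove_mono H bot_le
  have hirr : ∀ χ ∈ Cfsg.inducedIrrAbove H A, Cfsg.IsIrrCharacter L χ :=
    fun χ hχ => irr_of_induced H hD.cent (hsub hχ)
  have hdeg1 : ∀ φ ∈ Cfsg.inducedIrrAbove H A, φ 1 = (H.index : ℂ) := by
    intro φ hφ
    rw [inducedIrrAbove_eq] at hφ
    obtain ⟨θ, hθ, rfl⟩ := hφ
    change Cfsg.indFun H θ 1 = _
    rw [h7_indFun_one, degree_linear H A hAH hab hθ, mul_one]
  apply Cfsg.Agent.Lib.Helper11.EqDeg.coherent_of_eq_degree_irr
    (isoOn_mono (fun a ha => zspanOn_mono hsub _ ha) hD.iso)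
    (fun α hα => hD.one α (zspanOn_mono hsub _ hα)) hirr
  · intro φ hφ ψ hψ
    rw [hdeg1 φ hφ, hdeg1 ψ hψ]
  · have hsum := sum_sq_nat H A (fun _ => H.index) (fun φ hφ => hdeg1 φ hφ) hirr
    rw [Finset.sum_const, smul_eq_mul] at hsum
    have hepos := index_pos H
    have h1 : (inducedIrrAbove_finite H A).toFinset.card * H.index = A.relIndex H - 1 := by
      have : (inducedIrrAbove_finite H A).toFinset.card * H.index * H.index =
          (A.relIndex H - 1) * H.index := by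
        rw [mul_comm (A.relIndex H - 1), ← hsum]
        ring
      exact Nat.eq_of_mul_eq_mul_right hepos this
    have h2 : 1 < (inducedIrrAbove_finite H A).toFinset.card := by
      by_contra hcon
      push Not at hcon
      have : (inducedIrrAbove_finite H A).toFinset.card * H.index ≤ 1 * H.index :=
        Nat.mul_le_mul_right _ hcon
      omega
    obtain ⟨a, ha, b, hb, hab'⟩ := Finset.one_lt_card.mp h2
    exact ⟨a, (Set.Finite.mem_toFinset _).mp ha, b, (Set.Finite.mem_toFinset _).mp hb, hab'⟩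

omit [Fintype L] in
/-- commutators in the elementwise form -/
theorem comm_mem {A B : Subgroup L} {x y : L} (hx : x ∈ A) (hy : y ∈ B) :
    x * y * x⁻¹ * y⁻¹ ∈ ⁅A, B⁆ := by
  have := Subgroup.commutator_mem_commutator hx hy
  rw [commutatorElement_def] at this
  exact this

omit [Fintype L] in
/-- nilpotency: a subgroup of `H` equal to its commutator with `H` modulo `M` lies in `M` -/
theorem le_of_comm (hnil : Group.IsNilpotent H) (M B : Subgroup L) [hM : M.Normal] (hMH : M ≤ H)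
    (hBH : B ≤ H) (hB : B ≤ ⁅B, H⁆ ⊔ M) : B ≤ M := by
  have hMn : (M.subgroupOf H).Normal := Subgroup.normal_subgroupOf
  have hq : Group.IsNilpotent (↥H ⧸ M.subgroupOf H) := inferInstance
  exact le_of_nilpotent_quot H M B hMH hBH hq hB

/-- the descent along `B ↦ [B, H]` when `[H : [H, H]]` is large -/
theorem coherent_of_big (hD : FData H τ) (hnil : Group.IsNilpotent H)
    (hbig : 4 * H.index ^ 2 + 2 ≤ (⁅H, H⁆ : Subgroup L).relIndex H) :
    Cfsg.IsCoherent (Cfsg.inducedIrrAbove H ⊥) {1}ᶜ τ := by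
  have := hD.normal
  have hH'n : (⁅H, H⁆ : Subgroup L).Normal := inferInstance
  have hH'H : (⁅H, H⁆ : Subgroup L) ≤ H := Subgroup.commutator_le_left H H
  have hepos := index_pos H
  have hH'lt : (⁅H, H⁆ : Subgroup L) < H := by
    refine lt_of_le_of_ne hH'H ?_
    intro h
    have h1 : (⁅H, H⁆ : Subgroup L).relIndex H = 1 := by
      rw [Subgroup.relIndex_eq_one, h]
    rw [h1] at hbig
    nlinarith
  have hbase : Cfsg.IsCoherent (Cfsg.inducedIrrAbove H ⁅H, H⁆) {1}ᶜ τ := by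
    apply coherent_base hD _ hH'H (fun x hx y hy => comm_mem hx hy)
    have : 2 * H.index ≤ 4 * H.index ^ 2 := by nlinarith
    omega
  have key : ∀ n : ℕ, ∀ B : Subgroup L, B.Normal → B ≤ ⁅H, H⁆ → Nat.card B = n →
      Cfsg.IsCoherent (Cfsg.inducedIrrAbove H B) {1}ᶜ τ →
      Cfsg.IsCoherent (Cfsg.inducedIrrAbove H ⊥) {1}ᶜ τ := by
    intro n
    induction n using Nat.strong_induction_on with
    | _ n ih =>
    intro B hBn hBH' hcard hcohB
    by_cases hB0 : B = ⊥
    · rw [← hB0]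
      exact hcohB
    obtain ⟨B', hB'⟩ : ∃ B' : Subgroup L, B' = ⁅B, H⁆ := ⟨_, rfl⟩
    have hB'n : B'.Normal := by
      rw [hB']
      infer_instance
    have hBH : B ≤ H := hBH'.trans hH'H
    have hB'B : B' ≤ B := by
      rw [hB']
      exact Subgroup.commutator_le_left B H
    have hne : B' ≠ B := by
      intro h
      apply hB0
      rw [eq_bot_iff]
      apply le_of_comm hnil ⊥ B bot_le hBH
      rw [← hB', h]
      exact le_sup_left
    have hBltH : B < H := lt_of_le_of_lt hBH' hH'lt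
    have hlt : 4 * H.index ^ 2 * B.relIndex H < (B.relIndex H - 1) ^ 2 := by
      apply ineq_big_arith
      have h5 : (⁅H, H⁆ : Subgroup L).relIndex H ∣ B.relIndex H :=
        Subgroup.relIndex_dvd_of_le_left H hBH'
      have h6 : (⁅H, H⁆ : Subgroup L).relIndex H ≤ B.relIndex H :=
        Nat.le_of_dvd (Nat.pos_of_ne_zero (Subgroup.index_ne_zero_of_finite
          (H := B.subgroupOf H))) h5
      omega
    have hcohB' := step hD B B' B hBltH hB'B hB'B hBH
      (fun x hx y hy => by rw [hB']; exact comm_mem hx hy) hcohB hlt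
    have hcardlt : Nat.card B' < n := by
      rw [← hcard]
      refine lt_of_le_of_ne (Subgroup.card_le_of_le hB'B) ?_
      intro h
      exact hne (Subgroup.eq_of_le_of_card_ge hB'B h.ge)
    exact ih _ hcardlt B' hB'n (hB'B.trans hBH') rfl hcohB'
  exact key _ _ hH'n le_rfl rfl hbase

omit [Fintype L] in
/-- the commutator of a product with a normal factor -/
theorem comm_sup_mem (P B M B' : Subgroup L) [hP : P.Normal] [hB'n : B'.Normal]
    (hPM : ∀ p ∈ P, ∀ y ∈ H, p * y * p⁻¹ * y⁻¹ ∈ M) (hMB' : M ≤ B')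
    (hBB' : ∀ b ∈ B, ∀ y ∈ H, b * y * b⁻¹ * y⁻¹ ∈ B') :
    ∀ x ∈ P ⊔ B, ∀ y ∈ H, x * y * x⁻¹ * y⁻¹ ∈ B' := by
  intro x hx y hy
  have hx' : x ∈ (↑(P ⊔ B) : Set L) := hx
  rw [Subgroup.normal_mul] at hx'
  obtain ⟨p, hp, b, hb, rfl⟩ := Set.mem_mul.mp hx'
  have h1 : p * b * y * (p * b)⁻¹ * y⁻¹ = p * (b * y * b⁻¹ * y⁻¹) * p⁻¹ * (p * y * p⁻¹ * y⁻¹) := by
    group
  rw [h1]
  exact B'.mul_mem (hB'n.conj_mem _ (hBB' b hb y hy) p) (hMB' (hPM p hp y hy))

/-- the two-phase descent for a kernel that is not of prime power order -/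
theorem coherent_of_sylow_data (hD : FData H τ) (hnil : Group.IsNilpotent H)
    (P : Subgroup L) [hP : P.Normal] (hPH : P ≤ H) (h1 : ¬ P ≤ ⁅H, H⁆)
    (h2 : P ⊔ ⁅H, H⁆ ≠ H) (h3 : ¬ H ⊓ Subgroup.centralizer (H : Set L) ≤ P) :
    Cfsg.IsCoherent (Cfsg.inducedIrrAbove H ⊥) {1}ᶜ τ := by
  have hHn := hD.normal
  have hH'n : (⁅H, H⁆ : Subgroup L).Normal := inferInstance
  have hH'H : (⁅H, H⁆ : Subgroup L) ≤ H := Subgroup.commutator_le_left H H
  have hepos := index_pos H
  obtain ⟨M, hM⟩ : ∃ M : Subgroup L, M = ⁅P, H⁆ := ⟨_, rfl⟩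
  have hMn : M.Normal := by
    rw [hM]
    infer_instance
  have hMP : M ≤ P := by
    rw [hM]
    exact Subgroup.commutator_le_left P H
  have hMH' : M ≤ ⁅H, H⁆ := by
    rw [hM]
    exact Subgroup.commutator_mono hPH le_rfl
  have hMH : M ≤ H := hMP.trans hPH
  have hPM : ∀ p ∈ P, ∀ y ∈ H, p * y * p⁻¹ * y⁻¹ ∈ M := by
    intro p hp y hy
    rw [hM]
    exact comm_mem hp hy
  -- the two strict inclusions
  have hDn : (P ⊔ ⁅H, H⁆ : Subgroup L).Normal := inferInstance
  have hlt1 : (⁅H, H⁆ : Subgroup L) < P ⊔ ⁅H, H⁆ := by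
    refine lt_of_le_of_ne le_sup_right ?_
    intro h
    apply h1
    rw [h]
    exact le_sup_left
  have hlt2 : P ⊔ ⁅H, H⁆ < H := lt_of_le_of_ne (sup_le hPH hH'H) h2
  have hH'lt : (⁅H, H⁆ : Subgroup L) < H := lt_trans hlt1 hlt2
  -- the base
  have hbase : Cfsg.IsCoherent (Cfsg.inducedIrrAbove H ⁅H, H⁆) {1}ᶜ τ := by
    apply coherent_base hD _ hH'H (fun x hx y hy => comm_mem hx hy)
    have e1 := succ_index_le hD ⁅H, H⁆ (P ⊔ ⁅H, H⁆) hlt1 hlt2.le
    have e2 := succ_index_le hD (P ⊔ ⁅H, H⁆) H hlt2 le_rfl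
    have e3 : (⁅H, H⁆ : Subgroup L).relIndex (P ⊔ ⁅H, H⁆) * (P ⊔ ⁅H, H⁆).relIndex H =
        (⁅H, H⁆ : Subgroup L).relIndex H :=
      Subgroup.relIndex_mul_relIndex _ _ H hlt1.le hlt2.le
    rw [← e3]
    have : (H.index + 1) * (H.index + 1) ≤
        (⁅H, H⁆ : Subgroup L).relIndex (P ⊔ ⁅H, H⁆) * (P ⊔ ⁅H, H⁆).relIndex H :=
      Nat.mul_le_mul e1 e2
    have e4 : (H.index + 1) * (H.index + 1) = H.index ^ 2 + 2 * H.index + 1 := by ring
    omega
  -- phase one
  have key1 : ∀ n : ℕ, ∀ B : Subgroup L, B.Normal → M ≤ B → B ≤ ⁅H, H⁆ → Nat.card B = n →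
      Cfsg.IsCoherent (Cfsg.inducedIrrAbove H B) {1}ᶜ τ →
      Cfsg.IsCoherent (Cfsg.inducedIrrAbove H M) {1}ᶜ τ := by
    intro n
    induction n using Nat.strong_induction_on with
    | _ n ih =>
    intro B hBn hMB hBH' hcard hcohB
    by_cases hBM : B = M
    · rw [← hBM]
      exact hcohB
    obtain ⟨B', hB'⟩ : ∃ B' : Subgroup L, B' = ⁅B, H⁆ ⊔ M := ⟨_, rfl⟩
    have hB'n : B'.Normal := by
      rw [hB']
      infer_instance
    have hBH : B ≤ H := hBH'.trans hH'H
    have hB'B : B' ≤ B := by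
      rw [hB']
      exact sup_le (Subgroup.commutator_le_left B H) hMB
    have hne : B' ≠ B := by
      intro h
      apply hBM
      apply le_antisymm _ hMB
      apply le_of_comm hnil M B hMH hBH
      rw [← hB', h]
    have hBltH : B < H := lt_of_le_of_lt hBH' hH'lt
    have hPBn : (P ⊔ B : Subgroup L).Normal := inferInstance
    have hlta : B < P ⊔ B := by
      refine lt_of_le_of_ne le_sup_right ?_
      intro h
      apply h1
      refine le_trans ?_ hBH'
      rw [h]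
      exact le_sup_left
    have hltb : P ⊔ B < H := by
      refine lt_of_le_of_ne (sup_le hPH hBH) ?_
      intro h
      apply h2
      apply le_antisymm (sup_le hPH hH'H)
      exact le_of_eq_of_le h.symm (sup_le_sup_left hBH' P)
    have hlt := ineq_of_strict hD B (P ⊔ B) hlta hltb
    have hcent := comm_sup_mem (H := H) P B M B' hPM (by rw [hB']; exact le_sup_right)
      (fun b hb y hy => by
        rw [hB']
        exact Subgroup.mem_sup_left (comm_mem hb hy))
    have hcohB' := step hD B B' (P ⊔ B) hBltH hB'B (hB'B.trans le_sup_right) hltb.le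
      hcent hcohB hlt
    have hcardlt : Nat.card B' < n := by
      rw [← hcard]
      refine lt_of_le_of_ne (Subgroup.card_le_of_le hB'B) ?_
      intro h
      exact hne (Subgroup.eq_of_le_of_card_ge hB'B h.ge)
    exact ih _ hcardlt B' hB'n (by rw [hB']; exact le_sup_right) (hB'B.trans hBH') rfl hcohB'
  have hcohM := key1 _ _ hH'n hMH' le_rfl rfl hbase
  -- phase two
  obtain ⟨Z, hZ⟩ : ∃ Z : Subgroup L, Z = H ⊓ Subgroup.centralizer (H : Set L) := ⟨_, rfl⟩
  have hZn : Z.Normal := by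
    rw [hZ]
    infer_instance
  have hZH : Z ≤ H := by
    rw [hZ]
    exact inf_le_left
  have hZc : ∀ z ∈ Z, ∀ y ∈ H, z * y * z⁻¹ = y := by
    intro z hz y hy
    rw [hZ] at hz
    have := Subgroup.mem_centralizer_iff.mp hz.2 y hy
    rw [← this]
    group
  have hcentZ : ∀ B : Subgroup L, ∀ x ∈ B ⊔ Z, ∀ y ∈ H, ∃ b ∈ B, x * y * x⁻¹ * y⁻¹ = b * y * b⁻¹ * y⁻¹ := by
    intro B x hx y hy
    have hx' : x ∈ (↑(B ⊔ Z) : Set L) := hx
    rw [Subgroup.mul_normal] at hx'
    obtain ⟨b, hb, z, hz, rfl⟩ := Set.mem_mul.mp hx'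
    refine ⟨b, hb, ?_⟩
    have e1 : b * z * y * (b * z)⁻¹ * y⁻¹ = b * (z * y * z⁻¹) * b⁻¹ * y⁻¹ := by group
    rw [e1, hZc z hz y hy]
  have key2 : ∀ n : ℕ, ∀ B : Subgroup L, B.Normal → B ≤ M → Nat.card B = n →
      Cfsg.IsCoherent (Cfsg.inducedIrrAbove H B) {1}ᶜ τ →
      Cfsg.IsCoherent (Cfsg.inducedIrrAbove H ⊥) {1}ᶜ τ := by
    intro n
    induction n using Nat.strong_induction_on with
    | _ n ih =>
    intro B hBn hBM hcard hcohB
    by_cases hB0 : B = ⊥
    · rw [← hB0]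
      exact hcohB
    obtain ⟨B', hB'⟩ : ∃ B' : Subgroup L, B' = ⁅B, H⁆ := ⟨_, rfl⟩
    have hB'n : B'.Normal := by
      rw [hB']
      infer_instance
    have hBH : B ≤ H := hBM.trans hMH
    have hB'B : B' ≤ B := by
      rw [hB']
      exact Subgroup.commutator_le_left B H
    have hne : B' ≠ B := by
      intro h
      apply hB0
      rw [eq_bot_iff]
      apply le_of_comm hnil ⊥ B bot_le hBH
      rw [← hB', h]
      exact le_sup_left
    have hBltH : B < H := lt_of_le_of_lt (hBM.trans hMH') hH'lt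
    have hBZn : (B ⊔ Z : Subgroup L).Normal := inferInstance
    have hlta : B < B ⊔ Z := by
      refine lt_of_le_of_ne le_sup_left ?_
      intro h
      apply h3
      rw [← hZ]
      refine le_trans ?_ (hBM.trans hMP)
      rw [h]
      exact le_sup_right
    have hcent : ∀ x ∈ B ⊔ Z, ∀ y ∈ H, x * y * x⁻¹ * y⁻¹ ∈ B' := by
      intro x hx y hy
      obtain ⟨b, hb, e⟩ := hcentZ B x hx y hy
      rw [e, hB']
      exact comm_mem hb hy
    have hltb : B ⊔ Z < H := by
      refine lt_of_le_of_ne (sup_le hBH hZH) ?_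
      intro h
      apply hne
      apply le_antisymm hB'B
      refine le_trans (hBM.trans hMH') ?_
      rw [Subgroup.commutator_le]
      intro x hx y hy
      rw [commutatorElement_def]
      rw [← h] at hx
      exact hcent x hx y hy
    have hlt := ineq_of_strict hD B (B ⊔ Z) hlta hltb
    have hcohB' := step hD B B' (B ⊔ Z) hBltH hB'B (hB'B.trans le_sup_left) hltb.le
      hcent hcohB hlt
    have hcardlt : Nat.card B' < n := by
      rw [← hcard]
      refine lt_of_le_of_ne (Subgroup.card_le_of_le hB'B) ?_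
      intro h
      exact hne (Subgroup.eq_of_le_of_card_ge hB'B h.ge)
    exact ih _ hcardlt B' hB'n (hB'B.trans hBM) rfl hcohB'
  exact key2 _ _ hMn le_rfl rfl hcohM

end Cfsg.Agent.Lib.Helper11.FrobChain
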