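import Mathlib
import Cfsg.Agent.Lib.Helper11.FrobFormula2

set_option autoImplicit false

namespace Cfsg.Agent.Lib.Helper11.FrobOneDim

open Cfsg.Agent.Lib.Helper11.FrobConcCore Cfsg.Agent.Lib.Helper11.FrobFormula
  Cfsg.Agent.Lib.Helper11.FrobFormula2
open scoped commutatorElement IsMulCommutative Pointwise

variable {X : Type*} [Group X]

/-- a Frobenius-like group `K ⋊ R` (with `K` nilpotent) acting coprimely on an elementary abelian
`p`-group `V` such that `C_V(R)` has order `p`: the derived subgroup of `K` centralizes `V` -/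
theorem derived_of_fixed_prime [Finite X] (p : ℕ) [hp : Fact p.Prime] (K R V : Subgroup X)
    (hRK : R ≤ Subgroup.normalizer (K : Set X)) (hKnil : Group.IsNilpotent K)
    (hfpf : ∀ r ∈ R, r ≠ 1 → K ⊓ Subgroup.centralizer ({r} : Set X) = ⊥)
    (hKp : ¬ p ∣ Nat.card K) (hRp : ¬ p ∣ Nat.card R)
    (hVc : ∀ x ∈ V, ∀ y ∈ V, x * y = y * x) (hVe : ∀ x ∈ V, x ^ p = 1)
    (hKV : K ≤ Subgroup.normalizer (V : Set X)) (hRV : R ≤ Subgroup.normalizer (V : Set X))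
    (hCV : Nat.card ↥(V ⊓ Subgroup.centralizer (R : Set X)) = p) :
    ⁅K, K⁆ ≤ Subgroup.centralizer (V : Set X) := by
  have hcopK := coprime_of_exp p K V hVe hKp
  have : IsMulCommutative V := isMulCommutative_iff.mpr
    (fun a b => Subtype.ext (hVc a a.2 b b.2))
  obtain ⟨hd1, hd2⟩ := Cfsg.Agent.Lib.Helper1.coprime_abelian_decomposition K V hKV hcopK
  have hV2le : ⁅V, K⁆ ≤ V :=
    Cfsg.Agent.Lib.Lead.commutator_le_left_of_le_normalizer V K hKV
  have hK2 : K ≤ Subgroup.normalizer ((⁅V, K⁆ : Subgroup X) : Set X) :=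
    Cfsg.Agent.Lib.Lead.le_normalizer_commutator K V K hKV Subgroup.le_normalizer
  have hR2 : R ≤ Subgroup.normalizer ((⁅V, K⁆ : Subgroup X) : Set X) :=
    Cfsg.Agent.Lib.Lead.le_normalizer_commutator R V K hRV hRK
  have hCK2 : ⁅V, K⁆ ⊓ Subgroup.centralizer (K : Set X) = ⊥ := by
    rw [eq_bot_iff, ← hd1]
    intro x hx
    obtain ⟨hx1, hx2⟩ := Subgroup.mem_inf.mp hx
    exact Subgroup.mem_inf.mpr ⟨Subgroup.mem_inf.mpr ⟨hV2le hx1, hx2⟩, hx1⟩
  have hWc : ∀ x ∈ ⁅V, K⁆, ∀ y ∈ ⁅V, K⁆, x * y = y * x :=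
    fun x hx y hy => hVc x (hV2le hx) y (hV2le hy)
  have hWe : ∀ x ∈ ⁅V, K⁆, x ^ p = 1 := fun x hx => hVe x (hV2le hx)
  have e2 := frob_formula p K R hRK hKnil hfpf hKp hRp _ ⁅V, K⁆ rfl hWc hWe hK2 hR2 hCK2
  have hKK : ⁅K, K⁆ ≤ K := Subgroup.commutator_le.mpr (fun a ha b hb =>
    K.mul_mem (K.mul_mem (K.mul_mem ha hb) (K.inv_mem ha)) (K.inv_mem hb))
  have hdvd : Nat.card ↥(⁅V, K⁆ ⊓ Subgroup.centralizer (R : Set X)) ∣ p := by
    rw [← hCV]
    exact Subgroup.card_dvd_of_le (inf_le_inf_right _ hV2le)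
  have hA : V ⊓ Subgroup.centralizer (K : Set X) ≤
      Subgroup.centralizer ((⁅K, K⁆ : Subgroup X) : Set X) := by
    rw [← Subgroup.le_centralizer_iff]
    exact hKK.trans (Subgroup.centralizer_le
      (SetLike.coe_subset_coe.mpr (inf_le_right : V ⊓ Subgroup.centralizer (K : Set X) ≤ _))
      |>.trans' (Subgroup.le_centralizer_iff.mp le_rfl))
  rw [Subgroup.le_centralizer_iff]
  rw [← hd2]
  apply sup_le hA
  rcases (Nat.dvd_prime hp.out).mp hdvd with h1 | h1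
  · rw [h1, one_pow] at e2
    rw [Subgroup.card_eq_one.mp e2]
    exact bot_le
  · rw [h1] at e2
    rw [← Subgroup.le_centralizer_iff]
    exact frob_ab p K R ⁅V, K⁆ hRK hKnil hfpf hKp hRp hWc hWe hK2 hR2 hCK2 e2

end Cfsg.Agent.Lib.Helper11.FrobOneDim
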