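import Mathlib
import Cfsg.Agent.Lib.Helper11.NilpCoprime
import Cfsg.Agent.Lib.Helper11.FrobQuot
import Cfsg.Agent.Lib.Helper11.FrobKernelNil

set_option autoImplicit false
open scoped commutatorElement Pointwise

namespace Cfsg.Agent.Lib.Helper11.FrobSylow

variable {N : Type*} [Group N] [Finite N]

/-- a normal subgroup containing the centralizers of its non-identity elements is nilpotent,
if it is proper -/
theorem kernel_nilpotent' (H : Subgroup N) [hHn : H.Normal] (hH2 : H ≠ ⊤)
    (hC : ∀ h ∈ H, h ≠ 1 → Subgroup.centralizer ({h} : Set N) ≤ H) : Group.IsNilpotent H := by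
  classical
  -- an element outside `H` of minimal order
  have hex : ∃ g : N, g ∉ H := by
    by_contra hcon
    push Not at hcon
    apply hH2
    rw [eq_top_iff]
    intro x _
    exact hcon x
  obtain ⟨g, hg, hmin⟩ : ∃ g : N, g ∉ H ∧ ∀ g' : N, g' ∉ H → orderOf g ≤ orderOf g' := by
    have hne : {n : ℕ | ∃ g : N, g ∉ H ∧ orderOf g = n}.Nonempty := by
      obtain ⟨g, hg⟩ := hex
      exact ⟨_, g, hg, rfl⟩
    obtain ⟨g, hg, hgo⟩ := Nat.sInf_mem hne
    refine ⟨g, hg, ?_⟩
    intro g' hg'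
    rw [hgo]
    exact Nat.sInf_le ⟨g', hg', rfl⟩
  have hg1 : g ≠ 1 := fun h => hg (h ▸ H.one_mem)
  have hord : orderOf g ≠ 1 := fun h => hg1 (orderOf_eq_one_iff.mp h)
  obtain ⟨q, hq, hqd⟩ := Nat.exists_prime_and_dvd hord
  have hgq : g ^ q ∈ H := by
    by_contra hcon
    have h1 := hmin _ hcon
    have h2 : orderOf (g ^ q) = orderOf g / q := by
      rw [orderOf_pow' g hq.ne_zero, Nat.gcd_eq_right hqd]
    rw [h2] at h1
    have h3 : orderOf g / q < orderOf g :=
      Nat.div_lt_self (orderOf_pos g) hq.one_lt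
    omega
  have hgq1 : g ^ q = 1 := by
    by_contra hcon
    apply hg
    apply hC _ hgq hcon
    rw [Subgroup.mem_centralizer_iff]
    intro y hy
    rw [Set.mem_singleton_iff.mp hy, ← pow_succ, ← pow_succ']
  have hE : Subgroup.zpowers g ≠ ⊥ := by
    intro h
    apply hg1
    have : g ∈ Subgroup.zpowers g := Subgroup.mem_zpowers g
    rw [h] at this
    exact Subgroup.mem_bot.mp this
  apply Cfsg.Agent.Lib.Helper11.FrobKernelNil.kernel_nilpotent H (Subgroup.zpowers g) hE
  · intro x _
    rw [Subgroup.mem_set_normalizer_iff]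
    intro y
    constructor
    · intro hy
      exact hHn.conj_mem y hy x
    · intro hy
      have := hHn.conj_mem _ hy x⁻¹
      simpa [mul_assoc] using this
  · intro e he he1 u hu hcomm
    by_contra hu1
    have heH : e ∈ H := by
      apply hC u hu hu1
      rw [Subgroup.mem_centralizer_iff]
      intro y hy
      rw [Set.mem_singleton_iff.mp hy]
      exact hcomm.symm
    -- `g` is a power of `e`
    have hord' : orderOf g = q := by
      have h1 : orderOf g ∣ q := orderOf_dvd_of_pow_eq_one hgq1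
      rcases (Nat.dvd_prime hq).mp h1 with h | h
      · exact absurd h hord
      · exact h
    obtain ⟨k, rfl⟩ := Subgroup.mem_zpowers_iff.mp he
    have hcard : Nat.card (Subgroup.zpowers g) = q := by
      rw [Nat.card_zpowers, hord']
    have hcop : ¬ (q : ℤ) ∣ k := by
      intro hdvd
      apply he1
      obtain ⟨m, rfl⟩ := hdvd
      rw [zpow_mul, zpow_natCast, hgq1, one_zpow]
    have hcop' : IsCoprime (q : ℤ) k := by
      rw [Int.isCoprime_iff_gcd_eq_one]
      have := (Nat.Prime.coprime_iff_not_dvd hq).mpr (fun h => hcop (Int.natCast_dvd.mpr h))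
      simpa [Int.gcd] using this
    obtain ⟨a, b, hab⟩ := hcop'
    apply hg
    have : g = (g ^ k) ^ b := by
      have h1 : g = g ^ (a * q + b * k) := by rw [hab, zpow_one]
      rw [zpow_add, zpow_mul, mul_comm b k, zpow_mul] at h1
      have h2 : (g ^ a) ^ (q : ℤ) = 1 := by
        rw [← zpow_mul, mul_comm, zpow_mul, zpow_natCast, hgq1, one_zpow]
      rw [h2, one_mul] at h1
      exact h1
    rw [this]
    exact H.zpow_mem heH b

/-- in a nilpotent group every `q`-element lies in each Sylow `q`-subgroup -/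
theorem mem_sylow_of_pow {X : Type*} [Group X] [Finite X] [Group.IsNilpotent X] (q : ℕ)
    [Fact q.Prime] (Q : Sylow q X) (u : X) (hu : ∃ k : ℕ, u ^ q ^ k = 1) : u ∈ (Q : Subgroup X) := by
  have h1 : IsPGroup q (Subgroup.zpowers u) := by
    obtain ⟨k, hk⟩ := hu
    intro x
    obtain ⟨m, hm⟩ := Subgroup.mem_zpowers_iff.mp x.2
    refine ⟨k, Subtype.ext ?_⟩
    rw [Subgroup.coe_pow, ← hm, ← zpow_natCast, ← zpow_mul, mul_comm, zpow_mul, zpow_natCast, hk,
      one_zpow]
    rfl
  obtain ⟨Q', hQ'⟩ := h1.exists_le_sylow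
  obtain ⟨g, hg⟩ := MulAction.exists_smul_eq X Q' Q
  have h2 : Q' = Q := by
    have h3 : g⁻¹ • Q = Q' := by rw [← hg, inv_smul_smul]
    rw [← h3]
    exact Sylow.smul_eq_of_normal
  rw [← h2]
  exact hQ' (Subgroup.mem_zpowers u)

/-- the Sylow data needed for the descent in a nilpotent normal subgroup not of prime power
order -/
theorem exists_sylow_data (H : Subgroup N) [hHn : H.Normal] (hnil : Group.IsNilpotent H)
    (hnp : ¬ ∃ p m : ℕ, p.Prime ∧ Nat.card H = p ^ m) :
    ∃ P : Subgroup N, P.Normal ∧ P ≤ H ∧ ¬ P ≤ ⁅H, H⁆ ∧ P ⊔ ⁅H, H⁆ ≠ H ∧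
      ¬ (H ⊓ Subgroup.centralizer (H : Set N)) ≤ P := by
  classical
  have hcard1 : Nat.card H ≠ 1 := by
    intro h
    exact hnp ⟨2, 0, Nat.prime_two, by rw [h, pow_zero]⟩
  obtain ⟨p, hp, hpd⟩ := Nat.exists_prime_and_dvd hcard1
  obtain ⟨q, hq, hqd, hqp⟩ : ∃ q : ℕ, q.Prime ∧ q ∣ Nat.card H ∧ q ≠ p := by
    by_contra hcon
    push Not at hcon
    apply hnp
    refine ⟨p, _, hp, Nat.eq_prime_pow_of_unique_prime_dvd Nat.card_pos.ne' ?_⟩
    intro d hd hdd
    exact hcon d hd hdd
  have : Fact p.Prime := ⟨hp⟩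
  have : Fact q.Prime := ⟨hq⟩
  obtain ⟨P₀⟩ : Nonempty (Sylow p H) := inferInstance
  obtain ⟨Q₀⟩ : Nonempty (Sylow q H) := inferInstance
  have hP₀n : (P₀ : Subgroup H).Normal := inferInstance
  have hP₀c : (P₀ : Subgroup H).Characteristic := Sylow.characteristic_of_normal P₀ hP₀n
  have hcomm : ⁅H, H⁆ = (commutator H).map H.subtype := (Subgroup.map_subtype_commutator H).symm
  have hinj : Function.Injective H.subtype := H.subtype_injective
  refine ⟨(P₀ : Subgroup H).map H.subtype, inferInstance, Subgroup.map_subtype_le _, ?_, ?_, ?_⟩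
  · intro hle
    rw [hcomm, Subgroup.map_le_map_iff_of_injective hinj] at hle
    have h1 : (commutator H).index ∣ (P₀ : Subgroup H).index := Subgroup.index_dvd_of_le hle
    have h2 : p ∣ (commutator H).index :=
      Cfsg.Agent.Lib.Helper11.FrobQuot.nilpotent_prime_dvd_index_commutator p hp hpd
    exact P₀.not_dvd_index (h2.trans h1)
  · intro heq
    have htop : (⊤ : Subgroup H).map H.subtype = H := by
      rw [← MonoidHom.range_eq_map, Subgroup.range_subtype]
    rw [hcomm, ← Subgroup.map_sup] at heq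
    have h1 : (P₀ : Subgroup H) ⊔ commutator H = ⊤ := by
      apply Subgroup.map_injective hinj
      rw [heq, htop]
    have h2 : (commutator H).relIndex ((P₀ : Subgroup H) ⊔ commutator H) =
        (commutator H).relIndex (P₀ : Subgroup H) := Subgroup.relIndex_sup_right _ _
    rw [h1, Subgroup.relIndex_top_right] at h2
    have h3 : (commutator H).relIndex (P₀ : Subgroup H) ∣ Nat.card (P₀ : Subgroup H) :=
      Subgroup.relIndex_dvd_card _ _
    obtain ⟨n, hn⟩ := IsPGroup.iff_card.mp P₀.isPGroup'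
    rw [hn, ← h2] at h3
    have h4 : q ∣ (commutator H).index :=
      Cfsg.Agent.Lib.Helper11.FrobQuot.nilpotent_prime_dvd_index_commutator q hq hqd
    have h5 : q ∣ p ^ n := h4.trans h3
    have h6 := (Nat.prime_dvd_prime_iff_eq hq hp).mp (hq.dvd_of_dvd_pow h5)
    exact hqp h6
  · intro hle
    -- a nontrivial central element of the Sylow `q`-subgroup
    have hQ₀ne : (Q₀ : Subgroup H) ≠ ⊥ := Q₀.ne_bot_of_dvd_card hqd
    have : Nontrivial (Q₀ : Subgroup H) := (Subgroup.nontrivial_iff_ne_bot _).mpr hQ₀ne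
    have hcn : Nontrivial (Subgroup.center (Q₀ : Subgroup H)) := Q₀.isPGroup'.center_nontrivial
    obtain ⟨z, hz1⟩ := exists_ne (1 : Subgroup.center (Q₀ : Subgroup H))
    obtain ⟨w, hw⟩ : ∃ w : H, w = ((z : (Q₀ : Subgroup H)) : H) := ⟨_, rfl⟩
    have hw1 : w ≠ 1 := by
      intro h
      apply hz1
      apply Subtype.ext
      apply Subtype.ext
      rw [← hw, h]
      rfl
    have hwQ : w ∈ (Q₀ : Subgroup H) := by
      rw [hw]
      exact (z : (Q₀ : Subgroup H)).2
    have hwq : ∃ k : ℕ, w ^ q ^ k = 1 := by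
      obtain ⟨k, hk⟩ := Q₀.isPGroup' ⟨w, hwQ⟩
      refine ⟨k, ?_⟩
      have := congrArg Subtype.val hk
      simpa using this
    have hwc : ∀ u : H, (∃ k : ℕ, u ^ q ^ k = 1) → Commute w u := by
      intro u hu
      have huQ := mem_sylow_of_pow q Q₀ u hu
      have h1 := Subgroup.mem_center_iff.mp z.2 ⟨u, huQ⟩
      have h2 := congrArg (fun x : (Q₀ : Subgroup H) => (x : H)) h1
      simp only [Subgroup.coe_mul] at h2
      rw [← hw] at h2
      exact h2.symm
    have hcentral := Cfsg.Agent.Lib.Helper11.central_of_commute_p_elements q hq w hwq hwc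
    have hmem : (w : N) ∈ H ⊓ Subgroup.centralizer (H : Set N) := by
      refine ⟨w.2, ?_⟩
      show (w : N) ∈ Subgroup.centralizer (H : Set N)
      rw [Subgroup.mem_centralizer_iff]
      intro y hy
      have := hcentral ⟨y, hy⟩
      have h2 := congrArg Subtype.val this.eq
      simp only [Subgroup.coe_mul] at h2
      exact h2.symm
    have hwP := hle hmem
    obtain ⟨w', hw'P, hw'⟩ := Subgroup.mem_map.mp hwP
    have hww' : w' = w := hinj hw'
    rw [hww'] at hw'P
    -- `w` is both a `p`-element and a `q`-element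
    obtain ⟨a, ha⟩ := P₀.isPGroup' ⟨w, hw'P⟩
    have ha' : w ^ p ^ a = 1 := by
      have := congrArg Subtype.val ha
      simpa using this
    obtain ⟨b, hb⟩ := hwq
    have h1 : orderOf w ∣ p ^ a := orderOf_dvd_of_pow_eq_one ha'
    have h2 : orderOf w ∣ q ^ b := orderOf_dvd_of_pow_eq_one hb
    have h3 : Nat.Coprime (p ^ a) (q ^ b) :=
      Nat.Coprime.pow _ _ ((Nat.coprime_primes hp hq).mpr (Ne.symm hqp))
    have h4 : orderOf w = 1 := Nat.eq_one_of_dvd_coprimes h3 h1 h2
    exact hw1 (orderOf_eq_one_iff.mp h4)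

end Cfsg.Agent.Lib.Helper11.FrobSylow
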