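import Mathlib
import Cfsg.Prelude.Def_OddOrderLocal
import Cfsg.Agent.S1374
import Cfsg.Agent.S1375
import Cfsg.Agent.Lib.Helper1.BG14.SigmaATIc
import Cfsg.Agent.Lib.Helper1.BG14b.ConjEquiv
import Cfsg.Agent.Lib.Helper1.BG15.SigmaDecomp
import Cfsg.Agent.Lib.Helper28.BGtD
import Cfsg.Agent.Lib.Helper11.MaxSubB

set_option autoImplicit false

/-! The conjugacy clause of B & G Lemma 14.4-type statements: for `x, y ∈ M_σ^#` with centralizers
outside `M`, two `G`-conjugate maximal subgroups over `C_G(x)`, `C_G(y)` are already `M`-conjugate. -/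

namespace Cfsg.Agent.Lib.Helper11.FusionNb

open Cfsg

variable {G : Type*} [Group G] [Finite G]

/-- `M ∩ N` complements `N_σ` in the maximal subgroup `N` over `C_G(x)` -/
theorem compl_of_cent (hG : Cfsg.IsMinSimpleOddOrder G) {M N : Subgroup G} (hM : IsCoatom M)
    {x : G} (hx : x ∈ Cfsg.sigmaCore M) (hx1 : x ≠ 1)
    (hxM : ¬ Subgroup.centralizer ({x} : Set G) ≤ M) (hN : IsCoatom N)
    (hxN : Subgroup.centralizer ({x} : Set G) ≤ N) :
    Cfsg.IsComplIn (M ⊓ N) (Cfsg.sigmaCore N) N := by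
  obtain ⟨N₀, -, huniq, -, -, -, hc, -⟩ := Cfsg.Agent.S1375.result hG M hM x hx hx1 hxM
  rw [huniq N hN hxN]
  exact hc

theorem coprime_compl (hG : Cfsg.IsMinSimpleOddOrder G) {N E : Subgroup G} (hN : IsCoatom N)
    (hE : Cfsg.IsComplIn E (Cfsg.sigmaCore N) N) :
    (Nat.card E).Coprime (Nat.card (Cfsg.sigmaCore N)) := by
  apply Nat.coprime_of_dvd
  intro q hq h1 h2
  exact Cfsg.Agent.Lib.Helper28.BGt.compl_prime_not_sigma hG hN hE hq h1
    (Cfsg.Agent.Lib.Helper28.BGt.prime_sigmaCore hG hN hq h2)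

theorem conj_in_M (hG : Cfsg.IsMinSimpleOddOrder G) {M N : Subgroup G} (hM : IsCoatom M)
    {x : G} (hx : x ∈ Cfsg.sigmaCore M) (hx1 : x ≠ 1)
    (hxM : ¬ Subgroup.centralizer ({x} : Set G) ≤ M) (hN : IsCoatom N)
    (hxN : Subgroup.centralizer ({x} : Set G) ≤ N) :
    ∀ (y : G) (N' : Subgroup G) (g : G), y ∈ Cfsg.sigmaCore M → y ≠ 1 →
      ¬ Subgroup.centralizer ({y} : Set G) ≤ M → IsCoatom N' →
      Subgroup.centralizer ({y} : Set G) ≤ N' → N'.map (MulAut.conj g).toMonoidHom = N →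
      ∃ m ∈ M, N'.map (MulAut.conj m).toMonoidHom = N := by
  intro y N' g hy hy1 hyM hN' hyN' hgN
  have hNs : Group.IsSolvable ↥N := Cfsg.Agent.Lib.Helper11.MaxSubB.coatom_solvable hG N hN
  have hc := compl_of_cent hG hM hx hx1 hxM hN hxN
  have hc' := compl_of_cent hG hM hy hy1 hyM hN' hyN'
  -- the conjugate complement
  have hσ : Cfsg.sigmaCore N = Helper18.conjSub g (Cfsg.sigmaCore N') := by
    rw [← Cfsg.Agent.Lib.Helper1.BG14b.sigmaCore_conjSub hG hN' g]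
    show _ = Cfsg.sigmaCore (N'.map (MulAut.conj g).toMonoidHom)
    rw [hgN]
  have hD'N : Helper18.conjSub g (M ⊓ N') ≤ N := by
    have := Helper18.conjSub_mono (g := g) (inf_le_right : M ⊓ N' ≤ N')
    exact this.trans (le_of_eq hgN)
  have hcardN : Nat.card N = Nat.card N' := by
    rw [← hgN]; exact Helper18.card_conjSub g N'
  have hcardσ : Nat.card (Cfsg.sigmaCore N) = Nat.card (Cfsg.sigmaCore N') := by
    rw [hσ]; exact Helper18.card_conjSub g _
  have hcard : Nat.card N =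
      Nat.card (Helper18.conjSub g (M ⊓ N')) * Nat.card (Cfsg.sigmaCore N) := by
    rw [Helper18.card_conjSub, hcardN, hcardσ]
    exact Cfsg.Agent.Lib.Helper1.BG15.card_of_isComplIn hc'
  have hcop' : (Nat.card (Helper18.conjSub g (M ⊓ N'))).Coprime
      (Nat.card (Cfsg.sigmaCore N)) := by
    rw [Helper18.card_conjSub, hcardσ]
    exact coprime_compl hG hN' hc'
  obtain ⟨n₀, hn₀, hconj⟩ := Cfsg.Agent.Lib.Helper1.BG14.hall_conj_into hNs hD'N
    (inf_le_right : M ⊓ N ≤ N) hcard hcop' (coprime_compl hG hN hc)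
  have hxMN : x ∈ M ⊓ N := by
    refine ⟨Cfsg.Agent.Lib.Helper28.BGt.sigmaCore_le M hx, hxN ?_⟩
    rw [Subgroup.mem_centralizer_iff]
    intro z hz
    rw [Set.mem_singleton_iff.mp hz]
  have h1 : n₀⁻¹ * x * n₀ ∈ Helper18.conjSub g M :=
    Helper18.conjSub_mono (inf_le_left : M ⊓ N' ≤ M) (hconj x hxMN)
  have h2 : x ∈ M.map (MulAut.conj (n₀ * g)).toMonoidHom := by
    show x ∈ Helper18.conjSub (n₀ * g) M
    rw [Helper18.mem_conjSub]
    rw [Helper18.mem_conjSub] at h1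
    have e : (n₀ * g)⁻¹ * x * (n₀ * g) = g⁻¹ * (n₀⁻¹ * x * n₀) * g := by group
    rw [e]; exact h1
  obtain ⟨-, R, -, hRc, hR⟩ := Cfsg.Agent.S1374.result hG M hM x hx hx1
  obtain ⟨r, ⟨hrR, hrM⟩, -⟩ := hR (n₀ * g) h2
  have hrN : r ∈ N := hxN (hRc.2.1 hrR)
  refine ⟨r⁻¹ * n₀ * g, ?_, ?_⟩
  · rw [← Cfsg.Agent.Lib.Helper1.BG14.normalizer_coatom hG hM]
    apply Helper18.mem_normalizer_of_conjSub_le
    apply le_of_eq
    have e : r⁻¹ * n₀ * g = r⁻¹ * (n₀ * g) := by group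
    rw [e, ← Helper18.conjSub_mul]
    show Helper18.conjSub r⁻¹ (M.map (MulAut.conj (n₀ * g)).toMonoidHom) = M
    rw [← hrM]
    show Helper18.conjSub r⁻¹ (Helper18.conjSub r M) = M
    rw [Helper18.conjSub_mul, inv_mul_cancel, Helper18.conjSub_one]
  · show Helper18.conjSub (r⁻¹ * n₀ * g) N' = N
    have e : r⁻¹ * n₀ * g = (r⁻¹ * n₀) * g := by group
    rw [e, ← Helper18.conjSub_mul]
    have : Helper18.conjSub g N' = N := hgN
    rw [this]
    apply Helper18.conjSub_eq_of_mem_normalizer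
    exact Subgroup.le_normalizer (N.mul_mem (N.inv_mem hrN) hn₀)

end Cfsg.Agent.Lib.Helper11.FusionNb
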