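import Mathlib
import Cfsg.Prelude.Def_ChevStructure
import Cfsg.Prelude.Def_ChevG2
import Cfsg.Agent.Lib.helper14.G2T.Basic
import Cfsg.Agent.Lib.helper14.G2T.Long
import Cfsg.Agent.Lib.helper8.ChevFix1
import Cfsg.Agent.S1032

/-!
# Project G2T (S2371), row B2: `hh c₀ c₁` conjugates root elements by the character `chi` (verbatim)
-/

set_option autoImplicit false

namespace Cfsg.Agent.Lib.helper14.G2T

open Cfsg.Lie Cfsg.Lie.ChevalleyDatum Cfsg.Agent.Lib.helper8 Matrix

universe u v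

section B

variable {E : Type u} [Field E]

theorem hh_conj (c0 c1 : E) (hc0 : c0 ≠ 0) (hc1 : c1 ≠ 0) (r : ℕ) (hr : r < 12) (t : E) :
    hh c0 c1 * chevG2.x E r t = chevG2.x E r (chi c0 c1 r * t) * hh c0 c1 := by
  have hD : chevG2 ∈ [chevG2, chevB2, chevD4, chevF4, chevE6, chevE7, chevE8] := by simp
  have hr' : r < chevG2.nroots := hr
  have hs0 : chevG2.simple 0 = 7 := by decide
  have hs1 : chevG2.simple 1 = 6 := by decide
  have h0 := fun t' : E => Cfsg.Agent.S1032.result (F := E) chevG2 hD 0 r (by decide) hr' c0 hc0 t'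
  have h1 := fun t' : E => Cfsg.Agent.S1032.result (F := E) chevG2 hD 1 r (by decide) hr' c1 hc1 t'
  rw [hs0] at h0
  rw [hs1] at h1
  unfold hh chi
  rw [Matrix.mul_assoc, h1 t, ← Matrix.mul_assoc, h0, Matrix.mul_assoc, mul_assoc]

end B

end Cfsg.Agent.Lib.helper14.G2T
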