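import Mathlib
import Cfsg.Prelude.Def_ChevStructure
import Cfsg.Prelude.Def_ChevG2
import Cfsg.Agent.Lib.helper14.G2T.Basic
import Cfsg.Agent.Lib.helper14.G2T.Long
import Cfsg.Agent.Lib.helper8.ChevFix1
import Cfsg.Agent.Lib.helper8.ChevBaseAll
import Cfsg.Agent.S1034

/-!
# Project G2T (S2371), row B3: the diagonal subgroup is `{hh c₀ c₁}` (verbatim)
-/

set_option autoImplicit false

namespace Cfsg.Agent.Lib.helper14.G2T

open Cfsg.Lie Cfsg.Lie.ChevalleyDatum Cfsg.Agent.Lib.helper8 Matrix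

universe u v

section B

variable {E : Type u} [Field E]

theorem T_form :
    (∀ g : GL chevG2.Idx E, g ∈ chevG2.diagonalSubgroup E →
      ∃ c0 c1 : E, c0 ≠ 0 ∧ c1 ≠ 0 ∧ (g : Matrix chevG2.Idx chevG2.Idx E) = hh c0 c1) ∧
    (∀ c0 c1 : E, c0 ≠ 0 → c1 ≠ 0 →
      ∃ g : GL chevG2.Idx E, g ∈ chevG2.diagonalSubgroup E ∧
        (g : Matrix chevG2.Idx chevG2.Idx E) = hh c0 c1) := by
  have hD : chevG2 ∈ [chevG2, chevB2, chevD4, chevF4, chevE6, chevE7, chevE8] := by simp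
  have hs0 : chevG2.simple 0 = 7 := by decide
  have hs1 : chevG2.simple 1 = 6 := by decide
  have hrk : chevG2.rank = 2 := by decide
  refine ⟨?_, ?_⟩
  · intro g hg
    obtain ⟨c, hc, hgc⟩ := Cfsg.Agent.S1034.result (F := E) chevG2 hD g hg
    refine ⟨c 0, c 1, hc 0 (by rw [hrk]; decide), hc 1 (by rw [hrk]; decide), ?_⟩
    rw [hgc, hrk]
    have hr2 : List.range 2 = [0, 1] := by decide
    rw [hr2, List.flatMap_cons, List.flatMap_cons, List.flatMap_nil, List.append_nil,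
      h8wordMat_append, hs0, hs1]
    rfl
  · intro c0 c1 hc0 hc1
    have hB := h8base_all.{u} chevG2 hD
    refine ⟨h8hU chevG2 hB 7 c0 * h8hU chevG2 hB 6 c1, ?_, ?_⟩
    · exact Subgroup.mul_mem _ (h8hU_mem_H chevG2 hB 7 (by decide) c0 hc0)
        (h8hU_mem_H chevG2 hB 6 (by decide) c1 hc1)
    · rw [Units.val_mul, h8hU_val, h8hU_val]
      rfl

end B

end Cfsg.Agent.Lib.helper14.G2T
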