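import Mathlib
import Cfsg.Prelude.Def_ChevStructure
import Cfsg.Prelude.Def_ChevG2
import Cfsg.Agent.Lib.helper14.G2T.Basic
import Cfsg.Agent.Lib.helper14.G2T.Long
import Cfsg.Agent.Lib.helper8.ChevFix1

/-!
# Project G2T (S2371), row D7: the arithmetic of the descent (verbatim, self-contained)
-/

set_option autoImplicit false

namespace Cfsg.Agent.Lib.helper14.G2T

open Cfsg.Lie Cfsg.Lie.ChevalleyDatum Cfsg.Agent.Lib.helper8 Matrix

universe u v

theorem g2td7_chi8 {E : Type v} [Field E] (c0 c1 : E) : chi c0 c1 8 = c0⁻¹ * c1 := by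
  have h0 : chevG2.cartan 0 8 = -1 := by decide
  have h1 : chevG2.cartan 1 8 = 1 := by decide
  rw [chi, h0, h1, _root_.zpow_neg_one, zpow_one]

theorem g2td7_chi7 {E : Type v} [Field E] (c0 c1 : E) : chi c0 c1 7 = c0 ^ 2 * c1⁻¹ := by
  have h0 : chevG2.cartan 0 7 = 2 := by decide
  have h1 : chevG2.cartan 1 7 = -1 := by decide
  rw [chi, h0, h1, _root_.zpow_neg_one, show (2 : ℤ) = ((2 : ℕ) : ℤ) from rfl, zpow_natCast]

theorem g2td7_chi2 {E : Type v} [Field E] (c0 c1 : E) : chi c0 c1 2 = c0⁻¹ := by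
  have h0 : chevG2.cartan 0 2 = -1 := by decide
  have h1 : chevG2.cartan 1 2 = 0 := by decide
  rw [chi, h0, h1, _root_.zpow_neg_one, zpow_zero, mul_one]

section D

variable {F : Type u} [Field F] [Fintype F] {E : Type v} [Field E] [Fintype E] [Algebra F E]

theorem mu_pow (lam : E) (hlam : orderOf lam = Fintype.card F ^ 2 + Fintype.card F + 1)
    (c0 c1 : E) (hc0 : c0 ≠ 0) (hc1 : c1 ≠ 0)
    (h1 : chi c0 c1 (wroot 1) = chi c0 c1 (wroot 0) ^ Fintype.card F)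
    (h2 : chi c0 c1 (wroot 2) = chi c0 c1 (wroot 0) ^ Fintype.card F ^ 2) :
    ∃ i : ℕ, c0 = (lam * lam ^ Fintype.card F) ^ i ∧ c1 = (lam ^ 2 * lam ^ Fintype.card F) ^ i := by
  set q := Fintype.card F with hq
  have hw0 : wroot 0 = 8 := rfl
  have hw1 : wroot 1 = 7 := rfl
  have hw2 : wroot 2 = 2 := rfl
  rw [hw0, hw1, g2td7_chi8, g2td7_chi7] at h1
  rw [hw0, hw2, g2td7_chi8, g2td7_chi2] at h2
  set μ : E := c0⁻¹ * c1 with hμ
  -- the product of the three values is one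
  have hprod : μ * μ ^ q * μ ^ q ^ 2 = 1 := by
    rw [← h1, ← h2, hμ]
    field_simp
  have hN : 0 < q ^ 2 + q + 1 := by positivity
  have hμN : μ ^ (q ^ 2 + q + 1) = 1 := by
    rw [← hprod]
    ring
  have hprim : IsPrimitiveRoot lam (q ^ 2 + q + 1) := by
    rw [← hlam]
    exact IsPrimitiveRoot.orderOf lam
  have hNZ : NeZero (q ^ 2 + q + 1) := ⟨hN.ne'⟩
  obtain ⟨i, -, hi⟩ := hprim.eq_pow_of_pow_eq_one hμN
  have hlam1 : lam * lam ^ q * lam ^ q ^ 2 = 1 := by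
    have : lam ^ (q ^ 2 + q + 1) = 1 := hprim.pow_eq_one
    rw [← this]
    ring
  have hlam0 : lam ≠ 0 := by
    intro h0
    rw [h0, zero_mul, zero_mul] at hlam1
    exact zero_ne_one hlam1
  -- `c0⁻¹ = μ ^ q ^ 2 = lam ^ (i * q ^ 2)`
  refine ⟨i, ?_, ?_⟩
  · have e1 : c0⁻¹ = (lam ^ q ^ 2) ^ i := by
      rw [h2, ← hi, ← pow_mul, ← pow_mul, mul_comm]
    have e2 : (lam * lam ^ q) ^ i * (lam ^ q ^ 2) ^ i = 1 := by
      rw [← mul_pow, hlam1, one_pow]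
    have e3 : c0 * c0⁻¹ = 1 := mul_inv_cancel₀ hc0
    rw [e1] at e3
    have hne : (lam ^ q ^ 2) ^ i ≠ 0 := pow_ne_zero _ (pow_ne_zero _ hlam0)
    exact mul_right_cancel₀ hne (e3.trans e2.symm)
  · have e1 : c0⁻¹ = (lam ^ q ^ 2) ^ i := by
      rw [h2, ← hi, ← pow_mul, ← pow_mul, mul_comm]
    have e2 : (lam * lam ^ q) ^ i * (lam ^ q ^ 2) ^ i = 1 := by
      rw [← mul_pow, hlam1, one_pow]
    have e3 : c0 * c0⁻¹ = 1 := mul_inv_cancel₀ hc0
    rw [e1] at e3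
    have hne : (lam ^ q ^ 2) ^ i ≠ 0 := pow_ne_zero _ (pow_ne_zero _ hlam0)
    have hc0' : c0 = (lam * lam ^ q) ^ i := mul_right_cancel₀ hne (e3.trans e2.symm)
    -- `c1 = c0 * μ`
    have e4 : c1 = c0 * μ := by
      rw [hμ, ← mul_assoc, mul_inv_cancel₀ hc0, one_mul]
    rw [e4, hc0', ← hi, ← mul_pow]
    congr 1
    ring

end D

end Cfsg.Agent.Lib.helper14.G2T
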