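import Mathlib
import Cfsg.Prelude.Def_ChevStructure
import Cfsg.Prelude.Def_ChevG2
import Cfsg.Agent.Lib.helper14.G2T.Basic
import Cfsg.Agent.Lib.helper14.G2T.Long
import Cfsg.Agent.Lib.helper8.ChevFix1
import Cfsg.Agent.Lib.Helper11.G2TD7

/-!
# Project G2T (S2371), row B4 (chi_basic): SECOND COPY under an own name
(`g2tb4_h11_chi_basic` = the exact Skel statement).
-/

set_option autoImplicit false

namespace Cfsg.Agent.Lib.helper14.G2T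

open Cfsg.Lie Cfsg.Lie.ChevalleyDatum Cfsg.Agent.Lib.helper8 Matrix

universe u v

section B

variable {E : Type u} [Field E]

theorem g2tb4_h11_chi_basic (c0 c1 : E) (hc0 : c0 ≠ 0) (hc1 : c1 ≠ 0) :
    (∀ (i : ℕ) (r : ℕ), chi (c0 ^ i) (c1 ^ i) r = chi c0 c1 r ^ i) ∧
    chi c0 c1 8 * chi c0 c1 7 * chi c0 c1 2 = 1 ∧
    c0 = (chi c0 c1 2)⁻¹ ∧ c1 = chi c0 c1 8 * (chi c0 c1 2)⁻¹ ∧
    (∀ r : ℕ, chi c0 c1 r ≠ 0) := by
  refine ⟨?_, ?_, ?_, ?_, ?_⟩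
  · intro i r
    unfold chi
    rw [mul_pow, ← zpow_natCast (c0 ^ chevG2.cartan 0 r), ← zpow_natCast (c1 ^ chevG2.cartan 1 r),
      ← _root_.zpow_mul, ← _root_.zpow_mul, ← zpow_natCast c0, ← zpow_natCast c1, ← _root_.zpow_mul, ← _root_.zpow_mul,
      mul_comm (i : ℤ), mul_comm (i : ℤ)]
  · rw [g2td7_chi8, g2td7_chi7, g2td7_chi2]
    field_simp
  · rw [g2td7_chi2, inv_inv]
  · rw [g2td7_chi8, g2td7_chi2, inv_inv, mul_comm, ← mul_assoc, mul_inv_cancel₀ hc0, one_mul]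
  · intro r
    unfold chi
    exact mul_ne_zero (zpow_ne_zero _ hc0) (zpow_ne_zero _ hc1)

end B

end Cfsg.Agent.Lib.helper14.G2T
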