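import Mathlib
import Cfsg.Prelude.Def_ChevStructure
import Cfsg.Prelude.Def_ChevG2
import Cfsg.Agent.Lib.helper14.G2T.Basic
import Cfsg.Agent.Lib.helper14.G2T.Long
import Cfsg.Agent.Lib.helper8.ChevFix1
import Cfsg.Agent.Lib.helper14.G2TA8

/-!
# Project G2T (S2371), row D4 (block_extract): core on the statement of B1 (hh_diag); cites the landed A8 (Phi_W)
-/

set_option autoImplicit false

namespace Cfsg.Agent.Lib.helper14.G2T

open Cfsg.Lie Cfsg.Lie.ChevalleyDatum Cfsg.Agent.Lib.helper8 Matrix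

universe u v

theorem g2td4_wI_injective : Function.Injective wI := by
  decide

theorem g2td4_wI_eq (i : Fin 3) : ∃ h : wroot i < chevG2.nroots, wI i = Sum.inr ⟨wroot i, h⟩ := by
  fin_cases i
  · exact ⟨by decide, rfl⟩
  · exact ⟨by decide, rfl⟩
  · exact ⟨by decide, rfl⟩

/-- a sum over the 14 coordinates of a function supported on `W`. -/
theorem g2td4_sum {E : Type v} [Field E] (f : chevG2.Idx → E)
    (hf : ∀ x : chevG2.Idx, (∀ i : Fin 3, x ≠ wI i) → f x = 0) :
    ∑ x, f x = ∑ k : Fin 3, f (wI k) := by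
  classical
  rw [← Finset.sum_image (s := Finset.univ) (g := wI) (f := f)
    (fun a _ b _ hab => g2td4_wI_injective hab)]
  symm
  apply Finset.sum_subset (Finset.subset_univ _)
  intro x _ hx
  apply hf
  intro i hxi
  apply hx
  rw [hxi]
  exact Finset.mem_image_of_mem _ (Finset.mem_univ i)

section D

variable {E : Type v} [Field E]

theorem g2td4_core (M : Matrix chevG2.Idx chevG2.Idx E) (P : Matrix (Fin 3) (Fin 3) E) (c0 c1 : E)
    (hB1 : hh c0 c1 =
      Matrix.diagonal (Sum.elim (fun _ => (1 : E)) (fun s : Fin chevG2.nroots => chi c0 c1 s.val)))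
    (h : Phi P * M = hh c0 c1 * Phi P) :
    P * gW M = Matrix.diagonal (fun k => chi c0 c1 (wroot k)) * P := by
  obtain ⟨hW1, -, hW3⟩ := Phi_W P
  ext i j
  have hij := congrFun (congrFun h (wI i)) (wI j)
  rw [Matrix.mul_apply, hB1, Matrix.diagonal_mul] at hij
  rw [g2td4_sum (fun x => Phi P (wI i) x * M x (wI j))
    (fun x hx => by rw [hW3 x i hx, zero_mul])] at hij
  rw [Matrix.mul_apply, Matrix.diagonal_mul]
  obtain ⟨hlt, hwi⟩ := g2td4_wI_eq i
  have e1 : ∑ k : Fin 3, P i k * gW M k j = ∑ k : Fin 3, Phi P (wI i) (wI k) * M (wI k) (wI j) := by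
    apply Finset.sum_congr rfl
    intro k _
    rw [hW1 i k]
    rfl
  rw [e1, hij, hW1 i j, hwi]
  rfl

end D

end Cfsg.Agent.Lib.helper14.G2T
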