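import Mathlib
import Cfsg.Prelude.Def_ChevStructure
import Cfsg.Prelude.Def_ChevG2
import Cfsg.Agent.Lib.helper14.G2T.Basic
import Cfsg.Agent.Lib.helper14.G2T.Long
import Cfsg.Agent.Lib.helper8.ChevFix1
import Cfsg.Agent.Lib.Helper11.G2TD4core
import Cfsg.Agent.S1033

/-!
# Project G2T (S2371), row D4 (block_extract), verbatim.

`g2td4_hh_diag` is an own-name copy of the statement of row B1 (`hh_diag`), so that this row does not
wait for B1.
-/

set_option autoImplicit false

namespace Cfsg.Agent.Lib.helper14.G2T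

open Cfsg.Lie Cfsg.Lie.ChevalleyDatum Cfsg.Agent.Lib.helper8 Matrix

universe u v

theorem g2td4_hh_diag {E : Type v} [Field E] (c0 c1 : E) (hc0 : c0 ≠ 0) (hc1 : c1 ≠ 0) :
    hh c0 c1 = Matrix.diagonal (Sum.elim (fun _ => (1 : E)) (fun s : Fin chevG2.nroots => chi c0 c1 s.val)) := by
  have hD : chevG2 ∈ [chevG2, chevB2, chevD4, chevF4, chevE6, chevE7, chevE8] := by simp
  have hs0 : chevG2.simple 0 = 7 := by decide
  have hs1 : chevG2.simple 1 = 6 := by decide
  have h0 := Cfsg.Agent.S1033.result (F := E) chevG2 hD 0 (by decide) c0 hc0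
  have h1 := Cfsg.Agent.S1033.result (F := E) chevG2 hD 1 (by decide) c1 hc1
  rw [hs0] at h0
  rw [hs1] at h1
  unfold hh
  rw [h0, h1, Matrix.diagonal_mul_diagonal]
  congr 1
  funext x
  rcases x with i | s
  · simp
  · simp [chi]

section D

variable {F : Type u} [Field F] [Fintype F] {E : Type v} [Field E] [Fintype E] [Algebra F E]

theorem block_extract (M : Matrix chevG2.Idx chevG2.Idx E) (P : Matrix (Fin 3) (Fin 3) E) (c0 c1 : E)
    (hc0 : c0 ≠ 0) (hc1 : c1 ≠ 0) (h : Phi P * M = hh c0 c1 * Phi P) :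
    P * gW M = Matrix.diagonal (fun k => chi c0 c1 (wroot k)) * P :=
  g2td4_core M P c0 c1 (g2td4_hh_diag c0 c1 hc0 hc1) h

end D

end Cfsg.Agent.Lib.helper14.G2T
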