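import Mathlib
import Cfsg.Prelude.Def_ChevStructure
import Cfsg.Prelude.Def_ChevG2
import Cfsg.Agent.Lib.helper14.G2T.Basic
import Cfsg.Agent.Lib.helper14.G2T.Long
import Cfsg.Agent.Lib.helper8.ChevFix1
import Cfsg.Agent.Lib.helper8.ChevBaseAll

/-!
# Project G2T (S2371), row D6 (cent_in_T): core on the statements of A7, B2, B7, C6, D5
-/

set_option autoImplicit false

namespace Cfsg.Agent.Lib.helper14.G2T

open Cfsg.Lie Cfsg.Lie.ChevalleyDatum Cfsg.Agent.Lib.helper8 Matrix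

universe u v

theorem g2td6_chi_ne_zero {E : Type v} [Field E] (c0 c1 : E) (hc0 : c0 ≠ 0) (hc1 : c1 ≠ 0) (r : ℕ) :
    chi c0 c1 r ≠ 0 := by
  unfold chi
  exact mul_ne_zero (zpow_ne_zero _ hc0) (zpow_ne_zero _ hc1)

section D

variable {F : Type u} [Field F] [Fintype F] {E : Type v} [Field E] [Fintype E] [Algebra F E]

theorem g2td6_core
    (hA7 : ∀ A : Matrix.SpecialLinearGroup (Fin 3) E, PhiGL A ∈ chevG2.group E)
    (hB2 : ∀ (c0 c1 : E), c0 ≠ 0 → c1 ≠ 0 → ∀ (r : ℕ), r < 12 → ∀ t : E,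
      hh c0 c1 * chevG2.x E r t = chevG2.x E r (chi c0 c1 r * t) * hh c0 c1)
    (hB7 : ∀ (h : GL chevG2.Idx E), h ∈ chevG2.diagonalSubgroup E → ∀ (χ : ℕ → E),
      (∀ r < 12, ∀ t : E, (h : Matrix chevG2.Idx chevG2.Idx E) * chevG2.x E r t =
        chevG2.x E r (χ r * t) * (h : Matrix chevG2.Idx chevG2.Idx E)) →
      (∀ r < 12, χ r ≠ 0) → (∀ r < 12, χ r ≠ 1) →
      (∀ r < 12, ∀ r' < 12, χ r = χ r' → r = r') →
      ∀ (g : GL chevG2.Idx E), g ∈ chevG2.group E → h * g = g * h →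
        g ∈ chevG2.diagonalSubgroup E)
    (hC6 : ∀ (q : ℕ), 3 ≤ q → ∀ (lam : E), orderOf lam = q ^ 2 + q + 1 →
      (∀ r < 12, chi (lam * lam ^ q) (lam ^ 2 * lam ^ q) r ≠ 1) ∧
      (∀ r < 12, ∀ r' < 12, chi (lam * lam ^ q) (lam ^ 2 * lam ^ q) r =
        chi (lam * lam ^ q) (lam ^ 2 * lam ^ q) r' → r = r'))
    (hq : 3 ≤ Fintype.card F) (lam : E)
    (hlam : orderOf lam = Fintype.card F ^ 2 + Fintype.card F + 1)
    (P : Matrix.SpecialLinearGroup (Fin 3) E)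
    (σ : GL chevG2.Idx F)
    (hD5 : ∃ T₀ : GL chevG2.Idx E, T₀ ∈ chevG2.diagonalSubgroup E ∧
      (T₀ : Matrix chevG2.Idx chevG2.Idx E) =
        hh (lam * lam ^ Fintype.card F) (lam ^ 2 * lam ^ Fintype.card F) ∧
      PhiGL P * h8Psi chevG2 (algebraMap F E) σ * (PhiGL P)⁻¹ = T₀)
    (g : GL chevG2.Idx F) (hg : g ∈ chevG2.group F) (hcomm : g * σ = σ * g) :
    PhiGL P * h8Psi chevG2 (algebraMap F E) g * (PhiGL P)⁻¹ ∈ chevG2.diagonalSubgroup E := by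
  obtain ⟨T₀, hT₀, hT₀m, hconj⟩ := hD5
  set q := Fintype.card F with hqdef
  have hlam0 : lam ≠ 0 := by
    intro h0
    have h1 : lam ^ orderOf lam = 1 := pow_orderOf_eq_one lam
    rw [hlam, h0, zero_pow (by positivity)] at h1
    exact zero_ne_one h1
  have hc0 : lam * lam ^ q ≠ 0 := mul_ne_zero hlam0 (pow_ne_zero _ hlam0)
  have hc1 : lam ^ 2 * lam ^ q ≠ 0 := mul_ne_zero (pow_ne_zero _ hlam0) (pow_ne_zero _ hlam0)
  obtain ⟨hχ1, hinj⟩ := hC6 q hq lam hlam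
  have hD : chevG2 ∈ [chevG2, chevB2, chevD4, chevF4, chevE6, chevE7, chevE8] := by simp
  have hΨg : h8Psi chevG2 (algebraMap F E) g ∈ chevG2.group E :=
    h8Psi_group_le chevG2 (h8base_all.{u} chevG2 hD) (h8base_all.{v} chevG2 hD) (algebraMap F E)
      (Subgroup.mem_map_of_mem _ hg)
  have hx : PhiGL P ∈ chevG2.group E := hA7 P
  refine hB7 T₀ hT₀ (chi (lam * lam ^ q) (lam ^ 2 * lam ^ q)) ?_ ?_ hχ1 hinj _ ?_ ?_
  · intro r hr t
    rw [hT₀m]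
    exact hB2 _ _ hc0 hc1 r hr t
  · intro r _
    exact g2td6_chi_ne_zero _ _ hc0 hc1 r
  · exact Subgroup.mul_mem _ (Subgroup.mul_mem _ hx hΨg) (Subgroup.inv_mem _ hx)
  · rw [← hconj]
    have hc : h8Psi chevG2 (algebraMap F E) g * h8Psi chevG2 (algebraMap F E) σ =
        h8Psi chevG2 (algebraMap F E) σ * h8Psi chevG2 (algebraMap F E) g := by
      rw [← map_mul, ← map_mul, hcomm]
    have e1 : PhiGL P * h8Psi chevG2 (algebraMap F E) σ * (PhiGL P)⁻¹ *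
        (PhiGL P * h8Psi chevG2 (algebraMap F E) g * (PhiGL P)⁻¹) =
        PhiGL P * (h8Psi chevG2 (algebraMap F E) σ * h8Psi chevG2 (algebraMap F E) g) *
          (PhiGL P)⁻¹ := by group
    have e2 : PhiGL P * h8Psi chevG2 (algebraMap F E) g * (PhiGL P)⁻¹ *
        (PhiGL P * h8Psi chevG2 (algebraMap F E) σ * (PhiGL P)⁻¹) =
        PhiGL P * (h8Psi chevG2 (algebraMap F E) g * h8Psi chevG2 (algebraMap F E) σ) *
          (PhiGL P)⁻¹ := by group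
    rw [e1, e2, hc]

end D

end Cfsg.Agent.Lib.helper14.G2T
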