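import Mathlib
import Cfsg.Prelude.Def_ChevStructure
import Cfsg.Prelude.Def_ChevG2
import Cfsg.Agent.Lib.helper14.G2T.Basic
import Cfsg.Agent.Lib.helper14.G2T.Long
import Cfsg.Agent.Lib.helper8.ChevFix1
import Cfsg.Agent.Lib.Helper11.G2TD6core
import Cfsg.Agent.Lib.Helper11.G2TB2
import Cfsg.Agent.Lib.helper14.G2TA8
import Cfsg.Agent.Lib.Helper26.G2TB7
import Cfsg.Agent.Lib.Helper16.G2TC6
import Cfsg.Agent.Lib.Helper26.G2TD5

/-!
# Project G2T (S2371), row D6 (cent_in_T), verbatim statement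
-/

set_option autoImplicit false

namespace Cfsg.Agent.Lib.helper14.G2T

open Cfsg.Lie Cfsg.Lie.ChevalleyDatum Cfsg.Agent.Lib.helper8 Matrix

universe u v

section D

variable {F : Type u} [Field F] [Fintype F] {E : Type v} [Field E] [Fintype E] [Algebra F E]

theorem cent_in_T (hq : 3 ≤ Fintype.card F) (lam : E)
    (hlam : orderOf lam = Fintype.card F ^ 2 + Fintype.card F + 1)
    (s : Matrix.SpecialLinearGroup (Fin 3) F) (P : Matrix.SpecialLinearGroup (Fin 3) E)
    (hPs : (P : Matrix (Fin 3) (Fin 3) E) * (s : Matrix (Fin 3) (Fin 3) F).map (algebraMap F E) =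
      Matrix.diagonal (lamD lam (Fintype.card F)) * (P : Matrix (Fin 3) (Fin 3) E))
    (σ : GL chevG2.Idx F)
    (hσ : h8Psi chevG2 (algebraMap F E) σ =
      PhiGL (Matrix.SpecialLinearGroup.map (algebraMap F E) s))
    (g : GL chevG2.Idx F) (hg : g ∈ chevG2.group F) (hcomm : g * σ = σ * g) :
    PhiGL P * h8Psi chevG2 (algebraMap F E) g * (PhiGL P)⁻¹ ∈ chevG2.diagonalSubgroup E :=
  g2td6_core (fun A => PhiGL_mem A) (fun c0 c1 h0 h1 r hr t => hh_conj c0 c1 h0 h1 r hr t)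
    (fun h hh' χ hact h0 h1 hinj g hg hc => cent_regular h hh' χ hact h0 h1 hinj g hg hc)
    (fun q hq lam hlam => chi_regular q hq lam hlam)
    hq lam hlam P σ (sigma_conj lam hlam s P hPs σ hσ) g hg hcomm

end D

end Cfsg.Agent.Lib.helper14.G2T
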