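import Mathlib
import Cfsg.Agent.Lib.Helper19.G2V.Defs
import Cfsg.Agent.Lib.Helper11.G2TB3
import Cfsg.Agent.Lib.Helper5.G2TB1
import Cfsg.Agent.S1047

/-!
Project G2V (S2461, designer helper19), row E4A `X0_not_mem_Pp` (verbatim): every element of `Pp` has
column `e_ρ` vanishing off the diagonal (S1047 generators; `T_form`, `hh_diag` for the torus), `X 0 1` has
the entry `-1` at `(e_{-ρ}, e_ρ)`.
-/

set_option autoImplicit false

namespace Cfsg.Agent.Lib.Helper19.G2V

open Cfsg.Lie Cfsg.Lie.ChevalleyDatum Matrix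
open Cfsg.Agent.Lib.helper8
open Cfsg.Agent.Lib.helper23.P4V

universe u

variable {F : Type u} [Field F]

theorem g2ve4a_chain : ∀ r : Fin 12, r.val ∈ [4, 6, 7, 8, 9, 10] → ∀ u : Fin 12,
    chevG2.chainCoeff r.val 11 u.val = [] := by
  decide

theorem g2ve4a_neg : ∀ r : Fin 12, r.val ∈ [4, 6, 7, 8, 9, 10] → chevG2.negIdx.getD r.val 0 ≠ 11 := by
  decide

theorem g2ve4a_x_col (r : ℕ) (hr : r ∈ [4, 6, 7, 8, 9, 10, 11]) (t : F) (i : chevG2.Idx)
    (hi : i ≠ eI 11) : chevG2.x F r t i (eI 11) = 0 := by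
  have hr12 : r < chevG2.nroots := by
    have : chevG2.nroots = 12 := by decide
    rw [this]
    simp only [List.mem_cons, List.not_mem_nil, or_false] at hr
    omega
  unfold ChevalleyDatum.x
  rw [dif_pos hr12]
  unfold ChevalleyDatum.xMat eI
  rw [Matrix.of_apply]
  by_cases h11 : r = 11
  · subst h11
    have e : ((⟨11, by decide⟩ : Fin chevG2.nroots) = ⟨11, hr12⟩) := rfl
    simp only [e, if_true]
    rcases i with i | u
    · rfl
    · have hu : u ≠ ⟨11, hr12⟩ := by
        intro h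
        apply hi
        rw [h]
        rfl
      simp only [if_neg hu]
  · have hr' : r ∈ [4, 6, 7, 8, 9, 10] := by
      simp only [List.mem_cons, List.not_mem_nil, or_false] at hr ⊢
      omega
    have hne : (⟨11, by decide⟩ : Fin chevG2.nroots) ≠ ⟨r, hr12⟩ := by
      intro h
      apply h11
      exact (Fin.mk.inj_iff.1 h).symm
    have hneg := g2ve4a_neg ⟨r, hr12⟩ hr'
    simp only [if_neg hne]
    have hneg' : ¬ ((⟨11, by decide⟩ : Fin chevG2.nroots).val = chevG2.negIdx.getD (⟨r, hr12⟩ : Fin chevG2.nroots).val 0) := by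
      intro h
      exact hneg h.symm
    simp only [if_neg hneg']
    rcases i with i | u
    · rfl
    · have hu : u ≠ ⟨11, by decide⟩ := by
        intro h
        apply hi
        rw [h]
        rfl
      simp only [if_neg hu, zero_add]
      have := g2ve4a_chain ⟨r, hr12⟩ hr' u
      simp only at this
      rw [this]
      rfl


variable (F) in
/-- the matrices whose column `e_ρ` vanishes off the diagonal -/
def g2ve4a_T : Subgroup (GG F) where
  carrier := {g | ∀ i, i ≠ eI 11 → (g : Matrix chevG2.Idx chevG2.Idx F) i (eI 11) = 0}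
  one_mem' := by
    intro i hi
    rw [Units.val_one, Matrix.one_apply_ne hi]
  mul_mem' := by
    intro g h hg hh i hi
    rw [Units.val_mul, Matrix.mul_apply]
    apply Finset.sum_eq_zero
    intro k _
    by_cases hk : k = eI 11
    · rw [hk, hg i hi, zero_mul]
    · rw [hh k hk, mul_zero]
  inv_mem' := by
    intro g hg
    have h1 : ((g⁻¹ : GG F) : Matrix chevG2.Idx chevG2.Idx F) *
        (g : Matrix chevG2.Idx chevG2.Idx F) = 1 := by
      rw [← Units.val_mul, inv_mul_cancel, Units.val_one]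
    have hcol : ∀ i, (((g⁻¹ : GG F) : Matrix chevG2.Idx chevG2.Idx F) *
        (g : Matrix chevG2.Idx chevG2.Idx F)) i (eI 11) =
        ((g⁻¹ : GG F) : Matrix chevG2.Idx chevG2.Idx F) i (eI 11) *
          (g : Matrix chevG2.Idx chevG2.Idx F) (eI 11) (eI 11) := by
      intro i
      rw [Matrix.mul_apply]
      apply Finset.sum_eq_single (eI 11)
      · intro k _ hk
        rw [hg k hk, mul_zero]
      · intro h
        exact absurd (Finset.mem_univ _) h
    have hee : (g : Matrix chevG2.Idx chevG2.Idx F) (eI 11) (eI 11) ≠ 0 := by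
      intro h0
      have := hcol (eI 11)
      rw [h1, Matrix.one_apply_eq, h0, mul_zero] at this
      exact one_ne_zero this
    intro i hi
    have := hcol i
    rw [h1, Matrix.one_apply_ne hi] at this
    exact (mul_eq_zero.1 this.symm).resolve_right hee

theorem g2ve4a_roots (r : ℕ) (hr : chevG2.IsPosRoot r ∨ chevG2.InRootSub ({0} : Set ℕ) r) :
    r ∈ [4, 6, 7, 8, 9, 10, 11] := by
  have hn : chevG2.nroots = 12 := by decide
  have hrk : chevG2.rank = 2 := by decide
  have hr12 : r < 12 := by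
    rcases hr with h | h
    · have := h.1
      rwa [hn] at this
    · have := h.1
      rwa [hn] at this
  have h1 : ∀ s : ℕ, s ∈ [0, 1, 2, 3, 5] → ¬ chevG2.IsPosRoot s := by decide
  have h2 : ∀ s : ℕ, s ∈ [0, 1, 2, 3, 5] → (chevG2.coroot.getD s #[]).getD 1 0 ≠ 0 := by decide
  by_contra hcon
  have hbad : r ∈ [0, 1, 2, 3, 5] := by
    simp only [List.mem_cons, List.not_mem_nil, or_false] at hcon ⊢
    omega
  rcases hr with h | h
  · exact h1 r hbad h
  · apply h2 r hbad
    apply h.2 1 (by rw [hrk]; norm_num)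
    simp

theorem g2ve4a_Pp_le : Pp F ≤ g2ve4a_T F := by
  unfold Pp
  rw [Cfsg.Agent.S1047.result (F := F) chevG2 (by simp) ({0} : Set ℕ)]
  apply sup_le
  · intro g hg
    obtain ⟨c0, c1, hc0, hc1, e⟩ := (Cfsg.Agent.Lib.helper14.G2T.T_form (E := F)).1 g hg
    intro i hi
    rw [e, Cfsg.Agent.Lib.helper14.G2T.hh_diag c0 c1 hc0 hc1, Matrix.diagonal_apply_ne _ hi]
  · rw [Subgroup.closure_le]
    rintro g ⟨r, t, hr, hg⟩
    intro i hi
    rw [hg]
    exact g2ve4a_x_col r (g2ve4a_roots r hr) t i hi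

theorem g2ve4a_X0_entry : ((X 0 1 : GG F) : Matrix chevG2.Idx chevG2.Idx F) (eI 0) (eI 11) = -1 := by
  have hr12 : 0 < chevG2.nroots := by decide
  show chevG2.x F 0 1 (eI 0) (eI 11) = -1
  unfold ChevalleyDatum.x
  rw [dif_pos hr12]
  unfold ChevalleyDatum.xMat eI
  rw [Matrix.of_apply]
  have hne : (⟨11, by decide⟩ : Fin chevG2.nroots) ≠ ⟨0, hr12⟩ := by
    intro h
    exact absurd (Fin.mk.inj_iff.1 h) (by decide)
  have hneg : (⟨11, by decide⟩ : Fin chevG2.nroots).val =
      chevG2.negIdx.getD (⟨0, hr12⟩ : Fin chevG2.nroots).val 0 := by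
    show 11 = chevG2.negIdx.getD 0 0
    decide
  have hne2 : (⟨0, by decide⟩ : Fin chevG2.nroots) ≠ ⟨11, by decide⟩ := by decide
  simp only [if_neg hne, if_pos hneg, if_neg hne2]
  norm_num

/-- **E4A** [M].  Every `p ∈ Pp` fixes the line of `e_ρ`: column `eI 11` of `p.val` vanishes off the diagonal
(closure induction over S1047's generators of `Pp`: `H` (diagonal) and `x_r(t)`, `r ∈ {6,…,11} ∪ {4}`;
`x_r(t) e_ρ = e_ρ` since `ρ + r` is no root); but `(X 0 1).val (eI 0) (eI 11) = -1`. -/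
theorem X0_not_mem_Pp : (X 0 1 : GG F) ∉ Pp F := by
  intro h
  have h1 := g2ve4a_Pp_le h (eI 0) (by decide)
  rw [g2ve4a_X0_entry] at h1
  exact one_ne_zero (neg_eq_zero.1 h1)

end Cfsg.Agent.Lib.Helper19.G2V
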