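import Mathlib
import Cfsg.Agent.Lib.Helper19.G2V.Defs

/-!
Project G2V (S2461, designer helper19), row EX `exists_good'` (verbatim): more than five elements by
counting the roots of a polynomial of degree five, the fields with 3, 4, 5 elements by hand.
-/

set_option autoImplicit false

namespace Cfsg.Agent.Lib.Helper19.G2V

open Cfsg.Lie Cfsg.Lie.ChevalleyDatum Matrix
open Cfsg.Agent.Lib.helper8
open Cfsg.Agent.Lib.helper23.P4V

universe u

variable {F : Type u} [Field F]

/-- the general case: more than five elements -/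
theorem g2vex_big [Fintype F] (h6 : 6 ≤ Fintype.card F) :
    ∃ τ ν : F, Good τ ν ∧ ν ^ 2 + ν - τ ^ 3 + 3 * τ * ν ≠ 0 := by
  classical
  have hni : ¬ Function.Injective (fun t : F => t - t ^ 2) := by
    intro hinj
    have h01 : (0 : F) = 1 := hinj (by simp)
    exact zero_ne_one h01
  have hns : ¬ Function.Surjective (fun t : F => t - t ^ 2) := fun hs =>
    hni (Finite.injective_iff_surjective.mpr hs)
  obtain ⟨ν₀, hν₀⟩ : ∃ ν₀ : F, ∀ t : F, t - t ^ 2 ≠ ν₀ := by
    by_contra hcon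
    push Not at hcon
    exact hns hcon
  have hν0 : ν₀ ≠ 0 := by
    intro h
    apply hν₀ 0
    rw [h]
    ring
  let f : Polynomial F := Polynomial.X * (Polynomial.C ν₀ * Polynomial.X ^ 2 - 1) *
    (Polynomial.C (ν₀ ^ 2) * Polynomial.X ^ 2 + Polynomial.C (3 * ν₀ - 1) * Polynomial.X +
      Polynomial.C ν₀)
  have hf1 : (Polynomial.C ν₀ * Polynomial.X ^ 2 - 1 : Polynomial F) ≠ 0 := by
    intro h
    have := congrArg (fun g : Polynomial F => g.coeff 0) h
    simp at this
  have hf2 : (Polynomial.C (ν₀ ^ 2) * Polynomial.X ^ 2 + Polynomial.C (3 * ν₀ - 1) * Polynomial.X +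
      Polynomial.C ν₀ : Polynomial F) ≠ 0 := by
    intro h
    have := congrArg (fun g : Polynomial F => g.coeff 0) h
    simp at this
    exact hν0 this
  have hf : f ≠ 0 := mul_ne_zero (mul_ne_zero Polynomial.X_ne_zero hf1) hf2
  have hdeg : f.natDegree ≤ 5 := by
    show (Polynomial.X * (Polynomial.C ν₀ * Polynomial.X ^ 2 - 1) *
      (Polynomial.C (ν₀ ^ 2) * Polynomial.X ^ 2 + Polynomial.C (3 * ν₀ - 1) * Polynomial.X +
        Polynomial.C ν₀) : Polynomial F).natDegree ≤ 5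
    compute_degree
  have hcard : (f.natDegree : Cardinal) < Cardinal.mk F := by
    rw [Cardinal.mk_fintype]
    exact_mod_cast lt_of_le_of_lt hdeg (by omega)
  obtain ⟨τ, hτ⟩ := Polynomial.exists_eval_ne_zero_of_natDegree_lt_card f hf hcard
  have hev : Polynomial.eval τ f = τ * (ν₀ * τ ^ 2 - 1) *
      (ν₀ ^ 2 * τ ^ 2 + (3 * ν₀ - 1) * τ + ν₀) := by
    simp [f]
  rw [hev] at hτ
  have hτ0 : τ ≠ 0 := by
    intro h
    apply hτ
    rw [h]
    ring
  have hτ1 : ν₀ * τ ^ 2 - 1 ≠ 0 := by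
    intro h
    apply hτ
    rw [h]
    ring
  have hτ2 : ν₀ ^ 2 * τ ^ 2 + (3 * ν₀ - 1) * τ + ν₀ ≠ 0 := by
    intro h
    apply hτ
    rw [h]
    ring
  refine ⟨τ, τ ^ 2 * ν₀, ⟨hτ0, ?_, ?_⟩, ?_⟩
  · intro h
    apply hτ1
    linear_combination h
  · intro t ht
    apply hν₀ (t / τ)
    field_simp
    linear_combination -ht
  · intro h
    have h2 : τ ^ 2 * (ν₀ ^ 2 * τ ^ 2 + (3 * ν₀ - 1) * τ + ν₀) = 0 := by
      linear_combination h
    rcases mul_eq_zero.1 h2 with h3 | h3
    · exact hτ0 (pow_eq_zero_iff (two_ne_zero)|>.1 h3)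
    · exact hτ2 h3

/-- prime fields: transfer from `ZMod p` -/
theorem g2vex_prime [Fintype F] (p : ℕ) (hp : p.Prime) (hc : Fintype.card F = p)
    (key : ∀ s : ZMod p, s ^ 2 - 1 * s + 2 ≠ 0) (k1 : (2 : ZMod p) ≠ 1)
    (k2 : ((2 : ZMod p) ^ 2 + 2 - 1 ^ 3 + 3 * 1 * 2) ≠ 0) :
    ∃ τ ν : F, Good τ ν ∧ ν ^ 2 + ν - τ ^ 3 + 3 * τ * ν ≠ 0 := by
  have e : ZMod p ≃+* F := ZMod.ringEquivOfPrime F hp hc
  refine ⟨1, 2, ⟨one_ne_zero, ?_, ?_⟩, ?_⟩
  · intro h
    apply k1
    apply e.injective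
    rw [map_ofNat, map_one]
    exact h
  · intro t ht
    apply key (e.symm t)
    apply e.injective
    rw [map_add, map_sub, map_mul, map_pow, map_one, map_ofNat, map_zero, e.apply_symm_apply]
    exact ht
  · intro h
    apply k2
    apply e.injective
    rw [map_add, map_sub, map_add, map_mul, map_mul, map_pow, map_pow, map_one, map_ofNat,
      map_ofNat, map_zero]
    exact h

/-- the field with four elements -/
theorem g2vex_four [Fintype F] (hc : Fintype.card F = 4) :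
    ∃ τ ν : F, Good τ ν ∧ ν ^ 2 + ν - τ ^ 3 + 3 * τ * ν ≠ 0 := by
  classical
  have h4 : (4 : F) = 0 := by
    have := Nat.cast_card_eq_zero F
    rw [hc] at this
    exact_mod_cast this
  have h2 : (2 : F) = 0 := by
    have h22 : (2 : F) * 2 = 0 := by
      rw [← h4]
      norm_num
    rcases mul_eq_zero.1 h22 with h | h <;> exact h
  have hpow : ∀ t : F, t ^ 4 = t := by
    intro t
    have := FiniteField.pow_card t
    rwa [hc] at this
  have hlt : ({0, 1} : Finset F).card < (Finset.univ : Finset F).card := by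
    rw [Finset.card_univ, hc]
    exact lt_of_le_of_lt Finset.card_le_two (by norm_num)
  obtain ⟨ω, -, hω⟩ := Finset.exists_mem_notMem_of_card_lt_card hlt
  simp only [Finset.mem_insert, Finset.mem_singleton, not_or] at hω
  obtain ⟨hω0, hω1⟩ := hω
  have hω3 : ω ^ 2 + ω + 1 = 0 := by
    have h5 : ω * ((ω - 1) * (ω ^ 2 + ω + 1)) = 0 := by
      linear_combination hpow ω
    rcases mul_eq_zero.1 h5 with h | h
    · exact absurd h hω0
    · rcases mul_eq_zero.1 h with h' | h'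
      · exact absurd (sub_eq_zero.1 h') hω1
      · exact h'
  refine ⟨1, ω, ⟨one_ne_zero, hω1, ?_⟩, ?_⟩
  · intro t ht
    have h6 : ω * (ω - 1) = 0 := by
      linear_combination hpow t - (t ^ 2 - t + ω + 2 * t - 2 * ω + 1) * ht + t * ω * h2
    rcases mul_eq_zero.1 h6 with h | h
    · exact hω0 h
    · exact hω1 (sub_eq_zero.1 h)
  · intro h
    apply hω0
    linear_combination h - hω3 + (1 - ω) * h2

/-- **EX** [M-H].  `|F| ≥ 7`: helper15's `p4vp2_h15_exists_good` argument (`ν₀` not of the form `t - t²`; all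
`(τ, τ² ν₀)`, `τ ≠ 0`, have `t² - τ t + ν` without root) leaves `q - 1 ≥ 6` values of `τ`, and `ν = τ² ν₀` must avoid
`ν = 1` (at most two `τ`) and `ν² + ν - τ³ + 3 τ ν = τ² (ν₀² τ² + (3 ν₀ - 1) τ + ν₀) = 0` (at most two `τ`, `ν₀ ≠ 0`).
Small fields: `|F| = 3`: `(τ, ν) = (1, 2)` (`= (1, -1)`); `|F| = 4`: `(1, ω)`, `ω² + ω + 1 = 0`; `|F| = 5`: `(1, 2)`.
(Any proof of the existential statement is fine, e.g. a counting argument.) -/
theorem exists_good' [Fintype F] (h3 : 3 ≤ Fintype.card F) : ∃ τ ν : F, Good' τ ν := by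
  have key : ∃ τ ν : F, Good τ ν ∧ ν ^ 2 + ν - τ ^ 3 + 3 * τ * ν ≠ 0 := by
    by_cases h6 : 6 ≤ Fintype.card F
    · exact g2vex_big h6
    · have hcases : Fintype.card F = 3 ∨ Fintype.card F = 4 ∨ Fintype.card F = 5 := by omega
      rcases hcases with h | h | h
      · exact g2vex_prime 3 Nat.prime_three h (by decide) (by decide) (by decide)
      · exact g2vex_four h
      · exact g2vex_prime 5 Nat.prime_five h (by decide) (by decide) (by decide)
  obtain ⟨τ, ν, h1, h2⟩ := key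
  exact ⟨τ, ν, h1, h2⟩

end Cfsg.Agent.Lib.Helper19.G2V
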