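import Mathlib
import Cfsg.Agent.Lib.Helper19.G2V.Defs

/-!
Project G2V (S2461, designer helper19), row N5 `X_mem_Qm`: core.  The statements of the rows N4
(`nrho_X6 … nrho_X11`) and M2 (`X_mem_Qp`) are hypotheses.
-/

set_option autoImplicit false

namespace Cfsg.Agent.Lib.Helper19.G2V

open Cfsg.Lie Cfsg.Lie.ChevalleyDatum Matrix
open Cfsg.Agent.Lib.helper8
open Cfsg.Agent.Lib.helper23.P4V

universe u

variable {F : Type u} [Field F]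

/-- core of N5 (`X_mem_Qm`) -/
theorem g2vn5_core
    (hQp : ∀ (r : ℕ), r ∈ [6, 8, 9, 10, 11] → ∀ t : F, X r t ∈ Qp F)
    (h6 : ∀ t : F, nrho * X 6 t * nrho⁻¹ = X 1 (-t))
    (h8 : ∀ t : F, nrho * X 8 t * nrho⁻¹ = X 2 (-t))
    (h9 : ∀ t : F, nrho * X 9 t * nrho⁻¹ = X 3 t)
    (h10 : ∀ t : F, nrho * X 10 t * nrho⁻¹ = X 5 t)
    (h11 : ∀ t : F, nrho * X 11 t * nrho⁻¹ = X 0 (-t))
    (r : ℕ) (hr : r ∈ [5, 3, 2, 1, 0]) (t : F) : X r t ∈ Qm F := by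
  rw [mem_Qm_iff]
  simp only [List.mem_cons, List.not_mem_nil, or_false] at hr
  rcases hr with rfl | rfl | rfl | rfl | rfl
  · exact ⟨X 10 t, hQp 10 (by simp) t, (h10 t).symm⟩
  · exact ⟨X 9 t, hQp 9 (by simp) t, (h9 t).symm⟩
  · refine ⟨X 8 (-t), hQp 8 (by simp) (-t), ?_⟩
    rw [h8, neg_neg]
  · refine ⟨X 6 (-t), hQp 6 (by simp) (-t), ?_⟩
    rw [h6, neg_neg]
  · refine ⟨X 11 (-t), hQp 11 (by simp) (-t), ?_⟩
    rw [h11, neg_neg]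

end Cfsg.Agent.Lib.Helper19.G2V
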