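import Mathlib
import Cfsg.Agent.Lib.Helper19.G2V.Defs
import Cfsg.Agent.Lib.Helper11.G2VN5core
import Cfsg.Agent.Lib.Helper5.G2VM2
import Cfsg.Agent.Lib.Helper16.G2VN4

/-!
Project G2V (S2461, designer helper19), row N5 `X_mem_Qm` (verbatim): `g2vn5_core` on the landed
rows M2 (`X_mem_Qp`) and N4 (`nrho_X6 … nrho_X11`).
-/

set_option autoImplicit false

namespace Cfsg.Agent.Lib.Helper19.G2V

open Cfsg.Lie Cfsg.Lie.ChevalleyDatum Matrix
open Cfsg.Agent.Lib.helper8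
open Cfsg.Agent.Lib.helper23.P4V

universe u

variable {F : Type u} [Field F]

/-- **N5** [S].  N4, `X_mem_Qp`, `mem_Qm_iff`. -/
theorem X_mem_Qm (r : ℕ) (hr : r ∈ [5, 3, 2, 1, 0]) (t : F) : X r t ∈ Qm F :=
  g2vn5_core (fun r hr t => X_mem_Qp r hr t) nrho_X6 nrho_X8 nrho_X9 nrho_X10 nrho_X11 r hr t

end Cfsg.Agent.Lib.Helper19.G2V
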