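import Mathlib
import Cfsg.Agent.Lib.Helper19.G2V.Defs
import Cfsg.Agent.Lib.Helper26.P4VP1h26

/-!
Project G2V (S2461, designer helper19), row OR `order_xG`: core.  The statements of the row I2
(`iota_mul`, `iota_one`) are hypotheses.
-/

set_option autoImplicit false

namespace Cfsg.Agent.Lib.Helper19.G2V

open Cfsg.Lie Cfsg.Lie.ChevalleyDatum Matrix
open Cfsg.Agent.Lib.helper8
open Cfsg.Agent.Lib.helper23.P4V

universe u

variable {F : Type u} [Field F]

/-- the order of the companion matrix in `GL₂(F)` is prime to `p` -/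
theorem g2vor_cmpU [Fintype F] (p : ℕ) [Fact p.Prime] [CharP F p] (τ ν : F) (hG : Good τ ν) :
    ¬ p ∣ orderOf (cmpU τ ν hG.nu_ne_zero) := by
  classical
  intro hdvd
  set x := cmpU τ ν hG.nu_ne_zero with hx
  obtain ⟨k, hk⟩ := hdvd
  have hn : 0 < orderOf x := orderOf_pos x
  have hk0 : 0 < k := by
    rcases Nat.eq_zero_or_pos k with h | h
    · rw [h, mul_zero] at hk; omega
    · exact h
  have hp2 : 2 ≤ p := (Fact.out : p.Prime).two_le
  have hcoe : ∀ j : ℕ, ((x ^ j : GL (Fin 2) F) : M2 F) = cmp τ ν ^ j := by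
    intro j
    rw [Units.val_pow_eq_pow_val]
    rfl
  have hAn : cmp τ ν ^ orderOf x = 1 := by
    rw [← hcoe, pow_orderOf_eq_one]
    rfl
  obtain ⟨α, β, hM⟩ := p4vp1_pow_span τ ν k
  have hMp : (cmp τ ν ^ k) ^ p = 1 := by
    rw [← pow_mul, mul_comm, ← hk, hAn]
  have hnil : (cmp τ ν ^ k - 1) ^ p = 0 := by
    rw [sub_pow_char_of_commute p (Commute.one_right _), hMp, one_pow, sub_self]
  have hdet : (cmp τ ν ^ k - 1).det = 0 := by
    have := congrArg Matrix.det hnil
    rw [Matrix.det_pow, Matrix.det_zero] at this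
    exact pow_eq_zero_iff (Nat.pos_of_ne_zero (by omega)).ne' |>.mp this
  rw [hM, p4vp1_det] at hdet
  have hβ : β = 0 := by
    by_contra hβ
    apply hG.2.2 (-(α - 1) / β)
    field_simp
    linear_combination hdet
  rw [hβ] at hdet
  have hα : α = 1 := by
    have : (α - 1) ^ 2 = 0 := by linear_combination hdet
    have := pow_eq_zero_iff (two_ne_zero) |>.mp this
    linear_combination this
  have hAk : cmp τ ν ^ k = 1 := by
    rw [hM, hβ, hα]; simp
  have hxk : x ^ k = 1 := by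
    apply Units.ext
    rw [hcoe, hAk]
    rfl
  have := Nat.le_of_dvd hk0 (orderOf_dvd_of_pow_eq_one hxk)
  rw [hk] at this
  nlinarith

/-- core of OR (`order_xG`) -/
theorem g2vor_core [Fintype F] (p : ℕ) [Fact p.Prime] [CharP F p]
    (hmul : ∀ A B : GL (Fin 2) F, iota (A * B) = iota A * iota B)
    (hone : iota (1 : GL (Fin 2) F) = 1) (τ ν : F) (hG : Good τ ν) :
    ¬ p ∣ orderOf (xG τ ν hG.nu_ne_zero) := by
  intro hdvd
  apply g2vor_cmpU p τ ν hG
  have hpow : ∀ k : ℕ, iota (cmpU τ ν hG.nu_ne_zero ^ k) = iota (cmpU τ ν hG.nu_ne_zero) ^ k := by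
    intro k
    induction k with
    | zero => rw [pow_zero, pow_zero, hone]
    | succ k ih => rw [pow_succ, pow_succ, hmul, ih]
  have hd : orderOf (xG τ ν hG.nu_ne_zero) ∣ orderOf (cmpU τ ν hG.nu_ne_zero) := by
    apply orderOf_dvd_of_pow_eq_one
    unfold xG
    rw [← hpow, pow_orderOf_eq_one, hone]
  exact dvd_trans hdvd hd

end Cfsg.Agent.Lib.Helper19.G2V
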