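import Mathlib
import Cfsg.Agent.Lib.Helper19.G2V.Defs
import Cfsg.Agent.Lib.Helper11.G2VORcore
import Cfsg.Agent.Lib.Helper27.G2VI2

/-!
Project G2V (S2461, designer helper19), row OR `order_xG` (verbatim): `g2vor_core` on the landed
row I2 (`iota_mul`, `iota_one`).
-/

set_option autoImplicit false

namespace Cfsg.Agent.Lib.Helper19.G2V

open Cfsg.Lie Cfsg.Lie.ChevalleyDatum Matrix
open Cfsg.Agent.Lib.helper8
open Cfsg.Agent.Lib.helper23.P4V

universe u

variable {F : Type u} [Field F]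

/-- **OR** [M].  `iota` restricted to powers: `iota (A ^ k) = (iota A) ^ k` (I2), so `orderOf (xG) ∣ orderOf (cmpU τ ν)`,
and `p ∤ orderOf (cmpU τ ν)` as in Helper26.P4VP1h26 (`p4vp1_cmp_sq`, `p4vp1_pow_span`, `p4vp1_det`: if
`A ^ (p k) = 1` then `B = A ^ k = α + β A` has `(B - 1) ^ p = 0`, so `det (B - 1) = 0`, so (`Good`) `B = 1`). -/
theorem order_xG [Fintype F] (p : ℕ) [Fact p.Prime] [CharP F p] (τ ν : F) (hG : Good τ ν) :
    ¬ p ∣ orderOf (xG τ ν hG.nu_ne_zero) :=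
  g2vor_core p iota_mul iota_one τ ν hG

end Cfsg.Agent.Lib.Helper19.G2V
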