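import Mathlib

/-!
# GBT-U3: a `p`-group, `p` odd, is not the union of three proper subgroups
-/

set_option autoImplicit false

namespace Cfsg.Agent.Lib.Helper18.GBT

/-- a proper subgroup of a `p`-group has at most `|X| / p` elements -/
theorem h11gbt_card_mul_le {X : Type*} [Group X] [Finite X] {p : ℕ} [Fact p.Prime]
    (hX : IsPGroup p X) (A : Subgroup X) (hA : A ≠ ⊤) : p * Nat.card A ≤ Nat.card X := by
  have hp : p.Prime := Fact.out
  have h1 := Subgroup.card_mul_index A
  obtain ⟨k, hk⟩ := hX.index A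
  have hk0 : k ≠ 0 := by
    rintro rfl
    rw [pow_zero] at hk
    exact hA (Subgroup.index_eq_one.1 hk)
  have hpd : p ∣ A.index := by
    rw [hk]; exact dvd_pow_self p hk0
  obtain ⟨m, hm⟩ := hpd
  have hm0 : 0 < m := by
    rcases Nat.eq_zero_or_pos m with h0 | h0
    · exfalso
      rw [h0, mul_zero] at hm
      exact (Subgroup.index_ne_zero_of_finite (H := A)) hm
    · exact h0
  calc p * Nat.card A ≤ p * Nat.card A * m := Nat.le_mul_of_pos_right _ hm0
    _ = Nat.card A * A.index := by rw [hm]; ring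
    _ = Nat.card X := h1

/-- GBT-U3: a `p`-group, `p` odd, is not the union of three proper subgroups. -/
theorem exists_notMem_three {X : Type*} [Group X] [Finite X] {p : ℕ} [Fact p.Prime] (hp : p ≠ 2)
    (hX : IsPGroup p X) (A B C : Subgroup X) (hA : A ≠ ⊤) (hB : B ≠ ⊤) (hC : C ≠ ⊤) :
    ∃ s : X, s ∉ A ∧ s ∉ B ∧ s ∉ C := by
  classical
  have hpp : p.Prime := Fact.out
  have hp3 : 3 ≤ p := by
    have := hpp.two_le
    omega
  by_contra hne
  have hcov : ∀ s : X, s ∈ A ∨ s ∈ B ∨ s ∈ C := by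
    intro s
    by_contra hs
    push_neg at hs
    exact hne ⟨s, hs.1, hs.2.1, hs.2.2⟩
  haveI : Fintype X := Fintype.ofFinite X
  have hA' := h11gbt_card_mul_le hX A hA
  have hB' := h11gbt_card_mul_le hX B hB
  have hC' := h11gbt_card_mul_le hX C hC
  -- finsets
  let fA : Finset X := Finset.univ.filter (fun x => x ∈ A)
  let fB : Finset X := Finset.univ.filter (fun x => x ∈ B)
  let fC : Finset X := Finset.univ.filter (fun x => x ∈ C)
  have cA : fA.card = Nat.card A := by
    rw [Nat.card_eq_fintype_card, Fintype.card_subtype]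
  have cB : fB.card = Nat.card B := by
    rw [Nat.card_eq_fintype_card, Fintype.card_subtype]
  have cC : fC.card = Nat.card C := by
    rw [Nat.card_eq_fintype_card, Fintype.card_subtype]
  have huniv : (Finset.univ : Finset X) = fA ∪ (fB ∪ fC) := by
    ext x
    simp only [Finset.mem_univ, Finset.mem_union, Finset.mem_filter, true_and, fA, fB, fC,
      true_iff]
    exact hcov x
  have h1AB : (1 : X) ∈ fB ∩ fC := by
    simp only [Finset.mem_inter, Finset.mem_filter, Finset.mem_univ, true_and, fB, fC]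
    exact ⟨B.one_mem, C.one_mem⟩
  have h1A : (1 : X) ∈ fA ∩ (fB ∪ fC) := by
    simp only [Finset.mem_inter, Finset.mem_union, Finset.mem_filter, Finset.mem_univ, true_and,
      fA, fB, fC]
    exact ⟨A.one_mem, Or.inl B.one_mem⟩
  have e1 := Finset.card_union_add_card_inter fB fC
  have e2 := Finset.card_union_add_card_inter fA (fB ∪ fC)
  have p1 : 1 ≤ (fB ∩ fC).card := Finset.card_pos.2 ⟨1, h1AB⟩
  have p2 : 1 ≤ (fA ∩ (fB ∪ fC)).card := Finset.card_pos.2 ⟨1, h1A⟩
  have hX' : Nat.card X = (fA ∪ (fB ∪ fC)).card := by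
    rw [← huniv, Finset.card_univ, Nat.card_eq_fintype_card]
  rw [cA] at e2
  rw [cB, cC] at e1
  have hle : Nat.card X + 2 ≤ Nat.card A + Nat.card B + Nat.card C := by omega
  have h3A : 3 * Nat.card A ≤ Nat.card X := le_trans (Nat.mul_le_mul_right _ hp3) hA'
  have h3B : 3 * Nat.card B ≤ Nat.card X := le_trans (Nat.mul_le_mul_right _ hp3) hB'
  have h3C : 3 * Nat.card C ≤ Nat.card X := le_trans (Nat.mul_le_mul_right _ hp3) hC'
  omega

end Cfsg.Agent.Lib.Helper18.GBT
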