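import Mathlib
import Cfsg.Agent.Lib.Helper20.GLE.Defs

/-!
# Project GLE (helper20; block of PSU, S2291), row C4 (`p1_base`): the core, on the statements of Λ0 (`exists_lam_ratio`), I2 (`xrs_add`, `xrs_zero`), I3 (`xrs_sym`),
T8a (`pmon_hl`), C3 (`p2_gen`) and the base relators `H.c1` in the form of root elements (E8 `lamC_xrs`).  By helper11.
The bi-additive spreading of the Chevalley commutator formula: scaling by the fixed field through the long tori, then additivity, in each of the two parameters.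
-/

set_option autoImplicit false

namespace Cfsg.Agent.Lib.Helper20.GLE

open Cfsg.Agent.Lib.helper3.STC (ng ab)
open Cfsg.Agent.Lib.helper3.SPM (Pts pe sgm sn sig2 ptsFin pe2)
open Cfsg.Agent.Lib.Helper27.STU
open Cfsg.Agent.Lib.helper17.SLP (cm)

universe u v w x v' y

section main
variable {F : Type u} [Field F] [StarRing F] {L : Type x} [Group L] {ι : Type w} [Fintype ι] [DecidableEq ι] {G : Type v} [Group G]
  (S₂ : SysU F False (Fin 2) L) (swL : L) (ζ : F) (p : Pts ι) (ν : Equiv.Perm ι →* G) (lam : L →* G)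

omit [Fintype ι] in
theorem glec4_dhl_self (k : ι) (r : F) : dhl (Sum.inl k : ι ⊕ ι) r (Sum.inl k) = r := by
  simp [dhl]

omit [Fintype ι] in
theorem glec4_dhl_other {k j : ι} (hjk : j ≠ k) (r : F) : dhl (Sum.inl k : ι ⊕ ι) r (Sum.inl j) = 1 := by
  have h1 : (Sum.inl j : ι ⊕ ι) ≠ Sum.inl k := fun h => hjk (Sum.inl.inj h)
  have h2 : (Sum.inl j : ι ⊕ ι) ≠ ng (Sum.inl k) := by
    intro h
    cases h
  simp [dhl, h1, h2]

/-- conjugation of a commutator -/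
theorem glec4_conj_cm (g x y : G) : g * cm x y * g⁻¹ = cm (g * x * g⁻¹) (g * y * g⁻¹) := by
  unfold cm
  group

omit [Fintype ι] in
/-- C4 on the cited statements. -/
theorem glec4_core
    (hspan : ∀ t : F, ∃ s s' : F, star s = s ∧ star s' = s' ∧ t = s + s' * ζ)
    (hratio : ∀ r : F, star r = r → r ≠ 0 → ∃ ξ η : Lam F False, ξ.c ≠ 0 ∧ η.c ≠ 0 ∧ ξ.c / η.c = r)
    (hadd : ∀ (a b : ι ⊕ ι) (t u : F), xrs S₂ p ν lam a b t * xrs S₂ p ν lam a b u = xrs S₂ p ν lam a b (t + u))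
    (hzero : ∀ a b : ι ⊕ ι, xrs S₂ p ν lam a b (0 : F) = 1)
    (hsym : ∀ {a b : ι ⊕ ι}, ab a ≠ ab b → ∀ t : F, xrs S₂ p ν lam a b t = xrs S₂ p ν lam (ng b) (ng a) (-(star t)))
    (hpmon : ∀ (k : ι) {ξ η : Lam F False}, ξ.c ≠ 0 → η.c ≠ 0 →
      PMon S₂ p ν lam (hrl S₂ p ν lam (Sum.inl k) ξ η) 1 (dhl (Sum.inl k) (ξ.c / η.c)))
    (hp2 : ∀ {a b c : ι ⊕ ι}, ab a ≠ ab b → ab b ≠ ab c → ab a ≠ ab c → P2 S₂ p ν lam a b c)
    (hc1 : ∀ t : F, t = 1 ∨ t = ζ → ∀ u : F, u = 1 ∨ u = ζ →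
      cm (xrs S₂ p ν lam (Sum.inl p.o0) (Sum.inl p.o1) t) (xrs S₂ p ν lam (Sum.inl p.o1) (Sum.inl p.o2) u) =
        xrs S₂ p ν lam (Sum.inl p.o0) (Sum.inl p.o2) (t * u)) :
    P1 S₂ p ν lam (Sum.inl p.o0) (Sum.inl p.o1) (Sum.inl p.o2) := by
  set X01 : F → G := xrs S₂ p ν lam (Sum.inl p.o0) (Sum.inl p.o1) with hX01
  set X12 : F → G := xrs S₂ p ν lam (Sum.inl p.o1) (Sum.inl p.o2) with hX12
  set X02 : F → G := xrs S₂ p ν lam (Sum.inl p.o0) (Sum.inl p.o2) with hX02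
  have h01 : ab (Sum.inl p.o0 : ι ⊕ ι) ≠ ab (Sum.inl p.o1 : ι ⊕ ι) := p.h01
  have h12 : ab (Sum.inl p.o1 : ι ⊕ ι) ≠ ab (Sum.inl p.o2 : ι ⊕ ι) := p.h12
  have h02 : ab (Sum.inl p.o0 : ι ⊕ ι) ≠ ab (Sum.inl p.o2 : ι ⊕ ι) := p.h02
  -- `X01` commutes with `X02`, `X12` commutes with `X02`
  have c0102 : ∀ t v : F, X01 t * X02 v = X02 v * X01 t := fun t v => hp2 h01 h12 h02 t v
  have c1202 : ∀ u v : F, X12 u * X02 v = X02 v * X12 u := by
    intro u v
    have e1 : X12 u = xrs S₂ p ν lam (Sum.inr p.o2) (Sum.inr p.o1) (-(star u)) := hsym h12 u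
    have e2 : X02 v = xrs S₂ p ν lam (Sum.inr p.o2) (Sum.inr p.o0) (-(star v)) := hsym h02 v
    rw [e1, e2]
    exact hp2 (a := Sum.inr p.o2) (b := Sum.inr p.o1) (c := Sum.inr p.o0) p.h12.symm p.h01.symm p.h02.symm _ _
  -- scaling in the first parameter
  have scaleT : ∀ r : F, star r = r → r ≠ 0 → ∀ t u : F, cm (X01 t) (X12 u) = X02 (t * u) →
      cm (X01 (r * t)) (X12 u) = X02 (r * t * u) := by
    intro r hr hr0 t u hE
    obtain ⟨ξ, η, hξ, hη, hrat⟩ := hratio r hr hr0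
    have hg := (hpmon p.o0 hξ hη).2.1
    rw [hrat] at hg
    set g := hrl S₂ p ν lam (Sum.inl p.o0) ξ η
    have e01 : g * X01 t * g⁻¹ = X01 (r * t) := by
      rw [hX01, hg _ _ h01 t, glec4_dhl_self, glec4_dhl_other p.h01.symm]
      simp
    have e12 : g * X12 u * g⁻¹ = X12 u := by
      rw [hX12, hg _ _ h12 u, glec4_dhl_other p.h01.symm, glec4_dhl_other p.h02.symm]
      simp
    have e02 : g * X02 (t * u) * g⁻¹ = X02 (r * t * u) := by
      rw [hX02, hg _ _ h02 (t * u), glec4_dhl_self, glec4_dhl_other p.h02.symm]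
      simp [mul_assoc]
    have hcj : g * cm (X01 t) (X12 u) * g⁻¹ = g * X02 (t * u) * g⁻¹ := by rw [hE]
    rw [glec4_conj_cm, e01, e12, e02] at hcj
    exact hcj
  -- scaling in the second parameter
  have scaleU : ∀ r : F, star r = r → r ≠ 0 → ∀ t u : F, cm (X01 t) (X12 u) = X02 (t * u) →
      cm (X01 t) (X12 (r * u)) = X02 (t * (r * u)) := by
    intro r hr hr0 t u hE
    have hr' : star r⁻¹ = r⁻¹ := by rw [star_inv₀, hr]
    obtain ⟨ξ, η, hξ, hη, hrat⟩ := hratio r⁻¹ hr' (inv_ne_zero hr0)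
    have hg := (hpmon p.o2 hξ hη).2.1
    rw [hrat] at hg
    set g := hrl S₂ p ν lam (Sum.inl p.o2) ξ η
    have e01 : g * X01 t * g⁻¹ = X01 t := by
      rw [hX01, hg _ _ h01 t, glec4_dhl_other p.h02, glec4_dhl_other p.h12]
      simp
    have e12 : g * X12 u * g⁻¹ = X12 (r * u) := by
      rw [hX12, hg _ _ h12 u, glec4_dhl_self, glec4_dhl_other p.h12]
      simp
    have e02 : g * X02 (t * u) * g⁻¹ = X02 (t * (r * u)) := by
      rw [hX02, hg _ _ h02 (t * u), glec4_dhl_self, glec4_dhl_other p.h02]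
      congr 1
      simp only [inv_inv, one_mul]
      ring
    have hcj : g * cm (X01 t) (X12 u) * g⁻¹ = g * X02 (t * u) * g⁻¹ := by rw [hE]
    rw [glec4_conj_cm, e01, e12, e02] at hcj
    exact hcj
  -- additivity in the first parameter
  have addT : ∀ t₁ t₂ u : F, cm (X01 t₁) (X12 u) = X02 (t₁ * u) → cm (X01 t₂) (X12 u) = X02 (t₂ * u) →
      cm (X01 (t₁ + t₂)) (X12 u) = X02 ((t₁ + t₂) * u) := by
    intro t₁ t₂ u h1 h2
    have e : cm (X01 t₁ * X01 t₂) (X12 u) = X01 t₁ * cm (X01 t₂) (X12 u) * (X01 t₁)⁻¹ * cm (X01 t₁) (X12 u) := by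
      unfold cm
      group
    rw [hX01, ← hadd, ← hX01, e, h1, h2, c0102 t₁ (t₂ * u), mul_inv_cancel_right, hX02, hadd, add_mul, add_comm]
  -- additivity in the second parameter
  have addU : ∀ t u₁ u₂ : F, cm (X01 t) (X12 u₁) = X02 (t * u₁) → cm (X01 t) (X12 u₂) = X02 (t * u₂) →
      cm (X01 t) (X12 (u₁ + u₂)) = X02 (t * (u₁ + u₂)) := by
    intro t u₁ u₂ h1 h2
    have e : cm (X01 t) (X12 u₁ * X12 u₂) = cm (X01 t) (X12 u₁) * (X12 u₁ * cm (X01 t) (X12 u₂) * (X12 u₁)⁻¹) := by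
      unfold cm
      group
    rw [hX12, ← hadd, ← hX12, e, h1, h2, c1202 u₁ (t * u₂), mul_inv_cancel_right, hX02, hadd, mul_add]
  -- zero parameters
  have zeroT : ∀ u : F, cm (X01 0) (X12 u) = X02 (0 * u) := by
    intro u
    rw [zero_mul, hX01, hzero, hX02, hzero]
    unfold cm
    group
  have zeroU : ∀ t : F, cm (X01 t) (X12 0) = X02 (t * 0) := by
    intro t
    rw [mul_zero, hX12, hzero, hX02, hzero]
    unfold cm
    group
  -- all `t`, `u ∈ {1, ζ}`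
  have stepT : ∀ u : F, (u = 1 ∨ u = ζ) → ∀ t : F, cm (X01 t) (X12 u) = X02 (t * u) := by
    intro u hu t
    obtain ⟨s, s', hs, hs', rfl⟩ := hspan t
    apply addT
    · by_cases h0 : s = 0
      · rw [h0]; exact zeroT u
      · have := scaleT s hs h0 1 u (hc1 1 (Or.inl rfl) u hu)
        rwa [mul_one] at this
    · by_cases h0 : s' = 0
      · rw [h0, zero_mul]; exact zeroT u
      · exact scaleT s' hs' h0 ζ u (hc1 ζ (Or.inr rfl) u hu)
  -- all `t`, `u`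
  intro t u
  obtain ⟨s, s', hs, hs', rfl⟩ := hspan u
  apply addU
  · by_cases h0 : s = 0
    · rw [h0]; exact zeroU t
    · have := scaleU s hs h0 t 1 (stepT 1 (Or.inl rfl) t)
      rwa [mul_one] at this
  · by_cases h0 : s' = 0
    · rw [h0, zero_mul]; exact zeroU t
    · exact scaleU s' hs' h0 t ζ (stepT ζ (Or.inr rfl) t)

end main

end Cfsg.Agent.Lib.Helper20.GLE
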