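import Mathlib
import Cfsg.Agent.Lib.Helper20.GLE.Defs
import Cfsg.Agent.Lib.Helper11.GLEC4core

/-!
# Project GLE (helper20; block of PSU, S2291), row C2 (`p2_base`, `p4_base`): the core, on the statements of Λ0 (`exists_lam_ratio`), I2 (`xrs_add`, `xrs_zero`),
T8a (`pmon_hl`) and the base relators `H.c2`, `H.d4` in the form of root elements (E8 `lamC_xrs`).  By helper11.
The bi-additive spreading of a commutation relation between two families of short root elements: scaling by the fixed field through the long tori, then additivity.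
-/

set_option autoImplicit false

namespace Cfsg.Agent.Lib.Helper20.GLE

open Cfsg.Agent.Lib.helper3.STC (ng ab)
open Cfsg.Agent.Lib.helper3.SPM (Pts pe sgm sn sig2 ptsFin pe2)
open Cfsg.Agent.Lib.Helper27.STU
open Cfsg.Agent.Lib.helper17.SLP (cm)

universe u v w x v' y

section main
variable {F : Type u} [Field F] [StarRing F] {L : Type x} [Group L] {ι : Type w} [Fintype ι] [DecidableEq ι] {G : Type v} [Group G]
  (S₂ : SysU F False (Fin 2) L) (swL : L) (ζ : F) (p : Pts ι) (ν : Equiv.Perm ι →* G) (lam : L →* G)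

/-- conjugation preserves commutation -/
theorem glec2_commute_conj (g : G) {x y : G} (h : Commute x y) : Commute (g * x * g⁻¹) (g * y * g⁻¹) := by
  have h' : x * y = y * x := h
  show g * x * g⁻¹ * (g * y * g⁻¹) = g * y * g⁻¹ * (g * x * g⁻¹)
  calc g * x * g⁻¹ * (g * y * g⁻¹) = g * (x * y) * g⁻¹ := by group
    _ = g * (y * x) * g⁻¹ := by rw [h']
    _ = g * y * g⁻¹ * (g * x * g⁻¹) := by group

omit [Fintype ι] in
/-- the spreading of a commutation relation `[x_{ij}(t), x_{kl}(u)] = 1` from the parameters `1, ζ` to all parameters (`j ∉ {i, k, l}`, `l ∉ {i, j, k}`). -/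
theorem glec2_spread
    (hspan : ∀ t : F, ∃ s s' : F, star s = s ∧ star s' = s' ∧ t = s + s' * ζ)
    (hratio : ∀ r : F, star r = r → r ≠ 0 → ∃ ξ η : Lam F False, ξ.c ≠ 0 ∧ η.c ≠ 0 ∧ ξ.c / η.c = r)
    (hadd : ∀ (a b : ι ⊕ ι) (t u : F), xrs S₂ p ν lam a b t * xrs S₂ p ν lam a b u = xrs S₂ p ν lam a b (t + u))
    (hzero : ∀ a b : ι ⊕ ι, xrs S₂ p ν lam a b (0 : F) = 1)
    (hpmon : ∀ (k : ι) {ξ η : Lam F False}, ξ.c ≠ 0 → η.c ≠ 0 →
      PMon S₂ p ν lam (hrl S₂ p ν lam (Sum.inl k) ξ η) 1 (dhl (Sum.inl k) (ξ.c / η.c)))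
    {i j k l : ι} (hij : i ≠ j) (hkl : k ≠ l) (hjk : j ≠ k) (hjl : j ≠ l) (hil : i ≠ l)
    (hbase : ∀ t : F, t = 1 ∨ t = ζ → ∀ u : F, u = 1 ∨ u = ζ →
      Commute (xrs S₂ p ν lam (Sum.inl i) (Sum.inl j) t) (xrs S₂ p ν lam (Sum.inl k) (Sum.inl l) u)) :
    P4 S₂ p ν lam (Sum.inl i) (Sum.inl j) (Sum.inl k) (Sum.inl l) := by
  set X : F → G := xrs S₂ p ν lam (Sum.inl i) (Sum.inl j) with hX
  set Y : F → G := xrs S₂ p ν lam (Sum.inl k) (Sum.inl l) with hY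
  have hab : ab (Sum.inl i : ι ⊕ ι) ≠ ab (Sum.inl j : ι ⊕ ι) := hij
  have hcd : ab (Sum.inl k : ι ⊕ ι) ≠ ab (Sum.inl l : ι ⊕ ι) := hkl
  -- scaling in the first parameter
  have scaleT : ∀ r : F, star r = r → r ≠ 0 → ∀ t u : F, Commute (X t) (Y u) → Commute (X (r * t)) (Y u) := by
    intro r hr hr0 t u hE
    have hr' : star r⁻¹ = r⁻¹ := by rw [star_inv₀, hr]
    obtain ⟨ξ, η, hξ, hη, hrat⟩ := hratio r⁻¹ hr' (inv_ne_zero hr0)
    have hg := (hpmon j hξ hη).2.1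
    rw [hrat] at hg
    set g := hrl S₂ p ν lam (Sum.inl j) ξ η
    have e1 : g * X t * g⁻¹ = X (r * t) := by
      rw [hX, hg _ _ hab t, glec4_dhl_self, glec4_dhl_other hij]
      simp
    have e2 : g * Y u * g⁻¹ = Y u := by
      rw [hY, hg _ _ hcd u, glec4_dhl_other hjk.symm, glec4_dhl_other hjl.symm]
      simp
    have := glec2_commute_conj g hE
    rwa [e1, e2] at this
  -- scaling in the second parameter
  have scaleU : ∀ r : F, star r = r → r ≠ 0 → ∀ t u : F, Commute (X t) (Y u) → Commute (X t) (Y (r * u)) := by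
    intro r hr hr0 t u hE
    have hr' : star r⁻¹ = r⁻¹ := by rw [star_inv₀, hr]
    obtain ⟨ξ, η, hξ, hη, hrat⟩ := hratio r⁻¹ hr' (inv_ne_zero hr0)
    have hg := (hpmon l hξ hη).2.1
    rw [hrat] at hg
    set g := hrl S₂ p ν lam (Sum.inl l) ξ η
    have e1 : g * X t * g⁻¹ = X t := by
      rw [hX, hg _ _ hab t, glec4_dhl_other hil, glec4_dhl_other hjl]
      simp
    have e2 : g * Y u * g⁻¹ = Y (r * u) := by
      rw [hY, hg _ _ hcd u, glec4_dhl_self, glec4_dhl_other hkl]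
      simp
    have := glec2_commute_conj g hE
    rwa [e1, e2] at this
  -- additivity
  have addT : ∀ t₁ t₂ u : F, Commute (X t₁) (Y u) → Commute (X t₂) (Y u) → Commute (X (t₁ + t₂)) (Y u) := by
    intro t₁ t₂ u h1 h2
    rw [hX, ← hadd, ← hX]
    exact h1.mul_left h2
  have addU : ∀ t u₁ u₂ : F, Commute (X t) (Y u₁) → Commute (X t) (Y u₂) → Commute (X t) (Y (u₁ + u₂)) := by
    intro t u₁ u₂ h1 h2
    rw [hY, ← hadd, ← hY]
    exact h1.mul_right h2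
  have zeroT : ∀ u : F, Commute (X 0) (Y u) := by
    intro u
    rw [hX, hzero]
    exact Commute.one_left _
  have zeroU : ∀ t : F, Commute (X t) (Y 0) := by
    intro t
    rw [hY, hzero]
    exact Commute.one_right _
  -- all `t`, `u ∈ {1, ζ}`
  have stepT : ∀ u : F, (u = 1 ∨ u = ζ) → ∀ t : F, Commute (X t) (Y u) := by
    intro u hu t
    obtain ⟨s, s', hs, hs', rfl⟩ := hspan t
    apply addT
    · by_cases h0 : s = 0
      · rw [h0]; exact zeroT u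
      · have := scaleT s hs h0 1 u (hbase 1 (Or.inl rfl) u hu)
        rwa [mul_one] at this
    · by_cases h0 : s' = 0
      · rw [h0, zero_mul]; exact zeroT u
      · exact scaleT s' hs' h0 ζ u (hbase ζ (Or.inr rfl) u hu)
  intro t u
  obtain ⟨s, s', hs, hs', rfl⟩ := hspan u
  apply addU
  · by_cases h0 : s = 0
    · rw [h0]; exact zeroU t
    · have := scaleU s hs h0 t 1 (stepT 1 (Or.inl rfl) t)
      rwa [mul_one] at this
  · by_cases h0 : s' = 0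
    · rw [h0, zero_mul]; exact zeroU t
    · exact scaleU s' hs' h0 t ζ (stepT ζ (Or.inr rfl) t)

omit [Fintype ι] in
/-- C2 `p2_base` on the cited statements (`hc2` is `H.c2` rewritten with root elements). -/
theorem glec2_p2_core
    (hspan : ∀ t : F, ∃ s s' : F, star s = s ∧ star s' = s' ∧ t = s + s' * ζ)
    (hratio : ∀ r : F, star r = r → r ≠ 0 → ∃ ξ η : Lam F False, ξ.c ≠ 0 ∧ η.c ≠ 0 ∧ ξ.c / η.c = r)
    (hadd : ∀ (a b : ι ⊕ ι) (t u : F), xrs S₂ p ν lam a b t * xrs S₂ p ν lam a b u = xrs S₂ p ν lam a b (t + u))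
    (hzero : ∀ a b : ι ⊕ ι, xrs S₂ p ν lam a b (0 : F) = 1)
    (hpmon : ∀ (k : ι) {ξ η : Lam F False}, ξ.c ≠ 0 → η.c ≠ 0 →
      PMon S₂ p ν lam (hrl S₂ p ν lam (Sum.inl k) ξ η) 1 (dhl (Sum.inl k) (ξ.c / η.c)))
    (hc2 : ∀ t : F, t = 1 ∨ t = ζ → ∀ u : F, u = 1 ∨ u = ζ →
      Commute (xrs S₂ p ν lam (Sum.inl p.o0) (Sum.inl p.o1) t) (xrs S₂ p ν lam (Sum.inl p.o0) (Sum.inl p.o2) u)) :
    P2 S₂ p ν lam (Sum.inl p.o0) (Sum.inl p.o1) (Sum.inl p.o2) :=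
  glec2_spread S₂ ζ p ν lam hspan hratio hadd hzero hpmon p.h01 p.h02 p.h01.symm p.h12 p.h02 hc2

omit [Fintype ι] in
/-- C2 `p4_base` on the cited statements (`hd4` is `H.d4 x hx` rewritten with root elements). -/
theorem glec2_p4_core
    (hspan : ∀ t : F, ∃ s s' : F, star s = s ∧ star s' = s' ∧ t = s + s' * ζ)
    (hratio : ∀ r : F, star r = r → r ≠ 0 → ∃ ξ η : Lam F False, ξ.c ≠ 0 ∧ η.c ≠ 0 ∧ ξ.c / η.c = r)
    (hadd : ∀ (a b : ι ⊕ ι) (t u : F), xrs S₂ p ν lam a b t * xrs S₂ p ν lam a b u = xrs S₂ p ν lam a b (t + u))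
    (hzero : ∀ a b : ι ⊕ ι, xrs S₂ p ν lam a b (0 : F) = 1)
    (hpmon : ∀ (k : ι) {ξ η : Lam F False}, ξ.c ≠ 0 → η.c ≠ 0 →
      PMon S₂ p ν lam (hrl S₂ p ν lam (Sum.inl k) ξ η) 1 (dhl (Sum.inl k) (ξ.c / η.c)))
    {x : ι} (hx : x ∈ p.o3)
    (hd4 : ∀ t : F, t = 1 ∨ t = ζ → ∀ u : F, u = 1 ∨ u = ζ →
      Commute (xrs S₂ p ν lam (Sum.inl p.o0) (Sum.inl p.o1) t) (xrs S₂ p ν lam (Sum.inl p.o2) (Sum.inl x) u)) :
    P4 S₂ p ν lam (Sum.inl p.o0) (Sum.inl p.o1) (Sum.inl p.o2) (Sum.inl x) := by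
  obtain ⟨hx0, hx1, hx2⟩ := p.h3 x hx
  exact glec2_spread S₂ ζ p ν lam hspan hratio hadd hzero hpmon p.h01 (Ne.symm hx2) p.h12 (Ne.symm hx1) (Ne.symm hx0) hd4

end main

end Cfsg.Agent.Lib.Helper20.GLE
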