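import Mathlib
import Cfsg.Agent.Lib.Helper20.GLE.Defs
import Cfsg.Agent.Lib.Helper9.GLEE1
import Cfsg.Agent.Lib.Helper9.GLEE5
import Cfsg.Agent.Lib.Helper9.GLEE9
import Cfsg.Agent.Lib.Helper9.GLET6
import Cfsg.Agent.Lib.Helper20.GLEI2
import Cfsg.Agent.Lib.Helper20.GLEI3
import Cfsg.Agent.Lib.Helper26.GLEL0
import Cfsg.Agent.Lib.Helper5.STULA5
import Cfsg.Agent.Lib.Helper11.GLEC2core
import Cfsg.Agent.Lib.Helper11.GLEC3core
import Cfsg.Agent.Lib.Helper11.GLEC4core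

/-!
# Project GLE (helper20; block of PSU, S2291), rows C2 C3 C4 C5, verbatim vs `Helper20/GLE/SkelA.lean.txt`.  Writer: helper11.
`p2_base p4_base` (C2), `p2_gen p4_gen` (C3), `p1_base` (C4), `p1_gen` (C5): wrappers of `glec2_*_core`, `glec3_*_core`, `glec4_core` on the landed rows
Λ0 (`exists_lam_ratio`), Λ5 of STU (`Lam.exists_c_ne`), E1 (`lamC_one`), E8 (`lamC_xrs`), E9 (`pmon_nu`), I2 (`xrs_add xrs_zero`), I3 (`xrs_sym`), T8 (`pmon_hl pmon_wl`).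
-/

set_option autoImplicit false

namespace Cfsg.Agent.Lib.Helper20.GLE

open Cfsg.Agent.Lib.helper3.STC (ng ab)
open Cfsg.Agent.Lib.helper3.SPM (Pts pe sgm sn sig2 ptsFin pe2)
open Cfsg.Agent.Lib.Helper27.STU
open Cfsg.Agent.Lib.helper17.SLP (cm)

universe u v w x v' y

section main
variable {F : Type u} [Field F] [StarRing F] {L : Type x} [Group L] {ι : Type w} [Fintype ι] [DecidableEq ι] {G : Type v} [Group G]
  (S₂ : SysU F False (Fin 2) L) (swL : L) (ζ : F) (p : Pts ι) (ν : Equiv.Perm ι →* G) (lam : L →* G)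

/-- the image of `uA S₂ t` under `lamC ν lam σ` as a root element -/
theorem glec2_lamC_uA (H : Glue S₂ swL ζ p ν lam) (hU : UFacts S₂ swL ζ) (σ : Equiv.Perm ι) (t : F) :
    lamC ν lam σ (uA S₂ t) = xrs S₂ p ν lam (Sum.inl (σ p.o0)) (Sum.inl (σ p.o1)) t := by
  have h := lamC_xrs S₂ swL ζ p ν lam H hU σ (a' := Sum.inl 0) (b' := Sum.inl 1) (by decide) t
  exact h

/-- `lam (uA S₂ t)` as a root element -/
theorem glec2_lam_uA (H : Glue S₂ swL ζ p ν lam) (hU : UFacts S₂ swL ζ) (t : F) :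
    lam (uA S₂ t) = xrs S₂ p ν lam (Sum.inl p.o0) (Sum.inl p.o1) t := by
  rw [← lamC_one ν lam (uA S₂ t)]
  exact glec2_lamC_uA S₂ swL ζ p ν lam H hU 1 t

theorem p2_base (hF : Hyp F) (H : Glue S₂ swL ζ p ν lam) (hU : UFacts S₂ swL ζ) :
    P2 S₂ p ν lam (Sum.inl p.o0) (Sum.inl p.o1) (Sum.inl p.o2) := by
  refine glec2_p2_core S₂ ζ p ν lam hU.span (fun r hr hr0 => exists_lam_ratio hF hr hr0)
    (fun a b t u => xrs_add S₂ p ν lam a b t u) (fun a b => xrs_zero S₂ p ν lam a b)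
    (fun k _ _ hξ hη => pmon_hl S₂ swL ζ p ν lam hF H hU k hξ hη) ?_
  intro t ht u hu
  have h := H.c2 t ht u hu
  have e2 : lamC ν lam (Equiv.swap p.o1 p.o2) (uA S₂ u) =
      xrs S₂ p ν lam (Sum.inl p.o0) (Sum.inl p.o2) u := by
    rw [glec2_lamC_uA S₂ swL ζ p ν lam H hU]
    rw [Equiv.swap_apply_of_ne_of_ne p.h01 p.h02, Equiv.swap_apply_left]
  rw [glec2_lam_uA S₂ swL ζ p ν lam H hU, e2] at h
  exact h

theorem p4_base (hF : Hyp F) (H : Glue S₂ swL ζ p ν lam) (hU : UFacts S₂ swL ζ) {x : ι} (hx : x ∈ p.o3) :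
    P4 S₂ p ν lam (Sum.inl p.o0) (Sum.inl p.o1) (Sum.inl p.o2) (Sum.inl x) := by
  refine glec2_p4_core S₂ ζ p ν lam hU.span (fun r hr hr0 => exists_lam_ratio hF hr hr0)
    (fun a b t u => xrs_add S₂ p ν lam a b t u) (fun a b => xrs_zero S₂ p ν lam a b)
    (fun k _ _ hξ hη => pmon_hl S₂ swL ζ p ν lam hF H hU k hξ hη) hx ?_
  intro t ht u hu
  obtain ⟨hx0, hx1, hx2⟩ := p.h3 x hx
  have h := H.d4 x hx t ht u hu
  have e2 : lamC ν lam (Equiv.swap p.o0 p.o2 * Equiv.swap p.o1 x) (uA S₂ u) =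
      xrs S₂ p ν lam (Sum.inl p.o2) (Sum.inl x) u := by
    rw [glec2_lamC_uA S₂ swL ζ p ν lam H hU]
    have a0 : (Equiv.swap p.o0 p.o2 * Equiv.swap p.o1 x) p.o0 = p.o2 := by
      rw [Equiv.Perm.mul_apply, Equiv.swap_apply_of_ne_of_ne p.h01 (Ne.symm hx0), Equiv.swap_apply_left]
    have a1 : (Equiv.swap p.o0 p.o2 * Equiv.swap p.o1 x) p.o1 = x := by
      rw [Equiv.Perm.mul_apply, Equiv.swap_apply_left, Equiv.swap_apply_of_ne_of_ne hx0 hx2]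
    rw [a0, a1]
  rw [glec2_lam_uA S₂ swL ζ p ν lam H hU, e2] at h
  exact h

theorem p2_gen (hF : Hyp F) (H : Glue S₂ swL ζ p ν lam) (hU : UFacts S₂ swL ζ) {a b c : ι ⊕ ι} (hab : ab a ≠ ab b) (hbc : ab b ≠ ab c) (hac : ab a ≠ ab c) :
    P2 S₂ p ν lam a b c := by
  obtain ⟨ξ₀, hξ₀⟩ := Lam.exists_c_ne (od := False) hF
  exact glec3_p2_gen_core (ξ₀ := ξ₀) (fun σ => pmon_nu S₂ swL ζ p ν lam H hU σ)
    (fun k => pmon_wl S₂ swL ζ p ν lam hF H hU k hξ₀) (p2_base S₂ swL ζ p ν lam hF H hU) hab hbc hac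

theorem p4_gen (hF : Hyp F) (H : Glue S₂ swL ζ p ν lam) (hU : UFacts S₂ swL ζ) {a b c e : ι ⊕ ι} (hab : ab a ≠ ab b) (hac : ab a ≠ ab c) (hae : ab a ≠ ab e)
    (hbc : ab b ≠ ab c) (hbe : ab b ≠ ab e) (hce : ab c ≠ ab e) : P4 S₂ p ν lam a b c e := by
  obtain ⟨ξ₀, hξ₀⟩ := Lam.exists_c_ne (od := False) hF
  exact glec3_p4_gen_core (ξ₀ := ξ₀) (fun σ => pmon_nu S₂ swL ζ p ν lam H hU σ)
    (fun k => pmon_wl S₂ swL ζ p ν lam hF H hU k hξ₀) (fun hx => p4_base S₂ swL ζ p ν lam hF H hU hx) hab hac hae hbc hbe hce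

theorem p1_base (hF : Hyp F) (H : Glue S₂ swL ζ p ν lam) (hU : UFacts S₂ swL ζ) :
    P1 S₂ p ν lam (Sum.inl p.o0) (Sum.inl p.o1) (Sum.inl p.o2) := by
  refine glec4_core S₂ ζ p ν lam hU.span (fun r hr hr0 => exists_lam_ratio hF hr hr0)
    (fun a b t u => xrs_add S₂ p ν lam a b t u) (fun a b => xrs_zero S₂ p ν lam a b)
    (fun hab t => xrs_sym S₂ swL ζ p ν lam H hU hab t)
    (fun k _ _ hξ hη => pmon_hl S₂ swL ζ p ν lam hF H hU k hξ hη)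
    (fun hab hbc hac => p2_gen S₂ swL ζ p ν lam hF H hU hab hbc hac) ?_
  intro t ht u hu
  have h := H.c1 t ht u hu
  have e2 : lamC ν lam (Equiv.swap p.o0 p.o1 * Equiv.swap p.o1 p.o2) (uA S₂ u) =
      xrs S₂ p ν lam (Sum.inl p.o1) (Sum.inl p.o2) u := by
    rw [glec2_lamC_uA S₂ swL ζ p ν lam H hU]
    have a0 : (Equiv.swap p.o0 p.o1 * Equiv.swap p.o1 p.o2) p.o0 = p.o1 := by
      rw [Equiv.Perm.mul_apply, Equiv.swap_apply_of_ne_of_ne p.h01 p.h02, Equiv.swap_apply_left]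
    have a1 : (Equiv.swap p.o0 p.o1 * Equiv.swap p.o1 p.o2) p.o1 = p.o2 := by
      rw [Equiv.Perm.mul_apply, Equiv.swap_apply_left, Equiv.swap_apply_of_ne_of_ne p.h02.symm p.h12.symm]
    rw [a0, a1]
  have e3 : lamC ν lam (Equiv.swap p.o1 p.o2) (uA S₂ (t * u)) =
      xrs S₂ p ν lam (Sum.inl p.o0) (Sum.inl p.o2) (t * u) := by
    rw [glec2_lamC_uA S₂ swL ζ p ν lam H hU]
    rw [Equiv.swap_apply_of_ne_of_ne p.h01 p.h02, Equiv.swap_apply_left]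
  rw [glec2_lam_uA S₂ swL ζ p ν lam H hU, e2, e3] at h
  exact h

theorem p1_gen (hF : Hyp F) (H : Glue S₂ swL ζ p ν lam) (hU : UFacts S₂ swL ζ) {a b c : ι ⊕ ι} (hab : ab a ≠ ab b) (hbc : ab b ≠ ab c) (hac : ab a ≠ ab c) :
    P1 S₂ p ν lam a b c := by
  obtain ⟨ξ₀, hξ₀⟩ := Lam.exists_c_ne (od := False) hF
  exact glec3_p1_gen_core (ξ₀ := ξ₀) (fun σ => pmon_nu S₂ swL ζ p ν lam H hU σ)
    (fun k => pmon_wl S₂ swL ζ p ν lam hF H hU k hξ₀) (p1_base S₂ swL ζ p ν lam hF H hU) hab hbc hac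

end main

end Cfsg.Agent.Lib.Helper20.GLE
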