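import Mathlib
import Cfsg.Agent.Lib.helper15.St2
import Cfsg.Agent.Lib.helper7.StA
import Cfsg.Agent.Lib.helper7.StC
import Cfsg.Agent.Lib.Helper24.STCI1
import Cfsg.Agent.Lib.helper23.STCX2
import Cfsg.Agent.Lib.Helper27.STU.Defs
import Cfsg.Agent.Lib.Helper27.STU.Defs2

/-!
# Project STU (helper27, PSU S2291), row B3: conjugation forms of the commutator axioms.  By helper11 (model `Helper24.STCB1`).
-/

set_option autoImplicit false

namespace Cfsg.Agent.Lib.Helper27.STU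

open Cfsg.Agent.Lib.helper15.St2 Cfsg.Agent.Lib.helper7.St Cfsg.Agent.Lib.helper3.STC

namespace SysU

variable {F : Type*} [Field F] [StarRing F] {od : Prop} {ι : Type*} {G : Type*} [Group G] (S : SysU F od ι G)

/-- own-name copy of B1 `xs_zero` -/
theorem stub3_xs_zero {a b : ι ⊕ ι} (hab : a ≠ b) (hab' : a ≠ ng b) : S.xs a b 0 = 1 := by
  have := S.adds a b hab hab' 0 0
  rw [add_zero] at this
  exact mul_eq_left.mp this

/-- own-name copy of B1 `xs_neg` -/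
theorem stub3_xs_neg {a b : ι ⊕ ι} (hab : a ≠ b) (hab' : a ≠ ng b) (t : F) : S.xs a b (-t) = (S.xs a b t)⁻¹ :=
  eq_inv_of_mul_eq_one_left (by rw [S.adds a b hab hab', neg_add_cancel, S.stub3_xs_zero hab hab'])

/-- B3 [S]  conjugation forms of the commutator axioms (model `SysC.cj_comm`, `cj3`, `cj3'`, `cj_ssl`, `cj_ls`). -/
theorem cj_comm_ss {a b c d : ι ⊕ ι} (hab : a ≠ b) (hab' : a ≠ ng b) (hcd : c ≠ d) (hcd' : c ≠ ng d) (hbc : b ≠ c) (had : a ≠ d)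
    (hbd : b ≠ ng d) (hac : a ≠ ng c) (t u : F) : cj (S.xs a b t) (S.xs c d u) = S.xs c d u := by
  unfold cj
  rw [S.comm_ss a b c d hab hab' hcd hcd' hbc had hbd hac t u]
  group

theorem cj_comm_ls {a c d : ι ⊕ ι} (hcd : c ≠ d) (hcd' : c ≠ ng d) (hca : c ≠ ng a) (hda : d ≠ a) (ξ : Lam F od) (u : F) :
    cj (S.xl a ξ) (S.xs c d u) = S.xs c d u := by
  unfold cj
  rw [S.comm_ls a c d hcd hcd' hca hda ξ u]
  group

theorem cj_comm_sl {a c d : ι ⊕ ι} (hcd : c ≠ d) (hcd' : c ≠ ng d) (hca : c ≠ ng a) (hda : d ≠ a) (ξ : Lam F od) (u : F) :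
    cj (S.xs c d u) (S.xl a ξ) = S.xl a ξ := by
  unfold cj
  rw [← S.comm_ls a c d hcd hcd' hca hda ξ u]
  group

theorem cj3 {a b c : ι ⊕ ι} (hab : a ≠ b) (hab' : a ≠ ng b) (hbc : b ≠ c) (hbc' : b ≠ ng c)
    (hac : a ≠ c) (hac' : a ≠ ng c) (t u : F) :
    cj (S.xs a b t) (S.xs b c u) = S.xs a c (t * u) * S.xs b c u := by
  unfold cj
  rw [← S.comm3 a b c hab hab' hbc hbc' hac hac' t u]
  group

theorem cj3' {a b c : ι ⊕ ι} (hab : a ≠ b) (hab' : a ≠ ng b) (hca : c ≠ a) (hca' : c ≠ ng a)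
    (hcb : c ≠ b) (hcb' : c ≠ ng b) (t u : F) :
    cj (S.xs a b t) (S.xs c a u) = S.xs c b (-(u * t)) * S.xs c a u := by
  unfold cj
  rw [S.stub3_xs_neg hcb hcb', ← S.comm3 c a b hca hca' hab hab' hcb hcb' u t]
  group

/-- short, short -> long -/
theorem cj_ssl {a b : ι ⊕ ι} (hab : a ≠ b) (hab' : a ≠ ng b) (t u : F) :
    cj (S.xs a b t) (S.xs b (ng a) u) = S.xl a (Lam.tr (t * u)) * S.xs b (ng a) u := by
  unfold cj
  rw [← S.ssl a b hab hab' t u]
  group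

/-- long, short -/
theorem cj_ls {a b : ι ⊕ ι} (hab : a ≠ b) (hab' : a ≠ ng b) (ξ : Lam F od) (u : F) :
    cj (S.xl a ξ) (S.xs (ng a) b u) =
      S.xs a b (ξ.c * u) * S.xl (ng b) (Lam.act (star u) (Lam.bar ξ)) * S.xs (ng a) b u := by
  unfold cj
  rw [← S.ls a b hab hab' ξ u]
  group

/-- long, long (different indices; trivial in the even case) -/
theorem cj_hh {a b : ι ⊕ ι} (hab : a ≠ b) (hab' : a ≠ ng b) (ξ η : Lam F od) :
    cj (S.xl a ξ) (S.xl b η) = S.xs a (ng b) (-(ξ.v * star η.v)) * S.xl b η := by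
  unfold cj
  rw [← S.hh a b hab hab' ξ η]
  group

end SysU

end Cfsg.Agent.Lib.Helper27.STU
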