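import Mathlib
import Cfsg.Agent.Lib.helper15.St2
import Cfsg.Agent.Lib.helper7.StA
import Cfsg.Agent.Lib.helper7.StC
import Cfsg.Agent.Lib.helper7.StE
import Cfsg.Agent.Lib.Helper24.STCI1
import Cfsg.Agent.Lib.helper23.STCX2
import Cfsg.Agent.Lib.Helper27.STU.Defs
import Cfsg.Agent.Lib.Helper27.STU.Defs2
import Cfsg.Agent.Lib.Helper11.STUB3

/-!
# Project STU (helper27, PSU S2291), row X1: the subgroups `XQ`.  By helper11 (model `helper2.STCX1`).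
-/

set_option autoImplicit false

namespace Cfsg.Agent.Lib.Helper27.STU

open Cfsg.Agent.Lib.helper15.St2 Cfsg.Agent.Lib.helper7.St Cfsg.Agent.Lib.helper3.STC

namespace SysU

variable {F : Type*} [Field F] [StarRing F] {od : Prop} {ι : Type*} {G : Type*} [Group G] (S : SysU F od ι G)

/-- own-name copy of B1 `xl_one` -/
theorem stux1_xl_one (a : ι ⊕ ι) : S.xl a 1 = 1 := by
  have := S.addl a 1 1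
  rw [mul_one] at this
  exact mul_eq_left.mp this

/-- own-name copy of B1 `xl_inv` -/
theorem stux1_xl_inv (a : ι ⊕ ι) (ξ : Lam F od) : S.xl a ξ⁻¹ = (S.xl a ξ)⁻¹ :=
  eq_inv_of_mul_eq_one_left (by rw [S.addl, inv_mul_cancel, S.stux1_xl_one])

section X

/-- X1 [S]  ports of `SysC.x_mem_XQ`, `XQ_mono`, `XQ_le`, `XQ_gens_inv`, `XQ_cj_mem`, `IsMon.cj_mem_XQ`, `x_mem_XQ'`. -/
theorem xs_mem_XQ {Q : ι ⊕ ι → ι ⊕ ι → Prop} {a b : ι ⊕ ι} (hab : a ≠ b) (hab' : a ≠ ng b) (hQ : Q a b) (t : F) :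
    S.xs a b t ∈ S.XQ Q :=
  Subgroup.subset_closure (Or.inl ⟨a, b, t, hab, hab', hQ, rfl⟩)

theorem xl_mem_XQ {Q : ι ⊕ ι → ι ⊕ ι → Prop} {a : ι ⊕ ι} (hQ : Q a (ng a)) (ξ : Lam F od) : S.xl a ξ ∈ S.XQ Q :=
  Subgroup.subset_closure (Or.inr ⟨a, ξ, hQ, rfl⟩)

/-- the symmetric description of a short generator: `xs a b t ∈ XQ Q` as soon as `Q (ng b) (ng a)` -/
theorem xs_mem_XQ' {Q : ι ⊕ ι → ι ⊕ ι → Prop} {a b : ι ⊕ ι} (hab : a ≠ b) (hab' : a ≠ ng b) (hQ : Q (ng b) (ng a)) (t : F) :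
    S.xs a b t ∈ S.XQ Q := by
  rw [S.sym a b hab hab' t]
  refine S.xs_mem_XQ (fun h => hab (ng_inj.mp h).symm) ?_ hQ _
  rw [ng_ng]
  exact fun h => hab' h.symm

theorem XQ_mono {Q Q' : ι ⊕ ι → ι ⊕ ι → Prop} (h : ∀ a b, a ≠ b → Q a b → Q' a b) : S.XQ Q ≤ S.XQ Q' := by
  apply Subgroup.closure_mono
  rintro _ (⟨a, b, t, hab, hab', hQ, rfl⟩ | ⟨a, ξ, hQ, rfl⟩)
  · exact Or.inl ⟨a, b, t, hab, hab', h a b hab hQ, rfl⟩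
  · exact Or.inr ⟨a, ξ, h a (ng a) (ne_ng a) hQ, rfl⟩

theorem XQ_le {Q : ι ⊕ ι → ι ⊕ ι → Prop} {H : Subgroup G}
    (hs : ∀ a b t, a ≠ b → a ≠ ng b → Q a b → S.xs a b t ∈ H) (hl : ∀ a ξ, Q a (ng a) → S.xl a ξ ∈ H) : S.XQ Q ≤ H := by
  apply (Subgroup.closure_le _).2
  rintro _ (⟨a, b, t, hab, hab', hQ, rfl⟩ | ⟨a, ξ, hQ, rfl⟩)
  · exact hs a b t hab hab' hQ
  · exact hl a ξ hQ

theorem XQ_gens_inv (Q : ι ⊕ ι → ι ⊕ ι → Prop) :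
    ∀ s ∈ ({g | ∃ a b t, a ≠ b ∧ a ≠ ng b ∧ Q a b ∧ g = S.xs a b t} ∪ {g | ∃ a ξ, Q a (ng a) ∧ g = S.xl a ξ} : Set G),
      s⁻¹ ∈ ({g | ∃ a b t, a ≠ b ∧ a ≠ ng b ∧ Q a b ∧ g = S.xs a b t} ∪ {g | ∃ a ξ, Q a (ng a) ∧ g = S.xl a ξ} : Set G) := by
  rintro _ (⟨a, b, t, hab, hab', hQ, rfl⟩ | ⟨a, ξ, hQ, rfl⟩)
  · exact Or.inl ⟨a, b, -t, hab, hab', hQ, (S.stub3_xs_neg hab hab' t).symm⟩
  · exact Or.inr ⟨a, ξ⁻¹, hQ, (S.stux1_xl_inv a ξ).symm⟩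

theorem XQ_cj_mem {Q Q' : ι ⊕ ι → ι ⊕ ι → Prop}
    (hs : ∀ a b t, a ≠ b → a ≠ ng b → Q a b → ∀ q ∈ S.XQ Q', cj (S.xs a b t) q ∈ S.XQ Q')
    (hl : ∀ a ξ, Q a (ng a) → ∀ q ∈ S.XQ Q', cj (S.xl a ξ) q ∈ S.XQ Q') :
    ∀ z ∈ S.XQ Q, ∀ q ∈ S.XQ Q', cj z q ∈ S.XQ Q' := by
  apply cj_closure_mem (S.XQ_gens_inv Q)
  rintro _ (⟨a, b, t, hab, hab', hQ, rfl⟩ | ⟨a, ξ, hQ, rfl⟩) q hq
  · exact hs a b t hab hab' hQ q hq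
  · exact hl a ξ hQ q hq

theorem IsMon.cj_mem_XQ {g : G} {π : Equiv.Perm (ι ⊕ ι)} {d : ι ⊕ ι → F} {d0 : F} (hg : S.IsMon g π d d0)
    {Q Q' : ι ⊕ ι → ι ⊕ ι → Prop} (hQ : ∀ k l, k ≠ l → Q k l → Q' (π k) (π l)) :
    ∀ z ∈ S.XQ Q, cj g z ∈ S.XQ Q' := by
  apply cj_mem_of_gens
  rintro _ (⟨k, l, t, hkl, hkl', hQkl, rfl⟩ | ⟨k, ξ, hQk, rfl⟩)
  · rw [hg.2.1 k l hkl hkl']
    refine S.xs_mem_XQ (π.injective.ne hkl) ?_ (hQ k l hkl hQkl) _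
    rw [← hg.1.pi_ng]
    exact π.injective.ne hkl'
  · rw [hg.2.2 k ξ]
    refine S.xl_mem_XQ ?_ _
    rw [← hg.1.pi_ng]
    exact hQ k (ng k) (ne_ng k) hQk

end X

end SysU

end Cfsg.Agent.Lib.Helper27.STU
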