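import Mathlib
import Cfsg.Agent.Lib.Helper20.GLE.Defs
import Cfsg.Agent.Lib.Helper24.STCI1
import Cfsg.Agent.Lib.Helper26.GLEL0
import Cfsg.Agent.Lib.Helper28.SsD
import Cfsg.Agent.Lib.Helper11.STUX1

/-!
# Project GLE (helper20; block of PSU, S2291), row U4 (`B1_gen3`): the long-root `SL₂(F₀)` of the rank two group is generated by three elements.  By helper11.
-/

set_option autoImplicit false

namespace Cfsg.Agent.Lib.Helper20.GLE

open Cfsg.Agent.Lib.helper3.STC (ng ab)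
open Cfsg.Agent.Lib.helper3.SPM (Pts pe sgm sn sig2 ptsFin pe2)
open Cfsg.Agent.Lib.Helper27.STU
open Cfsg.Agent.Lib.helper17.SLP (cm)

universe u v w x v' y

section U
variable {F : Type u} [Field F] [StarRing F] {L : Type x} [Group L] (S₂ : SysU F False (Fin 2) L) (swL : L) (ζ : F)

/-- the long parameter `(0, s θ)`, `s` in the fixed field, `θ` skew -/
def gleu4_lk (θ : F) (hθ : star θ = -θ) (s : selfAdjoint F) : Lam F False :=
  ⟨0, (s : F) * θ, by
    have hs : star (s : F) = s := s.2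
    rw [star_mul', hs, hθ, zero_mul, add_zero]
    ring, fun _ => rfl⟩

theorem gleu4_lk_c (θ : F) (hθ : star θ = -θ) (s : selfAdjoint F) : (gleu4_lk θ hθ s).c = (s : F) * θ := rfl

theorem gleu4_lk_zero (θ : F) (hθ : star θ = -θ) : gleu4_lk θ hθ 0 = 1 :=
  lam_ext (by rw [gleu4_lk_c]; simp)

theorem gleu4_lk_add (θ : F) (hθ : star θ = -θ) (s s' : selfAdjoint F) :
    gleu4_lk θ hθ (s + s') = gleu4_lk θ hθ s * gleu4_lk θ hθ s' :=
  lam_ext (by
    rw [Lam.mul_c, gleu4_lk_c, gleu4_lk_c, gleu4_lk_c]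
    have : (gleu4_lk θ hθ s).v = 0 := rfl
    rw [this]
    push_cast
    ring)

theorem gleu4_lk_neg (θ : F) (hθ : star θ = -θ) (s : selfAdjoint F) :
    gleu4_lk θ hθ (-s) = (gleu4_lk θ hθ s)⁻¹ :=
  lam_ext (by
    rw [Lam.inv_c, lam_c_skew, gleu4_lk_c, gleu4_lk_c]
    push_cast
    ring)

theorem gleu4_lk_surj (θ : F) (hθ : star θ = -θ) (hθ0 : θ ≠ 0) (ξ : Lam F False) :
    ∃ s : selfAdjoint F, gleu4_lk θ hθ s = ξ := by
  refine ⟨⟨ξ.c / θ, ?_⟩, lam_ext ?_⟩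
  · show star (ξ.c / θ) = ξ.c / θ
    rw [star_div₀, lam_c_skew, hθ, neg_div_neg_eq]
  · rw [gleu4_lk_c]
    exact div_mul_cancel₀ ξ.c hθ0

/-- the long root elements of the index `1` lie in `B1` -/
theorem gleu4_xl_mem (a : Fin 2 ⊕ Fin 2) (ha : ab a = 1) (ξ : Lam F False) : S₂.xl a ξ ∈ B1 S₂ := by
  refine S₂.xl_mem_XQ ⟨ha, ?_⟩ ξ
  rw [Cfsg.Agent.Lib.helper3.STC.ab_ng]
  exact ha

theorem gleu4_wl_mem (a : Fin 2 ⊕ Fin 2) (ha : ab a = 1) (ξ : Lam F False) : S₂.wl a ξ ∈ B1 S₂ := by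
  have ha' : ab (ng a) = 1 := by rw [Cfsg.Agent.Lib.helper3.STC.ab_ng]; exact ha
  unfold SysU.wl
  exact mul_mem (mul_mem (gleu4_xl_mem S₂ a ha _) (gleu4_xl_mem S₂ (ng a) ha' _)) (gleu4_xl_mem S₂ a ha _)

theorem gleu4_hl_mem (a : Fin 2 ⊕ Fin 2) (ha : ab a = 1) (ξ η : Lam F False) : S₂.hl a ξ η ∈ B1 S₂ := by
  unfold SysU.hl
  exact mul_mem (gleu4_wl_mem S₂ a ha ξ) (inv_mem (gleu4_wl_mem S₂ a ha η))

/-- conjugation by an element of a subgroup -/
theorem gleu4_cj_mem {K : Subgroup L} {g y : L} (hg : g ∈ K) (hy : y ∈ K) :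
    Cfsg.Agent.Lib.helper15.St2.cj g y ∈ K := by
  unfold Cfsg.Agent.Lib.helper15.St2.cj
  exact mul_mem (mul_mem hg hy) (inv_mem hg)

/-- U4 [M-L]  `B1 S₂ ≅ SL₂(F₀)` is generated by three elements.  `θ` skew non zero, `ξ₁ = (0, θ)`; `F₀ = {s | star s = s}` is a finite field (`Subfield`), `r` a generator of its unit group, `ξ_r = (0, r θ)`;
`b = ![S₂.xl (inl 1) ξ₁, S₂.hl (inl 1) ξ_r ξ₁, S₂.wl (inl 1) ξ₁]` (all in `B1 S₂`).  The torus element multiplies the parameter `c` of `S₂.xl (inl 1) _` by `r * star r = r ^ 2` (`hH.2`, `dhl`, `d0h_even`, `Lam.act`), so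
`S₂.xl (inl 1) (0, s ^ 2 θ)` is in the closure for all fixed `s ≠ 0`; the squares span `F₀` additively (`Cfsg.Agent.Lib.Helper28.SsD.sq_span` or `Helper18.SP4T3.sq_span` for the field `F₀`), `S₂.addl`: all `S₂.xl (inl 1) ξ`
(`lam_ext`; every skew `c` is `s θ` with `s = c / θ` fixed).  The Weyl element exchanges `S₂.xl (inl 1) _` and `S₂.xl (inr 1) _` (`hW.2`, `dwl`, `d0l_even`). -/
theorem B1_gen3 [Finite F] (hF : Hyp F) (hW : S₂.HW) (hH : S₂.HH) :
    ∃ b : Fin 3 → L, (∀ i, b i ∈ B1 S₂) ∧ (B1 S₂ : Set L) ⊆ Subgroup.closure (Set.range b) := by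
  classical
  obtain ⟨θ, hθ0, hθ⟩ := hF.ex_skew
  -- the fixed field and a generator of its unit group
  have hfin : Finite (selfAdjoint F) := Subtype.finite
  obtain ⟨r₀, hr₀⟩ := IsCyclic.exists_generator (α := (selfAdjoint F)ˣ)
  set lk := gleu4_lk θ hθ with hlk
  set ξ₁ : Lam F False := lk 1 with hξ₁
  set ξr : Lam F False := lk (r₀ : selfAdjoint F) with hξr
  have hc1 : ξ₁.c = θ := by
    rw [hξ₁, hlk, gleu4_lk_c]
    simp
  have hcr : ξr.c = ((r₀ : selfAdjoint F) : F) * θ := rfl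
  have hr0 : ((r₀ : selfAdjoint F) : F) ≠ 0 := by
    intro h
    have : (r₀ : selfAdjoint F) = 0 := Subtype.ext h
    exact r₀.ne_zero this
  have hc1' : ξ₁.c ≠ 0 := by rw [hc1]; exact hθ0
  have hcr' : ξr.c ≠ 0 := by rw [hcr]; exact mul_ne_zero hr0 hθ0
  have hratio : ξr.c / ξ₁.c = ((r₀ : selfAdjoint F) : F) := by
    rw [hcr, hc1]
    exact mul_div_cancel_right₀ _ hθ0
  have hrfix : star (((r₀ : selfAdjoint F) : F)) = ((r₀ : selfAdjoint F) : F) := (r₀ : selfAdjoint F).2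
  set b : Fin 3 → L := ![S₂.xl (Sum.inl 1) ξ₁, S₂.hl (Sum.inl 1) ξr ξ₁, S₂.wl (Sum.inl 1) ξ₁] with hb
  have hab1 : ab (Sum.inl 1 : Fin 2 ⊕ Fin 2) = 1 := rfl
  refine ⟨b, ?_, ?_⟩
  · intro i
    fin_cases i
    · exact gleu4_xl_mem S₂ _ hab1 _
    · exact gleu4_hl_mem S₂ _ hab1 _ _
    · exact gleu4_wl_mem S₂ _ hab1 _
  set K : Subgroup L := Subgroup.closure (Set.range b) with hK
  have hb0 : S₂.xl (Sum.inl 1) ξ₁ ∈ K := Subgroup.subset_closure ⟨0, rfl⟩
  have hb1 : S₂.hl (Sum.inl 1) ξr ξ₁ ∈ K := Subgroup.subset_closure ⟨1, rfl⟩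
  have hb2 : S₂.wl (Sum.inl 1) ξ₁ ∈ K := Subgroup.subset_closure ⟨2, rfl⟩
  -- the torus element scales by `r ^ 2`
  have htor : ∀ s : selfAdjoint F, Cfsg.Agent.Lib.helper15.St2.cj (S₂.hl (Sum.inl 1) ξr ξ₁) (S₂.xl (Sum.inl 1) (lk s)) =
      S₂.xl (Sum.inl 1) (lk ((r₀ : selfAdjoint F) * (r₀ : selfAdjoint F) * s)) := by
    intro s
    have h := (hH.2 (Sum.inl 1) ξr ξ₁ hcr' hc1').2.2 (Sum.inl 1) (lk s)
    rw [h, d0h_even hcr' hc1', hratio]
    have e : dhl (Sum.inl 1 : Fin 2 ⊕ Fin 2) (((r₀ : selfAdjoint F) : F)) (Sum.inl 1) = ((r₀ : selfAdjoint F) : F) := by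
      simp [dhl]
    rw [e]
    congr 1
    apply lam_ext
    rw [Lam.act_c, hlk, gleu4_lk_c, gleu4_lk_c]
    simp only [inv_one, mul_one, hrfix]
    push_cast
    ring
  -- the additive subgroup of the parameters which are reached
  let T : AddSubgroup (selfAdjoint F) :=
    { carrier := {s | S₂.xl (Sum.inl 1) (lk s) ∈ K}
      zero_mem' := by
        show S₂.xl (Sum.inl 1) (lk 0) ∈ K
        rw [hlk, gleu4_lk_zero, S₂.stux1_xl_one]
        exact one_mem K
      add_mem' := by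
        intro s s' hs hs'
        show S₂.xl (Sum.inl 1) (lk (s + s')) ∈ K
        rw [hlk, gleu4_lk_add, ← S₂.addl]
        exact mul_mem hs hs'
      neg_mem' := by
        intro s hs
        show S₂.xl (Sum.inl 1) (lk (-s)) ∈ K
        rw [hlk, gleu4_lk_neg, S₂.stux1_xl_inv]
        exact inv_mem hs }
  have hT1 : (1 : selfAdjoint F) ∈ T := hb0
  have hTr : ∀ s ∈ T, (r₀ : selfAdjoint F) * (r₀ : selfAdjoint F) * s ∈ T := by
    intro s hs
    show S₂.xl (Sum.inl 1) (lk ((r₀ : selfAdjoint F) * (r₀ : selfAdjoint F) * s)) ∈ K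
    rw [← htor s]
    exact gleu4_cj_mem hb1 hs
  have hpow : ∀ n : ℕ, ((r₀ : selfAdjoint F) ^ n) * ((r₀ : selfAdjoint F) ^ n) ∈ T := by
    intro n
    induction n with
    | zero => simpa using hT1
    | succ n ih =>
      have := hTr _ ih
      have e : (r₀ : selfAdjoint F) * (r₀ : selfAdjoint F) * ((r₀ : selfAdjoint F) ^ n * (r₀ : selfAdjoint F) ^ n) =
          (r₀ : selfAdjoint F) ^ (n + 1) * (r₀ : selfAdjoint F) ^ (n + 1) := by ring
      rwa [e] at this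
  have hsq : ∀ a : selfAdjoint F, a * a ∈ T := by
    intro a
    by_cases ha : a = 0
    · rw [ha, mul_zero]
      exact T.zero_mem
    · obtain ⟨n, hn⟩ := (mem_powers_iff_mem_zpowers.2 (hr₀ (Units.mk0 a ha)))
      have hn' : (r₀ : selfAdjoint F) ^ n = a := by
        have := congrArg (fun u : (selfAdjoint F)ˣ => (u : selfAdjoint F)) hn
        simpa using this
      rw [← hn']
      exact hpow n
  have hall : ∀ s : selfAdjoint F, s ∈ T := fun s => Cfsg.Agent.Lib.Helper28.Ss.sq_span T hsq s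
  have hxl1 : ∀ ξ : Lam F False, S₂.xl (Sum.inl 1) ξ ∈ K := by
    intro ξ
    obtain ⟨s, rfl⟩ := gleu4_lk_surj θ hθ hθ0 ξ
    exact hall s
  -- the Weyl element exchanges the two long root subgroups
  have hxl2 : ∀ ξ : Lam F False, S₂.xl (Sum.inr 1) ξ ∈ K := by
    intro ξ
    set e : F := dwl (Sum.inl 1 : Fin 2 ⊕ Fin 2) ξ₁ (Sum.inl 1) * (d0l ξ₁)⁻¹ with he
    have he0 : e ≠ 0 := by
      rw [he, d0l_even hc1']
      simp only [dwl, if_true, inv_one, mul_one]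
      apply inv_ne_zero
      intro h
      apply hc1'
      have := congrArg star h
      simpa using this
    have h := (hW.2 (Sum.inl 1) ξ₁ hc1').2.2 (Sum.inl 1) (Lam.act e⁻¹ ξ)
    have hsw : (Equiv.swap (Sum.inl 1 : Fin 2 ⊕ Fin 2) (ng (Sum.inl 1))) (Sum.inl 1) = Sum.inr 1 := by
      rw [Equiv.swap_apply_left]
      rfl
    rw [hsw, ← he] at h
    have hact : Lam.act e (Lam.act e⁻¹ ξ) = ξ := by
      apply lam_ext
      rw [Lam.act_c, Lam.act_c]
      have hse : star e ≠ 0 := by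
        intro h'
        apply he0
        have := congrArg star h'
        simpa using this
      rw [star_inv₀]
      field_simp
    rw [hact] at h
    rw [← h]
    exact gleu4_cj_mem hb2 (hxl1 _)
  -- conclusion
  intro g hg
  have hle : B1 S₂ ≤ K := by
    unfold B1
    apply S₂.XQ_le
    · rintro a b' t hab hab' ⟨ha, hb'⟩
      exfalso
      rcases Cfsg.Agent.Lib.helper3.STC.ab_eq_iff.1 (ha.trans hb'.symm) with h | h
      · exact hab h
      · exact hab' h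
    · rintro a ξ ⟨ha, -⟩
      rcases a with i | i
      · have hi : i = 1 := ha
        subst hi
        exact hxl1 ξ
      · have hi : i = 1 := ha
        subst hi
        exact hxl2 ξ
  exact hle hg

end U

end Cfsg.Agent.Lib.Helper20.GLE
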