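import Mathlib
import Cfsg.Agent.Lib.Helper20.GLO.Defs
import Cfsg.Agent.Lib.Helper11.GLEC4core
import Cfsg.Agent.Lib.Helper11.GLEC2core

/-!
# Project GLO (helper20; odd gluing block of PSU, S2291), rows C2 (`p2_base`, `p4_base`) and C4 (`p1_base`): the cores, on the statements of
Λ0 (`exists_lam_ratio`), I2 (`xrs_zero`), T8a (`pmon_hl`) and the base relators `H.c2`, `H.d4`, `H.c1` in the form of root elements (E8 `lamC_xrs`).  By helper11.
ODD case: the long tori scale by every non zero element of `F`, so the relations are spread from the parameter `1` by scaling alone.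
-/

set_option autoImplicit false

namespace Cfsg.Agent.Lib.Helper20.GLO

open Cfsg.Agent.Lib.helper3.STC (ng ab)
open Cfsg.Agent.Lib.helper3.SPM (Pts pe sgm sn sig2 ptsFin pe2)
open Cfsg.Agent.Lib.Helper27.STU
open Cfsg.Agent.Lib.helper17.SLP (cm)
open Cfsg.Agent.Lib.Helper20.GLE (lamC lamP glec4_dhl_self glec4_dhl_other glec4_conj_cm glec2_commute_conj)

universe u v w x v' y

section main
variable {F : Type u} [Field F] [StarRing F] {L : Type x} [Group L] {ι : Type w} [Fintype ι] [DecidableEq ι] {G : Type v} [Group G]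
  (S₂ : SysU F True (Fin 2) L) (swL : L) (p : Pts ι) (ν : Equiv.Perm ι →* G) (lam : L →* G)

omit [Fintype ι] in
/-- the spreading of a commutation relation `[x_{ij}(t), x_{kl}(u)] = 1` from the parameter `1` to all parameters (`j ∉ {i, k, l}`, `l ∉ {i, j, k}`). -/
theorem gloc2_spread
    (hratio : ∀ r : F, r ≠ 0 → ∃ ξ η : Lam F True, ξ.c ≠ 0 ∧ η.c ≠ 0 ∧ ξ.c / η.c = r)
    (hzero : ∀ a b : ι ⊕ ι, xrs S₂ p ν lam a b (0 : F) = 1)
    (hpmon : ∀ (k : ι) {ξ η : Lam F True}, ξ.c ≠ 0 → η.c ≠ 0 →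
      PMon S₂ p ν lam (hrl S₂ p ν lam (Sum.inl k) ξ η) 1 (dhl (Sum.inl k) (ξ.c / η.c)) (d0h (ξ.c / η.c)))
    {i j k l : ι} (hij : i ≠ j) (hkl : k ≠ l) (hjk : j ≠ k) (hjl : j ≠ l) (hil : i ≠ l)
    (hbase : Commute (xrs S₂ p ν lam (Sum.inl i) (Sum.inl j) 1) (xrs S₂ p ν lam (Sum.inl k) (Sum.inl l) 1)) :
    P4 S₂ p ν lam (Sum.inl i) (Sum.inl j) (Sum.inl k) (Sum.inl l) := by
  set X : F → G := xrs S₂ p ν lam (Sum.inl i) (Sum.inl j) with hX
  set Y : F → G := xrs S₂ p ν lam (Sum.inl k) (Sum.inl l) with hY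
  have hab : ab (Sum.inl i : ι ⊕ ι) ≠ ab (Sum.inl j : ι ⊕ ι) := hij
  have hcd : ab (Sum.inl k : ι ⊕ ι) ≠ ab (Sum.inl l : ι ⊕ ι) := hkl
  -- scaling in the first parameter
  have scaleT : ∀ r : F, r ≠ 0 → ∀ t u : F, Commute (X t) (Y u) → Commute (X (r * t)) (Y u) := by
    intro r hr0 t u hE
    obtain ⟨ξ, η, hξ, hη, hrat⟩ := hratio r⁻¹ (inv_ne_zero hr0)
    have hg := (hpmon j hξ hη).2.1
    rw [hrat] at hg
    set g := hrl S₂ p ν lam (Sum.inl j) ξ η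
    have e1 : g * X t * g⁻¹ = X (r * t) := by
      rw [hX, hg _ _ hab t, glec4_dhl_self, glec4_dhl_other hij]
      simp
    have e2 : g * Y u * g⁻¹ = Y u := by
      rw [hY, hg _ _ hcd u, glec4_dhl_other hjk.symm, glec4_dhl_other hjl.symm]
      simp
    have := glec2_commute_conj g hE
    rwa [e1, e2] at this
  -- scaling in the second parameter
  have scaleU : ∀ r : F, r ≠ 0 → ∀ t u : F, Commute (X t) (Y u) → Commute (X t) (Y (r * u)) := by
    intro r hr0 t u hE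
    obtain ⟨ξ, η, hξ, hη, hrat⟩ := hratio r⁻¹ (inv_ne_zero hr0)
    have hg := (hpmon l hξ hη).2.1
    rw [hrat] at hg
    set g := hrl S₂ p ν lam (Sum.inl l) ξ η
    have e1 : g * X t * g⁻¹ = X t := by
      rw [hX, hg _ _ hab t, glec4_dhl_other hil, glec4_dhl_other hjl]
      simp
    have e2 : g * Y u * g⁻¹ = Y (r * u) := by
      rw [hY, hg _ _ hcd u, glec4_dhl_self, glec4_dhl_other hkl]
      simp
    have := glec2_commute_conj g hE
    rwa [e1, e2] at this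
  intro t u
  by_cases ht : t = 0
  · rw [ht]
    show Commute (X 0) (Y u)
    rw [hX, hzero]
    exact Commute.one_left _
  by_cases hu : u = 0
  · rw [hu]
    show Commute (X t) (Y 0)
    rw [hY, hzero]
    exact Commute.one_right _
  have h1 := scaleT t ht 1 1 hbase
  rw [mul_one] at h1
  have h2 := scaleU u hu t 1 h1
  rw [mul_one] at h2
  exact h2

omit [Fintype ι] in
/-- C2 `p2_base` on the cited statements (`hc2` is `H.c2` rewritten with root elements). -/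
theorem gloc2_p2_core
    (hratio : ∀ r : F, r ≠ 0 → ∃ ξ η : Lam F True, ξ.c ≠ 0 ∧ η.c ≠ 0 ∧ ξ.c / η.c = r)
    (hzero : ∀ a b : ι ⊕ ι, xrs S₂ p ν lam a b (0 : F) = 1)
    (hpmon : ∀ (k : ι) {ξ η : Lam F True}, ξ.c ≠ 0 → η.c ≠ 0 →
      PMon S₂ p ν lam (hrl S₂ p ν lam (Sum.inl k) ξ η) 1 (dhl (Sum.inl k) (ξ.c / η.c)) (d0h (ξ.c / η.c)))
    (hc2 : Commute (xrs S₂ p ν lam (Sum.inl p.o0) (Sum.inl p.o1) 1) (xrs S₂ p ν lam (Sum.inl p.o0) (Sum.inl p.o2) 1)) :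
    P2 S₂ p ν lam (Sum.inl p.o0) (Sum.inl p.o1) (Sum.inl p.o2) :=
  gloc2_spread S₂ p ν lam hratio hzero hpmon p.h01 p.h02 p.h01.symm p.h12 p.h02 hc2

omit [Fintype ι] in
/-- C2 `p4_base` on the cited statements (`hd4` is `H.d4 x hx` rewritten with root elements). -/
theorem gloc2_p4_core
    (hratio : ∀ r : F, r ≠ 0 → ∃ ξ η : Lam F True, ξ.c ≠ 0 ∧ η.c ≠ 0 ∧ ξ.c / η.c = r)
    (hzero : ∀ a b : ι ⊕ ι, xrs S₂ p ν lam a b (0 : F) = 1)
    (hpmon : ∀ (k : ι) {ξ η : Lam F True}, ξ.c ≠ 0 → η.c ≠ 0 →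
      PMon S₂ p ν lam (hrl S₂ p ν lam (Sum.inl k) ξ η) 1 (dhl (Sum.inl k) (ξ.c / η.c)) (d0h (ξ.c / η.c)))
    {x : ι} (hx : x ∈ p.o3)
    (hd4 : Commute (xrs S₂ p ν lam (Sum.inl p.o0) (Sum.inl p.o1) 1) (xrs S₂ p ν lam (Sum.inl p.o2) (Sum.inl x) 1)) :
    P4 S₂ p ν lam (Sum.inl p.o0) (Sum.inl p.o1) (Sum.inl p.o2) (Sum.inl x) := by
  obtain ⟨hx0, hx1, hx2⟩ := p.h3 x hx
  exact gloc2_spread S₂ p ν lam hratio hzero hpmon p.h01 (Ne.symm hx2) p.h12 (Ne.symm hx1) (Ne.symm hx0) hd4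

omit [Fintype ι] in
/-- C4 `p1_base` on the cited statements (`hc1` is `H.c1` rewritten with root elements). -/
theorem gloc4_core
    (hratio : ∀ r : F, r ≠ 0 → ∃ ξ η : Lam F True, ξ.c ≠ 0 ∧ η.c ≠ 0 ∧ ξ.c / η.c = r)
    (hzero : ∀ a b : ι ⊕ ι, xrs S₂ p ν lam a b (0 : F) = 1)
    (hpmon : ∀ (k : ι) {ξ η : Lam F True}, ξ.c ≠ 0 → η.c ≠ 0 →
      PMon S₂ p ν lam (hrl S₂ p ν lam (Sum.inl k) ξ η) 1 (dhl (Sum.inl k) (ξ.c / η.c)) (d0h (ξ.c / η.c)))
    (hc1 : cm (xrs S₂ p ν lam (Sum.inl p.o0) (Sum.inl p.o1) 1) (xrs S₂ p ν lam (Sum.inl p.o1) (Sum.inl p.o2) 1) =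
        xrs S₂ p ν lam (Sum.inl p.o0) (Sum.inl p.o2) 1) :
    P1 S₂ p ν lam (Sum.inl p.o0) (Sum.inl p.o1) (Sum.inl p.o2) := by
  set X01 : F → G := xrs S₂ p ν lam (Sum.inl p.o0) (Sum.inl p.o1) with hX01
  set X12 : F → G := xrs S₂ p ν lam (Sum.inl p.o1) (Sum.inl p.o2) with hX12
  set X02 : F → G := xrs S₂ p ν lam (Sum.inl p.o0) (Sum.inl p.o2) with hX02
  have h01 : ab (Sum.inl p.o0 : ι ⊕ ι) ≠ ab (Sum.inl p.o1 : ι ⊕ ι) := p.h01
  have h12 : ab (Sum.inl p.o1 : ι ⊕ ι) ≠ ab (Sum.inl p.o2 : ι ⊕ ι) := p.h12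
  have h02 : ab (Sum.inl p.o0 : ι ⊕ ι) ≠ ab (Sum.inl p.o2 : ι ⊕ ι) := p.h02
  -- scaling in the first parameter
  have scaleT : ∀ r : F, r ≠ 0 → ∀ t u : F, cm (X01 t) (X12 u) = X02 (t * u) →
      cm (X01 (r * t)) (X12 u) = X02 (r * t * u) := by
    intro r hr0 t u hE
    obtain ⟨ξ, η, hξ, hη, hrat⟩ := hratio r hr0
    have hg := (hpmon p.o0 hξ hη).2.1
    rw [hrat] at hg
    set g := hrl S₂ p ν lam (Sum.inl p.o0) ξ η
    have e01 : g * X01 t * g⁻¹ = X01 (r * t) := by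
      rw [hX01, hg _ _ h01 t, glec4_dhl_self, glec4_dhl_other p.h01.symm]
      simp
    have e12 : g * X12 u * g⁻¹ = X12 u := by
      rw [hX12, hg _ _ h12 u, glec4_dhl_other p.h01.symm, glec4_dhl_other p.h02.symm]
      simp
    have e02 : g * X02 (t * u) * g⁻¹ = X02 (r * t * u) := by
      rw [hX02, hg _ _ h02 (t * u), glec4_dhl_self, glec4_dhl_other p.h02.symm]
      simp [mul_assoc]
    have hcj : g * cm (X01 t) (X12 u) * g⁻¹ = g * X02 (t * u) * g⁻¹ := by rw [hE]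
    rw [glec4_conj_cm, e01, e12, e02] at hcj
    exact hcj
  -- scaling in the second parameter
  have scaleU : ∀ r : F, r ≠ 0 → ∀ t u : F, cm (X01 t) (X12 u) = X02 (t * u) →
      cm (X01 t) (X12 (r * u)) = X02 (t * (r * u)) := by
    intro r hr0 t u hE
    obtain ⟨ξ, η, hξ, hη, hrat⟩ := hratio r⁻¹ (inv_ne_zero hr0)
    have hg := (hpmon p.o2 hξ hη).2.1
    rw [hrat] at hg
    set g := hrl S₂ p ν lam (Sum.inl p.o2) ξ η
    have e01 : g * X01 t * g⁻¹ = X01 t := by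
      rw [hX01, hg _ _ h01 t, glec4_dhl_other p.h02, glec4_dhl_other p.h12]
      simp
    have e12 : g * X12 u * g⁻¹ = X12 (r * u) := by
      rw [hX12, hg _ _ h12 u, glec4_dhl_self, glec4_dhl_other p.h12]
      simp
    have e02 : g * X02 (t * u) * g⁻¹ = X02 (t * (r * u)) := by
      rw [hX02, hg _ _ h02 (t * u), glec4_dhl_self, glec4_dhl_other p.h02]
      congr 1
      simp only [inv_inv, one_mul]
      ring
    have hcj : g * cm (X01 t) (X12 u) * g⁻¹ = g * X02 (t * u) * g⁻¹ := by rw [hE]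
    rw [glec4_conj_cm, e01, e12, e02] at hcj
    exact hcj
  intro t u
  by_cases ht : t = 0
  · rw [ht, zero_mul]
    show cm (X01 0) (X12 u) = X02 0
    rw [hX01, hzero, hX02, hzero]
    unfold cm
    group
  by_cases hu : u = 0
  · rw [hu, mul_zero]
    show cm (X01 t) (X12 0) = X02 0
    rw [hX12, hzero, hX02, hzero]
    unfold cm
    group
  have hb : cm (X01 1) (X12 1) = X02 (1 * 1) := by rw [mul_one]; exact hc1
  have h1 := scaleT t ht 1 1 hb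
  rw [mul_one] at h1
  have h2 := scaleU u hu t 1 h1
  rw [mul_one] at h2
  exact h2

end main

end Cfsg.Agent.Lib.Helper20.GLO
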