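import Mathlib
import Cfsg.Agent.Lib.Helper20.GLO.Defs
import Cfsg.Agent.Lib.Helper20.SPMA1
import Cfsg.Agent.Lib.Helper29.SPMA3
import Cfsg.Agent.Lib.Helper29.SPMA4
import Cfsg.Agent.Lib.Helper24.STCI1
import Cfsg.Agent.Lib.Helper9.GLEE1
import Cfsg.Agent.Lib.Helper9.GLOE5

/-!
# Project GLO (helper20; odd gluing block of PSU, S2291), rows T4a (`hl_pair_s hl_pair_l`) and T4b (`wl_pair_s wl_pair_l`), verbatim vs `Helper20/GLO/SkelA.lean.txt`.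
Writer: helper11 (mechanical port of helper24's `Helper24/GLET4.lean`; the coefficients `d0h`, `d0l` stay in the long clauses).
-/

set_option autoImplicit false
set_option linter.unusedSectionVars false

namespace Cfsg.Agent.Lib.Helper20.GLO

open Cfsg.Agent.Lib.helper3.STC (ng ab)
open Cfsg.Agent.Lib.helper3.SPM (Pts pe sgm sn sig2 ptsFin pe2)
open Cfsg.Agent.Lib.Helper27.STU
open Cfsg.Agent.Lib.helper17.SLP (cm)
open Cfsg.Agent.Lib.Helper20.GLE (lamC lamP)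

universe u v w x v' y

section aux

variable {F : Type u} [Field F] [StarRing F] {ι : Type w} [DecidableEq ι]

theorem glot4_dhl {k j : ι} (hkj : k ≠ j) (r : F) (a' : Fin 2 ⊕ Fin 2) :
    dhl (Sum.inl k) r (pe2 k j a') = dhl (Sum.inl (0 : Fin 2)) r a' := by
  have hinj := Cfsg.Agent.Lib.helper3.SPM.pe2_injective hkj
  unfold dhl
  have e1 : (pe2 k j a' = Sum.inl k) ↔ (a' = Sum.inl 0) := by
    rw [← Cfsg.Agent.Lib.helper3.SPM.spma4_pe2_inl0 k j]; exact hinj.eq_iff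
  have e2 : (pe2 k j a' = ng (Sum.inl k)) ↔ (a' = ng (Sum.inl 0)) := by
    show (pe2 k j a' = Sum.inr k) ↔ (a' = Sum.inr 0)
    rw [← Cfsg.Agent.Lib.helper3.SPM.spma4_pe2_inr0 k j]; exact hinj.eq_iff
  simp only [e1, e2]

theorem glot4_dwl {k j : ι} (hkj : k ≠ j) (ξ : Lam F True) (a' : Fin 2 ⊕ Fin 2) :
    dwl (Sum.inl k) ξ (pe2 k j a') = dwl (Sum.inl (0 : Fin 2)) ξ a' := by
  have hinj := Cfsg.Agent.Lib.helper3.SPM.pe2_injective hkj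
  unfold dwl
  have e1 : (pe2 k j a' = Sum.inl k) ↔ (a' = Sum.inl 0) := by
    rw [← Cfsg.Agent.Lib.helper3.SPM.spma4_pe2_inl0 k j]; exact hinj.eq_iff
  have e2 : (pe2 k j a' = ng (Sum.inl k)) ↔ (a' = ng (Sum.inl 0)) := by
    show (pe2 k j a' = Sum.inr k) ↔ (a' = Sum.inr 0)
    rw [← Cfsg.Agent.Lib.helper3.SPM.spma4_pe2_inr0 k j]; exact hinj.eq_iff
  simp only [e1, e2]

theorem glot4_swap {k j : ι} (hkj : k ≠ j) (a' : Fin 2 ⊕ Fin 2) :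
    pe2 k j (Equiv.swap (Sum.inl 0) (Sum.inr 0) a') = Equiv.swap (Sum.inl k) (Sum.inr k) (pe2 k j a') := by
  rw [← Cfsg.Agent.Lib.helper3.SPM.spma4_pe2_inl0 k j, ← Cfsg.Agent.Lib.helper3.SPM.spma4_pe2_inr0 k j]
  exact ((Cfsg.Agent.Lib.helper3.SPM.pe2_injective hkj).swap_apply _ _ _).symm

theorem glot4_ab_ne {k j : ι} {a' b' : Fin 2 ⊕ Fin 2} (h : ab (pe2 k j a') ≠ ab (pe2 k j b')) : ab a' ≠ ab b' := by
  intro e
  apply h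
  rw [Cfsg.Agent.Lib.helper3.SPM.ab_pe2, Cfsg.Agent.Lib.helper3.SPM.ab_pe2, e]

end aux

section main
variable {F : Type u} [Field F] [StarRing F] {L : Type x} [Group L] {ι : Type w} [Fintype ι] [DecidableEq ι] {G : Type v} [Group G]
  (S₂ : SysU F True (Fin 2) L) (swL : L) (p : Pts ι) (ν : Equiv.Perm ι →* G) (lam : L →* G)

theorem glot4_wrl_pair (H : Glue S₂ swL p ν lam) (hU : UFacts S₂ swL) {i j : ι} (hij : i ≠ j) (a' : Fin 2 ⊕ Fin 2) (ξ : Lam F True) :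
    lamP p ν lam i j (S₂.wl a' ξ) = wrl S₂ p ν lam (pe2 i j a') ξ := by
  unfold SysU.wl wrl
  rw [map_mul, map_mul, xrl_pair S₂ swL p ν lam H hU hij, xrl_pair S₂ swL p ν lam H hU hij,
    xrl_pair S₂ swL p ν lam H hU hij, Cfsg.Agent.Lib.helper3.SPM.pe2_ng]

theorem glot4_hrl_pair (H : Glue S₂ swL p ν lam) (hU : UFacts S₂ swL) {i j : ι} (hij : i ≠ j) (a' : Fin 2 ⊕ Fin 2) (ξ η : Lam F True) :
    lamP p ν lam i j (S₂.hl a' ξ η) = hrl S₂ p ν lam (pe2 i j a') ξ η := by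
  unfold SysU.hl hrl
  rw [map_mul, map_inv, glot4_wrl_pair S₂ swL p ν lam H hU hij, glot4_wrl_pair S₂ swL p ν lam H hU hij]

theorem glot4_pmon_pair_s (H : Glue S₂ swL p ν lam) (hU : UFacts S₂ swL) {i j : ι} (hij : i ≠ j) {g : L} {π' : Equiv.Perm (Fin 2 ⊕ Fin 2)}
    {d' : Fin 2 ⊕ Fin 2 → F} {d0' : F} (hg : S₂.IsMon g π' d' d0') {a' b' : Fin 2 ⊕ Fin 2} (hab' : ab a' ≠ ab b') (t : F) :
    lamP p ν lam i j g * xrs S₂ p ν lam (pe2 i j a') (pe2 i j b') t * (lamP p ν lam i j g)⁻¹ =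
      xrs S₂ p ν lam (pe2 i j (π' a')) (pe2 i j (π' b')) (d' a' * (d' b')⁻¹ * t) := by
  have hne : a' ≠ b' := fun h => hab' (by rw [h])
  have hne' : a' ≠ ng b' := fun h => hab' (by rw [h, Cfsg.Agent.Lib.helper3.STC.ab_ng])
  have h2 := hg.2.1 a' b' hne hne' t
  have hπ : ab (π' a') ≠ ab (π' b') := by
    intro h
    rcases Cfsg.Agent.Lib.helper3.STC.ab_eq_iff.mp h with h | h
    · exact hne (π'.injective h)
    · rw [← hg.1.pi_ng] at h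
      exact hne' (π'.injective h)
  rw [← xrs_pair S₂ swL p ν lam H hU hij hab', ← xrs_pair S₂ swL p ν lam H hU hij hπ, ← map_inv, ← map_mul, ← map_mul]
  congr 1

theorem glot4_pmon_pair_l (H : Glue S₂ swL p ν lam) (hU : UFacts S₂ swL) {i j : ι} (hij : i ≠ j) {g : L} {π' : Equiv.Perm (Fin 2 ⊕ Fin 2)}
    {d' : Fin 2 ⊕ Fin 2 → F} {d0' : F} (hg : S₂.IsMon g π' d' d0') (a' : Fin 2 ⊕ Fin 2) (ξ : Lam F True) :
    lamP p ν lam i j g * xrl S₂ p ν lam (pe2 i j a') ξ * (lamP p ν lam i j g)⁻¹ =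
      xrl S₂ p ν lam (pe2 i j (π' a')) (Lam.act (d' a' * d0'⁻¹) ξ) := by
  have h2 := hg.2.2 a' ξ
  rw [← xrl_pair S₂ swL p ν lam H hU hij, ← xrl_pair S₂ swL p ν lam H hU hij, ← map_inv, ← map_mul, ← map_mul]
  congr 1

theorem hl_pair_s (H : Glue S₂ swL p ν lam) (hU : UFacts S₂ swL) {k j : ι} (hkj : k ≠ j) {ξ η : Lam F True} (hξ : ξ.c ≠ 0) (hη : η.c ≠ 0)
    {a b : ι ⊕ ι} (hab : ab a ≠ ab b) (ha : ab a = k ∨ ab a = j) (hb : ab b = k ∨ ab b = j) (t : F) :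
    hrl S₂ p ν lam (Sum.inl k) ξ η * xrs S₂ p ν lam a b t * (hrl S₂ p ν lam (Sum.inl k) ξ η)⁻¹ =
      xrs S₂ p ν lam a b (dhl (Sum.inl k) (ξ.c / η.c) a * (dhl (Sum.inl k) (ξ.c / η.c) b)⁻¹ * t) := by
  obtain ⟨a', rfl⟩ := Cfsg.Agent.Lib.helper3.SPM.exists_pe2 k j ha
  obtain ⟨b', rfl⟩ := Cfsg.Agent.Lib.helper3.SPM.exists_pe2 k j hb
  have hab' : ab a' ≠ ab b' := glot4_ab_ne hab
  have hm := hU.hH.2 (Sum.inl 0) ξ η hξ hη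
  have := glot4_pmon_pair_s S₂ swL p ν lam H hU hkj hm hab' t
  rw [glot4_hrl_pair S₂ swL p ν lam H hU hkj, Cfsg.Agent.Lib.helper3.SPM.spma4_pe2_inl0] at this
  rw [this, glot4_dhl hkj, glot4_dhl hkj]
  rfl

theorem hl_pair_l (H : Glue S₂ swL p ν lam) (hU : UFacts S₂ swL) {k j : ι} (hkj : k ≠ j) {ξ η : Lam F True} (hξ : ξ.c ≠ 0) (hη : η.c ≠ 0)
    {a : ι ⊕ ι} (ha : ab a = k ∨ ab a = j) (ξ' : Lam F True) :
    hrl S₂ p ν lam (Sum.inl k) ξ η * xrl S₂ p ν lam a ξ' * (hrl S₂ p ν lam (Sum.inl k) ξ η)⁻¹ =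
      xrl S₂ p ν lam a (Lam.act (dhl (Sum.inl k) (ξ.c / η.c) a * (d0h (ξ.c / η.c))⁻¹) ξ') := by
  obtain ⟨a', rfl⟩ := Cfsg.Agent.Lib.helper3.SPM.exists_pe2 k j ha
  have hm := hU.hH.2 (Sum.inl 0) ξ η hξ hη
  have := glot4_pmon_pair_l S₂ swL p ν lam H hU hkj hm a' ξ'
  rw [glot4_hrl_pair S₂ swL p ν lam H hU hkj, Cfsg.Agent.Lib.helper3.SPM.spma4_pe2_inl0] at this
  rw [this, glot4_dhl hkj]
  rfl

theorem wl_pair_s (H : Glue S₂ swL p ν lam) (hU : UFacts S₂ swL) {k j : ι} (hkj : k ≠ j) {ξ : Lam F True} (hξ : ξ.c ≠ 0)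
    {a b : ι ⊕ ι} (hab : ab a ≠ ab b) (ha : ab a = k ∨ ab a = j) (hb : ab b = k ∨ ab b = j) (t : F) :
    wrl S₂ p ν lam (Sum.inl k) ξ * xrs S₂ p ν lam a b t * (wrl S₂ p ν lam (Sum.inl k) ξ)⁻¹ =
      xrs S₂ p ν lam (Equiv.swap (Sum.inl k) (Sum.inr k) a) (Equiv.swap (Sum.inl k) (Sum.inr k) b)
        (dwl (Sum.inl k) ξ a * (dwl (Sum.inl k) ξ b)⁻¹ * t) := by
  obtain ⟨a', rfl⟩ := Cfsg.Agent.Lib.helper3.SPM.exists_pe2 k j ha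
  obtain ⟨b', rfl⟩ := Cfsg.Agent.Lib.helper3.SPM.exists_pe2 k j hb
  have hab' : ab a' ≠ ab b' := glot4_ab_ne hab
  have hm : S₂.IsMon (S₂.wl (Sum.inl 0) ξ) (Equiv.swap (Sum.inl 0) (Sum.inr 0)) (dwl (Sum.inl 0) ξ) (d0l ξ) :=
    hU.hW.2 (Sum.inl 0) ξ hξ
  have := glot4_pmon_pair_s S₂ swL p ν lam H hU hkj hm hab' t
  rw [glot4_wrl_pair S₂ swL p ν lam H hU hkj, Cfsg.Agent.Lib.helper3.SPM.spma4_pe2_inl0] at this
  rw [this, glot4_dwl hkj, glot4_dwl hkj, glot4_swap hkj, glot4_swap hkj]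

theorem wl_pair_l (H : Glue S₂ swL p ν lam) (hU : UFacts S₂ swL) {k j : ι} (hkj : k ≠ j) {ξ : Lam F True} (hξ : ξ.c ≠ 0)
    {a : ι ⊕ ι} (ha : ab a = k ∨ ab a = j) (ξ' : Lam F True) :
    wrl S₂ p ν lam (Sum.inl k) ξ * xrl S₂ p ν lam a ξ' * (wrl S₂ p ν lam (Sum.inl k) ξ)⁻¹ =
      xrl S₂ p ν lam (Equiv.swap (Sum.inl k) (Sum.inr k) a) (Lam.act (dwl (Sum.inl k) ξ a * (d0l ξ)⁻¹) ξ') := by
  obtain ⟨a', rfl⟩ := Cfsg.Agent.Lib.helper3.SPM.exists_pe2 k j ha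
  have hm : S₂.IsMon (S₂.wl (Sum.inl 0) ξ) (Equiv.swap (Sum.inl 0) (Sum.inr 0)) (dwl (Sum.inl 0) ξ) (d0l ξ) :=
    hU.hW.2 (Sum.inl 0) ξ hξ
  have := glot4_pmon_pair_l S₂ swL p ν lam H hU hkj hm a' ξ'
  rw [glot4_wrl_pair S₂ swL p ν lam H hU hkj, Cfsg.Agent.Lib.helper3.SPM.spma4_pe2_inl0] at this
  rw [this, glot4_dwl hkj, glot4_swap hkj]

end main

end Cfsg.Agent.Lib.Helper20.GLO
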