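import Mathlib
import Cfsg.Agent.Lib.Helper20.GLO.Defs
import Cfsg.Agent.Lib.Helper20.GLO.DefsP

/-!
# Project GLO (helper20; odd gluing block of PSU, S2291), rows P5 (`marked_of_iso`) and P6 (`exists_wL`), verbatim vs `Helper20/GLO/SkelP.lean.txt`.  By helper11 (port of `Helper11/GLEP5`).
-/

set_option autoImplicit false

namespace Cfsg.Agent.Lib.Helper20.GLO

open Cfsg.Agent.Lib.helper3.STC (ng ab)
open Cfsg.Agent.Lib.helper3.SPM (Pts pe sgm sn sig2 ptsFin pe2 evN)
open Cfsg.Agent.Lib.Helper20.GLE (lamC lamP)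
open Cfsg.Agent.Lib.Helper27.STU
open Cfsg.Agent.Lib.helper17.SLP (cm)

universe u v w x v' y

section P

variable {F : Type u} [Field F] [StarRing F] {L : Type x} [Group L] {ι : Type w} [Fintype ι] [DecidableEq ι] {k l : ℕ}
  (S₂ : SysU F True (Fin 2) L) (swL : L)

/-- P5 [S-M]  model GLE P5: a marked presentation from an isomorphism (`gL i := e (PresentedGroup.of i)`; `PresentedGroup.toGroup`, `PresentedGroup.closure_range_of`, `MonoidHom.comp` with `e.symm`; cf. SPM P05 `sp4_marked`). -/
theorem marked_of_iso (rels : Finset (FreeGroup (Fin l))) (e : PresentedGroup (↑rels : Set (FreeGroup (Fin l))) ≃* L) :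
    ∃ gL : Fin l → L, (∀ r ∈ rels, evN gL r = 1) ∧ Subgroup.closure (Set.range gL) = ⊤ ∧
      ∀ (G : Type) [Group G] (g : Fin l → G), (∀ r ∈ rels, evN g r = 1) → ∃ φ : L →* G, ∀ i, φ (gL i) = g i := by
  refine ⟨fun i => e (PresentedGroup.of i), ?_, ?_, ?_⟩
  · intro r hr
    have h : evN (fun i => e (PresentedGroup.of i)) =
        e.toMonoidHom.comp (PresentedGroup.mk (↑rels : Set (FreeGroup (Fin l)))) := by
      apply FreeGroup.ext_hom
      intro i
      simp [evN, PresentedGroup.of]
    rw [h, MonoidHom.comp_apply]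
    have h1 : PresentedGroup.mk (↑rels : Set (FreeGroup (Fin l))) r = 1 :=
      (PresentedGroup.mk_eq_one_iff).2 (Subgroup.subset_normalClosure (Finset.mem_coe.2 hr))
    rw [h1, map_one]
  · have h := PresentedGroup.closure_range_of (↑rels : Set (FreeGroup (Fin l)))
    have h2 : Set.range (fun i => e (PresentedGroup.of i)) =
        e.toMonoidHom '' Set.range (PresentedGroup.of (rels := (↑rels : Set (FreeGroup (Fin l))))) := by
      ext y
      constructor
      · rintro ⟨i, rfl⟩
        exact ⟨PresentedGroup.of i, ⟨i, rfl⟩, rfl⟩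
      · rintro ⟨_, ⟨i, rfl⟩, rfl⟩
        exact ⟨i, rfl⟩
    rw [h2, ← MonoidHom.map_closure, h, ← MonoidHom.range_eq_map, MonoidHom.range_eq_top]
    exact e.surjective
  · intro G _ g hg
    have hg' : ∀ r ∈ (↑rels : Set (FreeGroup (Fin l))), FreeGroup.lift g r = 1 := fun r hr => hg r (Finset.mem_coe.1 hr)
    refine ⟨(PresentedGroup.toGroup hg').comp e.symm.toMonoidHom, ?_⟩
    intro i
    rw [MonoidHom.comp_apply]
    show PresentedGroup.toGroup hg' (e.symm (e (PresentedGroup.of i))) = g i
    rw [MulEquiv.symm_apply_apply, PresentedGroup.toGroup.of]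

omit [Fintype ι] [DecidableEq ι] in
/-- P6 [S-M]  model SPM P6: words for the elements of `L` (choice; `Subgroup.closure_induction` on `hgen`). -/
theorem exists_wL (gL : Fin l → L) (hgen : Subgroup.closure (Set.range gL) = ⊤) :
    ∃ wL : L → FreeGroup (Fin l), ∀ m, evN gL (wL m) = m := by
  have hsurj : Function.Surjective (evN gL) := by
    rw [← MonoidHom.range_eq_top]
    unfold evN
    rw [FreeGroup.range_lift_eq_closure, hgen]
  exact ⟨Function.surjInv hsurj, Function.surjInv_eq hsurj⟩

end P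

end Cfsg.Agent.Lib.Helper20.GLO
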