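import Mathlib
import Cfsg.Prelude.Def_ChevStructure
import Cfsg.Agent.Lib.helper14.INV.F4Defs
import Cfsg.Agent.Lib.helper14.F4Ch
import Cfsg.Agent.Lib.helper8.ChevCent1
import Cfsg.Agent.Lib.helper8.ChevCnt1
import Cfsg.Agent.Lib.helper8.ChevAU2

/-!
# Project INV (S2174) : piece MEM
-/

set_option autoImplicit false
set_option linter.unusedVariables false

namespace Cfsg.Agent.Lib.helper14.INV

open Cfsg.Lie Cfsg.Lie.ChevalleyDatum Cfsg.Agent.Lib.helper8 Cfsg.Agent.Lib.helper14

universe u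

variable {F : Type u} [Field F]

/-- a root element with parameter `1` squares to `1` in characteristic two -/
theorem invmem_x_sq [CharP F 2] (D : ChevalleyDatum) (hB : H8Base.{u} D) (r : ℕ)
    (hr : r < D.nroots) : h8xU D hB r (1 : F) * h8xU D hB r 1 = 1 := by
  rw [h8xU_add D hB r hr, CharTwo.add_self_eq_zero, h8xU_zero]

/-- the product of two commuting distinct root elements (parameter `1`) is an involution -/
theorem invmem_pair [CharP F 2] (D : ChevalleyDatum) (hB : H8Base.{u} D) (hA : H8ReflAll D)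
    (hBN : H8BN D) (hW : H8BN2 D) (hO2 : H8Ord2 D) (r s : ℕ) (hr : r < D.nroots)
    (hs : s < D.nroots) (hrs : r ≠ s)
    (hc : h8xU D hB s (1 : F) * h8xU D hB r 1 = h8xU D hB r 1 * h8xU D hB s 1) :
    orderOf (h8xU D hB r (1 : F) * h8xU D hB s 1) = 2 := by
  have h1 : (1 : F) ≠ 0 := one_ne_zero
  apply orderOf_eq_prime
  · rw [pow_two]
    calc h8xU D hB r (1 : F) * h8xU D hB s 1 * (h8xU D hB r 1 * h8xU D hB s 1)
        = h8xU D hB r (1 : F) * (h8xU D hB s 1 * h8xU D hB r 1) * h8xU D hB s 1 := by group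
      _ = h8xU D hB r (1 : F) * (h8xU D hB r 1 * h8xU D hB s 1) * h8xU D hB s 1 := by rw [hc]
      _ = (h8xU D hB r (1 : F) * h8xU D hB r 1) * (h8xU D hB s 1 * h8xU D hB s 1) := by group
      _ = 1 := by rw [invmem_x_sq D hB r hr, invmem_x_sq D hB s hs, one_mul]
  · intro h
    have h2 : h8xU D hB r (1 : F) = h8xU D hB s (-1) := by
      rw [← h8xU_inv, eq_inv_iff_mul_eq_one]
      exact h
    exact hrs (h8x_inj_root D hB hA hBN hW hO2 r s hr hs 1 (-1) h1 (neg_ne_zero.mpr h1) h2)

/-- MEM : the four representatives are involutions of `G` -/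
theorem f4_mem_order [CharP F 2] (hB : H8Base.{u} chevF4) (a : List ℕ) (ha : a ∈ f4Reps) :
    (w1 chevF4 hB a : GL chevF4.Idx F) ∈ chevF4.group F ∧
      orderOf (w1 chevF4 hB a : GL chevF4.Idx F) = 2 := by
  refine ⟨h8wordU_mem_group chevF4 hB _, ?_⟩
  have hD := f4c_mem_list
  have hA := h8reflAll chevF4 hD
  have hC := h8commAll.{u} chevF4 hD
  have hBN := h8bn_all chevF4 hD
  have hW := h8bn2_all chevF4 hD
  obtain ⟨hO, hO2⟩ := h8ord_all chevF4 hD
  have h1 : (1 : F) ≠ 0 := one_ne_zero
  have hn : chevF4.nroots = 48 := rfl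
  have hsingle : ∀ r : ℕ, r < 48 → orderOf (w1 chevF4 hB [r] : GL chevF4.Idx F) = 2 := by
    intro r hr
    have e : (w1 chevF4 hB [r] : GL chevF4.Idx F) = h8xU chevF4 hB r 1 := by
      unfold w1
      rw [List.map_cons, List.map_nil, h8wordU_cons]
      unfold h8wordU
      rw [List.map_nil, List.prod_nil, mul_one]
    rw [e]
    apply orderOf_eq_prime
    · rw [pow_two]
      exact invmem_x_sq chevF4 hB r (by rw [hn]; exact hr)
    · exact h8au_xU_ne_one chevF4 hB hA hW r (by rw [hn]; exact hr) 1 h1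
  have hpair : ∀ r s : ℕ, r < 48 → s < 48 → r ≠ s → s ≠ chevF4.negIdx.getD r 0 →
      chevF4.commTerms r s = [] →
      orderOf (w1 chevF4 hB [r, s] : GL chevF4.Idx F) = 2 := by
    intro r s hr hs hrs hsn hct
    have e : (w1 chevF4 hB [r, s] : GL chevF4.Idx F) =
        h8xU chevF4 hB r 1 * h8xU chevF4 hB s 1 := by
      unfold w1
      rw [List.map_cons, List.map_cons, List.map_nil, h8wordU_cons, h8wordU_cons]
      unfold h8wordU
      rw [List.map_nil, List.prod_nil, mul_one]
    rw [e]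
    apply invmem_pair chevF4 hB hA hBN hW hO2 r s (by rw [hn]; exact hr) (by rw [hn]; exact hs) hrs
    apply h8comm_of_zero chevF4 hB hC r s (by rw [hn]; exact hr) (by rw [hn]; exact hs) hsn
    intro _ c hc
    rw [hct] at hc
    exact absurd hc (List.not_mem_nil)
  simp only [f4Reps, List.mem_cons, List.not_mem_nil, or_false] at ha
  rcases ha with rfl | rfl | rfl | rfl
  · exact hsingle 47 (by norm_num)
  · exact hsingle 44 (by norm_num)
  · exact hpair 47 44 (by norm_num) (by norm_num) (by norm_num) (by decide) (by decide)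
  · exact hpair 39 45 (by norm_num) (by norm_num) (by norm_num) (by decide) (by decide)

end Cfsg.Agent.Lib.helper14.INV
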