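import Mathlib
import Cfsg.Prelude.Def_ChevStructure
import Cfsg.Agent.Lib.helper14.INV.F4Defs
import Cfsg.Agent.Lib.helper14.F4Ch
import Cfsg.Agent.Lib.helper8.ChevCent1
import Cfsg.Agent.Lib.helper8.ChevNgen
import Cfsg.Agent.Lib.helper8.ChevBN2

/-!
# Project INV (S2174) : piece STDN
-/

set_option autoImplicit false
set_option linter.unusedVariables false

namespace Cfsg.Agent.Lib.helper14.INV

open Cfsg.Lie Cfsg.Lie.ChevalleyDatum Cfsg.Agent.Lib.helper8 Cfsg.Agent.Lib.helper14

universe u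

variable {F : Type u} [Field F]

/-- `n_r(1)` is an involution in characteristic two -/
theorem invstdn_n_sq [CharP F 2] (D : ChevalleyDatum) (hB : H8Base.{u} D) (r : ℕ) :
    h8nU D hB r (1 : F) * h8nU D hB r 1 = 1 := by
  have h := h8nU_neg D hB r (1 : F)
  rw [CharTwo.neg_eq] at h
  calc h8nU D hB r (1 : F) * h8nU D hB r 1 = h8nU D hB r (1 : F) * (h8nU D hB r 1)⁻¹ := by
        rw [← h]
    _ = 1 := mul_inv_cancel _

/-- the root subgroups of `r` and `s` commute in characteristic two: all structure constants are even -/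
def invstdnChk1 (D : ChevalleyDatum) (r s : ℕ) : Bool :=
  decide (r < D.nroots) && decide (s < D.nroots) && decide (s ≠ r) &&
    decide (s ≠ D.negIdx.getD r 0) && (D.commTerms r s).all (fun c => c.2.1 % 2 == 0)

/-- the check for `±r`, `±s` -/
def invstdnChk (D : ChevalleyDatum) (r s : ℕ) : Bool :=
  invstdnChk1 D r s && invstdnChk1 D r (D.neg s) && invstdnChk1 D (D.neg r) s &&
    invstdnChk1 D (D.neg r) (D.neg s)

theorem invstdn_comm1 [CharP F 2] (D : ChevalleyDatum) (hB : H8Base.{u} D) (hC : H8CommAll.{u} D)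
    (r s : ℕ) (h : invstdnChk1 D r s = true) (t v : F) :
    Commute (h8xU D hB r t) (h8xU D hB s v) := by
  unfold invstdnChk1 at h
  simp only [Bool.and_eq_true, decide_eq_true_eq, List.all_eq_true, beq_iff_eq] at h
  obtain ⟨⟨⟨⟨hr, hs⟩, hsr⟩, hsn⟩, hall⟩ := h
  have := h8comm_of_zero D hB hC r s hr hs hsn (fun _ c hc => by
    have h2 := hall c hc
    have h3 : (2 : ℤ) ∣ c.2.1 := Int.dvd_of_emod_eq_zero h2
    obtain ⟨m, hm⟩ := h3
    rw [hm]
    push_cast
    have : (2 : F) = 0 := CharTwo.two_eq_zero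
    rw [this, zero_mul]) t v
  exact this.symm

theorem invstdn_comm [CharP F 2] (D : ChevalleyDatum) (hB : H8Base.{u} D) (hC : H8CommAll.{u} D)
    (r s : ℕ) (h : invstdnChk D r s = true) :
    Commute (h8nU D hB r (1 : F)) (h8nU D hB s 1) := by
  unfold invstdnChk at h
  simp only [Bool.and_eq_true] at h
  obtain ⟨⟨⟨h1, h2⟩, h3⟩, h4⟩ := h
  rw [h8nU_eq, h8nU_eq]
  have c1 := fun t v => invstdn_comm1 (F := F) D hB hC r s h1 t v
  have c2 := fun t v => invstdn_comm1 (F := F) D hB hC r (D.neg s) h2 t v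
  have c3 := fun t v => invstdn_comm1 (F := F) D hB hC (D.neg r) s h3 t v
  have c4 := fun t v => invstdn_comm1 (F := F) D hB hC (D.neg r) (D.neg s) h4 t v
  have e : ∀ q : ℕ, D.negIdx.getD q 0 = D.neg q := fun q => rfl
  rw [e, e]
  have hx : ∀ (q : ℕ) (t : F), (∀ v, Commute (h8xU D hB q t) (h8xU D hB s v)) →
      (∀ v, Commute (h8xU D hB q t) (h8xU D hB (D.neg s) v)) →
      Commute (h8xU D hB q t)
        (h8xU D hB s 1 * h8xU D hB (D.neg s) (-(1 : F)⁻¹) * h8xU D hB s 1) := by
    intro q t ha hb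
    exact ((ha _).mul_right (hb _)).mul_right (ha _)
  exact (((hx r 1 (c1 1) (c2 1)).mul_left (hx (D.neg r) _ (c3 _) (c4 _))).mul_left
    (hx r 1 (c1 1) (c2 1)))

/-- a product of pairwise commuting involutions is an involution -/
theorem invstdn_prod_sq {M : Type*} [Monoid M] :
    ∀ L : List M, (∀ a ∈ L, a * a = 1) → L.Pairwise Commute → L.prod * L.prod = 1
  | [], _, _ => by simp
  | a :: L, h1, h2 => by
    rw [List.pairwise_cons] at h2
    have ih := invstdn_prod_sq L (fun b hb => h1 b (List.mem_cons_of_mem _ hb)) h2.2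
    have hc : Commute a L.prod := Commute.list_prod_right _ _ h2.1
    rw [List.prod_cons]
    calc a * L.prod * (a * L.prod) = a * (L.prod * a) * L.prod := by simp only [mul_assoc]
      _ = a * (a * L.prod) * L.prod := by rw [hc.eq]
      _ = (a * a) * (L.prod * L.prod) := by simp only [mul_assoc]
      _ = 1 := by rw [h1 a List.mem_cons_self, ih, one_mul]

/-- the check for a list of roots -/
def invstdnListChk (D : ChevalleyDatum) (R : List ℕ) : Bool :=
  R.all (fun r => decide (r < D.nroots)) && R.Pairwise (fun r s => invstdnChk D r s = true)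

theorem invstdn_list [CharP F 2] (D : ChevalleyDatum) (hB : H8Base.{u} D) (hC : H8CommAll.{u} D)
    (R : List ℕ) (h : invstdnListChk D R = true) :
    (n1 D hB R : GL D.Idx F) ∈ D.monomialSubgroup F ∧ (n1 D hB R : GL D.Idx F) * n1 D hB R = 1 := by
  unfold invstdnListChk at h
  simp only [Bool.and_eq_true, List.all_eq_true, decide_eq_true_eq] at h
  obtain ⟨hlt, hpw⟩ := h
  constructor
  · unfold n1
    apply Subgroup.list_prod_mem
    intro g hg
    rw [List.mem_map] at hg
    obtain ⟨r, hr, rfl⟩ := hg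
    exact h8nU_mem_N D hB r (hlt r hr)
  · unfold n1
    apply invstdn_prod_sq
    · intro g hg
      rw [List.mem_map] at hg
      obtain ⟨r, hr, rfl⟩ := hg
      exact invstdn_n_sq D hB r
    · rw [List.pairwise_map]
      exact hpw.imp (fun {r s} hrs => invstdn_comm D hB hC r s hrs)

theorem invstdn_f4_chk : ∀ k < 11, invstdnListChk chevF4 (f4Std.getD k []) = true := by
  decide +kernel

/-- STDN : the standard involutions `∏ n_r(1)`, `r ∈ f4Std[k]`, lie in `N` and square to `1` -/
theorem f4_std_N [CharP F 2] (hB : H8Base.{u} chevF4) (k : ℕ) (hk : k < 11) :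
    (n1 chevF4 hB (f4Std.getD k []) : GL chevF4.Idx F) ∈ chevF4.monomialSubgroup F ∧
    (n1 chevF4 hB (f4Std.getD k []) : GL chevF4.Idx F) * n1 chevF4 hB (f4Std.getD k []) = 1 := by
  have hC := h8commAll.{u} chevF4 f4c_mem_list
  exact invstdn_list chevF4 hB hC _ (invstdn_f4_chk k hk)

end Cfsg.Agent.Lib.helper14.INV
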