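import Mathlib
import Cfsg.Prelude.Def_GeometricClasses
import Cfsg.Agent.Lib.Helper27.ASC.Defs
import Cfsg.Agent.Lib.helper6.ASCPR6

/-!
# LX / ASG pre-landed piece : `SL_n(F)`, `n ≥ 3`, does not normalise a symplectic-type `r`-group
(minimal-field data), general dimension.  Generalises helper6's `pr_sympl_type` (dimension `r`, `r` odd).
-/

set_option autoImplicit false
set_option linter.unusedVariables false
set_option linter.unusedSectionVars false
set_option linter.deprecated false

namespace Cfsg.Agent.Lib.Helper27.ASC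

open Cfsg Cfsg.Geo
open scoped MatrixGroups Matrix

variable {n : ℕ} {F : Type*} [Field F] [Fintype F]

/-- an element of finite order `z` with `μ_z ⊆ F` has an eigenvector (any dimension) -/
theorem lxpr6_eigen {z : ℕ} (hz : 0 < z) (hn : 0 < n) {ζ : F} (hζ : IsPrimitiveRoot ζ z)
    (X : Matrix (Fin n) (Fin n) F) (hX : X ^ z = 1) :
    ∃ (l : F) (u : Fin n → F), l ^ z = 1 ∧ u ≠ 0 ∧ X *ᵥ u = l • u := by
  classical
  have hne : Nonempty (Fin n) := ⟨⟨0, hn⟩⟩
  have hprod := Polynomial.X_pow_sub_one_eq_prod hz hζ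
  rw [← Finset.prod_map_toList] at hprod
  have h2 := congrArg (Polynomial.aeval X) hprod
  rw [map_list_prod, List.map_map] at h2
  simp only [map_sub, map_pow, Polynomial.aeval_X, map_one, hX, sub_self] at h2
  have h3 := congrArg Matrix.detMonoidHom h2
  rw [map_list_prod, List.map_map] at h3
  have h4 : (0 : F) ∈ List.map (⇑Matrix.detMonoidHom ∘ ⇑(Polynomial.aeval X) ∘ fun ζ' : F => Polynomial.X - Polynomial.C ζ')
      (Polynomial.nthRootsFinset z (1 : F)).toList := by
    rw [← List.prod_eq_zero_iff, ← h3]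
    simp [Matrix.det_zero]
  rw [List.mem_map] at h4
  obtain ⟨l, hl, hdet⟩ := h4
  rw [Finset.mem_toList, Polynomial.mem_nthRootsFinset hz] at hl
  simp only [Function.comp_apply, map_sub, Polynomial.aeval_X, Polynomial.aeval_C,
    Matrix.coe_detMonoidHom] at hdet
  obtain ⟨u, hu, huz⟩ := Matrix.exists_mulVec_eq_zero_iff.mpr hdet
  refine ⟨l, u, hl, hu, ?_⟩
  rw [Matrix.sub_mulVec, sub_eq_zero] at huz
  rw [huz, Algebra.algebraMap_eq_smul_one, Matrix.smul_mulVec, Matrix.one_mulVec]

/-- PR6, general dimension `n ≥ 3` -/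
theorem pr_sympl_type_gen (hn : 3 ≤ n) {r : ℕ} (R : Subgroup (GL (Fin n) F))
    (hR : IsLinearSymplecticTypeData r R) : ¬ specialLinear (Fin n) F ≤ subgroupNormalizer R := by
  classical
  intro hSL
  have hr : r.Prime := hR.symplecticType.prime
  obtain ⟨p, e, hrp, hmin, hcases⟩ := hR.field
  obtain ⟨hp, hchar, hcard, hdvd, -⟩ := hmin
  set z : ℕ := Nat.card (Subgroup.center R) with hzdef
  -- the exponent of `R` is `z = |Z(R)|`, and `z ∣ r ^ 2`
  have hzz : Monoid.exponent R = z ∧ 0 < z ∧ z ∣ r ^ 2 := by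
    rw [hR.symplecticType.exponent_eq]
    rcases hcases with ⟨hodd, _, h, _⟩ | ⟨h2, _, h, _⟩ | ⟨_, _, h2, _⟩
    · have hr2 : r ≠ 2 := by
        rintro rfl
        exact absurd hodd (by decide)
      have : Nat.gcd 2 r = 1 := (Nat.coprime_primes Nat.prime_two hr).mpr (Ne.symm hr2)
      rw [this, mul_one, h]
      exact ⟨rfl, hr.pos, dvd_pow_self r (by norm_num)⟩
    · subst h2
      rw [h]
      exact ⟨by norm_num, by norm_num, by norm_num⟩
    · rw [Fintype.card_fin] at h2
      omega
  obtain ⟨hexp, hz0, hzr⟩ := hzz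
  have hcharI : CharP F p := hchar
  have hcardU : Fintype.card Fˣ = p ^ e - 1 := by rw [Fintype.card_units, hcard]
  -- a primitive `z`-th root of unity
  have hcnt := IsCyclic.card_orderOf_eq_totient (α := Fˣ) (d := z) (hcardU ▸ hdvd)
  have hpos : 0 < (Finset.univ.filter (fun a : Fˣ => orderOf a = z)).card := by
    rw [hcnt]; exact Nat.totient_pos.mpr hz0
  obtain ⟨g, hg⟩ := Finset.card_pos.mp hpos
  rw [Finset.mem_filter] at hg
  have hg := hg.2
  have hζ : IsPrimitiveRoot (g : F) z := by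
    have h := IsPrimitiveRoot.orderOf g
    rw [hg] at h
    exact IsPrimitiveRoot.coe_units_iff.mpr h
  have hpowr : ∀ x ∈ R, ((x : GL (Fin n) F) : Matrix (Fin n) (Fin n) F) ^ z = 1 := by
    intro x hx
    have h := Monoid.pow_exponent_eq_one (⟨x, hx⟩ : R)
    rw [hexp] at h
    have h' : x ^ z = 1 := by
      have := congrArg Subtype.val h
      simpa using this
    rw [← Units.val_pow_eq_pow_val, h']
    rfl
  have h2r : 2 ≤ n := by omega
  -- a non-scalar element
  have hns : ∃ x ∈ R, ¬ ∃ c : F, ((x : GL (Fin n) F) : Matrix (Fin n) (Fin n) F) = c • 1 := by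
    by_contra hall
    push Not at hall
    let i0 : Fin n := ⟨0, by omega⟩
    let i1 : Fin n := ⟨1, by omega⟩
    have hi : i0 ≠ i1 := by
      intro h
      have := congrArg Fin.val h
      simp [i0, i1] at this
    obtain ⟨c, hc⟩ := hR.absIrred.2 (Matrix.single i0 i1 (1 : F)) (by
      rintro s ⟨x, hx, rfl⟩
      obtain ⟨c, hc⟩ := hall x hx
      show Matrix.single i0 i1 (1 : F) * ((x : GL (Fin n) F) : Matrix (Fin n) (Fin n) F) =
        ((x : GL (Fin n) F) : Matrix (Fin n) (Fin n) F) * Matrix.single i0 i1 (1 : F)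
      rw [hc]
      simp)
    have h01 := congrFun (congrFun hc i0) i1
    simp [hi] at h01
  obtain ⟨x, hxR, hxns⟩ := hns
  have hXXi : ((x : GL (Fin n) F) : Matrix (Fin n) (Fin n) F) * ((x⁻¹ : GL (Fin n) F) : Matrix (Fin n) (Fin n) F) = 1 := by
    rw [← Units.val_mul, mul_inv_cancel]; rfl
  have hXiX : ((x⁻¹ : GL (Fin n) F) : Matrix (Fin n) (Fin n) F) * ((x : GL (Fin n) F) : Matrix (Fin n) (Fin n) F) = 1 := by
    rw [← Units.val_mul, inv_mul_cancel]; rfl
  have hpowx := hpowr x hxR
  set X : Matrix (Fin n) (Fin n) F := ((x : GL (Fin n) F) : Matrix (Fin n) (Fin n) F) with hXdef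
  set Xi : Matrix (Fin n) (Fin n) F := ((x⁻¹ : GL (Fin n) F) : Matrix (Fin n) (Fin n) F) with hXidef
  obtain ⟨l, u, hlr, hu, hXu⟩ := lxpr6_eigen hz0 (by omega) hζ X hpowx
  have hl0 : l ≠ 0 := by
    intro h
    rw [h, zero_pow (Nat.pos_iff_ne_zero.mp hz0)] at hlr
    exact zero_ne_one hlr
  have hXiu : Xi *ᵥ u = l⁻¹ • u := by
    have h1 : Xi *ᵥ (X *ᵥ u) = u := by rw [Matrix.mulVec_mulVec, hXiX, Matrix.one_mulVec]
    rw [hXu, Matrix.mulVec_smul] at h1
    calc Xi *ᵥ u = l⁻¹ • (l • Xi *ᵥ u) := by rw [smul_smul, inv_mul_cancel₀ hl0, one_smul]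
      _ = l⁻¹ • u := by rw [h1]
  by_cases hcase : ∃ φ : Fin n → F, φ ⬝ᵥ u = 0 ∧ φ ᵥ* X ≠ l • φ
  · -- a transvection that does not commute with x
    obtain ⟨φ, hφu, hφX⟩ := hcase
    set N : Matrix (Fin n) (Fin n) F := Matrix.vecMulVec u φ with hN
    have hNN : N * N = 0 := by
      rw [hN, Matrix.vecMulVec_mul_vecMulVec, hφu, zero_smul, Matrix.vecMulVec_zero]
    have hdetT : (1 + N).det = 1 := by
      rw [hN, Matrix.vecMulVec_eq Unit, Matrix.det_one_add_replicateCol_mul_replicateRow, hφu, add_zero]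
    let t : GL (Fin n) F := Matrix.GeneralLinearGroup.mkOfDetNeZero (1 + N) (by rw [hdetT]; exact one_ne_zero)
    have ht : (t : Matrix (Fin n) (Fin n) F) = 1 + N := rfl
    have htinv : ((t⁻¹ : GL (Fin n) F) : Matrix (Fin n) (Fin n) F) = 1 - N := by
      rw [Matrix.coe_units_inv, ht]
      apply Matrix.inv_eq_right_inv
      have h : (1 + N) * (1 - N) = 1 - N * N := by noncomm_ring
      rw [h, hNN, sub_zero]
    have htSL : t ∈ specialLinear (Fin n) F := by
      show t ∈ (Matrix.GeneralLinearGroup.det : GL (Fin n) F →* Fˣ).ker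
      rw [MonoidHom.mem_ker]
      apply Units.ext
      rw [Matrix.GeneralLinearGroup.val_det_apply, ht, hdetT]
      rfl
    have htN : t ∈ Subgroup.normalizer (R : Set (GL (Fin n) F)) := hSL htSL
    have hconj : t * x * t⁻¹ ∈ R := (Subgroup.mem_normalizer_iff.mp htN x).1 hxR
    have hyR : t * x * t⁻¹ * x⁻¹ ∈ R := R.mul_mem hconj (R.inv_mem hxR)
    set χ : Fin n → F := φ ᵥ* X - l • φ with hχ
    have hχ0 : χ ≠ 0 := by
      intro h
      apply hφX
      rw [hχ] at h
      exact sub_eq_zero.mp h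
    set ψ : Fin n → F := χ ᵥ* Xi with hψ
    have hψ0 : ψ ≠ 0 := by
      intro h
      apply hχ0
      have : ψ ᵥ* X = χ := by rw [hψ, Matrix.vecMul_vecMul, hXiX, Matrix.vecMul_one]
      rw [← this, h, Matrix.zero_vecMul]
    have hψu : ψ ⬝ᵥ u = 0 := by
      rw [hψ, ← Matrix.dotProduct_mulVec, hXiu, dotProduct_smul, hχ, sub_dotProduct, smul_dotProduct,
        hφu, ← Matrix.dotProduct_mulVec, hXu, dotProduct_smul, hφu]
      simp
    have hXN : X * N = l • N := by
      rw [hN, Matrix.mul_vecMulVec, hXu, Matrix.smul_vecMulVec]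
    have hNX : N * X = Matrix.vecMulVec u (φ ᵥ* X) := by
      rw [hN, Matrix.vecMulVec_mul]
    have hconjM : (1 + N) * X * (1 - N) = X + Matrix.vecMulVec u χ := by
      have hNXN : N * X * N = 0 := by
        rw [mul_assoc, hXN, Matrix.mul_smul, hNN, smul_zero]
      rw [add_mul, one_mul, add_mul, mul_sub, mul_sub, mul_one, mul_one, hNXN, hXN, hNX, hχ,
        Matrix.vecMulVec_sub, Matrix.vecMulVec_smul, ← hN]
      abel
    have hyM : ((t * x * t⁻¹ * x⁻¹ : GL (Fin n) F) : Matrix (Fin n) (Fin n) F) = 1 + Matrix.vecMulVec u ψ := by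
      rw [Units.val_mul, Units.val_mul, Units.val_mul, htinv, ht, ← hXdef, ← hXidef, hconjM, add_mul, hXXi,
        Matrix.vecMulVec_mul]
    have hMM : Matrix.vecMulVec u ψ * Matrix.vecMulVec u ψ = 0 := by
      rw [Matrix.vecMulVec_mul_vecMulVec, hψu, zero_smul, Matrix.vecMulVec_zero]
    exact ascpr6_no_unipotent hr hp hrp R hR.symplecticType.pGroup _ hyR _ hyM hMM
      (Matrix.vecMulVec_ne_zero hu hψ0)
  · -- x = l + u ρ, so x is scalar
    push Not at hcase
    obtain ⟨i0, hi0⟩ := Function.ne_iff.mp hu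
    simp only [Pi.zero_apply] at hi0
    set ρ : Fin n → F := fun m => (u i0)⁻¹ * (X i0 m - l * (if i0 = m then 1 else 0)) with hρ
    have hXeq : X = l • (1 : Matrix (Fin n) (Fin n) F) + Matrix.vecMulVec u ρ := by
      ext a m
      have hφ : (Pi.single a (1 : F) - (u a / u i0) • Pi.single i0 (1 : F)) ⬝ᵥ u = 0 := by
        rw [sub_dotProduct, smul_dotProduct, single_dotProduct, single_dotProduct]
        simp only [one_mul, smul_eq_mul]
        rw [div_mul_cancel₀ _ hi0, sub_self]
      have h := congrFun (hcase _ hφ) m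
      rw [Matrix.sub_vecMul, Matrix.smul_vecMul, Matrix.single_one_vecMul, Matrix.single_one_vecMul] at h
      simp only [Pi.sub_apply, Pi.smul_apply, smul_eq_mul, Pi.single_apply, Matrix.row_apply] at h
      simp only [Matrix.add_apply, Matrix.smul_apply, Matrix.one_apply, Matrix.vecMulVec_apply, smul_eq_mul, hρ]
      have e1 : (if m = a then (1 : F) else 0) = if a = m then 1 else 0 := by
        by_cases hh : a = m
        · simp [hh]
        · simp [hh, Ne.symm hh]
      have e2 : (if m = i0 then (1 : F) else 0) = if i0 = m then 1 else 0 := by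
        by_cases hh : i0 = m
        · simp [hh]
        · simp [hh, Ne.symm hh]
      rw [e1, e2] at h
      field_simp
      field_simp at h
      linear_combination h
    have hρu : ρ ⬝ᵥ u = 0 := by
      have h1 : X *ᵥ u = l • u + (ρ ⬝ᵥ u) • u := by
        rw [hXeq, Matrix.add_mulVec, Matrix.smul_mulVec, Matrix.one_mulVec, Matrix.vecMulVec_mulVec,
          op_smul_eq_smul]
      rw [hXu] at h1
      have h2 : (ρ ⬝ᵥ u) • u = 0 := by
        have := sub_eq_zero.mpr h1.symm
        simpa using this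
      rcases smul_eq_zero.mp h2 with h | h
      · exact h
      · exact absurd h hu
    set M : Matrix (Fin n) (Fin n) F := l⁻¹ • Matrix.vecMulVec u ρ with hMdef
    have hMM : M * M = 0 := by
      rw [hMdef, Matrix.smul_mul, Matrix.mul_smul, Matrix.vecMulVec_mul_vecMulVec, hρu, zero_smul,
        Matrix.vecMulVec_zero, smul_zero, smul_zero]
    have hXM : X = l • (1 + M) := by
      rw [hMdef, smul_add, smul_smul, mul_inv_cancel₀ hl0, one_smul]
      exact hXeq
    have hpow := hpowx
    rw [hXM, smul_pow, hlr, one_smul, ascpr6_one_add_pow M hMM] at hpow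
    have hrM : (z : F) • M = 0 := by
      have h3 : (1 : Matrix (Fin n) (Fin n) F) + (z : F) • M = 1 + 0 := by rw [add_zero]; exact hpow
      exact add_left_cancel h3
    have hrF : (z : F) ≠ 0 := by
      intro h
      have hdv : p ∣ z := (CharP.cast_eq_zero_iff F p z).mp h
      have hdv2 : p ∣ r ^ 2 := dvd_trans hdv hzr
      have hdv3 : p ∣ r := hp.dvd_of_dvd_pow hdv2
      exact hrp ((Nat.prime_dvd_prime_iff_eq hp hr).mp hdv3).symm
    have hM0 : M = 0 := by
      rcases smul_eq_zero.mp hrM with h | h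
      · exact absurd h hrF
      · exact h
    apply hxns
    refine ⟨l, ?_⟩
    rw [hXM, hM0, add_zero]

end Cfsg.Agent.Lib.Helper27.ASC
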