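import Mathlib
import Cfsg.Prelude.Def_GeometricClasses
import Cfsg.Agent.Lib.Helper27.ASC.Defs
import Cfsg.Agent.Lib.helper23.ASCPR8U

/-!
# Project LX, piece PRS : `pr_symp`

For `n ≥ 3` the special linear group is not contained in the similarity group of a
non-degenerate symplectic form (copy of helper23's `pr_unit`, through `ascpr8u_core`).
-/

set_option autoImplicit false
set_option linter.unusedVariables false
set_option linter.unusedSectionVars false

namespace Cfsg.Agent.Lib.helper7.LX

open Cfsg Cfsg.Geo Cfsg.Agent.Lib.Helper27.ASC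
open scoped MatrixGroups Matrix

variable {n : ℕ} {F : Type*} [Field F] [Fintype F]

/-- PRS : `SL_n`, `n ≥ 3`, is not contained in the similarity group of a symplectic form. -/
theorem pr_symp (hn : 3 ≤ n) (f : (Fin n → F) → (Fin n → F) → F) (hf : IsSymplecticForm f) :
    ¬ specialLinear (Fin n) F ≤ similarityGroup f := by
  classical
  let j : Fin n := ⟨0, by omega⟩
  have hj0 : (Pi.single j (1 : F) : Fin n → F) ≠ 0 := by
    intro h
    have := congrFun h j
    simp at this
  obtain ⟨⟨x, hx⟩, _⟩ := hf.nondegenerate _ hj0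
  obtain ⟨i, hi⟩ := ascpr8u_basis f hf.bilinear.add_left hf.bilinear.smul_left _ x hx
  obtain ⟨k, hki, hkj⟩ := Fin.exists_ne_and_ne_of_two_lt i j (by omega)
  exact ascpr8u_core f hf.bilinear.add_left i j k hki hkj hi

end Cfsg.Agent.Lib.helper7.LX
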