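import Mathlib
import Cfsg.Agent.Lib.Helper11.LemLC
import Cfsg.Agent.S1408
import Cfsg.Agent.S1411
import Cfsg.Agent.S1459
import Cfsg.Agent.Lib.Helper21.BG13w

set_option autoImplicit false
open scoped commutatorElement

/-! "Lemma L" (B & G section 13): the generic last step (8), helper11. -/

namespace Cfsg.Agent.Lib.Helper11.LemLD

open Cfsg Cfsg.Agent.Lib.Helper18 Cfsg.Agent.Lib.Helper28.BGt Cfsg.Agent.Lib.Helper11.LemLA
  Cfsg.Agent.Lib.Helper11.LemLB Cfsg.Agent.Lib.Helper11.LemLC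

variable {G : Type*} [Group G] [Finite G] {M E L A : Subgroup G} {r : ℕ}

/-- `A₀ = A ∩ C(M_σ)` has order `r` and normalizer `M` -/
theorem normalizer_A0 (c : Tau2Ctx M E r A)
    (hS : ∀ S : Sylow r G, ¬ IsMulCommutative (S : Subgroup G)) :
    Nat.card ↥(A ⊓ Subgroup.centralizer (Cfsg.sigmaCore M : Set G)) = r ∧
      Subgroup.normalizer ((A ⊓ Subgroup.centralizer (Cfsg.sigmaCore M : Set G) : Subgroup G) : Set G)
        = M := by
  have hrf := c.fact
  have h19 := Cfsg.Agent.S1419.result c.hG M c.hM E c.hE r c.hp hS A ⟨c.hAE, c.hAe, c.hA2⟩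
  have hcard := h19.2.1.1
  refine ⟨hcard, ?_⟩
  obtain ⟨A₀, hA₀⟩ : ∃ A₀ : Subgroup G,
    A₀ = A ⊓ Subgroup.centralizer (Cfsg.sigmaCore M : Set G) := ⟨_, rfl⟩
  rw [← hA₀] at hcard ⊢
  have hA₀1 : A₀ ≠ ⊥ := by
    intro h
    rw [h, Subgroup.card_bot] at hcard
    exact hrf.out.one_lt.ne hcard
  have hA₀M : A₀ ≤ M := by rw [hA₀]; exact inf_le_left.trans c.hAM
  have hA₀top : A₀ ≠ ⊤ := by
    intro h
    rw [h] at hA₀M
    exact c.hM.1 (eq_top_iff.mpr hA₀M)
  have hMN : M ≤ Subgroup.normalizer (A₀ : Set G) := by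
    intro m hm
    obtain ⟨a, ha, b, hb, rfl⟩ := c.hE.2.2.2 m hm
    apply Subgroup.mul_mem
    · rw [hA₀]
      apply mem_normalizer_inf (c.E_le_normalizer ha)
      exact Cfsg.Agent.Lib.Helper11.ExcG.normalizer_le_normalizer_centralizer _
        (le_normalizer_sigmaCore M (c.hE.1 ha))
    · apply Subgroup.centralizer_le_normalizer
      rw [Subgroup.mem_centralizer_iff]
      intro x hx
      rw [hA₀] at hx
      exact (Subgroup.mem_centralizer_iff.mp hx.2 b hb).symm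
  have hNtop := Cfsg.Agent.Lib.Helper1.BG10.normalizer_ne_top c.hG hA₀1 hA₀top
  rcases lt_or_eq_of_le hMN with h | h
  · exact absurd (c.hM.2 _ h) hNtop
  · exact h.symm

/-- the uniqueness of `A₀` among the subgroups of order `r` of `C_S(x)` -/
theorem unique_line (c : Tau2Ctx M E r A)
    (hS : ∀ S : Sylow r G, ¬ IsMulCommutative (S : Subgroup G))
    (hL : IsCoatom L) (hNL : Subgroup.normalizer (A : Set G) ≤ L) {S : Subgroup G}
    (hSr : IsPGroup r S) (hAS : A ≤ S) (hSL : S ≤ L) {x : G}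
    (hxA : ∀ a ∈ A, x * a = a * x ↔ a ∈ Subgroup.centralizer (Cfsg.sigmaCore M : Set G))
    {Y : Subgroup G} (hYS : Y ≤ S) (hYx : Y ≤ Subgroup.centralizer ({x} : Set G))
    (hYc : Nat.card Y = r) : Y = A ⊓ Subgroup.centralizer (Cfsg.sigmaCore M : Set G) := by
  have hrf := c.fact
  obtain ⟨hcard, hnorm⟩ := normalizer_A0 c hS
  obtain ⟨hrσ, hne, hEL, hbot, hML, hAσ, hrβ⟩ := Over.facts c hL hNL
  obtain ⟨A₀, hA₀⟩ : ∃ A₀ : Subgroup G,
    A₀ = A ⊓ Subgroup.centralizer (Cfsg.sigmaCore M : Set G) := ⟨_, rfl⟩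
  rw [← hA₀] at hcard hnorm ⊢
  have hCM : Subgroup.centralizer (A₀ : Set G) ≤ M := by
    rw [← hnorm]; exact Subgroup.centralizer_le_normalizer _
  -- the basic step
  have key : ∀ Y : Subgroup G, Y ≤ S → Y ≤ Subgroup.centralizer (A₀ : Set G) →
      Y ≤ Subgroup.centralizer ({x} : Set G) → Nat.card Y = r → Y = A₀ := by
    intro Y hYS hYA hYx hYc
    have hYE : Y ≤ E := by rw [← hML]; exact le_inf (hYA.trans hCM) (hYS.trans hSL)
    have hYA' : Y ≤ A := c.twelve_six.1.2 Y hYE hYc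
    have hle : Y ≤ A₀ := by
      intro y hy
      rw [hA₀]
      refine ⟨hYA' hy, (hxA y (hYA' hy)).mp ?_⟩
      exact Subgroup.mem_centralizer_iff.mp (hYx hy) x rfl
    exact Subgroup.eq_of_le_of_card_ge hle (by rw [hcard, hYc])
  -- `D = C_S(x)` and an element of order `r` of its centre
  obtain ⟨D, hD⟩ : ∃ D : Subgroup G, D = S ⊓ Subgroup.centralizer ({x} : Set G) := ⟨_, rfl⟩
  have hA₀D : A₀ ≤ D := by
    intro a ha
    have haA : a ∈ A := by rw [hA₀] at ha; exact ha.1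
    rw [hD]
    refine ⟨hAS haA, ?_⟩
    show a ∈ Subgroup.centralizer ({x} : Set G)
    rw [Subgroup.mem_centralizer_iff]
    intro y hy
    rw [Set.mem_singleton_iff.mp hy]
    rw [hA₀] at ha
    exact (hxA a haA).mpr ha.2
  have hDr : IsPGroup r ↥D := hSr.to_le (by rw [hD]; exact inf_le_left)
  have hD1 : D ≠ ⊥ := fun h => by
    apply (show A₀ ≠ ⊥ from ?_) (le_bot_iff.mp (h ▸ hA₀D))
    intro h'
    rw [h', Subgroup.card_bot] at hcard
    exact hrf.out.one_lt.ne hcard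
  haveI : Nontrivial ↥D := (Subgroup.nontrivial_iff_ne_bot D).mpr hD1
  haveI hZn : Nontrivial ↥(Subgroup.center ↥D) := hDr.center_nontrivial
  have hZr : IsPGroup r ↥(Subgroup.center ↥D) := hDr.to_subgroup _
  have hrZ : r ∣ Nat.card ↥(Subgroup.center ↥D) := by
    obtain ⟨n, hn⟩ := IsPGroup.iff_card.mp hZr
    rw [hn]
    apply dvd_pow_self
    rintro rfl
    rw [pow_zero] at hn
    have := Finite.one_lt_card_iff_nontrivial.mpr hZn
    omega
  obtain ⟨z, hz⟩ := exists_prime_orderOf_dvd_card' r hrZ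
  obtain ⟨z', hz'⟩ : ∃ z' : G, z' = ((z : ↥D) : G) := ⟨_, rfl⟩
  have hz'o : orderOf z' = r := by
    rw [hz', Subgroup.orderOf_coe, Subgroup.orderOf_coe, hz]
  have hz'D : z' ∈ D := by rw [hz']; exact (z : ↥D).2
  have hz'c : ∀ d ∈ D, d * z' = z' * d := by
    intro d hd
    have := Subgroup.mem_center_iff.mp z.2 ⟨d, hd⟩
    rw [hz']
    exact congrArg Subtype.val this
  have hDS : D ≤ S := by rw [hD]; exact inf_le_left
  have hDx : D ≤ Subgroup.centralizer ({x} : Set G) := by rw [hD]; exact inf_le_right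
  have hZ0 : Subgroup.zpowers z' = A₀ := by
    apply key
    · rw [Subgroup.zpowers_le]; exact hDS hz'D
    · rw [Subgroup.zpowers_le, Subgroup.mem_centralizer_iff]
      intro a ha
      exact hz'c a (hA₀D ha)
    · rw [Subgroup.zpowers_le]; exact hDx hz'D
    · rw [Nat.card_zpowers, hz'o]
  -- `D` centralizes `A₀`
  have hDA₀ : D ≤ Subgroup.centralizer (A₀ : Set G) := by
    intro d hd
    rw [← hZ0, Subgroup.mem_centralizer_iff]
    intro y hy
    obtain ⟨n, rfl⟩ := Subgroup.mem_zpowers_iff.mp hy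
    have hc : Commute z' d := (hz'c d hd).symm
    exact (hc.zpow_left n).eq
  exact key Y hYS ((le_inf hYS hYx : Y ≤ S ⊓ _).trans (hD ▸ hDA₀)) hYx hYc

/-- `V ≤ E` for a complement `V ∋ x` of `S` in `N_G(S)` -/
theorem compl_le_E (c : Tau2Ctx M E r A)
    (hS : ∀ S : Sylow r G, ¬ IsMulCommutative (S : Subgroup G))
    (hL : IsCoatom L) (hNL : Subgroup.normalizer (A : Set G) ≤ L) {S V : Subgroup G}
    (hSr : IsPGroup r S) (hAS : A ≤ S) (hSL : S ≤ L)
    (hNS : Subgroup.normalizer (S : Set G) ≤ L) (hVN : V ≤ Subgroup.normalizer (S : Set G))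
    (hder : ⁅V, V⁆ ≤ Subgroup.centralizer (S : Set G)) {x : G} (hxV : x ∈ V)
    (hxA : ∀ a ∈ A, x * a = a * x ↔ a ∈ Subgroup.centralizer (Cfsg.sigmaCore M : Set G)) :
    V ≤ E := by
  obtain ⟨hcard, hnorm⟩ := normalizer_A0 c hS
  obtain ⟨hrσ, hne, hEL, hbot, hML, hAσ, hrβ⟩ := Over.facts c hL hNL
  obtain ⟨A₀, hA₀⟩ : ∃ A₀ : Subgroup G,
    A₀ = A ⊓ Subgroup.centralizer (Cfsg.sigmaCore M : Set G) := ⟨_, rfl⟩
  have huniq : ∀ Y : Subgroup G, Y ≤ S → Y ≤ Subgroup.centralizer ({x} : Set G) →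
      Nat.card Y = r → Y = A₀ := by
    intro Y h1 h2 h3
    rw [hA₀]
    exact unique_line c hS hL hNL hSr hAS hSL hxA h1 h2 h3
  rw [← hA₀] at hcard hnorm
  have hA₀S : A₀ ≤ S := by rw [hA₀]; exact inf_le_left.trans hAS
  have hA₀x : A₀ ≤ Subgroup.centralizer ({x} : Set G) := by
    intro a ha
    rw [Subgroup.mem_centralizer_iff]
    intro y hy
    rw [Set.mem_singleton_iff.mp hy]
    rw [hA₀] at ha
    exact (hxA a ha.1).mpr ha.2
  intro v hv
  rw [← hML]
  refine ⟨?_, hNS (hVN hv)⟩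
  rw [← hnorm]
  apply mem_normalizer_of_conjSub_le
  apply le_of_eq
  apply huniq
  · rw [← Helper18.conjSub_eq_of_mem_normalizer (hVN hv)]
    exact Helper18.conjSub_mono hA₀S
  · rintro _ ⟨a, ha, rfl⟩
    show v * a * v⁻¹ ∈ Subgroup.centralizer ({x} : Set G)
    rw [Subgroup.mem_centralizer_iff]
    intro y hy
    rw [Set.mem_singleton_iff.mp hy]
    -- `v⁻¹ x v = c x` with `c ∈ [V,V]`
    have hcV : v⁻¹ * x * v * x⁻¹ ∈ ⁅V, V⁆ := by
      have := Subgroup.commutator_mem_commutator (V.inv_mem hv) hxV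
      rw [commutatorElement_def] at this
      simpa using this
    have hcS := hder hcV
    have haS : a ∈ S := hA₀S ha
    have h1 : a * (v⁻¹ * x * v * x⁻¹) = (v⁻¹ * x * v * x⁻¹) * a :=
      Subgroup.mem_centralizer_iff.mp hcS a haS
    have h2 : x * a = a * x := (Subgroup.mem_centralizer_iff.mp (hA₀x ha) x rfl)
    have h3 : (v⁻¹ * x * v) * a = a * (v⁻¹ * x * v) := by
      have e : v⁻¹ * x * v = (v⁻¹ * x * v * x⁻¹) * x := by group
      rw [e, mul_assoc, h2, ← mul_assoc, ← h1, mul_assoc]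
    calc x * (v * a * v⁻¹) = v * ((v⁻¹ * x * v) * a) * v⁻¹ := by group
      _ = v * (a * (v⁻¹ * x * v)) * v⁻¹ := by rw [h3]
      _ = v * a * v⁻¹ * x := by group
  · rw [Helper18.card_conjSub, hcard]

/-- the final contradiction of step (8) -/
theorem finish (c : Tau2Ctx M E r A)
    (hS : ∀ S : Sylow r G, ¬ IsMulCommutative (S : Subgroup G))
    (hL : IsCoatom L) (hNL : Subgroup.normalizer (A : Set G) ≤ L) [hrf : Fact r.Prime]
    (S : Sylow r G) {V : Subgroup G} (hAS : A ≤ (S : Subgroup G)) (hSL : (S : Subgroup G) ≤ L)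
    (hNS : Subgroup.normalizer ((S : Subgroup G) : Set G) ≤ L)
    (hV : Cfsg.IsComplIn (S : Subgroup G) V (Subgroup.normalizer ((S : Subgroup G) : Set G)))
    (hVE : V ≤ E)
    (hcent : E ≤ Subgroup.centralizer
      ((A ⊓ Subgroup.centralizer (Cfsg.sigmaCore M : Set G) : Subgroup G) : Set G)) : False := by
  have hG := c.hG
  obtain ⟨hcard, hnorm⟩ := normalizer_A0 c hS
  obtain ⟨hrσ, hne, hEL, hbot, hML, hAσ, hrβ⟩ := Over.facts c hL hNL
  obtain ⟨A₀, hA₀⟩ : ∃ A₀ : Subgroup G,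
    A₀ = A ⊓ Subgroup.centralizer (Cfsg.sigmaCore M : Set G) := ⟨_, rfl⟩
  rw [← hA₀] at hcard hnorm hcent
  have hA₀A : A₀ ≤ A := by rw [hA₀]; exact inf_le_left
  obtain ⟨h11a, h11b⟩ := Cfsg.Agent.S1411.result hG r S V hV
  obtain ⟨N, hN⟩ : ∃ N : Subgroup G, N = Subgroup.normalizer ((S : Subgroup G) : Set G) :=
    ⟨_, rfl⟩
  rw [← hN] at hV h11b hNS
  haveI hLs : Group.IsSolvable ↥L := Cfsg.Agent.Lib.Helper11.MaxSubB.coatom_solvable hG L hL
  haveI hNs : Group.IsSolvable ↥N := Cfsg.Agent.Lib.Lead.solvable_of_le hNS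
  have hSN : (S : Subgroup G) ≤ N := hV.1
  have hVN : V ≤ N := hV.2.1
  obtain ⟨H, hH⟩ : ∃ H : Subgroup ↥N, H = (S : Subgroup G).subgroupOf N := ⟨_, rfl⟩
  obtain ⟨K, hK⟩ : ∃ K : Subgroup ↥N, K = V.subgroupOf N := ⟨_, rfl⟩
  have hHn : H.Normal := by
    rw [hH]
    constructor
    intro n hn g
    rw [Subgroup.mem_subgroupOf] at hn ⊢
    have hg : (g : G) ∈ Subgroup.normalizer ((S : Subgroup G) : Set G) := hN ▸ g.2
    have := (Subgroup.mem_normalizer_iff.mp hg (n : G)).mp hn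
    simpa using this
  have hHmap : H.map N.subtype = (S : Subgroup G) := by
    rw [hH, Subgroup.map_subgroupOf_eq_of_le hSN]
  have hKmap : K.map N.subtype = V := by
    rw [hK, Subgroup.map_subgroupOf_eq_of_le hVN]
  have hHcard : Nat.card H = Nat.card (S : Subgroup G) := by
    rw [← hHmap, Subgroup.card_map_of_injective (Subgroup.subtype_injective _)]
  have hidx : H.index = (S : Subgroup G).relIndex N := by rw [hH]; rfl
  have hndvd : ¬ r ∣ H.index := by
    rw [hidx]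
    intro hd
    exact S.not_dvd_index (hd.trans (Subgroup.relIndex_dvd_index_of_le hSN))
  have hcop : (Nat.card H).Coprime H.index := by
    rw [hHcard]
    obtain ⟨k, hk⟩ := IsPGroup.iff_card.mp S.isPGroup'
    rw [hk]
    apply Nat.Coprime.pow_left
    rw [Nat.Prime.coprime_iff_not_dvd hrf.out]
    exact hndvd
  have hcompl : Subgroup.IsComplement' H K := by
    obtain ⟨-, -, hdisj, hprod⟩ := hV
    apply Subgroup.isComplement'_of_disjoint_and_mul_eq_univ
    · rw [disjoint_iff, eq_bot_iff]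
      rintro y ⟨hy1, hy2⟩
      have h1 : (y : G) ∈ (S : Subgroup G) := by
        rw [hH] at hy1; exact Subgroup.mem_subgroupOf.mp hy1
      have h2 : (y : G) ∈ V := by
        rw [hK] at hy2; exact Subgroup.mem_subgroupOf.mp hy2
      have : (y : G) ∈ (S : Subgroup G) ⊓ V := ⟨h1, h2⟩
      rw [hdisj, Subgroup.mem_bot] at this
      rw [Subgroup.mem_bot]
      exact Subtype.ext this
    · rw [Set.eq_univ_iff_forall]
      intro m
      obtain ⟨a, ha, b, hb, hab⟩ := hprod m m.2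
      refine ⟨⟨a, hSN ha⟩, ?_, ⟨b, hVN hb⟩, ?_, ?_⟩
      · rw [hH]; exact Subgroup.mem_subgroupOf.mpr ha
      · rw [hK]; exact Subgroup.mem_subgroupOf.mpr hb
      · exact Subtype.ext hab.symm
  have hHc : H ≤ commutator ↥N := by
    intro y hy
    have h1 : (y : G) ∈ ⁅N, N⁆ := by
      apply h11b
      rw [hH] at hy
      exact Subgroup.mem_subgroupOf.mp hy
    rw [← Subgroup.map_subtype_commutator] at h1
    obtain ⟨y', hy', hyy⟩ := h1
    have : y' = y := Subtype.ext hyy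
    rw [← this]
    exact hy'
  obtain ⟨-, h59⟩ := (Cfsg.Agent.S1459.result (G := ↥N)).1 H K hHn hcop hcompl hHc
  -- every element of `A₀` lies in `S'`
  have hA₀der : ∀ a ∈ A₀, a ∈ ⁅(S : Subgroup G), (S : Subgroup G)⁆ := by
    intro a ha
    have haS : a ∈ (S : Subgroup G) := hAS (hA₀A ha)
    have h1 : (⟨a, hSN haS⟩ : ↥N) ∈ H ⊓ Subgroup.centralizer (K : Set ↥N) := by
      refine ⟨by rw [hH]; exact Subgroup.mem_subgroupOf.mpr haS, ?_⟩
      show (⟨a, hSN haS⟩ : ↥N) ∈ Subgroup.centralizer (K : Set ↥N)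
      rw [Subgroup.mem_centralizer_iff]
      intro k hk
      have hkV : (k : G) ∈ V := by
        rw [hK] at hk
        exact Subgroup.mem_subgroupOf.mp hk
      apply Subtype.ext
      have := Subgroup.mem_centralizer_iff.mp (hcent (hVE hkV)) a ha
      exact this.symm
    have h2 := h59 h1
    have h3 : N.subtype ⟨a, hSN haS⟩ ∈ (⁅H, H⁆).map N.subtype := ⟨_, h2, rfl⟩
    rw [Subgroup.map_commutator, hHmap] at h3
    exact h3
  -- `A₀` is central in `S`
  have h08 := Cfsg.Agent.S1408.result hG M c.hM r c.hp.2.1 c.hp.2.2.1 c.hp.2.2.2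
  have hmax : ∀ B : Subgroup G, B ≤ (S : Subgroup G) → Cfsg.IsElementaryAbelian r B → A ≤ B →
      B = A := fun B _ hBe hAB => h08.2 A c.hAM c.hAe c.hA2 B hBe hAB
  have hcen := Cfsg.Agent.Lib.Helper21.BG13w.max_sq_inf_commutator_le_center hG r S A hAS c.hAe
    c.hA2 hmax
  have hSC : (S : Subgroup G) ≤ Subgroup.centralizer (A₀ : Set G) := by
    intro s hs
    rw [Subgroup.mem_centralizer_iff]
    intro a ha
    exact hcen a (hA₀A ha) (hA₀der a ha) s hs
  have hSM : (S : Subgroup G) ≤ M := by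
    rw [← hnorm]
    exact hSC.trans (Subgroup.centralizer_le_normalizer _)
  -- a nonabelian `r`-subgroup of `M`
  obtain ⟨P, hP⟩ := Cfsg.Agent.Lib.Helper1.BG10.exists_sylow_map_ge r M (S : Subgroup G) hSM
    S.isPGroup'
  have hPc := (c.t17.2.1 P).1
  apply hS S
  refine ⟨⟨fun a b => ?_⟩⟩
  obtain ⟨a', ha', haa⟩ := hP a.2
  obtain ⟨b', hb', hbb⟩ := hP b.2
  have h1 := hPc.is_comm.comm ⟨a', ha'⟩ ⟨b', hb'⟩
  have h2 : (a' : ↥M) * b' = b' * a' := congrArg Subtype.val h1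
  have h3 : ((a' : ↥M) : G) * ((b' : ↥M) : G) = ((b' : ↥M) : G) * ((a' : ↥M) : G) := by
    have := congrArg Subtype.val h2
    simpa using this
  apply Subtype.ext
  have e1 : ((a' : ↥M) : G) = (a : G) := haa
  have e2 : ((b' : ↥M) : G) = (b : G) := hbb
  rw [e1, e2] at h3
  exact h3

end Cfsg.Agent.Lib.Helper11.LemLD
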