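import Mathlib

set_option autoImplicit false

/-! MCX piece P2 (core): in a finite group, a subgroup `H` meeting a cyclic subgroup `C` of
index at most two satisfies `|H : ⟨h² : h ∈ H⟩| ≤ 4`. -/

namespace Cfsg.Agent.Lib.Helper11.MCXP2

theorem mcxp2_zpowers_sq_relIndex {X : Type*} [Group X] [Finite X] (g : X) :
    (Subgroup.zpowers (g ^ 2)).relIndex (Subgroup.zpowers g) ≤ 2 := by
  classical
  have hle : Subgroup.zpowers (g ^ 2) ≤ Subgroup.zpowers g :=
    Subgroup.zpowers_le.mpr (Subgroup.pow_mem _ (Subgroup.mem_zpowers g) 2)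
  -- index of the image of squaring in the cyclic group
  have hcard : Nat.card (Subgroup.zpowers g) ≤ 2 * Nat.card (Subgroup.zpowers (g ^ 2)) := by
    rw [Nat.card_zpowers, Nat.card_zpowers, orderOf_pow]
    have hpos : 0 < orderOf g := orderOf_pos g
    have hg : Nat.gcd (orderOf g) 2 ∣ 2 := Nat.gcd_dvd_right _ _
    have hg2 : Nat.gcd (orderOf g) 2 ≤ 2 := Nat.le_of_dvd (by norm_num) hg
    have hd : Nat.gcd (orderOf g) 2 ∣ orderOf g := Nat.gcd_dvd_left _ _
    obtain ⟨k, hk⟩ := hd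
    have hgpos : 0 < Nat.gcd (orderOf g) 2 := Nat.gcd_pos_of_pos_right _ (by norm_num)
    have : orderOf g / Nat.gcd (orderOf g) 2 = k :=
      Nat.div_eq_of_eq_mul_right hgpos hk
    rw [this]
    calc orderOf g = Nat.gcd (orderOf g) 2 * k := hk
      _ ≤ 2 * k := Nat.mul_le_mul_right k hg2
  have hmul : Nat.card (Subgroup.zpowers (g ^ 2)) *
      (Subgroup.zpowers (g ^ 2)).relIndex (Subgroup.zpowers g) = Nat.card (Subgroup.zpowers g) := by
    have := Subgroup.relIndex_mul_relIndex (⊥ : Subgroup X) _ _ bot_le hle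
    rwa [Subgroup.relIndex_bot_left, Subgroup.relIndex_bot_left] at this
  have hpos2 : 0 < Nat.card (Subgroup.zpowers (g ^ 2)) := Nat.card_pos
  by_contra hcon
  have hcon' : 3 ≤ (Subgroup.zpowers (g ^ 2)).relIndex (Subgroup.zpowers g) := by omega
  have : Nat.card (Subgroup.zpowers (g ^ 2)) * 3 ≤
      Nat.card (Subgroup.zpowers (g ^ 2)) *
        (Subgroup.zpowers (g ^ 2)).relIndex (Subgroup.zpowers g) :=
    Nat.mul_le_mul_left _ hcon'
  omega

theorem mcxp2_core {X : Type*} [Group X] [Finite X] (C H : Subgroup X) (hC : IsCyclic C)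
    (hidx : C.index ≤ 2) :
    (Subgroup.closure {y : X | ∃ h ∈ H, y = h ^ 2}).relIndex H ≤ 4 := by
  classical
  set A : Subgroup X := Subgroup.closure {y : X | ∃ h ∈ H, y = h ^ 2} with hA
  -- D = H ⊓ C is cyclic, generated by some g
  have hDC : IsCyclic (H ⊓ C : Subgroup X) := by
    have : IsCyclic ((H ⊓ C).subgroupOf C) := Subgroup.isCyclic _
    have e : ((H ⊓ C).subgroupOf C) ≃* (H ⊓ C : Subgroup X) :=
      Subgroup.subgroupOfEquivOfLe inf_le_right
    exact isCyclic_of_surjective e.toMonoidHom e.surjective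
  obtain ⟨⟨g, hgD⟩, hgen⟩ := hDC.exists_generator
  have hgH : g ∈ H := hgD.1
  have hDz : (H ⊓ C : Subgroup X) = Subgroup.zpowers g := by
    apply le_antisymm
    · intro x hx
      obtain ⟨k, hk⟩ := Subgroup.mem_zpowers_iff.mp (hgen ⟨x, hx⟩)
      have := congrArg Subtype.val hk
      simp only [Subgroup.coe_zpow] at this
      exact Subgroup.mem_zpowers_iff.mpr ⟨k, this⟩
    · exact Subgroup.zpowers_le.mpr hgD
  have hsqA : Subgroup.zpowers (g ^ 2) ≤ A :=
    Subgroup.zpowers_le.mpr (Subgroup.subset_closure ⟨g, hgH, rfl⟩)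
  have hzH : Subgroup.zpowers g ≤ H := Subgroup.zpowers_le.mpr hgH
  have hzz : Subgroup.zpowers (g ^ 2) ≤ Subgroup.zpowers g :=
    Subgroup.zpowers_le.mpr (Subgroup.pow_mem _ (Subgroup.mem_zpowers g) 2)
  have h1 : (Subgroup.zpowers g).relIndex H ≤ 2 := by
    rw [← hDz, Subgroup.inf_relIndex_left]
    have hne : C.relIndex (⊤ : Subgroup X) ≠ 0 := by
      rw [Subgroup.relIndex_top_right]; exact Subgroup.index_ne_zero_of_finite
    have := Subgroup.relIndex_le_of_le_right (H := C) (le_top : H ≤ ⊤) hne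
    rw [Subgroup.relIndex_top_right] at this
    exact this.trans hidx
  have h2 := mcxp2_zpowers_sq_relIndex g
  have h3 : (Subgroup.zpowers (g ^ 2)).relIndex H =
      (Subgroup.zpowers (g ^ 2)).relIndex (Subgroup.zpowers g) *
        (Subgroup.zpowers g).relIndex H :=
    (Subgroup.relIndex_mul_relIndex _ _ _ hzz hzH).symm
  have h4 : A.relIndex H ≤ (Subgroup.zpowers (g ^ 2)).relIndex H :=
    Subgroup.relIndex_le_of_le_left hsqA (by
      unfold Subgroup.relIndex; exact Subgroup.index_ne_zero_of_finite)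
  calc A.relIndex H ≤ (Subgroup.zpowers (g ^ 2)).relIndex H := h4
    _ = _ := h3
    _ ≤ 2 * 2 := Nat.mul_le_mul h2 h1
    _ = 4 := by norm_num

end Cfsg.Agent.Lib.Helper11.MCXP2
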