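import Mathlib
import Cfsg.Agent.Lib.Helper11.MCXP2core

/-! MCX piece P2 (`two_case`), verbatim statement of `Cfsg/Agent/Lib/Helper27/MCX/Skel.lean.txt`. -/

set_option autoImplicit false

namespace Cfsg.Agent.Lib.Helper27.MCX

universe u

/-- MCX-P2 -/
theorem two_case {G : Type u} [Group G] [Finite G] (C : Subgroup G) (hC : IsCyclic C)
    (hidx : C.index = 2) (H : Subgroup G) :
    (Subgroup.closure {y : G | ∃ g ∈ H, y = g ^ 2}).relIndex H ≤ 2 ^ 2 := by
  have h := Cfsg.Agent.Lib.Helper11.MCXP2.mcxp2_core C H hC (le_of_eq hidx)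
  norm_num
  exact h

end Cfsg.Agent.Lib.Helper27.MCX
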