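import Mathlib
import Cfsg.Agent.Lib.helper2.MI2.Defs

/-!
# MI2 O2 (helper11), VERBATIM: `Phi0` has `bnd m` zeros (given the count of the hyperbolic quadric)
-/

set_option autoImplicit false
set_option linter.unusedVariables false
set_option linter.unusedSectionVars false

namespace Cfsg.Agent.Lib.helper2.MI2

open Matrix

variable {m : ℕ}

theorem mi2o2_a0_inl (hm : 0 < m) (i : Fin m) : a0 hm (Sum.inl i) = if i = ⟨0, hm⟩ then 1 else 0 := by
  simp [a0, Pi.single_apply]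

theorem mi2o2_a0_inr (hm : 0 < m) (i : Fin m) : a0 hm (Sum.inr i) = if i = ⟨0, hm⟩ then 1 else 0 := by
  simp [a0, Pi.single_apply]

theorem mi2o2_Q0_add_a0 (hm : 0 < m) (x : V m) :
    Q0 (x + a0 hm) = Q0 x + x (Sum.inl ⟨0, hm⟩) + x (Sum.inr ⟨0, hm⟩) + 1 := by
  unfold Q0
  have h : ∀ i : Fin m, (x + a0 hm) (Sum.inl i) * (x + a0 hm) (Sum.inr i) =
      x (Sum.inl i) * x (Sum.inr i) + (if i = ⟨0, hm⟩ then x (Sum.inl i) + x (Sum.inr i) + 1 else 0) := by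
    intro i
    simp only [Pi.add_apply, mi2o2_a0_inl, mi2o2_a0_inr]
    split_ifs <;> ring
  simp only [h, Finset.sum_add_distrib, Finset.sum_ite_eq', Finset.mem_univ, if_true]
  ring

theorem mi2o2_Phi0_eq (hm : 0 < m) (x : V m) : Phi0 x = Q0 (x + a0 hm) + 1 := by
  rw [mi2o2_Q0_add_a0, Phi0_eq_Q0 hm]
  linear_combination - z2_add_self (1 : ZMod 2)

theorem mi2o2_arith (k : ℕ) :
    2 ^ (2 * (k + 1)) - (2 ^ (2 * (k + 1) - 1) + 2 ^ (k + 1 - 1)) = 2 ^ (k + 1 - 1) * (2 ^ (k + 1) - 1) := by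
  have e1 : 2 * (k + 1) - 1 = 2 * k + 1 := by omega
  have e2 : k + 1 - 1 = k := by omega
  rw [e1, e2]
  have hA : 1 ≤ 2 ^ k := Nat.one_le_two_pow
  obtain ⟨a, ha⟩ : ∃ a, 2 ^ k = a + 1 := ⟨2 ^ k - 1, by omega⟩
  have e3 : 2 ^ (2 * (k + 1)) = 4 * (a + 1) * (a + 1) := by rw [← ha]; ring
  have e4 : 2 ^ (2 * k + 1) = 2 * (a + 1) * (a + 1) := by rw [← ha]; ring
  have e5 : 2 ^ (k + 1) = 2 * (a + 1) := by rw [← ha]; ring
  rw [e3, e4, e5, ha]
  have e6 : 2 * (a + 1) - 1 = 2 * a + 1 := by omega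
  rw [e6]
  apply Nat.sub_eq_of_eq_add
  ring

/-- **O2** -/
theorem card_Phi0_zero (hm : 1 ≤ m)
    (hQ : Nat.card {x : V m | Q0 x = 0} = 2 ^ (2 * m - 1) + 2 ^ (m - 1)) :
    Nat.card {x : V m | Phi0 x = 0} = bnd m := by
  classical
  have hm0 : 0 < m := hm
  -- step 1: translate by `a0`
  have h1 : Nat.card {x : V m | Phi0 x = 0} = Nat.card {x : V m // ¬ (Q0 x = 0)} := by
    refine Nat.card_congr (Equiv.subtypeEquiv (Equiv.addRight (a0 hm0)) ?_)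
    intro x
    show Phi0 x = 0 ↔ ¬ (Q0 (x + a0 hm0) = 0)
    rw [mi2o2_Phi0_eq hm0 x]
    generalize Q0 (x + a0 hm0) = c
    revert c; decide
  -- step 2: complement count
  have h2 : Nat.card {x : V m // ¬ (Q0 x = 0)} = Nat.card (V m) - Nat.card {x : V m // Q0 x = 0} := by
    rw [Nat.card_eq_fintype_card, Nat.card_eq_fintype_card, Nat.card_eq_fintype_card]
    exact Fintype.card_subtype_compl _
  have h3 : Nat.card (V m) = 2 ^ (2 * m) := by
    rw [Nat.card_eq_fintype_card, Fintype.card_fun, ZMod.card, Fintype.card_sum, Fintype.card_fin, two_mul]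
  have h4 : Nat.card {x : V m // Q0 x = 0} = 2 ^ (2 * m - 1) + 2 ^ (m - 1) := hQ
  rw [h1, h2, h3, h4]
  obtain ⟨k, rfl⟩ : ∃ k, m = k + 1 := ⟨m - 1, by omega⟩
  unfold bnd
  exact mi2o2_arith k


end Cfsg.Agent.Lib.helper2.MI2
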