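import Mathlib
import Cfsg.Agent.Lib.helper2.MI2.Defs

/-!
# MI2 O3 (helper11), VERBATIM: every `g` changes `Phi0` by a linear functional
-/

set_option autoImplicit false
set_option linter.unusedVariables false
set_option linter.unusedSectionVars false

namespace Cfsg.Agent.Lib.helper2.MI2

open Matrix

variable {m : ℕ}

theorem mi2o3_ff_sum_right (x : V m) (s : Finset (Fin m ⊕ Fin m)) (c : Fin m ⊕ Fin m → ZMod 2)
    (w : Fin m ⊕ Fin m → V m) : ff x (∑ i ∈ s, c i • w i) = ∑ i ∈ s, c i * ff x (w i) := by
  classical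
  induction s using Finset.induction_on with
  | empty => simp
  | insert i s hi ih => rw [Finset.sum_insert hi, Finset.sum_insert hi, ff_add_right, ff_smul_right, ih]

/-- an additive function `V m → ZMod 2` is a value of the form -/
theorem mi2o3_riesz (lam : V m → ZMod 2) (hzero : lam 0 = 0) (hadd : ∀ x y, lam (x + y) = lam x + lam y) :
    ∃ a : V m, ∀ x : V m, lam x = ff x a := by
  classical
  let L : V m →+ ZMod 2 := ⟨⟨lam, hzero⟩, hadd⟩
  have hL : ∀ x, L x = lam x := fun _ => rfl
  have hsmul : ∀ (c : ZMod 2) (v : V m), lam (c • v) = c * lam v := by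
    intro c v
    rcases z2_cases c with rfl | rfl <;> simp [hzero]
  have hsum : ∀ x : V m, lam x = ∑ i, x i * lam (Pi.single i 1) := by
    intro x
    have e : x = ∑ i, x i • (Pi.single i 1 : V m) := by
      conv_lhs => rw [← Finset.univ_sum_single x]
      refine Finset.sum_congr rfl fun i _ => ?_
      funext j
      simp [Pi.single_apply]
    conv_lhs => rw [e]
    rw [← hL, map_sum]
    refine Finset.sum_congr rfl fun i _ => ?_
    rw [hL, hsmul]
  refine ⟨∑ i, lam (Pi.single i 1) • (-(Matrix.J (Fin m) (ZMod 2) *ᵥ Pi.single i 1)), fun x => ?_⟩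
  rw [mi2o3_ff_sum_right, hsum x]
  refine Finset.sum_congr rfl fun i _ => ?_
  rw [ff_J_single, mul_comm]

/-- **O3** -/
theorem Phi0_act (g : G m) : ∃ a : V m, ∀ x : V m, Phi0 (act g x) = Phi0 x + ff x a := by
  obtain ⟨a, ha⟩ := mi2o3_riesz (fun x => Phi0 (act g x) + Phi0 x) (by simp) (by
    intro x y
    simp only [act_add, Phi0_add, ff_act]
    linear_combination z2_add_self (ff x y))
  refine ⟨a, fun x => ?_⟩
  have h : Phi0 (act g x) + Phi0 x = ff x a := ha x
  rw [← h]
  linear_combination - z2_add_self (Phi0 x)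


end Cfsg.Agent.Lib.helper2.MI2
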