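import Mathlib
import Cfsg.Agent.Lib.helper2.MIDefs

/-!
# Project MI (S2140), piece MI-D: trace-form duality on `Fin n → F` over the prime field.
-/

set_option autoImplicit false
set_option linter.unusedSectionVars false
set_option linter.unusedVariables false

namespace Cfsg.Agent.Lib.Helper11.MI

open Matrix Cfsg.Agent.Lib.helper2.MI

variable {n : ℕ} {F : Type*} [Field F]

section trace
variable (p : ℕ) [Fact p.Prime] [Algebra (ZMod p) F]

/-- the trace form `(x, y) ↦ Tr_{F/F_p}(x ⬝ᵥ y)` on `Fin n → F`. -/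
noncomputable def trB (n : ℕ) : LinearMap.BilinForm (ZMod p) (Fin n → F) :=
  LinearMap.mk₂ (ZMod p) (fun x y => Algebra.trace (ZMod p) F (x ⬝ᵥ y))
    (by intro x x' y; simp [add_dotProduct])
    (by intro c x y; simp [smul_dotProduct])
    (by intro x y y'; simp [dotProduct_add])
    (by intro c x y; simp [dotProduct_smul])

theorem trB_apply (n : ℕ) (x y : Fin n → F) :
    trB (F := F) p n x y = Algebra.trace (ZMod p) F (x ⬝ᵥ y) := rfl

/-- if `Tr(c * a) = 0` for all `c`, then `a = 0`. -/
theorem eq_zero_of_trace_mul [Finite F] (a : F)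
    (h : ∀ c : F, Algebra.trace (ZMod p) F (c * a) = 0) : a = 0 := by
  have : FiniteDimensional (ZMod p) F := Module.Finite.of_finite
  have hnd := traceForm_nondegenerate (ZMod p) F
  apply hnd.2 a
  intro c
  rw [Algebra.traceForm_apply]
  exact h c

theorem trB_symm (n : ℕ) (x y : Fin n → F) : trB (F := F) p n x y = trB (F := F) p n y x := by
  rw [trB_apply, trB_apply, dotProduct_comm]

theorem trB_nondegenerate [Finite F] (n : ℕ) : (trB (F := F) p n).Nondegenerate := by
  have key : ∀ x : Fin n → F, (∀ y, trB (F := F) p n x y = 0) → x = 0 := by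
    intro x hx
    funext i
    apply eq_zero_of_trace_mul p
    intro c
    have := hx (Pi.single i c)
    rw [trB_apply, dotProduct_single] at this
    rw [mul_comm]
    exact this
  refine ⟨key, ?_⟩
  intro y hy
  apply key
  intro x
  rw [trB_symm]
  exact hy x

/-- the orthogonal of an additive subgroup w.r.t. the trace form. -/
noncomputable def perpT (n : ℕ) (A : AddSubgroup (Fin n → F)) : AddSubgroup (Fin n → F) :=
  ((trB (F := F) p n).orthogonal (AddSubgroup.toZModSubmodule p A)).toAddSubgroup

theorem mem_perpT (n : ℕ) (A : AddSubgroup (Fin n → F)) (y : Fin n → F) :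
    y ∈ perpT (F := F) p n A ↔ ∀ φ ∈ A, Algebra.trace (ZMod p) F (φ ⬝ᵥ y) = 0 := by
  unfold perpT
  rw [Submodule.mem_toAddSubgroup, LinearMap.BilinForm.mem_orthogonal_iff]
  constructor
  · intro h φ hφ
    have := h φ hφ
    rw [trB_apply] at this
    exact this
  · intro h φ hφ
    rw [trB_apply]
    exact h φ hφ

theorem card_perpT [Fintype F] (n : ℕ) (A : AddSubgroup (Fin n → F)) :
    Nat.card A * Nat.card (perpT (F := F) p n A) = Fintype.card F ^ n := by
  have hfd : FiniteDimensional (ZMod p) (Fin n → F) := Module.Finite.of_finite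
  set W : Submodule (ZMod p) (Fin n → F) := AddSubgroup.toZModSubmodule p A with hW
  have h1 : Nat.card A = p ^ Module.finrank (ZMod p) W := by
    have : Nat.card W = Nat.card (ZMod p) ^ Module.finrank (ZMod p) W :=
      Module.natCard_eq_pow_finrank
    rw [Nat.card_zmod] at this
    rw [← this]
    rfl
  have h2 : Nat.card (perpT (F := F) p n A)
      = p ^ Module.finrank (ZMod p) ((trB (F := F) p n).orthogonal W) := by
    have : Nat.card ((trB (F := F) p n).orthogonal W)
        = Nat.card (ZMod p) ^ Module.finrank (ZMod p) ((trB (F := F) p n).orthogonal W) :=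
      Module.natCard_eq_pow_finrank
    rw [Nat.card_zmod] at this
    rw [← this]
    rfl
  have h3 : Fintype.card F ^ n = p ^ Module.finrank (ZMod p) (Fin n → F) := by
    have : Nat.card (Fin n → F) = Nat.card (ZMod p) ^ Module.finrank (ZMod p) (Fin n → F) :=
      Module.natCard_eq_pow_finrank
    rw [Nat.card_zmod] at this
    rw [← this, Nat.card_fun, Nat.card_eq_fintype_card, Nat.card_eq_fintype_card, Fintype.card_fin]
  have h4 := LinearMap.BilinForm.finrank_orthogonal (trB_nondegenerate (F := F) p n) W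
  have h5 : Module.finrank (ZMod p) W ≤ Module.finrank (ZMod p) (Fin n → F) :=
    Submodule.finrank_le W
  rw [h1, h2, h3, h4, ← pow_add]
  congr 1
  omega

end trace

/-! ## MI-D : trace-form duality, packaged existentially -/
theorem exists_perp [Fintype F] (n : ℕ) :
    ∃ perp : AddSubgroup (Fin n → F) → AddSubgroup (Fin n → F),
      (∀ A : AddSubgroup (Fin n → F), Nat.card A * Nat.card (perp A) = Fintype.card F ^ n) ∧
      (∀ (A : AddSubgroup (Fin n → F)) (y : Fin n → F), (∀ φ ∈ A, φ ⬝ᵥ y = 0) → y ∈ perp A) ∧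
      (∀ (A : AddSubgroup (Fin n → F)) (y : Fin n → F),
        (∀ c : F, c • y ∈ perp A) → ∀ φ ∈ A, φ ⬝ᵥ y = 0) ∧
      (∀ (A : AddSubgroup (Fin n → F)) (g : SpecialLinearGroup (Fin n) F) (y : Fin n → F),
        y ∈ perp A ↔ g.1 *ᵥ y ∈ perp (A.map (rowAct g))) := by
  classical
  obtain ⟨p, hp⟩ := CharP.exists F
  have : Fact p.Prime := ⟨CharP.char_is_prime F p⟩
  letI : Algebra (ZMod p) F := ZMod.algebra F p
  refine ⟨perpT (F := F) p n, ?_, ?_, ?_, ?_⟩
  · intro A
    exact card_perpT p n A
  · intro A y h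
    rw [mem_perpT]
    intro φ hφ
    rw [h φ hφ, map_zero]
  · intro A y h φ hφ
    apply eq_zero_of_trace_mul p
    intro c
    have := (mem_perpT p n A (c • y)).mp (h c) φ hφ
    rw [dotProduct_smul, smul_eq_mul] at this
    exact this
  · intro A g y
    have hgg : (g⁻¹ : SpecialLinearGroup (Fin n) F).1 * g.1 = 1 := by
      have := inv_mul_cancel g
      exact congrArg Subtype.val this
    have key : ∀ φ : Fin n → F, (rowAct g φ) ⬝ᵥ (g.1 *ᵥ y) = φ ⬝ᵥ y := by
      intro φ
      rw [rowAct_apply, ← Matrix.dotProduct_mulVec, Matrix.mulVec_mulVec, hgg, Matrix.one_mulVec]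
    rw [mem_perpT, mem_perpT]
    constructor
    · intro h ψ hψ
      obtain ⟨φ, hφ, rfl⟩ := AddSubgroup.mem_map.mp hψ
      rw [key]
      exact h φ hφ
    · intro h φ hφ
      have := h (rowAct g φ) (AddSubgroup.mem_map_of_mem _ hφ)
      rw [key] at this
      exact this

end Cfsg.Agent.Lib.Helper11.MI
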