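import Mathlib
import Cfsg.Agent.Lib.Helper24.MNP.Defs

set_option autoImplicit false

namespace Cfsg.Agent.Lib.Helper24.MNP

open scoped commutatorElement

universe u

section B

variable {K : Type u} [Field K] {σ : InvHom K}

theorem mnpb3_comm_UT (a b : UT K σ) :
    (⁅a, b⁆ : UT K σ).x = 0 ∧ (⁅a, b⁆ : UT K σ).z = σ.s a.x * b.x - σ.s b.x * a.x := by
  constructor
  · simp only [commutatorElement_def, UT.mul_x, UT.inv_x]
    ring
  · simp only [commutatorElement_def, UT.mul_z, UT.mul_x, UT.inv_z, UT.inv_x, map_add, map_neg]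
    ring

def mnpb3_f1 (σ : InvHom K) : Multiplicative K →* UT K σ where
  toFun w := ⟨0, σ.s (Multiplicative.toAdd w) - Multiplicative.toAdd w, by
    simp only [map_sub, σ.inv, map_zero]
    ring⟩
  map_one' := by
    apply UT.ext
    · rfl
    · show σ.s (0 : K) - 0 = 0
      rw [map_zero, sub_zero]
  map_mul' a b := by
    apply UT.ext
    · show (0 : K) = 0 + 0
      rw [add_zero]
    · show σ.s (Multiplicative.toAdd a + Multiplicative.toAdd b) -
        (Multiplicative.toAdd a + Multiplicative.toAdd b) =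
        (σ.s (Multiplicative.toAdd a) - Multiplicative.toAdd a) +
        (σ.s (Multiplicative.toAdd b) - Multiplicative.toAdd b) + σ.s 0 * 0
      rw [map_add]
      ring

theorem mnpb3_f1_x (w : Multiplicative K) : (mnpb3_f1 σ w).x = 0 := rfl

theorem mnpb3_f1_z (w : Multiplicative K) :
    (mnpb3_f1 σ w).z = σ.s (Multiplicative.toAdd w) - Multiplicative.toAdd w := rfl

variable {P : Type u} [Group P]

def mnpb3_f2 (L : K →+ Additive (Subgroup.center P)) : Multiplicative K →* P :=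
  (Subgroup.center P).subtype.comp (AddMonoidHom.toMultiplicativeLeft L)

theorem mnpb3_f2_apply (L : K →+ Additive (Subgroup.center P)) (w : Multiplicative K) :
    mnpb3_f2 L w = ((Additive.toMul (L (Multiplicative.toAdd w)) : Subgroup.center P) : P) := rfl

theorem mnpb3_core (σ : InvHom K) (π : P →* Multiplicative K)
    (β : K → K → Additive (Subgroup.center P))
    (hβ : ∀ x y : P, ((Additive.toMul (β (Multiplicative.toAdd (π x)) (Multiplicative.toAdd (π y))) :
        Subgroup.center P) : P) = ⁅x, y⁆)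
    (L : K →+ Additive (Subgroup.center P)) (hL1 : ∀ x y, β x y = L (x * σ.s y))
    (hL2 : ∀ t, σ.s t = t → L t = 0) :
    ∃ Γ : Subgroup (UT K σ × P), (∀ y : P, ((1 : UT K σ), y) ∈ Γ → y = 1) ∧
      ∀ (t t' : UT K σ) (y y' : P), piU t = π y → piU t' = π y' →
        ((⁅t, t'⁆, ⁅y, y'⁆) : UT K σ × P) ∈ Γ := by
  refine ⟨((mnpb3_f1 σ).prod (mnpb3_f2 L)).range, ?_, ?_⟩
  · rintro y ⟨w, hw⟩
    rw [MonoidHom.prod_apply, Prod.mk.injEq] at hw
    obtain ⟨h1, h2⟩ := hw
    have hz : (mnpb3_f1 σ w).z = 0 := by rw [h1]; rfl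
    rw [mnpb3_f1_z, sub_eq_zero] at hz
    rw [← h2, mnpb3_f2_apply, hL2 _ hz]
    rfl
  · intro t t' y y' ht ht'
    have e1 : Multiplicative.toAdd (π y) = t.x := by rw [← ht]; rfl
    have e2 : Multiplicative.toAdd (π y') = t'.x := by rw [← ht']; rfl
    refine ⟨Multiplicative.ofAdd (t.x * σ.s t'.x), ?_⟩
    rw [MonoidHom.prod_apply, Prod.mk.injEq]
    obtain ⟨c1, c2⟩ := mnpb3_comm_UT t t'
    constructor
    · apply UT.ext
      · rw [mnpb3_f1_x, c1]
      · rw [mnpb3_f1_z, c2, toAdd_ofAdd, map_mul, σ.inv]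
        ring
    · rw [mnpb3_f2_apply, toAdd_ofAdd, ← hL1, ← hβ y y', e1, e2]

end B

end Cfsg.Agent.Lib.Helper24.MNP
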