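import Mathlib
import Cfsg.Agent.Lib.Helper24.MNP.Defs
import Cfsg.Agent.Lib.Helper11.MNPB3core
import Cfsg.Agent.Lib.Helper22.MNPB1
import Cfsg.Agent.Lib.Helper1.MNPF8

set_option autoImplicit false

namespace Cfsg.Agent.Lib.Helper24.MNP

open scoped commutatorElement IsMulCommutative
open Cfsg.Agent.Lib.Helper24.SCH (SchAct)

universe u

section B

variable {K : Type u} [Field K] [Finite K] {p q : ℕ} [Fact p.Prime] [Fact q.Prime] [CharP K p]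
variable {P : Type u} [Group P] [Finite P] {α : MulAut P}

theorem exists_gamma (hpq : p ≠ q) {m : ℕ} (hm : 1 ≤ m) (hK : Nat.card K = p ^ (2 * m))
    (ha : 2 * m = orderOf (p : ZMod q)) (ζ : K) (hζ : orderOf ζ = q) (hζ0 : ζ ≠ 0) (σ : InvHom K)
    (hσ : ∀ x, σ.s x = x ^ (p ^ m)) (h : SchAct p q P α)
    (π : P →* Multiplicative K) (hπs : Function.Surjective π) (hπk : ∀ x, π x = 1 ↔ α x = x)
    (hπe : ∀ x, π (α x) = alphaK ζ hζ0 (π x)) :
    ∃ Γ : Subgroup (UT K σ × P), (∀ y : P, ((1 : UT K σ), y) ∈ Γ → y = 1) ∧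
      ∀ (t t' : UT K σ) (y y' : P), piU t = π y → piU t' = π y' → ((⁅t, t'⁆, ⁅y, y'⁆) : UT K σ × P) ∈ Γ := by
  obtain ⟨β, hβ, hadd1, hadd2, halt, hinv⟩ := comm_form ζ hζ0 h π hπs hπk hπe
  obtain ⟨L, hL1, hL2⟩ := univ_form_even hpq hm hK ha ζ hζ σ hσ β hadd1 hadd2 halt hinv
  exact mnpb3_core σ π β hβ L hL1 hL2

end B

end Cfsg.Agent.Lib.Helper24.MNP
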