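import Mathlib
import Cfsg.Agent.Lib.Helper24.MNP.Defs

set_option autoImplicit false

namespace Cfsg.Agent.Lib.Helper24.MNP

universe u

section M

open SemidirectProduct

noncomputable def mnpm11_cyc {X : Type u} [Group X] (n : ℕ) (c : X) (h : c ^ n = 1) :
    Multiplicative (ZMod n) →* X :=
  AddMonoidHom.toMultiplicativeLeft
    (ZMod.lift n ⟨zmultiplesHom (Additive X) (Additive.ofMul c), by
      simp only [zmultiplesHom_apply, natCast_zsmul]
      rw [← ofMul_pow, h, ofMul_one]⟩)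

theorem mnpm11_cyc_int {X : Type u} [Group X] (n : ℕ) (c : X) (h : c ^ n = 1) (j : ℤ) :
    mnpm11_cyc n c h (Multiplicative.ofAdd ((j : ℤ) : ZMod n)) = c ^ j := by
  show Additive.toMul (ZMod.lift n _ ((j : ZMod n))) = c ^ j
  rw [ZMod.lift_coe]
  simp only [zmultiplesHom_apply]
  rfl

theorem mnpm11_cyc_one {X : Type u} [Group X] (n : ℕ) (c : X) (h : c ^ n = 1) :
    mnpm11_cyc n c h (Multiplicative.ofAdd (1 : ZMod n)) = c := by
  have := mnpm11_cyc_int n c h 1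
  rwa [Int.cast_one, zpow_one] at this

theorem mnpm11_cycHom_eq {T : Type u} [Group T] (n : ℕ) (α : MulAut T) (h : α ^ n = 1) :
    cycHom n α h = mnpm11_cyc n α h := rfl

theorem mnpm11_nat {T X : Type u} [Group T] [Group X] (ψ : T →* X) (c : X) (α₀ : MulAut T)
    (hconj : ∀ t, c * ψ t * c⁻¹ = ψ (α₀ t)) (j : ℕ) (t : T) :
    ψ ((α₀ ^ j) t) = c ^ j * ψ t * (c ^ j)⁻¹ := by
  induction j generalizing t with
  | zero => simp
  | succ j ih =>
    rw [pow_succ, MulAut.mul_apply, ih, ← hconj, pow_succ]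
    group

theorem mnpm11_int {T X : Type u} [Group T] [Group X] (ψ : T →* X) (c : X) (α₀ : MulAut T)
    (hconj : ∀ t, c * ψ t * c⁻¹ = ψ (α₀ t)) (j : ℤ) (t : T) :
    ψ ((α₀ ^ j) t) = c ^ j * ψ t * (c ^ j)⁻¹ := by
  obtain ⟨k, rfl | rfl⟩ := j.eq_nat_or_neg
  · rw [zpow_natCast, zpow_natCast]
    exact mnpm11_nat ψ c α₀ hconj k t
  · rw [zpow_neg, zpow_natCast, zpow_neg, zpow_natCast, inv_inv]
    have h := mnpm11_nat ψ c α₀ hconj k ((α₀ ^ k)⁻¹ t)
    rw [MulAut.apply_inv_self] at h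
    rw [h]
    group

variable {T : Type u} [Group T] [Finite T] {p q r : ℕ} [Fact p.Prime] {α₀ : MulAut T}

theorem exists_lift (hn : α₀ ^ (q ^ r) = 1) {X : Type u} [Group X] (ψ : T →* X) (c : X)
    (hc : c ^ (q ^ r) = 1) (hconj : ∀ t, c * ψ t * c⁻¹ = ψ (α₀ t)) :
    ∃ φ : G0 (q ^ r) α₀ hn →* X, (∀ t, φ (inl t) = ψ t) ∧
      φ (inr (Multiplicative.ofAdd (1 : ZMod (q ^ r)))) = c := by
  have H : ∀ g : Multiplicative (ZMod (q ^ r)),
      ψ.comp (cycHom (q ^ r) α₀ hn g).toMonoidHom =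
        (MulAut.conj (mnpm11_cyc (q ^ r) c hc g)).toMonoidHom.comp ψ := by
    intro g
    obtain ⟨j, hj⟩ := ZMod.intCast_surjective (Multiplicative.toAdd g)
    have hg : g = Multiplicative.ofAdd ((j : ℤ) : ZMod (q ^ r)) := by
      rw [hj]
      rfl
    ext t
    rw [hg, mnpm11_cycHom_eq, mnpm11_cyc_int, mnpm11_cyc_int]
    simp only [MonoidHom.comp_apply, MulEquiv.coe_toMonoidHom, MulAut.conj_apply]
    exact mnpm11_int ψ c α₀ hconj j t
  refine ⟨SemidirectProduct.lift ψ (mnpm11_cyc (q ^ r) c hc) H, fun t => ?_, ?_⟩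
  · rw [lift_inl]
  · rw [lift_inr, mnpm11_cyc_one]

end M

end Cfsg.Agent.Lib.Helper24.MNP
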