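import Mathlib
import Cfsg.Agent.Lib.Helper27.MSS.Base
import Cfsg.Prelude.Def_OddOrderLocal

/-!
# Project MSS (S5287) : piece AB
-/

set_option autoImplicit false

namespace Cfsg.Agent.Lib.Helper27.MSS

open Cfsg Cfsg.FusionSystem Cfsg.Agent.Lib.Helper26 Cfsg.Agent.Lib.Helper27.AbInvNeg

/-- in a finite cyclic group there are at most `p` solutions of `x ^ p = 1` -/
theorem mssab_cyclic_le {X : Type*} [Group X] [Finite X] [IsCyclic X] {p : ℕ} (hp : 0 < p) :
    Nat.card {x : X // x ^ p = 1} ≤ p := by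
  classical
  let _ : Fintype X := Fintype.ofFinite X
  rw [Nat.card_eq_fintype_card, Fintype.card_subtype]
  exact IsCyclic.card_pow_eq_one_le hp

/-- in a finite abelian metacyclic group there are at most `p ^ 2` solutions of `x ^ p = 1` -/
theorem mssab_bound {A : Type*} [Group A] [Finite A] (hcomm : ∀ a b : A, a * b = b * a)
    (hm : Cfsg.IsMetacyclic A) {p : ℕ} (hp : 0 < p) :
    Nat.card {x : A // x ^ p = 1} ≤ p ^ 2 := by
  obtain ⟨N, hN, hcN, hcQ⟩ := hm
  let K : Subgroup A :=
    { carrier := {x | x ^ p = 1}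
      mul_mem' := by
        intro a b ha hb
        show (a * b) ^ p = 1
        have ha' : a ^ p = 1 := ha
        have hb' : b ^ p = 1 := hb
        have hc : Commute a b := hcomm a b
        rw [hc.mul_pow, ha', hb', one_mul]
      one_mem' := one_pow p
      inv_mem' := by
        intro a ha
        show a⁻¹ ^ p = 1
        have ha' : a ^ p = 1 := ha
        rw [inv_pow, ha', inv_one] }
  have hK : ∀ x : A, x ∈ K ↔ x ^ p = 1 := fun x => Iff.rfl
  let φ : K →* A ⧸ N := (QuotientGroup.mk' N).comp K.subtype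
  have h1 : Nat.card φ.ker * Nat.card φ.range = Nat.card K := by
    rw [← Subgroup.index_ker]
    exact Subgroup.card_mul_index _
  have h2 : Nat.card φ.ker ≤ p := by
    refine le_trans ?_ (mssab_cyclic_le (X := N) hp)
    have hmem : ∀ k : φ.ker, ((k : K) : A) ∈ N := by
      intro k
      have := MonoidHom.mem_ker.mp k.2
      exact (QuotientGroup.eq_one_iff _).mp this
    apply Nat.card_le_card_of_injective
      (fun k : φ.ker => (⟨⟨((k : K) : A), hmem k⟩, by
        apply Subtype.ext
        exact (hK _).mp (k : K).2⟩ : {x : N // x ^ p = 1}))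
    intro k k' hkk
    have := congrArg (fun z : {x : N // x ^ p = 1} => ((z : N) : A)) hkk
    exact Subtype.ext (Subtype.ext this)
  have h3 : Nat.card φ.range ≤ p := by
    refine le_trans ?_ (mssab_cyclic_le (X := A ⧸ N) hp)
    apply Nat.card_le_card_of_injective
      (fun y : φ.range => (⟨(y : A ⧸ N), by
        obtain ⟨k, hk⟩ := y.2
        rw [← hk, ← map_pow]
        have : k ^ p = 1 := Subtype.ext ((hK _).mp k.2)
        rw [this, map_one]⟩ : {x : A ⧸ N // x ^ p = 1}))
    intro y y' hyy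
    have := congrArg (fun z : {x : A ⧸ N // x ^ p = 1} => (z : A ⧸ N)) hyy
    exact Subtype.ext this
  have h4 : Nat.card {x : A // x ^ p = 1} = Nat.card K := rfl
  rw [h4, ← h1, pow_two]
  exact Nat.mul_le_mul h2 h3

/-- elements of `zpowers g` are killed by `p` if `g` is -/
theorem mssab_pow_of_mem {X : Type*} [Group X] {g x : X} {p : ℕ} (hg : g ^ p = 1)
    (hx : x ∈ Subgroup.zpowers g) : x ^ p = 1 := by
  obtain ⟨i, rfl⟩ := Subgroup.mem_zpowers_iff.mp hx
  rw [← zpow_natCast, ← zpow_mul, mul_comm, zpow_mul, zpow_natCast, hg, one_zpow]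

/-- AB -/
theorem no_square_of_metacyclic {A : Type*} [Group A] [Finite A] {p : ℕ} [Fact p.Prime]
    (hA : IsPGroup p A) (hm : Cfsg.IsMetacyclic A)
    (hno : ¬ ∃ n : ℕ, 0 < n ∧
      Nonempty (A ≃* Multiplicative (ZMod (p ^ n)) × Multiplicative (ZMod (p ^ n)))) :
    ¬ ∃ (n : ℕ) (H : Type) (_ : CommGroup H), 0 < n ∧
      Nonempty (A ≃* (Multiplicative (ZMod (p ^ n)) × Multiplicative (ZMod (p ^ n))) × H) := by
  rintro ⟨n, H, instH, hn, ⟨e⟩⟩
  have hp : p.Prime := Fact.out
  have hcomm : ∀ a b : A, a * b = b * a := by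
    intro a b
    apply e.injective
    rw [map_mul, map_mul, mul_comm]
  have hbound := mssab_bound hcomm hm hp.pos
  by_cases hH : Subsingleton H
  · apply hno
    have : Unique H := ⟨⟨1⟩, fun a => Subsingleton.elim _ _⟩
    exact ⟨n, hn, ⟨e.trans MulEquiv.prodUnique⟩⟩
  · have : NeZero (p ^ n) := ⟨pow_ne_zero n hp.ne_zero⟩
    have : Finite ((Multiplicative (ZMod (p ^ n)) × Multiplicative (ZMod (p ^ n))) × H) :=
      Finite.of_equiv A e.toEquiv
    have : Finite H := Finite.of_surjective
      (Prod.snd : (Multiplicative (ZMod (p ^ n)) × Multiplicative (ZMod (p ^ n))) × H → H)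
      Prod.snd_surjective
    have hHp : IsPGroup p H := by
      refine hA.of_surjective ((MonoidHom.snd _ H).comp e.toMonoidHom) ?_
      intro y
      exact ⟨e.symm (1, y), by simp⟩
    have hdvdH : p ∣ Nat.card H := by
      rcases hHp.card_eq_or_dvd with h1 | h1
      · exact absurd (Nat.card_eq_one_iff_unique.mp h1).1 hH
      · exact h1
    obtain ⟨h₀, hh₀⟩ := exists_prime_orderOf_dvd_card' p hdvdH
    have hdvdC : p ∣ Nat.card (Multiplicative (ZMod (p ^ n))) := by
      have : Nat.card (Multiplicative (ZMod (p ^ n))) = p ^ n := Nat.card_zmod _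
      rw [this]
      exact dvd_pow_self p hn.ne'
    obtain ⟨c₁, hc₁⟩ := exists_prime_orderOf_dvd_card' p hdvdC
    let T : Subgroup ((Multiplicative (ZMod (p ^ n)) × Multiplicative (ZMod (p ^ n))) × H) :=
      ((Subgroup.zpowers c₁).prod (Subgroup.zpowers c₁)).prod (Subgroup.zpowers h₀)
    have hT : Nat.card T = p ^ 3 := by
      rw [Nat.card_congr (Subgroup.prodEquiv _ _).toEquiv, Nat.card_prod,
        Nat.card_congr (Subgroup.prodEquiv _ _).toEquiv, Nat.card_prod, Nat.card_zpowers,
        Nat.card_zpowers, hc₁, hh₀]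
      ring
    have hc₁p : c₁ ^ p = 1 := by
      have := pow_orderOf_eq_one c₁
      rwa [hc₁] at this
    have hh₀p : h₀ ^ p = 1 := by
      have := pow_orderOf_eq_one h₀
      rwa [hh₀] at this
    have hTp : ∀ t : T, ((t : (Multiplicative (ZMod (p ^ n)) × Multiplicative (ZMod (p ^ n))) × H)) ^ p
        = 1 := by
      rintro ⟨⟨⟨a, b⟩, c⟩, ht⟩
      obtain ⟨hab, hc⟩ := Subgroup.mem_prod.mp ht
      obtain ⟨ha, hb⟩ := Subgroup.mem_prod.mp hab
      simp only [Prod.pow_mk]
      rw [mssab_pow_of_mem hc₁p ha, mssab_pow_of_mem hc₁p hb, mssab_pow_of_mem hh₀p hc]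
      rfl
    have hle : Nat.card T ≤ Nat.card {x : A // x ^ p = 1} := by
      apply Nat.card_le_card_of_injective
        (fun t : T => (⟨e.symm (t : _), by rw [← map_pow, hTp t, map_one]⟩ : {x : A // x ^ p = 1}))
      intro t t' htt
      have := congrArg (fun z : {x : A // x ^ p = 1} => (z : A)) htt
      exact Subtype.ext (e.symm.injective this)
    rw [hT] at hle
    have h2 : 2 ≤ p := hp.two_le
    have : p ^ 3 = p ^ 2 * p := by ring
    nlinarith [Nat.pos_of_ne_zero (pow_ne_zero 2 hp.ne_zero)]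

end Cfsg.Agent.Lib.Helper27.MSS
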