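import Mathlib
import Cfsg.Agent.Lib.Helper27.MSS.Base

/-!
# Project MSS (S5287) : piece NR
-/

set_option autoImplicit false

namespace Cfsg.Agent.Lib.Helper27.MSS

open Cfsg Cfsg.FusionSystem Cfsg.Agent.Lib.Helper26 Cfsg.Agent.Lib.Helper27.AbInvNeg

/-- NR -/
theorem not_resistant_of_badModel {Ω : Type*} [Group Ω] {S : Subgroup Ω} [Finite S] {p : ℕ}
    [Fact p.Prime] (h : HasBadModel p ↥S) :
    ∃ F : FusionSystem S, F.IsSaturated p ∧ ¬ F.IsNormal S := by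
  obtain ⟨G, instG, instF, T, a, b, g, ⟨f⟩, ha, hb, hgab, ⟨y₀, hy₀T, hy₀⟩, hnsq⟩ := h
  -- the embedding
  let ι : S →* G := (T : Subgroup G).subtype.comp f.toMonoidHom
  have hι : ∀ s : S, ι s = ((f s : (T : Subgroup G)) : G) := fun s => rfl
  have hinj : Function.Injective ι := by
    intro s s' hss
    apply f.injective
    exact Subtype.ext hss
  have hrange : (T : Subgroup G) = ι.range := by
    ext x
    constructor
    · intro hx
      exact ⟨f.symm ⟨x, hx⟩, by rw [hι, f.apply_symm_apply]⟩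
    · rintro ⟨s, rfl⟩
      rw [hι]
      exact (f s).2
  refine ⟨realFS ι hinj, realFS_saturated hinj T hrange, ?_⟩
  rintro ⟨-, hnorm⟩
  -- the elements
  set u : S := f.symm ⟨a, ha⟩ with hu
  set v : S := f.symm ⟨b, hb⟩ with hv
  set s₀ : S := f.symm ⟨y₀, hy₀T⟩ with hs₀
  have hιu : ι u = a := by rw [hι, hu, f.apply_symm_apply]
  have hιv : ι v = b := by rw [hι, hv, f.apply_symm_apply]
  have hs₀u : s₀ ^ 2 = u := by
    apply f.injective
    rw [map_pow, hs₀, hu, f.apply_symm_apply, f.apply_symm_apply]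
    exact Subtype.ext hy₀
  -- the subgroup `P = ⟨u⟩`
  set P : Subgroup Ω := Subgroup.zpowers (u : Ω) with hP
  have hPS : P ≤ S := by
    rw [hP, Subgroup.zpowers_le]
    exact u.2
  have hPform : ∀ x : P, ∃ i : ℤ, Subgroup.inclusion hPS x = u ^ i := by
    intro x
    obtain ⟨i, hi⟩ := Subgroup.mem_zpowers_iff.mp x.2
    refine ⟨i, ?_⟩
    apply Subtype.ext
    rw [Subgroup.coe_inclusion, ← hi, Subgroup.coe_zpow]
  have hconj : ∀ i : ℤ, g * a ^ i * g⁻¹ = b ^ i := by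
    intro i
    rw [← hgab]
    exact (conj_zpow (a := g) (b := a) (i := i)).symm
  have hmem : ∀ x : P,
      ((MulAut.conj g).toMonoidHom.comp (ι.comp (Subgroup.inclusion hPS))) x ∈ (T : Subgroup G) := by
    intro x
    obtain ⟨i, hi⟩ := hPform x
    show g * ι (Subgroup.inclusion hPS x) * g⁻¹ ∈ (T : Subgroup G)
    rw [hi, map_zpow, hιu, hconj]
    exact Subgroup.zpow_mem _ hb i
  let φ : P →* Ω := S.subtype.comp (f.symm.toMonoidHom.comp
    (((MulAut.conj g).toMonoidHom.comp (ι.comp (Subgroup.inclusion hPS))).codRestrict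
      (T : Subgroup G) hmem))
  have hφι : ∀ (x : P) (hφx : φ x ∈ S), ι ⟨φ x, hφx⟩ = g * ι (Subgroup.inclusion hPS x) * g⁻¹ := by
    intro x hφx
    have e1 : (⟨φ x, hφx⟩ : S) = f.symm ⟨g * ι (Subgroup.inclusion hPS x) * g⁻¹, hmem x⟩ :=
      Subtype.ext rfl
    rw [e1, hι, f.apply_symm_apply]
  have hφmem : φ ∈ (realFS ι hinj).Hom P := by
    rw [realFS_mem_iff]
    refine ⟨hPS, fun x => ?_, g, fun x hx hφx => ?_⟩
    · exact Subtype.property _
    · rw [hφι x hφx]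
      rfl
  obtain ⟨ψ, hψ, hext, -⟩ := hnorm P φ hφmem
  -- evaluate at `s₀`
  have huP : (u : Ω) ∈ P := Subgroup.mem_zpowers _
  have hs₀PS : (s₀ : Ω) ∈ P ⊔ S := (le_sup_right : S ≤ P ⊔ S) s₀.2
  have hsq : (⟨(s₀ : Ω), hs₀PS⟩ : ↥(P ⊔ S)) ^ 2 = Subgroup.inclusion le_sup_left ⟨(u : Ω), huP⟩ := by
    apply Subtype.ext
    rw [Subgroup.coe_pow, Subgroup.coe_inclusion]
    show (s₀ : Ω) ^ 2 = (u : Ω)
    rw [← hs₀u, Subgroup.coe_pow]
  have hψS := ((realFS ι hinj).le_of_mem hψ).2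
  have hφu : φ ⟨(u : Ω), huP⟩ = (v : Ω) := by
    have hφuS : φ ⟨(u : Ω), huP⟩ ∈ S := Subtype.property _
    have e1 := hφι ⟨(u : Ω), huP⟩ hφuS
    have e2 : Subgroup.inclusion hPS ⟨(u : Ω), huP⟩ = u := Subtype.ext rfl
    rw [e2, hιu, hgab, ← hιv] at e1
    have e3 := hinj e1
    exact congrArg (fun z : S => (z : Ω)) e3
  have hψsq : ψ ⟨(s₀ : Ω), hs₀PS⟩ ^ 2 = (v : Ω) := by
    rw [← map_pow, hsq, hext, hφu]
  set w : S := ⟨ψ ⟨(s₀ : Ω), hs₀PS⟩, hψS _⟩ with hw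
  have hwv : w ^ 2 = v := by
    apply Subtype.ext
    rw [Subgroup.coe_pow]
    exact hψsq
  apply hnsq ((f w : (T : Subgroup G)) : G) (f w).2
  have e1 : (f w) ^ 2 = ⟨b, hb⟩ := by
    rw [← map_pow, hwv, hv, f.apply_symm_apply]
  have e2 := congrArg (fun z : (T : Subgroup G) => (z : G)) e1
  simpa using e2

end Cfsg.Agent.Lib.Helper27.MSS
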