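import Mathlib
import Cfsg.Agent.Lib.Helper27.MSS.Base
import Cfsg.Agent.Lib.Helper19.MSSQDTC

/-!
# Project MSS (S5287) : piece QDU
-/

set_option autoImplicit false

namespace Cfsg.Agent.Lib.Helper27.MSS

open Cfsg Cfsg.FusionSystem Cfsg.Agent.Lib.Helper26 Cfsg.Agent.Lib.Helper27.AbInvNeg

/-- a quasi-dihedral group is generated by its two defining generators -/
theorem mssqdu_top {X : Type*} [Group X] {n : ℕ} (hn : 3 ≤ n) (hc : Nat.card X = 2 ^ (n + 1))
    {x y : X} (hx : orderOf x = 2 ^ n) (hy : y ^ 2 = 1)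
    (hxy : y * x * y⁻¹ = x ^ (2 ^ (n - 1) - 1)) :
    Subgroup.closure {x, y} = ⊤ := by
  have : Finite X := Nat.finite_of_card_ne_zero (by rw [hc]; positivity)
  apply Subgroup.eq_top_of_card_eq
  rw [qdt_card hn hx hy hxy, hc]

/-- QDU -/
theorem qd_unique {X Y : Type*} [Group X] [Group Y] (hX : Cfsg.IsQuasiDihedral X)
    (hY : Cfsg.IsQuasiDihedral Y) (h : Nat.card X = Nat.card Y) : Nonempty (X ≃* Y) := by
  obtain ⟨n, hn, hcX, x, y, hx, hy, hxy⟩ := hX
  obtain ⟨n', hn', hcY, x', y', hx', hy', hxy'⟩ := hY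
  have hnn : n = n' := by
    rw [hcX, hcY] at h
    have := Nat.pow_right_injective (le_refl 2) h
    omega
  subst hnn
  have : Finite X := Nat.finite_of_card_ne_zero (by rw [hcX]; positivity)
  have : Finite Y := Nat.finite_of_card_ne_zero (by rw [hcY]; positivity)
  have hy2 : y ^ 2 = 1 := by
    have := pow_orderOf_eq_one y
    rwa [hy] at this
  have hy'2 : y' ^ 2 = 1 := by
    have := pow_orderOf_eq_one y'
    rwa [hy'] at this
  have hr : orderOf ((x, x') : X × Y) = 2 ^ n := by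
    rw [Prod.orderOf_mk, hx, hx', Nat.lcm_self]
  have hs : ((y, y') : X × Y) ^ 2 = 1 := by
    rw [Prod.pow_mk, hy2, hy'2]
    rfl
  have hrs : ((y, y') : X × Y) * (x, x') * (y, y')⁻¹ = (x, x') ^ (2 ^ (n - 1) - 1) := by
    rw [Prod.inv_mk, Prod.mk_mul_mk, Prod.mk_mul_mk, Prod.pow_mk, hxy, hxy']
  have hD := qdt_card hn hr hs hrs
  have hrD : ((x, x') : X × Y) ∈ Subgroup.closure {((x, x') : X × Y), (y, y')} :=
    Subgroup.subset_closure (by simp)
  have hsD : ((y, y') : X × Y) ∈ Subgroup.closure {((x, x') : X × Y), (y, y')} :=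
    Subgroup.subset_closure (by simp)
  have hfst : Function.Surjective ((MonoidHom.fst X Y).comp
      (Subgroup.closure {((x, x') : X × Y), (y, y')}).subtype) := by
    rw [← MonoidHom.range_eq_top, eq_top_iff, ← mssqdu_top hn hcX hx hy2 hxy, Subgroup.closure_le]
    rintro z (rfl | rfl)
    · exact ⟨⟨_, hrD⟩, rfl⟩
    · exact ⟨⟨_, hsD⟩, rfl⟩
  have hsnd : Function.Surjective ((MonoidHom.snd X Y).comp
      (Subgroup.closure {((x, x') : X × Y), (y, y')}).subtype) := by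
    rw [← MonoidHom.range_eq_top, eq_top_iff, ← mssqdu_top hn hcY hx' hy'2 hxy', Subgroup.closure_le]
    rintro z (rfl | rfl)
    · exact ⟨⟨_, hrD⟩, rfl⟩
    · exact ⟨⟨_, hsD⟩, rfl⟩
  have hb1 := hfst.bijective_of_nat_card_le (by rw [hD, hcX])
  have hb2 := hsnd.bijective_of_nat_card_le (by rw [hD, hcY])
  exact ⟨(MulEquiv.ofBijective _ hb1).symm.trans (MulEquiv.ofBijective _ hb2)⟩

end Cfsg.Agent.Lib.Helper27.MSS
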