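import Mathlib
import Cfsg.Agent.Lib.Helper11.MaxLocB
import Cfsg.Agent.Lib.Helper5.InvSylow
import Cfsg.Agent.Lib.Helper9.SylowConj
import Cfsg.Agent.Lib.Helper18.PPrimeCore
import Cfsg.Agent.Lib.Helper11.TransOvergroup

set_option autoImplicit false
open scoped Pointwise

namespace Cfsg.Agent.Lib.Helper11.MaxLocC

open Cfsg.Agent.Lib.Helper11 Cfsg.Agent.Lib.Helper11.MaxLocA Cfsg.Agent.Lib.Helper11.MaxLocB

variable {G : Type*} [Group G]

theorem mem_inv_iff [Finite G] (R M : Subgroup G) (q : ℕ) [hq : Fact q.Prime] (Y : Subgroup G) :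
    Y ∈ Cfsg.invSubgroups R M {q} ↔
      Y ≤ R ∧ IsPGroup q Y ∧ M ≤ Subgroup.normalizer (Y : Set G) := by
  unfold Cfsg.invSubgroups
  simp only [Set.mem_setOf_eq, Set.mem_singleton_iff]
  constructor
  · rintro ⟨h1, h2, h3⟩
    refine ⟨h1, ?_, h3⟩
    have := Nat.eq_prime_pow_of_unique_prime_dvd (p := q) (n := Nat.card Y) Nat.card_pos.ne'
      (fun {d} hd hdd => h2 d hd hdd)
    exact IsPGroup.of_card this
  · rintro ⟨h1, h2, h3⟩
    refine ⟨h1, ?_, h3⟩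
    intro p hp hpd
    obtain ⟨k, hk⟩ := IsPGroup.iff_card.mp h2
    rw [hk] at hpd
    exact (Nat.prime_dvd_prime_iff_eq hp hq.out).mp (hp.dvd_of_dvd_pow hpd)

/-- a `q`-subgroup of `N` whose order is the full `q`-part, versus another `q`-subgroup -/
theorem card_le_of_isPGroup [Finite G] {q : ℕ} [hq : Fact q.Prime] {T N : Subgroup G}
    (hT : IsPGroup q T) (hTN : T ≤ N) : Nat.card T ≤ q ^ (Nat.card N).factorization q := by
  obtain ⟨j, hj⟩ := IsPGroup.iff_card.mp hT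
  have hd : q ^ j ∣ Nat.card N := hj ▸ Subgroup.card_dvd_of_le hTN
  rw [hj]
  exact Nat.pow_le_pow_right hq.out.pos
    ((hq.out.pow_dvd_iff_le_factorization Nat.card_pos.ne').mp hd)

/-- a maximal invariant `q`-subgroup of a group acted on coprimely is a Sylow subgroup -/
theorem card_of_maximal [Finite G] (M K : Subgroup G)
    (hMK : M ≤ Subgroup.normalizer (K : Set G)) (hcop : (Nat.card M).Coprime (Nat.card K))
    (hMs : Group.IsSolvable M) (q : ℕ) [hq : Fact q.Prime] (Q : Subgroup G) (hQK : Q ≤ K)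
    (hQ : IsPGroup q Q) (hMQ : M ≤ Subgroup.normalizer (Q : Set G))
    (hmax : ∀ Q' : Subgroup G, Q' ≤ K → IsPGroup q Q' → M ≤ Subgroup.normalizer (Q' : Set G) →
      Q ≤ Q' → Q' = Q) :
    Nat.card Q = q ^ (Nat.card K).factorization q := by
  obtain ⟨N₁, hN₁⟩ : ∃ N₁ : Subgroup G, N₁ = K ⊓ Subgroup.normalizer (Q : Set G) := ⟨_, rfl⟩
  have hN₁K : N₁ ≤ K := hN₁ ▸ inf_le_left
  have hQN₁ : Q ≤ N₁ := hN₁ ▸ le_inf hQK Subgroup.le_normalizer
  have hMN₁ : M ≤ Subgroup.normalizer (N₁ : Set G) := by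
    rw [hN₁]
    apply le_normalizer_inf' hMK
    exact hMQ.trans Subgroup.le_normalizer
  have hcop₁ : (Nat.card M).Coprime (Nat.card N₁) :=
    Nat.Coprime.coprime_dvd_right (Subgroup.card_dvd_of_le hN₁K) hcop
  obtain ⟨Q₁, hQ₁N, hQ₁p, hMQ₁, hQ₁card⟩ :=
    Cfsg.Agent.Lib.Helper5.exists_invariant_sylow_sub M N₁ hMN₁ hcop₁ hMs q
  -- `Q ≤ Q₁`
  have hQ₁nQ : Q₁ ≤ Subgroup.normalizer (Q : Set G) := hQ₁N.trans (hN₁ ▸ inf_le_right)
  have hsupp : IsPGroup q (Q ⊔ Q₁ : Subgroup G) := hQ.to_sup_of_normal_left' hQ₁p hQ₁nQ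
  have hsupN : Q ⊔ Q₁ ≤ N₁ := sup_le hQN₁ hQ₁N
  have hsupcard : Nat.card (Q ⊔ Q₁ : Subgroup G) ≤ Nat.card Q₁ :=
    hQ₁card ▸ card_le_of_isPGroup hsupp hsupN
  have hsupeq : Q₁ = Q ⊔ Q₁ := Subgroup.eq_of_le_of_card_ge le_sup_right hsupcard
  have hQQ₁ : Q ≤ Q₁ := hsupeq ▸ le_sup_left
  have hQ₁Q : Q₁ = Q := hmax Q₁ (hQ₁N.trans hN₁K) hQ₁p hMQ₁ hQQ₁
  rw [hQ₁Q] at hQ₁card
  -- compare with a Sylow subgroup of `K`
  obtain ⟨P, hP⟩ := (hQ.comap_subtype (K := K)).exists_le_sylow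
  obtain ⟨PG, hPG⟩ : ∃ PG : Subgroup G, PG = (P : Subgroup ↥K).map K.subtype := ⟨_, rfl⟩
  have hPGp : IsPGroup q PG := hPG ▸ P.isPGroup'.map _
  have hPGK : PG ≤ K := hPG ▸ Subgroup.map_subtype_le _
  have hQPG : Q ≤ PG := by
    intro x hx
    rw [hPG]
    exact ⟨⟨x, hQK hx⟩, hP (Subgroup.mem_subgroupOf.mpr hx), rfl⟩
  have hPGcard : Nat.card PG = q ^ (Nat.card K).factorization q := by
    rw [hPG, Subgroup.card_map_of_injective K.subtype_injective]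
    exact P.card_eq_multiplicity
  rcases hQPG.lt_or_eq with hlt | heq
  · exfalso
    obtain ⟨z, hzP, hzN, hzQ⟩ :=
      Cfsg.Agent.Lib.Helper18.exists_mem_normalizer_not_mem_of_lt_pGroup hPGp hlt
    have hzp : IsPGroup q (Subgroup.zpowers z) := by
      apply hPGp.to_le
      rw [Subgroup.zpowers_le]
      exact hzP
    have hzn : Subgroup.zpowers z ≤ Subgroup.normalizer (Q : Set G) := by
      rw [Subgroup.zpowers_le]
      exact hzN
    have hTp : IsPGroup q (Q ⊔ Subgroup.zpowers z : Subgroup G) :=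
      hQ.to_sup_of_normal_left' hzp hzn
    have hTN : Q ⊔ Subgroup.zpowers z ≤ N₁ := by
      apply sup_le hQN₁
      rw [Subgroup.zpowers_le, hN₁]
      exact Subgroup.mem_inf.mpr ⟨hPGK hzP, hzN⟩
    have h1 : Nat.card (Q ⊔ Subgroup.zpowers z : Subgroup G) ≤ Nat.card Q :=
      hQ₁card ▸ card_le_of_isPGroup hTp hTN
    have h2 : Q = Q ⊔ Subgroup.zpowers z := Subgroup.eq_of_le_of_card_ge le_sup_left h1
    apply hzQ
    rw [h2]
    exact (le_sup_right : Subgroup.zpowers z ≤ Q ⊔ Subgroup.zpowers z)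
      (Subgroup.mem_zpowers z)
  · rw [heq, hPGcard]


/-- invariant subgroups of full `q`-part order coincide when the fixed points are trivial -/
theorem unique_of_card [Finite G] (M K : Subgroup G)
    (hMK : M ≤ Subgroup.normalizer (K : Set G)) (hcop : (Nat.card M).Coprime (Nat.card K))
    (hMs : Group.IsSolvable M) (hfix : K ⊓ Subgroup.centralizer (M : Set G) = ⊥)
    (q : ℕ) [hq : Fact q.Prime] (Q₁ Q₂ : Subgroup G) (h₁ : Q₁ ≤ K) (h₂ : Q₂ ≤ K)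
    (hc₁ : Nat.card Q₁ = q ^ (Nat.card K).factorization q)
    (hc₂ : Nat.card Q₂ = q ^ (Nat.card K).factorization q)
    (hM₁ : M ≤ Subgroup.normalizer (Q₁ : Set G)) (hM₂ : M ≤ Subgroup.normalizer (Q₂ : Set G)) :
    Q₁ = Q₂ := by
  have hQ₁ : IsPGroup q Q₁ := IsPGroup.of_card hc₁
  have hQ₂ : IsPGroup q Q₂ := IsPGroup.of_card hc₂
  obtain ⟨c, hcK, R, hRp, hRK, hQ₂R, hconj⟩ :=
    Cfsg.Agent.Lib.Helper9.exists_conj_into_common_pgroup K Q₂ Q₁ hQ₂ hQ₁ h₂ h₁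
  have hRcard : Nat.card R ≤ Nat.card Q₂ := hc₂ ▸ card_le_of_isPGroup hRp hRK
  have hRQ₂ : Q₂ = R := Subgroup.eq_of_le_of_card_ge hQ₂R hRcard
  have hle : conjSub c Q₁ ≤ Q₂ := by
    rintro _ ⟨x, hx, rfl⟩
    rw [hRQ₂]
    simpa using hconj x hx
  have heq : conjSub c Q₁ = Q₂ := by
    apply Subgroup.eq_of_le_of_card_ge hle
    rw [card_conjSub, hc₁, hc₂]
  have heq' : MulAut.conj c • Q₁ = Q₂ := by rw [← conjSub_eq_smul]; exact heq
  obtain ⟨c', hc', hcc⟩ := Cfsg.Agent.Lib.Lead.conj_by_centralizer M K hMK hcop (Or.inl hMs) Q₁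
    hM₁ c hcK (by rw [heq']; exact hM₂)
  rw [hfix, Subgroup.mem_bot] at hc'
  rw [hc', map_one, one_smul, heq'] at hcc
  exact hcc

end Cfsg.Agent.Lib.Helper11.MaxLocC
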