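import Mathlib
import Cfsg.Agent.Lib.Helper13.O459.Defs

/-!
# O459 / ARITH: the arithmetic core of the principal 19-block
-/

set_option autoImplicit false
set_option linter.unusedVariables false
set_option linter.unusedSectionVars false

namespace Cfsg.Agent.Lib.Helper13.O459

open Classical

set_option maxRecDepth 100000 in
/-- the divisors `n` of `6048` with `2 ≤ n ≤ 677` and `n ≡ ±1 mod 19`. -/
theorem o459arith_div : ∀ n : Fin 678, n.val ∣ 6048 → 2 ≤ n.val →
    (n.val % 19 = 1 → n.val = 96) ∧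
      (n.val % 19 = 18 → n.val = 18 ∨ n.val = 56 ∨ n.val = 189) := by
  decide

set_option maxRecDepth 100000 in
/-- the finite check on the counts. -/
theorem o459arith_counts : ∀ A B C D : Fin 6,
    (A.val + B.val + C.val + D.val = 1 ∨ A.val + B.val + C.val + D.val = 2 ∨
      A.val + B.val + C.val + D.val = 5) →
    Int.natAbs (1 + 96 * (A.val : ℤ) - 18 * (B.val : ℤ) - 56 * (C.val : ℤ) - 189 * (D.val : ℤ))
      ∣ 6048 →
    (A.val + B.val + C.val + D.val = 5 ∧ (1 ≤ B.val ∨ 2 ≤ C.val)) := by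
  decide

/-- ARITH [M]: the arithmetic core (pure arithmetic on a finite index set; brute-force verified). -/
theorem arith {ι : Type*} (X : Finset ι) (triv : ι) (htriv : triv ∈ X) (a : ι → ℤ) (d : ι → ℕ)
    (e t z : ℕ) (ε : ℤ) (he : e = 2 ∨ e = 3 ∨ e = 6) (het : e * t = 18) (hcard : X.card = e)
    (ha : ∀ i ∈ X, a i = 1 ∨ a i = -1) (hatriv : a triv = 1) (hdtriv : d triv = 1)
    (hdvd : ∀ i ∈ X, d i ∣ 6048) (hcong : ∀ i ∈ X, (19 : ℤ) ∣ (d i : ℤ) - a i)
    (hge : ∀ i ∈ X, i ≠ triv → 2 ≤ d i)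
    (hε : ε = 1 ∨ ε = -1) (hzdvd : z ∣ 6048) (hzcong : (19 : ℤ) ∣ (z : ℤ) - ε * (e : ℤ))
    (hdeg : ε * (z : ℤ) = ∑ i ∈ X, a i * (d i : ℤ))
    (hsq : ∑ i ∈ X, (d i) ^ 2 + t * z ^ 2 ≤ 459648) :
    e = 6 ∧ ((∃ i ∈ X, d i = 18 ∧ a i = -1) ∨
      (∃ i ∈ X, ∃ j ∈ X, i ≠ j ∧ d i = 56 ∧ d j = 56 ∧ a i = -1 ∧ a j = -1)) := by
  -- every degree is at most 677
  have hle : ∀ i ∈ X, d i < 678 := by
    intro i hi
    have h1 : (d i) ^ 2 ≤ ∑ j ∈ X, (d j) ^ 2 :=
      Finset.single_le_sum (f := fun j => (d j) ^ 2) (fun j _ => Nat.zero_le _) hi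
    have h2 : (d i) ^ 2 ≤ 459648 := by omega
    by_contra hcon
    push Not at hcon
    have : 678 ^ 2 ≤ (d i) ^ 2 := Nat.pow_le_pow_left hcon 2
    omega
  -- classification of the non-trivial members
  have hclass : ∀ i ∈ X, i ≠ triv →
      (d i = 96 ∧ a i = 1) ∨ (d i = 18 ∧ a i = -1) ∨ (d i = 56 ∧ a i = -1) ∨
        (d i = 189 ∧ a i = -1) := by
    intro i hi hne
    have h1 := o459arith_div ⟨d i, hle i hi⟩ (hdvd i hi) (hge i hi hne)
    have h2 := hcong i hi
    rcases ha i hi with h3 | h3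
    · rw [h3] at h2
      have : d i % 19 = 1 := by omega
      exact Or.inl ⟨h1.1 this, h3⟩
    · rw [h3] at h2
      have : d i % 19 = 18 := by omega
      rcases h1.2 this with h4 | h4 | h4
      · exact Or.inr (Or.inl ⟨h4, h3⟩)
      · exact Or.inr (Or.inr (Or.inl ⟨h4, h3⟩))
      · exact Or.inr (Or.inr (Or.inr ⟨h4, h3⟩))
  set X' := X.erase triv with hX'
  have hX'card : X'.card = e - 1 := by
    rw [hX', Finset.card_erase_of_mem htriv, hcard]
  have hmem : ∀ i ∈ X', i ∈ X ∧ i ≠ triv := by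
    intro i hi
    exact ⟨Finset.mem_of_mem_erase hi, Finset.ne_of_mem_erase hi⟩
  set A := (X'.filter (fun i => d i = 96)).card with hA
  set B := (X'.filter (fun i => d i = 18)).card with hB
  set C := (X'.filter (fun i => d i = 56)).card with hC
  set D := (X'.filter (fun i => d i = 189)).card with hD
  -- the count identity
  have hcount : A + B + C + D = e - 1 := by
    rw [← hX'card, Finset.card_eq_sum_ones, hA, hB, hC, hD, Finset.card_filter, Finset.card_filter,
      Finset.card_filter, Finset.card_filter, ← Finset.sum_add_distrib, ← Finset.sum_add_distrib,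
      ← Finset.sum_add_distrib]
    apply Finset.sum_congr rfl
    intro i hi
    obtain ⟨hiX, hit⟩ := hmem i hi
    rcases hclass i hiX hit with h | h | h | h <;> simp [h.1]
  -- the sum identity
  have hsum : ∑ i ∈ X', a i * (d i : ℤ) =
      96 * (A : ℤ) - 18 * (B : ℤ) - 56 * (C : ℤ) - 189 * (D : ℤ) := by
    rw [hA, hB, hC, hD, Finset.card_filter, Finset.card_filter, Finset.card_filter,
      Finset.card_filter]
    push_cast
    rw [Finset.mul_sum, Finset.mul_sum, Finset.mul_sum, Finset.mul_sum, ← Finset.sum_sub_distrib,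
      ← Finset.sum_sub_distrib, ← Finset.sum_sub_distrib]
    apply Finset.sum_congr rfl
    intro i hi
    obtain ⟨hiX, hit⟩ := hmem i hi
    rcases hclass i hiX hit with h | h | h | h <;> simp [h.1, h.2]
  have htot : ε * (z : ℤ) = 1 + 96 * (A : ℤ) - 18 * (B : ℤ) - 56 * (C : ℤ) - 189 * (D : ℤ) := by
    rw [hdeg, ← Finset.add_sum_erase X _ htriv, ← hX', hsum, hatriv, hdtriv]
    push_cast
    ring
  have hznat : z = Int.natAbs (1 + 96 * (A : ℤ) - 18 * (B : ℤ) - 56 * (C : ℤ) - 189 * (D : ℤ)) := by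
    rw [← htot]
    rcases hε with rfl | rfl <;> simp
  have hA5 : A < 6 := by omega
  have hB5 : B < 6 := by omega
  have hC5 : C < 6 := by omega
  have hD5 : D < 6 := by omega
  have hfin := o459arith_counts ⟨A, hA5⟩ ⟨B, hB5⟩ ⟨C, hC5⟩ ⟨D, hD5⟩ (by
      show A + B + C + D = 1 ∨ A + B + C + D = 2 ∨ A + B + C + D = 5
      omega) (by
      show Int.natAbs (1 + 96 * (A : ℤ) - 18 * (B : ℤ) - 56 * (C : ℤ) - 189 * (D : ℤ)) ∣ 6048
      rw [← hznat]
      exact hzdvd)
  obtain ⟨h5, hBC⟩ : A + B + C + D = 5 ∧ (1 ≤ B ∨ 2 ≤ C) := hfin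
  refine ⟨by omega, ?_⟩
  rcases hBC with hB1 | hC2
  · left
    have : 0 < (X'.filter (fun i => d i = 18)).card := by omega
    obtain ⟨i, hi⟩ := Finset.card_pos.mp this
    rw [Finset.mem_filter] at hi
    obtain ⟨hiX, hit⟩ := hmem i hi.1
    refine ⟨i, hiX, hi.2, ?_⟩
    rcases hclass i hiX hit with h | h | h | h
    · omega
    · exact h.2
    · exact h.2
    · exact h.2
  · right
    have : 1 < (X'.filter (fun i => d i = 56)).card := by omega
    obtain ⟨i, hi, j, hj, hij⟩ := Finset.one_lt_card.mp this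
    rw [Finset.mem_filter] at hi hj
    obtain ⟨hiX, hit⟩ := hmem i hi.1
    obtain ⟨hjX, hjt⟩ := hmem j hj.1
    have hai : a i = -1 := by
      rcases hclass i hiX hit with h | h | h | h
      · omega
      · exact h.2
      · exact h.2
      · exact h.2
    have haj : a j = -1 := by
      rcases hclass j hjX hjt with h | h | h | h
      · omega
      · exact h.2
      · exact h.2
      · exact h.2
    exact ⟨i, hiX, j, hjX, hij, hi.2, hj.2, hai, haj⟩

end Cfsg.Agent.Lib.Helper13.O459
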