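import Mathlib
import Cfsg.Agent.Lib.Helper13.O459.Defs

/-!
# O459 / N96: `|G : N_G(P)| = 96` is impossible when `7 ∣ |C_G(P)|`

`k ∈ C_G(P)` of order 7, `F` = the Sylow 19-subgroups fixed by `k`: `|F| ≡ 96 ≡ 5 mod 7`; `P` acts on `F` with the only
fixed point `P`: `|F| ≡ 1 mod 19`; `|F| ≤ 96`: `|F| = 96`, so `k` normalises every Sylow 19-subgroup: `k` lies in the
kernel of the action, a normal subgroup inside `N_G(P) ≠ G`.
-/

set_option autoImplicit false
set_option linter.unusedVariables false
set_option linter.unusedSectionVars false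

namespace Cfsg.Agent.Lib.Helper13.O459

open Classical
open Cfsg.Agent.Lib.helper7.BR

universe u

variable {G : Type u} [Group G] [Fintype G]

/-- pure arithmetic: `n ≤ 96`, `n ≡ 96 mod 7`, `n ≡ 1 mod 19` force `n = 96`. -/
theorem o459n96_num (n : ℕ) (h1 : n ≤ 96) (h7 : 96 ≡ n [MOD 7]) (h19 : n ≡ 1 [MOD 19]) : n = 96 := by
  unfold Nat.ModEq at h7 h19
  omega

/-- N96 [M]. -/
theorem n96_false [IsSimpleGroup G] (hG : Nat.card G = 459648) (P : Sylow 19 G)
    (hP : Nat.card ↥(P : Subgroup G) = 19) (hidx : (nrm P).index = 96)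
    (h7 : 7 ∣ Nat.card ↥(cen P)) : False := by
  have hcardS : Nat.card (Sylow 19 G) = 96 := by
    rw [Sylow.card_eq_index_normalizer P]
    exact hidx
  obtain ⟨k, hk⟩ := exists_prime_orderOf_dvd_card' 7 h7
  have hkG : orderOf (k : G) = 7 := by
    rw [Subgroup.orderOf_coe]
    exact hk
  have hkc : ∀ x ∈ (P : Subgroup G), x * (k : G) = (k : G) * x :=
    Subgroup.mem_centralizer_iff.mp k.2
  set K : Subgroup G := Subgroup.zpowers (k : G) with hKdef
  have hK7 : IsPGroup 7 K := IsPGroup.of_card (n := 1) (by rw [Nat.card_zpowers, hkG, pow_one])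
  have hKc : ∀ κ ∈ K, ∀ x ∈ (P : Subgroup G), x * κ = κ * x := by
    intro κ hκ x hx
    have : κ ∈ Subgroup.centralizer ((P : Subgroup G) : Set G) := by
      have hle : K ≤ Subgroup.centralizer ((P : Subgroup G) : Set G) := by
        rw [hKdef, Subgroup.zpowers_le]
        exact k.2
      exact hle hκ
    exact Subgroup.mem_centralizer_iff.mp this x hx
  -- the fixed points of `K`
  have hF7 : Nat.card (Sylow 19 G) ≡ Nat.card ↥(MulAction.fixedPoints K (Sylow 19 G)) [MOD 7] :=
    hK7.card_modEq_card_fixedPoints (Sylow 19 G)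
  -- the action of `P` on the fixed points of `K`
  have hstab : ∀ (x : (P : Subgroup G)) (Q : Sylow 19 G), Q ∈ MulAction.fixedPoints K (Sylow 19 G) →
      (x : G) • Q ∈ MulAction.fixedPoints K (Sylow 19 G) := by
    intro x Q hQ
    rw [MulAction.mem_fixedPoints] at hQ ⊢
    intro κ
    have h1 := hQ κ
    rw [Subgroup.smul_def] at h1 ⊢
    rw [← mul_smul, ← hKc κ κ.2 x x.2, mul_smul, h1]
  let act : MulAction (P : Subgroup G) ↥(MulAction.fixedPoints K (Sylow 19 G)) :=
    { smul := fun x Q => ⟨(x : G) • Q.1, hstab x Q.1 Q.2⟩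
      one_smul := fun Q => by
        apply Subtype.ext
        show ((1 : (P : Subgroup G)) : G) • Q.1 = Q.1
        rw [Subgroup.coe_one, one_smul]
      mul_smul := fun x y Q => by
        apply Subtype.ext
        show ((x * y : (P : Subgroup G)) : G) • Q.1 = (x : G) • ((y : G) • Q.1)
        rw [Subgroup.coe_mul, mul_smul] }
  have hP19 : IsPGroup 19 (P : Subgroup G) := P.isPGroup'
  have hF19 := @IsPGroup.card_modEq_card_fixedPoints 19 (P : Subgroup G) _ hP19 _
    ↥(MulAction.fixedPoints K (Sylow 19 G)) act _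
  -- the only fixed point is `P`
  have hPF : P ∈ MulAction.fixedPoints K (Sylow 19 G) := by
    rw [MulAction.mem_fixedPoints]
    intro κ
    rw [Subgroup.smul_def, Sylow.smul_eq_iff_mem_normalizer]
    have hle : K ≤ Subgroup.normalizer ((P : Subgroup G) : Set G) := by
      rw [hKdef, Subgroup.zpowers_le]
      exact Subgroup.centralizer_le_normalizer _ k.2
    exact hle κ.2
  have hfix1 : Nat.card ↥(@MulAction.fixedPoints (P : Subgroup G)
      ↥(MulAction.fixedPoints K (Sylow 19 G)) _ act) = 1 := by
    rw [Nat.card_eq_one_iff_unique]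
    refine ⟨⟨?_⟩, ⟨⟨⟨P, hPF⟩, ?_⟩⟩⟩
    · rintro ⟨⟨Q, hQF⟩, hQ⟩ ⟨⟨Q', hQF'⟩, hQ'⟩
      have key : ∀ (R : Sylow 19 G) (hRF : R ∈ MulAction.fixedPoints K (Sylow 19 G)),
          (⟨R, hRF⟩ : ↥(MulAction.fixedPoints K (Sylow 19 G))) ∈
            @MulAction.fixedPoints (P : Subgroup G) ↥(MulAction.fixedPoints K (Sylow 19 G)) _ act →
          R = P := by
        intro R hRF hR
        have h1 : R ∈ MulAction.fixedPoints (P : Subgroup G) (Sylow 19 G) := by
          rw [MulAction.mem_fixedPoints]
          intro x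
          have := hR x
          have h2 := congrArg Subtype.val this
          rw [Subgroup.smul_def]
          exact h2
        have h3 : (P : Subgroup G) ≤ (R : Subgroup G) := hP19.sylow_mem_fixedPoints_iff.mp h1
        exact Sylow.ext (P.is_maximal' R.isPGroup' h3)
      have e1 := key Q hQF hQ
      have e2 := key Q' hQF' hQ'
      subst e1
      subst e2
      rfl
    · intro x
      apply Subtype.ext
      show (x : G) • P = P
      rw [Sylow.smul_eq_iff_mem_normalizer]
      exact Subgroup.le_normalizer x.2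
  rw [hfix1] at hF19
  rw [hcardS] at hF7
  have hFle : Nat.card ↥(MulAction.fixedPoints K (Sylow 19 G)) ≤ 96 := by
    rw [← hcardS]
    exact Nat.card_le_card_of_injective _ Subtype.val_injective
  have hF96 := o459n96_num _ hFle hF7 hF19
  -- so `k` fixes every Sylow 19-subgroup
  have hall : ∀ Q : Sylow 19 G, Q ∈ MulAction.fixedPoints K (Sylow 19 G) := by
    have : (MulAction.fixedPoints K (Sylow 19 G)) = Set.univ := by
      apply Set.eq_univ_of_forall
      by_contra hcon
      push Not at hcon
      obtain ⟨Q, hQ⟩ := hcon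
      have hlt : Nat.card ↥(MulAction.fixedPoints K (Sylow 19 G)) < Nat.card (Sylow 19 G) := by
        have hss : (MulAction.fixedPoints K (Sylow 19 G)) ⊂ Set.univ :=
          ⟨Set.subset_univ _, fun h => hQ (h (Set.mem_univ Q))⟩
        have := Set.ncard_lt_ncard hss (Set.toFinite _)
        rw [Set.ncard_univ] at this
        rwa [← Nat.card_coe_set_eq] at this
      omega
    intro Q
    rw [this]
    exact Set.mem_univ Q
  -- `k` is in the kernel of the action
  have hker : (k : G) ∈ (MulAction.toPermHom G (Sylow 19 G)).ker := by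
    rw [MonoidHom.mem_ker]
    apply Equiv.ext
    intro Q
    have := (MulAction.mem_fixedPoints.mp (hall Q)) ⟨(k : G), Subgroup.mem_zpowers _⟩
    rw [Subgroup.smul_def] at this
    exact this
  have hk1 : (k : G) ≠ 1 := by
    intro h1
    rw [h1, orderOf_one] at hkG
    omega
  rcases (MonoidHom.normal_ker (MulAction.toPermHom G (Sylow 19 G))).eq_bot_or_eq_top with hb | ht
  · rw [hb, Subgroup.mem_bot] at hker
    exact hk1 hker
  · have hle : (MulAction.toPermHom G (Sylow 19 G)).ker ≤ nrm P := by
      intro g hg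
      rw [MonoidHom.mem_ker] at hg
      have := congrArg (fun σ : Equiv.Perm (Sylow 19 G) => σ P) hg
      have h2 : g • P = P := by simpa using this
      exact Sylow.smul_eq_iff_mem_normalizer.mp h2
    rw [ht] at hle
    have : nrm P = ⊤ := top_le_iff.mp hle
    rw [this, Subgroup.index_top] at hidx
    omega

end Cfsg.Agent.Lib.Helper13.O459
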