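import Mathlib
import Cfsg.Agent.Lib.Helper13.O5760.Defs
import Cfsg.Agent.Lib.Helper13.O5760SETUP
import Cfsg.Agent.Lib.Helper22.BTKEY
import Cfsg.Agent.Lib.helper23.PrimeDegCenter

/-!
# Project O5760 (S0980), piece K43: a simple group of order 5760 has no irreducible character of degree `3`
(S3968: a faithful irreducible character of prime degree `p` with `p ^ 2 ∣ |G|` forces a non-trivial centre).
-/

set_option autoImplicit false
set_option linter.unusedVariables false
set_option linter.unusedSectionVars false
open scoped ComplexConjugate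
open Classical

namespace Cfsg.Agent.Lib.Helper13.O5760

open Cfsg.Agent.Lib.helper7 Cfsg.Agent.Lib.helper7.BR Cfsg.Agent.Lib.helper2 Cfsg.Agent.Lib.Helper25
  Cfsg.Agent.Lib.Helper29 Cfsg.Agent.Lib.helper15.BH Cfsg.Agent.Lib.helper15.PSL

universe u

variable {G : Type u} [Group G] [Fintype G]

/-- K43 [K] : no irreducible character of degree `3` (S3968) -/
theorem no_deg3 [IsSimpleGroup G] (hG : Nat.card G = 5760) (η : Cfsg.IrrCharacter G)
    (h3 : (η : G → ℂ) 1 = 3) : False := by
  obtain ⟨_, _, hZ, _⟩ := setup hG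
  have hne : η ≠ trivIrr G := by
    intro h
    rw [h, trivIrr_apply] at h3
    norm_num at h3
  refine Cfsg.Agent.Lib.helper23.pdc_main 3 (by norm_num) η (by rw [h3]; norm_num)
    (fun g hg => Cfsg.Agent.Lib.Helper22.btkey_faithful η hne g hg) ?_ hZ
  rw [hG]
  norm_num

end Cfsg.Agent.Lib.Helper13.O5760
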