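import Mathlib
import Cfsg.Agent.Lib.Helper13.O5760.Defs
import Cfsg.Agent.Lib.Helper13.O5760SETUP
import Cfsg.Agent.Lib.Helper16.BRSET2
import Cfsg.Agent.Lib.Helper1.BRSET3

/-!
# Project O5760 (S0980), piece LOC (core): the local configuration `|N_G(P) : C_G(P)| = 2`,
taking the statement of piece CEN (`cen_card`) as a hypothesis.
-/

set_option autoImplicit false
set_option linter.unusedVariables false
set_option linter.unusedSectionVars false
open scoped ComplexConjugate
open Classical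

namespace Cfsg.Agent.Lib.Helper13.O5760

open Cfsg.Agent.Lib.helper7 Cfsg.Agent.Lib.helper7.BR Cfsg.Agent.Lib.helper2 Cfsg.Agent.Lib.Helper25
  Cfsg.Agent.Lib.Helper29 Cfsg.Agent.Lib.helper15.BH Cfsg.Agent.Lib.helper15.PSL

universe u

variable {G : Type u} [Group G] [Fintype G]

/-- LOC, with all inputs as hypotheses (no simplicity needed). -/
theorem o5760loc_abs (hG : Nat.card G = 5760) (hperf : commutator G = ⊤)
    (hZ : Subgroup.center G = ⊥) (P : Sylow 5 G) (hP : Nat.card ↥(P : Subgroup G) = 5)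
    (hPn : ¬ (P : Subgroup G).Normal) (hcen : Nat.card ↥(cen P) = 5) : Loc 5 2 P := by
  obtain ⟨q, w, n, hqdvd, hq1, hw1, hn1, hqrel, hC, hN, hNidx, hCidx, hGcard⟩ :=
    order_formula P hP hPn
  have hne1 : q ≠ 1 := by
    have := relIndex_ne_one hperf P hP
    rwa [hqrel] at this
  have hw : w = 1 := by
    rw [hcen] at hC
    omega
  subst hw
  rw [hG] at hGcard
  have hq4 : q ≤ 4 := Nat.le_of_dvd (by norm_num) hqdvd
  have hq2 : q = 2 := by
    interval_cases q
    · exact absurd rfl hne1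
    · rfl
    · norm_num at hqdvd
    · omega
  subst hq2
  refine ⟨by norm_num, le_refl _, hP, hqrel, ?_, hPn⟩
  rw [hcen, hZ, Subgroup.card_bot]

/-- LOC from SETUP (landed) and the statement of CEN. -/
theorem o5760loc_core [IsSimpleGroup G] (hG : Nat.card G = 5760) (P : Sylow 5 G)
    (hcen : ∀ Q : Sylow 5 G, Nat.card ↥(Q : Subgroup G) = 5 → Nat.card ↥(cen Q) = 5) :
    Loc 5 2 P := by
  obtain ⟨hperf, _, hZ, hS⟩ := setup hG
  obtain ⟨hP, hPn⟩ := hS P
  exact o5760loc_abs hG hperf hZ P hP hPn (hcen P hP)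

end Cfsg.Agent.Lib.Helper13.O5760
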