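import Mathlib
import Cfsg.Agent.Lib.Helper13.O5760.Defs
import Cfsg.Agent.Lib.Helper11.O5760LOCcore
import Cfsg.Agent.Lib.Helper20.O5760CEN

/-!
# Project O5760 (S0980), piece LOC: the local configuration `|N_G(P) : C_G(P)| = 2` (verbatim wrapper).
-/

set_option autoImplicit false
set_option linter.unusedVariables false
set_option linter.unusedSectionVars false
open scoped ComplexConjugate
open Classical

namespace Cfsg.Agent.Lib.Helper13.O5760

open Cfsg.Agent.Lib.helper7 Cfsg.Agent.Lib.helper7.BR Cfsg.Agent.Lib.helper2 Cfsg.Agent.Lib.Helper25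
  Cfsg.Agent.Lib.Helper29 Cfsg.Agent.Lib.helper15.BH Cfsg.Agent.Lib.helper15.PSL

universe u

variable {G : Type u} [Group G] [Fintype G]

/-- LOC [L] : the local configuration, `|N_G(P) : C_G(P)| = 2` -/
theorem loc [IsSimpleGroup G] (hG : Nat.card G = 5760) (P : Sylow 5 G) : Loc 5 2 P :=
  o5760loc_core hG P (fun Q hQ => cen_card hG Q hQ)

end Cfsg.Agent.Lib.Helper13.O5760
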