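import Mathlib
import Cfsg.Agent.Lib.Helper16.O9H.Defs
import Cfsg.Agent.Lib.Helper26.SO8C5

set_option autoImplicit false

/-!
# O9H row APLUS2 (`plus_alg2`): a reciprocal pair `f₁ ≠ f₂` of monic irreducible polynomials.
-/

namespace Cfsg.Agent.Lib.Helper16.O9H

open Polynomial

variable {F : Type*} [Field F]

/-- `(X ^ j).reverse = 1` -/
theorem o9haplus2_reverse_X_pow (j : ℕ) : ((X : F[X]) ^ j).reverse = 1 := by
  have h1 := reverse_mul_X_pow (1 : F[X]) j
  rw [one_mul] at h1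
  rw [h1, ← C_1, reverse_C]

/-- `(X ^ j - 1).reverse = -(X ^ j - 1)` for `j ≥ 1`; for `j = 0` both sides vanish -/
theorem o9haplus2_reverse_pow_sub (j : ℕ) : ((X : F[X]) ^ j - 1).reverse = -(X ^ j - 1) := by
  rcases Nat.eq_zero_or_pos j with rfl | hj
  · simp
  · have h : ((X : F[X]) ^ j - 1) = X ^ j + C (-1) := by rw [map_neg, map_one, sub_eq_add_neg]
    rw [h, reverse_add_C, o9haplus2_reverse_X_pow, natDegree_X_pow, map_neg, C_1]
    ring

/-- a divisor of `X ^ j - 1` has its reverse dividing `X ^ j - 1` -/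
theorem o9haplus2_reverse_dvd (g : F[X]) (j : ℕ) (h : g ∣ (X ^ j - 1 : F[X])) :
    g.reverse ∣ (X ^ j - 1 : F[X]) := by
  obtain ⟨k, hk⟩ := h
  have h1 : ((X : F[X]) ^ j - 1).reverse = g.reverse * k.reverse := by
    rw [hk, reverse_mul_of_domain]
  rw [o9haplus2_reverse_pow_sub] at h1
  exact (dvd_neg).mp ⟨k.reverse, h1⟩

/-- the reverse of `X + C a` with `a * a = 1` -/
theorem o9haplus2_reverse_lin (a : F) (ha : a * a = 1) : (X + C a : F[X]).reverse = C a * (X + C a) := by
  rw [reverse_add_C, natDegree_X, pow_one]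
  have h1 : (X : F[X]).reverse = 1 := by
    have := o9haplus2_reverse_X_pow (F := F) 1
    rwa [pow_one] at this
  rw [h1, mul_add, ← C_mul, ha, C_1, add_comm]

/-- a monic irreducible polynomial dividing `X + C a` equals it -/
theorem o9haplus2_eq_lin (f : F[X]) (hf : Irreducible f) (hm : f.Monic) (a : F) (h : f ∣ (X + C a : F[X])) :
    f = X + C a := by
  have hirr : Irreducible (X + C a : F[X]) := by
    have := irreducible_X_sub_C (-a)
    rwa [map_neg, sub_neg_eq_add] at this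
  have hmon : (X + C a : F[X]).Monic := monic_X_add_C a
  exact eq_of_monic_of_associated hm hmon (hf.associated_of_dvd hirr h)

theorem plus_alg2 (f₁ f₂ : F[X]) (hf₁ : Irreducible f₁) (hm₁ : f₁.Monic) (hm₂ : f₂.Monic)
    (hrev : f₁.reverse = C (f₁.coeff 0) * f₂) (hne : f₁ ≠ f₂) :
    (f₁ * f₂).reverse = f₁ * f₂ ∧ (∀ j : ℕ, f₂ ∣ (X ^ j - 1 : F[X]) ↔ f₁ ∣ (X ^ j - 1 : F[X])) ∧
      ¬ f₁ ∣ (X ^ 2 - 1 : F[X]) := by
  have hc : f₁.coeff 0 ≠ 0 := by
    intro h0
    rw [h0, map_zero, zero_mul] at hrev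
    exact hf₁.ne_zero (reverse_eq_zero.mp hrev)
  have hCc : (C (f₁.coeff 0) : F[X]) ≠ 0 := by
    rw [Ne, C_eq_zero]
    exact hc
  have hrr : f₁.reverse.reverse = f₁ := Cfsg.Agent.Lib.Helper19.SO8.so8c5_reverse_reverse f₁ hc
  -- `f₁ = C c * f₂.reverse`
  have h2 : f₁ = C (f₁.coeff 0) * f₂.reverse := by
    have h := congrArg reverse hrev
    rw [hrr, reverse_mul_of_domain, reverse_C] at h
    exact h
  refine ⟨?_, ?_, ?_⟩
  · rw [reverse_mul_of_domain, hrev]
    have h3 : C (f₁.coeff 0) * f₂ * f₂.reverse = C (f₁.coeff 0) * f₂.reverse * f₂ := by ring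
    rw [h3, ← h2]
  · intro j
    constructor
    · intro h
      have h3 := o9haplus2_reverse_dvd f₂ j h
      rw [h2]
      -- `C c` is a unit
      have hu : IsUnit (C (f₁.coeff 0) : F[X]) := isUnit_C.mpr (isUnit_iff_ne_zero.mpr hc)
      exact (hu.mul_left_dvd).mpr h3
    · intro h
      have h3 := o9haplus2_reverse_dvd f₁ j h
      rw [hrev] at h3
      exact dvd_of_mul_left_dvd h3
  · intro h
    have hfac : ((X : F[X]) ^ 2 - 1) = (X + C (-1)) * (X + C 1) := by
      rw [map_neg, map_one]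
      ring
    rw [hfac] at h
    have key : ∀ a : F, a * a = 1 → f₁ ∣ (X + C a : F[X]) → False := by
      intro a ha hd
      have h1 := o9haplus2_eq_lin f₁ hf₁ hm₁ a hd
      have hc0 : f₁.coeff 0 = a := by
        rw [h1]
        simp
      have h3 : C a * (X + C a) = C a * f₂ := by
        rw [← o9haplus2_reverse_lin a ha, ← h1, hrev, hc0]
      have ha0 : (C a : F[X]) ≠ 0 := by
        rw [← hc0]
        exact hCc
      exact hne (h1.trans (mul_left_cancel₀ ha0 h3))
    rcases hf₁.prime.dvd_or_dvd h with h1 | h1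
    · exact key (-1) (by ring) h1
    · exact key 1 (by ring) h1

end Cfsg.Agent.Lib.Helper16.O9H
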