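import Mathlib
import Cfsg.Agent.Lib.Helper16.O9H.Defs

set_option autoImplicit false

/-!
# O9H row CARITH (`halving_arith`): the arithmetic of the spinor halving.
-/

namespace Cfsg.Agent.Lib.Helper16.O9H

/-- the core with `e = e' + 1` -/
theorem o9hcarith_core (q e' : ℕ) (hq : Odd q) (ε : ℤ) (hε : ε = 1 ∨ ε = -1) (n z k w nf o : ℕ)
    (hn : (q : ℤ) * (n : ℤ) = (q : ℤ) ^ (2 * (e' + 1)) - ε * (q : ℤ) ^ (e' + 1))
    (hz : (q : ℤ) * (z : ℤ) = (q : ℤ) ^ (2 * (e' + 1)) + ε * ((q : ℤ) ^ (e' + 1 + 1) - (q : ℤ) ^ (e' + 1)))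
    (hk : Even k) (hw : Odd w) (hsplit : nf + k + k * n = k * z + w * n) (hon : o ∣ n) (hcop : Nat.Coprime o q)
    (hsign : Even o → 2 * o ∣ nf) : ((2 * o : ℕ) : ℤ) ∣ (q : ℤ) ^ (e' + 1) - ε := by
  have hq0 : (q : ℤ) ≠ 0 := by
    have : q ≠ 0 := by
      rintro rfl
      exact absurd hq (by decide)
    exact_mod_cast this
  have hqodd : Odd (q : ℤ) := (Int.odd_coe_nat q).mpr hq
  have hεodd : Odd ε := by
    rcases hε with rfl | rfl
    · exact odd_one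
    · exact Odd.neg odd_one
  -- `n = q ^ e' * (q ^ (e' + 1) - ε)`
  have hN : (n : ℤ) = (q : ℤ) ^ e' * ((q : ℤ) ^ (e' + 1) - ε) := by
    apply mul_left_cancel₀ hq0
    rw [hn]
    ring
  have hZ : (z : ℤ) = (q : ℤ) ^ e' * ((q : ℤ) ^ (e' + 1) + ε * q - ε) := by
    apply mul_left_cancel₀ hq0
    rw [hz]
    ring
  -- `o ∣ q ^ (e' + 1) - ε`
  have hcop' : IsCoprime (o : ℤ) ((q : ℤ) ^ e') := by
    have h1 : Nat.Coprime o (q ^ e') := Nat.Coprime.pow_right e' hcop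
    have h2 := Nat.isCoprime_iff_coprime.mpr h1
    simpa using h2
  have hdvd : (o : ℤ) ∣ (q : ℤ) ^ (e' + 1) - ε := by
    have h1 : (o : ℤ) ∣ (n : ℤ) := Int.natCast_dvd_natCast.mpr hon
    rw [hN] at h1
    exact hcop'.dvd_of_dvd_mul_left h1
  obtain ⟨t, ht⟩ := hdvd
  by_cases ho0 : o = 0
  · subst ho0
    rw [ht]
    simp
  have ho0' : (o : ℤ) ≠ 0 := by exact_mod_cast ho0
  -- `t` is even
  have hteven : Even t := by
    have hQε : Even ((q : ℤ) ^ (e' + 1) - ε) := Odd.sub_odd (hqodd.pow) hεodd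
    rcases Nat.even_or_odd o with hoe | hoo
    · -- `o` even
      have h1 : ((2 * o : ℕ) : ℤ) ∣ (nf : ℤ) := Int.natCast_dvd_natCast.mpr (hsign hoe)
      have hsplit' : (nf : ℤ) + k + k * n = k * z + w * n := by exact_mod_cast hsplit
      have hnf : (nf : ℤ) = (o : ℤ) * (t * (ε * k + w * (q : ℤ) ^ e')) := by
        rw [← mul_assoc, ← ht]
        rw [hN, hZ] at hsplit'
        rcases hε with rfl | rfl
        · linear_combination hsplit'
        · linear_combination hsplit'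
      have h2 : (o : ℤ) * 2 ∣ (o : ℤ) * (t * (ε * k + w * (q : ℤ) ^ e')) := by
        rw [← hnf]
        have : ((2 * o : ℕ) : ℤ) = (o : ℤ) * 2 := by push_cast; ring
        rw [← this]
        exact h1
      have h3 : (2 : ℤ) ∣ t * (ε * k + w * (q : ℤ) ^ e') := (mul_dvd_mul_iff_left ho0').mp h2
      have h4 : Even (t * (ε * k + w * (q : ℤ) ^ e')) := even_iff_two_dvd.mpr h3
      have hu : Odd (ε * k + w * (q : ℤ) ^ e') := by
        have hk' : Even (k : ℤ) := (Int.even_coe_nat k).mpr hk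
        have hw' : Odd (w : ℤ) := (Int.odd_coe_nat w).mpr hw
        exact Even.add_odd (hk'.mul_left ε) (hw'.mul hqodd.pow)
      rcases Int.even_mul.mp h4 with h5 | h5
      · exact h5
      · exact absurd h5 (Int.not_even_iff_odd.mpr hu)
    · -- `o` odd
      rw [ht] at hQε
      have hoo' : Odd (o : ℤ) := (Int.odd_coe_nat o).mpr hoo
      rcases Int.even_mul.mp hQε with h5 | h5
      · exact absurd h5 (Int.not_even_iff_odd.mpr hoo')
      · exact h5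
  obtain ⟨t', rfl⟩ := hteven
  refine ⟨t', ?_⟩
  rw [ht]
  push_cast
  ring

theorem halving_arith (q e : ℕ) (hq : Odd q) (he : 1 ≤ e) (ε : ℤ) (hε : ε = 1 ∨ ε = -1) (n z k w nf o : ℕ)
    (hn : (q : ℤ) * (n : ℤ) = (q : ℤ) ^ (2 * e) - ε * (q : ℤ) ^ e)
    (hz : (q : ℤ) * (z : ℤ) = (q : ℤ) ^ (2 * e) + ε * ((q : ℤ) ^ (e + 1) - (q : ℤ) ^ e))
    (hk : Even k) (hw : Odd w) (hsplit : nf + k + k * n = k * z + w * n) (hon : o ∣ n) (hcop : Nat.Coprime o q)
    (hsign : Even o → 2 * o ∣ nf) : ((2 * o : ℕ) : ℤ) ∣ (q : ℤ) ^ e - ε := by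
  obtain ⟨e', rfl⟩ : ∃ e', e = e' + 1 := ⟨e - 1, by omega⟩
  exact o9hcarith_core q e' hq ε hε n z k w nf o hn hz hk hw hsplit hon hcop hsign

end Cfsg.Agent.Lib.Helper16.O9H
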