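import Mathlib
import Cfsg.Agent.Lib.Helper20.O9MSKEWNIL
import Cfsg.Agent.Lib.Helper20.O9MPERP
import Cfsg.Agent.Lib.helper4.O9MGENEIG
import Cfsg.Agent.Lib.helper4.O9MSKEWA

set_option autoImplicit false

/-!
# Project O9M (designer helper11), row ABS (`main_abs`): the assembly.
-/

namespace Cfsg.Agent.Lib.Helper11.O9M

open Polynomial Module

theorem o9mabs_cop {F : Type*} [Field F] (r : F[X]) (hr : r.eval (-1) ≠ 0) (k : ℕ) :
    IsCoprime ((X + 1 : F[X]) ^ k) r := by
  apply IsCoprime.pow_left
  have h1 : (X + 1 : F[X]) = X - C (-1) := by simp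
  rw [h1]
  have hirr : Irreducible (X - C (-1) : F[X]) := Polynomial.irreducible_X_sub_C _
  rw [Irreducible.coprime_iff_not_dvd hirr, Polynomial.dvd_iff_isRoot]
  exact hr

theorem main_abs {F : Type*} [Field F] (h2 : (2 : F) ≠ 0) {V : Type*} [AddCommGroup V] [Module F V] [FiniteDimensional F V]
    (B : LinearMap.BilinForm F V) (hsym : ∀ x y, B x y = B y x) (hnd : ∀ x, (∀ y, B x y = 0) → x = 0)
    (A : V ≃ₗ[F] V) (hA : ∀ x y, B (A x) (A y) = B x y)
    (b : ℕ) (r : F[X]) (hχ : A.toLinearMap.charpoly = (X + 1) ^ b * r) (hr : r.eval (-1) ≠ 0)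
    (hb : Even b) (hb2 : 2 ≤ b) : aeval A.toLinearMap ((X + 1) ^ (b - 1) * r) = 0 := by
  classical
  set A' : Module.End F V := A.toLinearMap with hA'
  set A'' : Module.End F V := A.symm.toLinearMap with hA''
  set T : Module.End F V := A' + 1 with hT
  have haT : ∀ k, aeval A' ((X + 1 : F[X]) ^ k) = T ^ k := by
    intro k
    simp [hT]
  have hCH : aeval A' ((X + 1) ^ b * r) = 0 := by
    rw [← hχ]; exact LinearMap.aeval_self_charpoly A'
  -- decomposition
  obtain ⟨u, v, huv⟩ := o9mabs_cop r hr b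
  have hdec : ∀ x : V, ∃ w w', x = w + w' ∧ (T ^ b) w = 0 ∧ aeval A' r w' = 0 := by
    intro x
    refine ⟨aeval A' (v * r) x, aeval A' (u * (X + 1) ^ b) x, ?_, ?_, ?_⟩
    · have h1 : aeval A' (u * (X + 1) ^ b + v * r) x = x := by
        rw [huv]; simp
      rw [map_add, LinearMap.add_apply] at h1
      rw [add_comm]; exact h1.symm
    · rw [← haT b, ← Module.End.mul_apply, ← map_mul]
      have : (X + 1 : F[X]) ^ b * (v * r) = v * ((X + 1) ^ b * r) := by ring
      rw [this, map_mul, hCH, mul_zero, LinearMap.zero_apply]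
    · rw [← Module.End.mul_apply, ← map_mul]
      have : r * (u * (X + 1) ^ b) = u * ((X + 1) ^ b * r) := by ring
      rw [this, map_mul, hCH, mul_zero, LinearMap.zero_apply]
  -- the subspace W
  set W : Submodule F V := LinearMap.ker (T ^ b) with hW
  have hfin : finrank F W = b := gen_eig A' b r hχ hr
  -- nondegenerate on W
  have hndW : ∀ x : W, (∀ y : W, B x y = 0) → x = 0 := by
    intro x hx
    apply Subtype.ext
    apply hnd
    intro y
    obtain ⟨w, w', rfl, hw, hw'⟩ := hdec y
    rw [map_add]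
    have e1 : B x w = 0 := hx ⟨w, hw⟩
    have e2 : B x w' = 0 := perp_ker B A' hA b r hr x w' x.2 hw'
    rw [e1, e2, add_zero]
  -- S
  set S : Module.End F V := A' - A'' with hS
  have hAA : A' * A'' = 1 := by
    ext x; simp [hA', hA'']
  have hAA' : A'' * A' = 1 := by
    ext x; simp [hA', hA'']
  have hcAA : Commute A' A'' := by
    rw [Commute, SemiconjBy, hAA, hAA']
  have hcTA : Commute T A' := by
    rw [hT]; exact (Commute.refl A').add_left (Commute.one_left A')
  have hcTA'' : Commute T A'' := by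
    rw [hT]; exact hcAA.add_left (Commute.one_left A'')
  have hcTS : Commute T S := by
    rw [hS]; exact hcTA.sub_right hcTA''
  have hSfac : S = (A'' * (A' - 1)) * T := by
    rw [hS, hT]
    have : A'' * (A' - 1) * (A' + 1) = A'' * A' * A' - A'' := by noncomm_ring
    rw [this, hAA', one_mul]
  have hcCT : Commute (A'' * (A' - 1)) T := by
    have h1 : Commute A'' T := hcTA''.symm
    have h2 : Commute (A' - 1) T := (hcTA.symm).sub_left (Commute.one_left T)
    exact h1.mul_left h2
  have hSW : ∀ x ∈ W, S x ∈ W := by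
    intro x hx
    rw [hW, LinearMap.mem_ker] at hx ⊢
    have : (T ^ b) (S x) = S ((T ^ b) x) := by
      rw [← Module.End.mul_apply, ← Module.End.mul_apply, (hcTS.pow_left b).eq]
    rw [this, hx, map_zero]
  have hSb : ∀ x ∈ W, (S ^ b) x = 0 := by
    intro x hx
    rw [hW, LinearMap.mem_ker] at hx
    rw [hSfac, hcCT.mul_pow, Module.End.mul_apply, hx, map_zero]
  set SW : Module.End F W := S.restrict hSW with hSWdef
  have hnil : IsNilpotent SW := by
    refine ⟨b, ?_⟩
    rw [hSWdef, Module.End.pow_restrict b hSW]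
    ext x
    simp only [LinearMap.restrict_apply, LinearMap.zero_apply, ZeroMemClass.coe_zero]
    exact hSb x x.2
  have hskew : ∀ x y : V, B (S x) y = - B x (S y) := by
    intro x y
    have e1 : B (A' x) y = B x (A'' y) := by
      have := hA x (A'' y)
      rw [← this]
      congr 1
      simp [hA'']
    have e2 : B (A'' x) y = B x (A' y) := by
      have := hA (A'' x) y
      rw [← this]
      congr 2
      simp [hA'']
    simp only [hS, LinearMap.sub_apply, map_sub, e1, e2]
    ring
  have hres : ∀ x y : W, B.restrict W x y = B x y := fun x y => rfl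
  have hkey := skew_nil h2 (B.restrict W) (fun x y => by rw [hres, hres]; exact hsym _ _)
    (fun x hx => hndW x (fun y => by rw [← hres]; exact hx y)) SW
    (fun x y => by
      rw [hres, hres, hSWdef, LinearMap.coe_restrict_apply, LinearMap.coe_restrict_apply]
      exact hskew _ _) hnil (by rw [hfin]; exact hb)
  rw [hfin] at hkey
  have hSb1 : ∀ x ∈ W, (S ^ (b - 1)) x = 0 := by
    intro x hx
    have h1 : (SW ^ (b - 1)) ⟨x, hx⟩ = 0 := by rw [hkey]; rfl
    rw [hSWdef, Module.End.pow_restrict (b - 1) hSW] at h1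
    have h2 := congrArg Subtype.val h1
    simpa using h2
  have hTb1 : ∀ x ∈ W, (T ^ (b - 1)) x = 0 := by
    intro x hx
    have hx' : (T ^ b) x = 0 := by rwa [hW, LinearMap.mem_ker] at hx
    exact skewA_pow h2 A (b - 1) b x hx' (hSb1 x hx)
  -- conclusion
  apply LinearMap.ext
  intro x
  obtain ⟨w, w', rfl, hw, hw'⟩ := hdec x
  rw [LinearMap.zero_apply, map_add]
  have e1 : aeval A' ((X + 1) ^ (b - 1) * r) w = 0 := by
    have : ((X + 1 : F[X]) ^ (b - 1) * r) = r * (X + 1) ^ (b - 1) := by ring
    rw [this, map_mul, Module.End.mul_apply, haT, hTb1 w (by rw [hW, LinearMap.mem_ker]; exact hw), map_zero]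
  have e2 : aeval A' ((X + 1) ^ (b - 1) * r) w' = 0 := by
    rw [map_mul, Module.End.mul_apply, hw', map_zero]
  rw [e1, e2, add_zero]

end Cfsg.Agent.Lib.Helper11.O9M
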