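import Mathlib
import Cfsg.Prelude.Def_Classical
import Cfsg.Agent.Lib.Helper11.O9MABS

set_option autoImplicit false

/-!
# Project O9M (designer helper11), row WRAP (`o9m_main`): the matrix statement.
-/

namespace Cfsg.Agent.Lib.Helper11.O9M

open Polynomial Module

theorem o9mwrap_mem {F : Type*} [Field F] {ι : Type} [Fintype ι] [DecidableEq ι]
    (Q : (ι → F) → F) (g : GL ι F) (hg : g ∈ Cfsg.isometryGroup F Q) (v : ι → F) :
    Q ((g : Matrix ι ι F).mulVec v) = Q v := hg v v

theorem o9mwrap_aeval {F : Type*} [Field F] {ι : Type} [Fintype ι] [DecidableEq ι]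
    (M : Matrix ι ι F) (p : F[X]) : aeval (Matrix.toLin' M) p = Matrix.toLin' (aeval M p) := by
  have := Polynomial.aeval_algHom_apply (Matrix.toLinAlgEquiv' : Matrix ι ι F ≃ₐ[F] _).toAlgHom M p
  exact this

theorem o9m_main {F : Type*} [Field F] (h2 : (2 : F) ≠ 0) {ι : Type} [Fintype ι] [DecidableEq ι]
    (Q : QuadraticForm F (ι → F)) (hQ : ∀ x, (∀ y, QuadraticMap.polar (⇑Q) x y = 0) → x = 0)
    (g : GL ι F) (hg : g ∈ Cfsg.isometryGroup F (⇑Q))
    (b : ℕ) (r : F[X]) (hχ : (g : Matrix ι ι F).charpoly = (X + 1) ^ b * r) (hr : r.eval (-1) ≠ 0)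
    (hb : Even b) (hb2 : 2 ≤ b) :
    aeval (g : Matrix ι ι F) ((X + 1) ^ (b - 1) * r) = 0 := by
  classical
  have h1 : (g : Matrix ι ι F) * ((g⁻¹ : GL ι F) : Matrix ι ι F) = 1 := by
    rw [← Units.val_mul, mul_inv_cancel, Units.val_one]
  have h1' : ((g⁻¹ : GL ι F) : Matrix ι ι F) * (g : Matrix ι ι F) = 1 := by
    rw [← Units.val_mul, inv_mul_cancel, Units.val_one]
  let A : (ι → F) ≃ₗ[F] (ι → F) :=
    LinearEquiv.ofLinearMap (f := Matrix.toLin' (g : Matrix ι ι F)) (g := Matrix.toLin' ((g⁻¹ : GL ι F) : Matrix ι ι F))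
      (by rw [← Matrix.toLin'_mul, h1, Matrix.toLin'_one])
      (by rw [← Matrix.toLin'_mul, h1', Matrix.toLin'_one])
  have hAlin : A.toLinearMap = Matrix.toLin' (g : Matrix ι ι F) := rfl
  have hAapp : ∀ x, A x = (g : Matrix ι ι F).mulVec x := fun x => by
    show Matrix.toLin' (g : Matrix ι ι F) x = _
    rw [Matrix.toLin'_apply]
  have hiso : ∀ x y, QuadraticMap.polarBilin Q (A x) (A y) = QuadraticMap.polarBilin Q x y := by
    intro x y
    simp only [QuadraticMap.polarBilin_apply_apply, QuadraticMap.polar]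
    rw [← map_add, hAapp, hAapp, hAapp, o9mwrap_mem _ g hg, o9mwrap_mem _ g hg, o9mwrap_mem _ g hg]
  have hmain := main_abs h2 (QuadraticMap.polarBilin Q)
    (fun x y => by
      simp only [QuadraticMap.polarBilin_apply_apply]; exact QuadraticMap.polar_comm _ _ _)
    (fun x hx => hQ x (fun y => by
      have := hx y
      simpa only [QuadraticMap.polarBilin_apply_apply] using this))
    A hiso b r (by rw [hAlin, Matrix.charpoly_toLin']; exact hχ) hr hb hb2
  rw [hAlin, o9mwrap_aeval] at hmain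
  exact Matrix.toLin'.injective (by rw [hmain, map_zero])

end Cfsg.Agent.Lib.Helper11.O9M
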