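import Mathlib
import Cfsg.Prelude.Def_GeometricClasses
import Cfsg.Agent.Lib.Helper27.ASC.Defs
import Cfsg.Agent.Lib.helper23.ASCO.Defs
import Cfsg.Agent.Lib.Lead.Reindex
import Cfsg.Agent.Lib.Helper25.O9.Defs
import Cfsg.Agent.Lib.Helper16.ASCORED

set_option autoImplicit false
set_option linter.unusedVariables false
set_option linter.unusedSectionVars false

/-!
# Project O9, piece PERP : `ond_even`

A non-degenerate subspace of odd dimension may be replaced by its orthogonal complement.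
-/

namespace Cfsg.Agent.Lib.Helper25.O9

open Cfsg Cfsg.Geo Cfsg.Agent.Lib.Helper27.ASC Cfsg.Agent.Lib.helper23.ASCO
open scoped MatrixGroups Matrix

variable {n : ℕ} {F : Type*} [Field F] [Fintype F]

/-- PERP -/
theorem ond_even (hodd : Odd n) (h2 : (2 : F) ≠ 0) (Q : QuadraticForm F (Fin n → F))
    (hQ : (QuadraticMap.polarBilin Q).Nondegenerate) (W : Submodule F (Fin n → F)) (h0 : W ≠ ⊥) (h1 : W ≠ ⊤)
    (hW : IsNondegenerateOn (QuadraticMap.polar (⇑Q)) W) :
    ∃ W' : Submodule F (Fin n → F), W' ≠ ⊥ ∧ W' ≠ ⊤ ∧ Even (Module.finrank F W') ∧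
      IsNondegenerateOn (QuadraticMap.polar (⇑Q)) W' ∧
      subspaceStabilizer W ⊓ isometryGroup F (⇑Q) ≤ subspaceStabilizer W' := by
  classical
  by_cases hev : Even (Module.finrank F W)
  · exact ⟨W, h0, h1, hev, hW, inf_le_left⟩
  set H : Subgroup (GL (Fin n) F) := subspaceStabilizer W ⊓ isometryGroup F (⇑Q) with hH
  have hst : H ≤ subspaceStabilizer W := inf_le_left
  have hHO : H ≤ isometryGroup F (⇑Q) := inf_le_right
  have hWm := ascored_maps_of_stab H W hst
  set B : LinearMap.BilinForm F (Fin n → F) := QuadraticMap.polarBilin Q with hBdef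
  have hBapp : ∀ x y : Fin n → F, B x y = QuadraticMap.polar (⇑Q) x y := fun x y => rfl
  have hpol : ∀ g ∈ H, ∀ u v : Fin n → F,
      QuadraticMap.polar (⇑Q) ((g : Matrix (Fin n) (Fin n) F) *ᵥ u)
        ((g : Matrix (Fin n) (Fin n) F) *ᵥ v) = QuadraticMap.polar (⇑Q) u v :=
    fun g hg u v => ascored_polar Q g (hHO hg) u v
  have hginv : ∀ g : GL (Fin n) F, ∀ w : Fin n → F, (g : Matrix (Fin n) (Fin n) F) *ᵥ
      (((g⁻¹ : GL (Fin n) F) : Matrix (Fin n) (Fin n) F) *ᵥ w) = w := by
    intro g w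
    rw [Matrix.mulVec_mulVec, ← Units.val_mul, mul_inv_cancel, Units.val_one, Matrix.one_mulVec]
  set Wp : Submodule F (Fin n → F) := B.orthogonal W with hWp
  have hmemp : ∀ v : Fin n → F, v ∈ Wp ↔ ∀ w ∈ W, QuadraticMap.polar (⇑Q) w v = 0 := by
    intro v
    rw [hWp, LinearMap.BilinForm.mem_orthogonal_iff]
    constructor
    · intro hv w hw
      have := hv w hw
      rw [← hBapp]
      exact this
    · intro hv w hw
      show B w v = 0
      rw [hBapp]
      exact hv w hw
  -- the perp is invariant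
  have hPm : ∀ g ∈ H, ∀ v ∈ Wp, (g : Matrix (Fin n) (Fin n) F) *ᵥ v ∈ Wp := by
    intro g hg v hv
    rw [hmemp] at hv ⊢
    intro w hw
    have h3 := hWm g⁻¹ (H.inv_mem hg) w hw
    have h4 := hpol g hg (((g⁻¹ : GL (Fin n) F) : Matrix (Fin n) (Fin n) F) *ᵥ w) v
    rw [hginv] at h4
    rw [h4]
    exact hv _ h3
  have hR : W ⊓ Wp = ⊥ := by
    rw [eq_bot_iff]
    intro w hw
    rw [Submodule.mem_bot]
    by_contra hw0
    obtain ⟨⟨x, hx, hx0⟩, _⟩ := hW w hw.1 hw0
    exact hx0 ((hmemp w).1 hw.2 x hx)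
  have hfr : Module.finrank F Wp = n - Module.finrank F W := by
    have := LinearMap.BilinForm.finrank_orthogonal (B := B) hQ W
    rwa [Module.finrank_fin_fun] at this
  have hWlt : Module.finrank F W < n := by
    have := Submodule.finrank_lt h1
    rwa [Module.finrank_fin_fun] at this
  have hWpos : 0 < Module.finrank F W := by
    rcases Nat.eq_zero_or_pos (Module.finrank F W) with hz | hp
    · exact absurd (Submodule.finrank_eq_zero.1 hz) h0
    · exact hp
  have hsi := Submodule.finrank_sup_add_finrank_inf_eq W Wp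
  rw [hR, finrank_bot, add_zero] at hsi
  have hsup : W ⊔ Wp = ⊤ := by
    apply Submodule.eq_top_of_finrank_eq
    rw [Module.finrank_fin_fun]
    omega
  refine ⟨Wp, ?_, ?_, ?_, ?_, ascored_stab_of_maps H _ hPm⟩
  · intro hb
    rw [hb, finrank_bot] at hfr
    omega
  · intro ht
    rw [ht, finrank_top, Module.finrank_fin_fun] at hfr
    omega
  · rw [hfr]
    rw [Nat.not_even_iff_odd] at hev
    obtain ⟨a, ha⟩ := hodd
    obtain ⟨b, hb⟩ := hev
    exact ⟨a - b, by omega⟩
  · intro w' hw' hw'0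
    have key : ∃ x ∈ Wp, QuadraticMap.polar (⇑Q) x w' ≠ 0 := by
      by_contra hcon
      push Not at hcon
      have hall : ∀ v : Fin n → F, B v w' = 0 := by
        intro v
        have hv : v ∈ W ⊔ Wp := by rw [hsup]; exact Submodule.mem_top
        obtain ⟨a, ha, b, hb, rfl⟩ := Submodule.mem_sup.1 hv
        rw [map_add, LinearMap.add_apply, hBapp, hBapp, hcon b hb, add_zero]
        exact (hmemp w').1 hw' a ha
      exact hw'0 (hQ.2 w' hall)
    obtain ⟨x, hx, hx0⟩ := key
    refine ⟨⟨x, hx, hx0⟩, ⟨x, hx, ?_⟩⟩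
    rw [QuadraticMap.polar_comm]
    exact hx0

end Cfsg.Agent.Lib.Helper25.O9
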