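import Mathlib
import Cfsg.Agent.Lib.Helper19.O9U.Defs

set_option autoImplicit false

/-!
# O9U row ARITHB (`arith9_b`): the arithmetic of the types `a = 1`, `c ≥ 2` even of `Ω₉(q)`.
-/

namespace Cfsg.Agent.Lib.Helper19.O9U

theorem o9uarithb_e1t (k : ℕ) : tyN (2 * k + 1) 1 true = 2 * k := by
  rw [tyN_true, pow_one]; omega

theorem o9uarithb_e1f (k : ℕ) : tyN (2 * k + 1) 1 false = 2 * k + 2 := by
  rw [tyN_false, pow_one]

theorem o9uarithb_q2 (k : ℕ) : (2 * k + 1) ^ 2 - 1 = 4 * k * (k + 1) :=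
  Nat.sub_eq_of_eq_add (by ring)

theorem o9uarithb_q3 (k : ℕ) : (2 * k + 1) ^ 3 - 1 = 2 * k * (4 * k ^ 2 + 6 * k + 3) :=
  Nat.sub_eq_of_eq_add (by ring)

theorem o9uarithb_q4 (k : ℕ) : (2 * k + 1) ^ 4 - 1 = 8 * k * (k + 1) * (2 * k ^ 2 + 2 * k + 1) :=
  Nat.sub_eq_of_eq_add (by ring)

theorem o9uarithb_q1 (k : ℕ) : (2 * k + 1) - 1 = 2 * k := by omega

theorem o9uarithb_e2t (k : ℕ) : tyN (2 * k + 1) 2 true = 4 * k * (k + 1) := by
  rw [tyN_true, o9uarithb_q2]

theorem o9uarithb_e2f (k : ℕ) : tyN (2 * k + 1) 2 false = 4 * k * (k + 1) + 2 := by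
  rw [tyN_false]; ring

theorem o9uarithb_e3t (k : ℕ) : tyN (2 * k + 1) 3 true = 2 * k * (4 * k ^ 2 + 6 * k + 3) := by
  rw [tyN_true, o9uarithb_q3]

theorem o9uarithb_e3f (k : ℕ) : tyN (2 * k + 1) 3 false = 2 * (k + 1) * (4 * k ^ 2 + 2 * k + 1) := by
  rw [tyN_false]; ring

/-- `2 N = q ^ 4 - 1` -/
theorem o9uarithb_int2 (k p : ℕ) : InT9 (2 * k + 1) p (4 * k * (k + 1) * (2 * k ^ 2 + 2 * k + 1)) := by
  right; left
  rw [o9uarithb_q4]; ring

/-- `2 N = (q ^ 3 - 1) (q + 1)` -/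
theorem o9uarithb_int3 (k p : ℕ) : InT9 (2 * k + 1) p (2 * k * (4 * k ^ 2 + 6 * k + 3) * (k + 1)) := by
  right; right; left
  rw [o9uarithb_q3]; ring

/-- `2 N = (q ^ 3 + 1) (q - 1)` -/
theorem o9uarithb_int4 (k p : ℕ) : InT9 (2 * k + 1) p (2 * (k + 1) * (4 * k ^ 2 + 2 * k + 1) * k) := by
  right; right; right; left
  rw [o9uarithb_q1]; ring

/-- `2 N = p (q ^ 2 + 1) (q - 1)` -/
theorem o9uarithb_int7 (k p : ℕ) : InT9 (2 * k + 1) p ((4 * k * (k + 1) + 2) * p * k) := by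
  right; right; right; right; right; right; left
  rw [o9uarithb_q1]; ring

/-- `N = p (q ^ 2 - 1)` -/
theorem o9uarithb_int9 (k p : ℕ) : InT9 (2 * k + 1) p (p * (4 * k * (k + 1))) := by
  right; right; right; right; right; right; right; right; left
  rw [o9uarithb_q2]

/-- `p = 3`, `2 N = 9 (q ^ 2 - 1)` -/
theorem o9uarithb_int11 (k : ℕ) : InT9 (2 * k + 1) 3 (18 * k * (k + 1)) := by
  right; right; right; right; right; right; right; right; right; left
  refine ⟨rfl, Or.inr ?_⟩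
  rw [o9uarithb_q2]; ring

/-- `p = 5`, `2 N = 25 (q - 1)` -/
theorem o9uarithb_int12 (k : ℕ) : InT9 (2 * k + 1) 5 (25 * k) := by
  right; right; right; right; right; right; right; right; right; right; left
  refine ⟨rfl, Or.inl ?_⟩
  rw [o9uarithb_q1]; ring

/-- `p = 5`, `2 N = 25 (q + 1)` -/
theorem o9uarithb_int13 (k : ℕ) : InT9 (2 * k + 1) 5 (25 * (k + 1)) := by
  right; right; right; right; right; right; right; right; right; right; left
  refine ⟨rfl, Or.inr ?_⟩
  ring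

/-- a prime `≥ 3` other than `3` and `5` is `≥ 7` -/
theorem o9uarithb_seven (p : ℕ) (hp : p.Prime) (hp3 : 3 ≤ p) (h3 : p ≠ 3) (h5 : p ≠ 5) : 7 ≤ p := by
  by_contra hlt
  have h7 : p < 7 := by omega
  interval_cases p
  · exact h3 rfl
  · exact absurd hp (by norm_num)
  · exact h5 rfl
  · exact absurd hp (by norm_num)

/-- a prime `≥ 3` other than `3` is `≥ 5` -/
theorem o9uarithb_five (p : ℕ) (hp : p.Prime) (hp3 : 3 ≤ p) (h3 : p ≠ 3) : 5 ≤ p := by
  by_contra hlt
  have h7 : p < 5 := by omega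
  interval_cases p
  · exact h3 rfl
  · exact absurd hp (by norm_num)

/-- the core of ARITHB in terms of `k = (q - 1) / 2` and the eight multiplicities -/
theorem o9uarithb_core (k p : ℕ) (hp : p.Prime) (hp3 : 3 ≤ p) (c A B C D E G : ℕ)
    (hc : Even c) (hc0 : c ≠ 0)
    (hsum : c + 2 * (A + B + 2 * (C + D) + 3 * (E + G)) = 8) :
    ∃ N, InT9 (2 * k + 1) p N ∧ ∃ m t : ℕ, m * p ^ t ∣ N ∧
      (A ≠ 0 → 2 * k ∣ m) ∧ (B ≠ 0 → 2 * k + 2 ∣ m) ∧ (C ≠ 0 → 4 * k * (k + 1) ∣ m) ∧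
      (D ≠ 0 → 4 * k * (k + 1) + 2 ∣ m) ∧ (E ≠ 0 → 2 * k * (4 * k ^ 2 + 6 * k + 3) ∣ m) ∧
      (G ≠ 0 → 2 * (k + 1) * (4 * k ^ 2 + 2 * k + 1) ∣ m) ∧ 2 ∣ m ∧
      (1 ≤ p ^ t ∧ c ≤ p ^ t + 1 ∧ A ≤ p ^ t ∧ B ≤ p ^ t ∧ C ≤ p ^ t ∧ D ≤ p ^ t ∧ E ≤ p ^ t ∧
        G ≤ p ^ t) := by
  have hp1 : p ^ 1 = p := pow_one p
  have hp0 : p ^ 0 = 1 := pow_zero p
  have hcases : c = 8 ∨ c = 6 ∨ c = 4 ∨ c = 2 := by
    obtain ⟨c', rfl⟩ := hc
    omega
  rcases hcases with rfl | rfl | rfl | rfl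
  · -- `c = 8`: `w = 0`, `m = 2`
    by_cases h3 : p = 3
    · subst h3
      refine ⟨_, o9uarithb_int11 k, 2, 2, ⟨k * (k + 1), by ring⟩, fun h => (h (by omega)).elim,
        fun h => (h (by omega)).elim, fun h => (h (by omega)).elim, fun h => (h (by omega)).elim,
        fun h => (h (by omega)).elim, fun h => (h (by omega)).elim, dvd_refl 2, ?_⟩
      norm_num
      omega
    by_cases h5 : p = 5
    · subst h5
      rcases Nat.even_or_odd k with ⟨j, hj⟩ | ⟨j, hj⟩
      · refine ⟨_, o9uarithb_int12 k, 2, 2, ⟨j, by rw [hj]; ring⟩, fun h => (h (by omega)).elim,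
          fun h => (h (by omega)).elim, fun h => (h (by omega)).elim, fun h => (h (by omega)).elim,
          fun h => (h (by omega)).elim, fun h => (h (by omega)).elim, dvd_refl 2, ?_⟩
        norm_num
        omega
      · refine ⟨_, o9uarithb_int13 k, 2, 2, ⟨j + 1, by rw [hj]; ring⟩, fun h => (h (by omega)).elim,
          fun h => (h (by omega)).elim, fun h => (h (by omega)).elim, fun h => (h (by omega)).elim,
          fun h => (h (by omega)).elim, fun h => (h (by omega)).elim, dvd_refl 2, ?_⟩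
        norm_num
        omega
    have h7 := o9uarithb_seven p hp hp3 h3 h5
    refine ⟨_, o9uarithb_int9 k p, 2, 1, ⟨2 * k * (k + 1), by ring⟩, fun h => (h (by omega)).elim,
      fun h => (h (by omega)).elim, fun h => (h (by omega)).elim, fun h => (h (by omega)).elim,
      fun h => (h (by omega)).elim, fun h => (h (by omega)).elim, dvd_refl 2, ?_⟩
    rw [hp1]
    omega
  · -- `c = 6`: one factor with `e = 1`
    by_cases hA : A = 0
    · -- `B = 1`
      by_cases h3 : p = 3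
      · subst h3
        refine ⟨_, o9uarithb_int11 k, 2 * k + 2, 2, ⟨k, by ring⟩, fun h => (h (by omega)).elim,
          fun _ => dvd_refl _, fun h => (h (by omega)).elim, fun h => (h (by omega)).elim,
          fun h => (h (by omega)).elim, fun h => (h (by omega)).elim, ⟨k + 1, by ring⟩, ?_⟩
        norm_num
        omega
      have h5 := o9uarithb_five p hp hp3 h3
      refine ⟨_, o9uarithb_int9 k p, 2 * k + 2, 1, ⟨2 * k, by ring⟩, fun h => (h (by omega)).elim,
        fun _ => dvd_refl _, fun h => (h (by omega)).elim, fun h => (h (by omega)).elim,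
        fun h => (h (by omega)).elim, fun h => (h (by omega)).elim, ⟨k + 1, by ring⟩, ?_⟩
      rw [hp1]
      omega
    · -- `A = 1`
      by_cases h3 : p = 3
      · subst h3
        refine ⟨_, o9uarithb_int11 k, 2 * k, 2, ⟨k + 1, by ring⟩, fun _ => dvd_refl _,
          fun h => (h (by omega)).elim, fun h => (h (by omega)).elim, fun h => (h (by omega)).elim,
          fun h => (h (by omega)).elim, fun h => (h (by omega)).elim, ⟨k, by ring⟩, ?_⟩
        norm_num
        omega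
      have h5 := o9uarithb_five p hp hp3 h3
      refine ⟨_, o9uarithb_int9 k p, 2 * k, 1, ⟨2 * (k + 1), by ring⟩, fun _ => dvd_refl _,
        fun h => (h (by omega)).elim, fun h => (h (by omega)).elim, fun h => (h (by omega)).elim,
        fun h => (h (by omega)).elim, fun h => (h (by omega)).elim, ⟨k, by ring⟩, ?_⟩
      rw [hp1]
      omega
  · -- `c = 4`: `t = 1`
    by_cases hD : D = 0
    · refine ⟨_, o9uarithb_int9 k p, 4 * k * (k + 1), 1, ⟨1, by ring⟩, fun _ => ⟨2 * (k + 1), by ring⟩,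
        fun _ => ⟨2 * k, by ring⟩, fun _ => dvd_refl _, fun h => (h (by omega)).elim,
        fun h => (h (by omega)).elim, fun h => (h (by omega)).elim, ⟨2 * k * (k + 1), by ring⟩, ?_⟩
      rw [hp1]
      omega
    · refine ⟨_, o9uarithb_int7 k p, 4 * k * (k + 1) + 2, 1, ⟨k, by ring⟩, fun h => (h (by omega)).elim,
        fun h => (h (by omega)).elim, fun h => (h (by omega)).elim, fun _ => dvd_refl _,
        fun h => (h (by omega)).elim, fun h => (h (by omega)).elim, ⟨2 * k * (k + 1) + 1, by ring⟩, ?_⟩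
      rw [hp1]
      omega
  · -- `c = 2`
    by_cases hE : E = 0
    swap
    · refine ⟨_, o9uarithb_int3 k p, 2 * k * (4 * k ^ 2 + 6 * k + 3), 0, ⟨k + 1, by ring⟩,
        fun h => (h (by omega)).elim, fun h => (h (by omega)).elim, fun h => (h (by omega)).elim,
        fun h => (h (by omega)).elim, fun _ => dvd_refl _, fun h => (h (by omega)).elim,
        ⟨k * (4 * k ^ 2 + 6 * k + 3), by ring⟩, ?_⟩
      rw [hp0]
      omega
    by_cases hG : G = 0
    swap
    · refine ⟨_, o9uarithb_int4 k p, 2 * (k + 1) * (4 * k ^ 2 + 2 * k + 1), 0, ⟨k, by ring⟩,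
        fun h => (h (by omega)).elim, fun h => (h (by omega)).elim, fun h => (h (by omega)).elim,
        fun h => (h (by omega)).elim, fun h => (h (by omega)).elim, fun _ => dvd_refl _,
        ⟨(k + 1) * (4 * k ^ 2 + 2 * k + 1), by ring⟩, ?_⟩
      rw [hp0]
      omega
    by_cases hD : D = 0
    swap
    · -- `D = 1`, `A + B = 1`
      by_cases hA : A = 0
      · refine ⟨_, o9uarithb_int2 k p, (4 * k * (k + 1) + 2) * (k + 1), 0, ⟨2 * k, by ring⟩,
          fun h => (h (by omega)).elim, fun _ => ⟨2 * k * (k + 1) + 1, by ring⟩,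
          fun h => (h (by omega)).elim, fun _ => ⟨k + 1, rfl⟩, fun h => (h (by omega)).elim,
          fun h => (h (by omega)).elim, ⟨(2 * k * (k + 1) + 1) * (k + 1), by ring⟩, ?_⟩
        rw [hp0]
        omega
      · refine ⟨_, o9uarithb_int2 k p, (4 * k * (k + 1) + 2) * k, 0, ⟨2 * (k + 1), by ring⟩,
          fun _ => ⟨2 * k * (k + 1) + 1, by ring⟩, fun h => (h (by omega)).elim,
          fun h => (h (by omega)).elim, fun _ => ⟨k, rfl⟩, fun h => (h (by omega)).elim,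
          fun h => (h (by omega)).elim, ⟨(2 * k * (k + 1) + 1) * k, by ring⟩, ?_⟩
        rw [hp0]
        omega
    by_cases hC : C = 0
    swap
    · -- `C = 1`, `A + B = 1`
      refine ⟨_, o9uarithb_int2 k p, 4 * k * (k + 1), 0, ⟨2 * k ^ 2 + 2 * k + 1, by ring⟩,
        fun _ => ⟨2 * (k + 1), by ring⟩, fun _ => ⟨2 * k, by ring⟩, fun _ => dvd_refl _,
        fun h => (h (by omega)).elim, fun h => (h (by omega)).elim, fun h => (h (by omega)).elim,
        ⟨2 * k * (k + 1), by ring⟩, ?_⟩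
      rw [hp0]
      omega
    · -- `A + B = 3`
      refine ⟨_, o9uarithb_int9 k p, 4 * k * (k + 1), 1, ⟨1, by ring⟩, fun _ => ⟨2 * (k + 1), by ring⟩,
        fun _ => ⟨2 * k, by ring⟩, fun _ => dvd_refl _, fun h => (h (by omega)).elim,
        fun h => (h (by omega)).elim, fun h => (h (by omega)).elim, ⟨2 * k * (k + 1), by ring⟩, ?_⟩
      rw [hp1]
      omega

/-- a statement on the support of `w` follows from its six instances with `e ≤ 3` when `w 4 ε = 0` -/
theorem o9uarithb_forall (w : ℕ → Bool → ℕ) (hsupp : ∀ e ε, w e ε ≠ 0 → 1 ≤ e ∧ e ≤ 4)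
    (P : ℕ → Bool → Prop)
    (h1t : w 1 true ≠ 0 → P 1 true) (h1f : w 1 false ≠ 0 → P 1 false)
    (h2t : w 2 true ≠ 0 → P 2 true) (h2f : w 2 false ≠ 0 → P 2 false)
    (h3t : w 3 true ≠ 0 → P 3 true) (h3f : w 3 false ≠ 0 → P 3 false)
    (h4t : w 4 true = 0) (h4f : w 4 false = 0) :
    ∀ e ε, w e ε ≠ 0 → P e ε := by
  intro e ε h
  obtain ⟨h1, h4⟩ := hsupp e ε h
  interval_cases e
  · cases ε
    · exact h1f h
    · exact h1t h
  · cases ε
    · exact h2f h
    · exact h2t h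
  · cases ε
    · exact h3f h
    · exact h3t h
  · cases ε
    · exact absurd h4f h
    · exact absurd h4t h

theorem arith9_b (q p : ℕ) (hq : Odd q) (hq3 : 3 ≤ q) (hp : p.Prime) (hp3 : 3 ≤ p) (c : ℕ)
    (w : ℕ → Bool → ℕ) (hc : Even c) (hc0 : c ≠ 0)
    (hsum : c + 2 * ∑ e ∈ Finset.range 5, e * (w e true + w e false) = 8)
    (hsupp : ∀ e ε, w e ε ≠ 0 → 1 ≤ e ∧ e ≤ 4) :
    ∃ N, InT9 q p N ∧ ∃ m t : ℕ, m * p ^ t ∣ N ∧ (∀ e ε, w e ε ≠ 0 → tyN q e ε ∣ m) ∧ 2 ∣ m ∧
      1 ≤ p ^ t ∧ c ≤ p ^ t + 1 ∧ ∀ e ε, w e ε ≤ p ^ t := by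
  obtain ⟨k, rfl⟩ := hq
  have hS : ∑ e ∈ Finset.range 5, e * (w e true + w e false) =
      (w 1 true + w 1 false) + 2 * (w 2 true + w 2 false) + 3 * (w 3 true + w 3 false) +
        4 * (w 4 true + w 4 false) := by
    simp [Finset.sum_range_succ]
  rw [hS] at hsum
  have hc2 : 2 ≤ c := by
    obtain ⟨c', rfl⟩ := hc
    omega
  have h4t : w 4 true = 0 := by omega
  have h4f : w 4 false = 0 := by omega
  obtain ⟨N, hN, m, t, hdvd, hA, hB, hC, hD, hE, hG, h2, h1, hcle, hAle, hBle, hCle, hDle, hEle, hGle⟩ :=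
    o9uarithb_core k p hp hp3 c (w 1 true) (w 1 false) (w 2 true) (w 2 false) (w 3 true) (w 3 false)
      hc hc0 (by omega)
  refine ⟨N, hN, m, t, hdvd, ?_, h2, h1, hcle, ?_⟩
  · refine o9uarithb_forall w hsupp (fun e ε => tyN (2 * k + 1) e ε ∣ m) ?_ ?_ ?_ ?_ ?_ ?_ h4t h4f
    · intro h
      show tyN (2 * k + 1) 1 true ∣ m
      rw [o9uarithb_e1t]
      exact hA h
    · intro h
      show tyN (2 * k + 1) 1 false ∣ m
      rw [o9uarithb_e1f]
      exact hB h
    · intro h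
      show tyN (2 * k + 1) 2 true ∣ m
      rw [o9uarithb_e2t]
      exact hC h
    · intro h
      show tyN (2 * k + 1) 2 false ∣ m
      rw [o9uarithb_e2f]
      exact hD h
    · intro h
      show tyN (2 * k + 1) 3 true ∣ m
      rw [o9uarithb_e3t]
      exact hE h
    · intro h
      show tyN (2 * k + 1) 3 false ∣ m
      rw [o9uarithb_e3f]
      exact hG h
  · intro e ε
    by_cases h : w e ε = 0
    · rw [h]
      exact Nat.zero_le _
    · exact o9uarithb_forall w hsupp (fun e ε => w e ε ≤ p ^ t) (fun _ => hAle) (fun _ => hBle)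
        (fun _ => hCle) (fun _ => hDle) (fun _ => hEle) (fun _ => hGle) h4t h4f e ε h

end Cfsg.Agent.Lib.Helper19.O9U
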