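import Mathlib
import Cfsg.Agent.Lib.helper8.OCT.Defs

/-! Project OCT (S2369), piece MAIN (core, the statements of CELL / ECC / PAR used are hypotheses): the centralizer of a nontrivial element `a` having a conjugate in `U` lies in
a conjugate of `B`, `P_a` or `P_b` (the chambers of minimal eccentricity lie in one panel). -/

set_option autoImplicit false
set_option linter.unusedVariables false

namespace Cfsg.Agent.Lib.helper8.OCT

variable {G : Type*} [Group G] {B U : Subgroup G} {Uj : ℕ → Subgroup G} {n : ℕ → G}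

theorem octmain_len_le_eight : ∀ z < 16, oLen z ≤ 8 := by decide

theorem octmain_len_le_one : ∀ z < 16, oLen z ≤ 1 → z = 0 ∨ z = 1 ∨ z = 2 := by decide

theorem octmain_len_ge_two : ∀ z < 16, ¬ oLen z ≤ 1 → 2 ≤ oLen z := by
  intro z hz h
  omega

/-- MAIN, core : the statements of `cell_zero`, `cell_inv`, `gen_mulL`, `fixX_ecc`, `par_subgroup` are hypotheses -/
theorem octmain_core (S : OctSys B U Uj n) {a : G} (ha : a ≠ 1) (hX : ∃ g : G, g⁻¹ * a * g ∈ U)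
    (hcz : cell B n 0 = (B : Set G))
    (hci : ∀ {k : ℕ}, k < 16 → ∀ {x : G}, x ∈ cell B n k → x⁻¹ ∈ cell B n (oInv k))
    (hgl : ∀ {j k : ℕ}, j < 2 → k < 16 → oLen (oMt j k) = oLen k + 1 → ∀ {y x : G},
      y ∈ cell B n (j + 1) → x ∈ cell B n k → y * x ∈ cell B n (oMt j k))
    (hecc : ∀ (e : ℕ) {g h : G}, g ∈ fixX U a → h ∈ fixX U a → ∀ {k : ℕ}, k < 16 →
      g⁻¹ * h ∈ cell B n k → 2 ≤ oLen k →
      (∀ x ∈ fixX U a, ∀ z < 16, g⁻¹ * x ∈ cell B n z → oLen z ≤ e) →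
      (∀ x ∈ fixX U a, ∀ z < 16, h⁻¹ * x ∈ cell B n z → oLen z ≤ e) →
      ∃ g1 ∈ fixX U a, ∀ x ∈ fixX U a, ∀ z < 16, g1⁻¹ * x ∈ cell B n z → oLen z + 1 ≤ e)
    (hpar : ∀ {J : ℕ}, J < 3 → ∃ Q : Subgroup G, (Q : Set G) = cell B n 0 ∪ cell B n J) :
    ∃ g0 : G, ∃ J < 3, ∃ Q : Subgroup G, (Q : Set G) = cell B n 0 ∪ cell B n J ∧
      ∀ m : G, m * a = a * m → g0⁻¹ * m * g0 ∈ Q := by
  classical
  -- the eccentricity predicate
  set P : ℕ → Prop := fun e => ∃ g ∈ fixX U a, ∀ x ∈ fixX U a, ∀ z < 16,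
    g⁻¹ * x ∈ cell B n z → oLen z ≤ e with hP
  have hP8 : P 8 := by
    obtain ⟨g, hg⟩ := hX
    exact ⟨g, hg, fun x _ z hz _ => octmain_len_le_eight z hz⟩
  have hex : ∃ e, P e := ⟨8, hP8⟩
  set e := Nat.find hex with he
  have hPe : P e := Nat.find_spec hex
  have hmin : ∀ e' < e, ¬ P e' := fun e' h => Nat.find_min hex h
  have h1B : (1 : G) ∈ cell B n 0 := by
    rw [hcz]
    exact B.one_mem
  -- Claim 1: two chambers of minimal eccentricity are at distance at most one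
  have claim1 : ∀ g ∈ fixX U a, ∀ h ∈ fixX U a,
      (∀ x ∈ fixX U a, ∀ z < 16, g⁻¹ * x ∈ cell B n z → oLen z ≤ e) →
      (∀ x ∈ fixX U a, ∀ z < 16, h⁻¹ * x ∈ cell B n z → oLen z ≤ e) →
      ∀ k < 16, g⁻¹ * h ∈ cell B n k → k = 0 ∨ k = 1 ∨ k = 2 := by
    intro g hg h hh hge hhe k hk hgh
    apply octmain_len_le_one k hk
    by_contra hlen
    have hk2 : 2 ≤ oLen k := octmain_len_ge_two k hk hlen
    obtain ⟨g1, hg1, hg1e⟩ := hecc e hg hh hk hgh hk2 hge hhe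
    have h0 : oLen 0 + 1 ≤ e := by
      apply hg1e g1 hg1 0 (by norm_num)
      rw [inv_mul_cancel]
      exact h1B
    have he1 : e - 1 < e := by omega
    apply hmin (e - 1) he1
    refine ⟨g1, hg1, fun x hx z hz hxz => ?_⟩
    have := hg1e x hx z hz hxz
    omega
  obtain ⟨g0, hg0, hg0e⟩ := hPe
  -- the set of chambers of minimal eccentricity
  set Xmin : Set G := {h | h ∈ fixX U a ∧ ∀ x ∈ fixX U a, ∀ z < 16,
    h⁻¹ * x ∈ cell B n z → oLen z ≤ e} with hXmin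
  have hdist : ∀ h ∈ Xmin, g0⁻¹ * h ∈ cell B n 0 ∨ g0⁻¹ * h ∈ cell B n 1 ∨ g0⁻¹ * h ∈ cell B n 2 := by
    intro h hh
    obtain ⟨k, hk, hkc⟩ := S.cov (g0⁻¹ * h)
    rcases claim1 g0 hg0 h hh.1 hg0e hh.2 k hk hkc with rfl | rfl | rfl
    · exact Or.inl hkc
    · exact Or.inr (Or.inl hkc)
    · exact Or.inr (Or.inr hkc)
  -- Claim 2: not both indices 1 and 2 occur
  have claim2 : ∀ h1 ∈ Xmin, ∀ h2 ∈ Xmin, g0⁻¹ * h1 ∈ cell B n 1 → g0⁻¹ * h2 ∈ cell B n 2 → False := by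
    intro h1 hh1 h2 hh2 hc1 hc2
    have hi : (g0⁻¹ * h1)⁻¹ ∈ cell B n (oInv 1) := hci (by norm_num) hc1
    have hi' : (g0⁻¹ * h1)⁻¹ ∈ cell B n (0 + 1) := hi
    have hprod : (g0⁻¹ * h1)⁻¹ * (g0⁻¹ * h2) ∈ cell B n (oMt 0 2) :=
      hgl (j := 0) (k := 2) (by norm_num) (by norm_num) (by decide) hi' hc2
    have hprod' : h1⁻¹ * h2 ∈ cell B n 3 := by
      have e1 : (g0⁻¹ * h1)⁻¹ * (g0⁻¹ * h2) = h1⁻¹ * h2 := by group
      rw [e1] at hprod
      exact hprod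
    rcases claim1 h1 hh1.1 h2 hh2.1 hh1.2 hh2.2 3 (by norm_num) hprod' with h | h | h <;> omega
  -- the choice of the panel
  obtain ⟨J, hJ, hJall⟩ : ∃ J < 3, ∀ h ∈ Xmin, g0⁻¹ * h ∈ cell B n 0 ∪ cell B n J := by
    by_cases hc1 : ∃ h1 ∈ Xmin, g0⁻¹ * h1 ∈ cell B n 1
    · obtain ⟨h1, hh1, hh1c⟩ := hc1
      refine ⟨1, by norm_num, fun h hh => ?_⟩
      rcases hdist h hh with h0 | h1' | h2'
      · exact Or.inl h0
      · exact Or.inr h1'
      · exact (claim2 h1 hh1 h hh hh1c h2').elim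
    · by_cases hc2 : ∃ h2 ∈ Xmin, g0⁻¹ * h2 ∈ cell B n 2
      · refine ⟨2, by norm_num, fun h hh => ?_⟩
        rcases hdist h hh with h0 | h1' | h2'
        · exact Or.inl h0
        · exact (hc1 ⟨h, hh, h1'⟩).elim
        · exact Or.inr h2'
      · refine ⟨0, by norm_num, fun h hh => ?_⟩
        rcases hdist h hh with h0 | h1' | h2'
        · exact Or.inl h0
        · exact (hc1 ⟨h, hh, h1'⟩).elim
        · exact (hc2 ⟨h, hh, h2'⟩).elim
  obtain ⟨Q, hQ⟩ := hpar hJ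
  refine ⟨g0, J, hJ, Q, hQ, fun m hm => ?_⟩
  -- elements commuting with `a` permute the fixed chambers
  have hmX : ∀ m' : G, m' * a = a * m' → ∀ x ∈ fixX U a, m' * x ∈ fixX U a := by
    intro m' hm' x hx
    have hx' : x⁻¹ * a * x ∈ U := hx
    have e1 : (m' * x)⁻¹ * a * (m' * x) = x⁻¹ * a * x := by
      have : m'⁻¹ * a * m' = a := by
        rw [mul_assoc, ← hm', ← mul_assoc, inv_mul_cancel, one_mul]
      calc (m' * x)⁻¹ * a * (m' * x) = x⁻¹ * (m'⁻¹ * a * m') * x := by group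
        _ = x⁻¹ * a * x := by rw [this]
    show (m' * x)⁻¹ * a * (m' * x) ∈ U
    rw [e1]
    exact hx'
  have hminv : m⁻¹ * a = a * m⁻¹ := by
    have h1 : m⁻¹ * (m * a) * m⁻¹ = m⁻¹ * (a * m) * m⁻¹ := by rw [hm]
    have e1 : m⁻¹ * (m * a) * m⁻¹ = a * m⁻¹ := by group
    have e2 : m⁻¹ * (a * m) * m⁻¹ = m⁻¹ * a := by group
    rw [e1, e2] at h1
    exact h1.symm
  have hmg0 : m * g0 ∈ Xmin := by
    refine ⟨hmX m hm g0 hg0, fun x hx z hz hxz => ?_⟩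
    have e1 : (m * g0)⁻¹ * x = g0⁻¹ * (m⁻¹ * x) := by group
    rw [e1] at hxz
    exact hg0e (m⁻¹ * x) (hmX m⁻¹ hminv x hx) z hz hxz
  have hfin := hJall (m * g0) hmg0
  have e2 : g0⁻¹ * m * g0 = g0⁻¹ * (m * g0) := by group
  rw [e2]
  have : g0⁻¹ * (m * g0) ∈ (Q : Set G) := by
    rw [hQ]
    exact hfin
  exact this

end Cfsg.Agent.Lib.helper8.OCT
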