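import Mathlib
import Cfsg.Agent.Lib.helper8.OCT.Defs
import Cfsg.Agent.Lib.Helper11.OCTMAINcore
import Cfsg.Agent.Lib.Helper20.OCTCELL
import Cfsg.Agent.Lib.Helper20.OCTFIX
import Cfsg.Agent.Lib.Helper19.OCTGEO
import Cfsg.Agent.Lib.Helper10.OCTPAR
import Cfsg.Agent.Lib.Helper10.OCTECCcore

/-! Project OCT (S2369), piece MAIN: verbatim wrapper of `octmain_core` (the statement of ECC is obtained from
`octecc_core` with the landed FIX and GEO pieces). -/

set_option autoImplicit false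

namespace Cfsg.Agent.Lib.helper8.OCT

variable {G : Type*} [Group G] {B U : Subgroup G} {Uj : ℕ → Subgroup G} {n : ℕ → G}

/-- MAIN : the centralizer of `a` lies in a conjugate of `B`, `P_a` or `P_b` -/
theorem oct_main (S : OctSys B U Uj n) {a : G} (ha : a ≠ 1) (hX : ∃ g : G, g⁻¹ * a * g ∈ U) :
    ∃ g0 : G, ∃ J < 3, ∃ Q : Subgroup G, (Q : Set G) = cell B n 0 ∪ cell B n J ∧
      ∀ m : G, m * a = a * m → g0⁻¹ * m * g0 ∈ Q :=
  octmain_core S ha hX (cell_zero S) (fun hk _ hx => cell_inv S hk hx)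
    (fun hj hk hl _ _ hy hx => gen_mulL S hj hk hl hy hx)
    (fun e _ _ hg hh _ hk hgh hk2 hge hhe =>
      octecc_core S (fun hg hb => fixX_mul_right S hg hb) (fun hg hh => fixX_no_opp S ha hg hh)
        (fun hg hh hb hb' _ hk hk1 e _ hy => fixX_panel S hg hh hb hb' hk hk1 e hy)
        (fixX_geo S ha) e hg hh hk hgh hk2 hge hhe)
    (fun hJ => par_subgroup S hJ)

end Cfsg.Agent.Lib.helper8.OCT
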