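import Mathlib
import Cfsg.Agent.Lib.Helper18.OPE.Defs2
import Cfsg.Agent.Lib.helper17.OPEQTYSUM
import Cfsg.Agent.Lib.helper17.OPEQTYCLASS
import Cfsg.Agent.Lib.helper17.OPEQCTXO
import Cfsg.Agent.Lib.helper17.ONENDPERPS

set_option autoImplicit false
set_option linter.unusedVariables false
set_option linter.unusedSectionVars false

/-!
# Project OPE (designer helper18), row AP2 (`ap_pairs_total`): the number of pairs `(v₁, v₂)` with `Q v₁ = 1`, `Q v₂ = ζ`, `B v₁ v₂ = 1` in a hyperbolic `2a`-space (helper11).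
-/

namespace Cfsg.Agent.Lib.Helper18.OPE

open Polynomial Module Cfsg.Agent.Lib.Helper13.S5955 Cfsg.Agent.Lib.helper15.S5972
open scoped Matrix

/-- the number of vectors of a nondegenerate `2m`-space of type `s` on which `Q` takes a given nonzero value -/
theorem opeap2_value_count {F : Type*} [Field F] [Fintype F]
    {V : Type*} [AddCommGroup V] [Module F V] [FiniteDimensional F V]
    (Q : QuadraticForm F V) (W : Submodule F V) (hW : SND (QuadraticMap.polarBilin Q) W) (m : ℕ) (hm : 1 ≤ m)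
    (hdim : finrank F W = 2 * m) (s : ℤ) (hty : QTy Q W s) (c : F) (hc : c ≠ 0) :
    (Fintype.card F : ℤ) * (Nat.card {w : V // w ∈ W ∧ Q w = c} : ℤ) =
      (Fintype.card F : ℤ) ^ (2 * m) - s * (Fintype.card F : ℤ) ^ m := by
  classical
  obtain ⟨Q', e, hQe, hQnd⟩ := opeqtysum_coord Q W hW
  have hcard : Fintype.card (Fin (finrank F W)) = 2 * m := by rw [Fintype.card_fin]; exact hdim
  have hs' : Cfsg.Agent.Lib.Helper16.OSemi.IsType (⇑Q') m s := by
    unfold QTy at hty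
    have hd : finrank F W / 2 = m := by omega
    rw [hd] at hty
    exact (Cfsg.Agent.Lib.Helper16.OSemi.isType_congr e.toEquiv
      (fun w : ↥W => Q (w : V)) (⇑Q') (fun v => (hQe v).symm) m s).mp hty
  have h1 := Cfsg.Agent.Lib.Helper16.OSemi.isType_N1 Q' hQnd m hm hcard s hs'
  have h2 := Cfsg.Agent.Lib.Helper16.OSemi.cnt_const Q' hQnd (by rw [hcard]; exact even_two_mul m) (by omega) c hc
  have h3 : Nat.card {w : V // w ∈ W ∧ Q w = c} = Cfsg.Agent.Lib.Helper16.OSemi.cnt (⇑Q') c := by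
    unfold Cfsg.Agent.Lib.Helper16.OSemi.cnt
    apply Nat.card_congr
    refine ⟨fun w => ⟨e.symm ⟨w.1, w.2.1⟩, ?_⟩, fun v => ⟨(e v.1 : V), (e v.1).2, ?_⟩, ?_, ?_⟩
    · rw [hQe, LinearEquiv.apply_symm_apply]; exact w.2.2
    · rw [← hQe]; exact v.2
    · intro w
      apply Subtype.ext
      simp
    · intro v
      apply Subtype.ext
      simp
  rw [h3, h2, h1]

/-- a vector with `Q v₁ ≠ 0` of a hyperbolic space has a singular partner `w₀` with `B v₁ w₀ = 1` -/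
theorem opeap2_partner {F : Type*} [Field F] [Fintype F]
    {V : Type*} [AddCommGroup V] [Module F V] [FiniteDimensional F V]
    (Q : QuadraticForm F V) (N : Submodule F V) (hN : SND (QuadraticMap.polarBilin Q) N)
    (hev : Even (finrank F N)) (hty : QTy Q N 1) (v₁ : V) (hv₁ : v₁ ∈ N) (hQ1 : Q v₁ ≠ 0) :
    ∃ w₀ ∈ N, Q w₀ = 0 ∧ QuadraticMap.polarBilin Q v₁ w₀ = 1 := by
  classical
  obtain ⟨U, hUN, hUs, hUd⟩ := ((qty_iff Q N hN hev).1).mpr hty
  have hdim := h5_finrank_perp (QuadraticMap.polarBilin Q) N U hN hUN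
  have hUle : U ≤ N ⊓ LinearMap.BilinForm.orthogonal (QuadraticMap.polarBilin Q) U := by
    intro u hu
    rw [Submodule.mem_inf, h5_mem_orth]
    refine ⟨hUN hu, fun u' hu' => ?_⟩
    rw [QuadraticMap.polarBilin_apply_apply]
    unfold QuadraticMap.polar
    rw [hUs _ (U.add_mem hu' hu), hUs _ hu', hUs _ hu]; ring
  have hUeq : U = N ⊓ LinearMap.BilinForm.orthogonal (QuadraticMap.polarBilin Q) U :=
    Submodule.eq_of_le_of_finrank_le hUle (by omega)
  have hnot : v₁ ∉ LinearMap.BilinForm.orthogonal (QuadraticMap.polarBilin Q) U := by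
    intro h
    have : v₁ ∈ U := by rw [hUeq]; exact ⟨hv₁, h⟩
    exact hQ1 (hUs _ this)
  rw [h5_mem_orth] at hnot
  push Not at hnot
  obtain ⟨u, hu, hne⟩ := hnot
  refine ⟨(QuadraticMap.polarBilin Q u v₁)⁻¹ • u, N.smul_mem _ (hUN hu), hUs _ (U.smul_mem _ hu), ?_⟩
  rw [opeqtysum_symm, map_smul, LinearMap.smul_apply, smul_eq_mul, inv_mul_cancel₀ hne]

/-- splitting off the hyperbolic plane `⟨v₁, w₀⟩` -/
theorem opeap2_split {F : Type*} [Field F] [Fintype F]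
    {V : Type*} [AddCommGroup V] [Module F V] [FiniteDimensional F V]
    (Q : QuadraticForm F V) (N : Submodule F V) (hN : SND (QuadraticMap.polarBilin Q) N) (a : ℕ) (ha : 1 ≤ a)
    (hdim : finrank F N = 2 * a) (hty : QTy Q N 1) (v₁ w₀ : V) (hv₁ : v₁ ∈ N) (hw₀ : w₀ ∈ N)
    (hQ1 : Q v₁ = 1) (hQ0 : Q w₀ = 0) (hB : QuadraticMap.polarBilin Q v₁ w₀ = 1) :
    ∃ N₀ : Submodule F V, N₀ ≤ N ∧ SND (QuadraticMap.polarBilin Q) N₀ ∧ finrank F N₀ = 2 * (a - 1) ∧ QTy Q N₀ 1 ∧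
      (∀ n ∈ N₀, QuadraticMap.polarBilin Q v₁ n = 0 ∧ QuadraticMap.polarBilin Q w₀ n = 0) ∧
      (∀ v ∈ N, ∃ α β : F, ∃ n ∈ N₀, v = α • v₁ + β • w₀ + n) := by
  classical
  have hsymm := opeqtysum_symm Q
  have hB' : QuadraticMap.polarBilin Q w₀ v₁ = 1 := by rw [hsymm]; exact hB
  have h11 : QuadraticMap.polarBilin Q v₁ v₁ = 2 := by
    rw [QuadraticMap.polarBilin_apply_apply, QuadraticMap.polar_self, hQ1]; simp
  have h00 : QuadraticMap.polarBilin Q w₀ w₀ = 0 := by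
    rw [QuadraticMap.polarBilin_apply_apply, QuadraticMap.polar_self, hQ0]; simp
  -- the plane
  have hli : LinearIndependent F ![v₁, w₀] := by
    rw [LinearIndependent.pair_iff]
    intro s t hst
    have e1 : QuadraticMap.polarBilin Q (s • v₁ + t • w₀) w₀ = 0 := by rw [hst]; simp
    have e2 : QuadraticMap.polarBilin Q (s • v₁ + t • w₀) v₁ = 0 := by rw [hst]; simp
    rw [map_add, map_smul, map_smul, LinearMap.add_apply, LinearMap.smul_apply, LinearMap.smul_apply, hB, h00,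
      smul_eq_mul, smul_eq_mul, mul_one, mul_zero, add_zero] at e1
    rw [map_add, map_smul, map_smul, LinearMap.add_apply, LinearMap.smul_apply, LinearMap.smul_apply, h11, hB',
      smul_eq_mul, smul_eq_mul, mul_one, e1, zero_mul, zero_add] at e2
    exact ⟨e1, e2⟩
  have hrange : Set.range ![v₁, w₀] = {v₁, w₀} := by
    rw [Matrix.range_cons, Matrix.range_cons, Matrix.range_empty, Set.union_empty]
    rfl
  have hP2 : finrank F (Submodule.span F ({v₁, w₀} : Set V)) = 2 := by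
    rw [← hrange, finrank_span_eq_card hli, Fintype.card_fin]
  have hPN : Submodule.span F ({v₁, w₀} : Set V) ≤ N := by
    rw [Submodule.span_le]
    intro x hx
    rcases hx with rfl | rfl
    · exact hv₁
    · exact hw₀
  have hPnd : SND (QuadraticMap.polarBilin Q) (Submodule.span F ({v₁, w₀} : Set V)) := by
    intro p hp hall
    obtain ⟨s, t, rfl⟩ := Submodule.mem_span_pair.mp hp
    have e1 := hall w₀ (Submodule.subset_span (by simp))
    have e2 := hall v₁ (Submodule.subset_span (by simp))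
    rw [map_add, map_smul, map_smul, LinearMap.add_apply, LinearMap.smul_apply, LinearMap.smul_apply, hB, h00,
      smul_eq_mul, smul_eq_mul, mul_one, mul_zero, add_zero] at e1
    rw [map_add, map_smul, map_smul, LinearMap.add_apply, LinearMap.smul_apply, LinearMap.smul_apply, h11, hB',
      smul_eq_mul, smul_eq_mul, mul_one, e1, zero_mul, zero_add] at e2
    rw [e1, e2, zero_smul, zero_smul, add_zero]
  have hw0ne : w₀ ≠ 0 := by
    intro h0
    rw [h0, map_zero] at hB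
    exact zero_ne_one hB
  have hPhyp : QHyp Q (Submodule.span F ({v₁, w₀} : Set V)) := by
    refine ⟨Submodule.span F {w₀}, ?_, ?_, ?_⟩
    · apply Submodule.span_mono
      intro x hx
      rw [Set.mem_singleton_iff] at hx
      rw [hx]; simp
    · intro u hu
      obtain ⟨c, rfl⟩ := Submodule.mem_span_singleton.mp hu
      rw [QuadraticMap.map_smul, hQ0, smul_zero]
    · rw [finrank_span_singleton hw0ne, hP2]
  have hPty : QTy Q (Submodule.span F ({v₁, w₀} : Set V)) 1 :=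
    ((qty_iff Q _ hPnd (by rw [hP2]; exact even_two)).1).mp hPhyp
  obtain ⟨hdisj, hsup, hN0nd, horth, hN0dim⟩ := Cfsg.Agent.Lib.Helper18.ONE.nd_perp_symm (QuadraticMap.polarBilin Q) hsymm N
    (Submodule.span F ({v₁, w₀} : Set V)) hN hPN hPnd
  have hN0d : finrank F ↥(N ⊓ LinearMap.BilinForm.orthogonal (QuadraticMap.polarBilin Q) (Submodule.span F ({v₁, w₀} : Set V))) = 2 * (a - 1) := by
    omega
  have hN0ev : Even (finrank F ↥(N ⊓ LinearMap.BilinForm.orthogonal (QuadraticMap.polarBilin Q) (Submodule.span F ({v₁, w₀} : Set V)))) := by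
    rw [hN0d]; exact even_two_mul _
  have hN0ty : QTy Q (N ⊓ LinearMap.BilinForm.orthogonal (QuadraticMap.polarBilin Q) (Submodule.span F ({v₁, w₀} : Set V))) 1 := by
    rcases (qty_iff Q _ hN0nd hN0ev).2.2 with h | h
    · exact h
    · exfalso
      have := qty_sum Q _ _ hPnd hN0nd horth (by rw [hP2]; exact even_two) hN0ev 1 (-1) hPty h
      rw [hsup, one_mul] at this
      exact qty_uniq Q N hty this
  refine ⟨_, inf_le_left, hN0nd, hN0d, hN0ty, ?_, ?_⟩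
  · intro n hn
    exact ⟨horth v₁ (Submodule.subset_span (by simp)) n hn, horth w₀ (Submodule.subset_span (by simp)) n hn⟩
  · intro v hv
    rw [← hsup] at hv
    obtain ⟨p, hp, n, hn, rfl⟩ := Submodule.mem_sup.mp hv
    obtain ⟨s, t, rfl⟩ := Submodule.mem_span_pair.mp hp
    exact ⟨s, t, n, hn, rfl⟩

/-- values of `Q` and of `B v₁ ·`, `B w₀ ·` on `α v₁ + β w₀ + n` -/
theorem opeap2_vals {F : Type*} [Field F] {V : Type*} [AddCommGroup V] [Module F V]
    (Q : QuadraticForm F V) (v₁ w₀ n : V) (hQ1 : Q v₁ = 1) (hQ0 : Q w₀ = 0) (hB : QuadraticMap.polarBilin Q v₁ w₀ = 1)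
    (h1 : QuadraticMap.polarBilin Q v₁ n = 0) (h0 : QuadraticMap.polarBilin Q w₀ n = 0) (α β : F) :
    Q (α • v₁ + β • w₀ + n) = α ^ 2 + α * β + Q n ∧
    QuadraticMap.polarBilin Q v₁ (α • v₁ + β • w₀ + n) = 2 * α + β ∧
    QuadraticMap.polarBilin Q w₀ (α • v₁ + β • w₀ + n) = α := by
  have hsymm := opeqtysum_symm Q
  have hB' : QuadraticMap.polarBilin Q w₀ v₁ = 1 := by rw [hsymm]; exact hB
  have h11 : QuadraticMap.polarBilin Q v₁ v₁ = 2 := by
    rw [QuadraticMap.polarBilin_apply_apply, QuadraticMap.polar_self, hQ1]; simp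
  have h00 : QuadraticMap.polarBilin Q w₀ w₀ = 0 := by
    rw [QuadraticMap.polarBilin_apply_apply, QuadraticMap.polar_self, hQ0]; simp
  refine ⟨?_, ?_, ?_⟩
  · have e1 : Q (α • v₁ + β • w₀ + n) = Q (α • v₁ + β • w₀) + Q n + QuadraticMap.polarBilin Q (α • v₁ + β • w₀) n := by
      rw [QuadraticMap.polarBilin_apply_apply]; unfold QuadraticMap.polar; ring
    have e2 : Q (α • v₁ + β • w₀) = Q (α • v₁) + Q (β • w₀) + QuadraticMap.polarBilin Q (α • v₁) (β • w₀) := by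
      rw [QuadraticMap.polarBilin_apply_apply]; unfold QuadraticMap.polar; ring
    rw [e1, e2, QuadraticMap.map_smul, QuadraticMap.map_smul, hQ1, hQ0]
    simp only [map_add, map_smul, LinearMap.add_apply, LinearMap.smul_apply, hB, h1, h0, smul_eq_mul]
    ring
  · simp only [map_add, map_smul, hB, h1, h11, smul_eq_mul]
    ring
  · simp only [map_add, map_smul, hB', h0, h00, smul_eq_mul]
    ring

/-- for a fixed `v₁`, the number of `v₂` -/
theorem opeap2_fiber {F : Type*} [Field F] [Fintype F]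
    {V : Type*} [AddCommGroup V] [Module F V] [FiniteDimensional F V]
    (Q : QuadraticForm F V) (N : Submodule F V) (hN : SND (QuadraticMap.polarBilin Q) N) (a : ℕ)
    (ha : 2 ≤ a) (hdim : finrank F N = 2 * a) (hty : QTy Q N 1) (ζ : F)
    (hζ : ∀ t : F, t ^ 2 + t + ζ ≠ 0) (v₁ : V) (hv₁ : v₁ ∈ N) (hQ1 : Q v₁ = 1) :
    (Nat.card {v₂ : V // v₂ ∈ N ∧ Q v₂ = ζ ∧ QuadraticMap.polarBilin Q v₁ v₂ = 1} : ℤ) =
      (Fintype.card F : ℤ) ^ (2 * (a - 1)) - (Fintype.card F : ℤ) ^ (a - 1) := by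
  classical
  have : Finite V := Module.finite_of_finite F
  obtain ⟨w₀, hw₀, hQ0, hB⟩ := opeap2_partner Q N hN (by rw [hdim]; exact even_two_mul a) hty v₁ hv₁
    (by rw [hQ1]; exact one_ne_zero)
  obtain ⟨N₀, hN₀N, hN₀nd, hN₀d, hN₀ty, hN₀o, hN₀s⟩ := opeap2_split Q N hN a (by omega) hdim hty v₁ w₀ hv₁ hw₀ hQ1 hQ0 hB
  -- the bijection
  let φ : (Σ α : F, {n : V // n ∈ N₀ ∧ Q n = ζ + α ^ 2 - α}) →
      {v₂ : V // v₂ ∈ N ∧ Q v₂ = ζ ∧ QuadraticMap.polarBilin Q v₁ v₂ = 1} := fun x =>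
    ⟨x.1 • v₁ + (1 - 2 * x.1) • w₀ + x.2.1, by
      obtain ⟨e1, e2, e3⟩ := opeap2_vals Q v₁ w₀ x.2.1 hQ1 hQ0 hB (hN₀o _ x.2.2.1).1 (hN₀o _ x.2.2.1).2 x.1 (1 - 2 * x.1)
      refine ⟨N.add_mem (N.add_mem (N.smul_mem _ hv₁) (N.smul_mem _ hw₀)) (hN₀N x.2.2.1), ?_, ?_⟩
      · rw [e1, x.2.2.2]; ring
      · rw [e2]; ring⟩
  have hφ : Function.Bijective φ := by
    constructor
    · rintro ⟨α, n, hn, hQn⟩ ⟨α', n', hn', hQn'⟩ h
      have h' : α • v₁ + (1 - 2 * α) • w₀ + n = α' • v₁ + (1 - 2 * α') • w₀ + n' := congrArg Subtype.val h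
      have e3 := (opeap2_vals Q v₁ w₀ n hQ1 hQ0 hB (hN₀o _ hn).1 (hN₀o _ hn).2 α (1 - 2 * α)).2.2
      have e3' := (opeap2_vals Q v₁ w₀ n' hQ1 hQ0 hB (hN₀o _ hn').1 (hN₀o _ hn').2 α' (1 - 2 * α')).2.2
      rw [h', e3'] at e3
      subst e3
      have : n = n' := add_left_cancel h'
      subst this
      rfl
    · rintro ⟨v₂, hv₂N, hv₂Q, hv₂B⟩
      obtain ⟨α, β, n, hn, rfl⟩ := hN₀s v₂ hv₂N
      obtain ⟨e1, e2, e3⟩ := opeap2_vals Q v₁ w₀ n hQ1 hQ0 hB (hN₀o _ hn).1 (hN₀o _ hn).2 α β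
      rw [e2] at hv₂B
      rw [e1] at hv₂Q
      have hβ : β = 1 - 2 * α := by linear_combination hv₂B
      subst hβ
      refine ⟨⟨α, n, hn, ?_⟩, rfl⟩
      linear_combination hv₂Q
  have hcard : Nat.card {v₂ : V // v₂ ∈ N ∧ Q v₂ = ζ ∧ QuadraticMap.polarBilin Q v₁ v₂ = 1} =
      ∑ α : F, Nat.card {n : V // n ∈ N₀ ∧ Q n = ζ + α ^ 2 - α} := by
    rw [← Nat.card_sigma]
    exact (Nat.card_congr (Equiv.ofBijective φ hφ)).symm
  have hq : (Fintype.card F : ℤ) ≠ 0 := by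
    have : 0 < Fintype.card F := Fintype.card_pos
    exact_mod_cast this.ne'
  have hval : ∀ α : F, (Fintype.card F : ℤ) * (Nat.card {n : V // n ∈ N₀ ∧ Q n = ζ + α ^ 2 - α} : ℤ) =
      (Fintype.card F : ℤ) ^ (2 * (a - 1)) - 1 * (Fintype.card F : ℤ) ^ (a - 1) := by
    intro α
    apply opeap2_value_count Q N₀ hN₀nd (a - 1) (by omega) hN₀d 1 hN₀ty
    have := hζ (-α)
    intro h0
    apply this
    linear_combination h0
  apply mul_left_cancel₀ hq
  rw [hcard, Nat.cast_sum, Finset.mul_sum, Finset.sum_congr rfl (fun α _ => hval α), Finset.sum_const, Finset.card_univ,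
    nsmul_eq_mul]
  ring

/-- AP2 [L]: the number of such pairs in a hyperbolic `2a`-space `N`, `a ≥ 2`.  `#{v₁ ∈ N : Q v₁ = 1} = q^(2a-1) - q^(a-1)` (`isType_N1` in coordinates).  For each such `v₁`: a singular `w₀ ∈ N` with `B v₁ w₀ = 1`
(`u` with `B v₁ u = 1`; `n ∈ N ⊓ ⟨v₁, u⟩^⊥` (nondegenerate, dimension `2a - 2 ≥ 2`) with `Q n = - Q u` (every value is represented: `cnt_const`, `isType_N1`); `w₀ = u + n`); `P₀ = ⟨v₁, w₀⟩` is a hyperbolic plane,
`N₀ = N ⊓ P₀^⊥` has dimension `2a - 2` and type `1` (QTYSUM, QTYUNIQ); `v₂ = α v₁ + β w₀ + n`: `2α + β = 1`, `Q n = ζ + α² - α ≠ 0` for every `α` (`t² - t + ζ` has no root), so `q · (q^(2a-3) - q^(a-2))` choices. -/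
theorem ap_pairs_total {F : Type*} [Field F] [Fintype F]
    {V : Type*} [AddCommGroup V] [Module F V] [FiniteDimensional F V]
    (Q : QuadraticForm F V) (N : Submodule F V) (hN : SND (QuadraticMap.polarBilin Q) N) (a : ℕ)
    (ha : 2 ≤ a) (hdim : finrank F N = 2 * a) (hty : QTy Q N 1) (ζ : F)
    (hζ : ∀ t : F, t ^ 2 + t + ζ ≠ 0) :
    Nat.card {v : V × V // v.1 ∈ N ∧ v.2 ∈ N ∧ Q v.1 = 1 ∧ Q v.2 = ζ ∧
      QuadraticMap.polarBilin Q v.1 v.2 = 1} =
      Fintype.card F ^ (2 * a - 2) * (Fintype.card F ^ a - 1) * (Fintype.card F ^ (a - 1) - 1) := by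
  classical
  have : Finite V := Module.finite_of_finite F
  have : Fintype {v₁ : V // v₁ ∈ N ∧ Q v₁ = 1} := Fintype.ofFinite _
  let ψ : {v : V × V // v.1 ∈ N ∧ v.2 ∈ N ∧ Q v.1 = 1 ∧ Q v.2 = ζ ∧ QuadraticMap.polarBilin Q v.1 v.2 = 1} ≃
      (Σ v₁ : {v₁ : V // v₁ ∈ N ∧ Q v₁ = 1}, {v₂ : V // v₂ ∈ N ∧ Q v₂ = ζ ∧ QuadraticMap.polarBilin Q v₁.1 v₂ = 1}) :=
    { toFun := fun v => ⟨⟨v.1.1, v.2.1, v.2.2.2.1⟩, ⟨v.1.2, v.2.2.1, v.2.2.2.2.1, v.2.2.2.2.2⟩⟩
      invFun := fun x => ⟨(x.1.1, x.2.1), x.1.2.1, x.2.2.1, x.1.2.2, x.2.2.2.1, x.2.2.2.2⟩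
      left_inv := fun v => rfl
      right_inv := fun x => rfl }
  have hq0 : 0 < Fintype.card F := Fintype.card_pos
  have hq : (Fintype.card F : ℤ) ≠ 0 := by exact_mod_cast hq0.ne'
  have hA := opeap2_value_count Q N hN a (by omega) hdim 1 hty 1 one_ne_zero
  have hcard : (Nat.card {v : V × V // v.1 ∈ N ∧ v.2 ∈ N ∧ Q v.1 = 1 ∧ Q v.2 = ζ ∧
      QuadraticMap.polarBilin Q v.1 v.2 = 1} : ℤ) =
      (Nat.card {v₁ : V // v₁ ∈ N ∧ Q v₁ = 1} : ℤ) *
        ((Fintype.card F : ℤ) ^ (2 * (a - 1)) - (Fintype.card F : ℤ) ^ (a - 1)) := by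
    rw [Nat.card_congr ψ, Nat.card_sigma, Nat.cast_sum,
      Finset.sum_congr rfl (fun v₁ _ => opeap2_fiber Q N hN a ha hdim hty ζ hζ v₁.1 v₁.2.1 v₁.2.2),
      Finset.sum_const, Finset.card_univ, nsmul_eq_mul, Nat.card_eq_fintype_card]
  obtain ⟨b, rfl⟩ : ∃ b, a = b + 2 := ⟨a - 2, by omega⟩
  have h1 : 1 ≤ Fintype.card F ^ (b + 2) := Nat.one_le_pow _ _ hq0
  have h2 : 1 ≤ Fintype.card F ^ (b + 2 - 1) := Nat.one_le_pow _ _ hq0
  have e1 : 2 * (b + 2) - 2 = 2 * b + 2 := by omega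
  have e2 : b + 2 - 1 = b + 1 := by omega
  rw [e2] at hcard h2
  rw [e1, e2]
  have : ((Nat.card {v : V × V // v.1 ∈ N ∧ v.2 ∈ N ∧ Q v.1 = 1 ∧ Q v.2 = ζ ∧
      QuadraticMap.polarBilin Q v.1 v.2 = 1} : ℕ) : ℤ) =
      ((Fintype.card F ^ (2 * b + 2) * (Fintype.card F ^ (b + 2) - 1) * (Fintype.card F ^ (b + 1) - 1) : ℕ) : ℤ) := by
    apply mul_left_cancel₀ hq
    rw [hcard, ← mul_assoc, hA]
    push_cast [Nat.cast_sub h1, Nat.cast_sub h2]
    ring
  exact_mod_cast this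

end Cfsg.Agent.Lib.Helper18.OPE
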