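import Mathlib
import Cfsg.Agent.Lib.Helper18.OPE.Defs2
import Cfsg.Agent.Lib.helper17.OPEQTYSUM
import Cfsg.Agent.Lib.helper17.OPEQTYCLASS
import Cfsg.Agent.Lib.helper17.OPEQCTXO
import Cfsg.Agent.Lib.Helper20.OTSFORMEX
import Cfsg.Agent.Lib.Helper11.OPEAP2

set_option autoImplicit false
set_option linter.unusedVariables false
set_option linter.unusedSectionVars false

/-!
# Project OPE (designer helper18), row AP3 (`ap_planes`), CORE: the number of anisotropic planes of a hyperbolic `2a`-space, with the statement of AP1 as hypothesis (helper11).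
-/

namespace Cfsg.Agent.Lib.Helper18.OPE

open Polynomial Module Cfsg.Agent.Lib.Helper13.S5955 Cfsg.Agent.Lib.helper15.S5972
open scoped Matrix

/-- the plane spanned by a pair `(v₁, v₂)` with `Q v₁ = 1`, `Q v₂ = ζ`, `B v₁ v₂ = 1` -/
theorem opeap3_plane {F : Type*} [Field F] [Fintype F]
    {V : Type*} [AddCommGroup V] [Module F V] [FiniteDimensional F V]
    (Q : QuadraticForm F V) (ζ : F) (hζ : ∀ t : F, t ^ 2 + t + ζ ≠ 0) (v₁ v₂ : V)
    (h1 : Q v₁ = 1) (h2 : Q v₂ = ζ) (hB : QuadraticMap.polarBilin Q v₁ v₂ = 1) :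
    SND (QuadraticMap.polarBilin Q) (Submodule.span F ({v₁, v₂} : Set V)) ∧
      finrank F (Submodule.span F ({v₁, v₂} : Set V)) = 2 ∧
      QTy Q (Submodule.span F ({v₁, v₂} : Set V)) (-1) := by
  classical
  have hsymm := opeqtysum_symm Q
  have hB' : QuadraticMap.polarBilin Q v₂ v₁ = 1 := by rw [hsymm]; exact hB
  have h11 : QuadraticMap.polarBilin Q v₁ v₁ = 2 := by
    rw [QuadraticMap.polarBilin_apply_apply, QuadraticMap.polar_self, h1]; simp
  have h22 : QuadraticMap.polarBilin Q v₂ v₂ = 2 * ζ := by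
    rw [QuadraticMap.polarBilin_apply_apply, QuadraticMap.polar_self, h2]; simp
  have hQst : ∀ s t : F, Q (s • v₁ + t • v₂) = s ^ 2 + 1 * s * t + ζ * t ^ 2 := by
    intro s t
    have e2 : Q (s • v₁ + t • v₂) = Q (s • v₁) + Q (t • v₂) + QuadraticMap.polarBilin Q (s • v₁) (t • v₂) := by
      rw [QuadraticMap.polarBilin_apply_apply]; unfold QuadraticMap.polar; ring
    rw [e2, QuadraticMap.map_smul, QuadraticMap.map_smul, h1, h2]
    simp only [map_smul, LinearMap.smul_apply, hB, smul_eq_mul]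
    ring
  have haniso : ∀ s t : F, Q (s • v₁ + t • v₂) = 0 → s = 0 ∧ t = 0 := by
    intro s t h
    rw [hQst] at h
    exact Cfsg.Agent.Lib.Helper13.OTS.otsformex_aniso ζ hζ s t h
  have hli : LinearIndependent F ![v₁, v₂] := by
    rw [LinearIndependent.pair_iff]
    intro s t hst
    apply haniso
    rw [hst, map_zero]
  have hrange : Set.range ![v₁, v₂] = {v₁, v₂} := by
    rw [Matrix.range_cons, Matrix.range_cons, Matrix.range_empty, Set.union_empty]
    rfl
  have hP2 : finrank F (Submodule.span F ({v₁, v₂} : Set V)) = 2 := by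
    rw [← hrange, finrank_span_eq_card hli, Fintype.card_fin]
  have h4 : (4 : F) * ζ - 1 ≠ 0 := by
    intro h4
    have h20 : (2 : F) ≠ 0 := by
      intro h20
      have : (4 : F) = 2 * 2 := by norm_num
      rw [this, h20, zero_mul, zero_mul, zero_sub] at h4
      exact one_ne_zero (neg_eq_zero.mp h4)
    apply hζ (-(2 : F)⁻¹)
    field_simp
    linear_combination h4
  have hPnd : SND (QuadraticMap.polarBilin Q) (Submodule.span F ({v₁, v₂} : Set V)) := by
    intro p hp hall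
    obtain ⟨s, t, rfl⟩ := Submodule.mem_span_pair.mp hp
    have e1 := hall v₁ (Submodule.subset_span (by simp))
    have e2 := hall v₂ (Submodule.subset_span (by simp))
    simp only [map_add, map_smul, LinearMap.add_apply, LinearMap.smul_apply, h11, hB, hB', h22, smul_eq_mul] at e1 e2
    have hs : s * (4 * ζ - 1) = 0 := by linear_combination 2 * ζ * e1 - e2
    have hs0 : s = 0 := by
      rcases mul_eq_zero.mp hs with h | h
      · exact h
      · exact absurd h h4
    have ht0 : t = 0 := by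
      rw [hs0] at e1
      linear_combination e1
    rw [hs0, ht0, zero_smul, zero_smul, add_zero]
  refine ⟨hPnd, hP2, ?_⟩
  apply ((qty_iff Q _ hPnd (by rw [hP2]; exact even_two)).2.1).mp
  rintro ⟨U, hUP, hUs, hUd⟩
  have hU1 : finrank F U = 1 := by omega
  have hUne : U ≠ ⊥ := by
    intro h
    rw [h, finrank_bot] at hU1
    omega
  obtain ⟨u, hu, hu0⟩ := Submodule.exists_mem_ne_zero_of_ne_bot hUne
  obtain ⟨s, t, rfl⟩ := Submodule.mem_span_pair.mp (hUP hu)
  obtain ⟨hs, ht⟩ := haniso s t (hUs _ hu)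
  apply hu0
  rw [hs, ht, zero_smul, zero_smul, add_zero]

/-- core of AP3: `hAP1` is the statement of AP1 (`ap_plane_pairs`) -/
theorem opeap3_core {F : Type*} [Field F] [Fintype F]
    {V : Type*} [AddCommGroup V] [Module F V] [FiniteDimensional F V]
    (Q : QuadraticForm F V) (N : Submodule F V) (hN : SND (QuadraticMap.polarBilin Q) N) (a : ℕ)
    (ha : 2 ≤ a) (hdim : finrank F N = 2 * a) (hty : QTy Q N 1)
    (hAP1 : ∀ P : Submodule F V, SND (QuadraticMap.polarBilin Q) P → finrank F P = 2 → QTy Q P (-1) →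
      ∀ ζ : F, (∀ t : F, t ^ 2 + t + ζ ≠ 0) →
      Nat.card {v : V × V // v.1 ∈ P ∧ v.2 ∈ P ∧ Q v.1 = 1 ∧ Q v.2 = ζ ∧
        QuadraticMap.polarBilin Q v.1 v.2 = 1} = 2 * (Fintype.card F + 1)) :
    2 * (Fintype.card F + 1) * Nat.card {P : Submodule F V // P ≤ N ∧
        SND (QuadraticMap.polarBilin Q) P ∧ finrank F P = 2 ∧ QTy Q P (-1)} =
      Fintype.card F ^ (2 * a - 2) * (Fintype.card F ^ a - 1) * (Fintype.card F ^ (a - 1) - 1) := by
  classical
  have : Finite V := Module.finite_of_finite F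
  have : Fintype {P : Submodule F V // P ≤ N ∧ SND (QuadraticMap.polarBilin Q) P ∧ finrank F P = 2 ∧ QTy Q P (-1)} :=
    Fintype.ofFinite _
  obtain ⟨ζ, hζ⟩ := Cfsg.Agent.Lib.Helper13.OTS.otsformex_irred (F := F)
  rw [← ap_pairs_total Q N hN a ha hdim hty ζ hζ]
  let g : (Σ P : {P : Submodule F V // P ≤ N ∧ SND (QuadraticMap.polarBilin Q) P ∧ finrank F P = 2 ∧ QTy Q P (-1)},
      {v : V × V // v.1 ∈ P.1 ∧ v.2 ∈ P.1 ∧ Q v.1 = 1 ∧ Q v.2 = ζ ∧ QuadraticMap.polarBilin Q v.1 v.2 = 1}) →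
      {v : V × V // v.1 ∈ N ∧ v.2 ∈ N ∧ Q v.1 = 1 ∧ Q v.2 = ζ ∧ QuadraticMap.polarBilin Q v.1 v.2 = 1} := fun x =>
    ⟨x.2.1, x.1.2.1 x.2.2.1, x.1.2.1 x.2.2.2.1, x.2.2.2.2.1, x.2.2.2.2.2.1, x.2.2.2.2.2.2⟩
  have hspan : ∀ (P : Submodule F V), finrank F P = 2 → ∀ v : V × V, v.1 ∈ P → v.2 ∈ P → Q v.1 = 1 → Q v.2 = ζ →
      QuadraticMap.polarBilin Q v.1 v.2 = 1 → P = Submodule.span F ({v.1, v.2} : Set V) := by
    intro P hP2 v h1 h2 hQ1 hQ2 hB
    symm
    apply Submodule.eq_of_le_of_finrank_eq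
    · rw [Submodule.span_le]
      intro x hx
      rcases hx with rfl | rfl
      · exact h1
      · exact h2
    · rw [(opeap3_plane Q ζ hζ v.1 v.2 hQ1 hQ2 hB).2.1, hP2]
  have hg : Function.Bijective g := by
    constructor
    · rintro ⟨⟨P, hP⟩, ⟨v, hv⟩⟩ ⟨⟨P', hP'⟩, ⟨v', hv'⟩⟩ h
      have hvv : v = v' := congrArg Subtype.val h
      subst hvv
      have e1 := hspan P hP.2.2.1 v hv.1 hv.2.1 hv.2.2.1 hv.2.2.2.1 hv.2.2.2.2
      have e2 := hspan P' hP'.2.2.1 v hv'.1 hv'.2.1 hv'.2.2.1 hv'.2.2.2.1 hv'.2.2.2.2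
      have hPP : P = P' := e1.trans e2.symm
      subst hPP
      rfl
    · rintro ⟨v, hv1, hv2, hQ1, hQ2, hB⟩
      obtain ⟨p1, p2, p3⟩ := opeap3_plane Q ζ hζ v.1 v.2 hQ1 hQ2 hB
      have hle : Submodule.span F ({v.1, v.2} : Set V) ≤ N := by
        rw [Submodule.span_le]
        intro x hx
        rcases hx with rfl | rfl
        · exact hv1
        · exact hv2
      exact ⟨⟨⟨Submodule.span F ({v.1, v.2} : Set V), hle, p1, p2, p3⟩,
        ⟨v, Submodule.subset_span (by simp), Submodule.subset_span (by simp), hQ1, hQ2, hB⟩⟩, rfl⟩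
  rw [← Nat.card_congr (Equiv.ofBijective g hg), Nat.card_sigma,
    Finset.sum_congr rfl (fun P _ => hAP1 P.1 P.2.2.1 P.2.2.2.1 P.2.2.2.2 ζ hζ), Finset.sum_const, Finset.card_univ,
    smul_eq_mul, Nat.card_eq_fintype_card, mul_comm]

end Cfsg.Agent.Lib.Helper18.OPE
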