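import Mathlib
import Cfsg.Agent.Lib.helper8.OME.Defs
import Cfsg.Agent.Lib.Helper11.OPEAP3core
import Cfsg.Agent.Lib.Helper26.OPEAP1

set_option autoImplicit false
set_option linter.unusedVariables false
set_option linter.unusedSectionVars false

/-!
# Project OME (S5990; designer helper8), row AP3M (`ap_planes_minus`), CORE: the type-free fibre lemma: in ANY subspace `N` the pairs `(v₁, v₂)` with `Q v₁ = 1`, `Q v₂ = ζ`,
`B v₁ v₂ = 1` number `2 (q + 1)` times the elliptic planes of `N` (helper11).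
-/

namespace Cfsg.Agent.Lib.helper8.OME

open Polynomial Module Cfsg.Agent.Lib.Helper13.S5955 Cfsg.Agent.Lib.helper15.S5972
  Cfsg.Agent.Lib.Helper18.OPE
open scoped Matrix

/-- fibre the pairs over their span -/
theorem omeap3m_fibre {F : Type*} [Field F] [Fintype F]
    {V : Type*} [AddCommGroup V] [Module F V] [FiniteDimensional F V]
    (Q : QuadraticForm F V) (N : Submodule F V) (ζ : F) (hζ : ∀ t : F, t ^ 2 + t + ζ ≠ 0) :
    Nat.card {v : V × V // v.1 ∈ N ∧ v.2 ∈ N ∧ Q v.1 = 1 ∧ Q v.2 = ζ ∧ QuadraticMap.polarBilin Q v.1 v.2 = 1} =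
    2 * (Fintype.card F + 1) * Nat.card {P : Submodule F V // P ≤ N ∧
        SND (QuadraticMap.polarBilin Q) P ∧ finrank F P = 2 ∧ QTy Q P (-1)} := by
  classical
  have : Finite V := Module.finite_of_finite F
  have : Fintype {P : Submodule F V // P ≤ N ∧ SND (QuadraticMap.polarBilin Q) P ∧ finrank F P = 2 ∧ QTy Q P (-1)} :=
    Fintype.ofFinite _
  let g : (Σ P : {P : Submodule F V // P ≤ N ∧ SND (QuadraticMap.polarBilin Q) P ∧ finrank F P = 2 ∧ QTy Q P (-1)},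
      {v : V × V // v.1 ∈ P.1 ∧ v.2 ∈ P.1 ∧ Q v.1 = 1 ∧ Q v.2 = ζ ∧ QuadraticMap.polarBilin Q v.1 v.2 = 1}) →
      {v : V × V // v.1 ∈ N ∧ v.2 ∈ N ∧ Q v.1 = 1 ∧ Q v.2 = ζ ∧ QuadraticMap.polarBilin Q v.1 v.2 = 1} := fun x =>
    ⟨x.2.1, x.1.2.1 x.2.2.1, x.1.2.1 x.2.2.2.1, x.2.2.2.2.1, x.2.2.2.2.2.1, x.2.2.2.2.2.2⟩
  have hspan : ∀ (P : Submodule F V), finrank F P = 2 → ∀ v : V × V, v.1 ∈ P → v.2 ∈ P → Q v.1 = 1 → Q v.2 = ζ →
      QuadraticMap.polarBilin Q v.1 v.2 = 1 → P = Submodule.span F ({v.1, v.2} : Set V) := by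
    intro P hP2 v h1 h2 hQ1 hQ2 hB
    symm
    apply Submodule.eq_of_le_of_finrank_eq
    · rw [Submodule.span_le]
      intro x hx
      rcases hx with rfl | rfl
      · exact h1
      · exact h2
    · rw [(opeap3_plane Q ζ hζ v.1 v.2 hQ1 hQ2 hB).2.1, hP2]
  have hg : Function.Bijective g := by
    constructor
    · rintro ⟨⟨P, hP⟩, ⟨v, hv⟩⟩ ⟨⟨P', hP'⟩, ⟨v', hv'⟩⟩ h
      have hvv : v = v' := congrArg Subtype.val h
      subst hvv
      have e1 := hspan P hP.2.2.1 v hv.1 hv.2.1 hv.2.2.1 hv.2.2.2.1 hv.2.2.2.2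
      have e2 := hspan P' hP'.2.2.1 v hv'.1 hv'.2.1 hv'.2.2.1 hv'.2.2.2.1 hv'.2.2.2.2
      have hPP : P = P' := e1.trans e2.symm
      subst hPP
      rfl
    · rintro ⟨v, hv1, hv2, hQ1, hQ2, hB⟩
      obtain ⟨p1, p2, p3⟩ := opeap3_plane Q ζ hζ v.1 v.2 hQ1 hQ2 hB
      have hle : Submodule.span F ({v.1, v.2} : Set V) ≤ N := by
        rw [Submodule.span_le]
        intro x hx
        rcases hx with rfl | rfl
        · exact hv1
        · exact hv2
      exact ⟨⟨⟨Submodule.span F ({v.1, v.2} : Set V), hle, p1, p2, p3⟩,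
        ⟨v, Submodule.subset_span (by simp), Submodule.subset_span (by simp), hQ1, hQ2, hB⟩⟩, rfl⟩
  rw [← Nat.card_congr (Equiv.ofBijective g hg), Nat.card_sigma,
    Finset.sum_congr rfl (fun P _ => ap_plane_pairs Q P.1 P.2.2.1 P.2.2.2.1 P.2.2.2.2 ζ hζ), Finset.sum_const, Finset.card_univ,
    smul_eq_mul, Nat.card_eq_fintype_card, mul_comm]

/-- core of AP3M: `hAP2M` = the statement of AP2M (`ap_pairs_total_minus`) for `N` -/
theorem omeap3m_core {F : Type*} [Field F] [Fintype F]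
    {V : Type*} [AddCommGroup V] [Module F V] [FiniteDimensional F V]
    (Q : QuadraticForm F V) (N : Submodule F V) (a : ℕ)
    (hAP2M : ∀ ζ : F, (∀ t : F, t ^ 2 + t + ζ ≠ 0) →
      Nat.card {v : V × V // v.1 ∈ N ∧ v.2 ∈ N ∧ Q v.1 = 1 ∧ Q v.2 = ζ ∧
        QuadraticMap.polarBilin Q v.1 v.2 = 1} =
        Fintype.card F ^ (2 * a - 2) * (Fintype.card F ^ a + 1) * (Fintype.card F ^ (a - 1) + 1)) :
    2 * (Fintype.card F + 1) * Nat.card {P : Submodule F V // P ≤ N ∧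
        SND (QuadraticMap.polarBilin Q) P ∧ finrank F P = 2 ∧ QTy Q P (-1)} =
      Fintype.card F ^ (2 * a - 2) * (Fintype.card F ^ a + 1) * (Fintype.card F ^ (a - 1) + 1) := by
  obtain ⟨ζ, hζ⟩ := Cfsg.Agent.Lib.Helper13.OTS.otsformex_irred (F := F)
  rw [← hAP2M ζ hζ, omeap3m_fibre Q N ζ hζ]

end Cfsg.Agent.Lib.helper8.OME
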