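import Mathlib
import Cfsg.Agent.Lib.helper8.OME.Defs
import Cfsg.Agent.Lib.Helper11.OMEAP3Mcore
import Cfsg.Agent.Lib.helper8.OMEAP2M

set_option autoImplicit false
set_option linter.unusedVariables false
set_option linter.unusedSectionVars false

/-!
# Project OME (S5990; designer helper8), row AP3M (`ap_planes_minus`): the number of elliptic planes of an elliptic `2a`-space (helper11).  Wrapper of `omeap3m_core` (AP2M + OPE AP1).
-/

namespace Cfsg.Agent.Lib.helper8.OME

open Polynomial Module Cfsg.Agent.Lib.Helper13.S5955 Cfsg.Agent.Lib.helper15.S5972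
  Cfsg.Agent.Lib.Helper18.OPE
open scoped Matrix

/-- AP3M [M-L] (twin of OPE `ap_planes`, Helper11/OPEAP3.lean + OPEAP3core.lean): the number of elliptic planes of an elliptic `2a`-space: fibre the pairs of AP2M over their span; OPE `ap_plane_pairs` (AP1, Helper26/OPEAP1.lean). -/
theorem ap_planes_minus {F : Type*} [Field F] [Fintype F]
    {V : Type*} [AddCommGroup V] [Module F V] [FiniteDimensional F V]
    (Q : QuadraticForm F V) (N : Submodule F V) (hN : SND (QuadraticMap.polarBilin Q) N) (a : ℕ)
    (ha : 2 ≤ a) (hdim : finrank F N = 2 * a) (hty : QTy Q N (-1)) :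
    2 * (Fintype.card F + 1) * Nat.card {P : Submodule F V // P ≤ N ∧
        SND (QuadraticMap.polarBilin Q) P ∧ finrank F P = 2 ∧ QTy Q P (-1)} =
      Fintype.card F ^ (2 * a - 2) * (Fintype.card F ^ a + 1) * (Fintype.card F ^ (a - 1) + 1) :=
  omeap3m_core Q N a (fun ζ hζ => ap_pairs_total_minus Q N hN a ha hdim hty ζ hζ)

end Cfsg.Agent.Lib.helper8.OME
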