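import Mathlib
import Cfsg.Agent.Lib.Helper12.OMN.Defs
import Cfsg.Agent.Lib.Helper11.OMNV0

/-!
# Project OMN (designer helper12; matrix side of S2099), row C3 CORE (helper11): a central element of `Ω⁻_{2m+2}(F)` has matrix `1` or `-1`,
from the STATEMENTS of C2 (`scalar_of_commM`) and G8 + block M (the root elements are elements of `Ω`).  Port of `Helper22.OMBC3core`.
-/

set_option autoImplicit false

namespace Cfsg.Agent.Lib.Helper12.OMN

open Matrix Cfsg.Agent.Lib.helper3.STC Cfsg.Agent.Lib.Lead.STD Cfsg.Agent.Lib.helper17.STM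

universe u w

section C

variable {m : ℕ} {F : Type u} [Field F] {A B : F}

/-- `Q (e_{z₁}) = 1`. -/
theorem omnc3_Q_z1 : Cfsg.quadFormMinus m F A B (Pi.single iz1 1 : Im (Fin m) → F) = 1 := by
  unfold Cfsg.quadFormMinus
  have h0 : (Pi.single iz1 1 : Im (Fin m) → F) (Sum.inr 0) = 1 := by
    simp [iz1]
  have h2 : (Pi.single iz1 1 : Im (Fin m) → F) (Sum.inr 1) = 0 := by
    simp [iz1]
  have h1 : ∀ i : Fin m, (Pi.single iz1 1 : Im (Fin m) → F) (Sum.inl (Sum.inl i)) = 0 := by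
    intro i
    simp [iz1]
  rw [h0, h2, Finset.sum_eq_zero (fun i _ => by rw [h1 i, zero_mul])]
  ring

/-- a central element of `Ω` commutes (as a matrix) with every matrix of an element of `omegaGL`. -/
theorem omnc3_comm (z : ↥(Cfsg.Omega F (Cfsg.quadFormMinus m F A B)))
    (hz : z ∈ Subgroup.center ↥(Cfsg.Omega F (Cfsg.quadFormMinus m F A B)))
    (M : Matrix.GeneralLinearGroup (Im (Fin m)) F) (hM : M ∈ Cfsg.Geo.omegaGL (Cfsg.quadFormMinus m F A B)) :
    omatM z * (M : Matrix (Im (Fin m)) (Im (Fin m)) F) = (M : Matrix (Im (Fin m)) (Im (Fin m)) F) * omatM z := by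
  unfold Cfsg.Geo.omegaGL at hM
  obtain ⟨x, hx, hxT⟩ := hM
  have hc := Subgroup.mem_center_iff.mp hz ⟨x, hx⟩
  have hc' := congrArg omatM hc
  rw [omatM_mul, omatM_mul] at hc'
  have hxm : omatM ⟨x, hx⟩ = (M : Matrix (Im (Fin m)) (Im (Fin m)) F) := by
    rw [← hxT]
    rfl
  rw [hxm] at hc'
  exact hc'.symm

/-- C3 core. -/
theorem omnc3_core
    (hsc : ∀ M : Matrix (Im (Fin m)) (Im (Fin m)) F,
      (∀ a b : Fin m ⊕ Fin m, a ≠ b → a ≠ ng b → M * TmL a b 1 = TmL a b 1 * M) →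
      (∀ (a : Fin m ⊕ Fin m) (u : Kq F A B), M * TmS a u = TmS a u * M) →
      M = M iz1 iz1 • (1 : Matrix (Im (Fin m)) (Im (Fin m)) F))
    (hL : ∀ a b : Fin m ⊕ Fin m, a ≠ b → a ≠ ng b →
      ∃ M : Matrix.GeneralLinearGroup (Im (Fin m)) F,
        (M : Matrix (Im (Fin m)) (Im (Fin m)) F) = TmL a b 1 ∧ M ∈ Cfsg.Geo.omegaGL (Cfsg.quadFormMinus m F A B))
    (hS : ∀ (a : Fin m ⊕ Fin m) (u : Kq F A B),
      ∃ M : Matrix.GeneralLinearGroup (Im (Fin m)) F,
        (M : Matrix (Im (Fin m)) (Im (Fin m)) F) = TmS a u ∧ M ∈ Cfsg.Geo.omegaGL (Cfsg.quadFormMinus m F A B))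
    (z : ↥(Cfsg.Omega F (Cfsg.quadFormMinus m F A B)))
    (hz : z ∈ Subgroup.center ↥(Cfsg.Omega F (Cfsg.quadFormMinus m F A B))) :
    omatM z = 1 ∨ omatM z = -1 := by
  set M : Matrix (Im (Fin m)) (Im (Fin m)) F := omatM z with hMdef
  have hsc' : M = M iz1 iz1 • (1 : Matrix (Im (Fin m)) (Im (Fin m)) F) := by
    apply hsc
    · intro a b hab hab'
      obtain ⟨N, hN, hNm⟩ := hL a b hab hab'
      rw [← hN]
      exact omnc3_comm z hz N hNm
    · intro a u
      obtain ⟨N, hN, hNm⟩ := hS a u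
      rw [← hN]
      exact omnc3_comm z hz N hNm
  set lam : F := M iz1 iz1 with hlam
  have hiso : Cfsg.quadFormMinus m F A B (M *ᵥ (Pi.single iz1 1 : Im (Fin m) → F)) =
      Cfsg.quadFormMinus m F A B (Pi.single iz1 1 : Im (Fin m) → F) :=
    (z : ↥(Cfsg.isometryGroup F (Cfsg.quadFormMinus m F A B))).2 (Pi.single iz1 1) 0
  have hmv : M *ᵥ (Pi.single iz1 1 : Im (Fin m) → F) = lam • (Pi.single iz1 1 : Im (Fin m) → F) := by
    rw [hsc', Matrix.smul_mulVec, Matrix.one_mulVec]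
  rw [hmv, QM_smul, omnc3_Q_z1, mul_one] at hiso
  have hl : lam = 1 ∨ lam = -1 := by
    have : (lam - 1) * (lam + 1) = 0 := by linear_combination hiso
    rcases mul_eq_zero.mp this with h | h
    · left; linear_combination h
    · right; linear_combination h
  rcases hl with h | h
  · left
    rw [hsc', h, one_smul]
  · right
    rw [hsc', h, neg_one_smul]

end C

end Cfsg.Agent.Lib.Helper12.OMN
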