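import Mathlib
import Cfsg.Agent.Lib.Helper12.OMN.Defs
import Cfsg.Agent.Lib.Lead.SPN.Defs
import Cfsg.Agent.Lib.Helper28.CTDM1f
import Cfsg.Agent.Lib.Helper28.OMMO10

/-!
# Project OMN (designer helper12; matrix side of S2099), row G10 CORE (helper11): `omng10_core` = the conclusion of G10 `omega_eq_closureM`
with the statement of G9 `omegaGL_eq_EOM` as hypothesis `H_a`.  Port of helper23's `ombg10_core`.
-/

set_option autoImplicit false

namespace Cfsg.Agent.Lib.Helper12.OMN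

open Matrix Cfsg.Agent.Lib.helper15.St2 Cfsg.Agent.Lib.helper3.STC Cfsg.Agent.Lib.Lead.STD Cfsg.Agent.Lib.helper17.STM
  Cfsg.Agent.Lib.Lead.SPN Cfsg.Agent.Lib.Helper28.CTD Cfsg.Agent.Lib.Helper28.OMM

universe u w

section G

variable {m : ℕ} {F : Type u} [Field F] {A B : F}

theorem omng10_core (H_a : Cfsg.Geo.omegaGL (Cfsg.quadFormMinus m F A B) = EOM m F A B) :
    Cfsg.Omega F (Cfsg.quadFormMinus m F A B) =
      Subgroup.closure {g : ↥(Cfsg.isometryGroup F (Cfsg.quadFormMinus m F A B)) |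
        (∃ (a b : Fin m ⊕ Fin m) (t : F), a ≠ b ∧ a ≠ ng b ∧
          ((g : Matrix.GeneralLinearGroup (Im (Fin m)) F) : Matrix (Im (Fin m)) (Im (Fin m)) F) = TmL a b t) ∨
        ∃ (a : Fin m ⊕ Fin m) (u : Kq F A B),
          ((g : Matrix.GeneralLinearGroup (Im (Fin m)) F) : Matrix (Im (Fin m)) (Im (Fin m)) F) = TmS a u} := by
  have hinj : Function.Injective (Cfsg.isometryGroup F (Cfsg.quadFormMinus m F A B)).subtype :=
    Subgroup.subtype_injective _
  apply Subgroup.map_injective hinj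
  show Cfsg.Geo.omegaGL (Cfsg.quadFormMinus m F A B) = _
  rw [H_a, MonoidHom.map_closure]
  unfold EOM
  congr 1
  ext M
  have hmem : ∀ M : Matrix.GeneralLinearGroup (Im (Fin m)) F, M ∈ EOM m F A B →
      M ∈ Cfsg.isometryGroup F (Cfsg.quadFormMinus m F A B) := by
    intro M h1
    rw [← H_a] at h1
    obtain ⟨g, -, rfl⟩ := h1
    exact g.2
  constructor
  · rintro (⟨a, b, t, hab, hab', hM⟩ | ⟨a, u, hM⟩)
    · exact ⟨⟨M, hmem M (Subgroup.subset_closure (Or.inl ⟨a, b, t, hab, hab', hM⟩))⟩,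
        Or.inl ⟨a, b, t, hab, hab', hM⟩, rfl⟩
    · exact ⟨⟨M, hmem M (Subgroup.subset_closure (Or.inr ⟨a, u, hM⟩))⟩, Or.inr ⟨a, u, hM⟩, rfl⟩
  · rintro ⟨g, (⟨a, b, t, hab, hab', hM⟩ | ⟨a, u, hM⟩), rfl⟩
    · exact Or.inl ⟨a, b, t, hab, hab', hM⟩
    · exact Or.inr ⟨a, u, hM⟩

end G

end Cfsg.Agent.Lib.Helper12.OMN
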