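import Mathlib
import Cfsg.Agent.Lib.Helper12.OMN.Defs
import Cfsg.Agent.Lib.Helper12.OMN.Mat
import Cfsg.Agent.Lib.Helper11.OMNG10core
import Cfsg.Agent.Lib.Helper11.OMNC3core
import Cfsg.Agent.Lib.Helper1.OMNG9
import Cfsg.Agent.Lib.helper4.OMNG8
import Cfsg.Agent.Lib.Helper22.OMNC1

/-!
# Project OMN (designer helper12; matrix side of S2099), rows G10 (`omega_eq_closureM`) and C3 (`center_cases`), VERBATIM vs `Helper12/OMN/Skel.lean.txt`.  Writer: helper11.
Wrappers of `omng10_core` on G9 `omegaGL_eq_EOM` (helper1) and of `omnc3_core` on C2 `scalar_of_commM` (helper22), G8 `TmL_mem_omegaGL` / `TmS_mem_omegaGL` (helper4) and block M `tmL`, `tmS` (helper12).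
-/

set_option autoImplicit false

namespace Cfsg.Agent.Lib.Helper12.OMN

open Matrix Cfsg.Agent.Lib.helper15.St2 Cfsg.Agent.Lib.helper3.STC Cfsg.Agent.Lib.Lead.STD Cfsg.Agent.Lib.helper17.STM

universe u w

section G

variable {m : ℕ} {F : Type u} [Field F] {A B : F}

/-- G10 [S]  **(N-d)** the same inside the isometry group.  Model `helper23` OMB G10. -/
theorem omega_eq_closureM [Fintype F] [Fact (∀ r : F, r ^ 2 ≠ -B + A * r)] (hm : 3 ≤ m) :
    Cfsg.Omega F (Cfsg.quadFormMinus m F A B) =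
      Subgroup.closure {g : ↥(Cfsg.isometryGroup F (Cfsg.quadFormMinus m F A B)) |
        (∃ (a b : Fin m ⊕ Fin m) (t : F), a ≠ b ∧ a ≠ ng b ∧
          ((g : Matrix.GeneralLinearGroup (Im (Fin m)) F) : Matrix (Im (Fin m)) (Im (Fin m)) F) = TmL a b t) ∨
        ∃ (a : Fin m ⊕ Fin m) (u : Kq F A B),
          ((g : Matrix.GeneralLinearGroup (Im (Fin m)) F) : Matrix (Im (Fin m)) (Im (Fin m)) F) = TmS a u} :=
  omng10_core (omegaGL_eq_EOM hm)

end G

section C

variable {m : ℕ} {F : Type u} [Field F] {A B : F}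

/-- C3 [M]  **(N-c)**  model `Helper22.OMBC3core` / `Lead.POM.pom_center_cases`: `omatM z` commutes with `TmL a b 1`, `TmS a u` (elements of `Ω` by G8), so `omatM z = λ • 1` (`scalar_of_commM`);
the isometry condition at `e_a + e_{-a}` (`Q = 1`) gives `λ² = 1`. -/
theorem center_cases [Fact (∀ r : F, r ^ 2 ≠ -B + A * r)] (hm : 3 ≤ m) (z : ↥(Cfsg.Omega F (Cfsg.quadFormMinus m F A B)))
    (hz : z ∈ Subgroup.center ↥(Cfsg.Omega F (Cfsg.quadFormMinus m F A B))) :
    omatM z = 1 ∨ omatM z = -1 :=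
  omnc3_core (fun M hL hS => scalar_of_commM hm M hL hS)
    (fun a b hab hab' => ⟨tmL a b 1, tmL_coe hab hab' 1, TmL_mem_omegaGL hm hab hab' 1 _ (tmL_coe hab hab' 1)⟩)
    (fun a u => ⟨tmS a u, tmS_coe a u, TmS_mem_omegaGL hm a u _ (tmS_coe a u)⟩) z hz

end C

end Cfsg.Agent.Lib.Helper12.OMN
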