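import Mathlib

/-!
# OMO row COMBODD (helper11): `omo_comb_odd` (pure multiset combinatorics)
-/

set_option autoImplicit false

namespace Cfsg.Agent.Lib.Helper1.OMO

/-- the sum of a multiset with at most two distinct values -/
theorem omocombodd_sum_two (ν : Multiset ℕ) (a b : ℕ) (hab : a ≠ b)
    (h : ∀ e ∈ ν, e = a ∨ e = b) : ν.sum = ν.count a * a + ν.count b * b := by
  induction ν using Multiset.induction_on with
  | empty => simp
  | cons x ν ih =>
    have ih' := ih (fun e he => h e (Multiset.mem_cons_of_mem he))
    rw [Multiset.sum_cons, ih', Multiset.count_cons, Multiset.count_cons]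
    rcases h x (Multiset.mem_cons_self x ν) with rfl | rfl
    · rw [if_pos rfl, if_neg (Ne.symm hab)]
      ring
    · rw [if_neg hab, if_pos rfl]
      ring

theorem omo_comb_odd (p d m : ℕ) (hp : 3 ≤ p) (hd : 1 ≤ d) (hme : Even m)
    (h : ∀ μ : Multiset ℕ, (∀ e ∈ μ, 0 < e ∧ e ≤ p) → (∀ e : ℕ, Even e → Even (μ.count e)) → μ.sum = 2 * d + 1 →
      ∃ ν : Multiset ℕ, ν ≤ μ ∧ ν.sum = m ∧ ∀ e : ℕ, Even e → Even (ν.count e)) : m % 4 = 0 := by
  rcases Nat.even_or_odd d with hde | hdo
  · -- `μ = 2^d, 1`
    obtain ⟨ν, hνle, hνsum, hνe⟩ := h (Multiset.replicate d 2 + {1})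
      (by
        intro e he
        rcases Multiset.mem_add.mp he with he | he
        · rw [Multiset.eq_of_mem_replicate he]; omega
        · rw [Multiset.mem_singleton.mp he]; omega)
      (by
        intro e hee
        rw [Multiset.count_add, Multiset.count_replicate, Multiset.count_singleton]
        have h1 : e ≠ 1 := by
          rintro rfl
          exact absurd hee (by decide)
        rw [if_neg h1, add_zero]
        split_ifs
        · exact hde
        · exact Even.zero)
      (by
        rw [Multiset.sum_add, Multiset.sum_replicate, Multiset.sum_singleton, smul_eq_mul]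
        ring)
    have hmem : ∀ e ∈ ν, e = 2 ∨ e = 1 := by
      intro e he
      rcases Multiset.mem_add.mp (Multiset.mem_of_le hνle he) with he | he
      · exact Or.inl (Multiset.eq_of_mem_replicate he)
      · exact Or.inr (Multiset.mem_singleton.mp he)
    have hsum := omocombodd_sum_two ν 2 1 (by decide) hmem
    have hc1 : ν.count 1 ≤ 1 := by
      have := Multiset.count_le_of_le 1 hνle
      rw [Multiset.count_add, Multiset.count_replicate, Multiset.count_singleton] at this
      simpa using this
    obtain ⟨c', hc'⟩ := hνe 2 (by decide)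
    obtain ⟨m', hm'⟩ := hme
    omega
  · -- `μ = 3, 2^(d-1)`
    obtain ⟨ν, hνle, hνsum, hνe⟩ := h ({3} + Multiset.replicate (d - 1) 2)
      (by
        intro e he
        rcases Multiset.mem_add.mp he with he | he
        · rw [Multiset.mem_singleton.mp he]; omega
        · rw [Multiset.eq_of_mem_replicate he]; omega)
      (by
        intro e hee
        rw [Multiset.count_add, Multiset.count_replicate, Multiset.count_singleton]
        have h1 : e ≠ 3 := by
          rintro rfl
          exact absurd hee (by decide)
        rw [if_neg h1, zero_add]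
        split_ifs
        · obtain ⟨k, hk⟩ := hdo
          exact ⟨k, by omega⟩
        · exact Even.zero)
      (by
        rw [Multiset.sum_add, Multiset.sum_replicate, Multiset.sum_singleton, smul_eq_mul]
        omega)
    have hmem : ∀ e ∈ ν, e = 2 ∨ e = 3 := by
      intro e he
      rcases Multiset.mem_add.mp (Multiset.mem_of_le hνle he) with he | he
      · exact Or.inr (Multiset.mem_singleton.mp he)
      · exact Or.inl (Multiset.eq_of_mem_replicate he)
    have hsum := omocombodd_sum_two ν 2 3 (by decide) hmem
    have hc1 : ν.count 3 ≤ 1 := by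
      have := Multiset.count_le_of_le 3 hνle
      rw [Multiset.count_add, Multiset.count_replicate, Multiset.count_singleton] at this
      simpa using this
    obtain ⟨c', hc'⟩ := hνe 2 (by decide)
    obtain ⟨m', hm'⟩ := hme
    omega

end Cfsg.Agent.Lib.Helper1.OMO
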