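import Mathlib
import Cfsg.Agent.Lib.Helper18.ONE.Defs
import Cfsg.Agent.Lib.Lead.ONENDTSTDcore
import Cfsg.Agent.Lib.Helper18.ONETYCLASS
import Cfsg.Agent.Lib.helper15.S5972STDCTX

set_option autoImplicit false
set_option linter.unusedVariables false
set_option linter.unusedSectionVars false

/-!
# Project ONE (designer helper18), rows SUFFSTD / TWOSTD : the common CORE (helper11)

`onestd_core` : from `NDt (stdO d F) (toLin' x) m s` (the conclusion of SUFFABS resp. INVOL) to the frozen matrix form.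
Also the small facts `onestd_two_ne`, `onestd_p_ne_two`, `onestd_finrank`, `onestd_fty_iff` (= NDTSTD `fty_iff`, from lead's core + TYCLASS).
-/

namespace Cfsg.Agent.Lib.Helper18.ONE

open Polynomial Module Cfsg.Agent.Lib.Helper13.S5955 Cfsg.Agent.Lib.helper15.S5972

/-- `2 ≠ 0` in a finite field of odd order -/
theorem onestd_two_ne {F : Type*} [Field F] [Fintype F] (hodd : Odd (Fintype.card F)) : (2 : F) ≠ 0 := by
  intro h
  have h1 : ringChar F = 2 := CharP.ringChar_of_prime_eq_zero Nat.prime_two (by exact_mod_cast h)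
  have h2 := FiniteField.even_card_of_char_two h1
  rw [Nat.odd_iff] at hodd
  omega

/-- the characteristic of a finite field of odd order is not `2` -/
theorem onestd_p_ne_two {F : Type*} [Field F] [Fintype F] {p : ℕ} [CharP F p]
    (hodd : Odd (Fintype.card F)) : p ≠ 2 := by
  rintro rfl
  apply onestd_two_ne hodd
  have := CharP.cast_eq_zero F 2
  exact_mod_cast this

/-- the dimension of the standard space -/
theorem onestd_finrank {F : Type*} [Field F] (d : ℕ) :
    finrank F (Unit ⊕ (Fin d ⊕ Fin d) → F) = 2 * d + 1 := by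
  rw [Module.finrank_fintype_fun_eq_card]
  simp
  ring

/-- NDTSTD (`fty_iff`) from lead's core and TYCLASS -/
theorem onestd_fty_iff {F : Type*} [Field F] [Fintype F] (h2 : (2 : F) ≠ 0) (d : ℕ)
    (W : Submodule F (Unit ⊕ (Fin d ⊕ Fin d) → F)) (hW : SND (stdO d F) W)
    (hev : Even (finrank F W)) (s : ℤ) (hs : s = 1 ∨ s = -1) :
    FTy d s W ↔ OTy (stdO d F) W s :=
  onendtstd_core h2 d W s hs (ty_class h2 (stdO d F) (stdO_facts h2 d).1 W hW hev)

/-- the common core of SUFFSTD and TWOSTD -/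
theorem onestd_core {F : Type*} [Field F] [Fintype F] (h2 : (2 : F) ≠ 0) (d m : ℕ) (hme : Even m)
    (s : ℤ) (hs : s = 1 ∨ s = -1) (y : Module.End F (Unit ⊕ (Fin d ⊕ Fin d) → F))
    (hnd : NDt (stdO d F) y m s) :
    ∃ W : Submodule F (Unit ⊕ (Fin d ⊕ Fin d) → F), Module.finrank F ↥W = m ∧
      Cfsg.Geo.IsNondegenerateOn (QuadraticMap.polar (Cfsg.quadFormOdd d F)) W ∧ FTy d s W ∧
      W.map y ≤ W := by
  obtain ⟨W, hinv, hW, hdim, hty⟩ := hnd
  refine ⟨W, hdim, (frozen_iff h2 d W).1.2 hW, ?_, ?_⟩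
  · exact (onestd_fty_iff h2 d W hW (hdim ▸ hme) s hs).2 hty
  · rintro _ ⟨w, hw, rfl⟩
    exact hinv w hw

end Cfsg.Agent.Lib.Helper18.ONE
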