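import Mathlib
import Cfsg.Agent.Lib.Helper11.ONESTDcore
import Cfsg.Agent.Lib.Helper18.ONESUFFABS

set_option autoImplicit false
set_option linter.unusedVariables false
set_option linter.unusedSectionVars false

/-!
# Project ONE (designer helper18), row SUFFSTD (`one_suff_std`), verbatim from `Helper18/ONE/Skel.lean.txt`.
-/

namespace Cfsg.Agent.Lib.Helper18.ONE

open Polynomial Module Cfsg.Agent.Lib.Helper13.S5955 Cfsg.Agent.Lib.helper15.S5972

/-- SUFFSTD [M]: helper15's `omegaGL_le` + `std_octx` (with `x ^ r = 1` from `orderOf x = r`), SUFFABS (`finrank = 2d + 1`), FROZEN, NDTSTD;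
`SInv (toLin' x) W` is `W.map (toLin' x) ≤ W`. -/
theorem one_suff_std {F : Type*} [Field F] [Fintype F] {p : ℕ} [Fact p.Prime] [CharP F p]
    (hodd : Odd (Fintype.card F)) (d m : ℕ) (hd : 3 ≤ d) (hm : 2 ≤ m) (hme : Even m)
    (hmd : m ≤ 2 * d) (r : ℕ) [Fact r.Prime] (hrp : r ≠ p) (hr2 : r ≠ 2) (i c : ℕ)
    (hi : i = orderOf ((Fintype.card F : ℕ) : ZMod r)) (hc : c = if Even i then i else 2 * i)
    (s : ℤ) (hs : s = 1 ∨ s = -1) (hUC : UC i c d m s)
    (x : GL (Unit ⊕ (Fin d ⊕ Fin d)) F) (hx : x ∈ Cfsg.Geo.omegaGL (Cfsg.quadFormOdd d F))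
    (hxr : orderOf x = r) :
    ∃ W : Submodule F (Unit ⊕ (Fin d ⊕ Fin d) → F), Module.finrank F ↥W = m ∧
      Cfsg.Geo.IsNondegenerateOn (QuadraticMap.polar (Cfsg.quadFormOdd d F)) W ∧ FTy d s W ∧
      W.map (Matrix.toLin' (x : Matrix (Unit ⊕ (Fin d ⊕ Fin d)) (Unit ⊕ (Fin d ⊕ Fin d)) F)) ≤ W := by
  have h2 := onestd_two_ne hodd
  have hxr' : x ^ r = 1 := hxr ▸ pow_orderOf_eq_one x
  have hctx := std_octx h2 d r x (omegaGL_le d x hx) hxr'
  exact onestd_core h2 d m hme s hs _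
    (one_suff_abs (p := p) h2 hrp hr2 hctx d m (onestd_finrank d) hm hme hmd i c hi hc s hs hUC)

end Cfsg.Agent.Lib.Helper18.ONE
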