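import Mathlib
import Cfsg.Agent.Lib.Helper11.ONESTDcore
import Cfsg.Agent.Lib.helper17.ONEINVOL

set_option autoImplicit false
set_option linter.unusedVariables false
set_option linter.unusedSectionVars false

/-!
# Project ONE (designer helper18), row TWOSTD (`one_two_std`), verbatim from `Helper18/ONE/Skel.lean.txt`.
-/

namespace Cfsg.Agent.Lib.Helper18.ONE

open Polynomial Module Cfsg.Agent.Lib.Helper13.S5955 Cfsg.Agent.Lib.helper15.S5972

/-- TWOSTD [M]: `r = 2`: `std_octx` + INVOL + FROZEN + NDTSTD. -/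
theorem one_two_std {F : Type*} [Field F] [Fintype F] {p : ℕ} [Fact p.Prime] [CharP F p]
    (hodd : Odd (Fintype.card F)) (d m : ℕ) (hd : 3 ≤ d) (hm : 2 ≤ m) (hme : Even m)
    (hmd : m ≤ 2 * d) (s : ℤ) (hs : s = 1 ∨ s = -1)
    (x : GL (Unit ⊕ (Fin d ⊕ Fin d)) F) (hx : x ∈ Cfsg.Geo.omegaGL (Cfsg.quadFormOdd d F))
    (hxr : orderOf x = 2) :
    ∃ W : Submodule F (Unit ⊕ (Fin d ⊕ Fin d) → F), Module.finrank F ↥W = m ∧
      Cfsg.Geo.IsNondegenerateOn (QuadraticMap.polar (Cfsg.quadFormOdd d F)) W ∧ FTy d s W ∧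
      W.map (Matrix.toLin' (x : Matrix (Unit ⊕ (Fin d ⊕ Fin d)) (Unit ⊕ (Fin d ⊕ Fin d)) F)) ≤ W := by
  have h2 := onestd_two_ne hodd
  have hxr' : x ^ 2 = 1 := hxr ▸ pow_orderOf_eq_one x
  have hctx := std_octx h2 d 2 x (omegaGL_le d x hx) hxr'
  exact onestd_core h2 d m hme s hs _
    (one_invol (p := p) (onestd_p_ne_two hodd) hctx d m (onestd_finrank d) (by omega) hm hme hmd s hs)

end Cfsg.Agent.Lib.Helper18.ONE
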