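import Mathlib
import Cfsg.Agent.Lib.Helper18.OPE.Defs2
import Cfsg.Agent.Lib.Helper11.OPEAP3core
import Cfsg.Agent.Lib.Helper26.OPEAP1

set_option autoImplicit false
set_option linter.unusedVariables false
set_option linter.unusedSectionVars false

/-!
# Project OPE (designer helper18), row AP3 (`ap_planes`): the number of anisotropic planes of a hyperbolic `2a`-space (helper11).  Wrapper of `opeap3_core` (AP1 + AP2).
-/

namespace Cfsg.Agent.Lib.Helper18.OPE

open Polynomial Module Cfsg.Agent.Lib.Helper13.S5955 Cfsg.Agent.Lib.helper15.S5972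
open scoped Matrix

/-- AP3 [M-L]: the number of anisotropic planes of a hyperbolic `2a`-space: fibre the pairs of AP2 over their span (a nondegenerate plane: `B v₁ v₂ = 1`; anisotropic: `Q (α v₁ + β v₂) = α² + α β + ζ β²`,
`Cfsg.Agent.Lib.Helper16.OSemi.aniso_of_irred`; so of type `-1`: QTYIFF), `Nat.card_sigma`, AP1. -/
theorem ap_planes {F : Type*} [Field F] [Fintype F]
    {V : Type*} [AddCommGroup V] [Module F V] [FiniteDimensional F V]
    (Q : QuadraticForm F V) (N : Submodule F V) (hN : SND (QuadraticMap.polarBilin Q) N) (a : ℕ)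
    (ha : 2 ≤ a) (hdim : finrank F N = 2 * a) (hty : QTy Q N 1) :
    2 * (Fintype.card F + 1) * Nat.card {P : Submodule F V // P ≤ N ∧
        SND (QuadraticMap.polarBilin Q) P ∧ finrank F P = 2 ∧ QTy Q P (-1)} =
      Fintype.card F ^ (2 * a - 2) * (Fintype.card F ^ a - 1) * (Fintype.card F ^ (a - 1) - 1) :=
  opeap3_core Q N hN a ha hdim hty (fun P hP hP2 hPty ζ hζ => ap_plane_pairs Q P hP hP2 hPty ζ hζ)

end Cfsg.Agent.Lib.Helper18.OPE
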