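import Mathlib
import Cfsg.Agent.Lib.Helper19.ORE.Defs

/-!
# Project ORE (S2444), row A4: products of block forms (verbatim)
-/

set_option autoImplicit false

namespace Cfsg.Agent.Lib.Helper19.ORE

open Polynomial Module

universe u v w v₁ v₂ v₃ v₄

section General
variable {F : Type u} [Field F]

theorem split_prod {V : Type v} {X₁ : Type v₁} {X₂ : Type v₂} {V' : Type w} {X₁' : Type v₃}
    {X₂' : Type v₄} [AddCommGroup V] [Module F V]
    [AddCommGroup X₁] [Module F X₁] [AddCommGroup X₂] [Module F X₂]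
    [AddCommGroup V'] [Module F V'] [AddCommGroup X₁'] [Module F X₁'] [AddCommGroup X₂']
    [Module F X₂']
    {g : V ≃ₗ[F] V} {g₁ : X₁ ≃ₗ[F] X₁} {g₂ : X₂ ≃ₗ[F] X₂}
    {g' : V' ≃ₗ[F] V'} {g₁' : X₁' ≃ₗ[F] X₁'} {g₂' : X₂' ≃ₗ[F] X₂'}
    (h : Split g g₁ g₂) (h' : Split g' g₁' g₂') :
    Split (g.prodCongr g') (g₁.prodCongr g₁') (g₂.prodCongr g₂') := by
  obtain ⟨e, b, c, he⟩ := h
  obtain ⟨e', b', c', he'⟩ := h'
  refine ⟨(e.prodCongr e').trans (LinearEquiv.prodProdProdComm F X₁ X₂ X₁' X₂'),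
    b.prodMap b', c.prodMap c', ?_⟩
  rintro ⟨x₁, x₁'⟩ ⟨x₂, x₂'⟩
  have h1 := he x₁ x₂
  have h2 := he' x₁' x₂'
  simp only [LinearEquiv.trans_apply, LinearEquiv.symm_trans_apply, LinearEquiv.prodCongr_apply,
    LinearEquiv.prodCongr_symm, LinearEquiv.prodProdProdComm_symm,
    LinearEquiv.prodProdProdComm_apply, LinearMap.prodMap_apply, h1, h2, Prod.mk_add_mk]

theorem split_prod_right {V : Type v} {X₁ : Type v₁} {X₂ : Type v₂} {V' : Type w}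
    [AddCommGroup V] [Module F V]
    [AddCommGroup X₁] [Module F X₁] [AddCommGroup X₂] [Module F X₂]
    [AddCommGroup V'] [Module F V']
    {g : V ≃ₗ[F] V} {g₁ : X₁ ≃ₗ[F] X₁} {g₂ : X₂ ≃ₗ[F] X₂} (g' : V' ≃ₗ[F] V')
    (h : Split g g₁ g₂) : Split (g.prodCongr g') g₁ (g₂.prodCongr g') := by
  obtain ⟨e, b, c, he⟩ := h
  refine ⟨(e.prodCongr (LinearEquiv.refl F V')).trans (LinearEquiv.prodAssoc F X₁ X₂ V'),
    b.coprod 0, c.prod 0, ?_⟩
  rintro x₁ ⟨x₂, v'⟩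
  have h1 := he x₁ x₂
  change LinearEquiv.prodAssoc F X₁ X₂ V' (e (g (e.symm (x₁, x₂))), g' v') = _
  rw [h1]
  change (g₁ x₁ + b x₂, c x₁ + (g₂ x₂ + c (g₁.symm (b x₂))), g' v') = _
  refine Prod.ext ?_ (Prod.ext ?_ ?_)
  · simp
  · simp
  · simp

end General

end Cfsg.Agent.Lib.Helper19.ORE
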