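import Mathlib
import Cfsg.Agent.Lib.Helper19.ORE.Defs
import Cfsg.Agent.Lib.helper15.OREB1gen

/-!
# Project ORE (S2444), row B1: Sylvester (verbatim; one-line wrapper of helper15's generic lemma)
-/

set_option autoImplicit false

namespace Cfsg.Agent.Lib.Helper19.ORE

open Polynomial Module

universe u v w v₁ v₂ v₃ v₄

section General
variable {F : Type u} [Field F]

theorem sylvester {X₁ : Type v₁} {X₂ : Type v₂} [AddCommGroup X₁] [Module F X₁]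
    [AddCommGroup X₂] [Module F X₂] [FiniteDimensional F X₁] [FiniteDimensional F X₂]
    (A₁ : X₁ →ₗ[F] X₁) (A₂ : X₂ →ₗ[F] X₂) (p₁ p₂ : F[X]) (hp : IsCoprime p₁ p₂)
    (h₁ : aeval A₁ p₁ = 0) (h₂ : aeval A₂ p₂ = 0) (C : X₁ →ₗ[F] X₂) :
    ∃ X : X₁ →ₗ[F] X₂, A₂ ∘ₗ X - X ∘ₗ A₁ = C := by
  obtain ⟨Z, hZ, -⟩ :=
    Cfsg.Agent.Lib.helper15.OREgen.oreb1_sylvester A₂ A₁ p₂ p₁ h₂ h₁ hp.symm C
  exact ⟨Z, hZ⟩

end General

end Cfsg.Agent.Lib.Helper19.ORE
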