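import Mathlib
import Cfsg.Agent.Lib.helper15.OREB1gen

/-!
# Generic block-LU assembly (pre-work for project ORE = S2444)

On `V₁ × V₂` let `g = [[a, b], [c, d]]` with `a` invertible and Schur complement `s = d - c a⁻¹ b`.
If `A₁ a = y₁ A₁ y₁⁻¹` with `p₁(A₁) = 0` and `A₂ s = y₂ A₂ y₂⁻¹` with `p₂(A₂) = 0`, `p₁, p₂` coprime,
then there are `A, y` on `V₁ × V₂` with `A g = y A y⁻¹`, `det A = det A₁ det A₂`,
`det y = det y₁ det y₂` and `(p₁ p₂)(A) = 0`.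
-/

set_option autoImplicit false

namespace Cfsg.Agent.Lib.Helper11.OREgen

open Polynomial Cfsg.Agent.Lib.helper15.OREgen

variable {F V₁ V₂ : Type*} [Field F] [AddCommGroup V₁] [Module F V₁] [AddCommGroup V₂] [Module F V₂]

/-- The block operator `[[a, b], [c, d]]` on `V₁ × V₂`. -/
def oreb2_blk (a : V₁ →ₗ[F] V₁) (b : V₂ →ₗ[F] V₁) (c : V₁ →ₗ[F] V₂) (d : V₂ →ₗ[F] V₂) :
    (V₁ × V₂) →ₗ[F] (V₁ × V₂) :=
  (a.coprod b).prod (c.coprod d)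

theorem oreb2_blk_apply (a : V₁ →ₗ[F] V₁) (b : V₂ →ₗ[F] V₁) (c : V₁ →ₗ[F] V₂) (d : V₂ →ₗ[F] V₂)
    (x : V₁ × V₂) : oreb2_blk a b c d x = (a x.1 + b x.2, c x.1 + d x.2) := rfl

theorem oreb2_blk_mul (a a' : V₁ →ₗ[F] V₁) (b b' : V₂ →ₗ[F] V₁) (c c' : V₁ →ₗ[F] V₂)
    (d d' : V₂ →ₗ[F] V₂) :
    oreb2_blk a b c d * oreb2_blk a' b' c' d' =
      oreb2_blk (a * a' + b ∘ₗ c') (a ∘ₗ b' + b ∘ₗ d') (c ∘ₗ a' + d ∘ₗ c') (c ∘ₗ b' + d * d') := by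
  apply LinearMap.ext
  intro x
  simp only [Module.End.mul_apply, oreb2_blk_apply, LinearMap.add_apply, LinearMap.comp_apply,
    map_add]
  refine Prod.ext ?_ ?_ <;> simp only <;> abel

theorem oreb2_blk_one : oreb2_blk (1 : V₁ →ₗ[F] V₁) 0 0 (1 : V₂ →ₗ[F] V₂) = 1 := by
  apply LinearMap.ext
  intro x
  simp [oreb2_blk_apply]

theorem oreb2_blk_diag (a : V₁ →ₗ[F] V₁) (d : V₂ →ₗ[F] V₂) :
    oreb2_blk a 0 0 d = a.prodMap d := by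
  apply LinearMap.ext
  intro x
  simp [oreb2_blk_apply]


theorem oreb2_toMatrix_blk {ι₁ ι₂ : Type*} [Fintype ι₁] [Fintype ι₂] [DecidableEq ι₁] [DecidableEq ι₂]
    (v₁ : Module.Basis ι₁ F V₁) (v₂ : Module.Basis ι₂ F V₂)
    (a : V₁ →ₗ[F] V₁) (b : V₂ →ₗ[F] V₁) (c : V₁ →ₗ[F] V₂) (d : V₂ →ₗ[F] V₂) :
    LinearMap.toMatrix (v₁.prod v₂) (v₁.prod v₂) (oreb2_blk a b c d) =
      Matrix.fromBlocks (LinearMap.toMatrix v₁ v₁ a) (LinearMap.toMatrix v₂ v₁ b)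
        (LinearMap.toMatrix v₁ v₂ c) (LinearMap.toMatrix v₂ v₂ d) := by
  ext (i | i) (j | j) <;> simp [LinearMap.toMatrix, oreb2_blk_apply]

theorem oreb2_det_lower [FiniteDimensional F V₁] [FiniteDimensional F V₂]
    (a : V₁ →ₗ[F] V₁) (c : V₁ →ₗ[F] V₂) (d : V₂ →ₗ[F] V₂) :
    LinearMap.det (oreb2_blk a 0 c d) = LinearMap.det a * LinearMap.det d := by
  classical
  let b₁ := Module.Free.chooseBasis F V₁
  let b₂ := Module.Free.chooseBasis F V₂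
  rw [← LinearMap.det_toMatrix (b₁.prod b₂), ← LinearMap.det_toMatrix b₁, ← LinearMap.det_toMatrix b₂,
    oreb2_toMatrix_blk, map_zero, Matrix.det_fromBlocks_zero₁₂]

theorem oreb2_det_upper [FiniteDimensional F V₁] [FiniteDimensional F V₂]
    (a : V₁ →ₗ[F] V₁) (b : V₂ →ₗ[F] V₁) (d : V₂ →ₗ[F] V₂) :
    LinearMap.det (oreb2_blk a b 0 d) = LinearMap.det a * LinearMap.det d := by
  classical
  let b₁ := Module.Free.chooseBasis F V₁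
  let b₂ := Module.Free.chooseBasis F V₂
  rw [← LinearMap.det_toMatrix (b₁.prod b₂), ← LinearMap.det_toMatrix b₁, ← LinearMap.det_toMatrix b₂,
    oreb2_toMatrix_blk, map_zero, Matrix.det_fromBlocks_zero₂₁]


/-- `aeval` of a block-diagonal operator. -/
theorem oreb2_aeval_prodMap (A₁ : V₁ →ₗ[F] V₁) (A₂ : V₂ →ₗ[F] V₂) (f : F[X]) :
    aeval (A₁.prodMap A₂) f = (aeval A₁ f).prodMap (aeval A₂ f) := by
  have h1 : (A₁.prodMap A₂) ∘ₗ LinearMap.inl F V₁ V₂ = LinearMap.inl F V₁ V₂ ∘ₗ A₁ := by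
    apply LinearMap.ext; intro x; simp
  have h2 : (A₁.prodMap A₂) ∘ₗ LinearMap.inr F V₁ V₂ = LinearMap.inr F V₁ V₂ ∘ₗ A₂ := by
    apply LinearMap.ext; intro x; simp
  have e1 := oreb1_intertwine _ _ _ h1 f
  have e2 := oreb1_intertwine _ _ _ h2 f
  apply LinearMap.prod_ext
  · rw [e1]; apply LinearMap.ext; intro x; simp
  · rw [e2]; apply LinearMap.ext; intro x; simp

/-- an annihilating polynomial passes along a surjective intertwiner. -/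
theorem oreb2_aeval_conj {V W : Type*} [AddCommGroup V] [Module F V] [AddCommGroup W] [Module F W]
    (A : V →ₗ[F] V) (D : W →ₗ[F] W) (T : W →ₗ[F] V) (hT : Function.Surjective T)
    (h : A ∘ₗ T = T ∘ₗ D) (f : F[X]) (hf : aeval D f = 0) : aeval A f = 0 := by
  have e := oreb1_intertwine A D T h f
  rw [hf, LinearMap.comp_zero] at e
  apply LinearMap.ext
  intro x
  obtain ⟨w, rfl⟩ := hT x
  have := LinearMap.congr_fun e w
  simpa using this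


theorem oreb2_low_mul (Z Z' : V₁ →ₗ[F] V₂) :
    oreb2_blk (1 : V₁ →ₗ[F] V₁) 0 Z (1 : V₂ →ₗ[F] V₂) * oreb2_blk 1 0 Z' 1 = oreb2_blk 1 0 (Z + Z') 1 := by
  apply LinearMap.ext
  intro x
  simp only [Module.End.mul_apply, oreb2_blk_apply, LinearMap.add_apply, Module.End.one_apply,
    LinearMap.zero_apply, add_zero, map_add]
  refine Prod.ext rfl ?_
  simp only
  abel

theorem oreb2_up_mul (Z Z' : V₂ →ₗ[F] V₁) :
    oreb2_blk (1 : V₁ →ₗ[F] V₁) Z 0 (1 : V₂ →ₗ[F] V₂) * oreb2_blk 1 Z' 0 1 = oreb2_blk 1 (Z + Z') 0 1 := by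
  apply LinearMap.ext
  intro x
  simp only [Module.End.mul_apply, oreb2_blk_apply, LinearMap.add_apply, Module.End.one_apply,
    LinearMap.zero_apply, zero_add, map_add]
  refine Prod.ext ?_ rfl
  simp only
  abel

theorem oreb2_low_inv (Z : V₁ →ₗ[F] V₂) :
    oreb2_blk (1 : V₁ →ₗ[F] V₁) 0 Z (1 : V₂ →ₗ[F] V₂) * oreb2_blk 1 0 (-Z) 1 = 1 := by
  rw [oreb2_low_mul, add_neg_cancel, oreb2_blk_one]

theorem oreb2_low_inv' (Z : V₁ →ₗ[F] V₂) :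
    oreb2_blk (1 : V₁ →ₗ[F] V₁) 0 (-Z) (1 : V₂ →ₗ[F] V₂) * oreb2_blk 1 0 Z 1 = 1 := by
  rw [oreb2_low_mul, neg_add_cancel, oreb2_blk_one]

theorem oreb2_up_inv (Z : V₂ →ₗ[F] V₁) :
    oreb2_blk (1 : V₁ →ₗ[F] V₁) Z 0 (1 : V₂ →ₗ[F] V₂) * oreb2_blk 1 (-Z) 0 1 = 1 := by
  rw [oreb2_up_mul, add_neg_cancel, oreb2_blk_one]

theorem oreb2_up_inv' (Z : V₂ →ₗ[F] V₁) :
    oreb2_blk (1 : V₁ →ₗ[F] V₁) (-Z) 0 (1 : V₂ →ₗ[F] V₂) * oreb2_blk 1 Z 0 1 = 1 := by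
  rw [oreb2_up_mul, neg_add_cancel, oreb2_blk_one]

/-- `g = L (a ⊕ s) U`. -/
theorem oreb2_LDU (a ainv : V₁ →ₗ[F] V₁) (b : V₂ →ₗ[F] V₁) (c : V₁ →ₗ[F] V₂) (d s : V₂ →ₗ[F] V₂)
    (ha : a * ainv = 1) (ha' : ainv * a = 1) (hs : s = d - c ∘ₗ ainv ∘ₗ b) :
    oreb2_blk a b c d =
      oreb2_blk 1 0 (c ∘ₗ ainv) 1 * a.prodMap s * oreb2_blk 1 (ainv ∘ₗ b) 0 1 := by
  apply LinearMap.ext
  intro x
  have e1 : ∀ v, a (ainv v) = v := fun v => LinearMap.congr_fun ha v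
  have e2 : ∀ v, ainv (a v) = v := fun v => LinearMap.congr_fun ha' v
  simp only [Module.End.mul_apply, oreb2_blk_apply, LinearMap.prodMap_apply, Module.End.one_apply,
    LinearMap.zero_apply, add_zero, zero_add, LinearMap.comp_apply, map_add, e1, e2, hs,
    LinearMap.sub_apply]
  refine Prod.ext rfl ?_
  simp only
  abel

/-- pure monoid algebra behind the assembly. -/
theorem oreb2_monoid {M : Type*} [Monoid M] (A G D D' Tl Tli Tu Tui Y Yi : M)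
    (h1 : Tl * Tli = 1) (h1' : Tli * Tl = 1) (h2 : Tu * Tui = 1) (h2' : Tui * Tu = 1)
    (h3 : Y * Yi = 1) (h3' : Yi * Y = 1)
    (hA : A * Tl = Tl * D) (hG : G * Tu = Tu * D') (hD : D' = Y * D * Yi) :
    (Tu * Y * Tli) * (Tl * Yi * Tui) = 1 ∧ (Tl * Yi * Tui) * (Tu * Y * Tli) = 1 ∧
      G = (Tu * Y * Tli) * A * (Tl * Yi * Tui) := by
  refine ⟨?_, ?_, ?_⟩
  · calc Tu * Y * Tli * (Tl * Yi * Tui) = Tu * (Y * ((Tli * Tl) * Yi)) * Tui := by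
          simp only [mul_assoc]
      _ = 1 := by rw [h1', one_mul, h3, mul_one, h2]
  · calc Tl * Yi * Tui * (Tu * Y * Tli) = Tl * (Yi * ((Tui * Tu) * Y)) * Tli := by
          simp only [mul_assoc]
      _ = 1 := by rw [h2', one_mul, h3', mul_one, h1]
  · have hD2 : D = Tli * A * Tl := by
      rw [mul_assoc, hA, ← mul_assoc, h1', one_mul]
    calc G = G * (Tu * Tui) := by rw [h2, mul_one]
      _ = Tu * D' * Tui := by rw [← mul_assoc, hG]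
      _ = Tu * (Y * (Tli * A * Tl) * Yi) * Tui := by rw [hD, hD2]
      _ = Tu * Y * Tli * A * (Tl * Yi * Tui) := by simp only [mul_assoc]


/-- **Block-LU assembly.** -/
theorem oreb2_assembly [FiniteDimensional F V₁] [FiniteDimensional F V₂]
    (a ainv : V₁ →ₗ[F] V₁) (b : V₂ →ₗ[F] V₁) (c : V₁ →ₗ[F] V₂) (d s : V₂ →ₗ[F] V₂)
    (ha : a * ainv = 1) (ha' : ainv * a = 1) (hs : s = d - c ∘ₗ ainv ∘ₗ b)
    (A₁ y₁ y₁i : V₁ →ₗ[F] V₁) (A₂ y₂ y₂i : V₂ →ₗ[F] V₂)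
    (hy₁ : y₁ * y₁i = 1) (hy₁' : y₁i * y₁ = 1) (hy₂ : y₂ * y₂i = 1) (hy₂' : y₂i * y₂ = 1)
    (h₁ : A₁ * a = y₁ * A₁ * y₁i) (h₂ : A₂ * s = y₂ * A₂ * y₂i)
    (p₁ p₂ : F[X]) (hp₁ : aeval A₁ p₁ = 0) (hp₂ : aeval A₂ p₂ = 0) (hc : IsCoprime p₁ p₂) :
    ∃ A y yi : (V₁ × V₂) →ₗ[F] (V₁ × V₂), y * yi = 1 ∧ yi * y = 1 ∧
      A * oreb2_blk a b c d = y * A * yi ∧
      LinearMap.det A = LinearMap.det A₁ * LinearMap.det A₂ ∧
      LinearMap.det y = LinearMap.det y₁ * LinearMap.det y₂ ∧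
      aeval A (p₁ * p₂) = 0 := by
  -- conjugated pieces
  set B₁ : V₁ →ₗ[F] V₁ := y₁ * A₁ * y₁i with hB₁
  set B₂ : V₂ →ₗ[F] V₂ := y₂ * A₂ * y₂i with hB₂
  have hy₁s : Function.Surjective y₁ := fun v => ⟨y₁i v, LinearMap.congr_fun hy₁ v⟩
  have hy₂s : Function.Surjective y₂ := fun v => ⟨y₂i v, LinearMap.congr_fun hy₂ v⟩
  have hpB₁ : aeval B₁ p₁ = 0 := by
    refine oreb2_aeval_conj B₁ A₁ y₁ hy₁s ?_ p₁ hp₁
    change B₁ * y₁ = y₁ * A₁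
    rw [hB₁, mul_assoc, hy₁', mul_one]
  have hpB₂ : aeval B₂ p₂ = 0 := by
    refine oreb2_aeval_conj B₂ A₂ y₂ hy₂s ?_ p₂ hp₂
    change B₂ * y₂ = y₂ * A₂
    rw [hB₂, mul_assoc, hy₂', mul_one]
  -- the two Sylvester equations
  obtain ⟨Z₁, hZ₁, -⟩ := oreb1_sylvester A₂ A₁ p₂ p₁ hp₂ hp₁ hc.symm (A₂ ∘ₗ (c ∘ₗ ainv))
  obtain ⟨Z₂, hZ₂, -⟩ := oreb1_sylvester B₁ B₂ p₁ p₂ hpB₁ hpB₂ hc (-(B₁ ∘ₗ (ainv ∘ₗ b)))
  have hZ₁' : ∀ v, A₂ (Z₁ v) - Z₁ (A₁ v) = A₂ (c (ainv v)) := fun v => LinearMap.congr_fun hZ₁ v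
  have hZ₂' : ∀ v, B₁ (Z₂ v) - Z₂ (B₂ v) = -(B₁ (ainv (b v))) := fun v => LinearMap.congr_fun hZ₂ v
  -- the operators
  set L : (V₁ × V₂) →ₗ[F] (V₁ × V₂) := oreb2_blk 1 0 (c ∘ₗ ainv) 1 with hL
  set Li : (V₁ × V₂) →ₗ[F] (V₁ × V₂) := oreb2_blk 1 0 (-(c ∘ₗ ainv)) 1 with hLi
  set U : (V₁ × V₂) →ₗ[F] (V₁ × V₂) := oreb2_blk 1 (ainv ∘ₗ b) 0 1 with hU
  set D : (V₁ × V₂) →ₗ[F] (V₁ × V₂) := A₁.prodMap A₂ with hD
  set D' : (V₁ × V₂) →ₗ[F] (V₁ × V₂) := B₁.prodMap B₂ with hD'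
  set Tl : (V₁ × V₂) →ₗ[F] (V₁ × V₂) := oreb2_blk 1 0 Z₁ 1 with hTl
  set Tli : (V₁ × V₂) →ₗ[F] (V₁ × V₂) := oreb2_blk 1 0 (-Z₁) 1 with hTli
  set Tu : (V₁ × V₂) →ₗ[F] (V₁ × V₂) := oreb2_blk 1 Z₂ 0 1 with hTu
  set Tui : (V₁ × V₂) →ₗ[F] (V₁ × V₂) := oreb2_blk 1 (-Z₂) 0 1 with hTui
  set Y : (V₁ × V₂) →ₗ[F] (V₁ × V₂) := y₁.prodMap y₂ with hY
  set Yi : (V₁ × V₂) →ₗ[F] (V₁ × V₂) := y₁i.prodMap y₂i with hYi
  set A : (V₁ × V₂) →ₗ[F] (V₁ × V₂) := D * Li with hA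
  have hLiL : Li * L = 1 := oreb2_low_inv' _
  have hg : oreb2_blk a b c d = L * a.prodMap s * U := oreb2_LDU a ainv b c d s ha ha' hs
  have hAg : A * oreb2_blk a b c d = D' * U := by
    rw [hg, hA]
    calc D * Li * (L * a.prodMap s * U) = D * ((Li * L) * a.prodMap s) * U := by
          simp only [mul_assoc]
      _ = D' * U := by
          rw [hLiL, one_mul, hD, hD', LinearMap.prodMap_mul, h₁, h₂]
  have hYY : Y * Yi = 1 := by rw [hY, hYi, LinearMap.prodMap_mul, hy₁, hy₂, LinearMap.prodMap_one]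
  have hYY' : Yi * Y = 1 := by rw [hY, hYi, LinearMap.prodMap_mul, hy₁', hy₂', LinearMap.prodMap_one]
  have hDD : D' = Y * D * Yi := by
    rw [hY, hYi, hD, hD', LinearMap.prodMap_mul, LinearMap.prodMap_mul]
  have hATl : A * Tl = Tl * D := by
    apply LinearMap.ext
    intro x
    simp only [hA, hD, hLi, hTl, Module.End.mul_apply, oreb2_blk_apply, LinearMap.prodMap_apply,
      Module.End.one_apply, LinearMap.zero_apply, add_zero, LinearMap.neg_apply,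
      LinearMap.comp_apply, map_add, map_neg]
    refine Prod.ext rfl ?_
    simp only
    have := hZ₁' x.1
    rw [sub_eq_iff_eq_add] at this
    rw [this]
    abel
  have hGTu : (D' * U) * Tu = Tu * D' := by
    apply LinearMap.ext
    intro x
    simp only [hD', hU, hTu, Module.End.mul_apply, oreb2_blk_apply, LinearMap.prodMap_apply,
      Module.End.one_apply, LinearMap.zero_apply, zero_add, LinearMap.comp_apply, map_add]
    refine Prod.ext ?_ rfl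
    simp only
    have := hZ₂' x.2
    rw [sub_eq_iff_eq_add] at this
    rw [this]
    abel
  obtain ⟨e1, e2, e3⟩ := oreb2_monoid A (D' * U) D D' Tl Tli Tu Tui Y Yi (oreb2_low_inv _)
    (oreb2_low_inv' _) (oreb2_up_inv _) (oreb2_up_inv' _) hYY hYY' hATl hGTu hDD
  refine ⟨A, Tu * Y * Tli, Tl * Yi * Tui, e1, e2, ?_, ?_, ?_, ?_⟩
  · rw [hAg]; exact e3
  · rw [hA, map_mul, hD, LinearMap.det_prodMap, hLi, oreb2_det_lower]
    simp only [map_one, mul_one]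
  · rw [map_mul, map_mul, hTu, hTli, oreb2_det_upper, oreb2_det_lower, hY, LinearMap.det_prodMap]
    simp only [map_one, mul_one, one_mul]
  · have hTls : Function.Surjective Tl := fun v => ⟨Tli v, LinearMap.congr_fun (oreb2_low_inv Z₁) v⟩
    refine oreb2_aeval_conj A D Tl hTls hATl (p₁ * p₂) ?_
    rw [hD, oreb2_aeval_prodMap, map_mul, map_mul, hp₁, hp₂, zero_mul, mul_zero]
    apply LinearMap.ext
    intro x
    simp


end Cfsg.Agent.Lib.Helper11.OREgen
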