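import Mathlib
import Cfsg.Agent.Lib.Helper19.ORE.Defs
import Cfsg.Agent.Lib.helper15.ORED1gen
import Cfsg.Agent.Lib.helper15.OREB1gen

/-!
# Project ORE (S2444), row D1 (exists_cyc_summand): SECOND COPY under an own name
(`ored1_h11_exists_cyc_summand` = the exact Skel statement), on helper15's generic `ored1_split`.
-/

set_option autoImplicit false

namespace Cfsg.Agent.Lib.Helper19.ORE

open Polynomial Module

universe u v w v₁ v₂ v₃ v₄

section General
variable {F : Type u} [Field F]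

theorem ored1_h11_res_inj {V : Type v} [AddCommGroup V] [Module F V]
    (g : V ≃ₗ[F] V) (W : Submodule F V) (hW : ∀ w ∈ W, (g : V →ₗ[F] V) w ∈ W) :
    Function.Injective ((g : V →ₗ[F] V).restrict hW) := by
  intro x y hxy
  apply Subtype.ext
  have h := congrArg Subtype.val hxy
  rw [LinearMap.restrict_apply, LinearMap.restrict_apply] at h
  exact g.injective h

/-- restriction of a linear automorphism to an invariant subspace (finite dimension). -/
noncomputable def ored1_h11_res {V : Type v} [AddCommGroup V] [Module F V] [FiniteDimensional F V]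
    (g : V ≃ₗ[F] V) (W : Submodule F V) (hW : ∀ w ∈ W, (g : V →ₗ[F] V) w ∈ W) : W ≃ₗ[F] W :=
  LinearEquiv.ofInjectiveEndo ((g : V →ₗ[F] V).restrict hW) (ored1_h11_res_inj g W hW)

theorem ored1_h11_res_coe {V : Type v} [AddCommGroup V] [Module F V] [FiniteDimensional F V]
    (g : V ≃ₗ[F] V) (W : Submodule F V) (hW : ∀ w ∈ W, (g : V →ₗ[F] V) w ∈ W) (x : W) :
    ((ored1_h11_res g W hW x : W) : V) = g (x : V) := by
  unfold ored1_h11_res
  have h := congrFun (LinearEquiv.coe_ofInjectiveEndo ((g : V →ₗ[F] V).restrict hW)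
    (ored1_h11_res_inj g W hW)) x
  rw [h, LinearMap.restrict_apply]
  rfl

theorem ored1_h11_aeval_res {V : Type v} [AddCommGroup V] [Module F V] [FiniteDimensional F V]
    (g : V ≃ₗ[F] V) (W : Submodule F V) (hW : ∀ w ∈ W, (g : V →ₗ[F] V) w ∈ W) (q : F[X]) (x : W) :
    ((aeval ((ored1_h11_res g W hW : W ≃ₗ[F] W) : W →ₗ[F] W) q x : W) : V) =
      aeval (g : V →ₗ[F] V) q (x : V) := by
  have h : (g : V →ₗ[F] V) ∘ₗ W.subtype =
      W.subtype ∘ₗ ((ored1_h11_res g W hW : W ≃ₗ[F] W) : W →ₗ[F] W) := by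
    apply LinearMap.ext
    intro y
    simp only [LinearMap.comp_apply, Submodule.subtype_apply, LinearEquiv.coe_coe]
    exact (ored1_h11_res_coe g W hW y).symm
  have e := Cfsg.Agent.Lib.helper15.OREgen.oreb1_intertwine _ _ _ h q
  have := LinearMap.congr_fun e x
  simp only [LinearMap.comp_apply, Submodule.subtype_apply] at this
  exact this.symm

theorem ored1_h11_exists_cyc_summand {V : Type v} [AddCommGroup V] [Module F V] [FiniteDimensional F V]
    [Nontrivial V] (g : V ≃ₗ[F] V) :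
    ∃ (V₁ V₂ : Submodule F V) (g₁ : V₁ ≃ₗ[F] V₁) (g₂ : V₂ ≃ₗ[F] V₂) (e : V ≃ₗ[F] V₁ × V₂),
      Conj e g (g₁.prodCongr g₂) ∧ IsCyc g₁ ∧ 0 < finrank F V₁ := by
  obtain ⟨W, W', v, p, e, hp, he, hc, hW, hW', hspan, hord⟩ :=
    Cfsg.Agent.Lib.helper15.OREgen.ored1_split (g : V →ₗ[F] V)
  have hvW : v ∈ W := by
    rw [hspan]
    exact Submodule.subset_span ⟨0, by simp⟩
  refine ⟨W, W', ored1_h11_res g W hW, ored1_h11_res g W' hW',
    (Submodule.prodEquivOfIsCompl W W' hc).symm, ?_, ?_, ?_⟩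
  · -- conjugacy
    intro x
    apply (Submodule.prodEquivOfIsCompl W W' hc).injective
    rw [LinearEquiv.apply_symm_apply]
    obtain ⟨⟨a, b⟩, rfl⟩ := (Submodule.prodEquivOfIsCompl W W' hc).surjective x
    rw [LinearEquiv.symm_apply_apply, Submodule.coe_prodEquivOfIsCompl',
      Submodule.coe_prodEquivOfIsCompl', LinearEquiv.prodCongr_apply]
    simp only [ored1_h11_res_coe, map_add]
  · -- cyclic
    refine ⟨⟨v, hvW⟩, ?_⟩
    intro x
    have hx : (x : V) ∈ Submodule.span F (Set.range fun k : ℕ => ((g : V →ₗ[F] V) ^ k) v) := by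
      rw [← hspan]
      exact x.2
    -- every element of the span is `q(g) v`
    have key : ∀ y ∈ Submodule.span F (Set.range fun k : ℕ => ((g : V →ₗ[F] V) ^ k) v),
        ∃ q : F[X], y = aeval (g : V →ₗ[F] V) q v := by
      intro y hy
      induction hy using Submodule.span_induction with
      | mem z hz =>
        obtain ⟨k, rfl⟩ := hz
        exact ⟨X ^ k, by simp⟩
      | zero => exact ⟨0, by simp⟩
      | add y z _ _ hy hz =>
        obtain ⟨q₁, rfl⟩ := hy
        obtain ⟨q₂, rfl⟩ := hz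
        exact ⟨q₁ + q₂, by simp⟩
      | smul c y _ hy =>
        obtain ⟨q₁, rfl⟩ := hy
        exact ⟨C c * q₁, by simp⟩
    obtain ⟨q, hq⟩ := key _ hx
    refine ⟨q, ?_⟩
    apply Subtype.ext
    rw [ored1_h11_aeval_res]
    exact hq
  · -- positive dimension
    rw [Module.finrank_pos_iff]
    have hv0 : v ≠ 0 := by
      intro h0
      have h1 : (aeval (g : V →ₗ[F] V) (1 : F[X])) v = 0 := by rw [h0, map_zero]
      have h2 := (hord 1).mp h1
      have h3 : IsUnit (p ^ e) := isUnit_of_dvd_one h2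
      exact hp.not_isUnit ((isUnit_pow_iff he.ne').mp h3)
    exact ⟨⟨⟨v, hvW⟩, 0, fun h => hv0 (congrArg Subtype.val h)⟩⟩

end General

end Cfsg.Agent.Lib.Helper19.ORE
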