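import Mathlib
import Cfsg.Agent.Lib.Helper19.ORE.Defs
import Cfsg.Agent.Lib.Helper24.OREB3

/-!
# Project ORE (S2444), row D2 (rep_one, rep_two, rep_smulE): SECOND COPIES under own names
(`ored2_h11_rep_one`, `ored2_h11_rep_two`, `ored2_h11_rep_smulE` = the exact Skel statements).
-/

set_option autoImplicit false

namespace Cfsg.Agent.Lib.Helper19.ORE

open Polynomial Module

universe u v w v₁ v₂ v₃ v₄

section General
variable {F : Type u} [Field F]

/-- in a basis, `g` is represented by its matrix. -/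
theorem ored2_h11_rep_toMatrix {V : Type v} [AddCommGroup V] [Module F V] {k : ℕ}
    (g : V ≃ₗ[F] V) (b : Basis (Fin k) F V) :
    Rep g (LinearMap.toMatrix b b (g : V →ₗ[F] V)) := by
  refine ⟨b.equivFun, ?_⟩
  intro x
  have := LinearMap.toMatrix_mulVec_repr b b (g : V →ₗ[F] V) x
  rw [Basis.equivFun_apply, Basis.equivFun_apply]
  exact this.symm

theorem ored2_h11_rep_one {V : Type v} [AddCommGroup V] [Module F V] (g : V ≃ₗ[F] V)
    (h1 : finrank F V = 1) : Rep g (mat1 ((LinearEquiv.det g : Fˣ) : F)) := by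
  have : FiniteDimensional F V := Module.finite_of_finrank_pos (by rw [h1]; exact Nat.one_pos)
  let b : Basis (Fin 1) F V := Module.finBasisOfFinrankEq F V h1
  have hrep := ored2_h11_rep_toMatrix g b
  have hM : LinearMap.toMatrix b b (g : V →ₗ[F] V) = mat1 ((LinearEquiv.det g : Fˣ) : F) := by
    have hdet : (LinearMap.toMatrix b b (g : V →ₗ[F] V)).det = ((LinearEquiv.det g : Fˣ) : F) := by
      rw [LinearMap.det_toMatrix, LinearEquiv.coe_det]
    rw [Matrix.det_fin_one] at hdet
    ext i j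
    fin_cases i
    fin_cases j
    simpa [mat1] using hdet
  rw [hM] at hrep
  exact hrep

theorem ored2_h11_rep_two {V : Type v} [AddCommGroup V] [Module F V] [FiniteDimensional F V]
    (g : V ≃ₗ[F] V) (hg : IsCyc g) (h2 : finrank F V = 2) :
    ∃ t : F, Rep g (comp2 t ((LinearEquiv.det g : Fˣ) : F)) := by
  obtain ⟨v, b, hb⟩ := cyc_basis g hg 2 h2
  have hrep := ored2_h11_rep_toMatrix g b
  set M := LinearMap.toMatrix b b (g : V →ₗ[F] V) with hMdef
  have hb0 : b 0 = v := by simpa using hb 0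
  have hb1 : b 1 = g v := by simpa using hb 1
  have hgb0 : (g : V →ₗ[F] V) (b 0) = b 1 := by rw [hb0, hb1]; rfl
  have h00 : M 0 0 = 0 := by
    rw [hMdef, LinearMap.toMatrix_apply, hgb0, Basis.repr_self]
    simp
  have h10 : M 1 0 = 1 := by
    rw [hMdef, LinearMap.toMatrix_apply, hgb0, Basis.repr_self]
    simp
  have hdet : M.det = ((LinearEquiv.det g : Fˣ) : F) := by
    rw [hMdef, LinearMap.det_toMatrix, LinearEquiv.coe_det]
  rw [Matrix.det_fin_two, h00, h10, zero_mul, zero_sub, mul_one] at hdet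
  refine ⟨M 1 1, ?_⟩
  have hM : M = comp2 (M 1 1) ((LinearEquiv.det g : Fˣ) : F) := by
    ext i j
    fin_cases i <;> fin_cases j
    · simpa [comp2] using h00
    · simp only [comp2, Fin.zero_eta, Fin.mk_one, Matrix.of_apply, Matrix.cons_val', Matrix.cons_val_one,
        Matrix.cons_val_zero, Matrix.cons_val_fin_one]
      rw [← hdet, neg_neg]
    · simpa [comp2] using h10
    · simp [comp2]
  rw [← hM]
  exact hrep

theorem ored2_h11_rep_smulE (κ : Fˣ) : Rep (smulE κ) (mat1 (κ : F)) := by
  refine ⟨(LinearEquiv.funUnique (Fin 1) F F).symm, ?_⟩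
  intro x
  ext i
  fin_cases i
  simp [smulE, mat1, Matrix.mulVec, dotProduct, LinearEquiv.smulOfUnit, Units.smul_def]

end General

end Cfsg.Agent.Lib.Helper19.ORE
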