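import Mathlib
import Cfsg.Prelude.Def_Classical
import Cfsg.Agent.Lib.helper23.P4S.Defs
import Cfsg.Agent.S0246
import Cfsg.Agent.Lib.Helper25.MEOE

set_option autoImplicit false

/-!
# P4S row U5 (`sp4_upper`), core: on the statements of U1 (`sp4_charpoly`), U2 (`quartic_factor`), U4 (`root_data`).
-/

namespace Cfsg.Agent.Lib.helper23.P4S

open Matrix Polynomial

/-- `InT4` is closed under divisors -/
theorem p4su5_inT4_dvd (p q m M : ℕ) (h : InT4 p q M) (hm : m ∣ M) : InT4 p q m := by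
  rcases h with h | h | h | h | ⟨hp, h⟩ | ⟨hp, h⟩
  · exact Or.inl (hm.trans h)
  · exact Or.inr (Or.inl (hm.trans h))
  · exact Or.inr (Or.inr (Or.inl (hm.trans h)))
  · exact Or.inr (Or.inr (Or.inr (Or.inl (hm.trans h))))
  · exact Or.inr (Or.inr (Or.inr (Or.inr (Or.inl ⟨hp, hm.trans h⟩))))
  · exact Or.inr (Or.inr (Or.inr (Or.inr (Or.inr ⟨hp, hm.trans h⟩))))

/-- the roots of a product of four linear factors -/
theorem p4su5_roots {K : Type*} [Field K] (l1 l2 l3 l4 : K) :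
    ((X - C l1) * (X - C l2) * ((X - C l3) * (X - C l4)) : K[X]).roots = {l1, l2, l3, l4} := by
  have h : ((X - C l1) * (X - C l2) * ((X - C l3) * (X - C l4)) : K[X]) =
      (Multiset.map (fun a => X - C a) ({l1, l2, l3, l4} : Multiset K)).prod := by
    simp only [Multiset.insert_eq_cons, Multiset.map_cons, Multiset.prod_cons, Multiset.map_singleton,
      Multiset.prod_singleton]
    ring
  rw [h, roots_multiset_prod_X_sub_C]

/-- if `x.1 ^ k = ± 1` then `orderOf (mk x) ∣ k` in `PSp` -/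
theorem p4su5_order {F : Type*} [Field F] (x : Matrix.symplecticGroup (Fin 2) F) (k : ℕ)
    (h : (x : Matrix (Fin 2 ⊕ Fin 2) (Fin 2 ⊕ Fin 2) F) ^ k = 1 ∨
      (x : Matrix (Fin 2 ⊕ Fin 2) (Fin 2 ⊕ Fin 2) F) ^ k = -1) :
    orderOf (QuotientGroup.mk x : Cfsg.PSp 2 F) ∣ k := by
  apply orderOf_dvd_of_pow_eq_one
  rw [← QuotientGroup.mk_pow, QuotientGroup.eq_one_iff]
  rcases h with h | h
  · have : x ^ k = 1 := by
      apply Subtype.ext
      rw [SubmonoidClass.coe_pow, h]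
      rfl
    rw [this]
    exact Subgroup.one_mem _
  · have : x ^ k = Cfsg.Agent.S0246.negOne F 2 := by
      apply Subtype.ext
      rw [SubmonoidClass.coe_pow, h, Cfsg.Agent.S0246.negOne_coe]
    rw [this]
    exact Cfsg.Agent.S0246.negOne_mem_center

/-- U5, core: `K` an algebraically closed extension of `F`; `hU1`, `hU2`, `hU4` are the statements of U1, U2, U4. -/
theorem p4su5_core {F : Type*} [Field F] [Fintype F] (p : ℕ) [Fact p.Prime] [CharP F p]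
    {K : Type*} [Field K] [IsAlgClosed K] [Algebra F K] [CharP K p] [DecidableEq K]
    (hU1 : ∀ x : Matrix.symplecticGroup (Fin 2) F, ∃ a b : F,
      (x : Matrix (Fin 2 ⊕ Fin 2) (Fin 2 ⊕ Fin 2) F).charpoly =
        X ^ 4 - C a * X ^ 3 + C b * X ^ 2 - C a * X + 1)
    (hU2 : ∀ a b : K, ∃ l1 l2 : K, l1 ≠ 0 ∧ l2 ≠ 0 ∧
      (X ^ 4 - C a * X ^ 3 + C b * X ^ 2 - C a * X + 1 : K[X]) =
        (X - C l1) * (X - C l1⁻¹) * ((X - C l2) * (X - C l2⁻¹)) ∧
      (l1 + l1⁻¹) + (l2 + l2⁻¹) = a ∧ (l1 + l1⁻¹) * (l2 + l2⁻¹) = b - 2)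
    (hU4 : ∀ (f : ℕ) (_ : 1 ≤ f) (a b l1 l2 : K) (_ : l1 ≠ 0) (_ : l2 ≠ 0) (_ : a ^ p ^ f = a)
      (_ : b ^ p ^ f = b) (_ : (l1 + l1⁻¹) + (l2 + l2⁻¹) = a) (_ : (l1 + l1⁻¹) * (l2 + l2⁻¹) = b - 2),
      ∃ (N e : ℕ) (c : K), 0 < N ∧ (c = 1 ∨ c = -1) ∧
        (∀ ν ∈ ({l1, l1⁻¹, l2, l2⁻¹} : Multiset K), ν ^ N = c) ∧
        (∀ ν : K, ({l1, l1⁻¹, l2, l2⁻¹} : Multiset K).count ν ≤ p ^ e) ∧ InT4 p (p ^ f) (N * p ^ e))
    (x : Matrix.symplecticGroup (Fin 2) F) :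
    InT4 p (Fintype.card F) (orderOf (QuotientGroup.mk x : Cfsg.PSp 2 F)) := by
  obtain ⟨n, -, hn⟩ := FiniteField.card F p
  have hf : 1 ≤ (n : ℕ) := n.pos
  obtain ⟨a, b, hχ⟩ := hU1 x
  have hι : Function.Injective (algebraMap F K) := (algebraMap F K).injective
  have hA : (((x : Matrix (Fin 2 ⊕ Fin 2) (Fin 2 ⊕ Fin 2) F)).map (algebraMap F K)).charpoly =
      X ^ 4 - C (algebraMap F K a) * X ^ 3 + C (algebraMap F K b) * X ^ 2 - C (algebraMap F K a) * X + 1 := by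
    rw [Matrix.charpoly_map, hχ]
    simp only [Polynomial.map_sub, Polynomial.map_add, Polynomial.map_mul, Polynomial.map_pow,
      Polynomial.map_X, Polynomial.map_C, Polynomial.map_one]
  have hfix : ∀ t : F, (algebraMap F K t) ^ p ^ (n : ℕ) = algebraMap F K t := by
    intro t
    rw [← map_pow, ← hn, FiniteField.pow_card]
  obtain ⟨l1, l2, hl1, hl2, hfac, hs1, hs2⟩ := hU2 (algebraMap F K a) (algebraMap F K b)
  obtain ⟨N, e, c, hN, hc, hpow, hcount, hT⟩ :=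
    hU4 (n : ℕ) hf (algebraMap F K a) (algebraMap F K b) l1 l2 hl1 hl2 (hfix a) (hfix b) hs1 hs2
  set A : Matrix (Fin 2 ⊕ Fin 2) (Fin 2 ⊕ Fin 2) K :=
    ((x : Matrix (Fin 2 ⊕ Fin 2) (Fin 2 ⊕ Fin 2) F)).map (algebraMap F K) with hAdef
  have hroots : A.charpoly.roots = {l1, l1⁻¹, l2, l2⁻¹} := by rw [hA, hfac, p4su5_roots]
  have hχ0 : A.charpoly ≠ 0 := (Matrix.charpoly_monic A).ne_zero
  have key := Cfsg.Agent.Lib.Helper1.MEO.pow_eq_of_roots_mult p A N e hN c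
    (fun μ hμ => hpow μ (by rw [← hroots]; exact (mem_roots hχ0).mpr hμ))
    (fun μ => by rw [← count_roots, hroots]; exact hcount μ)
  have hc' : c ^ (p ^ e) = 1 ∨ c ^ (p ^ e) = -1 := by
    rcases hc with rfl | rfl
    · left
      exact one_pow _
    · exact neg_one_pow_eq_or K _
  have hmap : A ^ (N * p ^ e) =
      (algebraMap F K).mapMatrix ((x : Matrix (Fin 2 ⊕ Fin 2) (Fin 2 ⊕ Fin 2) F) ^ (N * p ^ e)) := by
    rw [map_pow]
    rfl
  have hinj : Function.Injective ((algebraMap F K).mapMatrix :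
      Matrix (Fin 2 ⊕ Fin 2) (Fin 2 ⊕ Fin 2) F → Matrix (Fin 2 ⊕ Fin 2) (Fin 2 ⊕ Fin 2) K) := by
    intro M M' h
    exact Matrix.map_injective hι h
  have hx : (x : Matrix (Fin 2 ⊕ Fin 2) (Fin 2 ⊕ Fin 2) F) ^ (N * p ^ e) = 1 ∨
      (x : Matrix (Fin 2 ⊕ Fin 2) (Fin 2 ⊕ Fin 2) F) ^ (N * p ^ e) = -1 := by
    rcases hc' with h | h
    · left
      apply hinj
      rw [← hmap, key, h, one_smul, map_one]
    · right
      apply hinj
      rw [← hmap, key, h, map_neg, map_one, neg_smul, one_smul]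
  have hdvd := p4su5_order x (N * p ^ e) hx
  rw [hn]
  exact p4su5_inT4_dvd p _ _ _ hT hdvd

end Cfsg.Agent.Lib.helper23.P4S
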