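import Mathlib
import Cfsg.Prelude.Def_Classical
import Cfsg.Agent.Lib.helper23.P4S.Defs
import Cfsg.Agent.Lib.Helper11.P4SU5core
import Cfsg.Agent.Lib.helper14.P4SU1
import Cfsg.Agent.Lib.helper17.P4SU2
import Cfsg.Agent.Lib.helper2.P4SU4core
import Cfsg.Agent.Lib.Helper5.P4SU4A
import Cfsg.Agent.Lib.Helper5.P4SU4B

set_option autoImplicit false

/-!
# P4S row U5 (`sp4_upper`): every element order of `PSp 2 F` satisfies `InT4`.
(U4 `root_data` enters through helper2's `p4su4_core` on the landed rows U4A `data_swap`, U4B `data_fix`.)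
-/

namespace Cfsg.Agent.Lib.helper23.P4S

open Matrix Polynomial

theorem sp4_upper {F : Type*} [Field F] [Fintype F] (p : ℕ) [Fact p.Prime] [CharP F p]
    (x : Matrix.symplecticGroup (Fin 2) F) :
    InT4 p (Fintype.card F) (orderOf (QuotientGroup.mk x : Cfsg.PSp 2 F)) := by
  classical
  have : CharP (AlgebraicClosure F) p := charP_of_injective_algebraMap
    (algebraMap F (AlgebraicClosure F)).injective p
  exact p4su5_core p (K := AlgebraicClosure F) (fun x => sp4_charpoly x) (fun a b => quartic_factor a b)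
    (fun f hf a b l1 l2 hl1 hl2 ha hb h1 h2 =>
      p4su4_core p f hf
        (fun l1 l2 h1 h2 hne h12 h21 => data_swap p f hf l1 l2 h1 h2 hne h12 h21)
        (fun l1 l2 h1 h2 h11 h22 => data_fix p f hf l1 l2 h1 h2 h11 h22)
        a b l1 l2 hl1 hl2 ha hb h1 h2) x

end Cfsg.Agent.Lib.helper23.P4S
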