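import Mathlib
import Cfsg.Prelude.Def_Classical
import Cfsg.Agent.Lib.helper23.P4V.Defs

/-!
# Project P4V (S2460, designer helper23), row FR2 (`tl_conj_frame`), verbatim statement
-/

set_option autoImplicit false

namespace Cfsg.Agent.Lib.helper23.P4V

open Matrix

universe u

section Field

variable {F : Type u} [Field F]

/-- the `inl`-rows of `(-J) * hᵀ * J` applied to a vector are `om · fᵢ` (no frame hypothesis). -/
theorem p4vfr2_row (e₁ e₂ f₁ f₂ w : V F) :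
    (((-Matrix.J (Fin 2) F) * (frameMat e₁ e₂ f₁ f₂)ᵀ * Matrix.J (Fin 2) F) *ᵥ w) (Sum.inl 0) =
        om w f₁ ∧
    (((-Matrix.J (Fin 2) F) * (frameMat e₁ e₂ f₁ f₂)ᵀ * Matrix.J (Fin 2) F) *ᵥ w) (Sum.inl 1) =
        om w f₂ := by
  constructor
  · simp [Matrix.mulVec, dotProduct, Matrix.mul_apply, Matrix.J, frameMat, om,
      Fintype.sum_sum_type, Fin.sum_univ_two, Matrix.fromBlocks, Matrix.one_apply]
    ring
  · simp [Matrix.mulVec, dotProduct, Matrix.mul_apply, Matrix.J, frameMat, om,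
      Fintype.sum_sum_type, Fin.sum_univ_two, Matrix.fromBlocks, Matrix.one_apply]
    ring

/-- columns of the frame matrix. -/
theorem p4vfr2_col (g : M4 F) (e₁ e₂ f₁ f₂ : V F) :
    (fun k => (g * frameMat e₁ e₂ f₁ f₂) k (Sum.inl 0)) = g *ᵥ e₁ ∧
    (fun k => (g * frameMat e₁ e₂ f₁ f₂) k (Sum.inl 1)) = g *ᵥ e₂ := by
  constructor
  · funext k
    simp [Matrix.mul_apply, Matrix.mulVec, dotProduct, frameMat]
  · funext k
    simp [Matrix.mul_apply, Matrix.mulVec, dotProduct, frameMat]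

theorem tl_conj_frame (g : Sp4 F) (e₁ e₂ f₁ f₂ : V F) (h : IsFrame e₁ e₂ f₁ f₂) (c : Sp4 F)
    (hc : (c : M4 F) = frameMat e₁ e₂ f₁ f₂) :
    ((c⁻¹ * g * c : Sp4 F) : M4 F).toBlocks₁₁ = amat (g : M4 F) e₁ e₂ f₁ f₂ := by
  have hM : ((c⁻¹ * g * c : Sp4 F) : M4 F) =
      ((-Matrix.J (Fin 2) F) * (frameMat e₁ e₂ f₁ f₂)ᵀ * Matrix.J (Fin 2) F) *
        ((g : M4 F) * frameMat e₁ e₂ f₁ f₂) := by
    rw [← hc, ← SymplecticGroup.coe_inv, mul_assoc]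
    rfl
  have key : ∀ (i j : Fin 2), ((c⁻¹ * g * c : Sp4 F) : M4 F) (Sum.inl i) (Sum.inl j) =
      (((-Matrix.J (Fin 2) F) * (frameMat e₁ e₂ f₁ f₂)ᵀ * Matrix.J (Fin 2) F) *ᵥ
        (fun k => ((g : M4 F) * frameMat e₁ e₂ f₁ f₂) k (Sum.inl j))) (Sum.inl i) := by
    intro i j
    rw [hM, Matrix.mul_apply]
    rfl
  obtain ⟨c0, c1⟩ := p4vfr2_col (g : M4 F) e₁ e₂ f₁ f₂
  ext i j
  rw [Matrix.toBlocks₁₁, Matrix.of_apply, key]
  fin_cases i <;> fin_cases j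
  · show _ = om ((g : M4 F) *ᵥ e₁) f₁
    simp only [Fin.zero_eta, c0]
    exact (p4vfr2_row e₁ e₂ f₁ f₂ _).1
  · show _ = om ((g : M4 F) *ᵥ e₂) f₁
    simp only [Fin.zero_eta, Fin.mk_one, c1]
    exact (p4vfr2_row e₁ e₂ f₁ f₂ _).1
  · show _ = om ((g : M4 F) *ᵥ e₁) f₂
    simp only [Fin.zero_eta, Fin.mk_one, c0]
    exact (p4vfr2_row e₁ e₂ f₁ f₂ _).2
  · show _ = om ((g : M4 F) *ᵥ e₂) f₂
    simp only [Fin.mk_one, c1]
    exact (p4vfr2_row e₁ e₂ f₁ f₂ _).2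

end Field

end Cfsg.Agent.Lib.helper23.P4V
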