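import Mathlib
import Cfsg.Prelude.Def_Classical
import Cfsg.Agent.Lib.helper23.P4V.Defs

/-!
# Project P4V (S2460, designer helper23), row FR4 (`exists_frame_of_pair`), verbatim statement
(self-contained: own-name bilinearity lemmas)
-/

set_option autoImplicit false

namespace Cfsg.Agent.Lib.helper23.P4V

open Matrix

universe u

section Field

variable {F : Type u} [Field F]

theorem p4vfr4_add_left (u u' v : V F) : om (u + u') v = om u v + om u' v := by
  unfold om; simp only [Pi.add_apply]; ring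

theorem p4vfr4_sub_left (u u' v : V F) : om (u - u') v = om u v - om u' v := by
  unfold om; simp only [Pi.sub_apply]; ring

theorem p4vfr4_smul_left (c : F) (u v : V F) : om (c • u) v = c * om u v := by
  unfold om; simp only [Pi.smul_apply, smul_eq_mul]; ring

theorem p4vfr4_add_right (u v v' : V F) : om u (v + v') = om u v + om u v' := by
  unfold om; simp only [Pi.add_apply]; ring

theorem p4vfr4_sub_right (u v v' : V F) : om u (v - v') = om u v - om u v' := by
  unfold om; simp only [Pi.sub_apply]; ring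

theorem p4vfr4_smul_right (c : F) (u v : V F) : om u (c • v) = c * om u v := by
  unfold om; simp only [Pi.smul_apply, smul_eq_mul]; ring

theorem p4vfr4_self (u : V F) : om u u = 0 := by
  unfold om; ring

theorem p4vfr4_swap (u v : V F) : om v u = -om u v := by
  unfold om; ring

/-- the projection onto the orthogonal complement of a hyperbolic pair. -/
def p4vfr4_pr (e f u : V F) : V F := u - om u f • e + om u e • f

theorem p4vfr4_pr_e (e f : V F) (h : om e f = 1) (u : V F) : om (p4vfr4_pr e f u) e = 0 := by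
  unfold p4vfr4_pr
  rw [p4vfr4_add_left, p4vfr4_sub_left, p4vfr4_smul_left, p4vfr4_smul_left, p4vfr4_self,
    p4vfr4_swap e f, h]
  ring

theorem p4vfr4_pr_f (e f : V F) (h : om e f = 1) (u : V F) : om (p4vfr4_pr e f u) f = 0 := by
  unfold p4vfr4_pr
  rw [p4vfr4_add_left, p4vfr4_sub_left, p4vfr4_smul_left, p4vfr4_smul_left, p4vfr4_self, h]
  ring

theorem p4vfr4_pr_pr (e f : V F) (h : om e f = 1) (u w : V F) :
    om (p4vfr4_pr e f u) (p4vfr4_pr e f w) = om u w - om u f * om e w + om u e * om f w := by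
  have h1 : om (p4vfr4_pr e f u) (p4vfr4_pr e f w) = om (p4vfr4_pr e f u) w := by
    conv_lhs => rw [p4vfr4_pr.eq_1 e f w]
    rw [p4vfr4_add_right, p4vfr4_sub_right, p4vfr4_smul_right, p4vfr4_smul_right,
      p4vfr4_pr_e e f h, p4vfr4_pr_f e f h]
    ring
  rw [h1]
  unfold p4vfr4_pr
  rw [p4vfr4_add_left, p4vfr4_sub_left, p4vfr4_smul_left, p4vfr4_smul_left]

/-- the reduced form is never identically zero (Pluecker identity at the standard basis). -/
theorem p4vfr4_exists (e f : V F) :
    ∃ u w : V F, om u w - om u f * om e w + om u e * om f w ≠ 0 := by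
  by_contra H
  push Not at H
  have h13 := H (Pi.single (Sum.inl 0) 1) (Pi.single (Sum.inr 0) 1)
  have h24 := H (Pi.single (Sum.inl 1) 1) (Pi.single (Sum.inr 1) 1)
  have h12 := H (Pi.single (Sum.inl 0) 1) (Pi.single (Sum.inl 1) 1)
  have h14 := H (Pi.single (Sum.inl 0) 1) (Pi.single (Sum.inr 1) 1)
  simp [om] at h13 h24 h12 h14
  apply one_ne_zero (α := F)
  set a1 := e (Sum.inl 0)
  set a2 := e (Sum.inl 1)
  set a3 := e (Sum.inr 0)
  set a4 := e (Sum.inr 1)
  set c1 := f (Sum.inl 0)
  set c2 := f (Sum.inl 1)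
  set c3 := f (Sum.inr 0)
  set c4 := f (Sum.inr 1)
  linear_combination h13 + (a1 * c3 - a3 * c1) * h24 - (a1 * c2 - a2 * c1) * h12
    - (a1 * c4 - a4 * c1) * h14

theorem exists_frame_of_pair (e f : V F) (h : om e f = 1) : ∃ e₂ f₂ : V F, IsFrame e e₂ f f₂ := by
  obtain ⟨u, w, huw⟩ := p4vfr4_exists e f
  rw [← p4vfr4_pr_pr e f h u w] at huw
  refine ⟨p4vfr4_pr e f u, (om (p4vfr4_pr e f u) (p4vfr4_pr e f w))⁻¹ • p4vfr4_pr e f w, ?_⟩
  refine ⟨?_, ?_, h, ?_, ?_, ?_⟩
  · rw [p4vfr4_swap, p4vfr4_pr_e e f h, neg_zero]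
  · rw [p4vfr4_swap, p4vfr4_smul_left, p4vfr4_pr_f e f h, mul_zero, neg_zero]
  · rw [p4vfr4_smul_right, inv_mul_cancel₀ huw]
  · rw [p4vfr4_swap, p4vfr4_smul_left, p4vfr4_pr_e e f h, mul_zero, neg_zero]
  · exact p4vfr4_pr_f e f h _

end Field

end Cfsg.Agent.Lib.helper23.P4V
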