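import Mathlib
import Cfsg.Agent.Lib.Helper22.PG.Defs
import Cfsg.Agent.Lib.helper8.SylowBasic
import Cfsg.Agent.Lib.Helper1.PGL1
import Cfsg.Agent.Lib.Helper1.PGNC

set_option autoImplicit false

/-! Project PG (S2490), pieces C1 and C12: if the normaliser of a Sylow 11-subgroup of a group of
order 7920 has order divisible by 660 (i.e. `n₁₁ ∈ {1, 12}`), the prime graph is connected. -/

namespace Cfsg.Agent.Lib.Helper22.PG

open Subgroup

/-- commuting elements of coprime orders `p`, `q` give `Adj G p q` -/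
theorem h11_adj_of_commute {G : Type*} [Group G] (p q : ℕ) (hpq : p.Coprime q) (x k : G)
    (hx : orderOf x = p) (hk : orderOf k = q) (hc : x * k = k * x) : Adj G p q := by
  refine ⟨x * k, ?_⟩
  have h : Commute x k := hc
  rw [h.orderOf_mul_eq_mul_orderOf_of_coprime (by rw [hx, hk]; exact hpq), hx, hk]

/-- an element of prime order `p` in a subgroup whose order is divisible by `p` -/
theorem h11_exists_orderOf_mem {G : Type*} [Group G] [Finite G] (C : Subgroup G) (p : ℕ)
    (hp : p.Prime) (h : p ∣ Nat.card C) : ∃ t : G, t ∈ C ∧ orderOf t = p := by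
  have : Fact p.Prime := ⟨hp⟩
  obtain ⟨t, ht⟩ := exists_prime_orderOf_dvd_card' (G := C) p h
  exact ⟨(t : G), t.2, by rw [Subgroup.orderOf_coe]; exact ht⟩

/-- the key lemma for C1 and C12 -/
theorem h11_conn_of_normalizer {G : Type*} [Group G] [Finite G] (hord : Nat.card G = 7920)
    (P : Subgroup G) (hP : Nat.card P = 11)
    (hN : 660 ∣ Nat.card (normalizer (P : Set G))) : Conn G := by
  set N := normalizer (P : Set G) with hNdef
  set C := centralizer (P : Set G) with hCdef
  have hCN : C ≤ N := centralizer_le_normalizer _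
  have hidx : C.relIndex N ∣ 10 := nc_relIndex_dvd P hP
  have hcardK : Nat.card (C.subgroupOf N) = Nat.card C :=
    Nat.card_congr (subgroupOfEquivOfLe hCN).toEquiv
  have hmul : Nat.card C * C.relIndex N = Nat.card N := by
    rw [← hcardK]
    exact (C.subgroupOf N).card_mul_index
  have hCdvd : Nat.card C ∣ 7920 := hord ▸ Subgroup.card_subgroup_dvd_card C
  have h66 : 66 ∣ Nat.card C := by
    have hi : C.relIndex N ∈ Nat.divisors 10 := Nat.mem_divisors.2 ⟨hidx, by norm_num⟩
    have hd : Nat.divisors 10 = {1, 2, 5, 10} := by decide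
    rw [hd] at hi
    simp only [Finset.mem_insert, Finset.mem_singleton] at hi
    rw [← hmul] at hN
    rcases hi with hi | hi | hi | hi <;> rw [hi] at hN <;> omega
  -- a generator of `P`
  obtain ⟨y, hyP, hy⟩ := h11_exists_orderOf_mem P 11 (by norm_num) (by rw [hP])
  have hcomm : ∀ t ∈ C, y * t = t * y := fun t ht =>
    (Subgroup.mem_centralizer_iff.1 ht y hyP)
  have hadj : ∀ p : ℕ, p.Prime → p ≠ 11 → p ∣ Nat.card C → Adj G 11 p := by
    intro p hp hp11 hpC
    obtain ⟨t, htC, ht⟩ := h11_exists_orderOf_mem C p hp hpC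
    refine h11_adj_of_commute 11 p ?_ y t hy ht (hcomm t htC)
    exact (Nat.coprime_primes (by norm_num) hp).2 (Ne.symm hp11)
  refine ⟨hadj 2 (by norm_num) (by norm_num) (dvd_trans (by norm_num) h66),
    hadj 3 (by norm_num) (by norm_num) (dvd_trans (by norm_num) h66), ?_⟩
  by_cases h5 : 5 ∣ Nat.card C
  · exact Or.inl (hadj 5 (by norm_num) (by norm_num) h5)
  · right
    have h5N : 5 ∣ Nat.card N := dvd_trans (by norm_num) hN
    have h3K : 3 ∣ Nat.card (C.subgroupOf N) := by
      rw [hcardK]; exact dvd_trans (by norm_num) h66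
    have h5K : ¬ 5 ∣ Nat.card (C.subgroupOf N) := by rw [hcardK]; exact h5
    have harith : ∀ a b : ℕ, 3 ^ a ∣ Nat.card (C.subgroupOf N) → b < a →
        ¬ 5 ∣ 3 ^ a - 3 ^ b := by
      intro a b ha hb
      rw [hcardK] at ha
      have ha' : 3 ^ a ∣ 7920 := dvd_trans ha hCdvd
      have ha2 : a ≤ 2 := by
        by_contra hcon
        push Not at hcon
        have : 3 ^ 3 ∣ 7920 := dvd_trans (pow_dvd_pow 3 hcon) ha'
        norm_num at this
      interval_cases a <;> interval_cases b <;> norm_num
    obtain ⟨x, k, hx, hk, -, hxk⟩ :=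
      exists_commuting_of_normal (G₀ := N) (C.subgroupOf N) 5 3 (by norm_num) (by norm_num)
        h5N h5K h3K harith
    refine h11_adj_of_commute 5 3 (by norm_num) (x : G) (k : G) ?_ ?_ ?_
    · rw [Subgroup.orderOf_coe]; exact hx
    · rw [Subgroup.orderOf_coe]; exact hk
    · have := congrArg (Subtype.val) hxk
      simpa using this

/-- PG-C1 -/
theorem conn_of_n11_eq_one {G : Type*} [Group G] [Finite G] (hord : Nat.card G = 7920)
    (hn : Nat.card (Sylow 11 G) = 1) : Conn G := by
  obtain ⟨P⟩ : Nonempty (Sylow 11 G) := inferInstance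
  have hP : Nat.card (P : Subgroup G) = 11 := by
    have := Cfsg.Agent.Lib.helper8.h8_sylow_card 11 1 720 (by rw [hord]; norm_num) (by norm_num) P
    simpa using this
  have hNP := Cfsg.Agent.Lib.helper8.h8_card_normalizer_sylow 11 P
  rw [hn, hord, mul_one] at hNP
  exact h11_conn_of_normalizer hord (P : Subgroup G) hP (by rw [hNP]; norm_num)

/-- PG-C12 -/
theorem conn_of_n11_eq_twelve {G : Type*} [Group G] [Finite G] (hord : Nat.card G = 7920)
    (hn : Nat.card (Sylow 11 G) = 12) : Conn G := by
  obtain ⟨P⟩ : Nonempty (Sylow 11 G) := inferInstance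
  have hP : Nat.card (P : Subgroup G) = 11 := by
    have := Cfsg.Agent.Lib.helper8.h8_sylow_card 11 1 720 (by rw [hord]; norm_num) (by norm_num) P
    simpa using this
  have hNP := Cfsg.Agent.Lib.helper8.h8_card_normalizer_sylow 11 P
  rw [hn, hord] at hNP
  have h660 : Nat.card (normalizer ((P : Subgroup G) : Set G)) = 660 := by omega
  exact h11_conn_of_normalizer hord (P : Subgroup G) hP (by rw [h660])

end Cfsg.Agent.Lib.Helper22.PG
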