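import Cfsg.Agent.Lib.Helper1.PLK.Defs
import Cfsg.Agent.Lib.Helper11.PLKU8core
import Cfsg.Agent.Lib.helper2.PLKU6core
import Cfsg.Agent.Lib.Helper16.PLKU3
import Cfsg.Agent.Lib.Helper16.PLKU4c
import Cfsg.Agent.Lib.helper7.PLKU7

/-!
Project PLK (S2480, designer helper1), row U8 `count_add_nu` (verbatim): `plku8_core` on helper2's
`plku6_core` (the content of U6 on the landed rows U3, U4c) and the landed row U7.
-/

set_option autoImplicit false

namespace Cfsg.Agent.Lib.Helper1.PLK

open Polynomial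
open Cfsg.Agent.Lib.Helper29.GLK
open Cfsg.Agent.Lib.Helper1.SLK

universe u

/-- U8 [M] the multiplicity of `P` in `G i` from the kernel dimensions: U6, U7 on
`s = {j | p j ~ P}`, and `glkB_count` (Helper29.GLK.PieceB2; `normalize (p j) = P ↔ p j ~ P` for monic
`P`). -/
theorem count_add_nu {F : Type u} [Field F] [DecidableEq F] {n : ℕ}
    (x : Matrix.GeneralLinearGroup (Fin n) F) (G : ℕ → F[X]) (h : IsInv x G)
    (P : F[X]) (hP : Irreducible P) (hPm : P.Monic) (i : ℕ) :
    P.natDegree * Multiset.count P (UniqueFactorizationMonoid.normalizedFactors (G i)) +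
        nu x (P ^ (i + 2)) + nu x (P ^ i) = 2 * nu x (P ^ (i + 1)) :=
  plku8_core
    (fun x _ _ p e hp Φ P hP k =>
      plku6_core x (fun M _ _ _ f => finrank_ker_lmap M f)
        (fun p hp e k => finrank_ker_quot_pow p hp e k) p e hp Φ P hP k)
    (fun s e k => min_identity s e k) x G h P hP hPm i

end Cfsg.Agent.Lib.Helper1.PLK
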