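import Cfsg.Agent.Lib.Helper1.PLK.Defs

/-!
Project PLK (S2480, designer helper1), row U9 `count_twist`: core.  The statements of the rows U1
(`nu_conj`), U2 (`nu_twist`), U2b (`nu_C_mul`), U8 (`count_add_nu`), U9a (`tw_props`) are hypotheses.
-/

set_option autoImplicit false

namespace Cfsg.Agent.Lib.Helper1.PLK

open Polynomial
open Cfsg.Agent.Lib.Helper29.GLK
open Cfsg.Agent.Lib.Helper1.SLK

universe u

/-- `P(ζ X) = ζ ^ deg P * tw ζ P` -/
theorem plku9_comp_eq {F : Type u} [Field F] (ζ : Fˣ) (P : F[X]) :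
    P.comp (C (ζ : F) * X) = C ((ζ : F) ^ P.natDegree) * tw ζ P := by
  unfold tw
  rw [← mul_assoc, ← C_mul, ← mul_pow]
  have : (ζ : F) * ((ζ⁻¹ : Fˣ) : F) = 1 := by
    rw [← Units.val_mul, mul_inv_cancel, Units.val_one]
  rw [this, one_pow, C_1, one_mul]

/-- core of U9 (`count_twist`) -/
theorem plku9_core {F : Type u} [Field F] [DecidableEq F] {n : ℕ}
    (hU1 : ∀ (x y : Matrix.GeneralLinearGroup (Fin n) F), IsConj x y → ∀ a : F[X],
      nu x a = nu y a)
    (hU2 : ∀ (x y : Matrix.GeneralLinearGroup (Fin n) F) (ζ : Fˣ),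
      (y : Matrix (Fin n) (Fin n) F) = (ζ : F) • (x : Matrix (Fin n) (Fin n) F) → ∀ a : F[X],
      nu y a = nu x (a.comp (C (ζ : F) * X)))
    (hU2b : ∀ (x : Matrix.GeneralLinearGroup (Fin n) F) (u : F), u ≠ 0 → ∀ a : F[X],
      nu x (C u * a) = nu x a)
    (hU8 : ∀ (x : Matrix.GeneralLinearGroup (Fin n) F) (G : ℕ → F[X]), IsInv x G →
      ∀ (P : F[X]), Irreducible P → P.Monic → ∀ i : ℕ,
      P.natDegree * Multiset.count P (UniqueFactorizationMonoid.normalizedFactors (G i)) +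
        nu x (P ^ (i + 2)) + nu x (P ^ i) = 2 * nu x (P ^ (i + 1)))
    (hU9a : ∀ (ζ : Fˣ) (P : F[X]), Irreducible P → P.Monic →
      Irreducible (tw ζ P) ∧ (tw ζ P).Monic ∧ (tw ζ P).natDegree = P.natDegree ∧
        tw ζ⁻¹ (tw ζ P) = P)
    (x y : Matrix.GeneralLinearGroup (Fin n) F) (ζ : Fˣ)
    (hy : (y : Matrix (Fin n) (Fin n) F) = (ζ : F) • (x : Matrix (Fin n) (Fin n) F))
    (hc : IsConj y x) (G : ℕ → F[X]) (h : IsInv x G)
    (P : F[X]) (hP : Irreducible P) (hPm : P.Monic) (i : ℕ) :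
    Multiset.count P (UniqueFactorizationMonoid.normalizedFactors (G i)) =
      Multiset.count (tw ζ P) (UniqueFactorizationMonoid.normalizedFactors (G i)) := by
  obtain ⟨hQ, hQm, hQd, -⟩ := hU9a ζ P hP hPm
  have hnu : ∀ k : ℕ, nu x (P ^ k) = nu x (tw ζ P ^ k) := by
    intro k
    rw [hU1 x y hc.symm (P ^ k), hU2 x y ζ hy (P ^ k), pow_comp, plku9_comp_eq, mul_pow, ← C_pow]
    apply hU2b
    exact pow_ne_zero _ (pow_ne_zero _ ζ.ne_zero)
  have h1 := hU8 x G h P hP hPm i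
  have h2 := hU8 x G h (tw ζ P) hQ hQm i
  rw [hQd, ← hnu, ← hnu, ← hnu] at h2
  have hd : 0 < P.natDegree := hP.natDegree_pos
  have h3 : P.natDegree * Multiset.count P (UniqueFactorizationMonoid.normalizedFactors (G i)) =
      P.natDegree * Multiset.count (tw ζ P) (UniqueFactorizationMonoid.normalizedFactors (G i)) := by
    omega
  exact Nat.eq_of_mul_eq_mul_left hd h3

end Cfsg.Agent.Lib.Helper1.PLK
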