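import Cfsg.Agent.Lib.Helper1.PLK.Defs
import Cfsg.Agent.Lib.Helper11.PLKU9core
import Cfsg.Agent.Lib.Helper11.PLKU8
import Cfsg.Agent.Lib.helper4.PLKU1
import Cfsg.Agent.Lib.Helper1.PLKU2h1
import Cfsg.Agent.Lib.Helper25.PLKU2b
import Cfsg.Agent.Lib.helper7.PLKU9a

/-!
Project PLK (S2480, designer helper1), row U9 `count_twist` (verbatim): `plku9_core` on the landed
rows U1, U2b, U8, U9a and helper1's spare `plku2_h1_nu_twist` (the statement of U2).
-/

set_option autoImplicit false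

namespace Cfsg.Agent.Lib.Helper1.PLK

open Polynomial
open Cfsg.Agent.Lib.Helper29.GLK
open Cfsg.Agent.Lib.Helper1.SLK

universe u

/-- U9 [M] `ζ x ~ x` forces equal multiplicities of `P` and `tw ζ P`:
`nu x (P^k) = nu y (P^k)` (U1) `= nu x ((P^k).comp (ζ X))` (U2) `= nu x ((tw ζ P)^k)` (U2b, `pow_comp`,
`mul_pow`), then U8 for `P` and `tw ζ P` (U9a) and cancel `deg P ≠ 0`. -/
theorem count_twist {F : Type u} [Field F] [DecidableEq F] {n : ℕ}
    (x y : Matrix.GeneralLinearGroup (Fin n) F) (ζ : Fˣ)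
    (hy : (y : Matrix (Fin n) (Fin n) F) = (ζ : F) • (x : Matrix (Fin n) (Fin n) F))
    (hc : IsConj y x) (G : ℕ → F[X]) (h : IsInv x G)
    (P : F[X]) (hP : Irreducible P) (hPm : P.Monic) (i : ℕ) :
    Multiset.count P (UniqueFactorizationMonoid.normalizedFactors (G i)) =
      Multiset.count (tw ζ P) (UniqueFactorizationMonoid.normalizedFactors (G i)) :=
  plku9_core (fun x y h a => nu_conj x y h a) (fun x y ζ hy a => plku2_h1_nu_twist x y ζ hy a)
    (fun x u hu a => nu_C_mul x u hu a) (fun x G h P hP hPm i => count_add_nu x G h P hP hPm i)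
    (fun ζ P hP hPm => tw_props ζ P hP hPm) x y ζ hy hc G h P hP hPm i

end Cfsg.Agent.Lib.Helper1.PLK
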