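import Mathlib
import Cfsg.Prelude.Def_Characters
import Cfsg.Agent.Lib.helper7.PM2.Defs
import Cfsg.Agent.Lib.helper7.CharCentral
import Cfsg.Agent.Lib.Helper11.AbelianQuot
import Cfsg.Agent.Lib.Helper20.PM2UNIQ
import Cfsg.Agent.Lib.helper14.PM2TI1

/-! Project PM2, piece QP1 (core): `ζ` vanishes off the kernel of every linear character which is trivial
on the centre; the statement `sing_pw_pw` (SI1) is a hypothesis. -/

set_option autoImplicit false
set_option linter.unusedVariables false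
set_option linter.unusedSectionVars false

namespace Cfsg.Agent.Lib.helper7.PM2

open scoped ComplexConjugate

universe u

variable {G : Type u} [Group G] [Fintype G] {p : ℕ} {ζ : G → ℂ} {x : G} {ω : ℂ}

/-- a linear character trivial on the centre is trivial at `x` -/
theorem pm2qp1_lam_x (S : Setting p ζ x ω) (lam : G → ℂ) (hlam : Cfsg.IsCharacter G lam)
    (h1 : lam 1 = 1) : lam x = 1 := by
  have hp := S.hp
  have hp5 := S.hp5
  have hmul := Cfsg.Agent.Lib.helper7.h7_linear_mul hlam h1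
  have hpow : ∀ (y : G) (n : ℕ), lam (y ^ n) = lam y ^ n := by
    intro y n
    induction n with
    | zero => rw [pow_zero, pow_zero, h1]
    | succ n ih => rw [pow_succ, hmul, ih, pow_succ]
  obtain ⟨τ, hτ⟩ := S.inv
  have hinv : lam x⁻¹ = lam x := by
    rw [← hτ, hmul, hmul, mul_right_comm, ← hmul, mul_inv_cancel, h1, one_mul]
  have h2 : lam x ^ 2 = 1 := by
    rw [pow_two]
    nth_rewrite 1 [← hinv]
    rw [← hmul, inv_mul_cancel, h1]
  have h3 : lam x ^ p = 1 := by
    rw [← hpow, ← S.ordx, pow_orderOf_eq_one, h1]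
  have hodd : Odd p := hp.odd_of_ne_two (by omega)
  obtain ⟨r, hr⟩ := hodd
  rw [hr, pow_succ, pow_mul, h2, one_pow, one_mul] at h3
  exact h3

/-- a linear character trivial on the centre is trivial on the `p`-singular elements -/
theorem pm2qp1_lam_sing (S : Setting p ζ x ω) (lam : G → ℂ) (hlam : Cfsg.IsCharacter G lam)
    (h1 : lam 1 = 1) (hZ : ∀ c ∈ Subgroup.center G, lam c = 1) (g : G) (hg : p ∣ orderOf g) :
    lam g = 1 := by
  have hmul := Cfsg.Agent.Lib.helper7.h7_linear_mul hlam h1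
  have hpow : ∀ (y : G) (n : ℕ), lam (y ^ n) = lam y ^ n := by
    intro y n
    induction n with
    | zero => rw [pow_zero, pow_zero, h1]
    | succ n ih => rw [pow_succ, hmul, ih, pow_succ]
  obtain ⟨h, m, hm, c, hc, rfl⟩ := sing_conj S g hg
  rw [hmul, hmul, mul_right_comm, ← hmul, mul_inv_cancel, h1, one_mul, hmul, hpow,
    pm2qp1_lam_x S lam hlam h1, one_pow, one_mul, hZ c hc]

/-- QP1, core -/
theorem pm2qp1_core (S : Setting p ζ x ω) (lam : G → ℂ) (hlam : Cfsg.IsCharacter G lam)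
    (h1 : lam 1 = 1) (hZ : ∀ c ∈ Subgroup.center G, lam c = 1) (g : G) (hg : lam g ≠ 1)
    (hsi1 : ∀ k k' : ℕ, ¬ p ∣ k → ¬ p ∣ k' → k ≡ k' [MOD Nat.card (Subgroup.center G)] →
      ∑ g ∈ sing p G, pw ζ k g * conj (pw ζ k' g) =
        (Nat.card G : ℂ) *
          ((if k ≡ k' [MOD p] ∨ k + k' ≡ 0 [MOD p] then 1 else 0) - 2 / (p : ℂ))) :
    ζ g = 0 := by
  have hp := S.hp
  have hp5 := S.hp5
  have hirrlam := Cfsg.Agent.Lib.helper7.h7_linear_isIrr hlam h1
  have hirr' : Cfsg.IsIrrCharacter G (fun g => lam g * ζ g) := by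
    have := Cfsg.Agent.Lib.Helper11.isIrr_linChar_mul
      (Cfsg.Agent.Lib.Helper25.irrLinearHom ⟨lam, hirrlam⟩ h1) ζ S.irr
    exact this
  -- agreement on the singular elements
  have hagree : ∀ y ∈ sing p G, ζ y = (fun g => lam g * ζ g) y := by
    intro y hy
    rw [mem_sing] at hy
    simp only
    rw [pm2qp1_lam_sing S lam hlam h1 hZ y hy, one_mul]
  -- the norm on the singular elements
  have hnotp : ¬ p ∣ 1 := by
    intro h
    have := Nat.le_of_dvd one_pos h
    omega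
  have hs := hsi1 1 1 hnotp hnotp (Nat.ModEq.refl _)
  rw [if_pos (Or.inl (Nat.ModEq.refl _))] at hs
  have hsum : ((∑ y ∈ sing p G, ‖ζ y‖ ^ 2 : ℝ) : ℂ) = (Nat.card G : ℂ) * (1 - 2 / (p : ℂ)) := by
    rw [← hs]
    push_cast
    refine Finset.sum_congr rfl fun y _ => ?_
    rw [pw_apply, pow_one, Complex.mul_conj, Complex.normSq_eq_norm_sq]
    push_cast
    rfl
  have hsumR : (∑ y ∈ sing p G, ‖ζ y‖ ^ 2 : ℝ) = (Nat.card G : ℝ) * (1 - 2 / (p : ℝ)) := by
    have : ((Nat.card G : ℝ) * (1 - 2 / (p : ℝ)) : ℝ) = ((Nat.card G : ℂ) * (1 - 2 / (p : ℂ))).re := by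
      have h : ((Nat.card G : ℂ) * (1 - 2 / (p : ℂ))) = (((Nat.card G : ℝ) * (1 - 2 / (p : ℝ)) : ℝ) : ℂ) := by
        push_cast
        rfl
      rw [h, Complex.ofReal_re]
    rw [this, ← hsum, Complex.ofReal_re]
  have hbig : (Nat.card G : ℝ) / 2 < ∑ y ∈ sing p G, ‖ζ y‖ ^ 2 := by
    rw [hsumR]
    have hn : (0 : ℝ) < (Nat.card G : ℝ) := by exact_mod_cast Nat.card_pos
    have hpR : (5 : ℝ) < (p : ℝ) := by exact_mod_cast hp5
    have : (1 : ℝ) / 2 < 1 - 2 / (p : ℝ) := by
      rw [lt_sub_iff_add_lt, ← lt_sub_iff_add_lt', div_lt_iff₀ (by linarith)]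
      linarith
    calc (Nat.card G : ℝ) / 2 = (Nat.card G : ℝ) * (1 / 2) := by ring
      _ < (Nat.card G : ℝ) * (1 - 2 / (p : ℝ)) := mul_lt_mul_of_pos_left this hn
  have heq := uniq_of_agree S.irr hirr' (sing p G) hagree hbig
  have hgv : ζ g = lam g * ζ g := congrFun heq g
  have : (1 - lam g) * ζ g = 0 := by
    rw [sub_mul, one_mul, ← hgv, sub_self]
  rcases mul_eq_zero.mp this with h | h
  · exact absurd (sub_eq_zero.mp h).symm hg
  · exact h

end Cfsg.Agent.Lib.helper7.PM2
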