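import Mathlib
import Cfsg.Prelude.Def_Characters
import Cfsg.Agent.Lib.helper7.PM2.Defs
import Cfsg.Agent.Lib.Helper11.PM2QP1core
import Cfsg.Agent.Lib.Helper9.PM2SI1

/-! Project PM2, piece QP1 (zero_off_ker): verbatim wrapper of the core in PM2QP1core. -/

set_option autoImplicit false
set_option linter.unusedVariables false
set_option linter.unusedSectionVars false

namespace Cfsg.Agent.Lib.helper7.PM2

open scoped ComplexConjugate

universe u

variable {G : Type u} [Group G] [Fintype G] {p : ℕ} {ζ : G → ℂ} {x : G} {ω : ℂ}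

/-- QP1 : `ζ` vanishes off the kernel of every linear character which is trivial on the centre -/
theorem zero_off_ker (S : Setting p ζ x ω) (lam : G → ℂ) (hlam : Cfsg.IsCharacter G lam)
    (h1 : lam 1 = 1) (hZ : ∀ c ∈ Subgroup.center G, lam c = 1) (g : G) (hg : lam g ≠ 1) : ζ g = 0 :=
  pm2qp1_core S lam hlam h1 hZ g hg (sing_pw_pw S)

end Cfsg.Agent.Lib.helper7.PM2
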