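import Mathlib
import Cfsg.Prelude.Def_Characters
import Cfsg.Agent.Lib.helper7.PM2.Defs

/-! Project PM2, piece QP2 (core): `ζ` does not vanish on the elements inverting `x`; the statements
`val_invol_mul` (VT) and `nu_norm` (BAS) are hypotheses. -/

set_option autoImplicit false
set_option linter.unusedVariables false
set_option linter.unusedSectionVars false

namespace Cfsg.Agent.Lib.helper7.PM2

open scoped ComplexConjugate

universe u

variable {G : Type u} [Group G] [Fintype G] {p : ℕ} {ζ : G → ℂ} {x : G} {ω : ℂ}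

/-- an element inverting `x` is an involution times a central element -/
theorem pm2qp2_decomp (S : Setting p ζ x ω) (g : G) (hg : g * x * g⁻¹ = x⁻¹) :
    ∃ u d : G, orderOf u = 2 ∧ d ∈ Subgroup.center G ∧ g = u * d := by
  have hp := S.hp
  have hp5 := S.hp5
  -- step 1: g^2 commutes with x
  have h1 : (g * g) * x = x * (g * g) := by
    have e : g * x = x⁻¹ * g := by
      have := congrArg (· * g) hg
      simpa [mul_assoc] using this
    have e' : g * x⁻¹ = x * g := by
      have : x * (g * x⁻¹) = x * (x * g) ↔ g * x⁻¹ = x * g := mul_left_cancel_iff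
      have h2 : x⁻¹ * g * x⁻¹ = g := by
        rw [← e, mul_assoc, mul_inv_cancel, mul_one]
      calc g * x⁻¹ = x * (x⁻¹ * g * x⁻¹) := by group
        _ = x * g := by rw [h2]
    calc g * g * x = g * (g * x) := by rw [mul_assoc]
      _ = g * (x⁻¹ * g) := by rw [e]
      _ = (g * x⁻¹) * g := by rw [mul_assoc]
      _ = (x * g) * g := by rw [e']
      _ = x * (g * g) := by rw [mul_assoc]
  obtain ⟨m, c, hc, hgg⟩ := S.cent (g * g) h1
  have hcc : ∀ y : G, c * y = y * c := fun y => (Subgroup.mem_center_iff.mp hc y).symm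
  -- step 3: conjugating g^2 = x^m c by g
  have h3 : g * (x ^ m * c) * g⁻¹ = x ^ m * c := by
    rw [← hgg]; group
  have h4 : g * (x ^ m * c) * g⁻¹ = (x⁻¹) ^ m * c := by
    have : g * (x ^ m * c) * g⁻¹ = (g * x * g⁻¹) ^ m * c := by
      rw [conj_pow]
      calc g * (x ^ m * c) * g⁻¹ = g * x ^ m * (c * g⁻¹) := by group
        _ = g * x ^ m * (g⁻¹ * c) := by rw [hcc g⁻¹]
        _ = g * x ^ m * g⁻¹ * c := by group
    rw [this, hg]
  have h5 : x ^ (2 * m) = 1 := by
    have : (x⁻¹) ^ m = x ^ m := mul_right_cancel (h4.symm.trans h3)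
    rw [two_mul, pow_add]
    nth_rewrite 1 [← this]
    rw [inv_pow, inv_mul_cancel]
  have h6 : p ∣ m := by
    have := orderOf_dvd_of_pow_eq_one h5
    rw [S.ordx] at this
    rcases (Nat.Prime.dvd_mul hp).mp this with h | h
    · have := Nat.le_of_dvd (by norm_num) h
      omega
    · exact h
  have h7 : x ^ m = 1 := by
    obtain ⟨j, rfl⟩ := h6
    rw [pow_mul, ← S.ordx, pow_orderOf_eq_one, one_pow]
  have hgc : g * g = c := by rw [hgg, h7, one_mul]
  -- step 4: a central square root of c
  obtain ⟨r, hr⟩ := S.oddZ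
  set d : G := c ^ (r + 1) with hd
  have hdc : d ∈ Subgroup.center G := Subgroup.pow_mem _ hc _
  have hco : c ^ (Nat.card (Subgroup.center G)) = 1 := by
    have h := pow_card_eq_one' (G := Subgroup.center G) (x := ⟨c, hc⟩)
    have h' := congrArg Subtype.val h
    rw [Subgroup.coe_pow, Subgroup.coe_one] at h'
    exact h'
  have hdd : d * d = c := by
    rw [hd, ← pow_add]
    have : r + 1 + (r + 1) = Nat.card (Subgroup.center G) + 1 := by omega
    rw [this, pow_succ, hco, one_mul]
  have hdcomm : ∀ y : G, d * y = y * d := fun y => (Subgroup.mem_center_iff.mp hdc y).symm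
  -- step 5: the involution
  refine ⟨g * d⁻¹, d, ?_, hdc, by group⟩
  have hu2 : (g * d⁻¹) ^ 2 = 1 := by
    have hdi : ∀ y : G, d⁻¹ * y = y * d⁻¹ := fun y => by
      have := hdcomm (d⁻¹ * y * d⁻¹)
      have e1 : d * (d⁻¹ * y * d⁻¹) = y * d⁻¹ := by group
      have e2 : d⁻¹ * y * d⁻¹ * d = d⁻¹ * y := by group
      rw [e1, e2] at this
      exact this.symm
    calc (g * d⁻¹) ^ 2 = g * (d⁻¹ * g) * d⁻¹ := by rw [pow_two]; group
      _ = g * (g * d⁻¹) * d⁻¹ := by rw [hdi g]
      _ = (g * g) * (d * d)⁻¹ := by group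
      _ = 1 := by rw [hgc, hdd, mul_inv_cancel]
  have hu1 : g * d⁻¹ ≠ 1 := by
    intro h
    have hgd : g = d := by
      have := congrArg (· * d) h
      simpa using this
    have : g * x * g⁻¹ = x := by
      rw [hgd, hdcomm x]; group
    rw [hg] at this
    have hx2 : x ^ 2 = 1 := by
      rw [pow_two]
      nth_rewrite 1 [← this]
      exact inv_mul_cancel x
    have := orderOf_dvd_of_pow_eq_one hx2
    rw [S.ordx] at this
    have := Nat.le_of_dvd (by norm_num) this
    omega
  exact orderOf_eq_prime hu2 hu1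

/-- QP2, core -/
theorem pm2qp2_core (S : Setting p ζ x ω) (g : G) (hg : g * x * g⁻¹ = x⁻¹)
    (hvim : ∀ u c : G, orderOf u = 2 → c ∈ Subgroup.center G → ζ (u * c) = - nu ζ c)
    (hnorm : ∀ {c : G}, c ∈ Subgroup.center G → ‖nu ζ c‖ = 1) : ζ g ≠ 0 := by
  obtain ⟨u, d, hu, hd, rfl⟩ := pm2qp2_decomp S g hg
  rw [hvim u d hu hd]
  intro h
  have h0 : nu ζ d = 0 := by
    have := neg_eq_zero.mp h
    exact this
  have := hnorm hd
  rw [h0, norm_zero] at this
  exact zero_ne_one this

end Cfsg.Agent.Lib.helper7.PM2
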