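import Mathlib
import Cfsg.Prelude.Def_Characters
import Cfsg.Agent.Lib.helper7.PM2.Defs
import Cfsg.Agent.Lib.Helper11.PM2QP2core
import Cfsg.Agent.Lib.Helper1.PM2VT
import Cfsg.Agent.Lib.Helper19.PM2BAS

/-! Project PM2, piece QP2 (nrm_nonzero): verbatim wrapper of the core in PM2QP2core. -/

set_option autoImplicit false
set_option linter.unusedVariables false
set_option linter.unusedSectionVars false

namespace Cfsg.Agent.Lib.helper7.PM2

open scoped ComplexConjugate

universe u

variable {G : Type u} [Group G] [Fintype G] {p : ℕ} {ζ : G → ℂ} {x : G} {ω : ℂ}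

/-- QP2 : `ζ` does not vanish on `N_G(⟨x⟩) ∖ C_G(x)` -/
theorem nrm_nonzero (S : Setting p ζ x ω) (g : G) (hg : g * x * g⁻¹ = x⁻¹) : ζ g ≠ 0 :=
  pm2qp2_core S g hg (val_invol_mul S) (fun hc => nu_norm S hc)

end Cfsg.Agent.Lib.helper7.PM2
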