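import Mathlib
import Cfsg.Prelude.Def_Characters
import Cfsg.Agent.Lib.helper7.PM2.Defs
import Cfsg.Agent.Lib.Helper11.PM2SIcore
import Cfsg.Agent.Lib.Helper27.PM2TI3
import Cfsg.Agent.Lib.helper23.PM2SINGVAL
import Cfsg.Agent.Lib.Helper25.PM2NUSUM
import Cfsg.Agent.Lib.Helper25.PM2ROOTS1
import Cfsg.Agent.Lib.Helper25.PM2ROOTS2

/-! Project PM2, pieces SI3 (sing_sym_pw) and SI4 (sing_cube): verbatim wrappers of the cores in PM2SIcore. -/

set_option autoImplicit false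
set_option linter.unusedVariables false
set_option linter.unusedSectionVars false

namespace Cfsg.Agent.Lib.helper7.PM2

open scoped ComplexConjugate

universe u

variable {G : Type u} [Group G] [Fintype G] {p : ℕ} {ζ : G → ℂ} {x : G} {ω : ℂ}

/-- SI3 -/
theorem sing_sym_pw (S : Setting p ζ x ω) (k : ℕ) (hk : ¬ p ∣ k)
    (hk2 : k ≡ 2 [MOD Nat.card (Subgroup.center G)]) :
    ∑ g ∈ sing p G, symSq ζ g * conj (pw ζ k g) = (Nat.card G : ℂ) / (p : ℂ) :=
  pm2si3_core S k hk hk2 (sum_sing S) (fun m hm c hc => pw_val S k hk m hm hc)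
    (fun m hm c hc => symSq_val S m hm hc) (nu_sum S 2 k) (root_sum_one S.hp S.prim k hk)

/-- SI4 -/
theorem sing_cube (S : Setting p ζ x ω) (k : ℕ) (hk1 : k ≡ 1 [MOD p])
    (hk2 : k ≡ 2 [MOD Nat.card (Subgroup.center G)]) :
    ∑ g ∈ sing p G, ζ g ^ 2 * conj (pw ζ k g) = 4 * (Nat.card G : ℂ) / (p : ℂ) := by
  have hk : ¬ p ∣ k := by
    intro h
    have h0 : k ≡ 0 [MOD p] := (Nat.modEq_zero_iff_dvd).mpr h
    have h1 : (1 : ℕ) ≡ 0 [MOD p] := hk1.symm.trans h0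
    have := (Nat.modEq_zero_iff_dvd).mp h1
    have h5 := S.hp5
    have := Nat.le_of_dvd one_pos this
    omega
  exact pm2si4_core S k hk1 hk2 (sum_sing S) (fun m hm c hc => pw_val S k hk m hm hc)
    (nu_sum S 2 k) (root_sum_cube S.hp (by have := S.hp5; omega) S.prim)

end Cfsg.Agent.Lib.helper7.PM2
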