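import Mathlib
import Cfsg.Prelude.Def_LocalEven

/-!
# PM3 pieces A2 (Frattini) and T (transport of `IsPMinimal`)
-/

set_option autoImplicit false

namespace Cfsg.Agent.Lib.Helper11.PM3

/-- PIECE A2. -/
theorem eq_top_of_normal_of_sylow_le {X : Type*} [Group X] [Finite X] {p : ℕ} [Fact p.Prime]
    (hX : Cfsg.IsPMinimal p X) (N : Subgroup X) [N.Normal]
    (h : ∀ S : Sylow p X, (S : Subgroup X) ≤ N) : N = ⊤ := by
  by_contra hN
  obtain ⟨S⟩ : Nonempty (Sylow p X) := inferInstance
  obtain ⟨hnn, M, ⟨hM, hSM⟩, huniq⟩ := hX S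
  have key : ∀ H : Subgroup X, (S : Subgroup X) ≤ H → H ≠ ⊤ → H ≤ M := by
    intro H hSH hH
    obtain ⟨M', hM', hHM'⟩ := (eq_top_or_exists_le_coatom H).resolve_left hH
    have := huniq M' ⟨hM', hSH.trans hHM'⟩
    exact this ▸ hHM'
  have hNM : N ≤ M := key N (h S) hN
  have hnorm : Subgroup.normalizer ((S : Subgroup X) : Set X) ≤ M := by
    apply key _ Subgroup.le_normalizer
    intro htop
    exact hnn (Subgroup.normalizer_eq_top_iff.mp htop)
  have hfr := Sylow.normalizer_sup_eq_top' S (h S)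
  have : (⊤ : Subgroup X) ≤ M := hfr ▸ sup_le hnorm hNM
  exact hM.1 (top_le_iff.mp this)

/-- PIECE T.  `p`-minimality is invariant under isomorphism. -/
theorem isPMinimal_of_mulEquiv {X Y : Type*} [Group X] [Group Y] (e : X ≃* Y) (p : ℕ)
    (h : Cfsg.IsPMinimal p X) : Cfsg.IsPMinimal p Y := by
  intro S
  have hrange : (S : Subgroup Y) ≤ e.toMonoidHom.range := by
    rw [MonoidHom.range_eq_top.mpr e.surjective]; exact le_top
  let S' : Sylow p X := S.comapOfInjective e.toMonoidHom e.injective hrange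
  have hS' : (S' : Subgroup X) = (S : Subgroup Y).comap e.toMonoidHom := rfl
  obtain ⟨hnn, M, ⟨hM, hSM⟩, huniq⟩ := h S'
  have hco : ∀ K : Subgroup Y, IsCoatom K ↔ IsCoatom (K.comap e.toMonoidHom) := by
    intro K
    exact (OrderIso.isCoatom_iff e.comapSubgroup K).symm
  refine ⟨?_, M.comap e.symm.toMonoidHom, ⟨?_, ?_⟩, ?_⟩
  · intro hn
    apply hnn
    rw [hS']
    exact hn.comap _
  · rw [hco, Subgroup.comap_comap]
    have : (e.symm.toMonoidHom.comp e.toMonoidHom) = MonoidHom.id X := by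
      ext x; simp
    rw [this, Subgroup.comap_id]
    exact hM
  · intro y hy
    rw [Subgroup.mem_comap]
    apply hSM
    rw [hS', Subgroup.mem_comap]
    simpa using hy
  · rintro K ⟨hK, hSK⟩
    have h1 := huniq (K.comap e.toMonoidHom) ⟨(hco K).mp hK, by
      rw [hS']; exact Subgroup.comap_mono hSK⟩
    rw [← h1, Subgroup.comap_comap]
    have : (e.toMonoidHom.comp e.symm.toMonoidHom) = MonoidHom.id Y := by
      ext x; simp
    rw [this, Subgroup.comap_id]

end Cfsg.Agent.Lib.Helper11.PM3
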