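import Mathlib

/-!
# PM3 piece L1: a 3-subgroup of `A(α)` stabilises a `k`-subset when `3 ∤ C(|α|, k)`
-/

set_option autoImplicit false

namespace Cfsg.Agent.Lib.Helper11.PM3

open Equiv MulAction
open scoped Pointwise

variable {α : Type*} [Fintype α] [DecidableEq α]

/-- PIECE L1. -/
theorem exists_stabilized_set (S : Subgroup (alternatingGroup α)) (hS : IsPGroup 3 S) (k : ℕ)
    (hk : ¬ 3 ∣ (Fintype.card α).choose k) :
    ∃ s : Set α, s.ncard = k ∧ S ≤ stabilizer (alternatingGroup α) s := by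
  have : Fact (Nat.Prime 3) := ⟨Nat.prime_three⟩
  have hcard : ¬ 3 ∣ Nat.card (Set.powersetCard α k) := by
    rw [Set.powersetCard.card, Nat.card_eq_fintype_card]; exact hk
  obtain ⟨t, ht⟩ := hS.nonempty_fixed_point_of_prime_not_dvd_card (Set.powersetCard α k) hcard
  refine ⟨(t : Set α), Set.powersetCard.ncard_eq t, ?_⟩
  intro g hg
  rw [mem_stabilizer_iff]
  have h1 : (⟨g, hg⟩ : S) • t = t := ht ⟨g, hg⟩
  have h2 : (g : Perm α) ∈ stabilizer (Perm α) t := by
    rw [mem_stabilizer_iff]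
    exact h1
  rw [Set.powersetCard.stabilizer_coe, mem_stabilizer_iff] at h2
  exact h2

end Cfsg.Agent.Lib.Helper11.PM3
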