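import Mathlib

/-!
# PM3 pieces L2a, L2b, L2c (arithmetic)
-/

set_option autoImplicit false

namespace Cfsg.Agent.Lib.Helper11.PM3

/-- PIECE L2a (Lucas). -/
theorem choose_three_pow_mul (j u : ℕ) : (3 ^ j * u).choose (3 ^ j) ≡ u [MOD 3] := by
  have : Fact (Nat.Prime 3) := ⟨Nat.prime_three⟩
  induction j with
  | zero => simp [Nat.ModEq]
  | succ j ih =>
    have h := Choose.choose_modEq_choose_mod_mul_choose_div_nat (n := 3 ^ (j + 1) * u)
      (k := 3 ^ (j + 1)) (p := 3)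
    have h1 : 3 ^ (j + 1) * u % 3 = 0 := by
      rw [pow_succ, mul_comm (3 ^ j) 3, mul_assoc]; exact Nat.mul_mod_right _ _
    have h2 : 3 ^ (j + 1) % 3 = 0 := by
      rw [pow_succ]; exact Nat.mul_mod_left _ _
    have h3 : 3 ^ (j + 1) * u / 3 = 3 ^ j * u := by
      rw [pow_succ, mul_comm (3 ^ j) 3, mul_assoc]; exact Nat.mul_div_cancel_left _ (by norm_num)
    have h4 : 3 ^ (j + 1) / 3 = 3 ^ j := by
      rw [pow_succ]; exact Nat.mul_div_cancel _ (by norm_num)
    rw [h1, h2, h3, h4, Nat.choose_zero_right, one_mul] at h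
    exact h.trans ih

/-- PIECE L2b (Lucas). -/
theorem choose_three_pow_mul_add_one (j u : ℕ) (hj : 1 ≤ j) :
    (3 ^ j * u + 1).choose (3 ^ j) ≡ u [MOD 3] := by
  have : Fact (Nat.Prime 3) := ⟨Nat.prime_three⟩
  obtain ⟨i, rfl⟩ : ∃ i, j = i + 1 := ⟨j - 1, by omega⟩
  have h := Choose.choose_modEq_choose_mod_mul_choose_div_nat (n := 3 ^ (i + 1) * u + 1)
    (k := 3 ^ (i + 1)) (p := 3)
  have h1 : (3 ^ (i + 1) * u + 1) % 3 = 1 := by
    rw [pow_succ, mul_comm (3 ^ i) 3, mul_assoc, Nat.mul_add_mod]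
  have h2 : 3 ^ (i + 1) % 3 = 0 := by
    rw [pow_succ]; exact Nat.mul_mod_left _ _
  have h3 : (3 ^ (i + 1) * u + 1) / 3 = 3 ^ i * u := by
    rw [pow_succ, mul_comm (3 ^ i) 3, mul_assoc]
    omega
  have h4 : 3 ^ (i + 1) / 3 = 3 ^ i := by
    rw [pow_succ]; exact Nat.mul_div_cancel _ (by norm_num)
  rw [h1, h2, h3, h4, Nat.choose_zero_right, one_mul] at h
  exact h.trans (choose_three_pow_mul i u)

/-- PIECE L2c (case split, pure arithmetic). -/
theorem case_split (n : ℕ) (hn : 5 ≤ n) :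
    (n = 6 ∨ n = 9 ∨ ∃ a : ℕ, 2 ≤ a ∧ n = 3 ^ a + 1) ∨
    (n % 3 = 2) ∨
    (∃ j u : ℕ, 1 ≤ j ∧ ¬ 3 ∣ u ∧ 2 ≤ u ∧ n = 3 ^ j * u + 1) ∨
    (∃ j u : ℕ, 1 ≤ j ∧ ¬ 3 ∣ u ∧ 4 ≤ u ∧ n = 3 ^ j * u) ∨
    (∃ a : ℕ, 3 ≤ a ∧ n = 3 ^ a) ∨
    (∃ a : ℕ, 2 ≤ a ∧ n = 2 * 3 ^ a) := by
  have hmod : n % 3 = 0 ∨ n % 3 = 1 ∨ n % 3 = 2 := by omega
  rcases hmod with h0 | h1 | h2
  · -- 3 ∣ n
    obtain ⟨j, u, hu3, hju⟩ := Nat.exists_eq_pow_mul_and_not_dvd (n := n) (by omega) 3 (by norm_num)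
    have hj : 1 ≤ j := by
      by_contra hj0
      have : j = 0 := by omega
      subst this
      rw [pow_zero, one_mul] at hju
      exact hu3 (hju ▸ Nat.dvd_of_mod_eq_zero h0)
    have hu0 : u ≠ 0 := fun h => hu3 (h ▸ dvd_zero 3)
    have hu3' : u ≠ 3 := fun h => hu3 (by rw [h])
    by_cases hu1 : u = 1
    · subst hu1
      rw [mul_one] at hju
      by_cases hj2 : j = 2
      · left; right; left; rw [hju, hj2]; norm_num
      · have hj3 : 3 ≤ j := by
          by_contra hlt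
          have : j = 1 := by omega
          rw [this] at hju; omega
        right; right; right; right; left
        exact ⟨j, hj3, hju⟩
    by_cases hu2 : u = 2
    · subst hu2
      by_cases hj1 : j = 1
      · left; left; rw [hju, hj1]; norm_num
      · right; right; right; right; right
        exact ⟨j, by omega, by rw [hju]; ring⟩
    · right; right; right; left
      exact ⟨j, u, hj, hu3, by omega, hju⟩
  · -- n ≡ 1
    obtain ⟨j, u, hu3, hju⟩ :=
      Nat.exists_eq_pow_mul_and_not_dvd (n := n - 1) (by omega) 3 (by norm_num)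
    have hj : 1 ≤ j := by
      by_contra hj0
      have : j = 0 := by omega
      subst this
      rw [pow_zero, one_mul] at hju
      exact hu3 (hju ▸ (by omega : 3 ∣ n - 1))
    have hu0 : u ≠ 0 := fun h => hu3 (h ▸ dvd_zero 3)
    have hn' : n = 3 ^ j * u + 1 := by omega
    by_cases hu1 : u = 1
    · subst hu1
      rw [mul_one] at hn'
      left; right; right
      refine ⟨j, ?_, hn'⟩
      by_contra hlt
      have : j = 1 := by omega
      rw [this] at hn'; omega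
    · right; right; left
      exact ⟨j, u, hj, hu3, by omega, hn'⟩
  · right; left; exact h2

end Cfsg.Agent.Lib.Helper11.PM3
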