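import Cfsg.Prelude.Def_LocalEven
import Cfsg.Agent.Lib.Helper11.PM3.Defs
import Cfsg.Agent.Lib.Helper11.PM3L1
import Cfsg.Agent.Lib.Helper11.PM3L2
import Cfsg.Agent.Lib.Helper28.PM3L3
import Cfsg.Agent.Lib.Helper28.PM3L5
import Cfsg.Agent.Lib.Helper13.PM3L4
import Cfsg.Agent.Lib.Helper13.PM3L6
import Cfsg.Agent.Lib.Helper13.PM3L7
import Cfsg.Agent.Lib.Helper18.PM3L8
import Cfsg.Agent.Lib.Helper18.PM3L9

/-!
# PM3 (S2930): assembly of Part B — `A(α)` is not 3-minimal outside the list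
-/

set_option autoImplicit false

namespace Cfsg.Agent.Lib.Helper11.PM3

open Equiv MulAction
open scoped Pointwise

variable {α : Type*} [Fintype α] [DecidableEq α]

/-- a set stabiliser of a `k`-set with `1 ≤ k`, `k + 2 ≤ n` is proper -/
theorem stabilizer_ne_top_of_ncard {s : Set α} {k : ℕ} (hs : s.ncard = k) (hk : 1 ≤ k)
    (hk2 : k + 2 ≤ Fintype.card α) : stabilizer (alternatingGroup α) s ≠ ⊤ := by
  have h0 : s.Nonempty := by
    rw [← Set.ncard_pos]; omega
  have hc : sᶜ.ncard = Fintype.card α - k := by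
    have := Set.ncard_add_ncard_compl s
    rw [Nat.card_eq_fintype_card] at this
    omega
  have h1 : sᶜ.Nontrivial := by
    rw [← Set.one_lt_ncard_iff_nontrivial]
    omega
  exact alternatingGroup.stabilizer_ne_top h0 h1

/-- the unique-coatom principle -/
theorem le_of_unique_coatom {G : Type*} [Group G] [Finite G] {S M : Subgroup G}
    (huniq : ∀ M' : Subgroup G, IsCoatom M' ∧ S ≤ M' → M' = M)
    {H : Subgroup G} (hSH : S ≤ H) (hH : H ≠ ⊤) : H ≤ M := by
  obtain ⟨M', hM', hHM'⟩ := (eq_top_or_exists_le_coatom H).resolve_left hH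
  have := huniq M' ⟨hM', hSH.trans hHM'⟩
  exact this ▸ hHM'

theorem sup_ne_top_of_unique_coatom {G : Type*} [Group G] [Finite G] {S M : Subgroup G}
    (hM : IsCoatom M)
    (huniq : ∀ M' : Subgroup G, IsCoatom M' ∧ S ≤ M' → M' = M)
    {H1 H2 : Subgroup G} (h1 : S ≤ H1) (h2 : S ≤ H2) (h1' : H1 ≠ ⊤) (h2' : H2 ≠ ⊤) :
    H1 ⊔ H2 ≠ ⊤ := by
  intro h
  have := sup_le (le_of_unique_coatom huniq h1 h1') (le_of_unique_coatom huniq h2 h2')
  rw [h] at this
  exact hM.1 (top_le_iff.mp this)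

theorem nonempty_of_ncard {s : Set α} {k : ℕ} (hs : s.ncard = k) (hk : 1 ≤ k) : s.Nonempty := by
  rw [← Set.ncard_pos]; omega

theorem compl_ncard_of_ncard {s : Set α} {k : ℕ} (hs : s.ncard = k) :
    sᶜ.ncard = Fintype.card α - k := by
  have := Set.ncard_add_ncard_compl s
  rw [Nat.card_eq_fintype_card] at this
  omega

/-- cases (A), (B): two set stabilisers -/
theorem two_sets_contra (h5 : 5 ≤ Fintype.card α) {S M : Subgroup (alternatingGroup α)}
    (hS : IsPGroup 3 S) (hM : IsCoatom M)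
    (huniq : ∀ M' : Subgroup (alternatingGroup α), IsCoatom M' ∧ S ≤ M' → M' = M)
    (k1 k2 : ℕ) (hk1 : ¬ 3 ∣ (Fintype.card α).choose k1) (hk2 : ¬ 3 ∣ (Fintype.card α).choose k2)
    (h1 : 1 ≤ k1) (h1' : k1 + 2 ≤ Fintype.card α) (h2 : 1 ≤ k2) (h2' : k2 + 2 ≤ Fintype.card α)
    (hne : Fintype.card α ≠ 2 * k1) (h12 : k1 ≠ k2) (h12' : k1 + k2 ≠ Fintype.card α) : False := by
  obtain ⟨s1, hs1, hSs1⟩ := exists_stabilized_set S hS k1 hk1
  obtain ⟨s2, hs2, hSs2⟩ := exists_stabilized_set S hS k2 hk2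
  have hsup := stabilizer_sup_stabilizer_eq_top h5 s1 s2 (nonempty_of_ncard hs1 h1)
    (by rw [← Set.ncard_pos, compl_ncard_of_ncard hs1]; omega) (by rw [hs1]; exact hne)
    (nonempty_of_ncard hs2 h2) (by rw [← Set.ncard_pos, compl_ncard_of_ncard hs2]; omega)
    (by rw [hs1, hs2]; exact h12) (by rw [hs1, hs2]; exact h12')
  exact sup_ne_top_of_unique_coatom hM huniq hSs1 hSs2 (stabilizer_ne_top_of_ncard hs1 h1 h1')
    (stabilizer_ne_top_of_ncard hs2 h2 h2') hsup

omit [DecidableEq α] in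
theorem exists_not_mem_of_ncard_lt (A : Set α) (h : A.ncard < Fintype.card α) : ∃ z, z ∉ A := by
  by_contra hcon
  push Not at hcon
  have : A = Set.univ := Set.eq_univ_of_forall hcon
  rw [this, Set.ncard_univ, Nat.card_eq_fintype_card] at h
  exact lt_irrefl _ h

omit [DecidableEq α] in
theorem exists_not_rel_two (r : Setoid α) (k : ℕ) (hr : ClassCard r k)
    (hcard : 2 * k < Fintype.card α) (x y : α) : ∃ z, ¬ r x z ∧ ¬ r y z := by
  have h1 : ({z : α | r x z} ∪ {z : α | r y z}).ncard < Fintype.card α := by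
    have := Set.ncard_union_le {z : α | r x z} {z : α | r y z}
    rw [hr x, hr y] at this
    omega
  obtain ⟨z, hz⟩ := exists_not_mem_of_ncard_lt _ h1
  refine ⟨z, fun h => hz (Or.inl h), fun h => hz (Or.inr h)⟩

omit [DecidableEq α] in
theorem exists_rel_ne (r : Setoid α) (k : ℕ) (hr : ClassCard r k) (hk : 2 ≤ k) (x : α) :
    ∃ y, y ≠ x ∧ r x y := by
  have h1 : 1 < ({z : α | r x z}).ncard := by rw [hr x]; omega
  rw [Set.one_lt_ncard_iff] at h1
  obtain ⟨a, b, ha, hb, hab⟩ := h1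
  by_cases hax : a = x
  · exact ⟨b, fun h => hab (hax.trans h.symm), hb⟩
  · exact ⟨a, hax, ha⟩

/-- the stabiliser of a triple setoid is proper -/
theorem setoidStab_ne_top_of_classCard (r : Setoid α) (k : ℕ) (hr : ClassCard r k) (hk : 2 ≤ k)
    (h4 : 4 ≤ Fintype.card α) (hcard : 2 * k < Fintype.card α) : setoidStab r ≠ ⊤ := by
  have hne : Nonempty α := by
    rw [← Fintype.card_pos_iff]; omega
  obtain ⟨x⟩ := hne
  obtain ⟨y, hyx, hxy⟩ := exists_rel_ne r k hr hk x
  obtain ⟨z, hz, -⟩ := exists_not_rel_two r k hr hcard x x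
  exact setoidStab_ne_top h4 r x y z (Ne.symm hyx) hxy hz

theorem apply_mem_of_mem_stabilizer {s : Set α} {g : alternatingGroup α}
    (hg : g ∈ stabilizer (alternatingGroup α) s) {x : α} (hx : x ∈ s) : (g : Perm α) x ∈ s := by
  rw [mem_stabilizer_iff] at hg
  have h1 : g • x ∈ g • s := Set.smul_mem_smul_set hx
  rw [hg] at h1
  exact h1

theorem not_dvd_choose_of_modEq {n k u : ℕ} (h : n.choose k ≡ u [MOD 3]) (hu : ¬ 3 ∣ u) :
    ¬ 3 ∣ n.choose k := by
  intro hd
  apply hu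
  have h0 : n.choose k ≡ 0 [MOD 3] := (Nat.modEq_zero_iff_dvd).mpr hd
  exact (Nat.modEq_zero_iff_dvd).mp (h.symm.trans h0)

/-- case (C) -/
theorem caseC_contra (S : Sylow 3 (alternatingGroup α)) {M : Subgroup (alternatingGroup α)}
    (huniq : ∀ M' : Subgroup (alternatingGroup α),
      IsCoatom M' ∧ (S : Subgroup (alternatingGroup α)) ≤ M' → M' = M)
    (j u : ℕ) (hj : 1 ≤ j) (hu3 : ¬ 3 ∣ u) (hu : 4 ≤ u) (hn : Fintype.card α = 3 ^ j * u) :
    False := by
  have hpow : 3 ≤ 3 ^ j := by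
    calc 3 = 3 ^ 1 := by norm_num
      _ ≤ 3 ^ j := Nat.pow_le_pow_right (by norm_num) hj
  have hn12 : 12 ≤ Fintype.card α := by rw [hn]; nlinarith
  have hlt : 3 ^ j * 2 < Fintype.card α := by rw [hn]; nlinarith
  have hk : ¬ 3 ∣ (Fintype.card α).choose (3 ^ j) := by
    rw [hn]; exact not_dvd_choose_of_modEq (choose_three_pow_mul j u) hu3
  obtain ⟨s, hs, hSs⟩ := exists_stabilized_set (S : Subgroup (alternatingGroup α)) S.2 (3 ^ j) hk
  have hs0 : s.Nonempty := nonempty_of_ncard hs (by omega)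
  have hs1 : sᶜ.Nonempty := by rw [← Set.ncard_pos, compl_ncard_of_ncard hs]; omega
  have hco : IsCoatom (stabilizer (alternatingGroup α) s) :=
    alternatingGroup.isCoatom_stabilizer hs0 hs1 (by rw [Nat.card_eq_fintype_card, hs]; omega)
  have hMs : stabilizer (alternatingGroup α) s = M := huniq _ ⟨hco, hSs⟩
  have hfix := sylow_noFixedPoint (by rw [hn]; exact Dvd.dvd.mul_right (dvd_pow_self 3 (by omega)) u) S
  obtain ⟨r, hr3, hSr, href⟩ := exists_three_block_setoid (S : Subgroup (alternatingGroup α)) S.2 hfix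
  have hrtop : setoidStab r ≠ ⊤ :=
    setoidStab_ne_top_of_classCard r 3 hr3 (by norm_num) (by omega) (by omega)
  have hrM : setoidStab r ≤ stabilizer (alternatingGroup α) s := by
    rw [hMs]; exact le_of_unique_coatom huniq hSr hrtop
  obtain ⟨x, hx⟩ := hs0
  obtain ⟨y, hy⟩ := hs1
  have hside : ∀ a b : α, r a b → a ∈ s → b ∈ s := by
    intro a b hab ha
    obtain ⟨g, hg, hgab⟩ := href a b hab
    rw [← hgab]
    exact apply_mem_of_mem_stabilizer (hSs hg) ha
  have hxy : ¬ r x y := fun h => hy (hside x y h hx)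
  obtain ⟨z, hxz, hyz⟩ := exists_not_rel_two r 3 hr3 (by omega) x y
  obtain ⟨g, hg, hgx, -⟩ := exists_block_swap r hr3 x y z hxy hxz hyz
  exact hy (hside _ _ hgx (apply_mem_of_mem_stabilizer (hrM hg) hx))

/-- case (D) -/
theorem caseD_contra (S : Sylow 3 (alternatingGroup α)) {M : Subgroup (alternatingGroup α)}
    (hM : IsCoatom M)
    (huniq : ∀ M' : Subgroup (alternatingGroup α),
      IsCoatom M' ∧ (S : Subgroup (alternatingGroup α)) ≤ M' → M' = M)
    (a : ℕ) (ha : 3 ≤ a) (hn : Fintype.card α = 3 ^ a) : False := by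
  obtain ⟨b, rfl⟩ : ∃ b, a = b + 1 := ⟨a - 1, by omega⟩
  have hb : 2 ≤ b := by omega
  have hpow : 9 ≤ 3 ^ b := by
    calc 9 = 3 ^ 2 := by norm_num
      _ ≤ 3 ^ b := Nat.pow_le_pow_right (by norm_num) hb
  have hn' : Fintype.card α = 3 * 3 ^ b := by rw [hn, pow_succ]; ring
  have htr := sylow_transitive (b + 1) hn S
  obtain ⟨r, R, hrR, hr3, hRk, hSr, hSR⟩ :=
    exists_big_setoid (b + 1) (by omega) hn (S : Subgroup (alternatingGroup α)) S.2 htr
  rw [Nat.add_sub_cancel] at hRk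
  have hne : Nonempty α := by
    rw [← Fintype.card_pos_iff]; omega
  obtain ⟨x0⟩ := hne
  have hsup := setoidStab_sup_setoidStab_eq_top r R hrR hr3
    (fun x => by
      have h := hRk x
      unfold ClassCard at hRk
      rw [h]; omega)
    (by
      obtain ⟨z, hz, -⟩ := exists_not_rel_two R (3 ^ b) hRk (by omega) x0 x0
      exact ⟨x0, z, hz⟩)
  exact sup_ne_top_of_unique_coatom hM huniq hSr hSR
    (setoidStab_ne_top_of_classCard r 3 hr3 (by norm_num) (by omega) (by omega))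
    (setoidStab_ne_top_of_classCard R (3 ^ b) hRk (by omega) (by omega) (by omega)) hsup

theorem mem_iff_of_mem_stabilizer {s : Set α} {g : alternatingGroup α}
    (hg : g ∈ stabilizer (alternatingGroup α) s) (x : α) : (g : Perm α) x ∈ s ↔ x ∈ s := by
  constructor
  · intro h
    have := apply_mem_of_mem_stabilizer (inv_mem hg) h
    simpa using this
  · exact apply_mem_of_mem_stabilizer hg

omit [Fintype α] [DecidableEq α] in
theorem sideSetoid_class_of_mem {s : Set α} {x : α} (hx : x ∈ s) :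
    {y : α | sideSetoid s x y} = s := by
  ext y
  show (x ∈ s ↔ y ∈ s) ↔ y ∈ s
  exact ⟨fun h => h.mp hx, fun h => ⟨fun _ => h, fun _ => hx⟩⟩

omit [Fintype α] [DecidableEq α] in
theorem sideSetoid_class_of_not_mem {s : Set α} {x : α} (hx : x ∉ s) :
    {y : α | sideSetoid s x y} = sᶜ := by
  ext y
  show (x ∈ s ↔ y ∈ s) ↔ y ∉ s
  exact ⟨fun h hy => hx (h.mpr hy), fun h => ⟨fun h' => absurd h' hx, fun h' => absurd h' h⟩⟩

/-- case (E) -/
theorem caseE_contra (S : Sylow 3 (alternatingGroup α)) {M : Subgroup (alternatingGroup α)}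
    (hM : IsCoatom M)
    (huniq : ∀ M' : Subgroup (alternatingGroup α),
      IsCoatom M' ∧ (S : Subgroup (alternatingGroup α)) ≤ M' → M' = M)
    (a : ℕ) (ha : 2 ≤ a) (hn : Fintype.card α = 2 * 3 ^ a) : False := by
  have hpow : 9 ≤ 3 ^ a := by
    calc 9 = 3 ^ 2 := by norm_num
      _ ≤ 3 ^ a := Nat.pow_le_pow_right (by norm_num) ha
  have hn' : Fintype.card α = 3 ^ a * 2 := by rw [hn]; ring
  have hk : ¬ 3 ∣ (Fintype.card α).choose (3 ^ a) := by
    rw [hn']; exact not_dvd_choose_of_modEq (choose_three_pow_mul a 2) (by norm_num)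
  obtain ⟨s, hs, hSs⟩ := exists_stabilized_set (S : Subgroup (alternatingGroup α)) S.2 (3 ^ a) hk
  have hsc : sᶜ.ncard = 3 ^ a := by rw [compl_ncard_of_ncard hs]; omega
  have hs0 : s.Nonempty := nonempty_of_ncard hs (by omega)
  have hs1 : sᶜ.Nonempty := nonempty_of_ncard hsc (by omega)
  have hfix := sylow_noFixedPoint (by rw [hn']; exact Dvd.dvd.mul_right (dvd_pow_self 3 (by omega)) 2) S
  obtain ⟨r, hr3, hSr, href⟩ := exists_three_block_setoid (S : Subgroup (alternatingGroup α)) S.2 hfix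
  have hrR : r ≤ sideSetoid s := by
    intro x y hxy
    obtain ⟨g, hg, hgxy⟩ := href x y hxy
    rw [sideSetoid_apply, ← hgxy]
    exact (mem_iff_of_mem_stabilizer (hSs hg) x).symm
  have hSR : (S : Subgroup (alternatingGroup α)) ≤ setoidStab (sideSetoid s) := by
    apply le_setoidStab_of_forall
    intro g hg x y hxy
    rw [sideSetoid_apply] at hxy ⊢
    rw [mem_iff_of_mem_stabilizer (hSs hg) x, mem_iff_of_mem_stabilizer (hSs hg) y]
    exact hxy
  have hR6 : ∀ x, 6 ≤ Set.ncard {y : α | sideSetoid s x y} := by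
    intro x
    by_cases hx : x ∈ s
    · rw [sideSetoid_class_of_mem hx, hs]; omega
    · rw [sideSetoid_class_of_not_mem hx, hsc]; omega
  obtain ⟨x, hx⟩ := hs0
  obtain ⟨y, hy⟩ := hs1
  have hxy : ¬ sideSetoid s x y := fun h => hy (h.mp hx)
  have hsup := setoidStab_sup_setoidStab_eq_top r (sideSetoid s) hrR hr3 hR6 ⟨x, y, hxy⟩
  have hRtop : setoidStab (sideSetoid s) ≠ ⊤ := by
    have h1 : 1 < s.ncard := by rw [hs]; omega
    rw [Set.one_lt_ncard_iff] at h1
    obtain ⟨p, q, hp, hq, hpq⟩ := h1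
    exact setoidStab_ne_top (by omega) (sideSetoid s) p q y hpq
      ((sideSetoid_apply s p q).mpr ⟨fun _ => hq, fun _ => hp⟩) (fun h => hy (h.mp hp))
  exact sup_ne_top_of_unique_coatom hM huniq hSr hSR
    (setoidStab_ne_top_of_classCard r 3 hr3 (by norm_num) (by omega) (by omega)) hRtop hsup

/-- ASSEMBLY B -/
theorem alt_pMinimal_cases (h5 : 5 ≤ Fintype.card α)
    (h : Cfsg.IsPMinimal 3 ↥(alternatingGroup α)) :
    Fintype.card α = 6 ∨ Fintype.card α = 9 ∨ ∃ a : ℕ, 2 ≤ a ∧ Fintype.card α = 3 ^ a + 1 := by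
  have : Fact (Nat.Prime 3) := ⟨Nat.prime_three⟩
  obtain ⟨S⟩ : Nonempty (Sylow 3 (alternatingGroup α)) := inferInstance
  obtain ⟨-, M, ⟨hM, -⟩, huniq⟩ := h S
  rcases case_split _ h5 with hlist | hA | ⟨j, u, hj, hu3, hu, hn⟩ | ⟨j, u, hj, hu3, hu, hn⟩ |
    ⟨a, ha, hn⟩ | ⟨a, ha, hn⟩
  · exact hlist
  · -- case (A)
    exfalso
    have hk1 : ¬ 3 ∣ (Fintype.card α).choose 1 := by
      rw [Nat.choose_one_right]; omega
    have hk2 : ¬ 3 ∣ (Fintype.card α).choose 2 := by
      rw [Nat.choose_two_right]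
      intro hd
      obtain ⟨m, hm⟩ : ∃ m, Fintype.card α = 3 * m + 2 := ⟨Fintype.card α / 3, by omega⟩
      rw [hm] at hd
      have h2 : (3 * m + 2) * (3 * m + 2 - 1) = 2 * ((3 * m + 2) * (3 * m + 2 - 1) / 2) := by
        have hev : 2 ∣ (3 * m + 2) * (3 * m + 2 - 1) := by
          have := Nat.even_mul_pred_self (3 * m + 2)
          exact even_iff_two_dvd.mp this
        omega
      obtain ⟨c, hc⟩ := hd
      have h3 : (3 * m + 2) * (3 * m + 2 - 1) = 3 * (2 * c) := by rw [h2, hc]; ring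
      have h4 : (3 * m + 2) * (3 * m + 2 - 1) = 3 * (3 * m * m + 3 * m) + 2 := by
        have : 3 * m + 2 - 1 = 3 * m + 1 := by omega
        rw [this]; ring
      omega
    exact two_sets_contra h5 S.2 hM huniq 1 2 hk1 hk2 (by omega) (by omega) (by omega) (by omega)
      (by omega) (by omega) (by omega)
  · -- case (B)
    exfalso
    have hpow : 3 ≤ 3 ^ j := by
      calc 3 = 3 ^ 1 := by norm_num
        _ ≤ 3 ^ j := Nat.pow_le_pow_right (by norm_num) hj
    have h3j : 3 ∣ 3 ^ j := dvd_pow_self 3 (by omega)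
    have hk1 : ¬ 3 ∣ (Fintype.card α).choose 1 := by
      rw [Nat.choose_one_right, hn]
      intro hd
      have : 3 ∣ 3 ^ j * u := Dvd.dvd.mul_right h3j u
      omega
    have hk2 : ¬ 3 ∣ (Fintype.card α).choose (3 ^ j) := by
      rw [hn]; exact not_dvd_choose_of_modEq (choose_three_pow_mul_add_one j u hj) hu3
    have hbig : 3 ^ j * 2 ≤ 3 ^ j * u := Nat.mul_le_mul_left _ hu
    exact two_sets_contra h5 S.2 hM huniq 1 (3 ^ j) hk1 hk2 (by omega) (by omega) (by omega)
      (by omega) (by omega) (by omega) (by rw [hn]; omega)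
  · exact (caseC_contra S huniq j u hj hu3 hu hn).elim
  · exact (caseD_contra S hM huniq a ha hn).elim
  · exact (caseE_contra S hM huniq a ha hn).elim

end Cfsg.Agent.Lib.Helper11.PM3
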