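import Mathlib
import Cfsg.Agent.Lib.Helper18.PRL.Defs
import Cfsg.Agent.Lib.Helper11.PRLUNI
import Cfsg.Agent.Lib.helper23.PRLCH1
import Cfsg.Agent.Lib.Helper12.PRLG1a
import Cfsg.Agent.Lib.Helper16.PRLU1
import Cfsg.Agent.Lib.Helper25.PRLGEN

set_option autoImplicit false

namespace Cfsg.Agent.Lib.Helper18.PRL

open scoped commutatorElement

universe u

section three
variable {G : Type u} [Group G] [Finite G] {n : ℕ}

/-- PRL-SR2 -/
theorem card_centralizer_le (h : MC 3 G n) (hn : 4 ≤ n) (hyp : Hyp G n (G1 G)) (s : G)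
    (hs : s ∉ G1 G) : Nat.card (Subgroup.centralizer ({s} : Set G)) ≤ 3 ^ 2 := by
  have hidx : (G1 G).index = 3 := G1_index h hn
  have hU : Unif G n s := unif_of_notMem h hn (G1 G) hidx hyp s hs hs
  obtain ⟨hU1, -⟩ := unif_cent h hn s hU
  have hle : G1 G ⊓ Subgroup.centralizer ({s} : Set G) ≤ Z G 1 := by
    rintro g ⟨hg1, hgC⟩
    have hcomm : g * s = s * g := ((Subgroup.mem_centralizer_iff.1 hgC) s rfl).symm
    by_cases hgc : g ∈ commutator G
    · exact hU1 g hgc hcomm
    · exfalso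
      have hnm := comm_notMem h (by omega) (G1 G) hidx s g hs hg1 hgc
      apply hnm
      have h1 : ⁅s, g⁆ = 1 := commutatorElement_eq_one_iff_mul_comm.2 hcomm.symm
      rw [h1]; exact one_mem _
  have hc1 : Nat.card (Z G 1) = 3 := by
    have := card_Z h (by omega) 1 (by omega)
    simpa using this
  have hcard1 : Nat.card ↥(G1 G ⊓ Subgroup.centralizer ({s} : Set G)) ≤ 3 := by
    rw [← hc1]; exact Subgroup.card_le_of_le hle
  have hmul := Subgroup.card_mul_index ((G1 G).subgroupOf (Subgroup.centralizer ({s} : Set G)))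
  have hrel : (G1 G).relIndex (Subgroup.centralizer ({s} : Set G)) ≤ 3 := by
    have h3 : (G1 G).relIndex ⊤ ≠ 0 := by rw [Subgroup.relIndex_top_right, hidx]; norm_num
    have := Subgroup.relIndex_le_of_le_right (H := G1 G)
      (le_top : Subgroup.centralizer ({s} : Set G) ≤ ⊤) h3
    rwa [Subgroup.relIndex_top_right, hidx] at this
  have hcard2 : Nat.card ((G1 G).subgroupOf (Subgroup.centralizer ({s} : Set G))) =
      Nat.card ↥(G1 G ⊓ Subgroup.centralizer ({s} : Set G)) := by
    rw [← Subgroup.inf_subgroupOf_right]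
    exact Nat.card_congr (Subgroup.subgroupOfEquivOfLe inf_le_right).toEquiv
  rw [← hmul, hcard2]
  calc Nat.card ↥(G1 G ⊓ Subgroup.centralizer ({s} : Set G)) *
        ((G1 G).subgroupOf (Subgroup.centralizer ({s} : Set G))).index ≤ 3 * 3 :=
        Nat.mul_le_mul hcard1 hrel
    _ = 3 ^ 2 := by norm_num

end three

end Cfsg.Agent.Lib.Helper18.PRL
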