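import Cfsg.Agent.Lib.Helper16.PS4.Hyps
import Cfsg.Agent.Lib.Helper21.PS4QG
import Cfsg.Agent.S0261

/-!
# Project PS4 (S5320, helper16): piece QS1

A Sylow 2-subgroup `Q` of `SL2(q)`, `q` odd, is generalized quaternion (landed S0261); transport of
the `QuaternionGroup` facts of piece QG along the isomorphism (which sends `-1` to the unique
involution `a n`).
-/

set_option autoImplicit false

namespace Cfsg.Agent.Lib.Helper11.PS4

open Matrix Cfsg.Agent.Lib.Helper16.PS4 Cfsg.Agent.Lib.Helper21.PS4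

section
variable (F : Type*) [Field F]

theorem neg_one_central (g : SL2 F) : g * (-1) = (-1) * g := by
  apply Subtype.ext
  simp

theorem neg_one_sq : (-1 : SL2 F) * (-1) = 1 := by
  apply Subtype.ext
  simp

theorem neg_one_mem [Fintype F] (Q : Sylow 2 (SL2 F)) : (-1 : SL2 F) ∈ Q := by
  have hN : (Subgroup.zpowers (-1 : SL2 F)).Normal := by
    constructor
    intro n hn g
    obtain ⟨k, rfl⟩ := Subgroup.mem_zpowers_iff.mp hn
    have : g * (-1 : SL2 F) ^ k * g⁻¹ = (-1 : SL2 F) ^ k := by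
      have hc : Commute g ((-1 : SL2 F) ^ k) := (Commute.zpow_right (neg_one_central F g) k)
      rw [hc.eq, mul_inv_cancel_right]
    rw [this]
    exact Subgroup.zpow_mem_zpowers _ k
  have hp : IsPGroup 2 (Subgroup.zpowers (-1 : SL2 F)) := by
    intro x
    refine ⟨1, ?_⟩
    obtain ⟨k, hk⟩ := Subgroup.mem_zpowers_iff.mp x.2
    apply Subtype.ext
    show (x : SL2 F) ^ 2 ^ 1 = 1
    rw [← hk, pow_one, ← zpow_natCast, ← _root_.zpow_mul, mul_comm, _root_.zpow_mul, zpow_natCast, pow_two,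
      neg_one_sq, _root_.one_zpow]
  exact hp.le_sylow_of_normal Q (Subgroup.mem_zpowers _)

theorem neg_one_ne_one' (h2 : (2 : F) ≠ 0) : (-1 : SL2 F) ≠ 1 := by
  intro h
  have h1 := congrArg (fun A : SL2 F => (A : Matrix (Fin 2) (Fin 2) F) 0 0) h
  simp only [Matrix.SpecialLinearGroup.coe_neg, Matrix.SpecialLinearGroup.coe_one,
    Matrix.neg_apply, Matrix.one_apply_eq] at h1
  apply h2
  have : (2 : F) = 1 - (-1) := by ring
  rw [this, h1, sub_self]

/-- the isomorphism with a quaternion group sends `-1` to the involution `a n` -/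
theorem exists_iso [Fintype F] (hodd : Odd (Fintype.card F)) (Q : Sylow 2 (SL2 F)) :
    ∃ (k : ℕ) (_ : 1 ≤ k) (e : ↥(Q : Subgroup (SL2 F)) ≃* QuaternionGroup (2 ^ k)),
      e ⟨-1, neg_one_mem F Q⟩ = QuaternionGroup.a ((2 ^ k : ℕ) : ZMod (2 * 2 ^ k)) := by
  obtain ⟨k, hk, ⟨e⟩⟩ := Cfsg.Agent.S0261.result hodd Q
  refine ⟨k, hk, e, ?_⟩
  have h2 : (2 : F) ≠ 0 := Cfsg.Agent.S0261.two_ne_zero_of_odd (Nat.odd_iff.mp hodd)
  have hsq : e ⟨-1, neg_one_mem F Q⟩ * e ⟨-1, neg_one_mem F Q⟩ = 1 := by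
    rw [← map_mul]
    have : (⟨-1, neg_one_mem F Q⟩ : ↥(Q : Subgroup (SL2 F))) * ⟨-1, neg_one_mem F Q⟩ = 1 :=
      Subtype.ext (neg_one_sq F)
    rw [this, map_one]
  rcases qg_involution _ hsq with h | h
  · exfalso
    have : (⟨-1, neg_one_mem F Q⟩ : ↥(Q : Subgroup (SL2 F))) = 1 := by
      apply e.injective
      rw [h, map_one]
    exact neg_one_ne_one' F h2 (congrArg Subtype.val this)
  · exact h

theorem Q_exists_sq [Fintype F] (hodd : Odd (Fintype.card F)) (Q : Sylow 2 (SL2 F)) :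
    ∃ a ∈ Q, a * a = -1 := by
  obtain ⟨k, hk, e, he⟩ := exists_iso F hodd Q
  refine ⟨(e.symm (QuaternionGroup.xa 0)).1, (e.symm (QuaternionGroup.xa 0)).2, ?_⟩
  have h1 : e.symm (QuaternionGroup.xa 0) * e.symm (QuaternionGroup.xa 0)
      = ⟨-1, neg_one_mem F Q⟩ := by
    rw [← map_mul, qg_xa_sq, ← he, MulEquiv.symm_apply_apply]
  exact congrArg Subtype.val h1

theorem Q_closure_sq [Fintype F] (hodd : Odd (Fintype.card F)) (Q : Sylow 2 (SL2 F)) :
    (Q : Subgroup (SL2 F)) ≤ Subgroup.closure {a : SL2 F | a ∈ Q ∧ a * a = -1} := by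
  obtain ⟨k, hk, e, he⟩ := exists_iso F hodd Q
  have hev : Even (2 ^ k) := (Nat.even_pow.mpr ⟨even_two, by omega⟩)
  have key : ∀ y : QuaternionGroup (2 ^ k),
      y ∈ Subgroup.closure {x : QuaternionGroup (2 ^ k) | x * x = QuaternionGroup.a (2 ^ k : ℕ)} →
      (e.symm y).1 ∈ Subgroup.closure {a : SL2 F | a ∈ Q ∧ a * a = -1} := by
    intro y hy
    induction hy using Subgroup.closure_induction with
    | mem x hx =>
      apply Subgroup.subset_closure
      refine ⟨(e.symm x).2, ?_⟩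
      have h1 : e.symm x * e.symm x = ⟨-1, neg_one_mem F Q⟩ := by
        rw [← map_mul, hx, ← he, MulEquiv.symm_apply_apply]
      exact congrArg Subtype.val h1
    | one =>
      rw [map_one]
      exact Subgroup.one_mem _
    | mul x y _ _ hx hy =>
      rw [map_mul]
      exact Subgroup.mul_mem _ hx hy
    | inv x _ hx =>
      rw [map_inv]
      exact Subgroup.inv_mem _ hx
  intro g hg
  have := key (e ⟨g, hg⟩) (by rw [qg_closure_sq hev]; exact Subgroup.mem_top _)
  rw [MulEquiv.symm_apply_apply] at this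
  exact this

theorem Q_closure_prod [Fintype F] (hodd : Odd (Fintype.card F)) (Q : Sylow 2 (SL2 F)) :
    (Q : Subgroup (SL2 F)) ≤
      Subgroup.closure {z : SL2 F | ∃ a ∈ Q, ∃ b ∈ Q, a * a = -1 ∧ b * b = -1 ∧ z = a * b} := by
  obtain ⟨k, hk, e, he⟩ := exists_iso F hodd Q
  have hev : Even (2 ^ k) := (Nat.even_pow.mpr ⟨even_two, by omega⟩)
  have hsq : ∀ x : QuaternionGroup (2 ^ k), x * x = QuaternionGroup.a (2 ^ k : ℕ) →
      (e.symm x).1 * (e.symm x).1 = -1 := by
    intro x hx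
    have h1 : e.symm x * e.symm x = ⟨-1, neg_one_mem F Q⟩ := by
      rw [← map_mul, hx, ← he, MulEquiv.symm_apply_apply]
    exact congrArg Subtype.val h1
  have key : ∀ y : QuaternionGroup (2 ^ k),
      y ∈ Subgroup.closure {z : QuaternionGroup (2 ^ k) | ∃ x y : QuaternionGroup (2 ^ k),
        x * x = QuaternionGroup.a (2 ^ k : ℕ) ∧ y * y = QuaternionGroup.a (2 ^ k : ℕ) ∧ z = x * y} →
      (e.symm y).1 ∈ Subgroup.closure
        {z : SL2 F | ∃ a ∈ Q, ∃ b ∈ Q, a * a = -1 ∧ b * b = -1 ∧ z = a * b} := by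
    intro y hy
    induction hy using Subgroup.closure_induction with
    | mem z hz =>
      obtain ⟨x, y, hx, hy, rfl⟩ := hz
      apply Subgroup.subset_closure
      refine ⟨(e.symm x).1, (e.symm x).2, (e.symm y).1, (e.symm y).2, hsq x hx, hsq y hy, ?_⟩
      rw [map_mul]
      rfl
    | one =>
      rw [map_one]
      exact Subgroup.one_mem _
    | mul x y _ _ hx hy =>
      rw [map_mul]
      exact Subgroup.mul_mem _ hx hy
    | inv x _ hx =>
      rw [map_inv]
      exact Subgroup.inv_mem _ hx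
  intro g hg
  have := key (e ⟨g, hg⟩) (by rw [qg_closure_prod hev]; exact Subgroup.mem_top _)
  rw [MulEquiv.symm_apply_apply] at this
  exact this

end

end Cfsg.Agent.Lib.Helper11.PS4
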