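import Cfsg.Agent.Lib.Helper16.PS4.Hyps
import Cfsg.Agent.Lib.helper15.SL2Card
import Cfsg.Agent.S0245
import Cfsg.Agent.Lib.Helper19.PS4I

/-!
# Project PS4 (S5320, helper16): piece Y

`|S4 Q| = 2 |Q|^2 = |Sp4(q)|_2` for a Sylow 2-subgroup `Q` of `SL2(q)`, `q` odd.
-/

set_option autoImplicit false

namespace Cfsg.Agent.Lib.Helper11.PS4

open Matrix Cfsg.Agent.Lib.Helper16.PS4 Cfsg.Agent.Lib.Helper19.PS4

section
variable (F : Type*) [Field F]

/-- the parametrisation of `S4 Q` -/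
def s4map (Q : Subgroup (SL2 F)) (x : (↥Q × ↥Q) × Fin 2) : ↥(S4 Q) :=
  if h : x.2 = 0 then
    ⟨blk ((x.1.1 : SL2 F), (x.1.2 : SL2 F)),
      (mem_S4_iff F Q _).mpr ⟨x.1.1, x.1.1.2, x.1.2, x.1.2.2, Or.inl rfl⟩⟩
  else
    ⟨blk ((x.1.1 : SL2 F), (x.1.2 : SL2 F)) * sw,
      (mem_S4_iff F Q _).mpr ⟨x.1.1, x.1.1.2, x.1.2, x.1.2.2, Or.inr rfl⟩⟩

theorem s4map_bij (Q : Subgroup (SL2 F)) : Function.Bijective (s4map F Q) := by
  constructor
  · rintro ⟨⟨a, b⟩, i⟩ ⟨⟨a', b'⟩, i'⟩ h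
    have hv := congrArg Subtype.val h
    unfold s4map at hv
    by_cases hi : i = 0 <;> by_cases hi' : i' = 0
    · simp only [hi, hi', dite_true] at hv
      have := blk_injective F hv
      simp only [Prod.mk.injEq] at this
      rw [Subtype.ext this.1, Subtype.ext this.2, hi, hi']
    · exfalso
      simp only [hi, hi', dite_true, dite_false] at hv
      exact blk_mul_sw_ne_blk F _ _ hv.symm
    · exfalso
      simp only [hi, hi', dite_true, dite_false] at hv
      exact blk_mul_sw_ne_blk F _ _ hv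
    · simp only [hi, hi', dite_false] at hv
      have := blk_injective F (mul_right_cancel hv)
      simp only [Prod.mk.injEq] at this
      have e : i = i' := by
        have h1 : i = 1 := by
          fin_cases i
          · exact absurd rfl hi
          · rfl
        have h2 : i' = 1 := by
          fin_cases i'
          · exact absurd rfl hi'
          · rfl
        rw [h1, h2]
      rw [Subtype.ext this.1, Subtype.ext this.2, e]
  · rintro ⟨x, hx⟩
    obtain ⟨a, ha, b, hb, h | h⟩ := (mem_S4_iff F Q x).mp hx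
    · refine ⟨((⟨a, ha⟩, ⟨b, hb⟩), 0), ?_⟩
      apply Subtype.ext
      unfold s4map
      simp only [dite_true]
      exact h.symm
    · refine ⟨((⟨a, ha⟩, ⟨b, hb⟩), 1), ?_⟩
      apply Subtype.ext
      unfold s4map
      have : ¬ ((1 : Fin 2) = 0) := by decide
      simp only [this, dite_false]
      exact h.symm

theorem card_S4_eq (Q : Subgroup (SL2 F)) : Nat.card (S4 Q) = Nat.card Q * Nat.card Q * 2 := by
  rw [← Nat.card_congr (Equiv.ofBijective (s4map F Q) (s4map_bij F Q)), Nat.card_prod, Nat.card_prod,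
    Nat.card_fin]

end

theorem v2_odd (q : ℕ) (hq : Odd q) : q.factorization 2 = 0 := by
  apply Nat.factorization_eq_zero_of_not_dvd
  rw [Nat.two_dvd_ne_zero]
  exact Nat.odd_iff.mp hq

theorem v2_arith (q : ℕ) (hq : Odd q) (hq3 : 3 ≤ q) :
    (q ^ 4 * ((q ^ 2 - 1) * (q ^ 4 - 1))).factorization 2
      = 2 * (q * (q ^ 2 - 1)).factorization 2 + 1 := by
  obtain ⟨k, rfl⟩ := hq
  have hA : (2 * k + 1) ^ 2 - 1 ≠ 0 := by
    have : 1 < (2 * k + 1) ^ 2 := by nlinarith
    omega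
  have hq0 : 2 * k + 1 ≠ 0 := by omega
  have hm : 2 * k ^ 2 + 2 * k + 1 ≠ 0 := by omega
  have e1 : (2 * k + 1) ^ 4 - 1 = ((2 * k + 1) ^ 2 - 1) * (2 * (2 * k ^ 2 + 2 * k + 1)) := by
    have h1 : (2 * k + 1) ^ 2 - 1 = 4 * k ^ 2 + 4 * k := by
      have : (2 * k + 1) ^ 2 = 4 * k ^ 2 + 4 * k + 1 := by ring
      omega
    have h2 : (2 * k + 1) ^ 4 = (4 * k ^ 2 + 4 * k) * (2 * (2 * k ^ 2 + 2 * k + 1)) + 1 := by ring
    rw [h1, h2]
    omega
  have hodd : (2 * k ^ 2 + 2 * k + 1).factorization 2 = 0 :=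
    v2_odd _ ⟨k ^ 2 + k, by ring⟩
  have hq2 : (2 * k + 1).factorization 2 = 0 := v2_odd _ ⟨k, rfl⟩
  rw [e1, Nat.factorization_mul (pow_ne_zero 4 hq0) (mul_ne_zero hA (mul_ne_zero hA (mul_ne_zero two_ne_zero hm))),
    Nat.factorization_mul hA (mul_ne_zero hA (mul_ne_zero two_ne_zero hm)),
    Nat.factorization_mul hA (mul_ne_zero two_ne_zero hm),
    Nat.factorization_mul two_ne_zero hm, Nat.factorization_mul hq0 hA, Nat.factorization_pow]
  simp only [Finsupp.add_apply, Finsupp.smul_apply, smul_eq_mul, hodd, hq2,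
    Nat.Prime.factorization_self Nat.prime_two]
  ring

theorem card_S4 (F : Type*) [Field F] [Fintype F] (hodd : Odd (Fintype.card F))
    (Q : Sylow 2 (SL2 F)) :
    Nat.card (S4 (Q : Subgroup (SL2 F))) = 2 ^ (Nat.card (Sp4 F)).factorization 2 := by
  have hq3 : 3 ≤ Fintype.card F := by
    have h2 : 2 ≤ Fintype.card F := Fintype.one_lt_card
    rcases hodd with ⟨k, hk⟩
    omega
  have hQ : Nat.card (Q : Subgroup (SL2 F)) = 2 ^ (Nat.card (SL2 F)).factorization 2 :=
    Q.card_eq_multiplicity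
  have hSp : Nat.card (Sp4 F) = Fintype.card F ^ 4 *
      ((Fintype.card F ^ 2 - 1) * (Fintype.card F ^ 4 - 1)) := by
    have := Cfsg.Agent.S0245.result (F := F) (q := Fintype.card F) rfl 2
    rw [this]
    simp [Finset.prod_range_succ]
  rw [card_S4_eq, hQ, hSp, Cfsg.Agent.Lib.helper15.card_SL2, v2_arith _ hodd hq3]
  ring

end Cfsg.Agent.Lib.Helper11.PS4
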