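import Mathlib
import Cfsg.Prelude.Def_Blocks
import Cfsg.Agent.Lib.helper2.PT.Defs
import Cfsg.Agent.Lib.Helper24.ExtFirstMain3
import Cfsg.Agent.S0958
import Cfsg.Agent.S0918

/-!
# PT-IndFromCent (piece P7 of project PT = S4642)

A block whose defect group contains the `p`-subgroup `R` is induced from a block of `C_H(R)`.
-/

set_option autoImplicit false
set_option linter.style.haveILetI false
set_option linter.unusedSectionVars false
set_option linter.unusedVariables false

namespace Cfsg.Agent.Lib.Helper11.PT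

universe u

open Cfsg Cfsg.Agent.Lib.helper2.PT Cfsg.Agent.Lib.helper7 Cfsg.Agent.Lib.Helper24

/-- For `C = C_H(R)`, the Brauer central character relative to `R` is the induced central
character: every element of `C` centralizes `R`. -/
theorem bcc_centralizer_eq_icc {H : Type u} [Group H] (R : Subgroup H)
    (ξ : Subgroup.centralizer (R : Set H) → ℂ) (g : H) :
    Cfsg.brauerCentralChar R (Subgroup.centralizer (R : Set H)) ξ g =
      Cfsg.inducedCentralChar (Subgroup.centralizer (R : Set H)) ξ g := by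
  unfold Cfsg.brauerCentralChar Cfsg.inducedCentralChar
  have hs : {h : Subgroup.centralizer (R : Set H) |
      IsConj g (h : H) ∧ (h : H) ∈ Subgroup.centralizer (R : Set H)} =
      {h : Subgroup.centralizer (R : Set H) | IsConj g (h : H)} := by
    ext h
    constructor
    · rintro ⟨h1, -⟩
      exact h1
    · intro h1
      exact ⟨h1, h.2⟩
  rw [hs]

/-- The normalizer of `R` normalizes `C_H(R)`. -/
theorem centralizer_subgroupOf_normal {H : Type u} [Group H] (R K : Subgroup H)
    (hCK : Subgroup.centralizer (R : Set H) ≤ K)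
    (hKN : K ≤ Subgroup.normalizer (R : Set H)) :
    ((Subgroup.centralizer (R : Set H)).subgroupOf K).Normal := by
  rw [Subgroup.normal_subgroupOf_iff_le_normalizer hCK]
  intro k hk
  have hkN := hKN hk
  rw [Subgroup.mem_normalizer_iff]
  intro c
  rw [← h7_conj_mem_centralizer_of_normalizer R k c hkN]

theorem indFromCent : Cfsg.Agent.Lib.helper2.PT.IndFromCentProp.{u} := by
  intro p _ M hM H _ _ B hB D hD R hRD
  classical
  have hPr := hM.2.1.isPrime
  haveI : Fintype (Cfsg.IrrCharacter H) := Fintype.ofFinite _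
  have hR : IsPGroup p R := (ef_isPGroup_of_defect hD).to_le hRD
  set C : Subgroup H := Subgroup.centralizer (R : Set H) with hC
  set K : Subgroup H := R ⊔ C with hK
  have hRK : R ≤ K := le_sup_left
  have hCK : C ≤ K := le_sup_right
  have hKN : K ≤ Subgroup.normalizer (R : Set H) :=
    sup_le Subgroup.le_normalizer (Subgroup.centralizer_le_normalizer _)
  -- block of `K` inducing `B`
  obtain ⟨b', hb'⟩ := (Cfsg.Agent.S0958.result p M hM R K hR le_rfl hKN B hB).mpr
    ⟨D, hD, 1, by
      rintro _ ⟨u, hu, rfl⟩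
      simpa using hRD hu⟩
  obtain ⟨ψ, rfl⟩ := hb'.1
  haveI : Fintype K := Fintype.ofFinite _
  haveI : Fintype (Cfsg.IrrCharacter K) := Fintype.ofFinite _
  haveI : Fintype C := Fintype.ofFinite _
  haveI : Fintype (Cfsg.IrrCharacter C) := Fintype.ofFinite _
  have hψ : ψ ∈ Cfsg.blockOf M (ψ : K → ℂ) := h7_sameBlock_refl hPr _
  have hbr := (Cfsg.Agent.S0918.result p M hM R K hR hRK hCK hKN _ hb'.1 B hB).mp hb'
  -- constituent of the restriction of `ψ` to `C`
  haveI : Fintype (C.subgroupOf K) := Fintype.ofFinite _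
  haveI hn : (C.subgroupOf K).Normal := centralizer_subgroupOf_normal R K hCK hKN
  have hRes := Cfsg.Agent.Lib.helper2.isCharacter_restrict (h7_irr_isCharacter ψ.2)
    (C.subgroupOf K)
  have hRes1 : (fun n : C.subgroupOf K => (ψ : K → ℂ) n) 1 ≠ 0 :=
    Cfsg.Agent.Lib.Helper25.irr_one_ne_zero ψ
  obtain ⟨θ', m, hm, hθ'⟩ := Cfsg.Agent.Lib.helper2.isCharacter_exists_constituent hRes hRes1
  have hcon' : Cfsg.classInner (fun n : C.subgroupOf K => (ψ : K → ℂ) n)
      (θ' : C.subgroupOf K → ℂ) ≠ 0 := by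
    rw [hθ']
    exact_mod_cast hm.ne'
  set e := Subgroup.subgroupOfEquivOfLe hCK with he
  set ξ : Cfsg.IrrCharacter C := ef_tr e.symm θ' with hξ
  have hξθ : ef_tr e ξ = θ' := by
    apply Subtype.ext
    funext x
    rw [ef_tr_apply, hξ, ef_tr_apply, MulEquiv.symm_apply_apply]
  have hcon : Cfsg.classInner (fun n : C.subgroupOf K => (ψ : K → ℂ) n)
      ((ef_tr (Subgroup.subgroupOfEquivOfLe hCK) ξ : Cfsg.IrrCharacter (C.subgroupOf K)) :
        C.subgroupOf K → ℂ) ≠ 0 := by
    rw [← he, hξθ]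
    exact hcon'
  refine ⟨Cfsg.blockOf M (ξ : C → ℂ), ⟨ξ, rfl⟩, hB, ?_⟩
  intro ζ hζ χ hχ g
  have h1 := hbr ψ hψ χ hχ g
  rw [ef_bcc_eq R C K hCK le_rfl hKN ξ ψ hcon g, bcc_centralizer_eq_icc] at h1
  have h2 := h7_icc_congr' C hPr ξ ζ hζ g
  have h3 := h7_memLocalIdeal_sub hPr h1 h2
  have e3 : Cfsg.inducedCentralChar C (ζ : C → ℂ) g - Cfsg.centralChar (χ : H → ℂ) g =
      Cfsg.inducedCentralChar C (ξ : C → ℂ) g - Cfsg.centralChar (χ : H → ℂ) g -
      (Cfsg.inducedCentralChar C (ξ : C → ℂ) g - Cfsg.inducedCentralChar C (ζ : C → ℂ) g) := by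
    ring
  rw [e3]
  exact h3

end Cfsg.Agent.Lib.Helper11.PT
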