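import Mathlib
import Cfsg.Prelude.Def_Blocks
import Cfsg.Agent.Lib.helper2.PT.Defs2
import Cfsg.Agent.Lib.helper7.BlockQuot
import Cfsg.Agent.Lib.helper7.BlockCover3

/-!
# PT-TD2 (twisted dominance), a sub-piece of project PT = S4642

The block of a character over `θ₀` contains a character over any given extension `θh` of `θ₀`
to `L₀`.
-/

set_option autoImplicit false
set_option linter.style.haveILetI false
set_option linter.unusedSectionVars false
set_option linter.unusedVariables false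

namespace Cfsg.Agent.Lib.Helper11.PT

universe u

open scoped ComplexConjugate
open Cfsg Cfsg.Agent.Lib.helper2.PT Cfsg.Agent.Lib.helper7 Cfsg.Agent.Lib.helper2
  Cfsg.Agent.Lib.Helper25

/-- The sum of `blockCoeff B n * φ n` over a subgroup `N`, in terms of the inner products of the
restrictions of the members of `B` with `φ`. -/
theorem sum_blockCoeff_mul {H : Type u} [Group H] [Fintype H] [Fintype (Cfsg.IrrCharacter H)]
    (N : Subgroup H) [Fintype N] (B : Set (Cfsg.IrrCharacter H)) [DecidablePred (· ∈ B)]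
    (φ : N → ℂ) :
    ∑ n : N, Cfsg.blockCoeff B (n : H) * φ n =
      (Nat.card H : ℂ)⁻¹ * (Nat.card N : ℂ) * ∑ ψ : Cfsg.IrrCharacter H,
        if ψ ∈ B then (ψ : H → ℂ) 1 * conj (Cfsg.classInner (fun n : N => (ψ : H → ℂ) n) φ)
        else 0 := by
  have hN0 : (Nat.card N : ℂ) ≠ 0 := by exact_mod_cast Nat.card_pos.ne'
  unfold Cfsg.blockCoeff
  have hfs : ∀ g : H, (∑ᶠ χ ∈ B, (χ : H → ℂ) 1 * conj ((χ : H → ℂ) g)) =
      ∑ χ : Cfsg.IrrCharacter H, if χ ∈ B then (χ : H → ℂ) 1 * conj ((χ : H → ℂ) g) else 0 :=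
    fun g => h7_finsum_mem_fintype B _
  simp only [hfs]
  have key : ∀ ψ : Cfsg.IrrCharacter H,
      ∑ n : N, (if ψ ∈ B then (ψ : H → ℂ) 1 * conj ((ψ : H → ℂ) (n : H)) else 0) * φ n =
      (Nat.card N : ℂ) * (if ψ ∈ B then
        (ψ : H → ℂ) 1 * conj (Cfsg.classInner (fun n : N => (ψ : H → ℂ) n) φ) else 0) := by
    intro ψ
    by_cases hψ : ψ ∈ B
    · simp only [if_pos hψ]
      unfold Cfsg.classInner
      rw [map_mul, map_inv₀, Complex.conj_natCast, map_sum]
      have : ∀ n : N, conj ((ψ : H → ℂ) (n : H) * conj (φ n)) =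
          conj ((ψ : H → ℂ) (n : H)) * φ n := by
        intro n
        rw [map_mul, Complex.conj_conj]
      simp only [this]
      rw [Finset.mul_sum, Finset.mul_sum, Finset.mul_sum]
      refine Finset.sum_congr rfl fun n _ => ?_
      field_simp
    · simp only [if_neg hψ, zero_mul, Finset.sum_const_zero, mul_zero]
  calc ∑ n : N, ((Nat.card H : ℂ)⁻¹ * ∑ χ : Cfsg.IrrCharacter H,
          if χ ∈ B then (χ : H → ℂ) 1 * conj ((χ : H → ℂ) (n : H)) else 0) * φ n
      = (Nat.card H : ℂ)⁻¹ * ∑ ψ : Cfsg.IrrCharacter H, ∑ n : N,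
          (if ψ ∈ B then (ψ : H → ℂ) 1 * conj ((ψ : H → ℂ) (n : H)) else 0) * φ n := by
        rw [Finset.sum_comm, Finset.mul_sum]
        refine Finset.sum_congr rfl fun n _ => ?_
        rw [mul_assoc, Finset.sum_mul]
    _ = (Nat.card H : ℂ)⁻¹ * ∑ ψ : Cfsg.IrrCharacter H, (Nat.card N : ℂ) * (if ψ ∈ B then
          (ψ : H → ℂ) 1 * conj (Cfsg.classInner (fun n : N => (ψ : H → ℂ) n) φ) else 0) := by
        congr 1
        exact Finset.sum_congr rfl fun ψ _ => key ψ
    _ = _ := by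
        rw [← Finset.mul_sum, mul_assoc]

theorem td2 : Cfsg.Agent.Lib.helper2.PT.TD2Prop.{u} := by
  intro p _ M hM H _ _ K₀ L₀ _ _ S θ₀ hinv θh hext χ hχ
  classical
  haveI : Fintype (Cfsg.IrrCharacter H) := Fintype.ofFinite _
  have hPr := hM.2.1.isPrime
  by_contra hcon
  push Not at hcon
  have hcon' : ∀ ψ ∈ Cfsg.blockOf M (χ : H → ℂ),
      Cfsg.classInner (fun l : L₀ => (ψ : H → ℂ) l) (θh : L₀ → ℂ) = 0 := by
    intro ψ hψ
    by_contra h
    exact hcon ψ hψ h
  set B' := Cfsg.blockOf M (χ : H → ℂ) with hB'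
  -- (a) the sum over `L₀` vanishes
  have hSL : ∑ l : L₀, Cfsg.blockCoeff B' (l : H) * (θh : L₀ → ℂ) l = 0 := by
    rw [sum_blockCoeff_mul L₀ B' (θh : L₀ → ℂ)]
    apply mul_eq_zero_of_right
    apply Finset.sum_eq_zero
    intro ψ _
    split_ifs with hψ
    · rw [hcon' ψ hψ, map_zero, mul_zero]
    · rfl
  -- (b) it equals the sum over `K₀`
  have hSK : ∑ k : K₀, Cfsg.blockCoeff B' (k : H) * (θ₀ : K₀ → ℂ) k =
      ∑ l : L₀, Cfsg.blockCoeff B' (l : H) * (θh : L₀ → ℂ) l := by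
    apply Finset.sum_of_injOn (fun k : K₀ => (⟨(k : H), S.le k.2⟩ : L₀))
    · intro a _ b _ hab
      apply Subtype.ext
      exact congrArg (fun l : L₀ => (l : H)) hab
    · intro a _
      exact Finset.mem_coe.mpr (Finset.mem_univ _)
    · intro l _ hl
      have hlK : (l : H) ∉ K₀ := by
        intro h
        apply hl
        exact ⟨⟨(l : H), h⟩, Finset.mem_coe.mpr (Finset.mem_univ _), rfl⟩
      have hsing : p ∣ orderOf (l : H) := by
        by_contra hreg
        apply hlK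
        haveI := S.nK
        haveI : (K₀.subgroupOf L₀).Normal := Subgroup.Normal.subgroupOf S.nK L₀
        have hidx : ∃ k : ℕ, (K₀.subgroupOf L₀).index = p ^ k := S.pow
        have h := h7_pregular_mem_of_index_pow p (K₀.subgroupOf L₀) hidx l
          (by rw [← Subgroup.orderOf_coe]; exact hreg)
        exact h
      rw [h7_blockCoeff_psingular hM χ (l : H) hsing, zero_mul]
    · intro k _
      rw [hext k]
  -- (c) the sum over `K₀` is positive
  rw [← hSK, sum_blockCoeff_mul K₀ B' (θ₀ : K₀ → ℂ)] at hSL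
  have hH0 : (Nat.card H : ℂ)⁻¹ ≠ 0 := inv_ne_zero (by exact_mod_cast Nat.card_pos.ne')
  have hK0 : (Nat.card K₀ : ℂ) ≠ 0 := by exact_mod_cast Nat.card_pos.ne'
  have h2 := (mul_eq_zero.mp hSL).resolve_left (mul_ne_zero hH0 hK0)
  have hnat : ∀ ψ : Cfsg.IrrCharacter H, ∃ m : ℕ,
      Cfsg.classInner (fun k : K₀ => (ψ : H → ℂ) k) (θ₀ : K₀ → ℂ) = (m : ℂ) := fun ψ =>
    classInner_character_nat (isCharacter_restrict (isCharacter_of_irr ψ) K₀)
      (isCharacter_of_irr θ₀)
  have h3 := congrArg Complex.re h2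
  rw [Complex.re_sum, Complex.zero_re] at h3
  have hnn : ∀ ψ ∈ (Finset.univ : Finset (Cfsg.IrrCharacter H)),
      0 ≤ (if ψ ∈ B' then (ψ : H → ℂ) 1 *
        conj (Cfsg.classInner (fun k : K₀ => (ψ : H → ℂ) k) (θ₀ : K₀ → ℂ)) else 0).re := by
    intro ψ _
    split_ifs with hψ
    · obtain ⟨m, hm⟩ := hnat ψ
      obtain ⟨n, _, hn⟩ := irr_one_eq_finrank ψ
      rw [hm, hn, Complex.conj_natCast, ← Nat.cast_mul, Complex.natCast_re]
      exact Nat.cast_nonneg _
    · simp
  have h4 := (Finset.sum_eq_zero_iff_of_nonneg hnn).1 h3 χ (Finset.mem_univ _)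
  have hχB : χ ∈ B' := h7_sameBlock_refl hPr _
  rw [if_pos hχB] at h4
  obtain ⟨m, hm⟩ := hnat χ
  obtain ⟨n, hn0, hn⟩ := irr_one_eq_finrank χ
  rw [hm, hn, Complex.conj_natCast, ← Nat.cast_mul, Complex.natCast_re] at h4
  have h5 : n * m = 0 := by exact_mod_cast h4
  have hm0 : m = 0 := by
    rcases Nat.mul_eq_zero.mp h5 with h | h
    · omega
    · exact h
  apply hχ
  rw [hm, hm0, Nat.cast_zero]

end Cfsg.Agent.Lib.Helper11.PT
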