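import Mathlib
import Cfsg.Prelude.Def_Blocks
import Cfsg.Agent.Lib.helper2.PT.Defs2
import Cfsg.Agent.Lib.helper7.Clifford
import Cfsg.Agent.Lib.helper7.BlockHeightZero
import Cfsg.Agent.Lib.helper7.BlockInd2
import Cfsg.Agent.Lib.helper7.BlockHom
import Cfsg.Agent.Lib.helper2.CharInt
import Cfsg.Agent.S0924

/-!
# PT-TD3 (assembly of twisted dominance), a sub-piece of project PT = S4642

`TDProp` from `TD1Prop` (invariant extension) and `TD2Prop` (twisted dominance): Clifford +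
`h7_char_pmul_congr` + S0924.
-/

set_option autoImplicit false
set_option linter.style.haveILetI false
set_option linter.unusedSectionVars false
set_option linter.unusedVariables false

namespace Cfsg.Agent.Lib.Helper11.PT

universe u

open scoped ComplexConjugate
open Cfsg Cfsg.Agent.Lib.helper2.PT Cfsg.Agent.Lib.helper7 Cfsg.Agent.Lib.helper2
  Cfsg.Agent.Lib.Helper25 Cfsg.Agent.Lib.Helper11

/-- An irreducible character of a group is nonzero at `p`-elements when its degree is prime to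
`p`. -/
theorem irr_ne_zero_of_pelement {p : ℕ} [hp : Fact p.Prime] {M : Ideal Cfsg.AlgInt}
    (hM : Cfsg.IsPModular p M) {L : Type u} [Group L] [Finite L] (θ : Cfsg.IrrCharacter L)
    (n : ℕ) (hn : (θ : L → ℂ) 1 = (n : ℂ)) (hpn : ¬ p ∣ n) (x : L)
    (hx : ∃ k : ℕ, orderOf x = p ^ k) : (θ : L → ℂ) x ≠ 0 := by
  have hPr := hM.2.1.isPrime
  intro h0
  have h1 := h7_char_pmul_congr hM (isCharacter_of_irr θ) x 1 (Commute.one_right x) hx
    (by
      rw [orderOf_one]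
      exact fun h => hp.out.one_lt.ne' (Nat.dvd_one.mp h))
  rw [mul_one, h0, hn, zero_sub] at h1
  have h2 := h7_memLocalIdeal_neg h1
  rw [neg_neg] at h2
  exact hpn ((h7_memLocalIdeal_natCast_iff hM n).mp h2)

theorem td3 : Cfsg.Agent.Lib.helper2.PT.TD3Prop.{u} := by
  intro hTD1 hTD2 p _ M hM H _ _ K₀ L₀ _ S θ₀ hinv χ hχ u huL hu
  classical
  haveI : Fintype L₀ := Fintype.ofFinite _
  haveI : Fintype (Cfsg.IrrCharacter H) := Fintype.ofFinite _
  haveI hnL : L₀.Normal := S.nL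
  have hPr := hM.2.1.isPrime
  obtain ⟨θh, hext, hinvh⟩ := hTD1 p H K₀ L₀ S θ₀ hinv
  obtain ⟨ψ, hψB, hψover⟩ := hTD2 p M hM H K₀ L₀ S θ₀ hinv θh hext χ hχ
  -- Clifford for the invariant `θh`
  have hcj : ∀ g : H, cj L₀ (θh : L₀ → ℂ) g = (θh : L₀ → ℂ) := by
    intro g
    funext l
    rw [cj_apply]
    exact hinvh g l ⟨g * (l : H) * g⁻¹, hnL.conj_mem l l.2 g⟩ rfl
  obtain ⟨e, he, _, hres⟩ := h7_clifford_invariant L₀ (ψ : H → ℂ) ψ.2 (θh : L₀ → ℂ) θh.2
    hψover hcj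
  -- the degree of `θh` is prime to `p`
  obtain ⟨n, hn0, hn, hndvd⟩ := irr_degree_dvd_card θ₀
  have hθh1 : (θh : L₀ → ℂ) 1 = (n : ℂ) := by
    rw [← hn, ← hext 1]
    rfl
  have hpn : ¬ p ∣ n := by
    intro hpn
    have h1 : p ∣ Nat.card K₀ := hpn.trans hndvd
    have h2 := S.cop
    rw [Nat.coprime_comm, Nat.Prime.coprime_iff_not_dvd (Fact.out : p.Prime)] at h2
    exact h2 h1
  have hux : ∃ k : ℕ, orderOf (⟨u, huL⟩ : L₀) = p ^ k := by
    obtain ⟨k, hk⟩ := hu
    refine ⟨k, ?_⟩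
    rw [← hk, ← Subgroup.orderOf_coe]
  have hθu := irr_ne_zero_of_pelement hM θh n hθh1 hpn ⟨u, huL⟩ hux
  have hψu : (ψ : H → ℂ) u ≠ 0 := by
    have h1 := congrFun hres ⟨u, huL⟩
    simp only [Pi.smul_apply, smul_eq_mul] at h1
    rw [h1]
    exact mul_ne_zero (by exact_mod_cast he.ne') hθu
  -- S0924, contrapositive
  have hpart : Cfsg.IsPPart p u u := by
    refine ⟨1, mul_one u, Commute.one_right u, hu, ?_⟩
    rw [orderOf_one]
    exact fun h => (Fact.out : p.Prime).one_lt.ne' (Nat.dvd_one.mp h)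
  by_contra hcon
  push Not at hcon
  apply hψu
  apply Cfsg.Agent.S0924.result p M hM ψ u u hpart
  intro D hD
  have hbeq := h7_blockOf_eq_of_mem hPr χ ψ hψB
  rw [← hbeq] at hD
  exact hcon D hD

end Cfsg.Agent.Lib.Helper11.PT
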