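import Mathlib
import Cfsg.Agent.Lib.helper8.RSM.Defs

/-!
# Project RSM, row A7 (`cube_ne`), verbatim vs `helper8/RSM/Skel.lean.txt`.
-/

set_option autoImplicit false

namespace Cfsg.Agent.Lib.helper8.RSM

universe u v w

variable {G : Type u} [Group G] {K : Type v} [Field K] [Fintype K] {m : ℕ}

/-- characteristic 3 from the cardinality -/
theorem rsma7_three (hK : Fintype.card K = 3 ^ (2 * m + 1)) : (3 : K) = 0 := by
  have h : ((Fintype.card K : ℕ) : K) = 0 := Nat.cast_card_eq_zero K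
  rw [hK] at h
  push_cast at h
  exact pow_eq_zero_iff (n := 2 * m + 1) (by omega) |>.1 h

/-- cube roots of `1` are trivial in characteristic 3 -/
theorem rsma7_cube (hK : Fintype.card K = 3 ^ (2 * m + 1)) (x : K) (hx : x ^ 3 = 1) : x = 1 := by
  have h3 := rsma7_three (m := m) hK
  have h : (x - 1) ^ 3 = 0 := by
    have : (x - 1) ^ 3 = x ^ 3 - 1 - 3 * (x ^ 2 - x) := by ring
    rw [this, hx, h3]; ring
  exact sub_eq_zero.1 (pow_eq_zero_iff (by norm_num) |>.1 h)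

/-- A7 [S-M]. `a² N a = (a * a^θ)^3`; if it is `1` then `a^θ = a⁻¹`, so `a^(θ²) = a`, and
`a = a ^ (3θ²) = a^3`, `a² = 1`. -/
theorem cube_ne (hK : Fintype.card K = 3 ^ (2 * m + 1)) (a : K) (ha : a ≠ 0) (ha2 : a ^ 2 ≠ 1) :
    a ^ 2 * nrm m a ≠ 1 := by
  intro h
  have h1 : (a * a ^ 3 ^ m) ^ 3 = 1 := by
    rw [← h, nrm]; ring
  have h2 : a * a ^ 3 ^ m = 1 := rsma7_cube hK _ h1
  -- a ^ θ = a⁻¹
  have h3 : a ^ 3 ^ m = a⁻¹ := eq_inv_of_mul_eq_one_right h2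
  have h4 : (a ^ 3 ^ m) ^ 3 ^ m = a := by
    rw [h3, inv_pow, h3, inv_inv]
  have h5 : a ^ 3 ^ (2 * m + 1) = a ^ 3 := by
    have : (3 : ℕ) ^ (2 * m + 1) = 3 ^ m * 3 ^ m * 3 := by
      rw [← pow_add, ← pow_succ]; congr 1; omega
    rw [this, pow_mul, pow_mul, h4]
  have h6 : a ^ 3 ^ (2 * m + 1) = a := by
    rw [← hK]; exact FiniteField.pow_card a
  have h7 : a ^ 3 = a := by rw [← h5, h6]
  apply ha2
  have : a * (a ^ 2 - 1) = 0 := by
    have : a * (a ^ 2 - 1) = a ^ 3 - a := by ring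
    rw [this, h7, sub_self]
  rcases mul_eq_zero.1 this with h8 | h8
  · exact absurd h8 ha
  · exact sub_eq_zero.1 h8

end Cfsg.Agent.Lib.helper8.RSM
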