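import Mathlib
import Cfsg.Agent.Lib.helper8.RSM.Defs
import Cfsg.Agent.Lib.Helper29.RSMA6

/-!
# Project RSM, row B1 (`conic_kill`), verbatim vs `helper8/RSM/Skel.lean.txt`.
-/

set_option autoImplicit false

namespace Cfsg.Agent.Lib.helper8.RSM

universe u v w

variable {G : Type u} [Group G] {K : Type v} [Field K] [Fintype K] {m : ℕ}

omit [Fintype K] in
/-- a map additive in the second variable, with values in a group: `B u 0 = 1`,
`B u (-w) = (B u w)⁻¹`. -/
theorem rsmb1_zero_neg {A : Type*} [Group A] (B : K → K → A)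
    (hr : ∀ u w w', B u (w + w') = B u w * B u w') (u : K) :
    B u 0 = 1 ∧ ∀ w, B u (-w) = (B u w)⁻¹ := by
  have h0 : B u 0 = 1 := by
    have h := hr u 0 0
    rw [add_zero] at h
    exact (mul_eq_left (a := B u 0) (b := B u 0)).1 h.symm
  refine ⟨h0, fun w => ?_⟩
  have h := hr u w (-w)
  rw [add_neg_cancel, h0] at h
  exact (inv_eq_of_mul_eq_one_right h.symm).symm

omit [Fintype K] in
/-- the generic step: if `B u w = B u (d * w)` for all `u w` with `d ≠ 1`, then `B = 1`. -/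
theorem rsmb1_fix {A : Type*} [Group A] (B : K → K → A)
    (hr : ∀ u w w', B u (w + w') = B u w * B u w') (d : K) (hd : d ≠ 1)
    (hfix : ∀ u w, B u w = B u (d * w)) : ∀ u w, B u w = 1 := by
  intro u w
  have hd1 : d - 1 ≠ 0 := sub_ne_zero.2 hd
  obtain ⟨-, hneg⟩ := rsmb1_zero_neg B hr u
  have hw : w = d * (w / (d - 1)) + -(w / (d - 1)) := by
    field_simp
    ring
  rw [hw, hr, hneg, ← hfix, mul_inv_cancel]

/-- B1 [M]. With `c = s², c' = s'²` of `conic`: `B u w = B (c u) w * B (c' u) w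
= B u (c⁻¹ w) * B u (c'⁻¹ w) = B u (d w)`, `d = (c c')⁻¹ ≠ 1`; so `B u ((d - 1) w) = 1` for all
`u, w` (`B u (-w) = (B u w)⁻¹`, `B u 0 = 1` from `hr`). -/
theorem conic_kill (hm : 1 ≤ m) (hK : Fintype.card K = 3 ^ (2 * m + 1)) {A : Type*} [Group A]
    (B : K → K → A) (hl : ∀ u u' w, B (u + u') w = B u w * B u' w)
    (hr : ∀ u w w', B u (w + w') = B u w * B u w')
    (hinv : ∀ s : K, s ≠ 0 → ∀ u w, B (s ^ 2 * u) (s ^ 2 * w) = B u w) :
    ∀ u w, B u w = 1 := by
  obtain ⟨c, c', ⟨s, hs, hc⟩, ⟨s', hs', hc'⟩, hsum, hprod⟩ := conic (K := K) hm hK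
  have hc0 : c ≠ 0 := by rw [hc]; exact pow_ne_zero 2 hs
  have hc'0 : c' ≠ 0 := by rw [hc']; exact pow_ne_zero 2 hs'
  -- moving a square from the first to the second variable
  have hmove : ∀ (t : K), t ≠ 0 → ∀ u w, B (t ^ 2 * u) w = B u ((t ^ 2)⁻¹ * w) := by
    intro t ht u w
    have h := hinv t ht u ((t ^ 2)⁻¹ * w)
    rw [← mul_assoc, mul_inv_cancel₀ (pow_ne_zero 2 ht), one_mul] at h
    exact h
  refine rsmb1_fix B hr ((c * c')⁻¹) ?_ ?_
  · intro h
    apply hprod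
    have := congrArg (fun x => x⁻¹) h
    simpa using this
  · intro u w
    have h1 : B u w = B (c * u) w * B (c' * u) w := by
      rw [← hl, ← add_mul, hsum, one_mul]
    rw [h1, hc, hc', hmove s hs, hmove s' hs', ← hr, ← hc, ← hc']
    congr 1
    have : c⁻¹ * w + c'⁻¹ * w = (c + c') * (c * c')⁻¹ * w := by
      field_simp
      ring
    rw [this, hsum, one_mul]

end Cfsg.Agent.Lib.helper8.RSM
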