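import Mathlib

set_option autoImplicit false

namespace Cfsg.Agent.Lib.Helper20.S3571
open Equiv

/-- C4a: Sylow: if `q ∤ |A : H|`, every `q`-element of `A` has an `A`-conjugate in `H`. -/
theorem exists_conj_mem_of_not_dvd {G : Type*} [Group G] [Finite G] (A H : Subgroup G)
    (hHA : H ≤ A) (n : ℕ) (hn : n * Nat.card H = Nat.card A) (q : ℕ) (hq : q.Prime)
    (hqn : ¬ q ∣ n) (t : G) (htA : t ∈ A) (k : ℕ) (ht : orderOf t = q ^ k) :
    ∃ x ∈ A, x * t * x⁻¹ ∈ H := by
  classical
  have : Fact q.Prime := ⟨hq⟩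
  set H' : Subgroup A := H.subgroupOf A with hH'
  set t' : A := ⟨t, htA⟩ with ht'
  have hcardH' : Nat.card H' = Nat.card H :=
    Nat.card_congr (Subgroup.subgroupOfEquivOfLe hHA).toEquiv
  have hn0 : n ≠ 0 := by
    intro h
    rw [h, zero_mul] at hn
    exact absurd hn.symm Nat.card_pos.ne'
  have hfac : (Nat.card A).factorization q = (Nat.card H').factorization q := by
    rw [← hn, hcardH', Nat.factorization_mul hn0 Nat.card_pos.ne', Finsupp.add_apply,
      Nat.factorization_eq_zero_of_not_dvd hqn, zero_add]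
  obtain ⟨P⟩ : Nonempty (Sylow q H') := inferInstance
  have hP : Nat.card P = q ^ (Nat.card H').factorization q := P.card_eq_multiplicity
  set P' : Subgroup A := (P : Subgroup H').map H'.subtype with hP'def
  have hP' : Nat.card P' = q ^ (Nat.card A).factorization q := by
    rw [hfac, ← hP]
    exact Nat.card_congr
      ((P : Subgroup H').equivMapOfInjective H'.subtype (Subgroup.subtype_injective _)).symm.toEquiv
  set S : Sylow q A := Sylow.ofCard P' hP' with hS
  have hz : IsPGroup q (Subgroup.zpowers t') := by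
    apply IsPGroup.of_card (n := k)
    rw [Nat.card_zpowers, ← ht]
    exact (Subgroup.orderOf_coe t').symm ▸ rfl
  obtain ⟨Q, hQ⟩ := hz.exists_le_sylow
  obtain ⟨g, hg⟩ := MulAction.exists_smul_eq A Q S
  refine ⟨(g : G), g.2, ?_⟩
  have htQ : t' ∈ (Q : Subgroup A) := hQ (Subgroup.mem_zpowers t')
  have h1 : g * t' * g⁻¹ ∈ ((g • Q : Sylow q A) : Subgroup A) := by
    rw [Sylow.coe_subgroup_smul]
    have := Subgroup.smul_mem_pointwise_smul t' (MulAut.conj g) (Q : Subgroup A) htQ
    simpa [MulAut.smul_def, MulAut.conj_apply] using this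
  rw [hg, hS] at h1
  change g * t' * g⁻¹ ∈ P' at h1
  rw [hP'def, Subgroup.mem_map] at h1
  obtain ⟨y, _, hy⟩ := h1
  have h2 : ((g * t' * g⁻¹ : A) : G) ∈ H := by
    rw [← hy]
    exact Subgroup.mem_subgroupOf.mp y.2
  simpa [ht'] using h2

end Cfsg.Agent.Lib.Helper20.S3571
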