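import Mathlib
import Cfsg.Agent.Lib.Helper20.S3571.Defs
import Cfsg.Agent.S0713
import Cfsg.Agent.Lib.Helper11.S3571C4a

set_option autoImplicit false

namespace Cfsg.Agent.Lib.Helper20.S3571
open Equiv

/-- C4 (core): the primitive case, with the `m < 2r` subcase (C0 after C1) as a hypothesis. -/
theorem h11_concl_of_preprimitive_aux (m : ℕ) (hm : 5 ≤ m) (H : Subgroup (Perm (Fin m)))
    (hHA : H ≤ alternatingGroup (Fin m)) (hne : H ≠ alternatingGroup (Fin m))
    (hprim : MulAction.IsPreprimitive ↥H (Fin m)) (n : ℕ)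
    (hn : n * Nat.card H = Nat.card (alternatingGroup (Fin m))) (r : ℕ) (hr : r.Prime)
    (hrd : r ∣ n) (hmax : ∀ s : ℕ, s.Prime → s ∣ n → s ≤ r)
    (hC : r ≤ m → m < 2 * r → Concl m H r) : Concl m H r := by
  have hm0 : NeZero m := ⟨by omega⟩
  -- Step 1: `3 ∣ n`
  have h3n : 3 ∣ n := by
    by_contra h3
    obtain ⟨k, rfl⟩ : ∃ k, m = k + 3 := ⟨m - 3, by omega⟩
    have ht3 : (Fin.cycleRange 2 : Perm (Fin (k + 3))).IsThreeCycle :=
      Fin.isThreeCycle_cycleRange_two
    set t : Perm (Fin (k + 3)) := Fin.cycleRange 2 with htdef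
    have htA : t ∈ alternatingGroup (Fin (k + 3)) := ht3.mem_alternatingGroup
    have hto : orderOf t = 3 ^ 1 := by rw [ht3.orderOf]; norm_num
    obtain ⟨x, hxA, hxH⟩ := exists_conj_mem_of_not_dvd (alternatingGroup (Fin (k + 3))) H hHA n hn 3
      Nat.prime_three h3 t htA 1 hto
    have h3c : (x * t * x⁻¹).IsThreeCycle := by
      rw [Equiv.Perm.IsThreeCycle, Equiv.Perm.cycleType_conj]; exact ht3
    have := Equiv.Perm.alternatingGroup_le_of_isPreprimitive_of_isThreeCycle_mem hprim h3c hxH
    exact hne (le_antisymm hHA this)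
  have hr3 : 3 ≤ r := hmax 3 Nat.prime_three h3n
  -- `r ≤ m`
  have hrm : r ≤ m := by
    have h1 : r ∣ Nat.card (alternatingGroup (Fin m)) := by
      rw [← hn]; exact Dvd.dvd.mul_right hrd _
    have h2 : Nat.card (alternatingGroup (Fin m)) ∣ m.factorial := by
      have := Subgroup.card_subgroup_dvd_card (alternatingGroup (Fin m))
      rwa [Nat.card_perm, Nat.card_eq_fintype_card (α := Fin m), Fintype.card_fin] at this
    exact (hr.dvd_factorial).mp (h1.trans h2)
  rcases Nat.lt_or_ge m (r + 3) with hlt | hge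
  · have hq2 : m < 2 * r := by omega
    exact hC hrm hq2
  · -- `r + 3 ≤ m`: an `r`-cycle
    set i : Fin m := ⟨r - 1, by omega⟩ with hi
    have hi0 : i ≠ 0 := by
      intro h
      have := congrArg Fin.val h
      simp [hi] at this
      omega
    set a : Perm (Fin m) := Fin.cycleRange i with hadef
    have hac : a.IsCycle := Fin.isCycle_cycleRange hi0
    have hct : a.cycleType = {r} := by
      rw [hadef, Fin.cycleType_cycleRange hi0]
      have : (i : ℕ) + 1 = r := by simp [hi]; omega
      rw [this]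
    have hsupp : a.support.card = r := by
      have h1 := hac.cycleType
      rw [hct] at h1
      exact (Multiset.singleton_inj.mp h1).symm
    have hao : orderOf a = r := by rw [hac.orderOf, hsupp]
    have haA : a ∈ alternatingGroup (Fin m) := by
      rw [Equiv.Perm.mem_alternatingGroup, hac.sign, hsupp]
      have hodd : Odd r := hr.odd_of_ne_two (by omega)
      rw [hodd.neg_one_pow]; simp
    refine ⟨a, haA, hao, ?_⟩
    intro x _ hmem
    have hcx : (x * a * x⁻¹).IsCycle := hac.conj
    have hsx : (x * a * x⁻¹).support.card = r := by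
      rw [Equiv.Perm.card_support_conj, hsupp]
    have := Cfsg.Agent.S0713.result H hprim hr (by rw [Fintype.card_fin]; exact hm)
      (by rw [Fintype.card_fin]; exact hge) hcx hsx hmem
    exact hne (le_antisymm hHA this)

end Cfsg.Agent.Lib.Helper20.S3571
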