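import Mathlib
import Cfsg.Agent.Lib.helper23.OrdGen3
import Cfsg.Agent.Lib.helper8.SylowBasic
import Cfsg.Agent.Lib.helper8.SimpleEmbed
import Cfsg.Agent.Lib.Helper18.ConjCount
import Cfsg.Agent.Lib.Helper24.BrauerFowler
import Cfsg.Agent.S1019

set_option autoImplicit false

/-! Project S496, piece 1080: there is no simple group of order 1080. -/

namespace Cfsg.Agent.Lib.helper3.S496

open Cfsg.Agent.Lib.helper8 Cfsg.Agent.Lib.helper23

/-- first reduction: `n_5 = 36`, `|N(P)| = 30`, `|C(P)| = 15`. -/
theorem s1080_data {G : Type*} [Group G] [Finite G] [IsSimpleGroup G]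
    (hG : Nat.card G = 1080) [Fact (Nat.Prime 5)] (P : Sylow 5 G) :
    Nat.card (P : Subgroup G) = 5 ∧ Nat.card (Sylow 5 G) = 36 ∧
      Nat.card (Subgroup.normalizer ((P : Subgroup G) : Set G)) = 30 ∧
      Nat.card (Subgroup.centralizer ((P : Subgroup G) : Set G)) = 15 ∧
      Nat.card (G ⧸ Subgroup.normalizer ((P : Subgroup G) : Set G)) = 36 := by
  have hG' : Nat.card G = 5 ^ 1 * 216 := by rw [hG]; norm_num
  have hnd : ¬ 5 ∣ 216 := by norm_num
  have hnc : ¬ IsMulCommutative G := h8_not_comm_of_card (by rw [hG]; norm_num)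
  obtain ⟨hP, hNn, hX, r, hr4, hr1, hCr⟩ := og3_sylow_data 5 216 hG' hnd (by norm_num) P
  have hmem := h8_nsylow_mem 5 1 216 hG' hnd
  have hne1 := h8_simple_nsylow_ne_one 5 1 216 hG' hnd (by norm_num) (by norm_num)
  have hdiv : (Nat.divisors 216).filter (fun d => d % 5 = 1) = {1, 6, 36, 216} := by decide +kernel
  rw [hdiv] at hmem
  simp only [Finset.mem_insert, Finset.mem_singleton] at hmem
  have hr : r = 2 ∨ r = 4 := by
    have : r ∈ Nat.divisors 4 := Nat.mem_divisors.mpr ⟨hr4, by norm_num⟩
    have hd : Nat.divisors 4 = {1, 2, 4} := by decide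
    rw [hd] at this
    simp only [Finset.mem_insert, Finset.mem_singleton] at this
    rcases this with h | h | h
    · exact absurd h hr1
    · exact Or.inl h
    · exact Or.inr h
  rw [hG] at hNn
  rcases hmem with h | h | h | h
  · exact absurd h hne1
  · -- n_5 = 6
    exfalso
    have hidx := h8_nsylow_eq_index_normalizer 5 P
    have hNtop : Subgroup.normalizer ((P : Subgroup G) : Set G) ≠ ⊤ := by
      intro htop
      rw [htop, Subgroup.index_top] at hidx
      omega
    have := h8_simple_two_mul_card_dvd_factorial hnc _ hNtop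
    rw [← hidx, h, hG] at this
    revert this
    decide
  · -- n_5 = 36
    have hN : Nat.card (Subgroup.normalizer ((P : Subgroup G) : Set G)) = 30 := by
      rw [h] at hNn; omega
    refine ⟨hP, h, hN, ?_, by rw [hX, h]⟩
    rw [hN] at hCr
    rcases hr with rfl | rfl <;> omega
  · -- n_5 = 216
    exfalso
    have hN : Nat.card (Subgroup.normalizer ((P : Subgroup G) : Set G)) = 5 := by
      rw [h] at hNn; omega
    rw [hN] at hCr
    rcases hr with rfl | rfl <;> omega


/-- a subgroup of order 5 of a group of order 90 is normal. -/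
theorem s1080_normal_five {H : Type*} [Group H] [Finite H] (hH : Nat.card H = 90)
    [Fact (Nat.Prime 5)] (Q : Subgroup H) (hQ : Nat.card Q = 5) : Q.Normal := by
  obtain ⟨K, hK⟩ := Cfsg.Agent.Lib.Helper24.bf_two_odd (G := H) 45 (by decide) (by rw [hH])
  have hKn : K.Normal := Subgroup.normal_of_index_eq_two hK
  have hKcard : Nat.card K = 45 := by
    have := K.card_mul_index
    rw [hK, hH] at this
    omega
  -- every element of order dividing 5 lies in K
  have hmemK : ∀ u : H, u ^ 5 = 1 → u ∈ K := by
    intro u hu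
    have h1 : u ^ 2 ∈ K := Subgroup.sq_mem_of_index_two hK u
    have h2 : (u ^ 2) ^ 3 ∈ K := K.pow_mem h1 3
    have h3 : (u ^ 2) ^ 3 = u := by
      rw [← pow_mul]
      calc u ^ 6 = u ^ 5 * u := by rw [pow_succ]
        _ = u := by rw [hu, one_mul]
    rwa [h3] at h2
  have hpow5 : ∀ (T : Subgroup H), Nat.card T = 5 → ∀ u ∈ T, u ^ 5 = 1 := by
    intro T hT u hu
    have := pow_card_eq_one' (G := T) (x := ⟨u, hu⟩)
    rw [hT] at this
    have := congrArg Subtype.val this
    simpa using this
  have hleK : ∀ (T : Subgroup H), Nat.card T = 5 → T ≤ K := fun T hT u hu =>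
    hmemK u (hpow5 T hT u hu)
  -- unique Sylow 5-subgroup of K
  have hK' : Nat.card K = 5 ^ 1 * 9 := by rw [hKcard]; norm_num
  have hmem := h8_nsylow_mem (G := K) 5 1 9 hK' (by norm_num)
  have hdiv : (Nat.divisors 9).filter (fun d => d % 5 = 1) = {1} := by decide
  rw [hdiv, Finset.mem_singleton] at hmem
  have : Subsingleton (Sylow 5 K) := (Nat.card_eq_one_iff_unique.mp hmem).1
  have huniq : ∀ (T : Subgroup H), Nat.card T = 5 → T = Q := by
    intro T hT
    have hfac : (Nat.card K).factorization 5 = 1 := by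
      rw [hKcard]
      have : (45 : ℕ) = 5 ^ 1 * 9 := by norm_num
      rw [this, Nat.factorization_mul (by norm_num) (by norm_num)]
      simp [Nat.Prime.factorization_self (by norm_num : Nat.Prime 5),
        Nat.factorization_eq_zero_of_not_dvd (by norm_num : ¬ 5 ∣ 9)]
    have c1 : Nat.card (T.subgroupOf K) = 5 ^ (Nat.card K).factorization 5 := by
      rw [hfac, pow_one, ← hT]
      exact Nat.card_congr (Subgroup.subgroupOfEquivOfLe (hleK T hT)).toEquiv
    have c2 : Nat.card (Q.subgroupOf K) = 5 ^ (Nat.card K).factorization 5 := by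
      rw [hfac, pow_one, ← hQ]
      exact Nat.card_congr (Subgroup.subgroupOfEquivOfLe (hleK Q hQ)).toEquiv
    have heq : Sylow.ofCard (T.subgroupOf K) c1 = Sylow.ofCard (Q.subgroupOf K) c2 :=
      Subsingleton.elim _ _
    have heq' : T.subgroupOf K = Q.subgroupOf K := by
      have := congrArg (fun S : Sylow 5 K => (S : Subgroup K)) heq
      simpa using this
    have := congrArg (Subgroup.map K.subtype) heq'
    rwa [Subgroup.subgroupOf_map_subtype, Subgroup.subgroupOf_map_subtype,
      inf_eq_left.mpr (hleK T hT), inf_eq_left.mpr (hleK Q hQ)] at this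
  constructor
  intro n hn g
  have hT : Nat.card (Q.map (MulAut.conj g).toMonoidHom) = 5 := by
    rw [Subgroup.card_map_of_injective (MulAut.conj g).injective, hQ]
  have := huniq _ hT
  rw [← this]
  exact ⟨n, hn, by simp [MulAut.conj_apply]⟩


/-- at most two conjugates of an element of order 3 lie in `N(P)` when `|P| = 5`, `|C(P)| = 15`,
`|N(P)| = 30`. -/
theorem s1080_conj_count {G : Type*} [Group G] [Finite G] (P : Subgroup G)
    (hP : Nat.card P = 5)
    (hN : Nat.card (Subgroup.normalizer (P : Set G)) = 30)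
    (hC : Nat.card (Subgroup.centralizer (P : Set G)) = 15) (y : G) (hy : orderOf y = 3) :
    Nat.card {g : G // IsConj y g ∧ g ∈ Subgroup.normalizer (P : Set G)} ≤ 2 := by
  classical
  set N := Subgroup.normalizer (P : Set G) with hNdef
  set C := Subgroup.centralizer (P : Set G) with hCdef
  have hCN : C ≤ N := Subgroup.centralizer_le_normalizer _
  have : Fact (Nat.Prime 5) := ⟨by norm_num⟩
  have hPC : P ≤ C := by
    have : IsCyclic P := isCyclic_of_prime_card hP
    exact Subgroup.le_centralizer_iff_isMulCommutative.mpr inferInstance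
  have hpow5 : ∀ u ∈ P, u ^ 5 = 1 := by
    intro u hu
    have := pow_card_eq_one' (G := P) (x := ⟨u, hu⟩)
    rw [hP] at this
    have := congrArg Subtype.val this
    simpa using this
  -- index 2
  have hidx : (C.subgroupOf N).index = 2 := by
    have h1 : Nat.card (C.subgroupOf N) = 15 := by
      rw [← hC]; exact Nat.card_congr (Subgroup.subgroupOfEquivOfLe hCN).toEquiv
    have h2 := (C.subgroupOf N).card_mul_index
    rw [h1, hN] at h2
    omega
  have hNC : ∀ g ∈ N, g ^ 3 = 1 → g ∈ C := by
    intro g hg h3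
    have h1 := Subgroup.sq_mem_of_index_two hidx ⟨g, hg⟩
    rw [Subgroup.mem_subgroupOf] at h1
    have h2 : g ^ 2 ∈ C := by simpa using h1
    have h4 : (g ^ 2) ^ 2 = g := by
      rw [← pow_mul]
      calc g ^ 4 = g ^ 3 * g := by rw [pow_succ]
        _ = g := by rw [h3, one_mul]
    rw [← h4]; exact C.pow_mem h2 2
  -- the set S of elements of C of order dividing 3
  have hS3 : Nat.card {g : G // g ∈ C ∧ g ^ 3 = 1} ≤ 3 := by
    have hinj : Function.Injective (fun z : {g : G // g ∈ C ∧ g ^ 3 = 1} × P => (⟨z.1.1 * z.2.1,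
        C.mul_mem z.1.2.1 (hPC z.2.2)⟩ : C)) := by
      rintro ⟨⟨g, hgC, hg3⟩, ⟨u, hu⟩⟩ ⟨⟨g', hgC', hg3'⟩, ⟨u', hu'⟩⟩ h
      have h1 : g * u = g' * u' := congrArg Subtype.val h
      set w := u' * u⁻¹ with hw
      have hwP : w ∈ P := P.mul_mem hu' (P.inv_mem hu)
      have hgw : g = g' * w := by
        rw [hw, ← mul_assoc, ← h1]; group
      have hcomm : g' * w = w * g' := (Subgroup.mem_centralizer_iff.mp hgC' w hwP).symm
      have hw3 : w ^ 3 = 1 := by
        have : (g' * w) ^ 3 = g' ^ 3 * w ^ 3 := (Commute.mul_pow hcomm 3)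
        rw [← hgw, hg3, hg3', one_mul] at this
        exact this.symm
      have hw5 := hpow5 w hwP
      have hw1 : w = 1 := by
        have h6 : w ^ 6 = 1 := by
          calc w ^ 6 = (w ^ 3) ^ 2 := by rw [← pow_mul]
            _ = 1 := by rw [hw3, one_pow]
        calc w = w ^ 6 * (w ^ 5)⁻¹ := by group
          _ = 1 := by rw [h6, hw5]; simp
      have hgg : g = g' := by rw [hgw, hw1, mul_one]
      have huu : u = u' := by
        have : u' * u⁻¹ = 1 := by rw [← hw]; exact hw1
        exact (mul_inv_eq_one.mp this).symm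
      subst hgg; subst huu; rfl
    have h1 := Nat.card_le_card_of_injective _ hinj
    rw [Nat.card_prod, hP, hC] at h1
    omega
  have hy1 : y ≠ 1 := by
    intro h
    rw [h, orderOf_one] at hy
    norm_num at hy
  have hconj3 : ∀ g : G, IsConj y g → g ^ 3 = 1 ∧ g ≠ 1 := by
    intro g hg
    obtain ⟨c, hc⟩ := isConj_iff.mp hg
    constructor
    · rw [← hc, conj_pow, ← hy, pow_orderOf_eq_one]; group
    · intro h1
      apply hy1
      rw [h1] at hc
      have : y = c⁻¹ * 1 * c := by rw [← hc]; group
      simpa using this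
  have hinj2 : Function.Injective (fun o : Option {g : G // IsConj y g ∧ g ∈ N} =>
      (match o with
        | none => (⟨1, C.one_mem, one_pow 3⟩ : {g : G // g ∈ C ∧ g ^ 3 = 1})
        | some g => ⟨g.1, hNC g.1 g.2.2 (hconj3 g.1 g.2.1).1, (hconj3 g.1 g.2.1).1⟩)) := by
    intro a b hab
    match a, b with
    | none, none => rfl
    | none, some g =>
      exfalso
      have := congrArg Subtype.val hab
      exact (hconj3 g.1 g.2.1).2 this.symm
    | some g, none =>
      exfalso
      have := congrArg Subtype.val hab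
      exact (hconj3 g.1 g.2.1).2 this
    | some g, some g' =>
      have := congrArg Subtype.val hab
      exact congrArg some (Subtype.ext this)
  have h2 := Nat.card_le_card_of_injective _ hinj2
  rw [Finite.card_option] at h2
  omega


/-- an element of order 3 acting on a finite set: `|X| ≡ fix(y)` mod 3. -/
theorem s1080_fix_mod_three {G X : Type*} [Group G] [MulAction G X] [Finite X] (y : G)
    (hy : orderOf y = 3) :
    Nat.card X ≡ Nat.card (MulAction.fixedBy X y) [MOD 3] := by
  have : Fact (Nat.Prime 3) := ⟨by norm_num⟩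
  have hpg : IsPGroup 3 (Subgroup.zpowers y) := by
    apply IsPGroup.of_card (n := 1)
    rw [Nat.card_zpowers, hy, pow_one]
  have h := og2_card_fixedBy_modEq_of_commute (X := X) (p := 3) (1 : G) y (Commute.one_left y) hpg
  have e1 : Nat.card (MulAction.fixedBy X (1 : G)) = Nat.card X := by
    have : MulAction.fixedBy X (1 : G) = Set.univ := by
      ext x; simp
    rw [this]
    exact Nat.card_congr (Equiv.Set.univ X)
  have e2 : Nat.card {x : X // (1 : G) • x = x ∧ y • x = x} = Nat.card (MulAction.fixedBy X y) := by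
    apply Nat.card_congr
    apply Equiv.subtypeEquivRight
    intro x
    simp [MulAction.mem_fixedBy]
  rw [e1, e2] at h
  exact h

theorem no_simple_1080 {G : Type*} [Group G] [Finite G] [IsSimpleGroup G]
    (hG : Nat.card G = 1080) : False := by
  classical
  have : Fact (Nat.Prime 5) := ⟨by norm_num⟩
  have : Fact (Nat.Prime 3) := ⟨by norm_num⟩
  have hnc : ¬ IsMulCommutative G := h8_not_comm_of_card (by rw [hG]; norm_num)
  obtain ⟨P⟩ : Nonempty (Sylow 5 G) := inferInstance
  obtain ⟨hP, hn5, hN, hC, hX⟩ := s1080_data hG P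
  have hCN : Subgroup.centralizer ((P : Subgroup G) : Set G) ≤
      Subgroup.normalizer ((P : Subgroup G) : Set G) := Subgroup.centralizer_le_normalizer _
  -- an element of order 3 in C(P)
  obtain ⟨y', hy'⟩ := exists_prime_orderOf_dvd_card' (G := Subgroup.centralizer ((P : Subgroup G) : Set G)) 3
    (by rw [hC]; norm_num)
  have hy : orderOf (y' : G) = 3 := by rw [Subgroup.orderOf_coe]; exact hy'
  obtain ⟨y, hyy⟩ : ∃ y : G, y = (y' : G) := ⟨_, rfl⟩
  rw [← hyy] at hy
  have hyC : y ∈ Subgroup.centralizer ((P : Subgroup G) : Set G) := by rw [hyy]; exact y'.2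
  have hy1 : y ≠ 1 := by
    intro h
    rw [h, orderOf_one] at hy
    norm_num at hy
  -- fixed points of y
  have hf5 := og2_card_fixedBy_modEq_one 5 P hP y hyC
  have hf3 := s1080_fix_mod_three (X := G ⧸ Subgroup.normalizer ((P : Subgroup G) : Set G)) y hy
  have hNtop : Subgroup.normalizer ((P : Subgroup G) : Set G) ≠ ⊤ := by
    intro h
    rw [h, Subgroup.card_top, hG] at hN
    omega
  have hfle : Nat.card (MulAction.fixedBy (G ⧸ Subgroup.normalizer ((P : Subgroup G) : Set G)) y) ≤
      Nat.card (G ⧸ Subgroup.normalizer ((P : Subgroup G) : Set G)) := Finite.card_subtype_le _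
  have hfne : Nat.card (MulAction.fixedBy (G ⧸ Subgroup.normalizer ((P : Subgroup G) : Set G)) y) ≠
      Nat.card (G ⧸ Subgroup.normalizer ((P : Subgroup G) : Set G)) := by
    intro h
    exact hy1 (og2_eq_one_of_card_fixedBy _ hNtop y h)
  have h1019 := Cfsg.Agent.S1019.result (Subgroup.normalizer ((P : Subgroup G) : Set G)) y (hCN hyC)
  have hidx : (Subgroup.normalizer ((P : Subgroup G) : Set G)).index = 36 := by
    rw [← hn5]; exact (h8_nsylow_eq_index_normalizer 5 P).symm
  have hkm := Cfsg.Agent.Lib.Helper18.card_isConj_mul_card_centralizer y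
  have hc2 := s1080_conj_count (P : Subgroup G) hP hN hC y hy
  have hc1 : 1 ≤ Nat.card {g : G // IsConj y g ∧ g ∈ Subgroup.normalizer ((P : Subgroup G) : Set G)} := by
    apply Nat.card_pos_iff.mpr
    exact ⟨⟨⟨y, IsConj.refl _, hCN hyC⟩⟩, inferInstance⟩
  rw [hidx] at h1019
  rw [hG] at hkm
  rw [hX] at hf3 hfle hfne
  set f := Nat.card (MulAction.fixedBy (G ⧸ Subgroup.normalizer ((P : Subgroup G) : Set G)) y) with hf
  set c := Nat.card {g : G // IsConj y g ∧ g ∈ Subgroup.normalizer ((P : Subgroup G) : Set G)} with hc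
  set k := Nat.card {g : G // IsConj y g} with hk
  set m := Nat.card (Subgroup.centralizer ({y} : Set G)) with hm
  have hfcases : f = 6 ∨ f = 21 := by
    unfold Nat.ModEq at hf5 hf3
    omega
  have hmcases : m = 180 ∨ m = 90 := by
    rcases hfcases with h6 | h21
    · rw [h6] at h1019
      have hcc : c = 1 ∨ c = 2 := by omega
      rcases hcc with h | h
      · rw [h] at h1019
        have : k = 6 := by omega
        rw [this] at hkm
        left; omega
      · rw [h] at h1019
        have : k = 12 := by omega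
        rw [this] at hkm
        right; omega
    · exfalso
      rw [h21] at h1019
      omega
  rcases hmcases with h180 | h90
  · -- index 6
    have hidx6 : (Subgroup.centralizer ({y} : Set G)).index = 6 := by
      have := (Subgroup.centralizer ({y} : Set G)).card_mul_index
      rw [← hm, h180, hG] at this
      omega
    have hMtop : Subgroup.centralizer ({y} : Set G) ≠ ⊤ := by
      intro h
      rw [h, Subgroup.index_top] at hidx6
      omega
    have := h8_simple_two_mul_card_dvd_factorial hnc _ hMtop
    rw [hidx6, hG] at this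
    revert this
    decide
  · -- |C(y)| = 90
    have hPM : (P : Subgroup G) ≤ Subgroup.centralizer ({y} : Set G) := by
      intro u hu
      rw [Subgroup.mem_centralizer_iff]
      intro z hz
      rw [Set.mem_singleton_iff] at hz
      rw [hz]
      exact (Subgroup.mem_centralizer_iff.mp hyC u hu).symm
    have hQ : Nat.card ((P : Subgroup G).subgroupOf (Subgroup.centralizer ({y} : Set G))) = 5 :=
      (Nat.card_congr (Subgroup.subgroupOfEquivOfLe hPM).toEquiv).trans hP
    have hnorm := s1080_normal_five (H := Subgroup.centralizer ({y} : Set G)) (by rw [← hm, h90])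
      _ hQ
    rw [Subgroup.normal_subgroupOf_iff_le_normalizer hPM] at hnorm
    have := Subgroup.card_le_of_le hnorm
    rw [hN, ← hm, h90] at this
    omega

end Cfsg.Agent.Lib.helper3.S496
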