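import Mathlib
import Cfsg.Agent.Lib.helper3.S5953.Defs
import Cfsg.Agent.Lib.Lead.HermCount
import Cfsg.Agent.Lib.Lead.Unitary
import Cfsg.Agent.Lib.helper6.HermGram
import Cfsg.Prelude.Def_LieClassical

set_option autoImplicit false
set_option linter.unusedVariables false
set_option linter.unusedSectionVars false

/-!
# Project S5953 (designer helper3), row T10 (`iso_count`), verbatim from `helper3/S5953/Skel.lean.txt` (helper11).
Orthonormal basis of `N` (helper6 `exists_orthonormal`), coordinates `c ↦ ∑ c_k b_k`, then lead's `card_herm`.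
-/

namespace Cfsg.Agent.Lib.helper3.S5953

open Polynomial Module

/-- the form on a linear combination of an orthonormal family -/
theorem s5953t10_form {F : Type*} [Field F] [Fintype F] {q n d : ℕ} (hF : Fintype.card F = q ^ 2)
    (b : Fin d → (Fin n → F)) (hb : ∀ i j, hermI (Fin n) F q (b i) (b j) = if i = j then 1 else 0)
    (c : Fin d → F) :
    hermI (Fin n) F q (∑ k, c k • b k) (∑ k, c k • b k) = ∑ k, c k * c k ^ q := by
  obtain ⟨σ, hσ⟩ := Cfsg.Agent.Lib.Lead.exists_frob hF
  have hadd : ∀ (s : Finset (Fin d)) (g : Fin d → (Fin n → F)) (v : Fin n → F),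
      hermI (Fin n) F q (∑ k ∈ s, g k) v = ∑ k ∈ s, hermI (Fin n) F q (g k) v := by
    intro s g v
    induction s using Finset.induction_on with
    | empty => simp [hermI_zero_left]
    | insert a s ha ih => rw [Finset.sum_insert ha, Finset.sum_insert ha, hermI_add_left, ih]
  have hright : ∀ (u : Fin n → F), hermI (Fin n) F q u (∑ l, c l • b l)
      = ∑ l, c l ^ q * hermI (Fin n) F q u (b l) := by
    intro u
    unfold hermI
    have h1 : ∀ i : Fin n, ((∑ l, c l • b l) i) ^ q = ∑ l, c l ^ q * (b l i) ^ q := by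
      intro i
      rw [← hσ, Finset.sum_apply, map_sum]
      apply Finset.sum_congr rfl
      intro l _
      rw [Pi.smul_apply, smul_eq_mul, map_mul, hσ, hσ]
    simp_rw [h1, Finset.mul_sum]
    rw [Finset.sum_comm]
    apply Finset.sum_congr rfl
    intro l _
    apply Finset.sum_congr rfl
    intro i _
    ring
  rw [hadd]
  apply Finset.sum_congr rfl
  intro k _
  rw [hermI_smul_left, hright, Finset.sum_eq_single k]
  · rw [hb k k, if_pos rfl, mul_one]
  · intro l _ hlk
    rw [hb k l, if_neg (Ne.symm hlk), mul_zero]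
  · intro h
    exact absurd (Finset.mem_univ k) h

/-- T10 [M-L] ISOCOUNT: the number of isotropic vectors of a non-degenerate `d`-space is
`(hermAB q d).1` (orthonormal basis + `Lead/HermCount.card_herm`). -/
theorem iso_count {F : Type*} [Field F] [Fintype F] {q n : ℕ} (hF : Fintype.card F = q ^ 2)
    (N : Submodule F (Fin n → F)) (hN : HND q N) :
    Nat.card {v : Fin n → F // v ∈ N ∧ hermI (Fin n) F q v v = 0} =
      (Cfsg.Agent.Lib.Lead.hermAB q (finrank F N)).1 := by
  classical
  obtain ⟨b, hli, hspan, hon⟩ := Cfsg.Agent.Lib.helper6.HF.exists_orthonormal hF N hN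
  have hq0 : q ≠ 0 := by
    rintro rfl
    have : 0 < Fintype.card F := Fintype.card_pos
    rw [hF] at this
    simp at this
  -- the coordinate map
  have hinj : Function.Injective (fun c : Fin (finrank F N) → F => ∑ k, c k • b k) := by
    intro c c' hcc
    have h0 : ∑ k, (c k - c' k) • b k = 0 := by
      simp only [sub_smul, Finset.sum_sub_distrib]
      exact sub_eq_zero.2 hcc
    have h1 := Fintype.linearIndependent_iff.1 hli (fun k => c k - c' k) h0
    funext k
    exact sub_eq_zero.1 (h1 k)
  have hmem : ∀ c : Fin (finrank F N) → F, (∑ k, c k • b k) ∈ N := by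
    intro c
    have hbN : ∀ k, b k ∈ N := fun k => hspan ▸ Submodule.subset_span ⟨k, rfl⟩
    exact Submodule.sum_mem _ (fun k _ => Submodule.smul_mem _ _ (hbN k))
  have hsurj : ∀ v ∈ N, ∃ c : Fin (finrank F N) → F, ∑ k, c k • b k = v := by
    intro v hv
    have hv' : v ∈ Submodule.span F (Set.range b) := hspan.symm ▸ hv
    obtain ⟨c, hc⟩ := (Submodule.mem_span_range_iff_exists_fun F).1 hv'
    exact ⟨c, hc⟩
  have hform := s5953t10_form hF b hon
  -- the bijection
  have hcard : Nat.card {v : Fin n → F // v ∈ N ∧ hermI (Fin n) F q v v = 0} =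
      Nat.card {c : Fin (finrank F N) → F // ∑ k, c k * c k ^ q = 0} := by
    symm
    apply Nat.card_congr
    refine Equiv.ofBijective
      (fun c => ⟨∑ k, c.1 k • b k, hmem c.1, by rw [hform]; exact c.2⟩) ⟨?_, ?_⟩
    · intro c c' hcc
      apply Subtype.ext
      exact hinj (congrArg Subtype.val hcc)
    · rintro ⟨v, hvN, hv0⟩
      obtain ⟨c, hc⟩ := hsurj v hvN
      refine ⟨⟨c, ?_⟩, Subtype.ext hc⟩
      rw [← hform, hc]
      exact hv0
  rw [hcard]
  have h1 := Cfsg.Agent.Lib.Lead.card_herm hF (finrank F N) (0 : F) (zero_pow hq0)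
  rw [if_pos rfl] at h1
  rw [← h1, Nat.card_eq_fintype_card, Fintype.card_subtype]
end Cfsg.Agent.Lib.helper3.S5953
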