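import Mathlib
import Cfsg.Agent.Lib.helper3.S5953.Defs

set_option autoImplicit false
set_option linter.unusedVariables false
set_option linter.unusedSectionVars false

/-!
# Project S5953 (designer helper3), row T9 (`ti_le_half`): CORE (helper11), with the conclusion of T3 (`perp_dim`) at `U = T` as a hypothesis.
Wrapper: `ti_le_half hF N T hN hTN hT := s5953t9_core N T hTN hT (perp_dim hF N T hN hTN)`.
-/

namespace Cfsg.Agent.Lib.helper3.S5953

open Polynomial Module

theorem s5953t9_core {F : Type*} [Field F] {q n : ℕ} (N T : Submodule F (Fin n → F)) (hTN : T ≤ N)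
    (hT : HTI q T) (hdim : finrank F ↥(N ⊓ hperp q T) + finrank F T = finrank F N) :
    2 * finrank F T ≤ finrank F N := by
  have hle : T ≤ N ⊓ hperp q T := by
    intro t ht
    exact ⟨hTN ht, fun w hw => hT t ht w hw⟩
  have := Submodule.finrank_mono hle
  omega

end Cfsg.Agent.Lib.helper3.S5953
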