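import Mathlib
import Cfsg.Agent.Lib.helper3.S5953.Defs
import Cfsg.Agent.Lib.Lead.HermCount
import Cfsg.Prelude.Def_LieClassical
import Cfsg.Agent.Lib.Helper11.S5953T9core
import Cfsg.Agent.Lib.helper8.S5953T3

set_option autoImplicit false
set_option linter.unusedVariables false
set_option linter.unusedSectionVars false

/-!
# Project S5953 (designer helper3), row T9 (`ti_le_half`), verbatim from `helper3/S5953/Skel.lean.txt` (helper11): `s5953t9_core` + helper8's `perp_dim`.
-/

namespace Cfsg.Agent.Lib.helper3.S5953

open Polynomial Module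

/-- T9 [S-M] TIHALF: a t.i. subspace of a non-degenerate space has at most half the dimension. -/
theorem ti_le_half {F : Type*} [Field F] [Fintype F] {q n : ℕ} (hF : Fintype.card F = q ^ 2)
    (N T : Submodule F (Fin n → F)) (hN : HND q N) (hTN : T ≤ N) (hT : HTI q T) :
    2 * finrank F T ≤ finrank F N :=
  s5953t9_core N T hTN hT (perp_dim hF N T hN hTN)

end Cfsg.Agent.Lib.helper3.S5953
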