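import Mathlib
import Cfsg.Agent.Lib.Helper19.S5954.Defs
import Cfsg.Agent.Lib.helper17.S5954TEVEN
import Cfsg.Agent.Lib.helper17.S5954TLINE
import Cfsg.Agent.Lib.Helper5.S5954TZ
import Cfsg.Agent.Lib.Helper5.S5954TQODD
import Cfsg.Agent.Lib.helper6.S5954TDET
import Cfsg.Agent.Lib.Helper5.S5954TWOARITH
import Cfsg.Agent.Lib.helper2.S5954TSQRT

set_option autoImplicit false
set_option linter.unusedVariables false
set_option linter.unusedSectionVars false

/-!
# Project S5954 (designer helper19; part T sub-designer helper17), row TSUFF (`t_two_suff_abs`), verbatim from `helper17/S5954/SkelT.lean.txt` (helper11).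
-/

namespace Cfsg.Agent.Lib.Helper19.S5954

open Polynomial Module Cfsg.Agent.Lib.Helper13.S5955

variable {F : Type*} [Field F] {V : Type*} [AddCommGroup V] [Module F V]

/-- TSUFF [M] (TZ: `z ^ (q + 1) = 1`; TSQRT: `z = μ * μ`, `μ ^ (q + 1) = ± 1`.  `+1`: TALL with `N = ⊤`.  `-1`: `m` even: TEVEN with `N = ⊤`; `m` odd:
TDET gives `n` even and `(-z)^(n/2) = det x = 1`; `z` is not a square in `N1` [`w * w = μ * μ` ⇒ `w = ± μ` ⇒ `w^(q+1) = -1`, `q + 1` even by TQODD];
TWOARITH contradicts `hcond`). -/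
theorem t_two_suff_abs [Fintype F] [FiniteDimensional F V] [Nontrivial V] {q : ℕ} (hq : Fintype.card F = q ^ 2) (h2 : (2 : F) ≠ 0)
    {R : ℕ} (hR : 0 < R) {σ : F →+* F} (hσ : ∀ a, σ a = a ^ q) {B : V →ₛₗ[σ] V →ₗ[F] F} {x : Module.End F V}
    (h : HCtx R σ B x) (z : F) (hsq : x * x = z • 1) (hdet : LinearMap.det x = 1) (m : ℕ) (hm : m ≤ finrank F V)
    (hcond : Odd (finrank F V) ∨ Even m ∨
      (padicValNat 2 (finrank F V) ≤ padicValNat 2 (q + 1) ∧ q % 4 = 3)) : HNDd B x m := by
  have hz1 : σ z * z = 1 := t_z_norm h z hsq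
  have hz : z ^ (q + 1) = 1 := by
    rw [pow_succ, ← hσ]
    exact hz1
  obtain ⟨μ, hμz, hμ⟩ := n1_sqrt hq h2 z hz
  have hsq' : x * x = (μ * μ) • 1 := by rw [hμz]; exact hsq
  have hσμ : σ μ * μ = μ ^ (q + 1) := by rw [pow_succ, ← hσ]
  have htop_inv : SInv x (⊤ : Submodule F V) := fun w _ => Submodule.mem_top
  have htop_nd : HND B (⊤ : Submodule F V) := fun u _ hu => h.nd u (fun v => hu v Submodule.mem_top)
  rcases hμ with hμ1 | hμ1
  · -- case A
    obtain ⟨W, _, hW, hWnd, hWd⟩ := t_all_dims hR h h2 μ hsq' (hσμ.trans hμ1) ⊤ htop_inv htop_nd m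
      (by rw [finrank_top]; exact hm)
    exact ⟨W, hW, hWnd, hWd⟩
  · -- case B
    have hμB : σ μ * μ = -1 := hσμ.trans hμ1
    by_cases hme : Even m
    · obtain ⟨k, hk⟩ := hme
      obtain ⟨W, _, hW, hWnd, hWd⟩ := t_even_dims hR h h2 μ hsq' hμB ⊤ htop_inv htop_nd k
        (by rw [finrank_top]; omega)
      exact ⟨W, hW, hWnd, by rw [hWd]; omega⟩
    · exfalso
      obtain ⟨hneven, hdetx⟩ := t_det h h2 μ hsq' hμB
      have hdet' : (-z) ^ (finrank F V / 2) = 1 := by
        rw [← hμz, ← hdetx]
        exact hdet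
      have hqodd : Odd q := t_q_odd hq h2
      have hevenq : Even (q + 1) := by
        obtain ⟨k, rfl⟩ := hqodd
        exact ⟨k + 1, by ring⟩
      have hm1 : (-1 : F) ≠ 1 := by
        intro h1
        apply h2
        have : (1 : F) + 1 = 0 := by
          nth_rewrite 1 [← h1]
          ring
        rw [← this]
        norm_num
      have hns : ∀ w : F, w ^ (q + 1) = 1 → w * w ≠ z := by
        intro w hw hww
        have hfac : (w - μ) * (w + μ) = 0 := by
          have : w * w = μ * μ := hww.trans hμz.symm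
          ring_nf
          rw [pow_two, pow_two, this]
          ring
        rcases mul_eq_zero.1 hfac with h1 | h1
        · have : w = μ := sub_eq_zero.1 h1
          rw [this, hμ1] at hw
          exact hm1 hw
        · have : w = -μ := eq_neg_of_add_eq_zero_left h1
          rw [this, hevenq.neg_pow, hμ1] at hw
          exact hm1 hw
      have hn0 : 0 < finrank F V := Module.finrank_pos
      rcases two_arith hq h2 z hz hns (finrank F V) hn0 hneven hdet' with h4 | h4
      · rcases hcond with hc | hc | hc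
        · exact (Nat.not_even_iff_odd.2 hc) hneven
        · exact hme hc
        · omega
      · rcases hcond with hc | hc | hc
        · exact (Nat.not_even_iff_odd.2 hc) hneven
        · exact hme hc
        · omega

end Cfsg.Agent.Lib.Helper19.S5954
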