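import Mathlib
import Cfsg.Agent.Lib.Helper19.S5954.Defs

set_option autoImplicit false
set_option linter.unusedVariables false
set_option linter.unusedSectionVars false

/-!
# Project S5954 (designer helper19; part T sub-designer helper17), row TWOARITHEX (`two_arith_ex`), verbatim from `helper17/S5954/SkelT.lean.txt` (helper11).
-/

namespace Cfsg.Agent.Lib.Helper19.S5954

open Polynomial Module Cfsg.Agent.Lib.Helper13.S5955

variable {F : Type*} [Field F] {V : Type*} [AddCommGroup V] [Module F V]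

/-- `q` is odd when `|F| = q ^ 2` and `2 ≠ 0` in `F` -/
theorem s5954twoarithex_q_odd [Fintype F] {q : ℕ} (hq : Fintype.card F = q ^ 2) (h2 : (2 : F) ≠ 0) : Odd q := by
  obtain ⟨p, hchar, n, hp, hcard⟩ := FiniteField.card' F
  rw [hq] at hcard
  have hdvd : q ∣ p ^ (n : ℕ) := ⟨q, by rw [← hcard]; ring⟩
  obtain ⟨j, -, rfl⟩ := (Nat.dvd_prime_pow hp).mp hdvd
  have hp2 : p ≠ 2 := by
    rintro rfl
    apply h2
    have := CharP.cast_eq_zero F 2
    exact_mod_cast this
  exact (hp.odd_of_ne_two hp2).pow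

/-- an element of `Fˣ` of order `2 ^ (v₂(q + 1) + 1)` -/
theorem s5954twoarithex_eta [Fintype F] {q : ℕ} (hq : Fintype.card F = q ^ 2) (hodd : Odd q) :
    ∃ η : Fˣ, orderOf η = 2 ^ (padicValNat 2 (q + 1) + 1) := by
  classical
  obtain ⟨g, hg⟩ := IsCyclic.exists_generator (α := Fˣ)
  have hord : orderOf g = q ^ 2 - 1 := by
    rw [orderOf_eq_card_of_forall_mem_zpowers hg, Nat.card_units, Nat.card_eq_fintype_card, hq]
  have hq1 : 1 ≤ q := hodd.pos
  have hfac : q ^ 2 - 1 = (q + 1) * (q - 1) := by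
    zify [hq1, Nat.one_le_pow 2 q hq1]
    ring
  have h2a : 2 ^ padicValNat 2 (q + 1) ∣ q + 1 := pow_padicValNat_dvd
  have h2b : 2 ∣ q - 1 := by
    obtain ⟨k, rfl⟩ := hodd
    exact ⟨k, by omega⟩
  have hd : 2 ^ (padicValNat 2 (q + 1) + 1) ∣ q ^ 2 - 1 := by
    rw [hfac, pow_succ]
    exact Nat.mul_dvd_mul h2a h2b
  have hNpos : 0 < q ^ 2 - 1 := by
    have : 2 ≤ q := by
      by_contra hlt
      have hq1' : q = 1 := by omega
      rw [hq1'] at hq
      have := Fintype.one_lt_card (α := F)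
      omega
    have h4 : 4 ≤ q ^ 2 := by nlinarith
    omega
  set d := 2 ^ (padicValNat 2 (q + 1) + 1) with hdd
  have hdpos : 0 < d := by positivity
  refine ⟨g ^ ((q ^ 2 - 1) / d), ?_⟩
  have hdiv : (q ^ 2 - 1) / d ∣ orderOf g := by
    rw [hord]
    exact Nat.div_dvd_of_dvd hd
  have hne : (q ^ 2 - 1) / d ≠ 0 := by
    intro h0
    rw [Nat.div_eq_zero_iff] at h0
    rcases h0 with h0 | h0
    · omega
    · exact absurd (Nat.le_of_dvd hNpos hd) (by omega)
  rw [orderOf_pow_of_dvd hne hdiv, hord, Nat.div_div_self hd hNpos.ne']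

/-- TWOARITHEX [M] (`q % 4 = 1`: `z = -1` [a square root of `-1` in `N1` has order 4 ∤ q + 1]; else `a = v₂ (q+1) ≥ 2`, `ζ ∈ N1` of order `2^a`
[`ζ = g ^ ((q² - 1) / 2^a)`], `z = ζ` [or `-ζ`]: not a square in `N1` [a root would have order `2^(a+1)`], `-ζ` has order dividing `2^a ∣ n / 2`). -/
theorem two_arith_ex [Fintype F] {q : ℕ} (hq : Fintype.card F = q ^ 2) (h2 : (2 : F) ≠ 0) (n : ℕ) (hn : Even n)
    (h : q % 4 = 1 ∨ padicValNat 2 (q + 1) < padicValNat 2 n) :
    ∃ z : F, z ^ (q + 1) = 1 ∧ (∀ w : F, w ^ (q + 1) = 1 → w * w ≠ z) ∧ (-z) ^ (n / 2) = 1 := by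
  have hodd := s5954twoarithex_q_odd hq h2
  have hm1 : (-1 : F) ≠ 1 := by
    intro h1
    apply h2
    have : (1 : F) + 1 = 0 := by
      nth_rewrite 1 [← h1]
      ring
    rw [← this]
    norm_num
  by_cases hq4 : q % 4 = 1
  · -- `z = -1`
    refine ⟨-1, ?_, ?_, ?_⟩
    · exact Even.neg_one_pow (by obtain ⟨k, rfl⟩ := hodd; exact ⟨k + 1, by ring⟩)
    · intro w hw hww
      have hk : q + 1 = 2 * ((q + 1) / 2) := by omega
      have hoddk : Odd ((q + 1) / 2) := by
        rw [Nat.odd_iff]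
        omega
      rw [hk, pow_mul, pow_two, hww, hoddk.neg_one_pow] at hw
      exact hm1 hw
    · rw [neg_neg, one_pow]
  · -- `q % 4 = 3`
    have hlt : padicValNat 2 (q + 1) < padicValNat 2 n := by
      rcases h with h | h
      · exact absurd h hq4
      · exact h
    set a := padicValNat 2 (q + 1) with ha
    obtain ⟨η, hη⟩ := s5954twoarithex_eta hq hodd
    have h2a : 2 ^ a ∣ q + 1 := pow_padicValNat_dvd
    have hnot : ¬ 2 ^ (a + 1) ∣ q + 1 := pow_succ_padicValNat_not_dvd (by omega)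
    have ha1 : 1 ≤ a := by
      have : 2 ∣ q + 1 := by
        obtain ⟨k, rfl⟩ := hodd
        exact ⟨k + 1, by ring⟩
      exact one_le_padicValNat_of_dvd (by omega) this
    have hn0 : n ≠ 0 := by
      rintro rfl
      simp at hlt
    have hdn : 2 ^ (a + 1) ∣ n := by
      have h1 : 2 ^ (padicValNat 2 n) ∣ n := pow_padicValNat_dvd
      exact (pow_dvd_pow 2 (by omega)).trans h1
    -- `η ^ (q + 1) ≠ 1`
    have hηq : (η : F) ^ (q + 1) ≠ 1 := by
      intro h1
      have h1' : η ^ (q + 1) = 1 := by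
        apply Units.ext
        rw [Units.val_pow_eq_pow_val, h1, Units.val_one]
      have := orderOf_dvd_of_pow_eq_one h1'
      rw [hη] at this
      exact hnot this
    have hη2 : (η : F) ^ (2 ^ (a + 1)) = 1 := by
      have h1 : η ^ (2 ^ (a + 1)) = 1 := by
        rw [← hη]
        exact pow_orderOf_eq_one η
      have := congrArg Units.val h1
      rwa [Units.val_pow_eq_pow_val, Units.val_one] at this
    have hevenq : Even (q + 1) := by
      obtain ⟨k, rfl⟩ := hodd
      exact ⟨k + 1, by ring⟩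
    refine ⟨(η : F) * (η : F), ?_, ?_, ?_⟩
    · -- `(η²)^(q+1) = (η^(2^(a+1)))^t`
      obtain ⟨t, ht⟩ := h2a
      rw [← pow_two, ← pow_mul, ht, ← mul_assoc, ← pow_succ', pow_mul, hη2, one_pow]
    · intro w hw hww
      have hsq : (w - η) * (w + η) = 0 := by
        ring_nf
        rw [pow_two, pow_two, hww]
        ring
      rcases mul_eq_zero.1 hsq with h1 | h1
      · have : w = η := sub_eq_zero.1 h1
        rw [this] at hw
        exact hηq hw
      · have : w = -η := eq_neg_of_add_eq_zero_left h1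
        rw [this, hevenq.neg_pow] at hw
        exact hηq hw
    · obtain ⟨t, ht⟩ := hdn
      have hn2 : n / 2 = 2 ^ a * t := by
        rw [ht, pow_succ, mul_comm (2 ^ a) 2, mul_assoc]
        exact Nat.mul_div_cancel_left _ (by norm_num)
      have hev : Even (2 ^ a) := by
        rw [Nat.even_pow]
        exact ⟨even_two, by omega⟩
      have key : ((η : F) * (η : F)) ^ (2 ^ a) = 1 := by
        rw [← pow_two, ← pow_mul, ← pow_succ', hη2]
      rw [hn2, pow_mul, hev.neg_pow, key, one_pow]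

end Cfsg.Agent.Lib.Helper19.S5954
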