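import Mathlib
import Cfsg.Agent.Lib.Helper11.S5956U.Defs

/-!
# S5956U rows NILP, INDEX, RDKTOP, FREEINV (helper11)
-/

set_option autoImplicit false

namespace Cfsg.Agent.Lib.Helper11.S5956U

open Polynomial Module Cfsg.Agent.Lib.Helper13.S5955 Cfsg.Agent.Lib.helper14.JTa

variable {F : Type*} [Field F] {V : Type*} [AddCommGroup V] [Module F V]

theorem nil_pow {p : ℕ} [Fact p.Prime] [CharP F p] (x : Module.End F V) (hx : x ^ p = 1) :
    (x - 1) ^ p = 0 := by
  have h1 : ((X : F[X]) - 1) ^ p = X ^ p - 1 := by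
    rw [sub_pow_char, one_pow]
  have h2 := congrArg (aeval x) h1
  rw [map_pow, map_sub, map_sub, aeval_X, map_one, map_pow, aeval_X, hx, sub_self] at h2
  exact h2

theorem exists_index (M : Module.End F V) (p : ℕ) (hM : M ^ p = 0) (N : Submodule F V) (hN0 : N ≠ ⊥) :
    ∃ s : ℕ, 1 ≤ s ∧ s ≤ p ∧ (∀ v ∈ N, (M ^ s) v = 0) ∧ ∃ v ∈ N, (M ^ (s - 1)) v ≠ 0 := by
  classical
  have hex : ∃ s : ℕ, ∀ v ∈ N, (M ^ s) v = 0 := ⟨p, fun v _ => by rw [hM, LinearMap.zero_apply]⟩
  have hs0 : Nat.find hex ≠ 0 := by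
    intro h0
    have h1 := Nat.find_spec hex
    rw [h0] at h1
    apply hN0
    rw [Submodule.eq_bot_iff]
    intro v hv
    simpa using h1 v hv
  refine ⟨Nat.find hex, Nat.one_le_iff_ne_zero.mpr hs0, Nat.find_min' hex
    (fun v _ => by rw [hM, LinearMap.zero_apply]), Nat.find_spec hex, ?_⟩
  by_contra hcon
  push Not at hcon
  have := Nat.find_min' hex hcon
  omega

theorem rdk_top (x : Module.End F V) (p : ℕ) (hM : (x - 1) ^ p = 0) (N : Submodule F V) :
    rdk x N p = finrank F N := by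
  unfold rdk
  rw [hM, LinearMap.ker_zero, top_inf_eq]

theorem tyf_top (μ : Multiset ℕ) (p : ℕ) (hμ : ∀ a ∈ μ, a ≤ p) : tyf μ p = μ.sum := by
  unfold tyf
  have : μ.map (fun b => min b p) = μ.map id := by
    apply Multiset.map_congr rfl
    intro a ha
    exact min_eq_left (hμ a ha)
  rw [this, Multiset.map_id]

theorem free_inv (x : Module.End F V) (s : ℕ) (hs : 1 ≤ s) {t : ℕ} (u : Fin t → V)
    (hnil : ∀ i, ((x - 1) ^ s) (u i) = 0) :
    SInv x (cycU x s u) ∧ ∀ i, u i ∈ cycU x s u := by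
  have hgen : ∀ (i : Fin t) (a : ℕ), a < s → ((x - 1) ^ a) (u i) ∈ cycU x s u := by
    intro i a ha
    exact Submodule.subset_span ⟨(i, ⟨a, ha⟩), rfl⟩
  constructor
  · have hM : ∀ w ∈ cycU x s u, (x - 1) w ∈ cycU x s u := by
      intro w hw
      unfold cycU at hw
      induction hw using Submodule.span_induction with
      | mem y hy =>
        obtain ⟨ia, rfl⟩ := hy
        have h1 : (x - 1) (((x - 1) ^ (ia.2 : ℕ)) (u ia.1)) = ((x - 1) ^ ((ia.2 : ℕ) + 1)) (u ia.1) := by
          rw [pow_succ', Module.End.mul_apply]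
        rw [h1]
        rcases Nat.lt_or_ge ((ia.2 : ℕ) + 1) s with h2 | h2
        · exact hgen _ _ h2
        · have h3 : (ia.2 : ℕ) + 1 = s := le_antisymm ia.2.2 h2
          rw [h3, hnil]
          exact Submodule.zero_mem _
      | zero => rw [map_zero]; exact Submodule.zero_mem _
      | add y z _ _ hy hz => rw [map_add]; exact Submodule.add_mem _ hy hz
      | smul a y _ hy => rw [map_smul]; exact Submodule.smul_mem _ _ hy
    intro w hw
    have h1 : x w = (x - 1) w + w := by
      rw [LinearMap.sub_apply, Module.End.one_apply, sub_add_cancel]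
    rw [h1]
    exact Submodule.add_mem _ (hM w hw) hw
  · intro i
    have := hgen i 0 (by omega)
    simpa using this

end Cfsg.Agent.Lib.Helper11.S5956U
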