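import Mathlib
import Cfsg.Agent.Lib.Helper19.S5954.Defs
import Cfsg.Agent.Lib.Helper11.S5956USMALL
import Cfsg.Agent.Lib.Helper20.S5956URDKADD
import Cfsg.Agent.Lib.Helper20.S5954USUPND

set_option autoImplicit false
set_option linter.unusedVariables false
set_option linter.unusedSectionVars false

/-!
# Project S5954 (designer helper19), row USTRUCT: CORE by helper11 (twin of `struct`, Helper11/S5956USTRUCT.lean, with the piece type `{s}`).
`s5954ustruct_h11_core` = `h_struct` with the statements of USPLIT (`h_split`) and UPEEL (`h_peel`) for this `B`, `x` as hypotheses `hsplit`, `hpeel`.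
Wrapper: `h_struct hr h p hM N hN hNnd := s5954ustruct_h11_core hr h p hM (fun N hN hNnd s hs1 hnil hne => hsplit N hN hNnd s hs1 hnil hne)
  (fun N U hN hNnd hUN hU hUnd => hpeel N U hN hNnd hUN hU hUnd) N hN hNnd`.
-/

namespace Cfsg.Agent.Lib.Helper19.S5954

open Polynomial Module Cfsg.Agent.Lib.Helper13.S5955 Cfsg.Agent.Lib.helper14.JTa Cfsg.Agent.Lib.Helper11.S5956U

variable {F : Type*} [Field F] {V : Type*} [AddCommGroup V] [Module F V]

/-- `tyf` is additive -/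
theorem s5954ustruct_h11_tyf_cons (s : ℕ) (μ : Multiset ℕ) (j : ℕ) :
    tyf (s ::ₘ μ) j = tyf {s} j + tyf μ j := by
  unfold tyf
  rw [Multiset.map_cons, Multiset.sum_cons, Multiset.map_singleton, Multiset.sum_singleton]

/-- picking: a sub-multiset of `s ::ₘ μ'` is a sub-multiset of `μ'`, or contains `s` with the rest in `μ'` -/
theorem s5954ustruct_h11_pick (s : ℕ) (μ' ν : Multiset ℕ) (hν : ν ≤ s ::ₘ μ') :
    ν ≤ μ' ∨ (s ∈ ν ∧ ν.erase s ≤ μ') := by
  classical
  by_cases hs : s ∈ ν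
  · right
    refine ⟨hs, ?_⟩
    have := Multiset.erase_le_erase s hν
    rwa [Multiset.erase_cons_head] at this
  · left
    exact (Multiset.le_cons_of_notMem hs).1 hν

/-- the CORE of USTRUCT: `h_struct` with USPLIT and UPEEL (for this `B`, `x`) as hypotheses -/
theorem s5954ustruct_h11_core [FiniteDimensional F V] {r : ℕ} (hr : 0 < r) {σ : F →+* F} {B : V →ₛₗ[σ] V →ₗ[F] F}
    {x : Module.End F V} (h : HCtx r σ B x) (p : ℕ) (hM : (x - 1) ^ p = 0)
    (hsplit : ∀ N : Submodule F V, SInv x N → HND B N → ∀ s : ℕ, 1 ≤ s →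
      (∀ v ∈ N, ((x - 1) ^ s) v = 0) → (∃ v ∈ N, ((x - 1) ^ (s - 1)) v ≠ 0) →
      ∃ U : Submodule F V, U ≤ N ∧ SInv x U ∧ HND B U ∧ ∀ j, rdk x U j = tyf {s} j)
    (hpeel : ∀ N U : Submodule F V, SInv x N → HND B N → U ≤ N → SInv x U → HND B U →
      ∃ N' : Submodule F V, N' ≤ N ∧ SInv x N' ∧ HND B N' ∧ HOrth B U N' ∧ Disjoint U N' ∧
        finrank F N' + finrank F U = finrank F N)
    (N : Submodule F V) (hN : SInv x N) (hNnd : HND B N) :
    ∃ μ : Multiset ℕ, (∀ a ∈ μ, 0 < a ∧ a ≤ p) ∧ μ.sum = finrank F N ∧ (∀ j, rdk x N j = tyf μ j) ∧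
      ∀ ν : Multiset ℕ, ν ≤ μ →
        ∃ W : Submodule F V, W ≤ N ∧ SInv x W ∧ HND B W ∧ finrank F W = ν.sum := by
  classical
  suffices H : ∀ n : ℕ, ∀ N : Submodule F V, finrank F N = n → SInv x N → HND B N →
      ∃ μ : Multiset ℕ, (∀ a ∈ μ, 0 < a ∧ a ≤ p) ∧ μ.sum = finrank F N ∧ (∀ j, rdk x N j = tyf μ j) ∧
        ∀ ν : Multiset ℕ, ν ≤ μ →
          ∃ W : Submodule F V, W ≤ N ∧ SInv x W ∧ HND B W ∧ finrank F W = ν.sum from
    H _ N rfl hN hNnd
  intro n
  induction n using Nat.strong_induction_on with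
  | _ n ih =>
  intro N hn hN hNnd
  by_cases hN0 : N = ⊥
  · subst hN0
    refine ⟨0, by simp, by simp, ?_, ?_⟩
    · intro j
      unfold rdk tyf
      rw [inf_bot_eq, finrank_bot, Multiset.map_zero, Multiset.sum_zero]
    · intro ν hν
      have hν0 : ν = 0 := Multiset.le_zero.mp hν
      subst hν0
      refine ⟨⊥, le_refl _, ?_, ?_, by simp⟩
      · intro w hw
        rw [Submodule.mem_bot] at hw ⊢
        rw [hw, map_zero]
      · intro u hu _
        exact (Submodule.mem_bot F).mp hu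
  · obtain ⟨s, hs1, hsp, hnil, hne⟩ := exists_index (x - 1) p hM N hN0
    obtain ⟨U, hUN, hU, hUnd, hτr⟩ := hsplit N hN hNnd s hs1 hnil hne
    obtain ⟨N', hN'N, hN', hN'nd, horth, hdis, hdim⟩ := hpeel N U hN hNnd hUN hU hUnd
    have hUdim : finrank F U = s := by
      rw [← rdk_top x p hM U, hτr p, tyf_top {s} p (fun a ha => by
        rw [Multiset.mem_singleton] at ha; subst ha; exact hsp), Multiset.sum_singleton]
    have hlt : finrank F N' < n := by omega
    obtain ⟨μ', hμ'ty, hμ'sum, hμ'r, hμ'W⟩ := ih _ hlt N' rfl hN' hN'nd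
    refine ⟨s ::ₘ μ', ?_, ?_, ?_, ?_⟩
    · intro a ha
      rcases Multiset.mem_cons.mp ha with ha | ha
      · subst ha
        exact ⟨hs1, hsp⟩
      · exact hμ'ty a ha
    · rw [Multiset.sum_cons, hμ'sum]
      omega
    · intro j
      rw [rdk_add x N U N' hU hN' hUN hN'N hdis hdim j, hτr, hμ'r, s5954ustruct_h11_tyf_cons]
    · intro ν hν
      rcases s5954ustruct_h11_pick s μ' ν hν with h1 | ⟨h1, h2⟩
      · obtain ⟨W, hW, hWi, hWnd, hWd⟩ := hμ'W ν h1
        exact ⟨W, hW.trans hN'N, hWi, hWnd, hWd⟩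
      · obtain ⟨W', hW'N', hW', hW'nd, hW'dim⟩ := hμ'W (ν.erase s) h2
        have horth' : HOrth B U W' := fun u hu w hw => horth u hu w (hW'N' hw)
        obtain ⟨hinv, hnd, hdim'⟩ := h_sup_nd h U W' hU hW' hUnd hW'nd horth'
        refine ⟨U ⊔ W', sup_le hUN (hW'N'.trans hN'N), hinv, hnd, ?_⟩
        rw [hdim', hUdim, hW'dim, ← Multiset.sum_cons, Multiset.cons_erase h1]

end Cfsg.Agent.Lib.Helper19.S5954
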