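import Mathlib
import Cfsg.Agent.Lib.Helper13.S5955.Defs2
import Cfsg.Agent.S0775

/-!
# S5955 row C1 (helper11): `ti_count`, the number of totally isotropic `m`-spaces
-/

set_option autoImplicit false

namespace Cfsg.Agent.Lib.Helper13.S5955

open Polynomial Module

/-- the span of an isotropic frame, as a point of `TIm` -/
noncomputable def s5955c1_spanMap {F : Type*} [Field F] (d m : ℕ)
    (f : ↥(Cfsg.Agent.S0775.IsoFr d F m)) : TIm d m F :=
  ⟨Submodule.span F (Set.range f.1), by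
    rw [finrank_span_eq_card f.2.1, Fintype.card_fin],
    fun u hu v hv => Cfsg.Agent.S0775.iso_span f.1 f.2.2 u hu v hv⟩

/-- the fibre of the span map over `W` is the set of frames (bases) of `W` -/
noncomputable def s5955c1_fibreEquiv {F : Type*} [Field F] (d m : ℕ) (W : TIm d m F) :
    {f : ↥(Cfsg.Agent.S0775.IsoFr d F m) // s5955c1_spanMap d m f = W} ≃
      ↥({f : Fin m → (Fin d ⊕ Fin d → F) |
        LinearIndependent F f ∧ Submodule.span F (Set.range f) = W.1}) where
  toFun f := ⟨f.1.1, f.1.2.1, congrArg Subtype.val f.2⟩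
  invFun f := ⟨⟨f.1, f.2.1, fun i j => W.2.2 _ ((le_of_eq f.2.2) (Submodule.subset_span ⟨i, rfl⟩))
      _ ((le_of_eq f.2.2) (Submodule.subset_span ⟨j, rfl⟩))⟩, Subtype.ext f.2.2⟩
  left_inv _ := rfl
  right_inv _ := rfl

/-- the number of isotropic frames is `#Ω_m` times the number of bases of an `m`-space -/
theorem s5955c1_card_IsoFr {F : Type*} [Field F] [Fintype F] (d m : ℕ) :
    (Cfsg.Agent.S0775.IsoFr d F m).ncard =
      Nat.card (TIm d m F) * ∏ i : Fin m, (Fintype.card F ^ m - Fintype.card F ^ (i : ℕ)) := by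
  classical
  have hfin : Finite (TIm d m F) := inferInstance
  let _ : Fintype (TIm d m F) := Fintype.ofFinite _
  rw [← Nat.card_coe_set_eq,
    Nat.card_congr (Equiv.sigmaFiberEquiv (s5955c1_spanMap (F := F) d m)).symm, Nat.card_sigma]
  have : ∀ W : TIm d m F,
      Nat.card {f : ↥(Cfsg.Agent.S0775.IsoFr d F m) // s5955c1_spanMap d m f = W} =
        ∏ i : Fin m, (Fintype.card F ^ m - Fintype.card F ^ (i : ℕ)) := by
    intro W
    rw [Nat.card_congr (s5955c1_fibreEquiv d m W), Nat.card_coe_set_eq,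
      Cfsg.Agent.S0775.card_frames W.1 W.2.1]
  simp only [this]
  rw [Finset.sum_const, smul_eq_mul, Finset.card_univ, ← Nat.card_eq_fintype_card]

/-- arithmetic: pulling the `q`-powers out of `∏ (q^(2d-i) - q^i)` -/
theorem s5955c1_arith1 (q d m : ℕ) (hm : m ≤ d) :
    ∏ i ∈ Finset.range m, (q ^ (2 * d - i) - q ^ i) =
      (∏ i ∈ Finset.range m, q ^ i) * ∏ i ∈ Finset.range m, (q ^ (2 * (d - i)) - 1) := by
  rw [← Finset.prod_mul_distrib]
  refine Finset.prod_congr rfl fun i hi => ?_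
  have hi' : i < m := Finset.mem_range.mp hi
  have h1 : 2 * d - i = i + 2 * (d - i) := by omega
  rw [h1, pow_add]
  exact (Nat.mul_sub_one _ _).symm

/-- arithmetic: pulling the `q`-powers out of `∏ (q^m - q^i)` -/
theorem s5955c1_arith2 (q m : ℕ) :
    ∏ i : Fin m, (q ^ m - q ^ (i : ℕ)) =
      (∏ i ∈ Finset.range m, q ^ i) * ∏ j ∈ Finset.range m, (q ^ (j + 1) - 1) := by
  rw [Fin.prod_univ_eq_prod_range (fun i => q ^ m - q ^ i) m,
    ← Finset.prod_range_reflect (fun j => q ^ (j + 1) - 1) m, ← Finset.prod_mul_distrib]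
  refine Finset.prod_congr rfl fun i hi => ?_
  have hi' : i < m := Finset.mem_range.mp hi
  have h1 : m = i + (m - 1 - i + 1) := by omega
  conv_lhs => rw [h1, pow_add]
  exact (Nat.mul_sub_one _ _).symm

theorem ti_count {F : Type*} [Field F] [Fintype F] (d m : ℕ) (hm : m ≤ d) :
    Nat.card (TIm d m F) * ∏ j ∈ Finset.range m, (Fintype.card F ^ (j + 1) - 1) =
      ∏ j ∈ Finset.range m, (Fintype.card F ^ (2 * (d - j)) - 1) := by
  have h1 := s5955c1_card_IsoFr (F := F) d m
  rw [Cfsg.Agent.S0775.card_IsoFr, s5955c1_arith1 _ d m hm, s5955c1_arith2] at h1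
  have hQ : 0 < ∏ i ∈ Finset.range m, Fintype.card F ^ i :=
    Finset.prod_pos fun i _ => pow_pos Fintype.card_pos _
  have h2 : (∏ i ∈ Finset.range m, Fintype.card F ^ i) *
      (Nat.card (TIm d m F) * ∏ j ∈ Finset.range m, (Fintype.card F ^ (j + 1) - 1)) =
      (∏ i ∈ Finset.range m, Fintype.card F ^ i) *
        ∏ j ∈ Finset.range m, (Fintype.card F ^ (2 * (d - j)) - 1) := by
    rw [h1]; ring
  exact Nat.eq_of_mul_eq_mul_left hQ h2

end Cfsg.Agent.Lib.Helper13.S5955
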