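import Mathlib
import Cfsg.Agent.Lib.Helper13.S5955.Defs2
import Cfsg.Agent.Lib.Helper11.S5955C1

/-!
# S5955 row C2 (helper11): `ti_count_dvd`
-/

set_option autoImplicit false

namespace Cfsg.Agent.Lib.Helper13.S5955

open Polynomial Module

theorem ti_count_dvd {F : Type*} [Field F] [Fintype F] {p : ℕ} [Fact p.Prime] [CharP F p]
    (d m : ℕ) (hm : m ≤ d) (r : ℕ) [Fact r.Prime] (hr : r ∣ Nat.card (TIm d m F)) :
    r ≠ p ∧ ∃ j : ℕ, j < m ∧ r ∣ Fintype.card F ^ (2 * (d - j)) - 1 := by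
  have hrp : r.Prime := Fact.out
  have hcount := ti_count (F := F) d m hm
  have hB : r ∣ ∏ j ∈ Finset.range m, (Fintype.card F ^ (2 * (d - j)) - 1) := by
    rw [← hcount]
    exact Dvd.dvd.mul_right hr _
  obtain ⟨j, hj, hjd⟩ := (Prime.dvd_finsetProd_iff hrp.prime _).mp hB
  have hjm : j < m := Finset.mem_range.mp hj
  refine ⟨?_, j, hjm, hjd⟩
  intro hEq
  obtain ⟨n, _, hn⟩ := FiniteField.card F p
  have hk : 0 < 2 * (d - j) := by omega
  have hpq : r ∣ Fintype.card F ^ (2 * (d - j)) := by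
    rw [hEq, hn]
    exact Dvd.dvd.pow (dvd_pow_self p n.ne_zero) hk.ne'
  have hpos : 1 ≤ Fintype.card F ^ (2 * (d - j)) := Nat.one_le_pow _ _ Fintype.card_pos
  have h1 : r ∣ Fintype.card F ^ (2 * (d - j)) - (Fintype.card F ^ (2 * (d - j)) - 1) :=
    Nat.dvd_sub hpq hjd
  have h2 : Fintype.card F ^ (2 * (d - j)) - (Fintype.card F ^ (2 * (d - j)) - 1) = 1 := by omega
  rw [h2] at h1
  exact hrp.one_lt.ne' (Nat.dvd_one.mp h1)

end Cfsg.Agent.Lib.Helper13.S5955
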