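import Mathlib
import Cfsg.Agent.Lib.Helper13.S5955.Defs2
import Cfsg.Agent.Lib.Helper28.SSCONJSSPOW

/-!
# S5955 row N7 (helper11, second copy): `types`
-/

set_option autoImplicit false

namespace Cfsg.Agent.Lib.Helper13.S5955

open Polynomial Module

/-- in a finite extension of a finite field, a root of the minimal polynomial of `α` is a
Frobenius conjugate of `α` -/
theorem s5955n7_h11_conj {K L : Type*} [Field K] [Fintype K] [Field L] [Algebra K L] [Finite L]
    (α β : L) (h : aeval β (minpoly K α) = 0) : ∃ e : ℕ, β = α ^ (Fintype.card K ^ e) := by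
  have halg : IsAlgebraic K α := Algebra.IsAlgebraic.isAlgebraic α
  obtain ⟨σ, hσ⟩ := minpoly.exists_algEquiv_of_root' halg h
  obtain ⟨n, hn⟩ := (FiniteField.bijective_frobeniusAlgEquivOfAlgebraic_pow K L).2 σ
  refine ⟨n.1, ?_⟩
  have hn' : FiniteField.frobeniusAlgEquivOfAlgebraic K L ^ n.1 = σ := hn
  rw [← hσ, ← hn', AlgEquiv.coe_pow, FiniteField.coe_frobeniusAlgEquivOfAlgebraic_iterate]

/-- an irreducible endomorphism is killed by an irreducible polynomial which divides every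
polynomial killing it -/
theorem s5955n7_h11_irr {F : Type*} [Field F] {V : Type*} [AddCommGroup V] [Module F V]
    [FiniteDimensional F V] [Nontrivial V] (y : Module.End F V)
    (hirr : ∀ U : Submodule F V, SInv y U → U = ⊥ ∨ U = ⊤) :
    ∃ μ : F[X], Irreducible μ ∧ ∀ Q : F[X], aeval y Q = 0 ↔ μ ∣ Q := by
  have hint : IsIntegral F y := Algebra.IsIntegral.isIntegral y
  have hm0 : minpoly F y ≠ 0 := minpoly.ne_zero hint
  have hmu : ¬ IsUnit (minpoly F y) := minpoly.not_isUnit F y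
  obtain ⟨μ, hμ, hdvd⟩ := WfDvdMonoid.exists_irreducible_factor hmu hm0
  have hker : LinearMap.ker (aeval y μ) = ⊤ := by
    have hinv : SInv y (LinearMap.ker (aeval y μ)) := by
      intro w hw
      rw [LinearMap.mem_ker] at hw ⊢
      have hc : aeval y μ * y = y * aeval y μ := by
        have h1 : aeval y (μ * X) = aeval y μ * y := by rw [map_mul, aeval_X]
        have h2 : aeval y (X * μ) = y * aeval y μ := by rw [map_mul, aeval_X]
        rw [← h1, ← h2, mul_comm]
      have : aeval y μ (y w) = (aeval y μ * y) w := by rw [Module.End.mul_apply]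
      rw [this, hc, Module.End.mul_apply, hw, map_zero]
    rcases hirr _ hinv with h | h
    · exfalso
      obtain ⟨v, hv0, hv⟩ := Cfsg.Agent.Lib.helper6.SSCONJ.exists_ker_ne y μ hμ.not_isUnit hdvd
      have : v ∈ LinearMap.ker (aeval y μ) := LinearMap.mem_ker.mpr hv
      rw [h, Submodule.mem_bot] at this
      exact hv0 this
    · exact h
  have hzero : aeval y μ = 0 := LinearMap.ker_eq_top.mp hker
  refine ⟨μ, hμ, fun Q => ⟨fun hQ => ?_, fun hQ => ?_⟩⟩
  · exact hdvd.trans (minpoly.dvd F y hQ)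
  · obtain ⟨g, rfl⟩ := hQ
    rw [map_mul, hzero, zero_mul]

/-- an intertwiner transports polynomial identities -/
theorem s5955n7_h11_intertwine {F : Type*} [Field F] {V : Type*} [AddCommGroup V] [Module F V]
    (a b : Module.End F V) (φ : V ≃ₗ[F] V) (hφ : ∀ v, φ (a v) = b (φ v)) (P : F[X]) :
    ∀ v, φ (aeval a P v) = aeval b P (φ v) := by
  have hpow : ∀ n : ℕ, ∀ v, φ ((a ^ n) v) = (b ^ n) (φ v) := by
    intro n
    induction n with
    | zero => intro v; simp
    | succ n ih =>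
      intro v
      rw [pow_succ, Module.End.mul_apply, ih, hφ, pow_succ, Module.End.mul_apply]
  induction P using Polynomial.induction_on' with
  | add p q hp hq =>
    intro v
    rw [map_add, map_add, LinearMap.add_apply, LinearMap.add_apply, map_add, hp, hq]
  | monomial n c =>
    intro v
    rw [aeval_monomial, aeval_monomial, Module.End.mul_apply, Module.End.mul_apply,
      Module.algebraMap_end_apply, Module.algebraMap_end_apply, map_smul, hpow]

theorem s5955n7_h11_types {F : Type*} [Field F] [Fintype F] {p : ℕ} [Fact p.Prime] [CharP F p]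
    (r : ℕ) [Fact r.Prime] (hrp : r ≠ p) (h : ℕ) (hh : 1 ≤ h)
    (y : Module.End F (Fin h ⊕ Fin h → F)) (hyr : y ^ r = 1) (hy1 : y ≠ 1)
    (hirr : ∀ U : Submodule F (Fin h ⊕ Fin h → F), SInv y U → U = ⊥ ∨ U = ⊤)
    (l l' : ℕ) (hl : ¬ r ∣ l) (hl' : ¬ r ∣ l')
    (hcos : ∀ e : ℕ, ¬ (l' ≡ l * Fintype.card F ^ e [MOD r])) :
    ¬ ∃ φ : (Fin h ⊕ Fin h → F) ≃ₗ[F] (Fin h ⊕ Fin h → F),
      ∀ v, φ ((y ^ l) v) = (y ^ l') (φ v) := by
  rintro ⟨φ, hφ⟩
  have : Nonempty (Fin h ⊕ Fin h) := ⟨Sum.inl ⟨0, hh⟩⟩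
  have : Nontrivial (Fin h ⊕ Fin h → F) := Function.nontrivial
  obtain ⟨μ, hμ, hkill⟩ := s5955n7_h11_irr y hirr
  have : Fact (Irreducible μ) := ⟨hμ⟩
  -- the field `K = F[X]/(μ)`
  let ζ : AdjoinRoot μ := AdjoinRoot.root μ
  have : Module.Finite F (AdjoinRoot μ) := (AdjoinRoot.powerBasis hμ.ne_zero).finite
  have : Finite (AdjoinRoot μ) := Module.finite_of_finite F
  -- bridge: `Q(ζ) = 0 ↔ Q(y) = 0`
  have hbridge : ∀ Q : F[X], aeval ζ Q = 0 ↔ aeval y Q = 0 := by
    intro Q
    rw [hkill Q, AdjoinRoot.aeval_eq, AdjoinRoot.mk_eq_zero]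
  have hcompζ : ∀ (n : ℕ) (P : F[X]), aeval (ζ ^ n) P = aeval ζ (P.comp (X ^ n)) := by
    intro n P
    rw [aeval_comp, map_pow, aeval_X]
  have hcompy : ∀ (n : ℕ) (P : F[X]), aeval (y ^ n) P = aeval y (P.comp (X ^ n)) := by
    intro n P
    rw [aeval_comp, map_pow, aeval_X]
  -- `ζ` has order `r`
  have hζr : ζ ^ r = 1 := by
    have h1 : aeval y (X ^ r - 1 : F[X]) = 0 := by
      rw [map_sub, map_pow, aeval_X, map_one, hyr, sub_self]
    have h2 := (hbridge _).mpr h1
    rw [map_sub, map_pow, aeval_X, map_one] at h2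
    exact sub_eq_zero.mp h2
  have hζ1 : ζ ≠ 1 := by
    intro h1
    have h2 : aeval ζ (X - 1 : F[X]) = 0 := by
      rw [map_sub, aeval_X, map_one, h1, sub_self]
    have h3 := (hbridge _).mp h2
    rw [map_sub, aeval_X, map_one] at h3
    exact hy1 (sub_eq_zero.mp h3)
  have hord : orderOf ζ = r := orderOf_eq_prime hζr hζ1
  -- transport the minimal polynomial of `ζ ^ l`
  set P : F[X] := minpoly F (ζ ^ l) with hP
  have h1 : aeval (ζ ^ l) P = 0 := minpoly.aeval F _
  have h2 : aeval (y ^ l) P = 0 := by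
    rw [hcompy]; rw [hcompζ] at h1; exact (hbridge _).mp h1
  have h3 : aeval (y ^ l') P = 0 := by
    apply LinearMap.ext
    intro v
    obtain ⟨w, rfl⟩ := φ.surjective v
    rw [← s5955n7_h11_intertwine (y ^ l) (y ^ l') φ hφ P w, h2, LinearMap.zero_apply, map_zero,
      LinearMap.zero_apply]
  have h4 : aeval (ζ ^ l') P = 0 := by
    rw [hcompζ]; rw [hcompy] at h3; exact (hbridge _).mpr h3
  obtain ⟨e, he⟩ := s5955n7_h11_conj (K := F) (ζ ^ l) (ζ ^ l') h4
  rw [← pow_mul] at he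
  have hζ0 : ζ ≠ 0 := by
    intro h0
    rw [h0, zero_pow (Fact.out : r.Prime).ne_zero] at hζr
    exact zero_ne_one hζr
  have hu : (Units.mk0 ζ hζ0) ^ l' = (Units.mk0 ζ hζ0) ^ (l * Fintype.card F ^ e) := by
    apply Units.ext
    rw [Units.val_pow_eq_pow_val, Units.val_pow_eq_pow_val, Units.val_mk0]
    exact he
  have hordu : orderOf (Units.mk0 ζ hζ0) = r := by
    rw [← orderOf_units, Units.val_mk0]
    exact hord
  rw [pow_eq_pow_iff_modEq, hordu] at hu
  exact hcos e hu

end Cfsg.Agent.Lib.Helper13.S5955
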