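import Mathlib
import Cfsg.Agent.Lib.helper3.S5956.Defs
import Cfsg.Agent.Lib.helper6.SympBasis

/-!
# S5956 row C1 (helper11): `nd_count_dvd`
the span map from symplectic `a`-frames onto the non-degenerate `2a`-spaces has fibres `≃ SFrame F a a`.
-/

set_option autoImplicit false

namespace Cfsg.Agent.Lib.helper3.S5956

open Polynomial Module
open Cfsg.Agent.Lib.Helper13.S5955 Cfsg.Agent.Lib.Helper24 Cfsg.Agent.Lib.Lead

variable {F : Type*} [Field F]

/-- `sympB` is the Prelude's `sympForm` -/
theorem s5956c1_sympB (d : ℕ) (u v : Fin d ⊕ Fin d → F) :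
    sympB F d u v = Cfsg.sympForm d F u v := by
  rw [sympB_apply]; rfl

/-- pairing a combination of frame vectors with `h b` -/
theorem s5956c1_pair_h {d a : ℕ} (e h : Fin a → (Fin d ⊕ Fin d → F))
    (hf : IsHFrame (sympB F d) (-1) e h) (c : Fin a ⊕ Fin a → F) (b : Fin a) :
    sympB F d (∑ i, c i • (Sum.elim e h) i) (h b) = - c (Sum.inl b) := by
  classical
  rw [Fintype.sum_sum_type, map_add, LinearMap.add_apply, map_sum, map_sum, LinearMap.sum_apply,
    LinearMap.sum_apply]
  simp only [Sum.elim_inl, Sum.elim_inr, map_smul, LinearMap.smul_apply, hf.eh, hf.hh, smul_eq_mul,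
    mul_zero, Finset.sum_const_zero, add_zero, mul_ite, Finset.sum_ite_eq', Finset.mem_univ, if_true,
    mul_neg, mul_one]

/-- pairing a combination of frame vectors with `e b` -/
theorem s5956c1_pair_e {d a : ℕ} (e h : Fin a → (Fin d ⊕ Fin d → F))
    (hf : IsHFrame (sympB F d) (-1) e h) (c : Fin a ⊕ Fin a → F) (b : Fin a) :
    sympB F d (∑ i, c i • (Sum.elim e h) i) (e b) = c (Sum.inr b) := by
  classical
  have hhe : ∀ a' : Fin a, sympB F d (h a') (e b) = if b = a' then 1 else 0 := by
    intro a'
    rw [sympB_antisymm, hf.eh]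
    split_ifs <;> simp
  rw [Fintype.sum_sum_type, map_add, LinearMap.add_apply, map_sum, map_sum, LinearMap.sum_apply,
    LinearMap.sum_apply]
  simp only [Sum.elim_inl, Sum.elim_inr, map_smul, LinearMap.smul_apply, hf.ee, hhe, smul_eq_mul,
    mul_zero, Finset.sum_const_zero, zero_add, mul_ite, Finset.sum_ite_eq, Finset.mem_univ, if_true,
    mul_one]

/-- the vectors of a symplectic frame are linearly independent -/
theorem s5956c1_li {d a : ℕ} (e h : Fin a → (Fin d ⊕ Fin d → F))
    (hf : IsHFrame (sympB F d) (-1) e h) : LinearIndependent F (Sum.elim e h) := by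
  rw [Fintype.linearIndependent_iff]
  intro c hc i
  rcases i with b | b
  · have := s5956c1_pair_h e h hf c b
    rw [hc, map_zero, LinearMap.zero_apply] at this
    exact neg_eq_zero.mp this.symm
  · have := s5956c1_pair_e e h hf c b
    rw [hc, map_zero, LinearMap.zero_apply] at this
    exact this.symm

/-- the span of a symplectic `a`-frame is a non-degenerate `2a`-space -/
theorem s5956c1_span {d a : ℕ} (e h : Fin a → (Fin d ⊕ Fin d → F))
    (hf : IsHFrame (sympB F d) (-1) e h) :
    Module.finrank F ↥(Submodule.span F (Set.range (Sum.elim e h))) = 2 * a ∧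
      ∀ u ∈ Submodule.span F (Set.range (Sum.elim e h)), u ≠ 0 →
        ∃ v ∈ Submodule.span F (Set.range (Sum.elim e h)), Cfsg.sympForm d F u v ≠ 0 := by
  constructor
  · rw [finrank_span_eq_card (s5956c1_li e h hf), Fintype.card_sum, Fintype.card_fin]
    ring
  · intro u hu hu0
    rw [← Fintype.range_linearCombination, LinearMap.mem_range] at hu
    obtain ⟨c, rfl⟩ := hu
    rw [Fintype.linearCombination_apply] at hu0 ⊢
    have hc : ∃ i, c i ≠ 0 := by
      by_contra hcon
      push Not at hcon
      apply hu0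
      apply Finset.sum_eq_zero
      intro i _
      rw [hcon i, zero_smul]
    obtain ⟨i, hi⟩ := hc
    rcases i with b | b
    · refine ⟨h b, Submodule.subset_span ⟨Sum.inr b, rfl⟩, ?_⟩
      rw [← s5956c1_sympB, s5956c1_pair_h e h hf c b]
      exact neg_ne_zero.mpr hi
    · refine ⟨e b, Submodule.subset_span ⟨Sum.inl b, rfl⟩, ?_⟩
      rw [← s5956c1_sympB, s5956c1_pair_e e h hf c b]
      exact hi

/-- the span map -/
noncomputable def s5956c1_sigma (d a : ℕ) (f : SFrame F d a) : NDm d (2 * a) F :=
  ⟨Submodule.span F (Set.range (Sum.elim f.1.1 f.1.2)), (s5956c1_span f.1.1 f.1.2 f.2).1,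
    (s5956c1_span f.1.1 f.1.2 f.2).2⟩

/-- the fibre of the span map over `W` is in bijection with the full frames of the standard `2a`-space -/
theorem s5956c1_fibre (d a : ℕ) (W : NDm d (2 * a) F) :
    Nonempty ({f : SFrame F d a // s5956c1_sigma d a f = W} ≃ SFrame F a a) := by
  classical
  have hWsnd : ∀ u ∈ W.1, (∀ v ∈ W.1, Cfsg.sympForm d F u v = 0) → u = 0 := by
    intro u hu hz
    by_contra hne
    obtain ⟨v, hv, hv0⟩ := W.2.2 u hu hne
    exact hv0 (hz v hv)
  obtain ⟨k, φ, hr, hφ⟩ := Cfsg.Agent.Lib.helper6.SB.exists_param d _ W.1 rfl hWsnd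
  have hk : k = a := by
    have := Cfsg.Agent.Lib.helper6.SB.finrank_of_param φ hφ W.1 hr
    rw [W.2.1] at this
    omega
  subst hk
  have hinj := Cfsg.Agent.Lib.helper6.SB.param_injective φ hφ
  have hφB : ∀ x y, sympB F d (φ x) (φ y) = sympB F k x y := by
    intro x y
    rw [s5956c1_sympB, s5956c1_sympB, hφ]
  have hpre : ∀ v ∈ W.1, ∃ x, φ x = v := by
    intro v hv
    rw [← hr] at hv
    exact hv
  -- membership of the frame vectors in `W`
  have hmemE : ∀ (f : {f : SFrame F d k // s5956c1_sigma d k f = W}) (i : Fin k),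
      f.1.1.1 i ∈ W.1 := by
    intro f i
    have h1 : (s5956c1_sigma d k f.1).1 = W.1 := congrArg Subtype.val f.2
    rw [← h1]
    exact Submodule.subset_span ⟨Sum.inl i, rfl⟩
  have hmemH : ∀ (f : {f : SFrame F d k // s5956c1_sigma d k f = W}) (i : Fin k),
      f.1.1.2 i ∈ W.1 := by
    intro f i
    have h1 : (s5956c1_sigma d k f.1).1 = W.1 := congrArg Subtype.val f.2
    rw [← h1]
    exact Submodule.subset_span ⟨Sum.inr i, rfl⟩
  let preE : {f : SFrame F d k // s5956c1_sigma d k f = W} → Fin k → (Fin k ⊕ Fin k → F) :=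
    fun f i => (hpre _ (hmemE f i)).choose
  let preH : {f : SFrame F d k // s5956c1_sigma d k f = W} → Fin k → (Fin k ⊕ Fin k → F) :=
    fun f i => (hpre _ (hmemH f i)).choose
  have hE : ∀ f i, φ (preE f i) = f.1.1.1 i := fun f i => (hpre _ (hmemE f i)).choose_spec
  have hH : ∀ f i, φ (preH f i) = f.1.1.2 i := fun f i => (hpre _ (hmemH f i)).choose_spec
  refine ⟨
    { toFun := fun f => ⟨(preE f, preH f), ?_⟩
      invFun := fun g => ⟨⟨(fun i => φ (g.1.1 i), fun i => φ (g.1.2 i)), ?_⟩, ?_⟩
      left_inv := ?_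
      right_inv := ?_ }⟩
  · -- the preimages form a frame
    refine ⟨fun a b => ?_, fun a b => ?_, fun a b => ?_⟩
    · show sympB F k (preE f a) (preE f b) = 0
      rw [← hφB, hE, hE]; exact f.1.2.ee a b
    · show sympB F k (preH f a) (preH f b) = 0
      rw [← hφB, hH, hH]; exact f.1.2.hh a b
    · show sympB F k (preE f a) (preH f b) = _
      rw [← hφB, hE, hH]; exact f.1.2.eh a b
  · -- the images form a frame
    refine ⟨fun a b => ?_, fun a b => ?_, fun a b => ?_⟩
    · rw [hφB]; exact g.2.ee a b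
    · rw [hφB]; exact g.2.hh a b
    · rw [hφB]; exact g.2.eh a b
  · -- the span of the images is `W`
    apply Subtype.ext
    show Submodule.span F (Set.range (Sum.elim (fun i => φ (g.1.1 i)) (fun i => φ (g.1.2 i)))) = W.1
    have hfr : IsHFrame (sympB F d) (-1) (fun i => φ (g.1.1 i)) (fun i => φ (g.1.2 i)) := by
      refine ⟨fun a b => ?_, fun a b => ?_, fun a b => ?_⟩
      · rw [hφB]; exact g.2.ee a b
      · rw [hφB]; exact g.2.hh a b
      · rw [hφB]; exact g.2.eh a b
    apply Submodule.eq_of_le_of_finrank_eq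
    · rw [Submodule.span_le]
      rintro _ ⟨i, rfl⟩
      rw [← hr]
      rcases i with b | b
      · exact LinearMap.mem_range_self φ _
      · exact LinearMap.mem_range_self φ _
    · rw [(s5956c1_span _ _ hfr).1, W.2.1]
  · intro f
    apply Subtype.ext
    apply Subtype.ext
    apply Prod.ext
    · funext i
      exact hE f i
    · funext i
      exact hH f i
  · intro g
    apply Subtype.ext
    apply Prod.ext
    · funext i
      apply hinj
      exact hE _ i
    · funext i
      apply hinj
      exact hH _ i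

theorem nd_count_dvd {F : Type*} [Field F] [Fintype F] (d a : ℕ) (ha : a ≤ d) :
    Nat.card (NDm d (2 * a) F) ∣ ∏ i ∈ Finset.range a,
      ((Fintype.card F ^ (2 * (d - i)) - 1) * Fintype.card F ^ (2 * (d - i) - 1)) := by
  classical
  rw [← card_sframes (F := F) ha]
  have hfin : Finite (NDm d (2 * a) F) := inferInstance
  let _ : Fintype (NDm d (2 * a) F) := Fintype.ofFinite _
  rw [Nat.card_congr (Equiv.sigmaFiberEquiv (s5956c1_sigma (F := F) d a)).symm, Nat.card_sigma]
  have : ∀ W : NDm d (2 * a) F,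
      Nat.card {f : SFrame F d a // s5956c1_sigma d a f = W} = Nat.card (SFrame F a a) := by
    intro W
    obtain ⟨e⟩ := s5956c1_fibre d a W
    exact Nat.card_congr e
  simp only [this]
  rw [Finset.sum_const, smul_eq_mul, Finset.card_univ, ← Nat.card_eq_fintype_card]
  exact Dvd.intro _ rfl

end Cfsg.Agent.Lib.helper3.S5956
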