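import Mathlib
import Cfsg.Agent.Lib.helper3.S5956.Defs
import Cfsg.Agent.Lib.Helper11.S5956C1

/-!
# S5956 row C2 (helper11): `nd_count_prime`
-/

set_option autoImplicit false

namespace Cfsg.Agent.Lib.helper3.S5956

open Polynomial Module
open Cfsg.Agent.Lib.Helper13.S5955 Cfsg.Agent.Lib.Helper24 Cfsg.Agent.Lib.Lead

theorem nd_count_prime {F : Type*} [Field F] [Fintype F] {p : ℕ} [Fact p.Prime] [CharP F p]
    (d m : ℕ) (hme : Even m) (hmd : m ≤ 2 * d) (r : ℕ) [Fact r.Prime]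
    (hr : r ∣ Nat.card (NDm d m F)) (hrp : r ≠ p) :
    ∃ j : ℕ, 2 * j < m ∧ r ∣ Fintype.card F ^ (2 * (d - j)) - 1 := by
  have hrP : r.Prime := Fact.out
  have hpP : p.Prime := Fact.out
  obtain ⟨a, ha⟩ := hme
  have hm : m = 2 * a := by omega
  subst hm
  have had : a ≤ d := by omega
  have hdvd := dvd_trans hr (nd_count_dvd (F := F) d a had)
  obtain ⟨i, hi, hid⟩ := (Prime.dvd_finsetProd_iff hrP.prime _).mp hdvd
  have hia : i < a := Finset.mem_range.mp hi
  refine ⟨i, by omega, ?_⟩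
  rcases (Nat.Prime.dvd_mul hrP).mp hid with h1 | h1
  · exact h1
  · exfalso
    obtain ⟨n, _, hn⟩ := FiniteField.card F p
    have h2 := hrP.dvd_of_dvd_pow h1
    rw [hn] at h2
    have h3 := hrP.dvd_of_dvd_pow h2
    exact hrp ((Nat.prime_dvd_prime_iff_eq hrP hpP).mp h3)

end Cfsg.Agent.Lib.helper3.S5956
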