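import Mathlib
import Cfsg.Agent.Lib.Helper11.S5956U.Defs
import Cfsg.Agent.Lib.Helper11.S5956USMALL
import Cfsg.Agent.Lib.Helper19.S5956UBETASYMM
import Cfsg.Agent.Lib.Helper19.S5956URADND
import Cfsg.Agent.Lib.Helper13.S5956UFREEKER
import Cfsg.Agent.Lib.Helper13.S5956UFREERDK

/-!
# S5956U rows SPLITEVEN, SPLITODD, SPLITOFF (helper11)
-/

set_option autoImplicit false

namespace Cfsg.Agent.Lib.Helper11.S5956U

open Polynomial Module Cfsg.Agent.Lib.Helper13.S5955 Cfsg.Agent.Lib.helper14.JTa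

variable {F : Type*} [Field F] {V : Type*} [AddCommGroup V] [Module F V]

/-- `2 ≠ 0` in odd characteristic -/
theorem s5956usplit_two_ne {p : ℕ} [Fact p.Prime] [CharP F p] (hp2 : 2 < p) : (2 : F) ≠ 0 := by
  intro h2
  have h3 : ((2 : ℕ) : F) = 0 := by exact_mod_cast h2
  have := (CharP.cast_eq_zero_iff F p 2).mp h3
  have := Nat.le_of_dvd (by norm_num) this
  omega

/-- an alternating form is skew-symmetric -/
theorem s5956usplit_skew {B : LinearMap.BilinForm F V} (halt : ∀ v, B v v = 0) (a b : V) :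
    B a b = - B b a := by
  have h := halt (a + b)
  have e : B (a + b) (a + b) = B a a + B a b + (B b a + B b b) := by
    simp only [map_add, LinearMap.add_apply]
    ring
  rw [e, halt a, halt b] at h
  linear_combination h

/-- an `x`-invariant subspace is invariant under the powers of `x - 1` -/
theorem s5956usplit_pow_mem {x : Module.End F V} (N : Submodule F V) (hN : SInv x N) (k : ℕ) :
    ∀ v ∈ N, ((x - 1) ^ k) v ∈ N := by
  induction k with
  | zero => intro v hv; simpa using hv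
  | succ k ih =>
    intro v hv
    rw [pow_succ', Module.End.mul_apply, LinearMap.sub_apply, Module.End.one_apply]
    exact N.sub_mem (hN _ (ih v hv)) (ih v hv)

/-- the form `β` is non-zero on `N` -/
theorem s5956usplit_beta_ne {B : LinearMap.BilinForm F V} {x : Module.End F V}
    (halt : ∀ v, B v v = 0) (N : Submodule F V) (hN : SInv x N) (hNnd : SND B N) (s : ℕ)
    (hne : ∃ v ∈ N, ((x - 1) ^ (s - 1)) v ≠ 0) :
    ∃ u₀ ∈ N, ∃ v₀ ∈ N, B u₀ (((x - 1) ^ (s - 1)) v₀) ≠ 0 := by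
  obtain ⟨v₀, hv₀, hv₀ne⟩ := hne
  have : ∃ u₀ ∈ N, B (((x - 1) ^ (s - 1)) v₀) u₀ ≠ 0 := by
    by_contra hcon
    push Not at hcon
    exact hv₀ne (hNnd _ (s5956usplit_pow_mem N hN _ v₀ hv₀) hcon)
  obtain ⟨u₀, hu₀, hu₀ne⟩ := this
  refine ⟨u₀, hu₀, v₀, hv₀, ?_⟩
  rw [s5956usplit_skew halt]
  exact neg_ne_zero.mpr hu₀ne

theorem split_even {p : ℕ} [Fact p.Prime] [CharP F p] (hp2 : 2 < p) [FiniteDimensional F V]
    {B : LinearMap.BilinForm F V} {x : Module.End F V} (h : SCtx p B x)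
    (N : Submodule F V) (hN : SInv x N) (hNnd : SND B N) (s : ℕ) (hs1 : 1 ≤ s) (hse : Even s)
    (hnil : ∀ v ∈ N, ((x - 1) ^ s) v = 0) (hne : ∃ v ∈ N, ((x - 1) ^ (s - 1)) v ≠ 0) :
    ∃ U : Submodule F V, U ≤ N ∧ SInv x U ∧ SND B U ∧ ∀ j, rdk x U j = tyf {s} j := by
  have hpp : p.Prime := Fact.out
  have hp0 : 0 < p := hpp.pos
  have h2 : (2 : F) ≠ 0 := s5956usplit_two_ne hp2
  have hpnil := nil_pow x h.pow
  have hskew := s5956usplit_skew h.alt
  have hsym : ∀ u ∈ N, ∀ v ∈ N,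
      B v (((x - 1) ^ (s - 1)) u) = B u (((x - 1) ^ (s - 1)) v) := by
    intro u hu v hv
    have := beta_symm hp0 h N hN s hs1 hnil u v hu hv
    rw [hse.neg_one_pow, one_mul] at this
    exact this
  obtain ⟨u₀, hu₀, v₀, hv₀, hβ⟩ := s5956usplit_beta_ne h.alt N hN hNnd s hne
  obtain ⟨v, hv, hvv⟩ : ∃ v ∈ N, B v (((x - 1) ^ (s - 1)) v) ≠ 0 := by
    by_contra hcon
    push Not at hcon
    have h1 := hcon (u₀ + v₀) (N.add_mem hu₀ hv₀)
    rw [map_add, map_add, LinearMap.add_apply, map_add, map_add, hcon u₀ hu₀, hcon v₀ hv₀,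
      hsym u₀ hu₀ v₀ hv₀, zero_add, add_zero] at h1
    have h3 : (2 : F) * B u₀ (((x - 1) ^ (s - 1)) v₀) = 0 := by rw [two_mul]; exact h1
    rcases mul_eq_zero.mp h3 with h4 | h4
    · exact h2 h4
    · exact hβ h4
  let u : Fin 1 → V := fun _ => v
  have hnilu : ∀ i, ((x - 1) ^ s) (u i) = 0 := fun _ => hnil v hv
  have htop : ((x - 1) ^ (s - 1)) v ≠ 0 := by
    intro h0
    rw [h0, map_zero] at hvv
    exact hvv rfl
  have hli : LinearIndependent F (fun i => ((x - 1) ^ (s - 1)) (u i)) :=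
    LinearIndependent.of_subsingleton (R := F) (v := fun i => ((x - 1) ^ (s - 1)) (u i)) 0 htop
  obtain ⟨hUinv, hUmem⟩ := free_inv x s hs1 u hnilu
  refine ⟨cycU x s u, ?_, hUinv, ?_, ?_⟩
  · unfold cycU
    rw [Submodule.span_le]
    rintro _ ⟨ia, rfl⟩
    exact s5956usplit_pow_mem N hN _ v hv
  · apply rad_nd hp0 h p hpnil _ hUinv
    intro w hw hfix hrad
    obtain ⟨c, hc⟩ := free_ker x s hs1 u hnilu hli w hw hfix
    rw [Fin.sum_univ_one] at hc
    have h1 := hrad v (hUmem 0)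
    rw [hc, map_smul, LinearMap.smul_apply, smul_eq_mul, hskew] at h1
    have hc0 : c 0 = 0 := by
      rcases mul_eq_zero.mp h1 with h3 | h3
      · exact h3
      · exact absurd (neg_eq_zero.mp h3) hvv
    rw [hc, hc0, zero_smul]
  · intro j
    rw [free_rdk x s hs1 u hnilu hli j, one_mul]
    unfold tyf
    simp

theorem split_odd {p : ℕ} [Fact p.Prime] [CharP F p] (hp2 : 2 < p) [FiniteDimensional F V]
    {B : LinearMap.BilinForm F V} {x : Module.End F V} (h : SCtx p B x)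
    (N : Submodule F V) (hN : SInv x N) (hNnd : SND B N) (s : ℕ) (hs1 : 1 ≤ s) (hso : Odd s)
    (hnil : ∀ v ∈ N, ((x - 1) ^ s) v = 0) (hne : ∃ v ∈ N, ((x - 1) ^ (s - 1)) v ≠ 0) :
    ∃ U : Submodule F V, U ≤ N ∧ SInv x U ∧ SND B U ∧ ∀ j, rdk x U j = tyf {s, s} j := by
  have hpp : p.Prime := Fact.out
  have hp0 : 0 < p := hpp.pos
  have h2 : (2 : F) ≠ 0 := s5956usplit_two_ne hp2
  have hpnil := nil_pow x h.pow
  have hskew := s5956usplit_skew h.alt
  have hanti : ∀ u ∈ N, ∀ v ∈ N,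
      B v (((x - 1) ^ (s - 1)) u) = - B u (((x - 1) ^ (s - 1)) v) := by
    intro u hu v hv
    have := beta_symm hp0 h N hN s hs1 hnil u v hu hv
    rw [hso.neg_one_pow, neg_one_mul] at this
    exact this
  have hdiag : ∀ u ∈ N, B u (((x - 1) ^ (s - 1)) u) = 0 := by
    intro u hu
    have h1 := hanti u hu u hu
    have h3 : (2 : F) * B u (((x - 1) ^ (s - 1)) u) = 0 := by
      rw [two_mul]
      nth_rewrite 1 [h1]
      exact neg_add_cancel _
    rcases mul_eq_zero.mp h3 with h4 | h4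
    · exact absurd h4 h2
    · exact h4
  obtain ⟨u₀, hu₀, v₀, hv₀, hβ⟩ := s5956usplit_beta_ne h.alt N hN hNnd s hne
  let u : Fin 2 → V := ![u₀, v₀]
  have hu0 : u 0 = u₀ := rfl
  have hu1 : u 1 = v₀ := rfl
  have hnilu : ∀ i, ((x - 1) ^ s) (u i) = 0 := by
    intro i
    fin_cases i
    · exact hnil u₀ hu₀
    · exact hnil v₀ hv₀
  -- pairing a combination of the top images with `u₀` and `v₀`
  have hpair : ∀ c : Fin 2 → F,
      B u₀ (∑ i, c i • ((x - 1) ^ (s - 1)) (u i)) = c 1 * B u₀ (((x - 1) ^ (s - 1)) v₀) ∧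
      B v₀ (∑ i, c i • ((x - 1) ^ (s - 1)) (u i)) = - (c 0 * B u₀ (((x - 1) ^ (s - 1)) v₀)) := by
    intro c
    rw [Fin.sum_univ_two, hu0, hu1]
    constructor
    · rw [map_add, map_smul, map_smul, hdiag u₀ hu₀, smul_zero, zero_add, smul_eq_mul]
    · rw [map_add, map_smul, map_smul, hdiag v₀ hv₀, smul_zero, add_zero, smul_eq_mul,
        hanti u₀ hu₀ v₀ hv₀, mul_neg]
  have hzero : ∀ c : Fin 2 → F, (∀ w, w = u₀ ∨ w = v₀ →
      B w (∑ i, c i • ((x - 1) ^ (s - 1)) (u i)) = 0) → ∀ i, c i = 0 := by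
    intro c hc
    have h1 := hc u₀ (Or.inl rfl)
    have h3 := hc v₀ (Or.inr rfl)
    rw [(hpair c).1] at h1
    rw [(hpair c).2, neg_eq_zero] at h3
    have hc1 : c 1 = 0 := (mul_eq_zero.mp h1).resolve_right hβ
    have hc0 : c 0 = 0 := (mul_eq_zero.mp h3).resolve_right hβ
    intro i
    fin_cases i
    · exact hc0
    · exact hc1
  have hli : LinearIndependent F (fun i => ((x - 1) ^ (s - 1)) (u i)) := by
    rw [Fintype.linearIndependent_iff]
    intro c hc
    apply hzero c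
    intro w _
    rw [hc, map_zero]
  obtain ⟨hUinv, hUmem⟩ := free_inv x s hs1 u hnilu
  refine ⟨cycU x s u, ?_, hUinv, ?_, ?_⟩
  · unfold cycU
    rw [Submodule.span_le]
    rintro _ ⟨ia, rfl⟩
    apply s5956usplit_pow_mem N hN
    rcases ia with ⟨i, a⟩
    fin_cases i
    · exact hu₀
    · exact hv₀
  · apply rad_nd hp0 h p hpnil _ hUinv
    intro w hw hfix hrad
    obtain ⟨c, hc⟩ := free_ker x s hs1 u hnilu hli w hw hfix
    have hc0 := hzero c (by
      intro w' hw'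
      rw [← hc, hskew, neg_eq_zero]
      rcases hw' with rfl | rfl
      · exact hrad _ (hUmem 0)
      · exact hrad _ (hUmem 1))
    rw [hc]
    apply Finset.sum_eq_zero
    intro i _
    rw [hc0 i, zero_smul]
  · intro j
    rw [free_rdk x s hs1 u hnilu hli j]
    unfold tyf
    simp
    ring

theorem split_off {p : ℕ} [Fact p.Prime] [CharP F p] (hp2 : 2 < p) [FiniteDimensional F V]
    {B : LinearMap.BilinForm F V} {x : Module.End F V} (h : SCtx p B x)
    (N : Submodule F V) (hN : SInv x N) (hNnd : SND B N) (hN0 : N ≠ ⊥) :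
    ∃ (U : Submodule F V) (τ : Multiset ℕ), U ≤ N ∧ SInv x U ∧ SND B U ∧ PieceTy τ ∧
      (∀ a ∈ τ, 0 < a ∧ a ≤ p) ∧ ∀ j, rdk x U j = tyf τ j := by
  have hpnil := nil_pow x h.pow
  obtain ⟨s, hs1, hsp, hnil, hne⟩ := exists_index (x - 1) p hpnil N hN0
  rcases Nat.even_or_odd s with hse | hso
  · obtain ⟨U, hUN, hU, hUnd, hr⟩ := split_even hp2 h N hN hNnd s hs1 hse hnil hne
    refine ⟨U, {s}, hUN, hU, hUnd, Or.inl ⟨s, hse, rfl⟩, ?_, hr⟩
    intro a ha
    rw [Multiset.mem_singleton] at ha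
    subst ha
    exact ⟨hs1, hsp⟩
  · obtain ⟨U, hUN, hU, hUnd, hr⟩ := split_odd hp2 h N hN hNnd s hs1 hso hnil hne
    refine ⟨U, {s, s}, hUN, hU, hUnd, Or.inr ⟨s, hso, rfl⟩, ?_, hr⟩
    intro a ha
    have : a = s := by
      simpa using ha
    subst this
    exact ⟨hs1, hsp⟩

end Cfsg.Agent.Lib.Helper11.S5956U
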