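import Mathlib
import Cfsg.Agent.Lib.Helper11.S5956U.Defs

/-!
# S5956U row SUPND (helper11): orthogonal sum of invariant non-degenerate subspaces
-/

set_option autoImplicit false

namespace Cfsg.Agent.Lib.Helper11.S5956U

open Polynomial Module Cfsg.Agent.Lib.Helper13.S5955 Cfsg.Agent.Lib.helper14.JTa

variable {F : Type*} [Field F] {V : Type*} [AddCommGroup V] [Module F V]

/-- an alternating form is skew-symmetric -/
theorem s5956usupnd_skew {B : LinearMap.BilinForm F V} (halt : ∀ v, B v v = 0) (a b : V) :
    B a b = - B b a := by
  have h := halt (a + b)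
  have e : B (a + b) (a + b) = B a a + B a b + (B b a + B b b) := by
    simp only [map_add, LinearMap.add_apply]
    ring
  rw [e, halt a, halt b] at h
  linear_combination h

theorem sup_nd [FiniteDimensional F V] {r : ℕ} {B : LinearMap.BilinForm F V} {x : Module.End F V}
    (h : SCtx r B x) (U W : Submodule F V) (hU : SInv x U) (hW : SInv x W) (hUnd : SND B U)
    (hWnd : SND B W) (horth : SOrth B U W) :
    SInv x (U ⊔ W) ∧ SND B (U ⊔ W) ∧ finrank F ↥(U ⊔ W) = finrank F U + finrank F W := by
  have hskew := s5956usupnd_skew h.alt
  have horth' : ∀ w ∈ W, ∀ u ∈ U, B w u = 0 := by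
    intro w hw u hu
    rw [hskew, horth u hu w hw, neg_zero]
  refine ⟨?_, ?_, ?_⟩
  · intro v hv
    obtain ⟨a, ha, b, hb, rfl⟩ := Submodule.mem_sup.mp hv
    rw [map_add]
    exact Submodule.add_mem _ (Submodule.mem_sup_left (hU a ha)) (Submodule.mem_sup_right (hW b hb))
  · intro v hv hv0
    obtain ⟨a, ha, b, hb, rfl⟩ := Submodule.mem_sup.mp hv
    have ha0 : a = 0 := by
      apply hUnd a ha
      intro u hu
      have := hv0 u (Submodule.mem_sup_left hu)
      rw [map_add, LinearMap.add_apply, horth' b hb u hu, add_zero] at this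
      exact this
    have hb0 : b = 0 := by
      apply hWnd b hb
      intro w hw
      have := hv0 w (Submodule.mem_sup_right hw)
      rw [map_add, LinearMap.add_apply, horth a ha w hw, zero_add] at this
      exact this
    rw [ha0, hb0, add_zero]
  · have hdis : Disjoint U W := by
      rw [Submodule.disjoint_def]
      intro v hvU hvW
      apply hUnd v hvU
      intro u hu
      exact horth' v hvW u hu
    have := Submodule.finrank_sup_add_finrank_inf_eq U W
    rw [hdis.eq_bot, finrank_bot, add_zero] at this
    exact this

end Cfsg.Agent.Lib.Helper11.S5956U
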