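import Mathlib
import Cfsg.Agent.Lib.Helper11.S5956U.Defs
import Cfsg.Agent.Lib.helper7.S5955T4
import Cfsg.Agent.Lib.Helper11.S5956USMALL
import Cfsg.Agent.Lib.Helper11.S5956USUPND
import Cfsg.Agent.Lib.Helper20.S5956URDKADD
import Cfsg.Agent.Lib.Helper26.S5956UPICK
import Cfsg.Agent.Lib.Helper11.S5956USPLIT

/-!
# S5956U row STRUCT (helper11): the structure theorem for unipotent isometries
-/

set_option autoImplicit false

namespace Cfsg.Agent.Lib.Helper11.S5956U

open Polynomial Module Cfsg.Agent.Lib.Helper13.S5955 Cfsg.Agent.Lib.helper14.JTa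

variable {F : Type*} [Field F] {V : Type*} [AddCommGroup V] [Module F V]

/-- odd parts of a piece type have even multiplicity -/
theorem s5956ustruct_piece_odd (τ : Multiset ℕ) (hτ : PieceTy τ) :
    ∀ a : ℕ, Odd a → Even (τ.count a) := by
  intro a ha
  rcases hτ with ⟨s, hs, rfl⟩ | ⟨s, hs, rfl⟩
  · have hne : a ≠ s := by
      rintro rfl
      exact (Nat.not_even_iff_odd.mpr ha) hs
    rw [Multiset.count_singleton, if_neg hne]
    exact Even.zero
  · by_cases hEq : a = s
    · subst hEq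
      have : Multiset.count a ({a, a} : Multiset ℕ) = 2 := by
        simp
      rw [this]
      exact even_two
    · have : Multiset.count a ({s, s} : Multiset ℕ) = 0 := by
        simp [hEq]
      rw [this]
      exact Even.zero

/-- a piece type with positive parts has positive sum -/
theorem s5956ustruct_piece_pos (τ : Multiset ℕ) (hτ : PieceTy τ) (hpos : ∀ a ∈ τ, 0 < a) :
    0 < τ.sum := by
  rcases hτ with ⟨s, _, rfl⟩ | ⟨s, _, rfl⟩
  · have := hpos s (by simp)
    simpa using this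
  · have := hpos s (by simp)
    have h2 : ({s, s} : Multiset ℕ).sum = s + s := by simp
    rw [h2]
    omega

/-- `tyf` is additive -/
theorem s5956ustruct_tyf_add (μ ν : Multiset ℕ) (j : ℕ) : tyf (μ + ν) j = tyf μ j + tyf ν j := by
  unfold tyf
  rw [Multiset.map_add, Multiset.sum_add]

theorem struct {p : ℕ} [Fact p.Prime] [CharP F p] (hp2 : 2 < p) [FiniteDimensional F V]
    {B : LinearMap.BilinForm F V} {x : Module.End F V} (h : SCtx p B x)
    (N : Submodule F V) (hN : SInv x N) (hNnd : SND B N) :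
    ∃ μ : Multiset ℕ, SpTy p μ ∧ μ.sum = finrank F N ∧ (∀ j, rdk x N j = tyf μ j) ∧
      ∀ ν : Multiset ℕ, ν ≤ μ → (∀ a : ℕ, Odd a → Even (ν.count a)) →
        ∃ W : Submodule F V, W ≤ N ∧ SInv x W ∧ SND B W ∧ finrank F W = ν.sum := by
  have hpnil : (x - 1) ^ p = 0 := nil_pow x h.pow
  have hp0 : 0 < p := (Fact.out : p.Prime).pos
  suffices H : ∀ n : ℕ, ∀ N : Submodule F V, finrank F N = n → SInv x N → SND B N →
      ∃ μ : Multiset ℕ, SpTy p μ ∧ μ.sum = finrank F N ∧ (∀ j, rdk x N j = tyf μ j) ∧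
        ∀ ν : Multiset ℕ, ν ≤ μ → (∀ a : ℕ, Odd a → Even (ν.count a)) →
          ∃ W : Submodule F V, W ≤ N ∧ SInv x W ∧ SND B W ∧ finrank F W = ν.sum from
    H _ N rfl hN hNnd
  intro n
  induction n using Nat.strong_induction_on with
  | _ n ih =>
  intro N hn hN hNnd
  by_cases hN0 : N = ⊥
  · subst hN0
    refine ⟨0, ⟨by simp, by simp⟩, by simp, ?_, ?_⟩
    · intro j
      unfold rdk tyf
      rw [inf_bot_eq, finrank_bot, Multiset.map_zero, Multiset.sum_zero]
    · intro ν hν _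
      have hν0 : ν = 0 := Multiset.le_zero.mp hν
      subst hν0
      refine ⟨⊥, le_refl _, ?_, ?_, by simp⟩
      · intro w hw
        rw [Submodule.mem_bot] at hw ⊢
        rw [hw, map_zero]
      · intro u hu _
        exact (Submodule.mem_bot F).mp hu
  · obtain ⟨U, τ, hUN, hU, hUnd, hτ, hτp, hτr⟩ := split_off hp2 h N hN hNnd hN0
    obtain ⟨N', hN'N, hN', hN'nd, horth, hdis, hdim⟩ := peel_nd hp0 h N U hN hNnd hUN hU hUnd
    have hUdim : finrank F U = τ.sum := by
      rw [← rdk_top x p hpnil U, hτr p, tyf_top τ p (fun a ha => (hτp a ha).2)]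
    have hτpos : 0 < τ.sum := s5956ustruct_piece_pos τ hτ (fun a ha => (hτp a ha).1)
    have hlt : finrank F N' < n := by omega
    obtain ⟨μ', hμ'ty, hμ'sum, hμ'r, hμ'W⟩ := ih _ hlt N' rfl hN' hN'nd
    refine ⟨τ + μ', ⟨?_, ?_⟩, ?_, ?_, ?_⟩
    · intro a ha
      rcases Multiset.mem_add.mp ha with ha | ha
      · exact hτp a ha
      · exact hμ'ty.1 a ha
    · intro a ha
      rw [Multiset.count_add]
      exact (s5956ustruct_piece_odd τ hτ a ha).add (hμ'ty.2 a ha)
    · rw [Multiset.sum_add, hμ'sum, ← hUdim]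
      omega
    · intro j
      rw [rdk_add x N U N' hU hN' hUN hN'N hdis hdim j, hτr, hμ'r, s5956ustruct_tyf_add]
    · intro ν hν hνo
      rcases pick τ μ' ν hτ hν hνo with h1 | ⟨h1, h2, h3⟩
      · obtain ⟨W, hW, hWi, hWnd, hWd⟩ := hμ'W ν h1 hνo
        exact ⟨W, hW.trans hN'N, hWi, hWnd, hWd⟩
      · obtain ⟨W', hW'N', hW', hW'nd, hW'dim⟩ := hμ'W (ν - τ) h2 h3
        have horth' : SOrth B U W' := fun u hu w hw => horth u hu w (hW'N' hw)
        obtain ⟨hinv, hnd, hdim'⟩ := sup_nd h U W' hU hW' hUnd hW'nd horth'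
        refine ⟨U ⊔ W', sup_le hUN (hW'N'.trans hN'N), hinv, hnd, ?_⟩
        rw [hdim', hUdim, hW'dim, ← Multiset.sum_add, add_tsub_cancel_of_le h1]

end Cfsg.Agent.Lib.Helper11.S5956U
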