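import Mathlib
import Cfsg.Agent.Lib.Helper11.S5956U.Defs
import Cfsg.Agent.Lib.helper7.S5955T4
import Cfsg.Agent.Lib.Helper1.S5955X23
import Cfsg.Agent.Lib.Helper11.S5956USTRUCT
import Cfsg.Agent.Lib.Helper20.S5956UTYPELE
import Cfsg.Agent.Lib.helper4.S5956UEXTYPEcore
import Cfsg.Agent.Lib.helper4.S5956UPRODCTX
import Cfsg.Agent.Lib.helper6.S5956UBLKEVEN
import Cfsg.Agent.Lib.helper6.S5956UBLKODD

/-!
# S5956U row NEC (helper11): necessity in matrix form
-/

set_option autoImplicit false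

namespace Cfsg.Agent.Lib.Helper11.S5956U

open Polynomial Module Cfsg.Agent.Lib.Helper13.S5955 Cfsg.Agent.Lib.helper14.JTa

/-- `tyf μ j ≤ μ.sum` -/
theorem s5956unec_tyf_le (μ : Multiset ℕ) (j : ℕ) : tyf μ j ≤ μ.sum := by
  unfold tyf
  induction μ using Multiset.induction_on with
  | empty => simp
  | cons b μ ih =>
    rw [Multiset.map_cons, Multiset.sum_cons, Multiset.sum_cons]
    have : min b j ≤ b := min_le_left _ _
    omega

/-- a type with positive parts, one of them `≠ 1`, has fewer parts than its sum -/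
theorem s5956unec_tyf_one_lt (μ : Multiset ℕ) (hpos : ∀ a ∈ μ, 0 < a) (a0 : ℕ) (ha0 : a0 ∈ μ)
    (ha01 : a0 ≠ 1) : tyf μ 1 < μ.sum := by
  obtain ⟨μ₀, rfl⟩ := Multiset.exists_cons_of_mem ha0
  have h0 : 0 < a0 := hpos a0 ha0
  have h1 := s5956unec_tyf_le μ₀ 1
  have h2 : tyf (a0 ::ₘ μ₀) 1 = min a0 1 + tyf μ₀ 1 := by
    unfold tyf
    rw [Multiset.map_cons, Multiset.sum_cons]
  rw [h2, Multiset.sum_cons]
  have : min a0 1 = 1 := min_eq_right h0
  omega

/-- EXTYPE from helper4's core and helper6's blocks (same statement as the Skel's `exists_type`) -/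
theorem s5956unec_exists_type {F : Type*} [Field F] {p : ℕ} [Fact p.Prime] [CharP F p] (hp2 : 2 < p)
    (μ : Multiset ℕ) (hμ : SpTy p μ) (d : ℕ) (hd : μ.sum = 2 * d) :
    ∃ y : Module.End F (Fin d ⊕ Fin d → F), SCtx p (stdB d F) y ∧ ∀ j, dk (y - 1) j = tyf μ j :=
  s5956uextype_core (F := F) (p := p) (fun k hk hkp => blk_even hp2 k hk hkp)
    (fun s hs hsp => blk_odd hp2 s hs hsp)
    (fun d₁ d₂ y₁ y₂ h₁ h₂ => prod_ctx d₁ d₂ y₁ y₂ h₁ h₂) _ μ rfl hμ d hd

theorem unip_nec {F : Type*} [Field F] {p : ℕ} [Fact p.Prime] [CharP F p] (hp2 : 2 < p)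
    (d m : ℕ) (hme : Even m) (hm2d : m ≤ 2 * d)
    (hall : ∀ x : ↥(Matrix.symplecticGroup (Fin d) F),
      (∃ z : F, ((x ^ p : ↥(Matrix.symplecticGroup (Fin d) F)) :
        Matrix (Fin d ⊕ Fin d) (Fin d ⊕ Fin d) F) = z • (1 : Matrix (Fin d ⊕ Fin d) (Fin d ⊕ Fin d) F)) →
      (∀ z : F, (x : Matrix (Fin d ⊕ Fin d) (Fin d ⊕ Fin d) F) ≠
        z • (1 : Matrix (Fin d ⊕ Fin d) (Fin d ⊕ Fin d) F)) →
      ∃ W : Submodule F (Fin d ⊕ Fin d → F), Module.finrank F ↥W = m ∧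
        (∀ u ∈ W, u ≠ 0 → ∃ v ∈ W, Cfsg.sympForm d F u v ≠ 0) ∧
        W.map (Matrix.toLin' (x : Matrix (Fin d ⊕ Fin d) (Fin d ⊕ Fin d) F)) ≤ W) :
    ∀ μ : Multiset ℕ, (∀ a ∈ μ, 0 < a ∧ a ≤ p) → (∀ a : ℕ, Odd a → Even (μ.count a)) →
      μ.sum = 2 * d → ∃ ν : Multiset ℕ, ν ≤ μ ∧ ν.sum = m ∧ ∀ a : ℕ, Odd a → Even (ν.count a) := by
  intro μ hμp hμo hμs
  have hpp : p.Prime := Fact.out
  have hpodd : Odd p := hpp.odd_of_ne_two (by omega)
  have hp0 : 0 < p := hpp.pos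
  by_cases hall1 : ∀ a ∈ μ, a = 1
  · have hμ : μ = Multiset.replicate (Multiset.card μ) 1 := Multiset.eq_replicate_card.mpr hall1
    have hcard : Multiset.card μ = 2 * d := by
      rw [hμ] at hμs
      simpa using hμs
    refine ⟨Multiset.replicate m 1, ?_, by simp, ?_⟩
    · rw [hμ, hcard]
      exact (Multiset.replicate_le_replicate 1).mpr hm2d
    · intro a _
      rw [Multiset.count_replicate]
      split_ifs
      · exact hme
      · exact Even.zero
  · push Not at hall1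
    obtain ⟨a0, ha0, ha01⟩ := hall1
    obtain ⟨y, hy, hdk⟩ := s5956unec_exists_type (F := F) hp2 μ ⟨hμp, hμo⟩ d hμs
    have hy1 : y ≠ 1 := by
      intro h1
      have h2 := hdk 1
      rw [h1, sub_self] at h2
      have h3 : dk (0 : Module.End F (Fin d ⊕ Fin d → F)) 1 = 2 * d := by
        unfold dk
        rw [pow_one, LinearMap.ker_zero, finrank_top, Module.finrank_fintype_fun_eq_card,
          Fintype.card_sum, Fintype.card_fin]
        ring
      have h4 := s5956unec_tyf_one_lt μ (fun a ha => (hμp a ha).1) a0 ha0 ha01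
      omega
    obtain ⟨x, hxy, hxp, hxns⟩ := realize d p hpodd y hy hy1
    obtain ⟨W, hWm, hWnd, hWx⟩ := hall x ⟨1, hxp⟩ hxns
    rw [hxy] at hWx
    have hWinv : SInv y W := fun w hw => hWx (Submodule.mem_map_of_mem hw)
    have hWsnd : SND (stdB d F) W := by
      intro u hu hu0
      by_contra hne
      obtain ⟨v, hv, hv0⟩ := hWnd u hu hne
      exact hv0 (hu0 v hv)
    obtain ⟨ν, hνty, hνsum, hνr, _⟩ := struct hp2 hy W hWinv hWsnd
    have htopnd : SND (stdB d F) ⊤ := fun u _ hu => hy.nd u (fun v => hu v trivial)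
    have htopinv : SInv y (⊤ : Submodule F (Fin d ⊕ Fin d → F)) := fun _ _ => trivial
    obtain ⟨W', -, hW'inv, -, -, hdis, hdim⟩ :=
      peel_nd hp0 hy ⊤ W htopinv htopnd le_top hWinv hWsnd
    have hc : IsCompl W W' := by
      refine ⟨hdis, codisjoint_iff.mpr ?_⟩
      apply Submodule.eq_top_of_disjoint W W' _ hdis
      rw [finrank_top] at hdim
      omega
    have hle := type_le y W W' hWinv hW'inv hc μ ν (fun a ha => (hμp a ha).1)
      (fun a ha => (hνty.1 a ha).1) hdk hνr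
    exact ⟨ν, hle, by rw [hνsum, hWm], hνty.2⟩

end Cfsg.Agent.Lib.Helper11.S5956U
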