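import Mathlib
import Cfsg.Agent.Lib.Helper11.S5956U.Defs
import Cfsg.Agent.Lib.Helper11.S5956USTRUCT
import Cfsg.Agent.Lib.helper4.S5956USUFFcore

/-!
# S5956U row SUFF, second copy (helper11): `s5956usuff_h11_unip_suff` = EXACT statement of `unip_suff`
(helper4's core + the landed STRUCT).
-/

set_option autoImplicit false

namespace Cfsg.Agent.Lib.Helper11.S5956U

open Polynomial Module Cfsg.Agent.Lib.Helper13.S5955 Cfsg.Agent.Lib.helper14.JTa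

theorem s5956usuff_h11_unip_suff {F : Type*} [Field F] {p : ℕ} [Fact p.Prime] [CharP F p] (hp2 : 2 < p)
    (d m : ℕ) (hd : 1 ≤ d)
    (hpart : ∀ μ : Multiset ℕ, (∀ a ∈ μ, 0 < a ∧ a ≤ p) → (∀ a : ℕ, Odd a → Even (μ.count a)) →
      μ.sum = 2 * d → ∃ ν : Multiset ℕ, ν ≤ μ ∧ ν.sum = m ∧ ∀ a : ℕ, Odd a → Even (ν.count a))
    (x : ↥(Matrix.symplecticGroup (Fin d) F)) (z : F)
    (hx : ((x ^ p : ↥(Matrix.symplecticGroup (Fin d) F)) :
      Matrix (Fin d ⊕ Fin d) (Fin d ⊕ Fin d) F) = z • (1 : Matrix (Fin d ⊕ Fin d) (Fin d ⊕ Fin d) F)) :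
    ∃ W : Submodule F (Fin d ⊕ Fin d → F), Module.finrank F ↥W = m ∧
      (∀ u ∈ W, u ≠ 0 → ∃ v ∈ W, Cfsg.sympForm d F u v ≠ 0) ∧
      W.map (Matrix.toLin' (x : Matrix (Fin d ⊕ Fin d) (Fin d ⊕ Fin d) F)) ≤ W :=
  s5956usuff_core hp2 d m hd (fun _ hy N hN hNnd => struct hp2 hy N hN hNnd) hpart x z hx

end Cfsg.Agent.Lib.Helper11.S5956U
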