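import Mathlib
import Cfsg.Agent.Lib.Helper29.S5981.DefsD

set_option autoImplicit false
set_option linter.unusedVariables false
set_option linter.unusedSectionVars false

/-!
# Project S5981, row D11 (`orbit_count`), verbatim from `Helper29/S5981/DSkel.lean.txt`.

The isometry group of `Q` acts on the zeros of `Q`; the cyclic group `⟨y⟩` is an `r`-group whose only fixed point is `0`.
-/

namespace Cfsg.Agent.Lib.Helper29.S5981

open scoped MatrixGroups Matrix

variable {F : Type*} [Field F]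

/-- membership in the isometry group, unfolded -/
theorem s5981d11_mem_iff {ι : Type} [Fintype ι] [DecidableEq ι] (Q : (ι → F) → F) (g : GL ι F) :
    g ∈ Cfsg.isometryGroup F Q ↔ ∀ u : ι → F, Q ((g : Matrix ι ι F) *ᵥ u) = Q u := by
  constructor
  · intro h u
    exact h u u
  · intro h u v
    exact h u

/-- the action of the isometry group on the zeros of `Q` -/
@[reducible] def s5981d11_act {ι : Type} [Fintype ι] [DecidableEq ι] (Q : (ι → F) → F) :
    MulAction (Cfsg.isometryGroup F Q) {v : ι → F // Q v = 0} where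
  smul g v := ⟨((g : GL ι F) : Matrix ι ι F) *ᵥ v.1, by
    rw [(s5981d11_mem_iff Q g.1).1 g.2 v.1]; exact v.2⟩
  one_smul v := by
    apply Subtype.ext
    change ((1 : GL ι F) : Matrix ι ι F) *ᵥ v.1 = v.1
    simp
  mul_smul g h v := by
    apply Subtype.ext
    change (((g : GL ι F) * (h : GL ι F) : GL ι F) : Matrix ι ι F) *ᵥ v.1 =
      ((g : GL ι F) : Matrix ι ι F) *ᵥ (((h : GL ι F) : Matrix ι ι F) *ᵥ v.1)
    rw [Matrix.mulVec_mulVec]
    rfl

variable [Fintype F]

/-- D11 : a fixed-point-free isometry of prime order `r` : `⟨y⟩` (a group of order `r`) acts on the zeros of `Q` with the single fixed point `0`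
(`Q 0 = 0` is a hypothesis).  (`MulAction.card_modEq_card_fixedPoints` for the `r`-group `Subgroup.zpowers y`, or count orbits directly.) -/
theorem orbit_count (n : ℕ) (Q : (Fin n → F) → F) (hQ0 : Q 0 = 0) (r : ℕ) [Fact r.Prime] (y : GL (Fin n) F)
    (hy : y ∈ Cfsg.isometryGroup F Q) (hyr : y ^ r = 1)
    (hfix : ∀ v : Fin n → F, (y : Matrix (Fin n) (Fin n) F) *ᵥ v = v → v = 0) :
    ∃ t : ℕ, Nat.card {v : Fin n → F // Q v = 0} = r * t + 1 := by
  classical
  letI : MulAction (Cfsg.isometryGroup F Q) {v : Fin n → F // Q v = 0} := s5981d11_act Q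
  set y' : Cfsg.isometryGroup F Q := ⟨y, hy⟩ with hy'
  have hy'r : y' ^ r = 1 := by
    apply Subtype.ext
    simpa using hyr
  have hP : IsPGroup r (Subgroup.zpowers y') := by
    intro g
    refine ⟨1, ?_⟩
    obtain ⟨g, hg⟩ := g
    obtain ⟨k, rfl⟩ := Subgroup.mem_zpowers_iff.1 hg
    apply Subtype.ext
    simp only [pow_one, Subgroup.coe_pow, Subgroup.coe_one]
    rw [← zpow_natCast, ← zpow_mul, mul_comm, zpow_mul, zpow_natCast, hy'r, one_zpow]
  have hcard := hP.card_modEq_card_fixedPoints {v : Fin n → F // Q v = 0}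
  have hfp : Nat.card (MulAction.fixedPoints (Subgroup.zpowers y') {v : Fin n → F // Q v = 0}) = 1 := by
    rw [Nat.card_eq_one_iff_unique]
    refine ⟨⟨?_⟩, ⟨⟨⟨0, hQ0⟩, ?_⟩⟩⟩
    · rintro ⟨a, ha⟩ ⟨b, hb⟩
      have h0 : ∀ c : {v : Fin n → F // Q v = 0},
          c ∈ MulAction.fixedPoints (Subgroup.zpowers y') {v : Fin n → F // Q v = 0} → c.1 = 0 := by
        intro c hc
        have h1 := hc ⟨y', Subgroup.mem_zpowers y'⟩
        have h2 : (y : Matrix (Fin n) (Fin n) F) *ᵥ c.1 = c.1 := congrArg Subtype.val h1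
        exact hfix c.1 h2
      apply Subtype.ext
      apply Subtype.ext
      change a.1 = b.1
      rw [h0 a ha, h0 b hb]
    · intro g
      apply Subtype.ext
      change (((g : Cfsg.isometryGroup F Q) : GL (Fin n) F) : Matrix (Fin n) (Fin n) F) *ᵥ (0 : Fin n → F) = 0
      simp
  rw [hfp] at hcard
  have hpos : 1 ≤ Nat.card {v : Fin n → F // Q v = 0} := by
    haveI : Nonempty {v : Fin n → F // Q v = 0} := ⟨⟨0, hQ0⟩⟩
    exact Nat.one_le_iff_ne_zero.2 Nat.card_pos.ne'
  have h3 : r ∣ Nat.card {v : Fin n → F // Q v = 0} - 1 := (Nat.modEq_iff_dvd' hpos).1 hcard.symm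
  obtain ⟨t, ht⟩ := h3
  exact ⟨t, by omega⟩

end Cfsg.Agent.Lib.Helper29.S5981
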