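import Mathlib
import Cfsg.Agent.Lib.Helper29.S5981.DefsD
import Cfsg.Agent.Lib.helper14.SubB

set_option autoImplicit false
set_option linter.unusedVariables false
set_option linter.unusedSectionVars false

/-!
# Project S5981, row D5 (`card_SL`), verbatim from `Helper29/S5981/DSkel.lean.txt`.
-/

namespace Cfsg.Agent.Lib.Helper29.S5981

open scoped MatrixGroups Matrix

variable {F : Type*} [Field F] [Fintype F]

/-- `|ker det| · (q - 1) = |GL_n(q)|` for `n ≥ 1`. -/
theorem s5981d5_card_mul (n : ℕ) (hn : 1 ≤ n) :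
    Nat.card (Cfsg.Geo.specialLinear (Fin n) F) * (Fintype.card F - 1) = Nat.card (GL (Fin n) F) := by
  haveI : Nonempty (Fin n) := ⟨⟨0, by omega⟩⟩
  have h1 := Subgroup.card_mul_index (Matrix.GeneralLinearGroup.det : GL (Fin n) F →* Fˣ).ker
  rw [Subgroup.index_ker, MonoidHom.range_eq_top.mpr Matrix.GeneralLinearGroup.det_surjective,
    Nat.card_congr Subgroup.topEquiv.toEquiv, Nat.card_units, Nat.card_eq_fintype_card (α := F)] at h1
  exact h1

/-- D5 : `|SL_n(q)|` (`Cfsg.Agent.Lib.helper14.SubB.card_SL_formula` for `Matrix.SpecialLinearGroup`; the subgroup `ker det` of `GL` is in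
bijection with it). -/
theorem card_SL {q : ℕ} (hq : Fintype.card F = q) (n : ℕ) (hn : 1 ≤ n) :
    Nat.card (Cfsg.Geo.specialLinear (Fin n) F) * (q - 1) =
      q ^ (∑ i ∈ Finset.range n, i) * ∏ i ∈ Finset.range n, (q ^ (i + 1) - 1) := by
  have h1 := s5981d5_card_mul (F := F) n hn
  rw [Matrix.card_GL_field, hq, Cfsg.Agent.Lib.helper14.SpSLb.prod_GL] at h1
  exact h1

end Cfsg.Agent.Lib.Helper29.S5981
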