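import Mathlib
import Cfsg.Prelude.Def_GeometricClasses
import Cfsg.Prelude.Def_ClassicalGeometry
import Cfsg.Agent.Lib.Helper22.S6002.Defs

set_option autoImplicit false
set_option linter.unusedVariables false
set_option linter.unusedSectionVars false
open scoped MatrixGroups

/-!
# Project S6002 (designer helper22), row M3 (`nec_big`), CORE: necessity for `r ≥ 7` (Cauchy + N8), with the conclusions of M0 / N8 as hypotheses (helper11).
-/

namespace Cfsg.Agent.Lib.Helper22.S6002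

variable {ι : Type} [Fintype ι] [DecidableEq ι] {F : Type*} [Field F]

/-- the identity is scalar -/
theorem s6002m3_isScal_one : IsScal (1 : GL ι F) := ⟨1, by simp⟩

/-- a conjugate of a scalar is the same scalar -/
theorem s6002m3_isScal_conj (g y : GL ι F) (hy : IsScal y) : IsScal (g * y * g⁻¹) := by
  obtain ⟨c, hc⟩ := hy
  refine ⟨c, ?_⟩
  have h1 : ((g * y * g⁻¹ : GL ι F) : Matrix ι ι F) = (g : Matrix ι ι F) * (y : Matrix ι ι F) * ((g⁻¹ : GL ι F) : Matrix ι ι F) := by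
    simp only [Units.val_mul]
  rw [h1, hc, Matrix.mul_smul, Matrix.mul_one, Matrix.smul_mul]
  congr 1
  rw [← Units.val_mul, mul_inv_cancel, Units.val_one]

/-- core of M3: the conclusions of M0 and N8 as hypotheses -/
theorem s6002m3_core [Fintype F] {R : Subgroup (GL (Fin 2 ⊕ Fin 2) F)} (r : ℕ) (hr : r.Prime)
    (h7 : 7 ≤ r) (hΩ : r ∣ (Nrm R).relIndex (Cfsg.spGL 2 F))
    (hM0 : ∀ x : GL (Fin 2 ⊕ Fin 2) F, x ∈ Cfsg.spGL 2 F → IsScal x → x = 1 ∨ x = -1)
    (hN8 : ∀ g : GL (Fin 2 ⊕ Fin 2) F, g ∈ Nrm R → IsScal (g ^ r) → IsScal g) :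
    ¬ ∀ x ∈ Cfsg.spGL 2 F, IsScal (x ^ r) → ¬ IsScal x → ∃ g ∈ Cfsg.spGL 2 F, g⁻¹ * x * g ∈ Nrm R := by
  classical
  intro hall
  have : Fact r.Prime := ⟨hr⟩
  have hdvd : r ∣ Nat.card (Cfsg.spGL 2 F) := dvd_trans hΩ (Subgroup.relIndex_dvd_card _ _)
  obtain ⟨x, hx⟩ := exists_prime_orderOf_dvd_card' r hdvd
  have hxr : ((x : GL (Fin 2 ⊕ Fin 2) F)) ^ r = 1 := by
    have : x ^ r = 1 := by rw [← hx]; exact pow_orderOf_eq_one x
    have h2 := congrArg (Subtype.val) this
    simpa using h2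
  have hxs : ¬ IsScal (x : GL (Fin 2 ⊕ Fin 2) F) := by
    intro hs
    rcases hM0 _ x.2 hs with h1 | h1
    · have : x = 1 := Subtype.ext h1
      rw [this, orderOf_one] at hx
      omega
    · have hsq : x ^ 2 = 1 := by
        apply Subtype.ext
        simp only [Subgroup.coe_pow, Subgroup.coe_one, h1]
        rw [pow_two, neg_mul_neg, one_mul]
      have := orderOf_dvd_of_pow_eq_one hsq
      rw [hx] at this
      have := Nat.le_of_dvd (by norm_num) this
      omega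
  obtain ⟨g, hg, hgN⟩ := hall _ x.2 (by rw [hxr]; exact s6002m3_isScal_one) hxs
  have hyr : (g⁻¹ * (x : GL (Fin 2 ⊕ Fin 2) F) * g) ^ r = 1 := by
    have := conj_pow (a := g⁻¹) (b := (x : GL (Fin 2 ⊕ Fin 2) F)) (i := r)
    rw [inv_inv] at this
    rw [this, hxr, mul_one, inv_mul_cancel]
  have hys := hN8 _ hgN (by rw [hyr]; exact s6002m3_isScal_one)
  apply hxs
  have := s6002m3_isScal_conj g _ hys
  have e : g * (g⁻¹ * (x : GL (Fin 2 ⊕ Fin 2) F) * g) * g⁻¹ = x := by group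
  rw [e] at this
  exact this

end Cfsg.Agent.Lib.Helper22.S6002
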