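import Mathlib
import Cfsg.Prelude.Def_GeometricClasses
import Cfsg.Prelude.Def_ClassicalGeometry
import Cfsg.Agent.Lib.Helper22.S6002.Defs
import Cfsg.Agent.Lib.Helper11.S6002M3core
import Cfsg.Agent.Lib.Helper22.S6002M0
import Cfsg.Agent.Lib.helper6.S6002N7

set_option autoImplicit false
set_option linter.unusedVariables false
set_option linter.unusedSectionVars false
open scoped MatrixGroups

/-!
# Project S6002 (designer helper22), row M3 (`nec_big`): necessity for `r ≥ 7` (Cauchy + N8) (helper11).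
-/

namespace Cfsg.Agent.Lib.Helper22.S6002

variable {ι : Type} [Fintype ι] [DecidableEq ι] {F : Type*} [Field F]

/-- M3 [M].  Necessity, `r ≥ 7`.  `r ∣ Nat.card (spGL 2 F)` (`Subgroup.relIndex_dvd_card`), Cauchy (`exists_prime_orderOf_dvd_card'`): `x ∈ T` of order `r`, not `±1` (M0); N8 for `g⁻¹ x g`. -/
theorem nec_big [Fintype F] {R : Subgroup (GL (Fin 2 ⊕ Fin 2) F)} (hE : ECtx R) (r : ℕ) (hr : r.Prime)
    (h7 : 7 ≤ r) (hΩ : r ∣ (Nrm R).relIndex (Cfsg.spGL 2 F)) :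
    ¬ ∀ x ∈ Cfsg.spGL 2 F, IsScal (x ^ r) → ¬ IsScal x → ∃ g ∈ Cfsg.spGL 2 F, g⁻¹ * x * g ∈ Nrm R :=
  s6002m3_core r hr h7 hΩ (fun x hx hs => sp_scal x hx hs) (fun g hg hgr => no_big_prime hE g hg r hr h7 hgr)

end Cfsg.Agent.Lib.Helper22.S6002
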