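import Mathlib
import Cfsg.Prelude.Def_GeometricClasses
import Cfsg.Prelude.Def_ClassicalGeometry
import Cfsg.Agent.Lib.Helper22.S6002.Defs
import Cfsg.Agent.Lib.Helper11.S6002M3core

set_option autoImplicit false
set_option linter.unusedVariables false
set_option linter.unusedSectionVars false
open scoped MatrixGroups

/-!
# Project S6002 (designer helper22), row M4 (`suff_five`), CORE: sufficiency for `r = 5` (Y2 + L3), with the conclusions of M0 / Y2 / L3 as hypotheses (helper11).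
-/

namespace Cfsg.Agent.Lib.Helper22.S6002

variable {ι : Type} [Fintype ι] [DecidableEq ι] {F : Type*} [Field F]

/-- `-1` is scalar -/
theorem s6002m4_isScal_neg_one : IsScal (-1 : GL ι F) := ⟨-1, by simp⟩

/-- core of M4: the conclusions of M0, Y2 and L3 as hypotheses -/
theorem s6002m4_core [Fintype F] {R : Subgroup (GL (Fin 2 ⊕ Fin 2) F)} (hneg : (-1 : GL (Fin 2 ⊕ Fin 2) F) ∈ R)
    (hRf : R ≤ Cfsg.spGL 2 F)
    (hM0 : ∀ x : GL (Fin 2 ⊕ Fin 2) F, x ∈ Cfsg.spGL 2 F → IsScal x → x = 1 ∨ x = -1)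
    (hY2 : ∃ y : GL (Fin 2 ⊕ Fin 2) F, y ∈ Cfsg.spGL 2 F ∧ y ∈ Nrm R ∧ y ^ 5 = 1 ∧ y ≠ 1)
    (hL3 : ∀ y y₀ : GL (Fin 2 ⊕ Fin 2) F, y ∈ Cfsg.spGL 2 F → y₀ ∈ Cfsg.spGL 2 F → y ^ 5 = 1 → y₀ ^ 5 = 1 → y₀ ≠ 1 →
      ∃ g ∈ Cfsg.spGL 2 F, g⁻¹ * y * g ∈ Subgroup.zpowers y₀)
    (x : GL (Fin 2 ⊕ Fin 2) F) (hx : x ∈ Cfsg.spGL 2 F) (hx5 : IsScal (x ^ 5)) (hxs : ¬ IsScal x) :
    ∃ g ∈ Cfsg.spGL 2 F, g⁻¹ * x * g ∈ Nrm R := by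
  obtain ⟨y₀, hy₀T, hy₀N, hy₀5, hy₀1⟩ := hY2
  have hnegT : (-1 : GL (Fin 2 ⊕ Fin 2) F) ∈ Cfsg.spGL 2 F := hRf hneg
  have hnegN : (-1 : GL (Fin 2 ⊕ Fin 2) F) ∈ Nrm R := Subgroup.le_normalizer hneg
  have hzp : Subgroup.zpowers y₀ ≤ Nrm R := by
    rw [Subgroup.zpowers_le]; exact hy₀N
  rcases hM0 _ ((Cfsg.spGL 2 F).pow_mem hx 5) hx5 with h1 | h1
  · have hx1 : x ≠ 1 := by
      intro h; apply hxs; rw [h]; exact s6002m3_isScal_one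
    obtain ⟨g, hg, hgz⟩ := hL3 x y₀ hx hy₀T h1 hy₀5 hy₀1
    exact ⟨g, hg, hzp hgz⟩
  · have hy : -x ∈ Cfsg.spGL 2 F := by
      have : -x = (-1) * x := by rw [neg_mul, one_mul]
      rw [this]; exact (Cfsg.spGL 2 F).mul_mem hnegT hx
    have hy5 : (-x) ^ 5 = 1 := by
      rw [Odd.neg_pow (by decide), h1, neg_neg]
    obtain ⟨g, hg, hgz⟩ := hL3 (-x) y₀ hy hy₀T hy5 hy₀5 hy₀1
    refine ⟨g, hg, ?_⟩
    have e : g⁻¹ * x * g = (-1) * (g⁻¹ * (-x) * g) := by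
      rw [mul_neg, neg_mul, neg_mul, one_mul, neg_neg]
    rw [e]
    exact (Nrm R).mul_mem hnegN (hzp hgz)

end Cfsg.Agent.Lib.Helper22.S6002
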