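import Mathlib
import Cfsg.Prelude.Def_GeometricClasses
import Cfsg.Prelude.Def_ClassicalGeometry
import Cfsg.Agent.Lib.Helper22.S6002.Defs
import Cfsg.Agent.Lib.Helper11.S6002M4core
import Cfsg.Agent.Lib.Helper22.S6002M0
import Cfsg.Agent.Lib.Helper22.S6002Y2
import Cfsg.Agent.Lib.helper23.S6002L3

set_option autoImplicit false
set_option linter.unusedVariables false
set_option linter.unusedSectionVars false
open scoped MatrixGroups

/-!
# Project S6002 (designer helper22), row M4 (`suff_five`): sufficiency for `r = 5` (Y2 + L3) (helper11).  Wrapper of `s6002m4_core`.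
-/

namespace Cfsg.Agent.Lib.Helper22.S6002

variable {ι : Type} [Fintype ι] [DecidableEq ι] {F : Type*} [Field F]

/-- M4 [M].  Sufficiency, `r = 5`.  `x^5 = ±1` (M0); `y = x` or `-x` has `y^5 = 1`, `y ≠ 1`; Y2 gives `y₀`, L3 with `T = spGL 2 F` gives `g`; `g⁻¹ x g = ± g⁻¹ y g ∈ Nrm R` (`-1 ∈ R ≤ Nrm R`). -/
theorem suff_five [Fintype F] {R : Subgroup (GL (Fin 2 ⊕ Fin 2) F)} (hE : ECtx R) (hRf : R ≤ Cfsg.spGL 2 F)
    (e : Fin 4 → GL (Fin 2 ⊕ Fin 2) F) (he : IsFrame R e)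
    (hirr : Irreducible (Polynomial.cyclotomic 5 F))
    (x : GL (Fin 2 ⊕ Fin 2) F) (hx : x ∈ Cfsg.spGL 2 F) (hx5 : IsScal (x ^ 5)) (hxs : ¬ IsScal x) :
    ∃ g ∈ Cfsg.spGL 2 F, g⁻¹ * x * g ∈ Nrm R :=
  s6002m4_core hE.neg hRf (fun x hx hs => sp_scal x hx hs) (y0_exists hE hRf e he)
    (fun y y₀ hy hy₀ h1 h2 hne => five_conj (by simp) hirr (Cfsg.spGL 2 F) y y₀ hy hy₀ h1 h2 hne) x hx hx5 hxs

end Cfsg.Agent.Lib.Helper22.S6002
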