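import Mathlib
import Cfsg.Prelude.Def_Classical
import Cfsg.Agent.Lib.Helper1.S8U.Defs

set_option autoImplicit false

/-!
# Project S8U (designer helper1), row AFFSPEC (`aff_spec`): the core, written by helper11.
`s8uaffspec_core` is the statement of `aff_spec` with the statements of the rows AFF3 (`aff_range`), HD1 (`hd_one`), HD2 (`hd_two`),
TGALL (`tgt_all`) for the given `a b hab` as hypotheses.
-/

namespace Cfsg.Agent.Lib.Helper1.S8U

open Matrix Module Polynomial Cfsg.Agent.Lib.Helper16 Cfsg.Agent.Lib.Helper13.OTS Cfsg.Agent.Lib.Helper19.SO8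
  Cfsg.Agent.Lib.helper14.OrthInv

/-- the members of `T8 q` are positive (`q ≥ 2`) -/
theorem s8uaffspec_T8_pos (q : ℕ) (hq : 2 ≤ q) : ∀ N ∈ T8 q, 0 < N := by
  intro N hN
  have h2 : 4 ≤ q ^ 2 := by nlinarith
  have h3 : 8 ≤ q ^ 3 := by nlinarith [pow_succ q 2]
  have h4 : 16 ≤ q ^ 4 := by nlinarith [pow_succ q 3, pow_succ q 2]
  have e1 : 0 < q - 1 := by omega
  have e2 : 0 < q ^ 2 - 1 := by omega
  have e3 : 0 < q ^ 3 - 1 := by omega
  have e4 : 0 < q ^ 4 - 1 := by omega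
  unfold T8 at hN
  simp only [List.mem_cons, List.mem_nil_iff, or_false] at hN
  rcases hN with rfl | rfl | rfl | rfl | rfl | rfl | rfl | rfl | rfl | rfl | rfl | rfl <;> positivity

/-- an element of order `N ≠ 0` has a power of order `n` for every divisor `n` of `N` -/
theorem s8uaffspec_pow_order {G : Type*} [Group G] (x : G) (N n : ℕ) (hN : N ≠ 0) (hx : orderOf x = N)
    (hn : n ∣ N) : orderOf (x ^ (N / n)) = n := by
  obtain ⟨k, rfl⟩ := hn
  have hn0 : n ≠ 0 := fun e => hN (by rw [e, zero_mul])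
  have hk0 : k ≠ 0 := fun e => hN (by rw [e, mul_zero])
  have e1 : n * k / n = k := Nat.mul_div_cancel_left k (Nat.pos_of_ne_zero hn0)
  rw [e1, orderOf_pow_of_dvd hk0 (by rw [hx]; exact dvd_mul_left k n), hx,
    Nat.mul_div_cancel n (Nat.pos_of_ne_zero hk0)]

theorem s8uaffspec_core {F : Type*} [Field F] [Fintype F] [CharP F 2] (a b : F) (hab : Aniso a b)
    (hAFF3 : ∀ n : ℕ, n ∈ Set.range (orderOf : AffK (Hd a b hab) → ℕ) ↔
      (∃ g ∈ Hd a b hab, orderOf g = n) ∨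
        (∃ g ∈ Hd a b hab, 2 * orderOf g = n ∧ geoM g (orderOf g) ≠ 0))
    (hHD1 : ∀ g : GL MI8 F, g ∈ GO8 F a b → ∃ N ∈ T8 (Fintype.card F), orderOf g ∣ N)
    (hHD2 : ∀ g : GL MI8 F, g ∈ Hd a b hab → geoM g (orderOf g) ≠ 0 →
      ∃ N ∈ T8 (Fintype.card F), 2 * orderOf g ∣ N)
    (hTG : ∀ N ∈ T8 (Fintype.card F), N ∈ Set.range (orderOf : AffK (Hd a b hab) → ℕ))
    (n : ℕ) :
    n ∈ Set.range (orderOf : AffK (Hd a b hab) → ℕ) ↔ ∃ N ∈ T8 (Fintype.card F), n ∣ N := by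
  constructor
  · intro h
    rcases (hAFF3 n).mp h with ⟨g, hg, rfl⟩ | ⟨g, hg, rfl, hgeo⟩
    · exact hHD1 g (Hd_le a b hab hg)
    · exact hHD2 g hg hgeo
  · rintro ⟨N, hN, hn⟩
    obtain ⟨x, hx⟩ := hTG N hN
    have hq : 2 ≤ Fintype.card F := Fintype.one_lt_card
    have hN0 : N ≠ 0 := (s8uaffspec_T8_pos _ hq N hN).ne'
    exact ⟨x ^ (N / n), s8uaffspec_pow_order x N n hN0 hx hn⟩

end Cfsg.Agent.Lib.Helper1.S8U
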