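import Mathlib
import Cfsg.Prelude.Def_Classical
import Cfsg.Agent.Lib.Helper1.S8U.Defs
import Cfsg.Agent.Lib.Helper28.S8UAFF3
import Cfsg.Agent.Lib.helper15.S8UTGODD
import Cfsg.Agent.Lib.Helper29.S8UTGTWO
import Cfsg.Agent.Lib.Helper29.S8UTGFOUR
import Cfsg.Agent.Lib.Helper22.S8UTGEIGHT
import Cfsg.Agent.Lib.Helper22.SO8A2
import Cfsg.Agent.Lib.helper6.SO8SMINUS
import Cfsg.Agent.Lib.Helper16.SO8SUM
import Cfsg.Agent.Lib.helper15.SO8SPLUS
import Cfsg.Agent.Lib.helper7.SO8IMINUS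
import Cfsg.Agent.Lib.helper7.SO8IPLUS
import Cfsg.Agent.Lib.helper23.SO8ASMcore

set_option autoImplicit false

/-!
# S8U row TGALL (`tgt_all`), spare copy by helper11 (row held by helper2): `s8utgall_h11`.
-/

namespace Cfsg.Agent.Lib.Helper1.S8U

open Matrix Module Polynomial Cfsg.Agent.Lib.Helper16 Cfsg.Agent.Lib.Helper13.OTS Cfsg.Agent.Lib.Helper19.SO8
  Cfsg.Agent.Lib.helper14.OrthInv

/-- arithmetic for `q = 2 t`, `t ≥ 1` -/
theorem s8utgallh11_arith (q t : ℕ) (ht : 1 ≤ t) (hq : q = 2 * t) :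
    Odd (q ^ 4 + 1) ∧ Odd (q ^ 4 - 1) ∧ Odd ((q ^ 3 - 1) * (q + 1)) ∧ Odd ((q ^ 3 + 1) * (q - 1)) ∧
    Odd (q ^ 3 - 1) ∧ Odd (q ^ 3 + 1) ∧ Odd ((q ^ 2 + 1) * (q - 1)) ∧ Odd ((q ^ 2 + 1) * (q + 1)) ∧
    Odd (q ^ 2 + 1) ∧ Odd (q ^ 2 - 1) ∧ Odd (q - 1) ∧ Odd (q + 1) ∧
    Nat.lcm (q ^ 1 - 1) (q ^ 2 + 1) = (q ^ 2 + 1) * (q - 1) ∧
    Nat.lcm (q ^ 1 + 1) (q ^ 2 + 1) = (q ^ 2 + 1) * (q + 1) ∧
    Nat.lcm (q ^ 1 - 1) (q ^ 1 + 1) = q ^ 2 - 1 := by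
  subst hq
  obtain ⟨-, -, -, -, -, eA, -, eB, -, -, eC, -, -, -⟩ := so8asm_arith t ht
  have e2 : (2 * t) ^ 2 = 2 * (t * (2 * t)) := by ring
  have e3 : (2 * t) ^ 3 = 2 * (t * (2 * t) ^ 2) := by ring
  have e4 : (2 * t) ^ 4 = 2 * (t * (2 * t) ^ 3) := by ring
  have p2 : 1 ≤ t * (2 * t) := Nat.mul_pos (by omega) (by omega)
  have p3 : 1 ≤ t * (2 * t) ^ 2 := Nat.mul_pos (by omega) (by positivity)
  have p4 : 1 ≤ t * (2 * t) ^ 3 := Nat.mul_pos (by omega) (by positivity)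
  have o1m : Odd (2 * t - 1) := by rw [Nat.odd_iff]; omega
  have o1p : Odd (2 * t + 1) := by rw [Nat.odd_iff]; omega
  have o2m : Odd ((2 * t) ^ 2 - 1) := by rw [e2, Nat.odd_iff]; omega
  have o2p : Odd ((2 * t) ^ 2 + 1) := by rw [e2, Nat.odd_iff]; omega
  have o3m : Odd ((2 * t) ^ 3 - 1) := by rw [e3, Nat.odd_iff]; omega
  have o3p : Odd ((2 * t) ^ 3 + 1) := by rw [e3, Nat.odd_iff]; omega
  have o4m : Odd ((2 * t) ^ 4 - 1) := by rw [e4, Nat.odd_iff]; omega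
  have o4p : Odd ((2 * t) ^ 4 + 1) := by rw [e4, Nat.odd_iff]; omega
  refine ⟨o4p, o4m, o3m.mul o1p, o3p.mul o1m, o3m, o3p, o2p.mul o1m, o2p.mul o1p, o2p, o2m, o1m, o1p,
    ?_, ?_, ?_⟩
  · rw [pow_one, Nat.Coprime.lcm_eq_mul eA.symm, mul_comm]
  · rw [pow_one, Nat.Coprime.lcm_eq_mul eB.symm, mul_comm]
  · rw [pow_one, Nat.Coprime.lcm_eq_mul eC]
    have h1 : 1 ≤ 2 * t := by omega
    zify [h1, Nat.one_le_pow 2 (2 * t) (by omega)]
    ring

theorem s8utgallh11_left {F : Type*} [Field F] [Fintype F] [CharP F 2] (a b : F) (hab : Aniso a b) (N : ℕ)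
    (h : ∃ g ∈ Hd a b hab, orderOf g = N) : N ∈ Set.range (orderOf : AffK (Hd a b hab) → ℕ) :=
  (aff_range (Hd a b hab) N).mpr (Or.inl h)

theorem s8utgallh11_right {F : Type*} [Field F] [Fintype F] [CharP F 2] (a b : F) (hab : Aniso a b) (M N : ℕ)
    (hN : N = 2 * M)
    (h : ∃ g ∈ Hd a b hab, orderOf g = M ∧ geoM g M ≠ 0) : N ∈ Set.range (orderOf : AffK (Hd a b hab) → ℕ) := by
  obtain ⟨g, hg, ho, hgeo⟩ := h
  refine (aff_range (Hd a b hab) N).mpr (Or.inr ⟨g, hg, ?_, ?_⟩)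
  · rw [ho, hN]
  · rw [ho]; exact hgeo

/-- the statement of `tgt_all` -/
theorem s8utgall_h11 {F : Type*} [Field F] [Fintype F] [CharP F 2] (a b : F) (hab : Aniso a b) :
    ∀ N ∈ T8 (Fintype.card F), N ∈ Set.range (orderOf : AffK (Hd a b hab) → ℕ) := by
  intro N hN
  obtain ⟨-, c, hc⟩ := aniso_facts a b hab
  obtain ⟨t, ht, hq⟩ := so8asm_even_card (F := F)
  obtain ⟨o4p, o4m, o31, o13, o3m, o3p, o21m, o21p, o2p, o2m, o1m, o1p, l1, l2, l3⟩ :=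
    s8utgallh11_arith (Fintype.card F) t ht hq
  have hN' := hN
  simp only [T8, List.mem_cons, List.not_mem_nil, or_false] at hN'
  have sp1 : OReal F 1 1 (Fintype.card F ^ 1 - 1) := oreal_splus 1 le_rfl
  have sp3 : OReal F 3 1 (Fintype.card F ^ 3 - 1) := oreal_splus 3 (by norm_num)
  have sm1 : OReal F 1 (-1) (Fintype.card F ^ 1 + 1) := oreal_sminus 1 le_rfl c hc
  have sm2 : OReal F 2 (-1) (Fintype.card F ^ 2 + 1) := oreal_sminus 2 (by norm_num) c hc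
  have sm3 : OReal F 3 (-1) (Fintype.card F ^ 3 + 1) := oreal_sminus 3 (by norm_num) c hc
  have ip : OReal F 1 1 2 := oreal_iplus
  have im : OReal F 1 (-1) 2 := oreal_iminus c hc
  rcases hN' with h | h | h | h | h | h | h | h | h | h | h | h
  · exact s8utgallh11_left a b hab N (tgt_odd a b hab N hN (h ▸ o4p))
  · exact s8utgallh11_left a b hab N (tgt_odd a b hab N hN (h ▸ o4m))
  · exact s8utgallh11_left a b hab N (tgt_odd a b hab N hN (h ▸ o31))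
  · exact s8utgallh11_left a b hab N (tgt_odd a b hab N hN (h ▸ o13))
  · exact s8utgallh11_right a b hab _ N h (tgt_two a b hab _ o3m 1 (Or.inl rfl) sp3)
  · exact s8utgallh11_right a b hab _ N h (tgt_two a b hab _ o3p (-1) (Or.inr rfl) sm3)
  · have h7 : OReal F 3 (-1) ((Fintype.card F ^ 2 + 1) * (Fintype.card F - 1)) :=
      so8asm_cast (oreal_sum 1 2 le_rfl 1 (-1) _ _ sp1 sm2) (by norm_num) (by norm_num) l1
    exact s8utgallh11_right a b hab _ N h (tgt_two a b hab _ o21m (-1) (Or.inr rfl) h7)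
  · have h8 : OReal F 3 1 ((Fintype.card F ^ 2 + 1) * (Fintype.card F + 1)) :=
      so8asm_cast (oreal_sum 1 2 le_rfl (-1) (-1) _ _ sm1 sm2) (by norm_num) (by norm_num) l2
    exact s8utgallh11_right a b hab _ N h (tgt_two a b hab _ o21p 1 (Or.inl rfl) h8)
  · refine s8utgallh11_right a b hab (2 * (Fintype.card F ^ 2 + 1)) N (by rw [h]; ring)
      (tgt_four a b hab _ o2p sm2)
  · have h10 : OReal F 2 (-1) (Fintype.card F ^ 2 - 1) :=
      so8asm_cast (oreal_sum 1 1 le_rfl 1 (-1) _ _ sp1 sm1) (by norm_num) (by norm_num) l3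
    refine s8utgallh11_right a b hab (2 * (Fintype.card F ^ 2 - 1)) N (by rw [h]; ring)
      (tgt_four a b hab _ o2m h10)
  · have h11 : OReal F 1 1 (Fintype.card F - 1) := so8asm_cast sp1 rfl rfl (by rw [pow_one])
    refine s8utgallh11_right a b hab (4 * (Fintype.card F - 1)) N (by rw [h]; ring)
      (tgt_eight a b hab _ o1m 1 (Or.inl rfl) h11 im)
  · have h12 : OReal F 1 (-1) (Fintype.card F + 1) := so8asm_cast sm1 rfl rfl (by rw [pow_one])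
    have ip' : OReal F 1 (-(-1)) 2 := so8asm_cast ip rfl (by norm_num) rfl
    refine s8utgallh11_right a b hab (4 * (Fintype.card F + 1)) N (by rw [h]; ring)
      (tgt_eight a b hab _ o1p (-1) (Or.inr rfl) h12 ip')

end Cfsg.Agent.Lib.Helper1.S8U
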