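import Mathlib
import Cfsg.Agent.Lib.Helper19.SO8.Defs

set_option autoImplicit false

/-!
# Project SO8 (designer helper19), row C2 (`pow_eq_one_of_dvd`), written by helper11.
Characteristic 2: if `charpoly A ∣ (X ^ m - 1) ^ (2 ^ t)` then `A ^ (m * 2 ^ t) = 1` (Cayley-Hamilton and the Frobenius).
-/

namespace Cfsg.Agent.Lib.Helper19.SO8

open Polynomial

/-- in a ring where `x + x = 0` for all `x`: `(x - 1) ^ (2 ^ t) = x ^ (2 ^ t) - 1` -/
theorem so8c2_sub_one_pow {R : Type*} [Ring R] (h2 : ∀ x : R, x + x = 0) (x : R) (t : ℕ) :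
    (x - 1) ^ (2 ^ t) = x ^ (2 ^ t) - 1 := by
  induction t with
  | zero => simp
  | succ t ih =>
    rw [pow_succ, pow_mul, ih, pow_mul]
    set y := x ^ 2 ^ t with hy
    have e1 : (y - 1) ^ 2 = y ^ 2 - (y + y) + 1 := by noncomm_ring
    have e2 : (1 : R) = -1 := eq_neg_of_add_eq_zero_left (h2 1)
    rw [e1, h2 y, sub_zero]
    calc y ^ 2 + 1 = y ^ 2 + (-1) := by rw [← e2]
      _ = y ^ 2 - 1 := by rw [sub_eq_add_neg]

theorem pow_eq_one_of_dvd {F : Type*} [Field F] [CharP F 2] {ι : Type} [Fintype ι] [DecidableEq ι]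
    (A : Matrix ι ι F) (m t : ℕ) (h : A.charpoly ∣ (X ^ m - 1 : F[X]) ^ (2 ^ t)) :
    A ^ (m * 2 ^ t) = 1 := by
  have h0 : aeval A ((X ^ m - 1 : F[X]) ^ (2 ^ t)) = 0 := by
    obtain ⟨g, hg⟩ := h
    rw [hg, map_mul, Matrix.aeval_self_charpoly, zero_mul]
  have h1 : (A ^ m - 1) ^ (2 ^ t) = 0 := by
    simpa using h0
  have h2 : ∀ B : Matrix ι ι F, B + B = 0 := by
    intro B
    ext i j
    have : (B i j) + (B i j) = 0 := CharTwo.add_self_eq_zero (B i j)
    simpa using this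
  rw [so8c2_sub_one_pow h2, ← pow_mul] at h1
  exact sub_eq_zero.mp h1

end Cfsg.Agent.Lib.Helper19.SO8
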