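import Mathlib
import Cfsg.Agent.Lib.Helper19.SO8.Defs

set_option autoImplicit false

/-!
# Project SO8 (designer helper19), row C3 (`irr_dvd`), written by helper11.
An irreducible polynomial `f` over a finite field `F` with `f.coeff 0 ≠ 0` divides `X ^ (q ^ deg f - 1) - 1`.
-/

namespace Cfsg.Agent.Lib.Helper19.SO8

open Polynomial

theorem irr_dvd {F : Type*} [Field F] [Fintype F] (f : F[X]) (hf : Irreducible f) (h0 : f.coeff 0 ≠ 0) :
    f ∣ (X ^ (Fintype.card F ^ f.natDegree - 1) - 1 : F[X]) := by
  classical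
  have hcard : Fintype.card F = Nat.card F := (Nat.card_eq_fintype_card).symm
  have h1 : f ∣ (X ^ (Nat.card F ^ f.natDegree) - X : F[X]) :=
    (hf.natDegree_dvd_iff_dvd_X_pow_card_pow_sub_X (n := f.natDegree)).mp dvd_rfl
  have hpos : 1 ≤ Fintype.card F ^ f.natDegree := Nat.one_le_pow _ _ Fintype.card_pos
  have hfac : (X ^ (Nat.card F ^ f.natDegree) - X : F[X]) =
      X * (X ^ (Fintype.card F ^ f.natDegree - 1) - 1) := by
    rw [← hcard]
    have : Fintype.card F ^ f.natDegree = (Fintype.card F ^ f.natDegree - 1) + 1 := by omega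
    conv_lhs => rw [this, pow_succ]
    ring
  rw [hfac] at h1
  have hprime : Prime f := hf.prime
  rcases hprime.dvd_or_dvd h1 with h | h
  · exfalso
    -- f ∣ X forces coeff 0 = 0
    obtain ⟨g, hg⟩ := h
    have : (X : F[X]).coeff 0 = (f * g).coeff 0 := by rw [← hg]
    rw [coeff_X_zero, mul_coeff_zero] at this
    -- f * g = X, so degrees: natDegree f ≤ 1
    have hg0 : g ≠ 0 := by
      rintro rfl
      simp at hg
    have hf0 : f ≠ 0 := hf.ne_zero
    have hdeg : f.natDegree + g.natDegree = 1 := by
      have := congrArg natDegree hg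
      rw [natDegree_X, natDegree_mul hf0 hg0] at this
      exact this.symm
    have hfd : 0 < f.natDegree := hf.natDegree_pos
    have hgd : g.natDegree = 0 := by omega
    have hgc : g.coeff 0 ≠ 0 := by
      rw [natDegree_eq_zero] at hgd
      obtain ⟨c, rfl⟩ := hgd
      rw [coeff_C_zero]
      rintro rfl
      exact hg0 (by simp)
    exact (mul_ne_zero h0 hgc) this.symm
  · exact h

end Cfsg.Agent.Lib.Helper19.SO8
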