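import Mathlib
import Cfsg.Prelude.Def_Classical
import Cfsg.Agent.Lib.Helper1.S8U.Defs
import Cfsg.Agent.Lib.Helper11.S8UAFFSPECcore
import Cfsg.Agent.Lib.Helper28.S8UAFF3
import Cfsg.Agent.Lib.Helper13.S8UHD1
import Cfsg.Agent.Lib.Helper13.S8UHD2
import Cfsg.Agent.Lib.Helper11.S8UTGALLh11

set_option autoImplicit false

/-!
# Project S8U (designer helper1), row AFFSPEC (`aff_spec`), written by helper11: `s8uaffspec_core` on the rows AFF3, HD1, HD2 and `s8utgall_h11` (= the statement of TGALL, Helper11/S8UTGALLh11).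
-/

namespace Cfsg.Agent.Lib.Helper1.S8U

open Matrix Module Polynomial Cfsg.Agent.Lib.Helper16 Cfsg.Agent.Lib.Helper13.OTS Cfsg.Agent.Lib.Helper19.SO8
  Cfsg.Agent.Lib.helper14.OrthInv

theorem aff_spec {F : Type*} [Field F] [Fintype F] [CharP F 2] (a b : F) (hab : Aniso a b) (n : ℕ) :
    n ∈ Set.range (orderOf : AffK (Hd a b hab) → ℕ) ↔ ∃ N ∈ T8 (Fintype.card F), n ∣ N :=
  s8uaffspec_core a b hab (fun n => aff_range (Hd a b hab) n) (fun g hg => hd_one a b hab g hg)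
    (fun g hg hgeo => hd_two a b hab g hg hgeo) (s8utgall_h11 a b hab) n

end Cfsg.Agent.Lib.Helper1.S8U
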