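import Mathlib
import Cfsg.Prelude.Def_Classical
import Cfsg.Agent.Lib.Helper1.S8U.Defs
import Cfsg.Agent.Lib.Helper16.OM33

set_option autoImplicit false

/-!
# Project S8U (designer helper1), row ANISO (`aniso_ex`), written by helper11.
-/

namespace Cfsg.Agent.Lib.Helper1.S8U

theorem aniso_ex {F : Type*} [Field F] [Fintype F] : ∃ a b : F, Aniso a b := by
  obtain ⟨ζ₀, hζ₀⟩ := Cfsg.Agent.Lib.Helper16.OM.exists_irred_quadratic (F₀ := F)
  exact ⟨1, ζ₀, Cfsg.Agent.Lib.Helper16.OSemi.aniso_of_irred ζ₀ hζ₀⟩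

end Cfsg.Agent.Lib.Helper1.S8U
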