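import Mathlib
import Cfsg.Prelude.Def_Classical
import Cfsg.Agent.Lib.Helper1.S8U.Defs
import Cfsg.Agent.Lib.Helper16.OM33
import Cfsg.Agent.Lib.helper4.OTSSTDP
import Cfsg.Agent.Lib.helper2.SO8A1
import Cfsg.Agent.Lib.Helper25.SO8UPPER
import Cfsg.Agent.Lib.helper23.SO8ASM
import Cfsg.Agent.Lib.Helper20.SO8B
import Cfsg.Agent.Lib.helper15.SO8XFER

set_option autoImplicit false

/-!
# Project S8U (designer helper1), row SPEC (`psp_spec`), written by helper11.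
The spectrum of `PSp 4 F` (`q` even) is the set of divisors of the twelve numbers of `T8 q`: assembly of the SO8 rows
`psp_range`, `sp_upper`, `oreal_asm`, `oreal_xfer`, `o_embed`.
-/

namespace Cfsg.Agent.Lib.Helper1.S8U

open Matrix Module Polynomial Cfsg.Agent.Lib.Helper16 Cfsg.Agent.Lib.Helper13.OTS Cfsg.Agent.Lib.Helper19.SO8

/-- an element of order `N` has a power of order `n` for every divisor `n` of `N` (`N ≠ 0`) -/
theorem s8uspec_pow_order {G : Type*} [Group G] (x : G) (N n : ℕ) (hN : N ≠ 0) (hx : orderOf x = N)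
    (hn : n ∣ N) : orderOf (x ^ (N / n)) = n := by
  obtain ⟨k, rfl⟩ := hn
  have hn0 : n ≠ 0 := fun e => hN (by rw [e, zero_mul])
  have hk0 : k ≠ 0 := fun e => hN (by rw [e, mul_zero])
  have e1 : n * k / n = k := Nat.mul_div_cancel_left k (Nat.pos_of_ne_zero hn0)
  rw [e1, orderOf_pow_of_dvd hk0 (by rw [hx]; exact dvd_mul_left k n), hx,
    Nat.mul_div_cancel n (Nat.pos_of_ne_zero hk0)]

theorem psp_spec {F : Type*} [Field F] [Fintype F] [CharP F 2] (n : ℕ) :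
    n ∈ Set.range (orderOf : Cfsg.PSp 4 F → ℕ) ↔ ∃ N ∈ T8 (Fintype.card F), n ∣ N := by
  rw [psp_range 4 (by norm_num)]
  constructor
  · rintro ⟨x, rfl⟩
    exact sp_upper x
  · rintro ⟨N, hN, hn⟩
    obtain ⟨ζ₀, hζ₀⟩ := Cfsg.Agent.Lib.Helper16.OM.exists_irred_quadratic (F₀ := F)
    have hc := Cfsg.Agent.Lib.Helper16.OSemi.aniso_of_irred ζ₀ hζ₀
    have h1 : OReal F 4 (-1) N := oreal_asm ζ₀ hc N hN
    obtain ⟨g, hg⟩ := oreal_xfer (qfMinus 3 F 1 ζ₀) 4 (-1)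
      (otsstdp_minus 3 1 ζ₀ hc) N h1
    obtain ⟨φ, hφ⟩ := o_embed (F := F) 3 1 ζ₀ one_ne_zero
    have hN0 : N ≠ 0 := by
      rw [← hg]
      exact (orderOf_pos g).ne'
    have hord : orderOf (φ g) = N := by
      rw [orderOf_injective φ hφ g]
      exact hg
    exact ⟨(φ g) ^ (N / n), s8uspec_pow_order (φ g) N n hN0 hord hn⟩

end Cfsg.Agent.Lib.Helper1.S8U
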