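import Mathlib
import Cfsg.Agent.Lib.helper2.S91Defs
import Cfsg.Agent.Lib.helper23.SylowQuot

set_option autoImplicit false

/-! Project S91, piece QUOT: passing to the quotient by a normal `p`-subgroup. -/

namespace Cfsg.Agent.Lib.helper2.S91
open Subgroup

universe u

/-- `g` has `p`-power order iff its image modulo a normal `p`-subgroup has. -/
theorem quot_pel_iff {G : Type u} [Group G] [Finite G] (p : ℕ) [Fact p.Prime] (N : Subgroup G)
    [N.Normal] (hN : IsPGroup p N) (g : G) :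
    (∃ k : ℕ, orderOf (QuotientGroup.mk' N g) = p ^ k) ↔ ∃ k : ℕ, orderOf g = p ^ k := by
  constructor
  · rintro ⟨k, hk⟩
    have h1 : (QuotientGroup.mk' N g) ^ p ^ k = 1 := by rw [← hk]; exact pow_orderOf_eq_one _
    have h2 : g ^ p ^ k ∈ N := by
      rw [← QuotientGroup.eq_one_iff, ← h1]; rfl
    obtain ⟨j, hj⟩ := hN ⟨g ^ p ^ k, h2⟩
    have h3 : (g ^ p ^ k) ^ p ^ j = 1 := by
      have := congrArg Subtype.val hj
      simpa using this
    have h4 : g ^ p ^ (k + j) = 1 := by rw [pow_add, pow_mul]; exact h3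
    exact (Nat.dvd_prime_pow (Fact.out)).mp (orderOf_dvd_of_pow_eq_one h4) |>.imp fun _ h => h.2
  · rintro ⟨k, hk⟩
    have h1 : (QuotientGroup.mk' N g) ^ p ^ k = 1 := by
      rw [← map_pow, ← hk, pow_orderOf_eq_one, map_one]
    exact (Nat.dvd_prime_pow (Fact.out)).mp (orderOf_dvd_of_pow_eq_one h1) |>.imp fun _ h => h.2

/-- the number of `p`-elements of `G` is `#N` times that of `G ⧸ N`. -/
theorem quot_card_pel {G : Type u} [Group G] [Finite G] (p : ℕ) [Fact p.Prime] (N : Subgroup G)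
    [N.Normal] (hN : IsPGroup p N) :
    Nat.card {g : G // ∃ k : ℕ, orderOf g = p ^ k} =
      Nat.card N * Nat.card {g : G ⧸ N // ∃ k : ℕ, orderOf g = p ^ k} := by
  have h := QuotientGroup.card_preimage_mk N {x : G ⧸ N | ∃ k : ℕ, orderOf x = p ^ k}
  refine Eq.trans ?_ h
  apply Nat.card_congr
  apply Equiv.subtypeEquivRight
  intro g
  exact (quot_pel_iff p N hN g).symm

/-- S91-QUOT -/
theorem quot_step {G : Type u} [Group G] [Finite G] (p : ℕ) [Fact p.Prime] (N : Subgroup G)
    [N.Normal] (hN : IsPGroup p N) (P : Sylow p G)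
    (h : ∀ Q : Sylow p (G ⧸ N), Nat.card ↥(Q : Subgroup (G ⧸ N)) ^ p *
        Nat.card (Sylow p (G ⧸ N)) ^ (p - 1) ≤
        Nat.card {g : G ⧸ N // ∃ k : ℕ, orderOf g = p ^ k} ^ p) :
    Nat.card ↥(P : Subgroup G) ^ p * Nat.card (Sylow p G) ^ (p - 1) ≤
      Nat.card {g : G // ∃ k : ℕ, orderOf g = p ^ k} ^ p := by
  have hNP : N ≤ (P : Subgroup G) := by
    obtain ⟨Q, hQ⟩ := hN.exists_le_sylow
    obtain ⟨g, hg⟩ := MulAction.exists_smul_eq G Q P
    intro n hn
    have h1 : n ∈ ((g • Q : Sylow p G) : Subgroup G) := by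
      rw [Sylow.smul_def, Sylow.pointwise_smul_def,
        Cfsg.Agent.Lib.helper23.mem_conj_smul_iff']
      apply hQ
      have := (inferInstance : N.Normal).conj_mem n hn g⁻¹
      simpa using this
    rw [hg] at h1; exact h1
  have hs := QuotientGroup.mk'_surjective N
  have hQ := h (Sylow.mapSurjective hs P)
  have hcardQ : Nat.card ↥(P : Subgroup G) =
      Nat.card N * Nat.card ↥((Sylow.mapSurjective hs P : Sylow p (G ⧸ N)) : Subgroup (G ⧸ N)) := by
    have e1 : ((Sylow.mapSurjective hs P : Sylow p (G ⧸ N)) : Subgroup (G ⧸ N)) =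
        (P : Subgroup G).map (QuotientGroup.mk' N) := rfl
    rw [e1]
    have h2 := QuotientGroup.card_preimage_mk N
      (((P : Subgroup G).map (QuotientGroup.mk' N) : Subgroup (G ⧸ N)) : Set (G ⧸ N))
    have h3 : ((P : Subgroup G).map (QuotientGroup.mk' N)).comap (QuotientGroup.mk' N) =
        (P : Subgroup G) := by
      rw [Subgroup.comap_map_eq, QuotientGroup.ker_mk']
      exact sup_eq_left.mpr hNP
    refine Eq.trans ?_ h2
    apply Nat.card_congr
    apply Equiv.subtypeEquivRight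
    intro g
    have h4 : g ∈ ((P : Subgroup G).map (QuotientGroup.mk' N)).comap (QuotientGroup.mk' N) ↔
        g ∈ (P : Subgroup G) := by rw [h3]
    exact h4.symm
  have hn : Nat.card (Sylow p G) = Nat.card (Sylow p (G ⧸ N)) := by
    have h1 := Cfsg.Agent.Lib.helper23.card_sylow_eq_mul N P
    have h2 : (P : Subgroup G) ⊔ N = (P : Subgroup G) := sup_eq_left.mpr hNP
    rw [h2] at h1
    have h3 : (Subgroup.normalizer ((P : Subgroup G) : Set G)).relIndex (P : Subgroup G) = 1 :=
      Subgroup.relIndex_eq_one.mpr Subgroup.le_normalizer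
    rw [h3, mul_one] at h1
    exact h1
  rw [quot_card_pel p N hN, hcardQ, hn, mul_pow, mul_pow, mul_assoc]
  exact Nat.mul_le_mul_left _ hQ

end Cfsg.Agent.Lib.helper2.S91
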