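import Mathlib
import Cfsg.Agent.Lib.helper2.S91Defs
import Cfsg.Agent.S0023
import Cfsg.Agent.S0024
import Cfsg.Agent.S0025

set_option autoImplicit false

/-! Project S91, piece SYL (part a): `C_Q(S)` is a Sylow subgroup of `C_K(S)` for an invariant
Sylow subgroup `Q` of `K`. -/

namespace Cfsg.Agent.Lib.helper2.S91
open Subgroup

universe u

/-- order of `Q ⊓ C(S)` for an `R`-invariant Sylow `q`-subgroup `Q` of `K`, `S ⊆ R`. -/
theorem syl_card_inf_centralizer {G : Type u} [Group G] [Finite G] (p : ℕ) [Fact p.Prime]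
    (K R : Subgroup G) (hK : (Nat.card K).Coprime p) (hR : IsPGroup p R)
    (hRK : R ≤ normalizer (K : Set G)) (q : ℕ) [Fact q.Prime] (Q : Sylow q K)
    (hQ : R ≤ normalizer ((Q : Subgroup K).map K.subtype : Set G)) (S : Set G)
    (hS : S ⊆ (R : Set G)) :
    Nat.card ↥((Q : Subgroup K).map K.subtype ⊓ centralizer S) =
      q ^ (Nat.card ↥(K ⊓ centralizer S)).factorization q := by
  classical
  set A : Subgroup G := closure S with hA
  have hAR : A ≤ R := (closure_le R).mpr hS
  have hcent : centralizer S = centralizer (A : Set G) := by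
    rw [hA, Subgroup.centralizer_closure]
  have hAp : IsPGroup p A := hR.to_le hAR
  have hAK : A ≤ normalizer (K : Set G) := hAR.trans hRK
  have hcop : (Nat.card A).Coprime (Nat.card K) := by
    obtain ⟨n, hn⟩ := IsPGroup.iff_card.mp hAp
    rw [hn]
    exact (Nat.Coprime.pow_left n hK.symm)
  have hsolv : Group.IsSolvable A ∨ Group.IsSolvable K := by
    left
    have := hAp.isNilpotent
    infer_instance
  set C : Subgroup G := K ⊓ centralizer S with hC
  -- a Sylow q-subgroup of C
  obtain ⟨T⟩ : Nonempty (Sylow q C) := inferInstance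
  set T' : Subgroup G := (T : Subgroup C).map C.subtype with hT'
  have hT'C : T' ≤ C := by
    rintro _ ⟨t, _, rfl⟩; exact t.2
  have hT'card : Nat.card T' = q ^ (Nat.card C).factorization q := by
    rw [hT', Subgroup.card_map_of_injective C.subtype_injective, Sylow.card_eq_multiplicity]
  have hT'q : IsPGroup q T' := T.isPGroup'.map C.subtype
  have hT'A : A ≤ normalizer (T' : Set G) := by
    intro a ha
    rw [Subgroup.mem_normalizer_iff]
    intro t
    have key : ∀ t ∈ T', a * t * a⁻¹ = t := by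
      intro t ht
      have h1 : t ∈ centralizer (A : Set G) := by rw [← hcent]; exact (hT'C ht).2
      have := h1 a ha
      rw [this]; group
    constructor
    · intro ht; rw [key t ht]; exact ht
    · intro ht
      have h2 := key _ ht
      have h3 : t = a⁻¹ * (a * t * a⁻¹) * a := by group
      have h4 : a⁻¹ * (a * t * a⁻¹) * a = a * t * a⁻¹ := by
        have h1 : (a * t * a⁻¹) ∈ centralizer (A : Set G) := by rw [← hcent]; exact (hT'C ht).2
        have := h1 a ha
        calc a⁻¹ * (a * t * a⁻¹) * a = a⁻¹ * ((a * t * a⁻¹) * a) := by group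
          _ = a⁻¹ * (a * (a * t * a⁻¹)) := by rw [this]
          _ = a * t * a⁻¹ := by group
      rw [h3, h4]; exact ht
  obtain ⟨P', hTP', hP'A⟩ := Cfsg.Agent.S0025.result A K hAK hcop hsolv q T' (hT'C.trans inf_le_left)
    hT'q hT'A
  obtain ⟨c, hcA, hcQ⟩ := Cfsg.Agent.S0024.result A K hAK hcop hsolv q Q P' (hAR.trans hQ) hP'A
  set D : Subgroup G := (Q : Subgroup K).map K.subtype ⊓ centralizer S with hD
  have hDC : D ≤ C := by
    intro d hd
    refine ⟨?_, hd.2⟩
    obtain ⟨κ, _, rfl⟩ := hd.1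
    exact κ.2
  have hDq : IsPGroup q D := (Q.isPGroup'.map K.subtype).to_le inf_le_left
  obtain ⟨j, hj⟩ := IsPGroup.iff_card.mp hDq
  have hCne : Nat.card C ≠ 0 := Nat.card_pos.ne'
  have hj1 : j ≤ (Nat.card C).factorization q := by
    have h1 : q ^ j ∣ Nat.card C := by rw [← hj]; exact Subgroup.card_dvd_of_le hDC
    exact (Nat.Prime.pow_dvd_iff_le_factorization Fact.out hCne).mp h1
  -- the injection `t ↦ c⁻¹ t c` from `T'` to `D`
  have hmem : ∀ t ∈ T', (c : G)⁻¹ * t * (c : G) ∈ D := by
    intro t ht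
    constructor
    · have h1 : t ∈ (P' : Subgroup K).map K.subtype := hTP' ht
      obtain ⟨κ, hκ, rfl⟩ := h1
      have h2 : κ ∈ ((MulAut.conj c • Q : Sylow q K) : Subgroup K) := by rw [hcQ]; exact hκ
      rw [Sylow.pointwise_smul_def, Subgroup.mem_pointwise_smul_iff_inv_smul_mem] at h2
      have h3 : c⁻¹ * κ * c ∈ (Q : Subgroup K) := by
        simpa [MulAut.smul_def] using h2
      exact ⟨c⁻¹ * κ * c, h3, by simp⟩
    · rw [hcent]
      intro a ha
      have h1 : t ∈ centralizer (A : Set G) := by rw [← hcent]; exact (hT'C ht).2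
      have e1 := h1 a ha
      have e2 := hcA a ha
      have e3 : a * (c : G)⁻¹ = (c : G)⁻¹ * a := by
        calc a * (c : G)⁻¹ = (c : G)⁻¹ * ((c : G) * a) * (c : G)⁻¹ := by group
          _ = (c : G)⁻¹ * (a * (c : G)) * (c : G)⁻¹ := by rw [e2]
          _ = (c : G)⁻¹ * a := by group
      calc a * ((c : G)⁻¹ * t * (c : G)) = (a * (c : G)⁻¹) * t * (c : G) := by group
        _ = (c : G)⁻¹ * (a * t) * (c : G) := by rw [e3]; group
        _ = (c : G)⁻¹ * (t * a) * (c : G) := by rw [e1]
        _ = (c : G)⁻¹ * t * (a * (c : G)) := by group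
        _ = (c : G)⁻¹ * t * ((c : G) * a) := by rw [e2]
        _ = (c : G)⁻¹ * t * (c : G) * a := by group
  have hle : Nat.card T' ≤ Nat.card D := by
    apply Nat.card_le_card_of_injective (fun t : T' => (⟨(c : G)⁻¹ * t * (c : G), hmem t t.2⟩ : D))
    intro t1 t2 h12
    have := congrArg Subtype.val h12
    simp only [mul_left_inj, mul_right_inj] at this
    exact Subtype.ext this
  rw [hT'card, hj] at hle
  have hj2 : (Nat.card C).factorization q ≤ j :=
    (Nat.pow_le_pow_iff_right (Fact.out : q.Prime).one_lt).mp hle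
  rw [hj, le_antisymm hj1 hj2]

end Cfsg.Agent.Lib.helper2.S91
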