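import Mathlib
import Cfsg.Agent.Lib.helper2.S91Defs
import Cfsg.Agent.Lib.Helper11.S91SYLa

set_option autoImplicit false

/-! Project S91, piece SYL (part b): `PIneq` for a `p'`-group `K` from `PIneq` for its
invariant Sylow subgroups. -/

namespace Cfsg.Agent.Lib.helper2.S91
open Subgroup

universe u

theorem syl_nat_eq_prod_primeFactors_of_dvd {n N : ℕ} (hN : N ≠ 0) (h : n ∣ N) :
    n = ∏ q ∈ N.primeFactors, q ^ n.factorization q := by
  have hn : n ≠ 0 := fun h0 => hN (by rw [h0] at h; exact Nat.eq_zero_of_zero_dvd h)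
  conv_lhs => rw [← Nat.prod_factorization_pow_eq_self hn]
  apply Finsupp.prod_of_support_subset
  · rw [Nat.support_factorization]; exact Nat.primeFactors_mono h hN
  · intro i _; simp

theorem syl_centralizer_union {G : Type u} [Group G] (S T : Set G) :
    centralizer (S ∪ T) = centralizer S ⊓ centralizer T := by
  ext g
  simp only [mem_centralizer_iff, Set.mem_union, mem_inf]
  constructor
  · intro h; exact ⟨fun s hs => h s (Or.inl hs), fun t ht => h t (Or.inr ht)⟩
  · rintro ⟨h1, h2⟩ s (hs | hs)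
    · exact h1 s hs
    · exact h2 s hs

/-- existence of an `R`-invariant Sylow `q`-subgroup of `K` with the fixed point property. -/
theorem syl_exists_invariant {G : Type u} [Group G] [Finite G] (p : ℕ) [Fact p.Prime]
    (K R : Subgroup G) (hK : (Nat.card K).Coprime p) (hR : IsPGroup p R)
    (hRK : R ≤ normalizer (K : Set G)) (q : ℕ) (hq : q.Prime) :
    ∃ Q : Subgroup G, Q ≤ K ∧ IsPGroup q Q ∧ R ≤ normalizer (Q : Set G) ∧
      Nat.card Q = q ^ (Nat.card K).factorization q ∧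
      ∀ S : Set G, S ⊆ (R : Set G) →
        Nat.card ↥(Q ⊓ centralizer S) = q ^ (Nat.card ↥(K ⊓ centralizer S)).factorization q := by
  have : Fact q.Prime := ⟨hq⟩
  have hcop : (Nat.card R).Coprime (Nat.card K) := by
    obtain ⟨n, hn⟩ := IsPGroup.iff_card.mp hR
    rw [hn]
    exact (Nat.Coprime.pow_left n hK.symm)
  have hsolv : Group.IsSolvable R ∨ Group.IsSolvable K := by
    left
    have := hR.isNilpotent
    infer_instance
  obtain ⟨Q, hQ⟩ := Cfsg.Agent.S0023.result R K hRK hcop hsolv q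
  refine ⟨(Q : Subgroup K).map K.subtype, ?_, Q.isPGroup'.map K.subtype, hQ, ?_, ?_⟩
  · rintro _ ⟨κ, _, rfl⟩; exact κ.2
  · rw [Subgroup.card_map_of_injective K.subtype_injective, Sylow.card_eq_multiplicity]
  · intro S hS
    exact syl_card_inf_centralizer p K R hK hR hRK q Q hQ S hS

theorem syl_prod_ineq {ι κ : Type*} [Fintype ι] (PF : Finset κ) (p s : ℕ) (a : κ → ι → ℕ)
    (b c d : κ → ℕ)
    (h : ∀ q ∈ PF, (∏ u, a q u) ^ p * b q ^ s ≤ c q ^ s * d q ^ (p * s)) :
    (∏ u, ∏ q ∈ PF, a q u) ^ p * (∏ q ∈ PF, b q) ^ s ≤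
      (∏ q ∈ PF, c q) ^ s * (∏ q ∈ PF, d q) ^ (p * s) := by
  rw [Finset.prod_comm, ← Finset.prod_pow, ← Finset.prod_pow, ← Finset.prod_pow, ← Finset.prod_pow,
    ← Finset.prod_mul_distrib, ← Finset.prod_mul_distrib]
  apply Finset.prod_le_prod
  · intro q _; exact Nat.zero_le _
  · exact h

/-- S91-SYL, relative to the `q`-group case. -/
theorem pineq_of_qgroup {G : Type u} [Group G] [Finite G] (p : ℕ) [Fact p.Prime]
    (K R P0 : Subgroup G) [Fintype ↥P0] (hK : (Nat.card K).Coprime p) (hR : IsPGroup p R)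
    (hRK : R ≤ normalizer (K : Set G)) (hP0R : P0 ≤ R)
    (x : G) (hx : x ∈ R)
    (hqg : ∀ (q : ℕ) (Q : Subgroup G), q.Prime → IsPGroup q Q → (Nat.card Q).Coprime p →
      R ≤ normalizer (Q : Set G) → PIneq p Q P0 x) : PIneq p K P0 x := by
  classical
  have hex := syl_exists_invariant p K R hK hR hRK
  choose! Qf hQK hQq hQR hQc hQS using hex
  have hNne : Nat.card K ≠ 0 := Nat.card_pos.ne'
  obtain ⟨PF, hPF⟩ : ∃ PF : Finset ℕ, PF = (Nat.card K).primeFactors := ⟨_, rfl⟩
  have hprime : ∀ q ∈ PF, q.Prime := fun q hq => by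
    rw [hPF] at hq; exact Nat.prime_of_mem_primeFactors hq
  have hprod : ∀ S : Set G, S ⊆ (R : Set G) →
      Nat.card ↥(K ⊓ centralizer S) = ∏ q ∈ PF, Nat.card ↥(Qf q ⊓ centralizer S) := by
    intro S hS
    have hdvd : Nat.card ↥(K ⊓ centralizer S) ∣ Nat.card K := Subgroup.card_dvd_of_le inf_le_left
    conv_lhs => rw [syl_nat_eq_prod_primeFactors_of_dvd hNne hdvd]
    rw [← hPF]
    apply Finset.prod_congr rfl
    intro q hq
    exact (hQS q (hprime q hq) S hS).symm
  have hprodK : Nat.card K = ∏ q ∈ PF, Nat.card ↥(Qf q) := by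
    conv_lhs => rw [syl_nat_eq_prod_primeFactors_of_dvd hNne (dvd_refl (Nat.card K))]
    rw [← hPF]
    apply Finset.prod_congr rfl
    intro q hq
    exact (hQc q (hprime q hq)).symm
  have h1 : ∀ u : ↥P0, Nat.card ↥(K ⊓ centralizer {x * (u : G)}) =
      ∏ q ∈ PF, Nat.card ↥(Qf q ⊓ centralizer {x * (u : G)}) := by
    intro u
    apply hprod
    intro y hy
    rw [Set.mem_singleton_iff] at hy
    rw [hy]
    exact R.mul_mem hx (hP0R u.2)
  have h2 : Nat.card ↥(K ⊓ centralizer (P0 : Set G)) =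
      ∏ q ∈ PF, Nat.card ↥(Qf q ⊓ centralizer (P0 : Set G)) :=
    hprod _ hP0R
  have h4 : Nat.card ↥(K ⊓ centralizer {x} ⊓ centralizer (P0 : Set G)) =
      ∏ q ∈ PF, Nat.card ↥(Qf q ⊓ centralizer {x} ⊓ centralizer (P0 : Set G)) := by
    have h := hprod ({x} ∪ (P0 : Set G)) (by
      intro y hy
      rcases hy with hy | hy
      · rw [Set.mem_singleton_iff] at hy; rw [hy]; exact hx
      · exact hP0R hy)
    rw [syl_centralizer_union, ← inf_assoc] at h
    rw [h]
    apply Finset.prod_congr rfl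
    intro q _
    rw [inf_assoc]
  unfold PIneq
  rw [h2, h4, hprodK]
  simp_rw [h1]
  apply syl_prod_ineq
  intro q hq
  have hqp := hprime q hq
  have hcop : (Nat.card ↥(Qf q)).Coprime p :=
    Nat.Coprime.coprime_dvd_left (Subgroup.card_dvd_of_le (hQK q hqp)) hK
  exact hqg q (Qf q) hqp (hQq q hqp) hcop (hQR q hqp)

end Cfsg.Agent.Lib.helper2.S91
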