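import Mathlib
import Cfsg.Agent.Lib.helper2.S91Defs
import Cfsg.Agent.Lib.Helper11.S91SYLb
import Cfsg.Agent.Lib.Helper1.S91QGb

set_option autoImplicit false

/-! Project S91, piece SYL: `PIneq` for a general `p'`-group `K`. -/

namespace Cfsg.Agent.Lib.helper2.S91
open Subgroup

universe u

/-- S91-SYL -/
theorem pineq {G : Type u} [Group G] [Finite G] (p : ℕ) [Fact p.Prime] (K R P0 : Subgroup G)
    [Fintype ↥P0] (hK : (Nat.card K).Coprime p) (hR : IsPGroup p R)
    (hRK : R ≤ normalizer (K : Set G)) (hP0R : P0 ≤ R) (hRP0 : R ≤ normalizer (P0 : Set G))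
    (x : G) (hx : x ∈ R) : PIneq p K P0 x :=
  pineq_of_qgroup p K R P0 hK hR hRK hP0R x hx (fun q Q hq hQq hQc hQR => by
    have : Fact q.Prime := ⟨hq⟩
    exact pineq_qgroup p Q R P0 q hQq hQc hR hQR hP0R hRP0 x hx)

end Cfsg.Agent.Lib.helper2.S91
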