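import Mathlib
import Cfsg.Agent.Lib.helper3.S983.TblDefs
import Cfsg.Agent.S0999
import Cfsg.Agent.S0997
import Cfsg.Agent.Lib.helper6.PSL2Index

/-!
# Project S983 (S0983), rows E1 and E2 (second copy by helper11, seat-prefixed names): numeric forms of S0999
(Brauer-Reynolds) and S0997 (Brauer-Tuan).
-/

set_option autoImplicit false
set_option linter.unusedVariables false
set_option linter.style.haveILetI false

namespace Cfsg.Agent.Lib.helper3.S983

/-- a non-commutative group is not cyclic -/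
theorem s983e12h11_not_cyclic {G : Type*} [Group G] (hG : ¬ IsMulCommutative G) : ¬ IsCyclic G := by
  intro hc
  exact hG hc.isMulCommutative

/-- `|PSL_2(F)|` for `|F| = p` odd -/
theorem s983e12h11_odd {G F : Type*} [Group G] [Field F] [Fintype F] (p : ℕ) (hF : Fintype.card F = p)
    (hodd : Odd p) (e : G ≃* Matrix.ProjectiveSpecialLinearGroup (Fin 2) F) :
    2 * Nat.card G = p * (p ^ 2 - 1) := by
  have h1 := Cfsg.Agent.Lib.helper6.PSL2Index.card_PSL2_mul (F := F)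
  rw [hF] at h1
  have hg : Nat.gcd 2 (p - 1) = 2 := by
    obtain ⟨k, hk⟩ := hodd
    have : p - 1 = 2 * k := by omega
    rw [this]
    exact Nat.gcd_eq_left (Dvd.intro k rfl)
  rw [hg, ← Nat.card_congr e.toEquiv] at h1
  omega

/-- `|PSL_2(F)|` for `|F| = 2 ^ m = p - 1` -/
theorem s983e12h11_even {G F : Type*} [Group G] [Field F] [Fintype F] (p m : ℕ)
    (hF : Fintype.card F = 2 ^ m) (hp : p = 2 ^ m + 1) (h3 : 3 < p)
    (e : G ≃* Matrix.ProjectiveSpecialLinearGroup (Fin 2) F) :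
    Nat.card G = (p - 2) * (p - 1) * p := by
  have h1 := Cfsg.Agent.Lib.helper6.PSL2Index.card_PSL2_mul (F := F)
  rw [hF] at h1
  have hm : 1 ≤ m := by
    rcases Nat.eq_zero_or_pos m with h0 | h0
    · rw [h0] at hp
      omega
    · exact h0
  have hg : Nat.gcd 2 (2 ^ m - 1) = 1 := by
    obtain ⟨j, rfl⟩ : ∃ j, m = j + 1 := ⟨m - 1, by omega⟩
    have hpos : 0 < 2 ^ j := Nat.pos_of_ne_zero (by positivity)
    have : 2 ^ (j + 1) - 1 = 2 * (2 ^ j - 1) + 1 := by
      rw [pow_succ]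
      omega
    rw [this]
    simp
  rw [hg, mul_one, ← Nat.card_congr e.toEquiv] at h1
  rw [h1]
  have hp1 : p - 1 = 2 ^ m := by omega
  have hp2 : p - 2 = 2 ^ m - 1 := by omega
  have hpos : 1 ≤ 2 ^ m := Nat.one_le_two_pow
  rw [hp1, hp2, hp]
  set q := 2 ^ m with hq
  have hq2 : q ^ 2 - 1 = (q - 1) * (q + 1) := by
    obtain ⟨t, ht⟩ : ∃ t, q = t + 1 := ⟨q - 1, by omega⟩
    rw [ht]
    simp only [Nat.add_sub_cancel]
    ring_nf
    omega
  rw [hq2]
  ring

/-- E1 (second copy) -/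
theorem s983e1_h11_kill {G : Type*} [Group G] [Finite G] [IsSimpleGroup G] (hG : ¬ IsMulCommutative G)
    (p : ℕ) (hp : p.Prime) (hdvd : p ∣ Nat.card G) (hbig : Nat.card G < p ^ 3) :
    2 * Nat.card G = p * (p ^ 2 - 1) ∨ Nat.card G = (p - 2) * (p - 1) * p := by
  rcases Cfsg.Agent.S0999.result (s983e12h11_not_cyclic hG) p hp hdvd hbig with
    ⟨F, hF, hFt, hcard, h3, ⟨e⟩⟩ | ⟨m, F, hF, hFt, hcard, hpm, h3, ⟨e⟩⟩
  · left
    have hodd : Odd p := hp.odd_of_ne_two (by omega)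
    exact s983e12h11_odd p hcard hodd e
  · right
    exact s983e12h11_even p m hcard hpm h3 e

/-- E2 (second copy) -/
theorem s983e2_h11_kill {G : Type*} [Group G] [Finite G] [IsSimpleGroup G] (hG : ¬ IsMulCommutative G)
    (p q b g₀ : ℕ) (hp : p.Prime) (hq : q.Prime) (hpq : p ≠ q) (hp5 : 5 ≤ p)
    (hcard : Nat.card G = p * q ^ b * g₀) (hg : g₀ < p - 1) :
    2 * Nat.card G = p * (p ^ 2 - 1) ∨ Nat.card G = (p - 2) * (p - 1) * p := by
  rcases Cfsg.Agent.S0997.result (s983e12h11_not_cyclic hG) p q b g₀ hp hq hpq hcard hg with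
    ⟨m, F, hF, hFt, hcardF, -, ⟨e⟩⟩ | ⟨m, F, hF, hFt, hcardF, hpm, h3, ⟨e⟩⟩
  · left
    have hodd : Odd p := hp.odd_of_ne_two (by omega)
    exact s983e12h11_odd p hcardF hodd e
  · right
    exact s983e12h11_even p m hcardF hpm h3 e

end Cfsg.Agent.Lib.helper3.S983
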