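import Mathlib
import Cfsg.Agent.Lib.helper3.S983.TblDefs
import Cfsg.Agent.S4501
import Cfsg.Agent.Lib.helper6.PSL2Index

/-!
# Project S983 (S0983), rows N4800 and N4900: no simple group of order `4800 = 3 * 5^2 * 2^6`
or `4900 = 4 * 5^2 * 7^2` (S4501).
-/

set_option autoImplicit false
set_option linter.style.haveILetI false

namespace Cfsg.Agent.Lib.helper3.S983

/-- a simple group whose order is not a prime is not abelian -/
theorem s983n4800_noncomm {G : Type*} [Group G] [Finite G] [IsSimpleGroup G]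
    (hnp : ¬ (Nat.card G).Prime) : ∃ x y : G, x * y ≠ y * x := by
  by_contra hcon
  push Not at hcon
  letI : CommGroup G := { (inferInstance : Group G) with mul_comm := hcon }
  exact hnp (IsSimpleGroup.prime_card (α := G))

theorem s983n4800_card_A5 : Nat.card (alternatingGroup (Fin 5)) = 60 := by
  have h := two_mul_nat_card_alternatingGroup (α := Fin 5)
  rw [Nat.card_perm, Nat.card_eq_fintype_card (α := Fin 5), Fintype.card_fin] at h
  have : (5 : ℕ).factorial = 120 := by decide
  omega

theorem s983n4800_card_PSL27 :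
    Nat.card (Matrix.ProjectiveSpecialLinearGroup (Fin 2) (ZMod 7)) = 168 := by
  haveI : Fact (Nat.Prime 7) := ⟨by norm_num⟩
  have h := Cfsg.Agent.Lib.helper6.PSL2Index.card_PSL2_mul (F := ZMod 7)
  rw [ZMod.card] at h
  have h2 : Nat.gcd 2 (7 - 1) = 2 := by decide
  have h3 : 7 * (7 ^ 2 - 1) = 336 := by norm_num
  rw [h2, h3] at h
  omega

/-- N4800 [S]  `4800 = 3 * 5^2 * 2^6`: `Cfsg.Agent.S4501.result` (second part, `p = 5`, `a = 2`, `q = 2`, `b = 6`): `G ≅ A_5` or `PSL_2(7)`, orders 60, 168. -/
theorem no_simple_4800 {G : Type*} [Group G] [Finite G] [IsSimpleGroup G] (hG : Nat.card G = 4800) : False := by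
  have hna := s983n4800_noncomm (G := G) (by rw [hG]; norm_num)
  have h := (Cfsg.Agent.S4501.result hna 5 2 2 6 (by norm_num) (by norm_num) (by norm_num) (le_refl _)).2
    (by rw [hG]; norm_num)
  rcases h with ⟨⟨e⟩⟩ | ⟨⟨e⟩⟩
  · have := Nat.card_congr e.toEquiv
    rw [hG, s983n4800_card_A5] at this
    omega
  · have := Nat.card_congr e.toEquiv
    rw [hG, s983n4800_card_PSL27] at this
    omega

/-- N4900 [S]  `4900 = 4 * 5^2 * 7^2`: S4501 first part. -/
theorem no_simple_4900 {G : Type*} [Group G] [Finite G] [IsSimpleGroup G] (hG : Nat.card G = 4900) : False := by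
  have hna := s983n4800_noncomm (G := G) (by rw [hG]; norm_num)
  have h := (Cfsg.Agent.S4501.result hna 5 7 2 2 (by norm_num) (by norm_num) (by norm_num) (le_refl _)).1
    (by rw [hG]; norm_num)
  obtain ⟨e⟩ := h
  have := Nat.card_congr e.toEquiv
  rw [hG, s983n4800_card_A5] at this
  omega

end Cfsg.Agent.Lib.helper3.S983
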