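import Mathlib
import Cfsg.Agent.Lib.helper7.BR.Defs
import Cfsg.Agent.Lib.helper8.SylowConj
import Cfsg.Agent.Lib.Helper18.J1A
import Cfsg.Agent.Lib.Helper11.O5040FIX

/-!
# Fixed points of an element of `C_G(P)` on `Sylow p G` and the centralizer of that element

Generic tool for "no simple group of order `N`" arguments.  `|P| = p`, `c ∈ C_G(P)` of prime order `r`
with `r` coprime to `|N_G(P) : C_G(P)|`; `H = C_G(c)`, `F` = the set of Sylow `p`-subgroups normalized by `c`.
Then `F` is the `H`-orbit of `P`, so `|F| * |H ∩ N_G(P)| = |H|`; moreover `|F| ≡ 1 mod p`,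
`|F| ≡ n_p mod r`, and `|F| < n_p` when `G` is simple and `P` is not normal (`O5040FIX`).
-/

set_option autoImplicit false
set_option linter.unusedVariables false
set_option linter.unusedSectionVars false
set_option linter.style.haveILetI false

namespace Cfsg.Agent.Lib.Helper11.SylFix

open Cfsg.Agent.Lib.helper7.BR Cfsg.Agent.Lib.helper8 Cfsg.Agent.Lib.Helper11.O5040E

universe u

variable {G : Type u} [Group G] [Fintype G]

/-- conjugate Sylow subgroups have the same `|N : C|` -/
theorem sylfix_relIndex_smul {p : ℕ} [Fact p.Prime] (P : Sylow p G) (g : G) :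
    (cen (g • P)).relIndex (nrm (g • P)) = (cen P).relIndex (nrm P) := by
  have hC : Nat.card ↥(cen (g • P)) = Nat.card ↥(cen P) :=
    Cfsg.Agent.Lib.Helper18.J1.card_centralizer_smul p g P
  have hN : Nat.card ↥(nrm (g • P)) = Nat.card ↥(nrm P) := by
    have h1 := Subgroup.card_mul_index (nrm (g • P))
    have h2 := Subgroup.card_mul_index (nrm P)
    have h3 : (nrm (g • P)).index = (nrm P).index := by
      have a1 := Sylow.card_eq_index_normalizer (g • P)
      have a2 := Sylow.card_eq_index_normalizer P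
      exact a1.symm.trans a2
    rw [h3, ← h2] at h1
    have hpos : 0 < (nrm P).index := Nat.pos_of_ne_zero Subgroup.index_ne_zero_of_finite
    exact Nat.eq_of_mul_eq_mul_right hpos h1
  have key : ∀ Q : Sylow p G, Nat.card ↥(cen Q) * (cen Q).relIndex (nrm Q) = Nat.card ↥(nrm Q) := by
    intro Q
    have hCN : cen Q ≤ nrm Q := Subgroup.centralizer_le_normalizer _
    have h1 := Subgroup.card_mul_index ((cen Q).subgroupOf (nrm Q))
    have h2 : Nat.card ↥((cen Q).subgroupOf (nrm Q)) = Nat.card ↥(cen Q) :=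
      Nat.card_congr (Subgroup.subgroupOfEquivOfLe hCN).toEquiv
    rw [h2] at h1
    exact h1
  have e1 := key (g • P)
  have e2 := key P
  rw [hC, hN, ← e2] at e1
  have hpos : 0 < Nat.card ↥(cen P) := Nat.card_pos
  exact Nat.eq_of_mul_eq_mul_left hpos e1

/-- an element of `N(Q)` whose order is coprime to `|N(Q) : C(Q)|` centralizes `Q` -/
theorem sylfix_mem_cen {p : ℕ} (Q : Sylow p G) (c : G) (hc : c ∈ nrm Q)
    (hcop : Nat.Coprime (orderOf c) ((cen Q).relIndex (nrm Q))) : c ∈ cen Q := by
  set C' : Subgroup ↥(nrm Q) := (cen Q).subgroupOf (nrm Q) with hC'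
  haveI : C'.Normal := by
    rw [hC', ← Subgroup.normalizerMonoidHom_ker]
    exact MonoidHom.normal_ker _
  set x : ↥(nrm Q) ⧸ C' := QuotientGroup.mk ⟨c, hc⟩ with hx
  have h1 : x ^ orderOf c = 1 := by
    rw [hx, ← QuotientGroup.mk_pow]
    have : (⟨c, hc⟩ : ↥(nrm Q)) ^ orderOf c = 1 := by
      apply Subtype.ext
      simp [pow_orderOf_eq_one]
    rw [this]
    rfl
  have h2 : x ^ ((cen Q).relIndex (nrm Q)) = 1 := by
    have : Nat.card (↥(nrm Q) ⧸ C') = (cen Q).relIndex (nrm Q) := rfl
    rw [← this]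
    exact pow_card_eq_one'
  have h3 : orderOf x ∣ orderOf c := orderOf_dvd_of_pow_eq_one h1
  have h4 : orderOf x ∣ (cen Q).relIndex (nrm Q) := orderOf_dvd_of_pow_eq_one h2
  have h5 : orderOf x = 1 := Nat.eq_one_of_dvd_coprimes hcop h3 h4
  have h6 : x = 1 := orderOf_eq_one_iff.mp h5
  have h7 : (⟨c, hc⟩ : ↥(nrm Q)) ∈ C' := (QuotientGroup.eq_one_iff _).mp h6
  exact Subgroup.mem_subgroupOf.mp h7

/-- MAIN: the orbit count. -/
theorem sylfix_main {p : ℕ} [Fact p.Prime] (P : Sylow p G) (c : G) (hc : c ∈ cen P)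
    (hcop : Nat.Coprime (orderOf c) ((cen P).relIndex (nrm P))) :
    Nat.card ↥(MulAction.fixedPoints (Subgroup.zpowers c) (Sylow p G)) *
        Nat.card ↥(Subgroup.centralizer ((Subgroup.zpowers c : Subgroup G) : Set G) ⊓ nrm P) =
      Nat.card ↥(Subgroup.centralizer ((Subgroup.zpowers c : Subgroup G) : Set G)) := by
  set K : Subgroup G := Subgroup.zpowers c with hKdef
  have hKle : K ≤ cen P := by
    rw [hKdef, Subgroup.zpowers_le]
    exact hc
  set H : Subgroup G := Subgroup.centralizer (K : Set G) with hHdef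
  have hPH : (P : Subgroup G) ≤ H := by
    intro x hx
    rw [hHdef, Subgroup.mem_centralizer_iff]
    intro κ hκ
    exact (Subgroup.mem_centralizer_iff.mp (hKle hκ) x hx).symm
  have horb : MulAction.orbit ↥H P = MulAction.fixedPoints K (Sylow p G) := by
    ext Q
    constructor
    · rintro ⟨h, rfl⟩
      rw [MulAction.mem_fixedPoints]
      intro κ
      have hcomm : (κ : G) * (h : G) = (h : G) * (κ : G) :=
        Subgroup.mem_centralizer_iff.mp h.2 (κ : G) κ.2
      have hκP : (κ : G) • P = P := by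
        rw [Sylow.smul_eq_iff_mem_normalizer]
        exact Subgroup.centralizer_le_normalizer _ (hKle κ.2)
      show (κ : G) • ((h : G) • P) = (h : G) • P
      rw [← mul_smul, hcomm, mul_smul, hκP]
    · intro hQ
      rw [MulAction.mem_fixedPoints] at hQ
      have hcN : c ∈ nrm Q := by
        have := hQ ⟨c, Subgroup.mem_zpowers c⟩
        rw [Subgroup.smul_def] at this
        exact Sylow.smul_eq_iff_mem_normalizer.mp this
      have hcopQ : Nat.Coprime (orderOf c) ((cen Q).relIndex (nrm Q)) := by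
        obtain ⟨g, rfl⟩ := MulAction.exists_smul_eq G P Q
        rw [sylfix_relIndex_smul]
        exact hcop
      have hcQ : c ∈ cen Q := sylfix_mem_cen Q c hcN hcopQ
      have hKQ : K ≤ cen Q := by
        rw [hKdef, Subgroup.zpowers_le]
        exact hcQ
      have hQH : (Q : Subgroup G) ≤ H := by
        intro x hx
        rw [hHdef, Subgroup.mem_centralizer_iff]
        intro κ hκ
        exact (Subgroup.mem_centralizer_iff.mp (hKQ hκ) x hx).symm
      obtain ⟨n, hn, hconj⟩ := h8_sylow_conj_in_subgroup p H Q hQH (P : Subgroup G) P.isPGroup' hPH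
      refine ⟨⟨n, hn⟩, ?_⟩
      show n • P = Q
      have hle : ((n • P : Sylow p G) : Subgroup G) ≤ (Q : Subgroup G) := by
        intro y hy
        rw [h8_mem_smul_sylow] at hy
        have := hconj _ hy
        have e : n * (n⁻¹ * y * n) * n⁻¹ = y := by group
        rwa [e] at this
      exact (Sylow.ext ((n • P).is_maximal' Q.isPGroup' hle)).symm
  have hos : Nat.card ↥(MulAction.orbit ↥H P) * Nat.card ↥(MulAction.stabilizer ↥H P) =
      Nat.card ↥H := by
    rw [← Nat.card_prod]
    exact Nat.card_congr (MulAction.orbitProdStabilizerEquivGroup ↥H P)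
  rw [horb] at hos
  have hst : Nat.card ↥(MulAction.stabilizer ↥H P) = Nat.card ↥(H ⊓ nrm P) := by
    have e1 : (MulAction.stabilizer ↥H P).map H.subtype = H ⊓ nrm P := by
      ext x
      constructor
      · rintro ⟨h, hh, rfl⟩
        have : (h : G) • P = P := MulAction.mem_stabilizer_iff.mp hh
        exact ⟨h.2, Sylow.smul_eq_iff_mem_normalizer.mp this⟩
      · rintro ⟨hxH, hxN⟩
        refine ⟨⟨x, hxH⟩, ?_, rfl⟩
        rw [SetLike.mem_coe, MulAction.mem_stabilizer_iff]
        show x • P = P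
        exact Sylow.smul_eq_iff_mem_normalizer.mpr hxN
    rw [← e1]
    exact (Subgroup.card_map_of_injective (Subgroup.subtype_injective _)).symm
  rw [hst] at hos
  exact hos

/-- ARITH: the numerical consequences, bundled.  `f` = the number of Sylow `p`-subgroups normalized by `c`,
`s = |C_G(c) ∩ N_G(P)|`. -/
theorem sylfix_arith [IsSimpleGroup G] {p r : ℕ} [Fact p.Prime] [Fact r.Prime] (P : Sylow p G)
    (hPn : ¬ (P : Subgroup G).Normal) (c : G) (hc : c ∈ cen P) (hcr : orderOf c = r)
    (hcop : Nat.Coprime r ((cen P).relIndex (nrm P))) :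
    ∃ f s : ℕ, f ≡ 1 [MOD p] ∧ Nat.card (Sylow p G) ≡ f [MOD r] ∧ f < Nat.card (Sylow p G) ∧
      f * s = Nat.card ↥(Subgroup.centralizer ((Subgroup.zpowers c : Subgroup G) : Set G)) ∧
      f * s ∣ Nat.card G ∧ s ∣ Nat.card ↥(nrm P) ∧ Nat.card ↥(P : Subgroup G) ∣ s ∧ r ∣ s := by
  set K : Subgroup G := Subgroup.zpowers c with hKdef
  have hKle : K ≤ cen P := by
    rw [hKdef, Subgroup.zpowers_le]
    exact hc
  have hKr : IsPGroup r K := IsPGroup.of_card (n := 1) (by rw [Nat.card_zpowers, hcr, pow_one])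
  have hKne : K ≠ ⊥ := by
    intro h
    have : Nat.card ↥K = r := by rw [Nat.card_zpowers, hcr]
    rw [h, Subgroup.card_bot] at this
    have := (Fact.out : r.Prime).two_le
    omega
  set H : Subgroup G := Subgroup.centralizer (K : Set G) with hHdef
  have hmain := sylfix_main P c hc (by rw [hcr]; exact hcop)
  refine ⟨Nat.card ↥(MulAction.fixedPoints K (Sylow p G)), Nat.card ↥(H ⊓ nrm P),
    o5040e_fix_mod P K hKle, hKr.card_modEq_card_fixedPoints (Sylow p G), o5040e_fix_lt P hPn K hKne,
    hmain, ?_, Subgroup.card_dvd_of_le inf_le_right, ?_, ?_⟩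
  · rw [hmain]
    exact Subgroup.card_subgroup_dvd_card H
  · apply Subgroup.card_dvd_of_le
    intro x hx
    have hxH : x ∈ H := by
      rw [hHdef, Subgroup.mem_centralizer_iff]
      intro κ hκ
      exact (Subgroup.mem_centralizer_iff.mp (hKle hκ) x hx).symm
    exact ⟨hxH, Subgroup.le_normalizer hx⟩
  · have hcH : c ∈ H := by
      rw [hHdef, Subgroup.mem_centralizer_iff]
      intro κ hκ
      obtain ⟨j, rfl⟩ := Subgroup.mem_zpowers_iff.mp hκ
      exact ((Commute.refl c).zpow_left j).eq
    have hcmem : c ∈ H ⊓ nrm P := ⟨hcH, Subgroup.centralizer_le_normalizer _ hc⟩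
    have := orderOf_dvd_natCard (⟨c, hcmem⟩ : ↥(H ⊓ nrm P))
    rwa [Subgroup.orderOf_mk, hcr] at this

end Cfsg.Agent.Lib.Helper11.SylFix
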