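import Mathlib
import Cfsg.Agent.Lib.helper3.S983.TblDefs
import Cfsg.Agent.Lib.helper23.OrdGen3
import Cfsg.Agent.Lib.Helper11.SylFixOrbit

/-!
# Project S983 (S0983), row N6160: no simple group of order `6160 = 2^4 * 5 * 7 * 11`.

Elementary: `p = 7`, `|N(P) : C(P)| = 2`, `n_7 ∈ {8, 22}`, so `5 ∣ |C(P)|`; an element `c ∈ C(P)` of order `5`
normalizes `f` Sylow 7-subgroups with `f ≡ 1 mod 7`, `f ≡ n_7 mod 5`, `f < n_7`: impossible.
-/

set_option autoImplicit false
set_option linter.unusedVariables false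
set_option linter.style.haveILetI false

namespace Cfsg.Agent.Lib.helper3.S983

open Cfsg.Agent.Lib.helper7.BR Cfsg.Agent.Lib.Helper11.O5040E Cfsg.Agent.Lib.helper23

/-- a Sylow `p`-subgroup of a simple group of non-prime-power... is not normal when `1 < |P| < |G|` -/
theorem s983n6160_not_normal {G : Type*} [Group G] [Finite G] [IsSimpleGroup G] {p : ℕ} (P : Sylow p G)
    (h1 : Nat.card ↥(P : Subgroup G) ≠ 1) (h2 : Nat.card ↥(P : Subgroup G) ≠ Nat.card G) :
    ¬ (P : Subgroup G).Normal := by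
  intro hN
  rcases hN.eq_bot_or_eq_top with h | h
  · rw [h, Subgroup.card_bot] at h1
    exact h1 rfl
  · rw [h, Subgroup.card_top] at h2
    exact h2 rfl

/-- the fixed-point congruences for an element of prime order `r` of `C_G(P)` -/
theorem s983n6160_fix {G : Type*} [Group G] [Finite G] [IsSimpleGroup G] {p r : ℕ} [Fact p.Prime]
    [Fact r.Prime] (P : Sylow p G) (hPn : ¬ (P : Subgroup G).Normal)
    (hr : r ∣ Nat.card ↥(cen P)) :
    ∃ f : ℕ, f ≡ 1 [MOD p] ∧ Nat.card (Sylow p G) ≡ f [MOD r] ∧ f < Nat.card (Sylow p G) := by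
  haveI : Fintype G := Fintype.ofFinite G
  obtain ⟨k, hk⟩ := exists_prime_orderOf_dvd_card' (G := ↥(cen P)) r hr
  have hkG : orderOf (k : G) = r := by
    rw [Subgroup.orderOf_coe]
    exact hk
  set K : Subgroup G := Subgroup.zpowers (k : G) with hKdef
  have hKr : IsPGroup r K := IsPGroup.of_card (n := 1) (by rw [Nat.card_zpowers, hkG, pow_one])
  have hKle : K ≤ cen P := by
    rw [hKdef, Subgroup.zpowers_le]
    exact k.2
  have hKne : K ≠ ⊥ := by
    intro h
    have : Nat.card ↥K = r := by rw [Nat.card_zpowers, hkG]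
    rw [h, Subgroup.card_bot] at this
    have := (Fact.out : r.Prime).two_le
    omega
  exact ⟨_, o5040e_fix_mod P K hKle, hKr.card_modEq_card_fixedPoints (Sylow p G),
    o5040e_fix_lt P hPn K hKne⟩

/-- N6160 [M-L] (second copy; the verbatim `no_simple_6160` is helper8's `S983N6160V`) -/
theorem s983n6160_h11_no_simple {G : Type*} [Group G] [Finite G] [IsSimpleGroup G] (hG : Nat.card G = 6160) : False := by
  haveI : Fact (Nat.Prime 7) := ⟨by norm_num⟩
  haveI : Fact (Nat.Prime 5) := ⟨by norm_num⟩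
  let P : Sylow 7 G := default
  obtain ⟨hP, hNn, -, r, hr6, hr1, hCr⟩ :=
    og3_sylow_data 7 880 (by rw [hG]; norm_num) (by norm_num) (by norm_num) P
  have hPn : ¬ (P : Subgroup G).Normal :=
    s983n6160_not_normal P (by rw [hP]; norm_num) (by rw [hP, hG]; norm_num)
  have hmod : Nat.card (Sylow 7 G) ≡ 1 [MOD 7] := card_sylow_modEq_one 7 G
  -- `7 ∣ |C(P)|`
  have hcyc : IsCyclic ↥(P : Subgroup G) := isCyclic_of_prime_card hP
  have hcomm : IsMulCommutative ↥(P : Subgroup G) := hcyc.isMulCommutative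
  have hPC : (P : Subgroup G) ≤ cen P := Subgroup.le_centralizer (P : Subgroup G)
  have h7C : 7 ∣ Nat.card ↥(cen P) := by
    have := Subgroup.card_dvd_of_le hPC
    rwa [hP] at this
  obtain ⟨w, hw⟩ := h7C
  rw [hG] at hNn
  -- arithmetic
  set n := Nat.card (Sylow 7 G) with hn
  set N := Nat.card ↥(Subgroup.normalizer ((P : Subgroup G) : Set G)) with hN
  have hC : Nat.card ↥(Subgroup.centralizer ((P : Subgroup G) : Set G)) = 7 * w := hw
  rw [hC] at hCr
  have hr : r = 2 := by
    have hr6' : r ≤ 6 := Nat.le_of_dvd (by norm_num) hr6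
    have hr880 : r ∣ 880 := by
      have : 7 * (w * r * n) = 7 * 880 := by
        have : 7 * w * r * n = 6160 := by rw [hCr]; exact hNn
        nlinarith
      have h2 : w * r * n = 880 := by omega
      exact ⟨w * n, by rw [← h2]; ring⟩
    interval_cases r
    · norm_num at hr6
    · exact absurd rfl hr1
    · rfl
    · norm_num at hr880
    · norm_num at hr6
    · norm_num at hr6
    · norm_num at hr880
  subst hr
  have hwn : w * n = 440 := by
    have : 7 * w * 2 * n = 6160 := by rw [hCr]; exact hNn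
    nlinarith
  have hn1 : n ≠ 1 := by
    intro h1
    have hsub : Subsingleton (Sylow 7 G) := (Nat.card_eq_one_iff_unique.mp (hn ▸ h1)).1
    exact hPn (Sylow.normal_of_subsingleton P)
  have hndvd : n ∣ 440 := ⟨w, by rw [← hwn]; ring⟩
  have hn440 : n ≤ 440 := Nat.le_of_dvd (by norm_num) hndvd
  have h5w : 5 ∣ w := by
    unfold Nat.ModEq at hmod
    have hcases : n = 8 ∨ n = 22 := by
      clear_value n
      interval_cases n <;> omega
    rcases hcases with h | h
    · rw [h] at hwn
      exact ⟨11, by omega⟩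
    · rw [h] at hwn
      exact ⟨4, by omega⟩
  have h5C : 5 ∣ Nat.card ↥(cen P) := by
    show 5 ∣ Nat.card ↥(Subgroup.centralizer ((P : Subgroup G) : Set G))
    rw [hC]
    exact Dvd.dvd.mul_left h5w 7
  obtain ⟨f, hf7, hf5, hflt⟩ := s983n6160_fix (r := 5) P hPn h5C
  unfold Nat.ModEq at hmod hf7 hf5
  have hcases : Nat.card (Sylow 7 G) = 8 ∨ Nat.card (Sylow 7 G) = 22 := by
    rw [← hn]
    clear_value n
    interval_cases n <;> omega
  rcases hcases with h | h
  · rw [h] at hf5 hflt
    omega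
  · rw [h] at hf5 hflt
    omega

end Cfsg.Agent.Lib.helper3.S983
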