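import Mathlib
import Cfsg.Prelude.Def_AxialAlgebras
import Cfsg.Agent.Lib.Helper24.SAK.Defs

set_option autoImplicit false

namespace Cfsg.Agent.Lib.Helper24.SAK

open Cfsg.Axial

variable {V : Type*} [AddCommGroup V] [Module ℝ V]

theorem saka3_ext {mul : V →ₗ[ℝ] V →ₗ[ℝ] V} {a : V}
    (htop : eigenSum mul a majoranaSpectrum = ⊤) (f g : V →ₗ[ℝ] V)
    (h1 : ∀ v ∈ eigenSum mul a {1, 0, 1 / 4}, f v = g v)
    (h2 : ∀ v ∈ eigen mul a (1 / 32), f v = g v) : f = g := by
  have hle : eigenSum mul a majoranaSpectrum ≤ LinearMap.eqLocus f g := by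
    unfold eigenSum
    refine iSup₂_le ?_
    intro c hc v hv
    rw [LinearMap.mem_eqLocus]
    by_cases h32 : c = 1 / 32
    · subst h32
      exact h2 v hv
    · have hc' : c ∈ ({1, 0, 1 / 4} : Set ℝ) := by
        unfold majoranaSpectrum at hc
        simp only [Set.mem_insert_iff, Set.mem_singleton_iff] at hc ⊢
        tauto
      have hv' : v ∈ eigenSum mul a {1, 0, 1 / 4} := by
        unfold eigenSum
        exact Submodule.mem_iSup_of_mem c (Submodule.mem_iSup_of_mem hc' hv)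
      exact h1 v hv'
  apply LinearMap.ext
  intro v
  have hv : v ∈ eigenSum mul a majoranaSpectrum := by
    rw [htop]
    exact Submodule.mem_top
  exact hle hv

theorem pair_unique {mul : V →ₗ[ℝ] V →ₗ[ℝ] V} {B : LinearMap.BilinForm ℝ V} {μ : V ≃ₗ[ℝ] V} {a : V} {μ' : V ≃ₗ[ℝ] V}
    (h : IsMajoranaPair mul B μ a) (h' : IsMajoranaPair mul B μ' a) : μ = μ' := by
  obtain ⟨_, _, ⟨⟨_, _, htop, _⟩, _⟩, hfix, hneg⟩ := h
  obtain ⟨_, _, _, hfix', hneg'⟩ := h'
  have key : (μ : V →ₗ[ℝ] V) = (μ' : V →ₗ[ℝ] V) := by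
    apply saka3_ext htop
    · intro v hv
      rw [hfix v hv, hfix' v hv]
    · intro v hv
      rw [hneg v hv, hneg' v hv]
  apply LinearEquiv.ext
  intro v
  have := congrArg (fun f : V →ₗ[ℝ] V => f v) key
  simpa using this

end Cfsg.Agent.Lib.Helper24.SAK
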