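import Mathlib
import Cfsg.Prelude.Def_AxialAlgebras
import Cfsg.Agent.Lib.Helper24.SAK.Defs
import Cfsg.Agent.Lib.Helper11.SAKA3

set_option autoImplicit false

namespace Cfsg.Agent.Lib.Helper24.SAK

open Cfsg.Axial

variable {V : Type*} [AddCommGroup V] [Module ℝ V]

theorem saka4_invol {mul : V →ₗ[ℝ] V →ₗ[ℝ] V} {B : LinearMap.BilinForm ℝ V} {μ : V ≃ₗ[ℝ] V} {a : V}
    (h : IsMajoranaPair mul B μ a) (v : V) : μ (μ v) = v := by
  obtain ⟨_, _, ⟨⟨_, _, htop, _⟩, _⟩, hfix, hneg⟩ := h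
  have key : ((μ : V →ₗ[ℝ] V).comp (μ : V →ₗ[ℝ] V)) = LinearMap.id := by
    apply saka3_ext htop
    · intro v hv
      rw [LinearMap.comp_apply, hfix v hv, hfix v hv, LinearMap.id_apply]
    · intro v hv
      rw [LinearMap.comp_apply, hneg v hv, map_neg, hneg v hv, neg_neg, LinearMap.id_apply]
  have := congrArg (fun f : V →ₗ[ℝ] V => f v) key
  simpa using this

theorem saka4_eigen_map (mul : V →ₗ[ℝ] V →ₗ[ℝ] V) (μ : V ≃ₗ[ℝ] V)
    (hμ : ∀ u v : V, μ (mul u v) = mul (μ u) (μ v)) (a : V) (c : ℝ) :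
    eigen mul (μ a) c = (eigen mul a c).map (μ : V →ₗ[ℝ] V) := by
  ext v
  unfold eigen
  rw [Submodule.mem_map, Module.End.mem_eigenspace_iff]
  constructor
  · intro h
    refine ⟨μ.symm v, ?_, by simp⟩
    rw [Module.End.mem_eigenspace_iff]
    apply μ.injective
    rw [hμ, map_smul]
    simpa using h
  · rintro ⟨w, hw, rfl⟩
    rw [Module.End.mem_eigenspace_iff] at hw
    have : mul (μ a) (μ w) = μ (mul a w) := (hμ a w).symm
    simp only [LinearEquiv.coe_coe]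
    rw [this, hw, map_smul]

theorem saka4_eigenSum_map (mul : V →ₗ[ℝ] V →ₗ[ℝ] V) (μ : V ≃ₗ[ℝ] V)
    (hμ : ∀ u v : V, μ (mul u v) = mul (μ u) (μ v)) (a : V) (T : Set ℝ) :
    eigenSum mul (μ a) T = (eigenSum mul a T).map (μ : V →ₗ[ℝ] V) := by
  unfold eigenSum
  simp only [Submodule.map_iSup, saka4_eigen_map mul μ hμ]

theorem pair_conj {mul : V →ₗ[ℝ] V →ₗ[ℝ] V} {B : LinearMap.BilinForm ℝ V} {μ : V ≃ₗ[ℝ] V} {a : V} {g : V ≃ₗ[ℝ] V} {c : V}
    (hg : IsMajoranaPair mul B g c) (h : IsMajoranaPair mul B μ a) :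
    IsMajoranaPair mul B (g * μ * g) (g a) := by
  have hgg : ∀ v : V, g (g v) = v := saka4_invol hg
  obtain ⟨hm0, hB0, -, -⟩ := hg
  obtain ⟨hm1, hB1, ⟨⟨hne, hidem, htop, hfus⟩, hprim⟩, ⟨hfix, hneg⟩⟩ := h
  have happ : ∀ v : V, (g * μ * g) v = g (μ (g v)) := fun v => rfl
  refine ⟨?_, ?_, ⟨⟨?_, ?_, ?_, ?_⟩, ?_⟩, ⟨?_, ?_⟩⟩
  · intro u v
    rw [happ, happ, happ, hm0, hm1, hm0]
  · intro u v
    rw [happ, happ, hB0, hB1, hB0]
  · intro h0
    apply hne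
    apply g.injective
    rw [h0, map_zero]
  · rw [← hm0, hidem]
  · rw [saka4_eigenSum_map mul g hm0, htop, Submodule.map_top]
    exact LinearEquiv.range g
  · intro c hcS d hdS u hu v hv
    rw [saka4_eigen_map mul g hm0] at hu hv
    obtain ⟨u', hu', rfl⟩ := hu
    obtain ⟨v', hv', rfl⟩ := hv
    rw [saka4_eigenSum_map mul g hm0]
    refine ⟨mul u' v', hfus c hcS d hdS u' hu' v' hv', ?_⟩
    simp only [LinearEquiv.coe_coe]
    exact hm0 u' v'
  · rw [saka4_eigen_map mul g hm0, hprim, Submodule.map_span]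
    simp
  · intro v hv
    rw [saka4_eigenSum_map mul g hm0] at hv
    obtain ⟨v', hv', rfl⟩ := hv
    have := hfix v' hv'
    simp only [LinearEquiv.coe_coe] at this ⊢
    rw [happ, hgg, this]
  · intro v hv
    rw [saka4_eigen_map mul g hm0] at hv
    obtain ⟨v', hv', rfl⟩ := hv
    have := hneg v' hv'
    simp only [LinearEquiv.coe_coe] at this ⊢
    rw [happ, hgg, this, map_neg]

end Cfsg.Agent.Lib.Helper24.SAK
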