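import Mathlib
import Cfsg.Prelude.Def_AxialAlgebras
import Cfsg.Agent.Lib.Helper24.SAK.Defs

set_option autoImplicit false

namespace Cfsg.Agent.Lib.Helper24.SAK

open Cfsg.Axial

variable {V : Type*} [AddCommGroup V] [Module ℝ V]

theorem orth {mul : V →ₗ[ℝ] V →ₗ[ℝ] V} {B : LinearMap.BilinForm ℝ V}
    (hV : IsMajoranaAmbient mul B) (a x y : V) (c d : ℝ) (hcd : c ≠ d)
    (hx : mul a x = c • x) (hy : mul a y = d • y) : B x y = 0 := by
  obtain ⟨hcomm, _, _, hassoc, _⟩ := hV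
  have h1 : B (mul a x) y = c * B x y := by
    rw [hx, map_smul, LinearMap.smul_apply, smul_eq_mul]
  have h2 : B (mul a x) y = d * B x y := by
    rw [hcomm a x, ← hassoc x a y, hy, map_smul, smul_eq_mul]
  have h3 : (c - d) * B x y = 0 := by
    rw [sub_mul, ← h1, ← h2, sub_self]
  rcases mul_eq_zero.1 h3 with h | h
  · exact absurd (sub_eq_zero.1 h) hcd
  · exact h

end Cfsg.Agent.Lib.Helper24.SAK
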