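import Mathlib
import Cfsg.Prelude.Def_AxialAlgebras
import Cfsg.Agent.Lib.Helper24.SAK.Defs

set_option autoImplicit false

namespace Cfsg.Agent.Lib.Helper24.SAK

open Cfsg.Axial

variable {V : Type*} [AddCommGroup V] [Module ℝ V]

theorem saka7_eigenSum_singleton (mul : V →ₗ[ℝ] V →ₗ[ℝ] V) (a : V) (c : ℝ) :
    eigenSum mul a {c} = eigen mul a c := by
  unfold eigenSum
  simp only [Set.mem_singleton_iff, iSup_iSup_eq_left]

theorem saka7_mem_eigen (mul : V →ₗ[ℝ] V →ₗ[ℝ] V) (a x : V) (c : ℝ) :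
    x ∈ eigen mul a c ↔ mul a x = c • x := by
  unfold eigen
  rw [Module.End.mem_eigenspace_iff]

theorem saka7_law00 : monsterLaw (1 / 4 : ℝ) (1 / 32) 0 0 = {0} := by
  unfold monsterLaw
  norm_num

theorem fuse00 {mul : V →ₗ[ℝ] V →ₗ[ℝ] V} {B : LinearMap.BilinForm ℝ V} {μ : V ≃ₗ[ℝ] V} {a : V}
    (h : IsMajoranaPair mul B μ a) (x y : V) (hx : mul a x = 0) (hy : mul a y = 0) :
    mul a (mul x y) = 0 := by
  obtain ⟨_, _, ⟨⟨_, _, _, hfus⟩, _⟩, _⟩ := h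
  have h0 : (0 : ℝ) ∈ majoranaSpectrum := by
    unfold majoranaSpectrum
    simp
  have hx' : x ∈ eigen mul a 0 := by
    rw [saka7_mem_eigen, hx, zero_smul]
  have hy' : y ∈ eigen mul a 0 := by
    rw [saka7_mem_eigen, hy, zero_smul]
  have h1 := hfus 0 h0 0 h0 x hx' y hy'
  rw [saka7_law00, saka7_eigenSum_singleton, saka7_mem_eigen, zero_smul] at h1
  exact h1

end Cfsg.Agent.Lib.Helper24.SAK
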