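import Mathlib
import Cfsg.Agent.Lib.helper7.SAP.Defs
import Cfsg.Agent.Lib.Helper10.SAPSM1
import Cfsg.Agent.Lib.Helper11.SAPSM4

/-!
# Project SAP (designer helper7), row SM5 `pres_small` (helper11): core

`sapsm5_core`: the conclusion of `pres_small` from the statements of SM2 `pres_S3` and SM3 `pres_A4` (as hypotheses) and
the landed SM1 `pres_cyclic` (helper10) and SM4 `pres_S4` (helper11).
-/

set_option autoImplicit false

namespace Cfsg.Agent.Lib.helper7.SAP

open Equiv

universe u

/-- a finite group of order at most 3 has a presentation with at most 2 relators (SM1). -/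
theorem sapsm5_small_cyclic (G : Type) [Group G] [Finite G] (h : Nat.card G ≤ 3) :
    ∃ rels : Finset (FreeGroup (Fin 2)), rels.card ≤ 7 ∧
      Nonempty (PresentedGroup (↑rels : Set (FreeGroup (Fin 2))) ≃* G) := by
  have hpos : 0 < Nat.card G := Nat.card_pos
  have hcyc : IsCyclic G := by
    have h3 : Nat.card G = 1 ∨ Nat.card G = 2 ∨ Nat.card G = 3 := by omega
    rcases h3 with h1 | h2 | h3
    · have : Subsingleton G := (Nat.card_eq_one_iff_unique.1 h1).1
      exact isCyclic_of_subsingleton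
    · have : Fact (Nat.Prime 2) := ⟨Nat.prime_two⟩
      exact isCyclic_of_prime_card h2
    · have : Fact (Nat.Prime 3) := ⟨Nat.prime_three⟩
      exact isCyclic_of_prime_card h3
  obtain ⟨rels, hr, he⟩ := pres_cyclic G
  exact ⟨rels, by omega, he⟩

theorem sapsm5_card_alt (n : ℕ) (hn : 2 ≤ n) :
    2 * Nat.card (alternatingGroup (Fin n)) = n.factorial := by
  have : Nontrivial (Fin n) := Fin.nontrivial_iff_two_le.2 hn
  have h := two_mul_card_alternatingGroup (α := Fin n)
  rw [Fintype.card_perm, Fintype.card_fin] at h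
  rw [Nat.card_eq_fintype_card]
  exact h

/-- SM5 core: `pres_small` from the statements of `pres_S3` and `pres_A4`. -/
theorem sapsm5_core
    (hS3 : ∃ rels : Finset (FreeGroup (Fin 2)), rels.card ≤ 3 ∧
      Nonempty (PresentedGroup (↑rels : Set (FreeGroup (Fin 2))) ≃* Perm (Fin 3)))
    (hA4 : ∃ rels : Finset (FreeGroup (Fin 2)), rels.card ≤ 3 ∧
      Nonempty (PresentedGroup (↑rels : Set (FreeGroup (Fin 2))) ≃* alternatingGroup (Fin 4)))
    (n : ℕ) (hn : n ≤ 4) :
    (∃ rels : Finset (FreeGroup (Fin 2)), rels.card ≤ 7 ∧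
      Nonempty (PresentedGroup (↑rels : Set (FreeGroup (Fin 2))) ≃* Perm (Fin n))) ∧
    (∃ rels : Finset (FreeGroup (Fin 2)), rels.card ≤ 7 ∧
      Nonempty (PresentedGroup (↑rels : Set (FreeGroup (Fin 2))) ≃* alternatingGroup (Fin n))) := by
  have hperm : Nat.card (Perm (Fin n)) = n.factorial := by
    rw [Nat.card_eq_fintype_card, Fintype.card_perm, Fintype.card_fin]
  have hle : Nat.card (alternatingGroup (Fin n)) ≤ Nat.card (Perm (Fin n)) :=
    Subgroup.card_le_card_group _
  have hn5 : n = 0 ∨ n = 1 ∨ n = 2 ∨ n = 3 ∨ n = 4 := by omega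
  rcases hn5 with rfl | rfl | rfl | rfl | rfl
  · have h1 : (0 : ℕ).factorial = 1 := rfl
    rw [h1] at hperm
    exact ⟨sapsm5_small_cyclic _ (by omega), sapsm5_small_cyclic _ (by omega)⟩
  · have h1 : (1 : ℕ).factorial = 1 := rfl
    rw [h1] at hperm
    exact ⟨sapsm5_small_cyclic _ (by omega), sapsm5_small_cyclic _ (by omega)⟩
  · have h1 : (2 : ℕ).factorial = 2 := rfl
    rw [h1] at hperm
    exact ⟨sapsm5_small_cyclic _ (by omega), sapsm5_small_cyclic _ (by omega)⟩
  · refine ⟨?_, ?_⟩
    · obtain ⟨rels, hr, he⟩ := hS3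
      exact ⟨rels, by omega, he⟩
    · have h2 := sapsm5_card_alt 3 (by norm_num)
      have h1 : (3 : ℕ).factorial = 6 := rfl
      rw [h1] at h2
      exact sapsm5_small_cyclic _ (by omega)
  · refine ⟨?_, ?_⟩
    · obtain ⟨rels, hr, he⟩ := pres_S4
      exact ⟨rels, by omega, he⟩
    · obtain ⟨rels, hr, he⟩ := hA4
      exact ⟨rels, by omega, he⟩

end Cfsg.Agent.Lib.helper7.SAP
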