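import Mathlib
import Cfsg.Agent.Lib.helper7.SAP.Defs
import Cfsg.Agent.Lib.Helper11.SAPSM5core
import Cfsg.Agent.Lib.Helper11.SAPSM23h11

/-!
# Project SAP (designer helper7), row SM5 `pres_small` (helper11), verbatim

`sapsm5_core` on the spares `sapsm2_h11_pres_S3`, `sapsm3_h11_pres_A4` (same statements as SM2 / SM3), SM1 (helper10), SM4.
-/

set_option autoImplicit false

namespace Cfsg.Agent.Lib.helper7.SAP

open Equiv

universe u

/-- SM5 [S-M]: all `n ≤ 4` (SM1–SM4; the groups of order `≤ 3` are cyclic). -/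
theorem pres_small (n : ℕ) (hn : n ≤ 4) :
    (∃ rels : Finset (FreeGroup (Fin 2)), rels.card ≤ 7 ∧
      Nonempty (PresentedGroup (↑rels : Set (FreeGroup (Fin 2))) ≃* Perm (Fin n))) ∧
    (∃ rels : Finset (FreeGroup (Fin 2)), rels.card ≤ 7 ∧
      Nonempty (PresentedGroup (↑rels : Set (FreeGroup (Fin 2))) ≃* alternatingGroup (Fin n))) :=
  sapsm5_core sapsm2_h11_pres_S3 sapsm3_h11_pres_A4 n hn

end Cfsg.Agent.Lib.helper7.SAP
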