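import Mathlib
import Cfsg.Agent.Lib.Helper18.SDM.Defs
import Cfsg.Agent.Lib.Helper18.SDM.Defs2
import Cfsg.Agent.Lib.Helper20.SDMB0
import Cfsg.Agent.Lib.Helper20.SDMB1
import Cfsg.Agent.Lib.Helper11.SDMR4

/-!
# Project SDM (designer helper18), row R1a (`root_split_A`), written by helper11.
`B = (B ∩ s⁻¹ B s) U_k` for a node `k` of type `A`: for `b ∈ B` the element `u = sgX a (λ x_{rv c})`,
`λ = (b x_c)_a / (b x_a)_a`, makes `b u⁻¹ x_c ∈ V_k + F x_c`, so `s (b u⁻¹) s⁻¹` stabilises the flag.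
-/

set_option autoImplicit false
set_option linter.unusedSectionVars false
set_option linter.unusedVariables false

namespace Cfsg.Agent.Lib.Helper18.QBN

open Cfsg.Agent.Lib.helper14.UBN QuadraticMap

universe u v

variable {F : Type u} [Field F] {W : Type v} [AddCommGroup W] [Module F W] {n : ℕ}

/-- the five cases of `tauS k x` -/
theorem sdmr1a_tau_cases (k : Fin (n / 2)) (hk : pc k ≠ rv (pa k)) (x : Fin n) :
    (x = pa k ∧ tauS k x = pc k) ∨ (x = pc k ∧ tauS k x = pa k) ∨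
    (x = rv (pa k) ∧ tauS k x = rv (pc k)) ∨ (x = rv (pc k) ∧ tauS k x = rv (pa k)) ∨
    (x ≠ pa k ∧ x ≠ pc k ∧ x ≠ rv (pa k) ∧ x ≠ rv (pc k) ∧ tauS k x = x) := by
  by_cases h1 : x = pa k
  · left
    exact ⟨h1, by rw [h1, tauS_pa]⟩
  by_cases h2 : x = pc k
  · right; left
    exact ⟨h2, by rw [h2, tauS_pc]⟩
  by_cases h3 : x = rv (pa k)
  · right; right; left
    exact ⟨h3, by rw [h3, tauS_apply, tauF_rv_left (rv_pa_ne k) hk]⟩
  by_cases h4 : x = rv (pc k)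
  · right; right; right; left
    exact ⟨h4, by rw [h4, tauS_apply, tauF_rv_right (pa_ne_pc k) (rv_pc_ne k) hk]⟩
  · right; right; right; right
    exact ⟨h1, h2, h3, h4, by rw [tauS_apply, tauF_of_ne h1 h2 h3 h4]⟩

/-- the ranks at a node of type `A` -/
theorem sdmr1a_ranks (k : Fin (n / 2)) (hk : pc k ≠ rv (pa k)) :
    k.val + 1 < n / 2 ∧ rk (pa k) = k.val ∧ rk (pc k) = k.val + 1 ∧
      rk (rv (pa k)) + k.val = n - 1 ∧ rk (rv (pc k)) + (k.val + 1) = n - 1 := by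
  have h1 := rk_add_rv (pa k)
  have h2 := rk_add_rv (pc k)
  rw [rk_pa] at h1
  rcases pc_cases k with ⟨h, h'⟩ | ⟨_, h, _⟩
  · refine ⟨h, rk_pa k, h', by omega, by omega⟩
  · exact absurd h hk

/-- coordinates of `s v` -/
theorem sdmr1a_s_fst (hn : Even n) (Q₀ : QuadraticForm F W) (k : Fin (n / 2)) (v : QV F n W)
    (i : Fin n) : (le (sQ hn Q₀ k) v).1 i = v.1 (tauS k i) := by
  unfold sQ
  rw [permG_fst, tauS_symm]

theorem sdmr1a_s_snd (hn : Even n) (Q₀ : QuadraticForm F W) (k : Fin (n / 2)) (v : QV F n W) :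
    (le (sQ hn Q₀ k) v).2 = v.2 := by
  unfold sQ
  rw [permG_snd]

/-- `s⁻¹ x_i = x_{τ i}` -/
theorem sdmr1a_sinv_xv (hn : Even n) (Q₀ : QuadraticForm F W) (k : Fin (n / 2)) (i : Fin n) :
    le (sQ hn Q₀ k)⁻¹ (xv W i) = xv W (tauS k i) := by
  have h : le (sQ hn Q₀ k) (xv W (tauS k i)) = xv W i := by
    unfold sQ
    rw [permG_xv, tauS_tauS]
  rw [← h, le_inv_apply']

/-- `s v ∈ V_J` as soon as the coordinates of `v` vanish at the `τ`-images of the positions of rank `≥ J` -/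
theorem sdmr1a_s_mem (hn : Even n) (Q₀ : QuadraticForm F W) (k : Fin (n / 2)) (v : QV F n W) (J : ℕ)
    (h2 : v.2 = 0) (h1 : ∀ i : Fin n, J ≤ rk i → v.1 (tauS k i) = 0) :
    le (sQ hn Q₀ k) v ∈ Vfl F n W J := by
  rw [mem_Vfl]
  refine ⟨by rw [sdmr1a_s_snd, h2], fun i hi => ?_⟩
  rw [sdmr1a_s_fst]
  exact h1 i hi

theorem root_split_A (hn : Even n) (Q₀ : QuadraticForm F W) (k : Fin (n / 2)) (hk : pc k ≠ rv (pa k))
    (b : GQ n Q₀) (hb : b ∈ BQ n Q₀) :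
    ∃ u ∈ Uk hn Q₀ k, sQ hn Q₀ k * (b * u⁻¹) * (sQ hn Q₀ k)⁻¹ ∈ BQ n Q₀ := by
  have hm := hn
  obtain ⟨m, hm⟩ := hm
  obtain ⟨hk1, hra, hrc, hrva, hrvc⟩ := sdmr1a_ranks k hk
  have hα : (le b (xv W (pa k))).1 (pa k) ≠ 0 :=
    BQ_diag_ne_zero b hb (pa k) (by rw [hra]; omega)
  set α := (le b (xv W (pa k))).1 (pa k) with hαdef
  set lam := (le b (xv W (pc k))).1 (pa k) / α with hlam
  have hy : (lam • xv W (rv (pc k)) : QV F n W) ∈ Yk F W k :=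
    ⟨fun _ => ⟨lam, rfl⟩, fun h' => absurd h' hk⟩
  have hyn := sdmr4_Yk_neg k hy
  refine ⟨sgX hn Q₀ (pa k) (lam • xv W (rv (pc k))) (Yk_perp hn k hy), ⟨_, hy, rfl⟩, ?_⟩
  have hu : sgX hn Q₀ (pa k) (lam • xv W (rv (pc k))) (Yk_perp hn k hy) ∈ BQ n Q₀ :=
    Uk_subset_BQ hn Q₀ k _ ⟨_, hy, rfl⟩
  rw [sdmr4_sgX_inv hn Q₀ (pa k) _ (Yk_perp hn k hy) (Yk_perp hn k hyn)]
  have hu' : sgX hn Q₀ (pa k) (-(lam • xv W (rv (pc k)))) (Yk_perp hn k hyn) ∈ BQ n Q₀ :=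
    Uk_subset_BQ hn Q₀ k _ ⟨_, hyn, rfl⟩
  set u' := sgX hn Q₀ (pa k) (-(lam • xv W (rv (pc k)))) (Yk_perp hn k hyn) with hu'def
  have hb' : b * u' ∈ BQ n Q₀ := (BQ n Q₀).mul_mem hb hu'
  have hup : IsUpQ (b * u') := (mem_BQ_iff _).mp hb'
  have hupx := (isUpQ_iff _).mp hup
  -- `u' x_c = x_c - λ x_a`
  have hux : le u' (xv W (pc k)) = xv W (pc k) - lam • xv W (pa k) := by
    rw [hu'def, sgX_apply]
    have e1 : (xv W (pc k) : QV F n W).1 (rv (pa k)) = 0 := by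
      rw [xv_fst, if_neg]
      exact fun e => hk e.symm
    have e2 : polar (frQ n Q₀) (xv W (pc k)) (-(lam • xv W (rv (pc k)))) = -lam := by
      rw [polar_neg_right, polar_smul_right, polar_xv hn, rv_rv, xv_fst, if_pos rfl, smul_eq_mul,
        mul_one]
    rw [e1, e2, zero_smul, sub_zero, neg_smul, sub_eq_add_neg]
  -- the `a`-coordinate of `b u' x_c` vanishes
  have hzero : (le (b * u') (xv W (pc k))).1 (pa k) = 0 := by
    rw [le_mul, hux, map_sub, map_smul, Prod.fst_sub, Pi.sub_apply, Prod.smul_fst, Pi.smul_apply,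
      smul_eq_mul, hlam, ← hαdef]
    field_simp
    ring
  rw [mem_BQ_iff, isUpQ_iff]
  intro i hi
  rw [le_mul, le_mul, sdmr1a_sinv_xv]
  rcases sdmr1a_tau_cases k hk i with ⟨rfl, ht⟩ | ⟨rfl, ht⟩ | ⟨rfl, ht⟩ | ⟨rfl, ht⟩ |
      ⟨h1, h2, h3, h4, ht⟩
  · -- `i = a`
    rw [ht]
    have hv := hupx (pc k) (by rw [hrc]; omega)
    rw [mem_Vfl] at hv
    apply sdmr1a_s_mem hn Q₀ k _ _ hv.1
    intro i' hi'
    rcases sdmr1a_tau_cases k hk i' with ⟨rfl, ht'⟩ | ⟨rfl, ht'⟩ | ⟨rfl, ht'⟩ | ⟨rfl, ht'⟩ |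
      ⟨g1, g2, g3, g4, ht'⟩
    · omega
    · rw [ht']; exact hzero
    · rw [ht']; exact hv.2 _ (by omega)
    · rw [ht']; exact hv.2 _ (by omega)
    · rw [ht']
      apply hv.2
      have : rk i' ≠ rk (pc k) := fun e => g2 (rk_injective e)
      omega
  · -- `i = c`
    rw [ht]
    have hv := hupx (pa k) (by rw [hra]; omega)
    rw [mem_Vfl] at hv
    apply sdmr1a_s_mem hn Q₀ k _ _ hv.1
    intro i' hi'
    rcases sdmr1a_tau_cases k hk i' with ⟨rfl, ht'⟩ | ⟨rfl, ht'⟩ | ⟨rfl, ht'⟩ | ⟨rfl, ht'⟩ |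
      ⟨g1, g2, g3, g4, ht'⟩
    · omega
    · omega
    · rw [ht']; exact hv.2 _ (by omega)
    · rw [ht']; exact hv.2 _ (by omega)
    · rw [ht']
      apply hv.2
      omega
  · omega
  · omega
  · -- `τ i = i`
    rw [ht]
    have hv := hupx i hi
    rw [mem_Vfl] at hv
    apply sdmr1a_s_mem hn Q₀ k _ _ hv.1
    have hia : rk i ≠ rk (pa k) := fun e => h1 (rk_injective e)
    intro i' hi'
    rcases sdmr1a_tau_cases k hk i' with ⟨rfl, ht'⟩ | ⟨rfl, ht'⟩ | ⟨rfl, ht'⟩ | ⟨rfl, ht'⟩ |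
      ⟨g1, g2, g3, g4, ht'⟩
    · rw [ht']; exact hv.2 _ (by omega)
    · rw [ht']; exact hv.2 _ (by omega)
    · rw [ht']; exact hv.2 _ (by omega)
    · rw [ht']; exact hv.2 _ (by omega)
    · rw [ht']; exact hv.2 _ hi'

end Cfsg.Agent.Lib.Helper18.QBN
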