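import Mathlib
import Cfsg.Agent.Lib.Helper18.SDM.Defs
import Cfsg.Agent.Lib.Helper18.SDM.Defs2
import Cfsg.Agent.Lib.helper14.UBNh
import Cfsg.Agent.Lib.Helper10.SDMB3
import Cfsg.Agent.Lib.helper8.SDMB2
import Cfsg.Agent.Lib.Helper10.SDMR2bcd
import Cfsg.Agent.Lib.Helper5.SDMR1b
import Cfsg.Agent.Lib.Helper21.SDMR3a
import Cfsg.Agent.Lib.Helper20.SDMR3b
import Cfsg.Agent.Lib.Helper11.SDMR4
import Cfsg.Agent.Lib.Helper11.SDMR1a

/-!
# Project SDM (designer helper18), row A1 (`qbn_mul_mem_union`), written by helper11.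
The BN-pair axiom `s B g ⊆ B s g B ∪ B g B` from the rank one rows R1, R2, R3 (derivation of the Skel docstring).
-/

set_option autoImplicit false
set_option linter.unusedSectionVars false
set_option linter.unusedVariables false

namespace Cfsg.Agent.Lib.Helper18.QBN

open Cfsg.Agent.Lib.helper14.UBN QuadraticMap

universe u v

variable {F : Type u} [Field F] {W : Type v} [AddCommGroup W] [Module F W] {n : ℕ}

/-- R1 for both kinds of nodes -/
theorem sdma1_split (hn : Even n) (Q₀ : QuadraticForm F W) (hQ₀ : ∀ w : W, Q₀ w = 0 → w = 0)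
    (k : Fin (n / 2)) (b : GQ n Q₀) (hb : b ∈ BQ n Q₀) :
    ∃ u ∈ Uk hn Q₀ k, sQ hn Q₀ k * (b * u⁻¹) * (sQ hn Q₀ k)⁻¹ ∈ BQ n Q₀ := by
  by_cases hk : pc k = rv (pa k)
  · exact root_split_last hn Q₀ hQ₀ k hk b hb
  · exact root_split_A hn Q₀ k hk b hb

/-- the statement of row R2a (`root_conj_pos_A`), proved here on helper10's `sdmr2_conj` / `sgX_long_mem_BQ_iff`
(mirror of his `root_conj_neg_A`), so that this file does not wait for that row -/
theorem sdma1_conj_pos_A (hn : Even n) (Q₀ : QuadraticForm F W) (k : Fin (n / 2))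
    (hk : pc k ≠ rv (pa k)) (g : GQ n Q₀) (π : Equiv.Perm (Fin n)) (hπ : RvC π) (hg : IsPermOf g π)
    (hpos : rk (π.symm (pa k)) < rk (π.symm (pc k))) (u : GQ n Q₀) (hu : u ∈ Uk hn Q₀ k) :
    g⁻¹ * u * g ∈ BQ n Q₀ := by
  obtain ⟨y, hy, rfl⟩ := hu
  obtain ⟨t, rfl⟩ := hy.1 hk
  obtain ⟨c, hy', hc0, hconj⟩ :=
    sdmr2_conj hn Q₀ hπ hg (pa k) (t • xv W (rv (pc k))) (Yk_perp hn k hy)
  rw [hconj]
  obtain ⟨d, hd0, _, hd⟩ := sdmr2_inv_xv hg (rv (pc k))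
  have hyeq : (c • le g⁻¹ (t • xv W (rv (pc k))) : QV F n W) =
      (c * t * d⁻¹) • xv W (rv (π.symm (pc k))) := by
    rw [map_smul, hd, RvC_symm hπ, smul_smul, smul_smul]
  have h1 : ((c * t * d⁻¹) • xv W (rv (π.symm (pc k))) : QV F n W).1 (rv (π.symm (pa k))) = 0 := by
    rw [← hyeq]
    exact hy'
  rw [sdmr2_sgX_congr hn Q₀ _ hy' h1 hyeq]
  have hne1 : π.symm (pc k) ≠ π.symm (pa k) := fun e => pa_ne_pc k (π.symm.injective e).symm
  have hne2 : π.symm (pc k) ≠ rv (π.symm (pa k)) := by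
    rw [← RvC_symm hπ]
    exact fun e => hk (π.symm.injective e)
  rw [sgX_long_mem_BQ_iff hn Q₀ _ _ hne1 hne2]
  exact Or.inl hpos

/-- R2 (positive position) for both kinds of nodes -/
theorem sdma1_pos (hn : Even n) (Q₀ : QuadraticForm F W) (k : Fin (n / 2))
    (g : GQ n Q₀) (π : Equiv.Perm (Fin n)) (hπ : RvC π) (hg : IsPermOf g π)
    (hpos : rk (π.symm (pa k)) < rk (π.symm (pc k))) (u : GQ n Q₀) (hu : u ∈ Uk hn Q₀ k) :
    g⁻¹ * u * g ∈ BQ n Q₀ := by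
  by_cases hk : pc k = rv (pa k)
  · exact root_conj_pos_last hn Q₀ k hk g π hπ hg hpos u hu
  · exact sdma1_conj_pos_A hn Q₀ k hk g π hπ hg hpos u hu

/-- R3 for both kinds of nodes -/
theorem sdma1_rank_one (hn : Even n) (Q₀ : QuadraticForm F W) (hQ₀ : ∀ w : W, Q₀ w = 0 → w = 0)
    (k : Fin (n / 2)) (u : GQ n Q₀) (hu : u ∈ Uk hn Q₀ k) (hu1 : u ≠ 1) :
    ∃ b ∈ BQ n Q₀, ∃ u' ∈ Uk hn Q₀ k, sQ hn Q₀ k * u * (sQ hn Q₀ k)⁻¹ = b * sQ hn Q₀ k * u' := by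
  by_cases hk : pc k = rv (pa k)
  · exact root_rank_one_last hn Q₀ hQ₀ k hk u hu hu1
  · exact root_rank_one_A hn Q₀ k hk u hu hu1

theorem qbn_mul_mem_union (hn : Even n) (Q₀ : QuadraticForm F W) (hQ₀ : ∀ w : W, Q₀ w = 0 → w = 0)
    (k : Fin (n / 2)) (g : GQ n Q₀) (hg : g ∈ NQ n Q₀) (b : GQ n Q₀) (hb : b ∈ BQ n Q₀) :
    sQ hn Q₀ k * b * g ∈ DoubleCoset.doubleCoset (sQ hn Q₀ k * g) (BQ n Q₀ : Set (GQ n Q₀)) (BQ n Q₀) ∪
      DoubleCoset.doubleCoset g (BQ n Q₀ : Set (GQ n Q₀)) (BQ n Q₀) := by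
  obtain ⟨u, hu, hb'⟩ := sdma1_split hn Q₀ hQ₀ k b hb
  obtain ⟨π, hπ, hgπ⟩ := (mem_NQ_iff hn g).mp hg
  set s := sQ hn Q₀ k with hs
  have hss : s * s = 1 := sQ_mul_self hn Q₀ k
  have hsinv : s⁻¹ = s := sQ_inv hn Q₀ k
  -- `s b g = (s (b u⁻¹) s⁻¹) (s u g)`
  have hdecomp : s * b * g = (s * (b * u⁻¹) * s⁻¹) * (s * u * g) := by group
  rcases rk_neg_or_pos k π with hpos | hneg
  · left
    have h2 := sdma1_pos hn Q₀ k g π hπ hgπ hpos u hu
    refine DoubleCoset.mem_doubleCoset.2 ⟨s * (b * u⁻¹) * s⁻¹, hb', g⁻¹ * u * g, h2, ?_⟩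
    rw [hdecomp]
    group
  · by_cases hu1 : u = 1
    · left
      refine DoubleCoset.mem_doubleCoset.2 ⟨s * (b * u⁻¹) * s⁻¹, hb', 1, (BQ n Q₀).one_mem, ?_⟩
      rw [hdecomp, hu1]
      group
    · right
      obtain ⟨b₁, hb₁, u', hu', e⟩ := sdma1_rank_one hn Q₀ hQ₀ k u hu hu1
      -- `s g` has the permutation `tauS k * π`, in positive position
      have hsg : IsPermOf (s * g) (tauS k * π) :=
        isPermOf_mul (isPermOf_permG hn Q₀ (tauS k) (RvC_tauS k)) hgπ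
      have hpos' : rk ((tauS k * π).symm (pa k)) < rk ((tauS k * π).symm (pc k)) := by
        have e1 : (tauS k * π).symm (pa k) = π.symm (pc k) := by
          rw [Equiv.symm_apply_eq, Equiv.Perm.mul_apply, Equiv.apply_symm_apply, tauS_pc]
        have e2 : (tauS k * π).symm (pc k) = π.symm (pa k) := by
          rw [Equiv.symm_apply_eq, Equiv.Perm.mul_apply, Equiv.apply_symm_apply, tauS_pa]
        rw [e1, e2]
        exact hneg
      have h2 := sdma1_pos hn Q₀ k (s * g) (tauS k * π) (RvC_mul (RvC_tauS k) hπ) hsg hpos' u' hu'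
      refine DoubleCoset.mem_doubleCoset.2
        ⟨(s * (b * u⁻¹) * s⁻¹) * b₁, (BQ n Q₀).mul_mem hb' hb₁, (s * g)⁻¹ * u' * (s * g), h2, ?_⟩
      -- `s u g = b₁ s u' s g = b₁ g ((s g)⁻¹ u' (s g))`
      have e3 : s * u * g = b₁ * g * ((s * g)⁻¹ * u' * (s * g)) := by
        have e4 : s * u = b₁ * s * u' * s := by
          have : s * u = (s * u * s⁻¹) * s := by group
          rw [this, e]
        calc s * u * g = b₁ * s * u' * s * g := by rw [e4]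
          _ = b₁ * (s * s) * g * ((s * g)⁻¹ * u' * (s * g)) := by group
          _ = b₁ * g * ((s * g)⁻¹ * u' * (s * g)) := by rw [hss, mul_one]
      rw [hdecomp, e3]
      group

end Cfsg.Agent.Lib.Helper18.QBN
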