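import Mathlib
import Cfsg.Agent.Lib.Helper18.SDM.Defs
import Cfsg.Agent.Lib.Helper18.SDM.Defs2
import Cfsg.Agent.Lib.Helper11.SDMR4

/-!
# Project SDM (designer helper18), row A2 (`sQ_conj_ne`), written by helper11.
`s B s ≠ B`: for `1 ≠ u ∈ U_k` the element `s u s` moves `x_a` (`a = pa k`) out of `V_{k+1}`.
-/

set_option autoImplicit false
set_option linter.unusedSectionVars false
set_option linter.unusedVariables false

namespace Cfsg.Agent.Lib.Helper18.QBN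

open Cfsg.Agent.Lib.helper14.UBN QuadraticMap

universe u v

variable {F : Type u} [Field F] {W : Type v} [AddCommGroup W] [Module F W] {n : ℕ}

/-- `s x_i = x_{τ i}` -/
theorem sdma2_s_xv (hn : Even n) (Q₀ : QuadraticForm F W) (k : Fin (n / 2)) (i : Fin n) :
    le (sQ hn Q₀ k) (xv W i) = xv W (tauS k i) := by
  unfold sQ
  rw [permG_xv]

theorem sdma2_s_wv (hn : Even n) (Q₀ : QuadraticForm F W) (k : Fin (n / 2)) (w : W) :
    le (sQ hn Q₀ k) (wv F n w) = wv F n w := by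
  unfold sQ
  rw [permG_wv]

theorem sdma2_s_snd (hn : Even n) (Q₀ : QuadraticForm F W) (k : Fin (n / 2)) (v : QV F n W) :
    (le (sQ hn Q₀ k) v).2 = v.2 := by
  unfold sQ
  rw [permG_snd]

theorem sdma2_s_fst (hn : Even n) (Q₀ : QuadraticForm F W) (k : Fin (n / 2)) (v : QV F n W)
    (i : Fin n) : (le (sQ hn Q₀ k) v).1 i = v.1 (tauS k i) := by
  unfold sQ
  rw [permG_fst, tauS_symm]

/-- `x_a ∈ V_{k+1}` -/
theorem sdma2_xa_mem (k : Fin (n / 2)) : (xv W (pa k) : QV F n W) ∈ Vfl F n W (k.val + 1) := by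
  rw [mem_Vfl]
  refine ⟨rfl, fun i hi => ?_⟩
  rw [xv_fst, if_neg]
  intro e
  rw [e, rk_pa] at hi
  omega

/-- a witness: an element of `B` whose `s`-conjugate is not in `B` -/
theorem sdma2_witness (hn : Even n) (Q₀ : QuadraticForm F W) (hW : ∃ w : W, w ≠ 0) (k : Fin (n / 2)) :
    ∃ u ∈ BQ n Q₀, sQ hn Q₀ k * u * sQ hn Q₀ k ∉ BQ n Q₀ := by
  have hk := k.2
  have hk' : k.val + 1 ≤ n / 2 := hk
  by_cases h : pc k = rv (pa k)
  · -- the last node
    obtain ⟨w, hw⟩ := hW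
    have hy : (wv F n w : QV F n W) ∈ Yk F W k :=
      ⟨fun h' => absurd h h', fun _ => ⟨w, rfl⟩⟩
    refine ⟨sgX hn Q₀ (pa k) (wv F n w) (Yk_perp hn k hy),
      Uk_subset_BQ hn Q₀ k _ ⟨_, hy, rfl⟩, ?_⟩
    intro hmem
    have h1 := hmem.1 (k.val + 1) hk' _ (sdma2_xa_mem k)
    rw [le_mul, le_mul, sdma2_s_xv, tauS_pa, h, sgX_apply, mem_Vfl] at h1
    have h2 := h1.1
    rw [sdma2_s_snd] at h2
    simp only [Prod.snd_sub, Prod.snd_add, Prod.smul_snd, xv_snd, wv_snd, smul_zero, add_zero,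
      zero_sub, xv_fst, if_true, one_smul, neg_eq_zero] at h2
    exact hw h2
  · -- a node of type `A`
    have hy : ((1 : F) • xv W (rv (pc k)) : QV F n W) ∈ Yk F W k :=
      ⟨fun _ => ⟨1, rfl⟩, fun h' => absurd h' h⟩
    refine ⟨sgX hn Q₀ (pa k) ((1 : F) • xv W (rv (pc k))) (Yk_perp hn k hy),
      Uk_subset_BQ hn Q₀ k _ ⟨_, hy, rfl⟩, ?_⟩
    intro hmem
    have h1 := hmem.1 (k.val + 1) hk' _ (sdma2_xa_mem k)
    rw [le_mul, le_mul, sdma2_s_xv, tauS_pa, sgX_apply, mem_Vfl] at h1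
    have hrc : k.val + 1 ≤ rk (pc k) := by
      have := rk_pa_lt_pc k
      rw [rk_pa] at this
      exact this
    have h2 := h1.2 (pc k) hrc
    rw [sdma2_s_fst, tauS_pc] at h2
    have e1 : (xv W (pc k) : QV F n W).1 (rv (pa k)) = 0 := by
      rw [xv_fst, if_neg]
      exact fun e => h e.symm
    have e2 : polar (frQ n Q₀) (xv W (pc k)) ((1 : F) • xv W (rv (pc k))) = 1 := by
      rw [polar_smul_right, polar_xv hn, rv_rv, xv_fst, if_pos rfl, smul_eq_mul, mul_one]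
    rw [e1, e2, zero_smul, sub_zero, one_smul, Prod.fst_add, Pi.add_apply, xv_fst, xv_fst,
      if_neg (pa_ne_pc k), if_pos rfl, zero_add] at h2
    exact one_ne_zero h2

theorem sQ_conj_ne (hn : Even n) (Q₀ : QuadraticForm F W) (hW : ∃ w : W, w ≠ 0) (k : Fin (n / 2)) :
    (fun b : GQ n Q₀ => sQ hn Q₀ k * b * sQ hn Q₀ k) '' (BQ n Q₀ : Set (GQ n Q₀)) ≠
      (BQ n Q₀ : Set (GQ n Q₀)) := by
  obtain ⟨u, hu, hnot⟩ := sdma2_witness hn Q₀ hW k
  intro e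
  apply hnot
  have : sQ hn Q₀ k * u * sQ hn Q₀ k ∈
      (fun b : GQ n Q₀ => sQ hn Q₀ k * b * sQ hn Q₀ k) '' (BQ n Q₀ : Set (GQ n Q₀)) :=
    ⟨u, hu, rfl⟩
  rw [e] at this
  exact this

end Cfsg.Agent.Lib.Helper18.QBN
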