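import Cfsg.Agent.Lib.helper15.SLM.Defs
import Cfsg.Agent.Lib.Lead.SLn
import Cfsg.Agent.Lib.Helper1.SLMC1

set_option autoImplicit false
set_option linter.unusedSectionVars false
set_option linter.unusedVariables false

/-! Project SLM (S2332), piece C5: elementary transvections are transvections `tv`, and a normal
subgroup of `SL` (rank at least 3) containing a nontrivial transvection is everything. -/

namespace Cfsg.Agent.Lib.helper15.SLM

open Matrix

section C

variable {F : Type*} [Field F] [Fintype F] [DecidableEq F]
  {ι : Type*} [Fintype ι] [DecidableEq ι]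

/-- C5 : the elementary transvections are transvections -/
theorem transvection_eq_tv (i j : ι) (hij : i ≠ j) (c : F) :
    (SpecialLinearGroup.transvection hij c : SpecialLinearGroup ι F) =
      tv (Pi.single i 1) (Pi.single j c) (by
        rw [single_dotProduct, Pi.single_eq_of_ne hij.symm, mul_zero]) := by
  apply Subtype.ext
  show Matrix.transvection i j c = tvMat (Pi.single i 1) (Pi.single j c)
  ext k l
  rw [tvMat_apply, Matrix.transvection, Matrix.add_apply, Matrix.one_apply, Matrix.single_apply]
  by_cases hk : i = k <;> by_cases hl : j = l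
  · subst hk; subst hl; simp
  · subst hk; simp [hl, eq_comm]
  · subst hl; simp [hk, eq_comm]
  · simp [hk, hl, eq_comm]

/-- C6 : a normal subgroup containing one nontrivial transvection is everything -/
theorem normal_eq_top_of_tv_mem (hι : 3 ≤ Fintype.card ι) (N : Subgroup (SpecialLinearGroup ι F))
    [N.Normal] (y η : ι → F) (hy : y ≠ 0) (hη : η ≠ 0) (h : η ⬝ᵥ y = 0) (hN : tv y η h ∈ N) :
    N = ⊤ := by
  haveI : Nontrivial ι := Fintype.one_lt_card_iff_nontrivial.mp (by omega)
  rw [eq_top_iff, ← Cfsg.Agent.Lib.Lead.SL_closure_transvections, Subgroup.closure_le]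
  rintro A ⟨i, j, hij, c, rfl⟩
  by_cases hc : c = 0
  · subst hc
    have : (SpecialLinearGroup.transvection hij (0 : F) : SpecialLinearGroup ι F) = 1 := by
      apply Subtype.ext
      show Matrix.transvection i j (0 : F) = 1
      exact Matrix.transvection_zero i j
    rw [this]
    exact N.one_mem
  · rw [transvection_eq_tv i j hij c]
    have hy' : (Pi.single i 1 : ι → F) ≠ 0 := by
      intro h0
      have := congrFun h0 i
      simp at this
    have hη' : (Pi.single j c : ι → F) ≠ 0 := by
      intro h0
      have := congrFun h0 j
      simp [hc] at this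
    obtain ⟨g, hg⟩ := tv_conj hι y η (Pi.single i 1) (Pi.single j c) hy hη hy' hη' h
      (by rw [single_dotProduct, Pi.single_eq_of_ne hij.symm, mul_zero])
    rw [← hg]
    exact ‹N.Normal›.conj_mem _ hN g

end C

end Cfsg.Agent.Lib.helper15.SLM
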