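import Cfsg.Agent.Lib.helper15.SLM.Defs
import Cfsg.Agent.Lib.Helper11.SLMC5

set_option autoImplicit false
set_option linter.unusedSectionVars false
set_option linter.unusedVariables false

/-! Project SLM (S2332), piece D1: the Levi normalises the radical; an irreducible representation
of degree at least 2 is nontrivial on the radical; the character is constant on transvections. -/

namespace Cfsg.Agent.Lib.helper15.SLM

open Matrix

section D

variable {F : Type*} [Field F] [Fintype F] [DecidableEq F]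
  {κ : Type*} [Fintype κ] [DecidableEq κ]
  {V : Type*} [AddCommGroup V] [Module ℂ V] [FiniteDimensional ℂ V]

/-- D0 : the Levi normalises the radical -/
theorem dGL_normalizes (A : GL κ F) (u : κ → F) :
    ∃ u', (dGL A : SpecialLinearGroup (Unit ⊕ κ) F) * xQ u = xQ u' * dGL A := by
  refine ⟨(((A : Matrix κ κ F).det)⁻¹ • u) ᵥ* ((A⁻¹ : GL κ F) : Matrix κ κ F), ?_⟩
  have hd : ((A : Matrix κ κ F).det)⁻¹ * (A : Matrix κ κ F).det = 1 :=
    inv_mul_cancel₀ ((Matrix.isUnit_iff_isUnit_det _).1 A.isUnit).ne_zero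
  show dL ((A : Matrix κ κ F).det)⁻¹ (A : Matrix κ κ F) hd * xQ u =
    xQ _ * dL ((A : Matrix κ κ F).det)⁻¹ (A : Matrix κ κ F) hd
  apply dL_mul_xQ
  rw [Matrix.vecMul_vecMul]
  have : ((A⁻¹ : GL κ F) : Matrix κ κ F) * (A : Matrix κ κ F) = 1 := by
    rw [← Units.val_mul, inv_mul_cancel, Units.val_one]
  rw [this, Matrix.vecMul_one]

theorem dSL_normalizes (A : SpecialLinearGroup κ F) (u : κ → F) :
    ∃ u', (dSL A : SpecialLinearGroup (Unit ⊕ κ) F) * xQ u = xQ u' * dSL A :=
  dGL_normalizes (SpecialLinearGroup.toGL A) u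

theorem h11_xQ_eq_tv (u : κ → F) :
    (xQ u : SpecialLinearGroup (Unit ⊕ κ) F) =
      tv (Sum.elim (fun _ => (1 : F)) (fun _ => 0)) (Sum.elim (fun _ => 0) u) (by
        simp [dotProduct, Fintype.sum_sum_type]) :=
  Subtype.ext (xMat_eq_tvMat u)

theorem h11_e0_ne_zero :
    (Sum.elim (fun _ => (1 : F)) (fun _ => 0) : Unit ⊕ κ → F) ≠ 0 := by
  intro h0
  have := congrFun h0 (Sum.inl ())
  simp at this

theorem h11_utilde_ne_zero (u : κ → F) (hu : u ≠ 0) :
    (Sum.elim (fun _ => (0 : F)) u : Unit ⊕ κ → F) ≠ 0 := by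
  intro h0
  apply hu
  funext j
  have := congrFun h0 (Sum.inr j)
  simpa using this

theorem h11_card_sum (hκ : 2 ≤ Fintype.card κ) : 3 ≤ Fintype.card (Unit ⊕ κ) := by
  rw [Fintype.card_sum, Fintype.card_unit]
  omega

/-- an irreducible representation on which the group acts trivially is one-dimensional -/
theorem h11_finrank_eq_one_of_trivial {G : Type*} [Group G] (ρ : Representation ℂ G V)
    (hirr : ρ.IsIrreducible) (htriv : ∀ g, ρ g = 1) : Module.finrank ℂ V = 1 := by
  have hirr' := hirr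
  have hnt : Nontrivial (Subrepresentation ρ) := inferInstance
  have hV : ∃ v : V, v ≠ 0 := by
    by_contra hcon
    push Not at hcon
    obtain ⟨S, T, hST⟩ := hnt
    apply hST
    apply Subrepresentation.toSubmodule_injective
    ext x
    rw [hcon x]
    simp
  obtain ⟨v, hv⟩ := hV
  let S : Subrepresentation ρ := ⟨Submodule.span ℂ {v}, by
    intro g x hx
    rw [htriv g]
    exact hx⟩
  have hS : S = ⊥ ∨ S = ⊤ := IsSimpleOrder.eq_bot_or_eq_top S
  rcases hS with hS | hS
  · exfalso
    have h1 : v ∈ S.toSubmodule := Submodule.mem_span_singleton_self v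
    rw [hS] at h1
    exact hv ((Submodule.mem_bot ℂ).1 h1)
  · have h1 : Submodule.span ℂ {v} = (⊤ : Submodule ℂ V) :=
      congrArg Subrepresentation.toSubmodule hS
    have h2 : Module.finrank ℂ (Submodule.span ℂ {v}) = 1 := finrank_span_singleton hv
    rw [h1, finrank_top] at h2
    exact h2

/-- D1 (KER) : an irreducible representation of degree at least 2 is nontrivial on the radical -/
theorem exists_xQ_ne_one (hκ : 2 ≤ Fintype.card κ)
    (ρ : Representation ℂ (SpecialLinearGroup (Unit ⊕ κ) F) V) (hirr : ρ.IsIrreducible)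
    (hk : 2 ≤ Module.finrank ℂ V) : ∃ u : κ → F, ρ (xQ u) ≠ 1 := by
  by_contra hcon
  push Not at hcon
  have hne : Nonempty κ := Fintype.card_pos_iff.mp (by omega)
  obtain ⟨j⟩ := hne
  let u : κ → F := Pi.single j 1
  have hu : u ≠ 0 := by
    intro h0
    have := congrFun h0 j
    simp [u] at this
  have hmem : tv (Sum.elim (fun _ => (1 : F)) (fun _ => 0)) (Sum.elim (fun _ => 0) u) (by
        simp [dotProduct, Fintype.sum_sum_type]) ∈ ρ.ker := by
    rw [← h11_xQ_eq_tv u, MonoidHom.mem_ker]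
    exact hcon u
  have htop : ρ.ker = ⊤ :=
    normal_eq_top_of_tv_mem (h11_card_sum hκ) ρ.ker _ _ h11_e0_ne_zero
      (h11_utilde_ne_zero u hu) _ hmem
  have htriv : ∀ g, ρ g = 1 := by
    intro g
    have : g ∈ ρ.ker := by rw [htop]; exact Subgroup.mem_top g
    exact MonoidHom.mem_ker.1 this
  have := h11_finrank_eq_one_of_trivial ρ hirr htriv
  omega

/-- D2 : the character is constant on transvections -/
theorem character_tv_eq (hκ : 2 ≤ Fintype.card κ)
    (ρ : Representation ℂ (SpecialLinearGroup (Unit ⊕ κ) F) V)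
    (y η : Unit ⊕ κ → F) (hy : y ≠ 0) (hη : η ≠ 0) (h : η ⬝ᵥ y = 0)
    (u : κ → F) (hu : u ≠ 0) : ρ.character (tv y η h) = ρ.character (xQ u) := by
  obtain ⟨g, hg⟩ := tv_conj (h11_card_sum hκ) y η (Sum.elim (fun _ => (1 : F)) (fun _ => 0))
    (Sum.elim (fun _ => 0) u) hy hη h11_e0_ne_zero (h11_utilde_ne_zero u hu) h
    (by simp [dotProduct, Fintype.sum_sum_type])
  rw [h11_xQ_eq_tv u, ← hg, Representation.char_conj]

end D

end Cfsg.Agent.Lib.helper15.SLM
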