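import Cfsg.Agent.Lib.helper15.SLM.Defs
import Cfsg.Agent.Lib.Helper27.SLMA8
import Cfsg.Agent.Lib.Helper27.SLMB4
import Cfsg.Agent.Lib.Helper13.SLMC4
import Cfsg.Agent.Lib.Helper11.SLMD1

set_option autoImplicit false
set_option linter.unusedSectionVars false
set_option linter.unusedVariables false

/-! Project SLM (S2332), piece D4 : the trace of a Levi transvection on the fixed space of a thin
representation. -/

namespace Cfsg.Agent.Lib.helper15.SLM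

open Matrix

section D

variable {F : Type*} [Field F] [Fintype F] [DecidableEq F]
  {κ : Type*} [Fintype κ] [DecidableEq κ]
  {V : Type*} [AddCommGroup V] [Module ℂ V] [FiniteDimensional ℂ V]

/-- how a Levi element `dL δ B` moves the radical, in matrix form -/
theorem h11_dL_mul_xQ (δ : F) (B Binv : Matrix κ κ F) (hd : δ * B.det = 1)
    (hBinv : Binv * B = 1) (u : κ → F) :
    dL δ B hd * xQ u = xQ ((δ • Binvᵀ) *ᵥ u) * dL δ B hd := by
  apply dL_mul_xQ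
  rw [Matrix.smul_mulVec, Matrix.mulVec_transpose, Matrix.smul_vecMul, Matrix.vecMul_vecMul,
    hBinv, Matrix.vecMul_one]

theorem h11_isUnit_det_smul_transpose (δ : F) (B Binv : Matrix κ κ F) (hd : δ * B.det = 1)
    (hBinv : Binv * B = 1) : IsUnit (δ • Binvᵀ).det := by
  rw [Matrix.det_smul, Matrix.det_transpose, isUnit_iff_ne_zero]
  have h1 : Binv.det * B.det = 1 := by rw [← Matrix.det_mul, hBinv, Matrix.det_one]
  have hδ : δ ≠ 0 := left_ne_zero_of_mul_eq_one hd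
  have hB : Binv.det ≠ 0 := left_ne_zero_of_mul_eq_one h1
  exact mul_ne_zero (pow_ne_zero _ hδ) hB

theorem h11_vecMul_smul_transpose (δ : F) (B Binv : Matrix κ κ F) (hd : δ * B.det = 1)
    (hBinv : Binv * B = 1) (w : κ → F) (hw : B *ᵥ w = δ • w) : w ᵥ* (δ • Binvᵀ) = w := by
  have hδ : δ ≠ 0 := left_ne_zero_of_mul_eq_one hd
  have h1 : Binv *ᵥ (B *ᵥ w) = w := by
    rw [Matrix.mulVec_mulVec, hBinv, Matrix.one_mulVec]
  rw [hw, Matrix.mulVec_smul] at h1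
  rw [Matrix.vecMul_smul, Matrix.vecMul_transpose, h1]

/-- D4 (R2) : the trace of a Levi transvection on the fixed space of a thin representation -/
theorem level0_trace (q m : ℕ) (hq : Fintype.card F = q) (hm : Fintype.card κ = m) (hm2 : 2 ≤ m)
    (hex : (m + 1, q) ≠ (3, 2) ∧ (m + 1, q) ≠ (3, 4) ∧ (m + 1, q) ≠ (4, 2) ∧ (m + 1, q) ≠ (4, 3))
    (χ₀ : AddChar F ℂ) (hχ₀ : χ₀.IsPrimitive)
    (ρ : Representation ℂ (SpecialLinearGroup (Unit ⊕ κ) F) V) (b : ℕ)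
    (hk : Module.finrank ℂ V = q ^ m - 1 + b)
    (hc : ∀ u : κ → F, u ≠ 0 → ρ.character (xQ u) = (b : ℂ) - 1)
    (y η : κ → F) (hy : y ≠ 0) (hη : η ≠ 0) (h : η ⬝ᵥ y = 0) :
    LinearMap.trace ℂ V (ρ (dSL (tv y η h)) * eIdem χ₀ ρ xQ 0) = (b : ℂ) - (q : ℂ) ^ (m - 1) := by
  classical
  subst hq
  subst hm
  have hq1 : 1 ≤ Fintype.card F := Fintype.card_pos
  -- the transvection matrix and its inverse
  have hTT : tvMat y (-η) * tvMat y η = 1 := by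
    rw [tvMat_mul y (-η) η (by rw [neg_dotProduct, h, neg_zero]), neg_add_cancel,
      tvMat_zero_right]
  have hdT : (1 : F) * (tvMat y η).det = 1 := by rw [one_mul, tvMat_det y η h]
  have ht_eq : (dSL (tv y η h) : SpecialLinearGroup (Unit ⊕ κ) F) = dL 1 (tvMat y η) hdT := by
    apply Subtype.ext
    rw [coe_dSL, coe_dL, coe_tv]
  obtain ⟨t, htdef⟩ : ∃ t : SpecialLinearGroup (Unit ⊕ κ) F, t = dSL (tv y η h) := ⟨_, rfl⟩
  rw [← htdef] at ht_eq ⊢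
  set M : Matrix κ κ F := (1 : F) • (tvMat y (-η))ᵀ with hMdef
  have hM : IsUnit M.det := h11_isUnit_det_smul_transpose 1 (tvMat y η) (tvMat y (-η)) hdT hTT
  have ht : ∀ u, t * xQ u = xQ (M *ᵥ u) * t := by
    intro u
    rw [ht_eq]
    exact h11_dL_mul_xQ 1 (tvMat y η) (tvMat y (-η)) hdT hTT u
  -- fixed characters
  have hfix : ∀ w : κ → F, w ᵥ* M = w ↔ η ⬝ᵥ w = 0 := by
    intro w
    rw [hMdef, one_smul, Matrix.vecMul_transpose, tvMat_mulVec, neg_dotProduct]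
    constructor
    · intro h1
      have h2 : (-(η ⬝ᵥ w)) • y = 0 := by
        have := h1
        rwa [add_eq_left] at this
      rcases smul_eq_zero.mp h2 with h3 | h3
      · exact neg_eq_zero.mp h3
      · exact absurd h3 hy
    · intro h1
      rw [h1, neg_zero, zero_smul, add_zero]
  -- the thin step
  have hthin : (Module.finrank ℂ V : ℂ) - ((b : ℂ) - 1) =
      (Fintype.card F : ℂ) ^ Fintype.card κ := by
    rw [hk]
    have h1 : 1 ≤ Fintype.card F ^ Fintype.card κ := Nat.one_le_pow _ _ hq1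
    push_cast [Nat.cast_sub h1]
    ring
  have hE : ∀ w : κ → F, w ≠ 0 → w ᵥ* M = w →
      ∃ (s₁ s₂ : SpecialLinearGroup (Unit ⊕ κ) F) (M₁ M₂ : Matrix κ κ F),
        IsUnit M₁.det ∧ IsUnit M₂.det ∧
        (∀ u, s₁ * xQ u = xQ (M₁ *ᵥ u) * s₁) ∧ (∀ u, s₂ * xQ u = xQ (M₂ *ᵥ u) * s₂) ∧
        w ᵥ* M₁ = w ∧ w ᵥ* M₂ = w ∧ t = s₁ * s₂ * s₁⁻¹ * s₂⁻¹ := by
    intro w hw hwM
    have hw0 : η ⬝ᵥ w = 0 := (hfix w).mp hwM
    obtain ⟨B₁, B₂, hB₁, hB₂, hB₁w, hB₂w, hcomm⟩ :=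
      comm_expr_SL hm2 hex y η w hy hη hw h hw0
    have hd₁ : (B₁.det)⁻¹ * B₁.det = 1 := inv_mul_cancel₀ hB₁
    have hd₂ : (B₂.det)⁻¹ * B₂.det = 1 := inv_mul_cancel₀ hB₂
    have hi₁ : B₁⁻¹ * B₁ = 1 := Matrix.nonsing_inv_mul B₁ (isUnit_iff_ne_zero.mpr hB₁)
    have hi₂ : B₂⁻¹ * B₂ = 1 := Matrix.nonsing_inv_mul B₂ (isUnit_iff_ne_zero.mpr hB₂)
    refine ⟨dL (B₁.det)⁻¹ B₁ hd₁, dL (B₂.det)⁻¹ B₂ hd₂, (B₁.det)⁻¹ • (B₁⁻¹)ᵀ,
      (B₂.det)⁻¹ • (B₂⁻¹)ᵀ,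
      h11_isUnit_det_smul_transpose _ B₁ B₁⁻¹ hd₁ hi₁,
      h11_isUnit_det_smul_transpose _ B₂ B₂⁻¹ hd₂ hi₂,
      fun u => h11_dL_mul_xQ _ B₁ B₁⁻¹ hd₁ hi₁ u,
      fun u => h11_dL_mul_xQ _ B₂ B₂⁻¹ hd₂ hi₂ u,
      h11_vecMul_smul_transpose _ B₁ B₁⁻¹ hd₁ hi₁ w hB₁w,
      h11_vecMul_smul_transpose _ B₂ B₂⁻¹ hd₂ hi₂ w hB₂w, ?_⟩
    have hkey : t * dL (B₂.det)⁻¹ B₂ hd₂ * dL (B₁.det)⁻¹ B₁ hd₁ =
        dL (B₁.det)⁻¹ B₁ hd₁ * dL (B₂.det)⁻¹ B₂ hd₂ := by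
      rw [ht_eq]
      apply Subtype.ext
      show dMat 1 (tvMat y η) * dMat (B₂.det)⁻¹ B₂ * dMat (B₁.det)⁻¹ B₁ =
        dMat (B₁.det)⁻¹ B₁ * dMat (B₂.det)⁻¹ B₂
      rw [dMat_mul, dMat_mul, dMat_mul, hcomm, one_mul, mul_comm (B₂.det)⁻¹]
    have : t = dL (B₁.det)⁻¹ B₁ hd₁ * dL (B₂.det)⁻¹ B₂ hd₂ *
        (dL (B₂.det)⁻¹ B₂ hd₂ * dL (B₁.det)⁻¹ B₁ hd₁)⁻¹ := by
      rw [← hkey]
      group
    rw [this]
    group
  have hstep := thin_step χ₀ hχ₀ ρ xQ xQ_add ((b : ℂ) - 1) hc hthin t M hM ht hE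
  -- the number of fixed characters
  have hcount : (Finset.univ.filter (fun w : κ → F => w ≠ 0 ∧ w ᵥ* M = w)).card =
      Fintype.card F ^ (Fintype.card κ - 1) - 1 := by
    rw [← card_hyperplane (Fintype.card F) (Fintype.card κ) rfl rfl η hη]
    congr 1
    ext w
    simp only [Finset.mem_filter, Finset.mem_univ, true_and]
    rw [hfix w]
  -- the character value at the transvection
  have hchar : ρ.character t = (b : ℂ) - 1 := by
    have hh : (Sum.elim (fun _ => (0 : F)) η : Unit ⊕ κ → F) ⬝ᵥ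
        (Sum.elim (fun _ => (0 : F)) y : Unit ⊕ κ → F) = 0 := by
      simp only [dotProduct, Fintype.sum_sum_type, Sum.elim_inl, Sum.elim_inr, mul_zero,
        Finset.sum_const_zero, zero_add]
      exact h
    have ht2 : t = tv (Sum.elim (fun _ => (0 : F)) y) (Sum.elim (fun _ => (0 : F)) η) hh := by
      apply Subtype.ext
      rw [htdef, coe_dSL, coe_tv, coe_tv, dMat_tvMat]
    rw [ht2, character_tv_eq hm2 ρ _ _ (h11_utilde_ne_zero y hy) (h11_utilde_ne_zero η hη) hh y hy]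
    exact hc y hy
  rw [hchar, hcount] at hstep
  have h1 : 1 ≤ Fintype.card F ^ (Fintype.card κ - 1) := Nat.one_le_pow _ _ hq1
  rw [Nat.cast_sub h1] at hstep
  push_cast at hstep
  linear_combination -hstep

end D

end Cfsg.Agent.Lib.helper15.SLM
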