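import Mathlib
import Cfsg.Agent.Lib.Helper1.SLN.Defs
import Cfsg.Agent.Lib.Helper21.PresQuot

/-!
# Project SLN (designer helper1), row F5 `pres_quot_one` (helper11), verbatim

One-liner from helper21's landed `PresQuot.quot_one_relator`.
-/

set_option autoImplicit false

namespace Cfsg.Agent.Lib.Helper1.SLN

open Matrix Equiv

universe u v

section FF

/-- F5 [M] (Mathlib only)  `w` a word with `e (mk w) = z`; `rels := insert w R`.  `PresentedGroup (R ∪ {w}) ≃* PresentedGroup R ⧸ normalClosure {mk w}` (both are quotients of the free group; third isomorphism theorem or the two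
universal properties), then transport along `e` (`QuotientGroup.congr`). -/
theorem pres_quot_one {G : Type v} [Group G] {k : ℕ} (R : Finset (FreeGroup (Fin k)))
    (e : PresentedGroup (↑R : Set (FreeGroup (Fin k))) ≃* G) (z : G) :
    ∃ rels : Finset (FreeGroup (Fin k)), rels.card ≤ R.card + 1 ∧
      Nonempty (PresentedGroup (↑rels : Set (FreeGroup (Fin k))) ≃*
        G ⧸ Subgroup.normalClosure ({z} : Set G)) := by
  obtain ⟨rels, hcard, e', -⟩ :=
    Cfsg.Agent.Lib.Helper21.PresQuot.quot_one_relator R e (Subgroup.normalClosure ({z} : Set G)) z rfl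
  exact ⟨rels, hcard, ⟨e'⟩⟩

end FF

end Cfsg.Agent.Lib.Helper1.SLN
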