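import Mathlib
import Cfsg.Agent.Lib.Helper1.SLN.Defs

/-!
# Project SLN (designer helper1), row F6 `center_sl_gen` (helper11), verbatim

The centre of `SL_n(F)` is cyclic (`center_equiv_rootsOfUnity`), so it is the normal closure of one element.
-/

set_option autoImplicit false

namespace Cfsg.Agent.Lib.Helper1.SLN

open Matrix Equiv

universe u v

/-- a cyclic normal subgroup is the normal closure of one element. -/
theorem slnf6_normalClosure_of_cyclic {G : Type*} [Group G] (N : Subgroup G) [N.Normal] [IsCyclic N] :
    ∃ z : G, Subgroup.normalClosure ({z} : Set G) = N := by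
  obtain ⟨g, hg⟩ := IsCyclic.exists_generator (α := N)
  refine ⟨(g : G), le_antisymm ?_ ?_⟩
  · apply Subgroup.normalClosure_le_normal
    intro x hx
    rw [Set.mem_singleton_iff.1 hx]
    exact g.2
  · intro x hx
    obtain ⟨k, hk⟩ := Subgroup.mem_zpowers_iff.1 (hg ⟨x, hx⟩)
    have h1 : x = (g : G) ^ k := by
      have := congrArg (Subtype.val) hk
      simpa using this.symm
    rw [h1]
    exact Subgroup.zpow_mem _ (Subgroup.subset_normalClosure (Set.mem_singleton _)) k

section FF

variable {F : Type u} [Field F]

/-- F6 [M]  `Matrix.SpecialLinearGroup.center_equiv_rootsOfUnity` (`n ≠ 0`): the centre is isomorphic to `rootsOfUnity n F`, cyclic (`rootsOfUnity.isCyclic`); `z` a generator: `zpowers z = center`, normal,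
so `normalClosure {z} = zpowers z` (`Subgroup.normalClosure_le_normal`, `Subgroup.zpowers_le`). -/
theorem center_sl_gen [Fintype F] (n : ℕ) (hn : 0 < n) :
    ∃ z : Matrix.SpecialLinearGroup (Fin n) F,
      Subgroup.normalClosure ({z} : Set (Matrix.SpecialLinearGroup (Fin n) F)) =
        Subgroup.center (Matrix.SpecialLinearGroup (Fin n) F) := by
  have : IsCyclic (Subgroup.center (Matrix.SpecialLinearGroup (Fin n) F)) := by
    have e := Matrix.SpecialLinearGroup.center_equiv_rootsOfUnity (n := Fin n) (R := F)
    have : IsCyclic (rootsOfUnity (max (Fintype.card (Fin n)) 1) F) := inferInstance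
    exact isCyclic_of_surjective e.symm e.symm.surjective
  exact slnf6_normalClosure_of_cyclic _

end FF

end Cfsg.Agent.Lib.Helper1.SLN
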