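import Mathlib
import Cfsg.Agent.Lib.helper17.SLP.Defs
import Cfsg.Agent.Lib.helper3.SP4.Defs

/-!
# Project SP4 (designer helper3), rows FIN2 `card_le_sp4` and FIN3 `hyp_of_words` (helper11): the cores

* `sp4fin2_core`: FIN2 from the conclusions of D9 (`rd_of_hyp`) and E10 (`rd4_card`).
* `sp4fin3_core`: FIN3 from the statements of H1 (`ev_map`), P2 (`ev6_inA`, `ev6_inB`), P3 (`ev6_wordsS6`), P4 (`hyp_iff_rel`).
-/

set_option autoImplicit false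

namespace Cfsg.Agent.Lib.helper3.SP4

open Cfsg.Agent.Lib.helper17.SLP

universe u v

section FIN

variable {F : Type u} [Field F] [Fintype F]

/-- **FIN2 core**. -/
theorem sp4fin2_core {G : Type v} [Group G] (φa φb : Matrix.SpecialLinearGroup (Fin 2) F →* G)
    (hD9 : RD4 (Fintype.card F) (TT φa φb) (RG (rx φa)) (RG (rx φb)) (RG (xc φa φb)) (RG (xd φa φb))
      (rn φa) (rn φb))
    (hE10 : RD4 (Fintype.card F) (TT φa φb) (RG (rx φa)) (RG (rx φb)) (RG (xc φa φb)) (RG (xd φa φb))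
        (rn φa) (rn φb) →
      Finite G ∧ Nat.card G ≤ Nat.card (TT φa φb) * Fintype.card F ^ 4 *
        (1 + 2 * Fintype.card F + 2 * Fintype.card F ^ 2 + 2 * Fintype.card F ^ 3 + Fintype.card F ^ 4)) :
    Finite G ∧ Nat.card G ≤ Nat.card (TT φa φb) * Fintype.card F ^ 4 *
      (1 + 2 * Fintype.card F + 2 * Fintype.card F ^ 2 + 2 * Fintype.card F ^ 3 + Fintype.card F ^ 4) :=
  hE10 hD9

omit [Fintype F] in
/-- **FIN3 core**. -/
theorem sp4fin3_core (ζ : Fˣ) (L : List (FreeGroup (Fin 3))) (az : FreeGroup (Fin 3))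
    (haz : ev (xM (1 : F)) (hM ζ) wM az = xM (ζ : F))
    (hL : ∀ (G : Type) [Group G] (u h w : G), (∀ r ∈ L, ev u h w r = 1) →
      ∃ φ : Matrix.SpecialLinearGroup (Fin 2) F →* G, φ (xM 1) = u ∧ φ (hM ζ) = h ∧ φ wM = w)
    (G : Type) [Group G] (ua ha wa ub hb wb : G)
    (hgen : Subgroup.closure {ua, ha, wa, ub, hb, wb} = ⊤)
    (hrel : ∀ r ∈ L.map inA ++ L.map inB ++ wordsS6 (inA az), ev6 ua ha wa ub hb wb r = 1)
    (hH1 : ∀ (φ : Matrix.SpecialLinearGroup (Fin 2) F →* G) (a b c : Matrix.SpecialLinearGroup (Fin 2) F)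
      (r : FreeGroup (Fin 3)), φ (ev a b c r) = ev (φ a) (φ b) (φ c) r)
    (hP2A : ∀ r : FreeGroup (Fin 3), ev6 ua ha wa ub hb wb (inA r) = ev ua ha wa r)
    (hP2B : ∀ r : FreeGroup (Fin 3), ev6 ua ha wa ub hb wb (inB r) = ev ub hb wb r)
    (hP3 : ∀ za : FreeGroup (Fin 6), (∀ r ∈ wordsS6 za, ev6 ua ha wa ub hb wb r = 1) ↔
      (relS1 ha hb = 1 ∧ relS2 ua hb (ev6 ua ha wa ub hb wb za) = 1 ∧ relS3 ha ub hb = 1 ∧
        relS4 ha wa hb = 1 ∧ relS5 ha hb wb = 1 ∧ relS6 wa wb = 1 ∧ relS7 ua wa wb = 1 ∧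
        relS8 wa ub wb = 1 ∧ relS9 ua wa ub wb = 1 ∧ relS10 ua wa ub wb = 1 ∧ relS11 ua wa ub = 1 ∧
        relS12 wa ub = 1))
    (hP4 : ∀ φa φb : Matrix.SpecialLinearGroup (Fin 2) F →* G, Hyp ζ φa φb ↔
      (relS1 (rh φa ζ) (rh φb ζ) = 1 ∧ relS2 (rx φa 1) (rh φb ζ) (rx φa (ζ : F)) = 1 ∧
        relS3 (rh φa ζ) (rx φb 1) (rh φb ζ) = 1 ∧ relS4 (rh φa ζ) (rn φa) (rh φb ζ) = 1 ∧
        relS5 (rh φa ζ) (rh φb ζ) (rn φb) = 1 ∧ relS6 (rn φa) (rn φb) = 1 ∧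
        relS7 (rx φa 1) (rn φa) (rn φb) = 1 ∧ relS8 (rn φa) (rx φb 1) (rn φb) = 1 ∧
        relS9 (rx φa 1) (rn φa) (rx φb 1) (rn φb) = 1 ∧ relS10 (rx φa 1) (rn φa) (rx φb 1) (rn φb) = 1 ∧
        relS11 (rx φa 1) (rn φa) (rx φb 1) = 1 ∧ relS12 (rn φa) (rx φb 1) = 1)) :
    ∃ φa φb : Matrix.SpecialLinearGroup (Fin 2) F →* G, Hyp ζ φa φb ∧ rh φa ζ = ha ∧
      Subgroup.closure (Set.range φa ∪ Set.range φb) = ⊤ := by
  -- the three blocks of relators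
  have hrelA : ∀ r ∈ L, ev ua ha wa r = 1 := by
    intro r hr
    rw [← hP2A r]
    exact hrel _ (List.mem_append_left _ (List.mem_append_left _ (List.mem_map_of_mem hr)))
  have hrelB : ∀ r ∈ L, ev ub hb wb r = 1 := by
    intro r hr
    rw [← hP2B r]
    exact hrel _ (List.mem_append_left _ (List.mem_append_right _ (List.mem_map_of_mem hr)))
  have hrelS : ∀ r ∈ wordsS6 (inA az), ev6 ua ha wa ub hb wb r = 1 :=
    fun r hr => hrel _ (List.mem_append_right _ hr)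
  obtain ⟨φa, hau, hah, haw⟩ := hL G ua ha wa hrelA
  obtain ⟨φb, hbu, hbh, hbw⟩ := hL G ub hb wb hrelB
  have hza : ev6 ua ha wa ub hb wb (inA az) = rx φa (ζ : F) := by
    rw [hP2A az, ← hau, ← hah, ← haw, ← hH1 φa, haz]
    rfl
  have h12 := (hP3 (inA az)).1 hrelS
  rw [hza] at h12
  refine ⟨φa, φb, (hP4 φa φb).2 ?_, hah, ?_⟩
  · have e1 : rx φa 1 = ua := hau
    have e2 : rh φa ζ = ha := hah
    have e3 : rn φa = wa := haw
    have e4 : rx φb 1 = ub := hbu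
    have e5 : rh φb ζ = hb := hbh
    have e6 : rn φb = wb := hbw
    rw [e1, e2, e3, e4, e5, e6]
    exact h12
  · rw [eq_top_iff, ← hgen, Subgroup.closure_le]
    intro g hg
    apply Subgroup.subset_closure
    simp only [Set.mem_insert_iff, Set.mem_singleton_iff] at hg
    rcases hg with rfl | rfl | rfl | rfl | rfl | rfl
    · exact Or.inl ⟨_, hau⟩
    · exact Or.inl ⟨_, hah⟩
    · exact Or.inl ⟨_, haw⟩
    · exact Or.inr ⟨_, hbu⟩
    · exact Or.inr ⟨_, hbh⟩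
    · exact Or.inr ⟨_, hbw⟩

end FIN

end Cfsg.Agent.Lib.helper3.SP4
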