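import Mathlib
import Cfsg.Agent.Lib.helper17.SLP.Defs
import Cfsg.Agent.Lib.helper3.SP4.Defs
import Cfsg.Agent.Lib.Helper22.SP4D9
import Cfsg.Agent.Lib.helper3.SP4E10
import Cfsg.Agent.Lib.Helper11.SP4FIN2core

/-!
# Project SP4 (designer helper3), row FIN2 `card_le_sp4` (helper11), verbatim

`sp4fin2_core` on the landed D9 (`Helper22.SP4D9`) and E10 (`helper3.SP4E10`).
-/

set_option autoImplicit false

namespace Cfsg.Agent.Lib.helper3.SP4

open Cfsg.Agent.Lib.helper17.SLP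
open Polynomial

universe u v

section FIN

variable {F : Type u} [Field F] [Fintype F]

/-- FIN2 [S]  deps D9 E10. -/
theorem card_le_sp4 (ζ : Fˣ) (hζ : ∀ y : Fˣ, y ∈ Subgroup.zpowers ζ) {G : Type v} [Group G]
    (φa φb : Matrix.SpecialLinearGroup (Fin 2) F →* G) (H : Hyp ζ φa φb)
    (hgen : Subgroup.closure (Set.range φa ∪ Set.range φb) = ⊤) :
    Finite G ∧ Nat.card G ≤ Nat.card (TT φa φb) * Fintype.card F ^ 4 *
      (1 + 2 * Fintype.card F + 2 * Fintype.card F ^ 2 + 2 * Fintype.card F ^ 3 + Fintype.card F ^ 4) :=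
  sp4fin2_core φa φb (rd_of_hyp ζ hζ φa φb H hgen)
    (fun D => rd4_card (Fintype.card F) (TT φa φb) (RG (rx φa)) (RG (rx φb)) (RG (xc φa φb))
      (RG (xd φa φb)) (rn φa) (rn φb) D)

end FIN

end Cfsg.Agent.Lib.helper3.SP4
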