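import Mathlib
import Cfsg.Agent.Lib.helper17.SLP.Defs
import Cfsg.Agent.Lib.helper3.SP4.Defs
import Cfsg.Agent.Lib.Helper9.SP4H1
import Cfsg.Agent.Lib.Helper9.SP4P2
import Cfsg.Agent.Lib.Helper11.SP4FIN2core

/-!
# Project SP4 (designer helper3), row FIN3 `hyp_of_words` (helper11), verbatim

`sp4fin3_core` on the landed H1 (`Helper9.SP4H1`) and P2 P3 P4 (`Helper9.SP4P2`).
-/

set_option autoImplicit false

namespace Cfsg.Agent.Lib.helper3.SP4

open Cfsg.Agent.Lib.helper17.SLP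
open Polynomial

universe u v

section FIN

variable {F : Type u} [Field F] [Fintype F]

/-- FIN3 [M]  deps H1 H6 P2 P3 P4.  `(L, az)` from H6, `L6 := L.map inA ++ L.map inB ++ wordsS6 (inA az)`.  Given the six elements with all relators `1`: P2 turns the first two blocks into `∀ r ∈ L, ev ua ha wa r = 1`, `ev ub hb wb r = 1`;
H6 gives `φa`, `φb`; `ev6 … (inA az) = ev ua ha wa az = φa (ev (xM 1) (hM ζ) wM az) = φa (xM ζ) = rx φa ζ` (H1); P3 + P4 (with `rx φa 1 = ua`, `rh φa ζ = ha`, `rn φa = wa`, …) give `Hyp`.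
`hgen'`: the six elements lie in `range φa ∪ range φb`. -/
theorem hyp_of_words (ζ : Fˣ) (L : List (FreeGroup (Fin 3))) (az : FreeGroup (Fin 3))
    (haz : ev (xM (1 : F)) (hM ζ) wM az = xM (ζ : F))
    (hL : ∀ (G : Type) [Group G] (u h w : G), (∀ r ∈ L, ev u h w r = 1) →
      ∃ φ : Matrix.SpecialLinearGroup (Fin 2) F →* G, φ (xM 1) = u ∧ φ (hM ζ) = h ∧ φ wM = w)
    (G : Type) [Group G] (ua ha wa ub hb wb : G)
    (hgen : Subgroup.closure {ua, ha, wa, ub, hb, wb} = ⊤)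
    (hrel : ∀ r ∈ L.map inA ++ L.map inB ++ wordsS6 (inA az), ev6 ua ha wa ub hb wb r = 1) :
    ∃ φa φb : Matrix.SpecialLinearGroup (Fin 2) F →* G, Hyp ζ φa φb ∧ rh φa ζ = ha ∧
      Subgroup.closure (Set.range φa ∪ Set.range φb) = ⊤ :=
  sp4fin3_core ζ L az haz hL G ua ha wa ub hb wb hgen hrel
    (fun φ a b c r => ev_map φ a b c r)
    (fun r => ev6_inA ua ha wa ub hb wb r) (fun r => ev6_inB ua ha wa ub hb wb r)
    (fun za => ev6_wordsS6 ua ha wa ub hb wb za)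
    (fun φa φb => hyp_iff_rel ζ φa φb)

end FIN

end Cfsg.Agent.Lib.helper3.SP4
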