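import Mathlib
import Cfsg.Agent.Lib.Lead.SPN.Defs
import Cfsg.Agent.Lib.Lead.SPN.Defs2
import Cfsg.Agent.Lib.Lead.STB.Defs
import Cfsg.Agent.Lib.Lead.STB.Defs2
import Cfsg.Agent.Lib.Helper16.SpinG2
import Cfsg.Agent.Lib.Helper11.SPNC6
import Cfsg.Agent.Lib.Helper11.SPNC16

/-!
# Project SPB (family of S2094, designer lead), the Clifford block `C'`: the Steinberg system of type `B` in the Clifford algebra of `x₀² + Σ xᵢ yᵢ`.  Writer: helper11.

`ClB l F = CliffordAlgebra (qfOdd l F)`; `embCl : Cl l F →ₐ[F] ClB l F` is induced by the isometric embedding `v ↦ (0, v)`; `gamB a = embCl (gam a)`, `gam0 = ι (e₀)`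
(`gam0² = 1`, `gam0` anticommutes with every `gamB a`).  The long root elements are the images of those of SPN (`XC a b t = 1 + t γ_a γ_{-b}`), so all the `SysD` relations are inherited
(`SysD.map`); the short root elements are `XCs a t = 1 + t γ_a γ₀`.  `sysB l F : SysB F (Fin l) (ClB l F)ˣ`, its short spin elements are `hs a (-1) = -1`, and `-1 ≠ 1` if `2 ≠ 0`.
-/

set_option autoImplicit false

namespace Cfsg.Agent.Lib.Helper11.SPBC

open Cfsg.Agent.Lib.helper15.St2 Cfsg.Agent.Lib.helper3.STC Cfsg.Agent.Lib.Lead.STD Cfsg.Agent.Lib.Helper16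
  Cfsg.Agent.Lib.Lead.SPN Cfsg.Agent.Lib.Lead.STB

universe u

section Defs

variable (l : ℕ) (F : Type u) [Field F]

/-- the Clifford algebra of `x₀² + Σ xᵢ yᵢ` -/
abbrev ClB : Type u := CliffordAlgebra (qfOdd l F)

/-- `v ↦ (0, v)` -/
def embV : (Fin l ⊕ Fin l → F) →ₗ[F] (Unit ⊕ (Fin l ⊕ Fin l) → F) where
  toFun v := Sum.elim (fun _ => 0) v
  map_add' v w := by
    funext x
    rcases x with x | x <;> simp
  map_smul' c v := by
    funext x
    rcases x with x | x <;> simp

theorem embV_inl (v : Fin l ⊕ Fin l → F) (x : Unit) : embV l F v (Sum.inl x) = 0 := rfl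

theorem embV_inr (v : Fin l ⊕ Fin l → F) (x : Fin l ⊕ Fin l) : embV l F v (Sum.inr x) = v x := rfl

/-- the isometric embedding of the hyperbolic space -/
def embQ : qfPlus l F →qᵢ qfOdd l F :=
  { embV l F with
    map_app' := by
      intro v
      show qfOdd l F (embV l F v) = qfPlus l F v
      rw [qfOdd_coe, qfPlus_coe]
      unfold Cfsg.quadFormOdd Cfsg.quadFormPlus
      simp only [embV_inl, embV_inr]
      simp }

theorem embQ_apply (v : Fin l ⊕ Fin l → F) : embQ l F v = embV l F v := rfl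

/-- the embedding of the Clifford algebras -/
noncomputable def embCl : Cl l F →ₐ[F] ClB l F := CliffordAlgebra.map (embQ l F)

variable {l F}

/-- the generators `γ_a` in `ClB` -/
noncomputable def gamB (a : Fin l ⊕ Fin l) : ClB l F := CliffordAlgebra.ι (qfOdd l F) (Pi.single (Sum.inr a) 1)

/-- the generator `γ₀` -/
noncomputable def gam0 : ClB l F := CliffordAlgebra.ι (qfOdd l F) (Pi.single (Sum.inl ()) 1)

theorem embV_single (a : Fin l ⊕ Fin l) : embV l F (Pi.single a 1) = Pi.single (Sum.inr a) 1 := by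
  funext x
  rcases x with x | x
  · rw [embV_inl, Pi.single_apply, if_neg (by simp)]
  · rw [embV_inr, Pi.single_apply, Pi.single_apply]
    by_cases h : x = a
    · rw [if_pos h, if_pos (by rw [h])]
    · rw [if_neg h, if_neg (fun e => h (Sum.inr.inj e))]

theorem embCl_gam (a : Fin l ⊕ Fin l) : embCl l F (gam a) = gamB a := by
  unfold embCl gam gamB
  rw [CliffordAlgebra.map_apply_ι, embQ_apply, embV_single]

theorem gamB_sq (a : Fin l ⊕ Fin l) : gamB (F := F) a * gamB a = 0 := by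
  rw [← embCl_gam, ← map_mul, gam_sq, map_zero]

theorem gamB_car (a b : Fin l ⊕ Fin l) :
    gamB (F := F) a * gamB b + gamB b * gamB a = if a = ng b then 1 else 0 := by
  rw [← embCl_gam, ← embCl_gam, ← map_mul, ← map_mul, ← map_add, gam_car]
  split_ifs <;> simp

theorem gamB_anti {a b : Fin l ⊕ Fin l} (h : a ≠ ng b) : gamB (F := F) a * gamB b = -(gamB b * gamB a) := by
  rw [← embCl_gam, ← embCl_gam, ← map_mul, ← map_mul, gam_anti h, map_neg]

theorem gam0_sq : gam0 (l := l) (F := F) * gam0 = 1 := by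
  unfold gam0
  rw [CliffordAlgebra.ι_sq_scalar, qfOdd_coe]
  unfold Cfsg.quadFormOdd
  simp

theorem gam0_anti (a : Fin l ⊕ Fin l) : gam0 (F := F) * gamB a = -(gamB a * gam0) := by
  have h : gam0 (F := F) * gamB a + gamB a * gam0 = 0 := by
    unfold gam0 gamB
    rw [CliffordAlgebra.ι_mul_ι_add_swap, qfOdd_coe, polar_odd]
    simp
  exact eq_neg_of_add_eq_zero_left h

theorem gamB_gam0 (a : Fin l ⊕ Fin l) : gamB (F := F) a * gam0 = -(gam0 * gamB a) := by
  rw [gam0_anti, neg_neg]

end Defs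

/-! ## generic ring identities -/

section Rings

variable {R : Type*} [Ring R]

theorem spbc_pqpr {p q r : R} (hp : p * p = 0) (hpq : p * q = -(q * p)) : p * q * (p * r) = 0 := by
  calc p * q * (p * r) = (p * q) * p * r := by noncomm_ring
    _ = -(q * (p * p) * r) := by rw [hpq]; noncomm_ring
    _ = 0 := by rw [hp]; simp

theorem spbc_pqqr {p q r : R} (hq : q * q = 0) : p * q * (q * r) = 0 := by
  calc p * q * (q * r) = p * (q * q) * r := by noncomm_ring
    _ = 0 := by rw [hq]; simp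

theorem spbc_pzqz {p q z : R} (hz : z * z = 1) (hzq : z * q = -(q * z)) : p * z * (q * z) = -(p * q) := by
  calc p * z * (q * z) = p * (z * q) * z := by noncomm_ring
    _ = -(p * q * (z * z)) := by rw [hzq]; noncomm_ring
    _ = -(p * q) := by rw [hz, mul_one]

theorem spbc_pmqz {p m q z : R} (hmq : m * q + q * m = 1) (hzp : z * p = -(p * z)) (hzm : z * m = -(m * z))
    (hqp : q * p = -(p * q)) : p * m * (q * z) = q * z * (p * m) + p * z := by
  have h1 : q * z * (p * m) = -(p * (q * m) * z) := by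
    calc q * z * (p * m) = q * (z * p) * m := by noncomm_ring
      _ = -((q * p) * (z * m)) := by rw [hzp]; noncomm_ring
      _ = -(p * (q * m) * z) := by rw [hqp, hzm]; noncomm_ring
  have h2 : q * m = 1 - m * q := by rw [← hmq]; abel
  rw [h1, h2]
  noncomm_ring

/-- the shape of `ls` -/
theorem spbc_ls_ring {A B E N : R} (hAN : A * N = 0) (hAB : A * B = -N) (hAE : A * E = 0) (hNB : N * B = 0)
    (hEB : E * B = B * E + A) : (1 + E) * (1 + B) = (1 + A) * (1 + N) * (1 + B) * (1 + E) := by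
  have h1 : (1 + A) * (1 + N) = 1 + A + N := by
    rw [mul_add, mul_one, add_mul, one_mul, hAN, add_zero]
  have h2 : (1 + A + N) * (1 + B) = 1 + A + B := by
    rw [mul_add, mul_one, add_mul, add_mul, one_mul, hAB, hNB]; abel
  have h3 : (1 + A + B) * (1 + E) = 1 + A + B + E + B * E := by
    rw [mul_add, mul_one, add_mul, add_mul, one_mul, hAE]; abel
  rw [h1, h2, h3, add_mul, one_mul, mul_add, mul_one, hEB]
  abel

/-- the shape of `ss` -/
theorem spbc_ss_ring {A B M : R} (hMB : M * B = 0) (hMA : M * A = 0) (hAB : A * B = M + B * A) :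
    (1 + A) * (1 + B) = (1 + M) * (1 + B) * (1 + A) := by
  have h1 : (1 + M) * (1 + B) = 1 + M + B := by
    rw [mul_add, mul_one, add_mul, one_mul, hMB, add_zero]
  have hL : (1 + A) * (1 + B) = 1 + A + B + A * B := by noncomm_ring
  have hR : (1 + M + B) * (1 + A) = 1 + M + B + A + M * A + B * A := by noncomm_ring
  rw [h1, hL, hR, hMA, hAB]
  abel

/-- the Weyl element of a rank one pair `e f` with `e f + f e = -1` -/
theorem spbc_w_ring {e f : R} (he : e * e = 0) (hef : e * f + f * e = -1) :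
    (1 + e) * (1 + f) * (1 + e) = e + f := by
  have h1 : e * f * e = -e := by
    have : e * f = -1 - f * e := by rw [← hef]; abel
    rw [this, sub_mul, neg_mul, one_mul, mul_assoc, he, mul_zero, sub_zero]
  have h2 : (1 + e) * (1 + f) * (1 + e) = 1 + e + f + (e * f + f * e) + e * e + e * f * e + e := by noncomm_ring
  rw [h2, hef, he, h1]
  abel

end Rings

/-! ## the root elements -/

section Roots

variable {l : ℕ} {F : Type u} [Field F]

/-- the nilpotent `γ_a γ₀` of the short root `e_a` -/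
noncomputable def NS (a : Fin l ⊕ Fin l) : ClB l F := gamB a * gam0

/-- `γ_a γ_{-b}`, the image of `EE a b` -/
noncomputable def EB (a b : Fin l ⊕ Fin l) : ClB l F := gamB a * gamB (ng b)

theorem embCl_EE (a b : Fin l ⊕ Fin l) : embCl l F (EE a b) = EB a b := by
  unfold EE EB
  rw [map_mul, embCl_gam, embCl_gam]

theorem NS_sq (a : Fin l ⊕ Fin l) : NS (F := F) a * NS a = 0 := by
  unfold NS
  have := spbc_pqpr (r := gam0) (gamB_sq (F := F) a) (gamB_gam0 a)
  exact this

/-- the short root elements `1 + t γ_a γ₀` -/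
noncomputable def XCs (a : Fin l ⊕ Fin l) (t : F) : (ClB l F)ˣ := unitSqZero (NS a) (NS_sq a) t

theorem XCs_val (a : Fin l ⊕ Fin l) (t : F) : ((XCs a t : (ClB l F)ˣ) : ClB l F) = 1 + t • NS a := rfl

variable (l F) in
/-- the map of the unit groups -/
noncomputable def embU : (Cl l F)ˣ →* (ClB l F)ˣ := Units.map ((embCl l F : Cl l F →ₐ[F] ClB l F) : Cl l F →* ClB l F)

theorem embU_val (g : (Cl l F)ˣ) : ((embU l F g : (ClB l F)ˣ) : ClB l F) = embCl l F (g : Cl l F) := rfl

theorem embU_XC_val {a b : Fin l ⊕ Fin l} (hab : a ≠ b) (hab' : a ≠ ng b) (t : F) :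
    ((embU l F (XC a b t) : (ClB l F)ˣ) : ClB l F) = 1 + t • EB a b := by
  rw [embU_val, XC_val hab hab', map_add, map_one, map_smul, embCl_EE]

theorem NS_mul_NS (a b : Fin l ⊕ Fin l) : NS (F := F) a * NS b = -(gamB a * gamB b) := by
  unfold NS
  exact spbc_pzqz gam0_sq (gam0_anti b)

theorem EB_ng (a b : Fin l ⊕ Fin l) : EB (F := F) a (ng b) = gamB a * gamB b := by
  unfold EB
  rw [ng_ng]

theorem NS_mul_gamB_mul (a : Fin l ⊕ Fin l) (x : ClB l F) : NS (F := F) a * (gamB a * x) = 0 := by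
  unfold NS
  exact spbc_pqpr (gamB_sq a) (gamB_gam0 a)

theorem gamB_mul_NS (a b : Fin l ⊕ Fin l) : gamB (F := F) a * gamB b * NS b = 0 := by
  unfold NS
  exact spbc_pqqr (gamB_sq b)

theorem gamB_mul_NS' {a b : Fin l ⊕ Fin l} (h : a ≠ ng b) : gamB (F := F) a * gamB b * NS a = 0 := by
  unfold NS
  exact spbc_pqpr (gamB_sq a) (gamB_anti h)

theorem spbc_ng_symm {a b : Fin l ⊕ Fin l} (h : a ≠ ng b) : b ≠ ng a := by
  intro e
  apply h
  rw [e, ng_ng]

theorem EB_mul_NS {a b : Fin l ⊕ Fin l} (hab' : a ≠ ng b) : EB (F := F) a b * NS b = NS b * EB a b + NS a := by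
  unfold EB NS
  apply spbc_pmqz
  · have := gamB_car (F := F) (ng b) b
    rw [if_pos rfl] at this
    exact this
  · exact gam0_anti a
  · exact gam0_anti (ng b)
  · exact gamB_anti (spbc_ng_symm hab')

theorem NS_pair (a : Fin l ⊕ Fin l) : NS (F := F) a * NS (ng a) + NS (ng a) * NS a = -1 := by
  rw [NS_mul_NS, NS_mul_NS, ← neg_add]
  have := gamB_car (F := F) a (ng a)
  rw [if_pos (ng_ng a).symm] at this
  rw [this]

theorem XCs_add (a : Fin l ⊕ Fin l) (t u : F) : XCs (F := F) a t * XCs a u = XCs a (t + u) := by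
  apply Units.ext
  rw [Units.val_mul, XCs_val, XCs_val, XCs_val, spnc6_expand, NS_sq, smul_zero, add_zero, add_smul]
  abel

theorem XCs_comm_L (a c d : Fin l ⊕ Fin l) (hcd : c ≠ d) (hcd' : c ≠ ng d) (hda : d ≠ a) (hca : c ≠ ng a) (t u : F) :
    XCs (F := F) a t * embU l F (XC c d u) = embU l F (XC c d u) * XCs a t := by
  apply Units.ext
  rw [Units.val_mul, Units.val_mul, XCs_val, embU_XC_val hcd hcd']
  have h : NS (F := F) a * EB c d = EB c d * NS a := by
    unfold NS EB
    apply spnc6_ring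
    · exact gam0_anti c
    · exact gam0_anti (ng d)
    · exact gamB_anti (spbc_ng_symm hca)
    · apply gamB_anti
      rw [ng_ng]
      exact fun e => hda e.symm
  rw [spnc6_expand, spnc6_expand, h, mul_comm t u]
  abel

/-- a commutator identity in a group -/
theorem spbc_comm_of_eq {G : Type*} [Group G] {g h k : G} (e : g * h = k * h * g) : g * h * g⁻¹ * h⁻¹ = k := by
  rw [e]; group

theorem XC_ls (a b : Fin l ⊕ Fin l) (hab : a ≠ b) (hab' : a ≠ ng b) (t u : F) :
    embU l F (XC a b t) * XCs b u * (embU l F (XC a b t))⁻¹ * (XCs b u)⁻¹ =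
      XCs a (t * u) * embU l F (XC a (ng b) (t * u ^ 2)) := by
  apply spbc_comm_of_eq
  apply Units.ext
  have hab2 : a ≠ ng (ng b) := by rw [ng_ng]; exact hab
  rw [Units.val_mul, Units.val_mul, Units.val_mul, Units.val_mul, XCs_val, XCs_val, embU_XC_val hab hab',
    embU_XC_val hab' hab2, EB_ng]
  apply spbc_ls_ring
  · rw [smul_mul_smul_comm, NS_mul_gamB_mul, smul_zero]
  · rw [smul_mul_smul_comm, NS_mul_NS, smul_neg]
    congr 2
    ring
  · rw [smul_mul_smul_comm]
    unfold EB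
    rw [NS_mul_gamB_mul, smul_zero]
  · rw [smul_mul_smul_comm, gamB_mul_NS, smul_zero]
  · rw [smul_mul_smul_comm, smul_mul_smul_comm, EB_mul_NS hab', smul_add, mul_comm u t]

theorem XCs_ss (a b : Fin l ⊕ Fin l) (hab : a ≠ b) (hab' : a ≠ ng b) (t u : F) :
    XCs (F := F) a t * XCs b u * (XCs a t)⁻¹ * (XCs b u)⁻¹ = embU l F (XC a (ng b) (-(2 * t * u))) := by
  apply spbc_comm_of_eq
  apply Units.ext
  have hab2 : a ≠ ng (ng b) := by rw [ng_ng]; exact hab
  rw [Units.val_mul, Units.val_mul, Units.val_mul, XCs_val, XCs_val, embU_XC_val hab' hab2, EB_ng]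
  apply spbc_ss_ring
  · rw [smul_mul_smul_comm, gamB_mul_NS, smul_zero]
  · rw [smul_mul_smul_comm, gamB_mul_NS' hab', smul_zero]
  · rw [smul_mul_smul_comm, smul_mul_smul_comm, NS_mul_NS, NS_mul_NS, gamB_anti (spbc_ng_symm hab'), neg_neg, smul_neg,
      ← neg_smul, ← add_smul]
    congr 1
    ring

/-- the value of the short Weyl element -/
theorem spbc_ws_val (a : Fin l ⊕ Fin l) (t : F) (ht : t ≠ 0) :
    ((XCs a t * XCs (ng a) t⁻¹ * XCs a t : (ClB l F)ˣ) : ClB l F) = t • NS a + t⁻¹ • NS (ng a) := by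
  rw [Units.val_mul, Units.val_mul, XCs_val, XCs_val]
  apply spbc_w_ring
  · exact smul_sq_zero _ (NS_sq a) t
  · rw [smul_mul_smul_comm, smul_mul_smul_comm, mul_inv_cancel₀ ht, inv_mul_cancel₀ ht, one_smul, one_smul, NS_pair]

theorem spbc_rel_alg {A : Type*} [Ring A] [Algebra F A] {e f : A} (he : e * e = 0) (hf : f * f = 0) (t u : F) (ht : t ≠ 0) :
    (t • e + t⁻¹ • f) * (1 + u • e) = (1 + (t⁻¹ ^ 2 * u) • f) * (t • e + t⁻¹ • f) := by
  have h1 : t⁻¹ ^ 2 * u * t = t⁻¹ * u := by field_simp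
  simp only [mul_add, add_mul, mul_one, one_mul, smul_mul_smul_comm, he, hf, smul_zero, add_zero, h1]
  abel

theorem spbc_cj_of_eq {G : Type*} [Group G] {g y z : G} (e : g * y = z * g) : cj g y = z := by
  unfold cj
  rw [e]; group

theorem XCs_rels (a : Fin l ⊕ Fin l) (t u : F) (ht : t ≠ 0) :
    cj (XCs (F := F) a t * XCs (ng a) t⁻¹ * XCs a t) (XCs a u) = XCs (ng a) (t⁻¹ ^ 2 * u) := by
  apply spbc_cj_of_eq
  apply Units.ext
  rw [Units.val_mul, Units.val_mul (XCs (ng a) (t⁻¹ ^ 2 * u)), spbc_ws_val a t ht, XCs_val, XCs_val]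
  exact spbc_rel_alg (NS_sq a) (NS_sq (ng a)) t u ht

theorem spbc_ws_sq (a : Fin l ⊕ Fin l) (t : F) (ht : t ≠ 0) :
    (XCs (F := F) a t * XCs (ng a) t⁻¹ * XCs a t) * (XCs a t * XCs (ng a) t⁻¹ * XCs a t) = -1 := by
  apply Units.ext
  rw [Units.val_mul, spbc_ws_val a t ht, Units.val_neg, Units.val_one]
  simp only [mul_add, add_mul, smul_mul_smul_comm, NS_sq, smul_zero, add_zero, zero_add, mul_inv_cancel₀ ht, inv_mul_cancel₀ ht,
    one_smul]
  rw [add_comm]
  exact NS_pair (F := F) a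

end Roots

/-! ## the system -/

section Sys

variable (l : ℕ) (F : Type u) [Field F]

/-- the Steinberg system of type `B` of the Clifford algebra -/
noncomputable def sysB : SysB F (Fin l) (ClB l F)ˣ where
  toSysD := (spnc16_sys l F).map (embU l F)
  xs := XCs
  adds := XCs_add
  comm_ls := XCs_comm_L
  ls := XC_ls
  ss := XCs_ss
  rels := XCs_rels

theorem sysB_x (a b : Fin l ⊕ Fin l) (t : F) : (sysB l F).x a b t = embU l F (XC a b t) := rfl

theorem sysB_xs (a : Fin l ⊕ Fin l) (t : F) : (sysB l F).xs a t = XCs a t := rfl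

/-- **the short spin elements are `-1`** -/
theorem sysB_hs_neg_one (a : Fin l ⊕ Fin l) : (sysB l F).hs a (-1) = -1 := by
  unfold SysB.hs SysB.ws
  exact spbc_ws_sq a (-1) (by simp)

/-- `-1 ≠ 1` in `ClB l F` in odd characteristic -/
theorem neg_one_ne_one_ClB {F : Type u} [Field F] (h2 : (2 : F) ≠ 0) : (-1 : (ClB l F)ˣ) ≠ 1 := by
  have : Invertible (2 : F) := invertibleOfNonzero h2
  have : Nontrivial (ClB l F) := inferInstance
  intro h
  have h1 : (-1 : ClB l F) = 1 := by
    have := congrArg (fun x : (ClB l F)ˣ => (x : ClB l F)) h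
    simpa using this
  have h3 : (2 : ClB l F) = 0 := by
    have : (1 : ClB l F) + 1 = 0 := by
      nth_rewrite 1 [← h1]
      exact neg_add_cancel 1
    rw [← this]; norm_num
  have h4 : algebraMap F (ClB l F) 2 = 0 := by
    rw [map_ofNat]; exact h3
  have := (algebraMap F (ClB l F)).injective (a₁ := 2) (a₂ := 0) (by rw [h4, map_zero])
  exact h2 this

/-- **the Clifford system of type `B`** -/
theorem exists_cliffSysB : ∃ S : SysB F (Fin l) (ClB l F)ˣ, (∀ a b t, S.x a b t = embU l F (XC a b t)) ∧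
    (∀ a t, S.xs a t = XCs a t) ∧ ∀ a, S.hs a (-1) = -1 :=
  ⟨sysB l F, fun _ _ _ => rfl, fun _ _ => rfl, sysB_hs_neg_one l F⟩

end Sys

end Cfsg.Agent.Lib.Helper11.SPBC
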