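import Mathlib
import Cfsg.Prelude.Def_Classical
import Cfsg.Prelude.Def_KGroupFacts
import Cfsg.Agent.Lib.helper3.SPB.Defs
import Cfsg.Agent.Lib.Helper11.SPNC6
import Cfsg.Agent.Lib.Helper11.SPNC16
import Cfsg.Agent.Lib.Helper11.SPBC

/-!
# Project SPB (designer helper3; S2094), rows C3 C4 C5 C6 C7 C8 C9 C11 C12 C13 of the Clifford block, verbatim vs `helper3/SPB/Skel.lean.txt`.  Writer: helper11.
Ports of the proofs of `Helper11.SPBC` (the same block with `γ_a γ_0` instead of `Y_a = γ_0 γ_a`); the generic ring identities `spbc_*` are cited from there.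
Own-name copies of the C1 / C2 facts used: `spbc3_YY_mul`, `spbc3_YY_opp`, `spbc3_XCs_add`.
-/

set_option autoImplicit false

namespace Cfsg.Agent.Lib.helper3.SPB

open Cfsg.Agent.Lib.helper15.St2 Cfsg.Agent.Lib.helper3.STC Cfsg.Agent.Lib.Lead.STD Cfsg.Agent.Lib.Lead.STB
  Cfsg.Agent.Lib.Lead.SPN Cfsg.Agent.Lib.Helper16 Cfsg.Agent.Lib.Helper12.OMB
open Cfsg.Agent.Lib.Helper11.SPBC (spbc_pqpr spbc_pqqr spbc_pzqz spbc_pmqz spbc_ls_ring spbc_ss_ring spbc_w_ring spbc_rel_alg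
  spbc_comm_of_eq spbc_cj_of_eq)

universe u v w

section C

variable {l : ℕ} {F : Type u} [Field F]

theorem spbc3_YY_eq (a : Fin l ⊕ Fin l) : YY (F := F) a = -(gamB a * gam0) := by
  unfold YY
  exact gam0_anti a

/-- own-name copy of C1 `YY_mul` -/
theorem spbc3_YY_mul (a b : Fin l ⊕ Fin l) : YY (F := F) a * YY b = -(gamB a * gamB b) := by
  rw [spbc3_YY_eq, spbc3_YY_eq, neg_mul_neg]
  exact spbc_pzqz gam0_sq (gam0_anti b)

/-- own-name copy of C1 `YY_opp` -/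
theorem spbc3_YY_opp (a : Fin l ⊕ Fin l) : YY (F := F) a * YY (ng a) + YY (ng a) * YY a = -1 := by
  rw [spbc3_YY_mul, spbc3_YY_mul, ← neg_add]
  have := gamB_car (F := F) a (ng a)
  rw [if_pos (ng_ng a).symm] at this
  rw [this]

/-- own-name copy of C2 `XCs_add` -/
theorem spbc3_XCs_add (a : Fin l ⊕ Fin l) (t u : F) : XCs (F := F) a t * XCs a u = XCs a (t + u) := by
  apply Units.ext
  rw [Units.val_mul, XCs_val, XCs_val, XCs_val, spnc6_expand, YY_sq, smul_zero, add_zero, add_smul]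
  abel

theorem spbc3_ng_symm {a b : Fin l ⊕ Fin l} (h : a ≠ ng b) : b ≠ ng a := by
  intro e
  apply h
  rw [e, ng_ng]

/-- C3 [S]  `E_ab² = 0` for `a ≠ b` (`phi_EE`, SPN `EE_sq` of `Lead/SPN/Defs.lean`, `map_mul`, `map_zero`; or directly). -/
theorem EB_sq {a b : Fin l ⊕ Fin l} (hab : a ≠ b) : EB (F := F) a b * EB a b = 0 := by
  rw [← phi_EE, ← map_mul, EE_sq hab, map_zero]

/-- C3 [S-M]  `E_ab Y_a = γ_a γ_{-b} γ_0 γ_a = γ_0 γ_a γ_{-b} γ_a = -γ_0 γ_a γ_a γ_{-b} = 0` (`ng b ≠ ng a`) and `Y_a E_ab = γ_0 γ_a γ_a γ_{-b} = 0`. -/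
theorem EB_YY_same {a b : Fin l ⊕ Fin l} (hab : a ≠ b) : EB (F := F) a b * YY a = 0 ∧ YY (F := F) a * EB a b = 0 := by
  constructor
  · rw [spbc3_YY_eq, mul_neg, neg_eq_zero]
    unfold EB
    apply spbc_pqpr (gamB_sq a)
    apply gamB_anti
    rw [ng_ng]
    exact hab
  · unfold YY EB
    exact spbc_pqqr (gamB_sq a)

/-- C3 [S-M]  `[E_ab, Y_b] = Y_a`: `E_ab Y_b = γ_0 γ_a γ_{-b} γ_b`, `Y_b E_ab = γ_0 γ_b γ_a γ_{-b} = -γ_0 γ_a γ_b γ_{-b}` (`a ≠ ng b`), then `gamB_car (ng b) b`. -/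
theorem EB_bracket_YY {a b : Fin l ⊕ Fin l} (hab' : a ≠ ng b) : EB (F := F) a b * YY b - YY b * EB a b = YY a := by
  have h : gamB (F := F) a * gamB (ng b) * (gamB b * gam0) = gamB b * gam0 * (gamB a * gamB (ng b)) + gamB a * gam0 := by
    apply spbc_pmqz
    · have := gamB_car (F := F) (ng b) b
      rw [if_pos rfl] at this
      exact this
    · exact gam0_anti a
    · exact gam0_anti (ng b)
    · exact gamB_anti (spbc3_ng_symm hab')
  rw [spbc3_YY_eq, spbc3_YY_eq]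
  unfold EB
  rw [mul_neg, neg_mul, h]
  abel

/-- C4 [S-M]  `Y_a` commutes with `E_cd = γ_c γ_{-d}` when `d ≠ a` and `c ≠ ng a`: each of `γ_0, γ_a` anticommutes with each of `γ_c, γ_{-d}` (`gam0_anti`, `gamB_gam0`, `gamB_anti`). -/
theorem YY_comm_EB {a c d : Fin l ⊕ Fin l} (hda : d ≠ a) (hca : c ≠ ng a) : YY (F := F) a * EB c d = EB c d * YY a := by
  unfold YY EB
  apply spnc6_ring
  · exact gamB_anti (spbc3_ng_symm hca)
  · apply gamB_anti
    rw [ng_ng]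
    exact fun e => hda e.symm
  · exact gam0_anti c
  · exact gam0_anti (ng d)

/-- C5 [S]  the signature of `SysB.comm_ls`.  `Units.ext`, `XCs_val`, `XCl_val`, C4. -/
theorem XCs_comm_ls (a c d : Fin l ⊕ Fin l) (hcd : c ≠ d) (hcd' : c ≠ ng d) (hda : d ≠ a) (hca : c ≠ ng a) (t u : F) :
    XCs (F := F) a t * XCl c d u = XCl c d u * XCs a t := by
  apply Units.ext
  rw [Units.val_mul, Units.val_mul, XCs_val, XCl_val hcd hcd']
  have h := YY_comm_EB (F := F) hda hca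
  rw [spnc6_expand, spnc6_expand, h, mul_comm t u]
  abel

theorem spbc3_EB_ng (a b : Fin l ⊕ Fin l) : EB (F := F) a (ng b) = gamB a * gamB b := by
  unfold EB
  rw [ng_ng]

theorem spbc3_N_YY (a b : Fin l ⊕ Fin l) : gamB (F := F) a * gamB b * YY b = 0 := by
  rw [spbc3_YY_eq, mul_neg, neg_eq_zero]
  exact spbc_pqqr (gamB_sq b)

theorem spbc3_N_YY' {a b : Fin l ⊕ Fin l} (h : a ≠ ng b) : gamB (F := F) a * gamB b * YY a = 0 := by
  rw [spbc3_YY_eq, mul_neg, neg_eq_zero]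
  exact spbc_pqpr (gamB_sq a) (gamB_anti h)

theorem spbc3_YY_N (a : Fin l ⊕ Fin l) (x : ClB l F) : YY (F := F) a * (gamB a * x) = 0 := by
  unfold YY
  exact spbc_pqqr (gamB_sq a)

/-- C6 [M]  the signature of `SysB.ss`. -/
theorem XCs_ss (a b : Fin l ⊕ Fin l) (hab : a ≠ b) (hab' : a ≠ ng b) (t u : F) :
    XCs (F := F) a t * XCs b u * (XCs a t)⁻¹ * (XCs b u)⁻¹ = XCl a (ng b) (-(2 * t * u)) := by
  apply spbc_comm_of_eq
  apply Units.ext
  have hab2 : a ≠ ng (ng b) := by rw [ng_ng]; exact hab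
  rw [Units.val_mul, Units.val_mul, Units.val_mul, XCs_val, XCs_val, XCl_val hab' hab2, spbc3_EB_ng]
  apply spbc_ss_ring
  · rw [smul_mul_smul_comm, spbc3_N_YY, smul_zero]
  · rw [smul_mul_smul_comm, spbc3_N_YY' hab', smul_zero]
  · rw [smul_mul_smul_comm, smul_mul_smul_comm, spbc3_YY_mul, spbc3_YY_mul, gamB_anti (spbc3_ng_symm hab'), neg_neg, smul_neg,
      ← neg_smul, ← add_smul]
    congr 1
    ring

/-- C7 [M]  the signature of `SysB.ls`. -/
theorem XCs_ls (a b : Fin l ⊕ Fin l) (hab : a ≠ b) (hab' : a ≠ ng b) (t u : F) :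
    XCl (F := F) a b t * XCs b u * (XCl a b t)⁻¹ * (XCs b u)⁻¹ = XCs a (t * u) * XCl a (ng b) (t * u ^ 2) := by
  apply spbc_comm_of_eq
  apply Units.ext
  have hab2 : a ≠ ng (ng b) := by rw [ng_ng]; exact hab
  rw [Units.val_mul, Units.val_mul, Units.val_mul, Units.val_mul, XCs_val, XCs_val, XCl_val hab hab',
    XCl_val hab' hab2, spbc3_EB_ng]
  apply spbc_ls_ring
  · rw [smul_mul_smul_comm, spbc3_YY_N, smul_zero]
  · rw [smul_mul_smul_comm, spbc3_YY_mul, smul_neg]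
    congr 2
    ring
  · rw [smul_mul_smul_comm, (EB_YY_same hab).2, smul_zero]
  · rw [smul_mul_smul_comm, spbc3_N_YY, smul_zero]
  · have h := EB_bracket_YY (F := F) hab'
    have h' : EB (F := F) a b * YY b = YY b * EB a b + YY a := by rw [← h]; abel
    rw [smul_mul_smul_comm, smul_mul_smul_comm, h', smul_add, mul_comm u t]

/-- C8 [M]  `ws a t = (1 + tY)(1 + t⁻¹Z)(1 + tY) = tY + t⁻¹Z` with `Y = Y_a`, `Z = Y_{-a}`: `Y² = Z² = 0`, `YZ + ZY = -1` (C1 `YY_opp`), `YZY = Y(-1 - YZ) = -Y`. -/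
theorem wsOf_XCs (a : Fin l ⊕ Fin l) (t : F) (ht : t ≠ 0) :
    ((wsOf (XCs (l := l) (F := F)) a t : (ClB l F)ˣ) : ClB l F) = t • YY a + t⁻¹ • YY (ng a) := by
  unfold wsOf
  rw [Units.val_mul, Units.val_mul, XCs_val, XCs_val]
  apply spbc_w_ring
  · exact smul_sq_zero _ (YY_sq a) t
  · rw [smul_mul_smul_comm, smul_mul_smul_comm, mul_inv_cancel₀ ht, inv_mul_cancel₀ ht, one_smul, one_smul, spbc3_YY_opp]

/-- C9 [M]  the signature of `SysB.rels`. -/
theorem XCs_rels (a : Fin l ⊕ Fin l) (t u : F) (ht : t ≠ 0) :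
    cj (XCs (F := F) a t * XCs (ng a) t⁻¹ * XCs a t) (XCs a u) = XCs (ng a) (t⁻¹ ^ 2 * u) := by
  apply spbc_cj_of_eq
  apply Units.ext
  have hw := wsOf_XCs (F := F) a t ht
  unfold wsOf at hw
  rw [Units.val_mul, Units.val_mul (XCs (ng a) (t⁻¹ ^ 2 * u)), hw, XCs_val, XCs_val]
  exact spbc_rel_alg (YY_sq a) (YY_sq (ng a)) t u ht

theorem spbc3_ws_sq (a : Fin l ⊕ Fin l) (t : F) (ht : t ≠ 0) :
    wsOf (XCs (l := l) (F := F)) a t * wsOf XCs a t = -1 := by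
  apply Units.ext
  rw [Units.val_mul, wsOf_XCs a t ht, Units.val_neg, Units.val_one]
  simp only [mul_add, add_mul, smul_mul_smul_comm, YY_sq, smul_zero, add_zero, zero_add, mul_inv_cancel₀ ht, inv_mul_cancel₀ ht,
    one_smul]
  rw [add_comm]
  exact spbc3_YY_opp (F := F) a

/-- C11 [S]  **the spin element is `-1`**: C10 at `t = -1`, `p_a + p_{-a} = 1` (`gamB_car a (ng a)`). -/
theorem spin_XCs (a : Fin l ⊕ Fin l) : hsOf (XCs (l := l) (F := F)) a (-1) = -1 := by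
  unfold hsOf
  exact spbc3_ws_sq a (-1) (by simp)

/-- C12 [S]  `-1 ≠ 1` in `ClB l F` in odd characteristic (model: SPN C20 `neg_one_ne_one_Cl`, `Helper9/SPNC1.lean`: Mathlib's `Nontrivial (CliffordAlgebra Q)` needs `Invertible (2 : F)`). -/
theorem neg_one_ne_one_ClB (l : ℕ) {F : Type u} [Field F] (h2 : (2 : F) ≠ 0) : (-1 : (ClB l F)ˣ) ≠ 1 :=
  Cfsg.Agent.Lib.Helper11.SPBC.neg_one_ne_one_ClB l h2

/-- the Steinberg system of type `B` of the Clifford algebra `ClB l F` -/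
noncomputable def spbc13_sys (l : ℕ) (F : Type u) [Field F] : SysB F (Fin l) (ClB l F)ˣ where
  toSysD := (spnc16_sys l F).map (Units.map (phi l F).toMonoidHom)
  xs := XCs
  adds := spbc3_XCs_add
  comm_ls := XCs_comm_ls
  ls := XCs_ls
  ss := XCs_ss
  rels := XCs_rels

/-- C13 [S-M]  assembly. -/
theorem exists_cliffSysB (l : ℕ) (F : Type u) [Field F] :
    ∃ S : SysB F (Fin l) (ClB l F)ˣ, (∀ a b t, S.x a b t = XCl a b t) ∧ (∀ a t, S.xs a t = XCs a t) ∧ ∀ a, S.hs a (-1) = -1 :=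
  ⟨spbc13_sys l F, fun _ _ _ => rfl, fun _ _ => rfl, fun a => spin_XCs a⟩

end C

end Cfsg.Agent.Lib.helper3.SPB
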