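import Mathlib
import Cfsg.Prelude.Def_Classical
import Cfsg.Prelude.Def_KGroupFacts
import Cfsg.Agent.Lib.helper3.SPB.Defs

/-!
# Project SPB (designer helper3; S2094), rows T5 (`CovB.ker_pi`) and T8 (`CovB.finite`): CORES.  Writer: helper11.
`spbt5_core`: `ker π ⊆ {1, zel}` with the STATEMENTS of T1 `zel_eq`, T2 `zel_central`, T3 `zel_sq`, T4 `pi_zel` as hypotheses (T0 `XQ_mapB` is reproved as `spbt5_XQ_mapB`).
`spbt8_core`: `G` is finite if `ker π ⊆ {1, zel}`.  Ports of helper1's `Helper1/SPNT5core.lean`, `SPNT8core.lean`.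
-/

set_option autoImplicit false

namespace Cfsg.Agent.Lib.helper3.SPB

open Cfsg.Agent.Lib.helper15.St2 Cfsg.Agent.Lib.helper3.STC Cfsg.Agent.Lib.Lead.STD Cfsg.Agent.Lib.Lead.STB
  Cfsg.Agent.Lib.Lead.SPN Cfsg.Agent.Lib.Helper16 Cfsg.Agent.Lib.Helper12.OMB

universe u v w

/-- own-name copy of T0 -/
theorem spbt5_XQ_mapB {K : Type*} [Field K] {ι : Type*} {G : Type*} [Group G] {H : Type*} [Group H]
    (S : SysB K ι G) (f : G →* H) (Q : ι ⊕ ι → ι ⊕ ι → Prop) (Qs : ι ⊕ ι → Prop) : (S.map f).XQ Q Qs = (S.XQ Q Qs).map f := by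
  unfold SysB.XQ
  rw [MonoidHom.map_closure]
  congr 1
  ext z
  constructor
  · rintro (⟨a, b, t, hab, hab', hQ, rfl⟩ | ⟨a, t, hQ, rfl⟩)
    · exact ⟨S.x a b t, Or.inl ⟨a, b, t, hab, hab', hQ, rfl⟩, rfl⟩
    · exact ⟨S.xs a t, Or.inr ⟨a, t, hQ, rfl⟩, rfl⟩
  · rintro ⟨g, (⟨a, b, t, hab, hab', hQ, rfl⟩ | ⟨a, t, hQ, rfl⟩), rfl⟩
    · exact Or.inl ⟨a, b, t, hab, hab', hQ, rfl⟩
    · exact Or.inr ⟨a, t, hQ, rfl⟩

namespace CovB

variable {l : ℕ} {F : Type u} [Field F] [Fintype F] {G : Type v} [Group G] (C : CovB l F G)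

omit [Fintype F] in
theorem spbt5_core (hstb : ∀ (H : Type v) [Group H], StbInjAt l F H)
    (hzeq : ∀ a : Fin l ⊕ Fin l, C.S.hs a (-1) = C.zel)
    (hcent : ∀ g : G, g * C.zel = C.zel * g) (hsq : C.zel * C.zel = 1) (hpi : C.π C.zel = 1) :
    ∀ g : G, C.π g = 1 → g = 1 ∨ g = C.zel := by
  have hN : (Subgroup.zpowers C.zel).Normal := by
    constructor
    intro n hn g
    obtain ⟨k, rfl⟩ := hn
    have hc : ∀ k : ℤ, g * C.zel ^ k = C.zel ^ k * g := by
      intro k
      have : Commute g C.zel := hcent g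
      exact (this.zpow_right k)
    rw [hc k, mul_assoc, mul_inv_cancel, mul_one]
    exact ⟨k, rfl⟩
  have hle : Subgroup.zpowers C.zel ≤ C.π.ker := by
    rw [Subgroup.zpowers_le]
    exact hpi
  let S' : SysB F (Fin l) (G ⧸ Subgroup.zpowers C.zel) := C.S.map (QuotientGroup.mk' (Subgroup.zpowers C.zel))
  let π' : G ⧸ Subgroup.zpowers C.zel →* ↥(Cfsg.Omega F (Cfsg.quadFormOdd l F)) :=
    QuotientGroup.lift (Subgroup.zpowers C.zel) C.π hle
  have hSpin : S'.Spin := by
    intro a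
    show (C.S.map _).hs a (-1) = 1
    rw [SysB.map_hs, hzeq a]
    exact (QuotientGroup.eq_one_iff _).2 (Subgroup.mem_zpowers _)
  have hgen : S'.XQ (fun _ _ => True) (fun _ => True) = ⊤ := by
    show (C.S.map _).XQ _ _ = ⊤
    rw [spbt5_XQ_mapB, C.gen, ← MonoidHom.range_eq_map, MonoidHom.range_eq_top]
    exact QuotientGroup.mk'_surjective _
  let R' : S'.Rep (Fin l) :=
    { e := Function.Embedding.refl (Fin l)
      φ := oglB.comp π'
      hφ := by
        intro a b hab hab' t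
        have h1 : Em (Function.Embedding.refl (Fin l)) a = a := by cases a <;> rfl
        have h2 : Em (Function.Embedding.refl (Fin l)) b = b := by cases b <;> rfl
        rw [h1, h2]
        exact C.hπ a b hab hab' t
      hφs := by
        intro a t
        have h1 : Em (Function.Embedding.refl (Fin l)) a = a := by cases a <;> rfl
        rw [h1]
        exact C.hπs a t }
  have hinj : Function.Injective R'.φ := hstb _ S' R' hSpin hgen
  intro g hg
  have h1 : R'.φ (QuotientGroup.mk' _ g) = R'.φ 1 := by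
    rw [map_one]
    show oglB (C.π g) = 1
    rw [hg, map_one]
  have h2 := hinj h1
  have h3 : g ∈ Subgroup.zpowers C.zel := (QuotientGroup.eq_one_iff g).1 h2
  obtain ⟨k, rfl⟩ := h3
  rcases Int.even_or_odd' k with ⟨m, rfl | rfl⟩
  · left
    show C.zel ^ (2 * m) = 1
    rw [zpow_mul, zpow_two, hsq, one_zpow]
  · right
    show C.zel ^ (2 * m + 1) = C.zel
    rw [zpow_add, zpow_mul, zpow_two, hsq, one_zpow, one_mul, zpow_one]

theorem spbt8_core (hker : ∀ g : G, C.π g = 1 → g = 1 ∨ g = C.zel) : Finite G := by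
  classical
  have : Finite ↥(Cfsg.Omega F (Cfsg.quadFormOdd l F)) := inferInstance
  have : Finite ↥(C.π.range) := inferInstance
  have : Finite (G ⧸ C.π.ker) := Finite.of_equiv _ (QuotientGroup.quotientKerEquivRange C.π).symm.toEquiv
  have : Finite ↥(C.π.ker) := by
    have hsub : (C.π.ker : Set G) ⊆ {1, C.zel} := by
      intro g hg
      rcases hker g hg with h | h
      · left; exact h
      · right; exact h
    exact (Set.Finite.subset (Set.toFinite _) hsub).to_subtype
  exact Finite.of_equiv _ (Subgroup.groupEquivQuotientProdSubgroup (s := C.π.ker)).symm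

end CovB

end Cfsg.Agent.Lib.helper3.SPB
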