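import Mathlib
import Cfsg.Prelude.Def_Classical
import Cfsg.Prelude.Def_KGroupFacts
import Cfsg.Agent.Lib.helper3.SPB.Defs
import Cfsg.Agent.Lib.Helper11.SPBT5core
import Cfsg.Agent.Lib.Helper12.SPBT4
import Cfsg.Agent.Lib.Helper26.SPBT2
import Cfsg.Agent.Lib.helper4.SPBT0c
import Cfsg.Agent.Lib.Helper20.STBH1
import Cfsg.Agent.Lib.Helper21.STBB3

/-!
# Project SPB (designer helper3; S2094), rows T5 (`CovB.ker_pi`) and T8 (`CovB.finite`), verbatim vs `helper3/SPB/Skel.lean.txt`.  Writer: helper11.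
Wrappers of `spbt5_core`, `spbt8_core` on T1 `zel_eq` (helper4), T2 `zel_central` (helper26), T4 `pi_zel` (helper12); T3 `zel_sq` is used through the own-name copy `spbt5_zel_sq`.
-/

set_option autoImplicit false

namespace Cfsg.Agent.Lib.helper3.SPB

open Cfsg.Agent.Lib.helper15.St2 Cfsg.Agent.Lib.helper3.STC Cfsg.Agent.Lib.Lead.STD Cfsg.Agent.Lib.Lead.STB
  Cfsg.Agent.Lib.Lead.SPN Cfsg.Agent.Lib.Helper16 Cfsg.Agent.Lib.Helper12.OMB

universe u v w

section T

namespace CovB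

variable {l : ℕ} {F : Type u} [Field F] [Fintype F] {G : Type v} [Group G] (C : CovB l F G)

/-- own-name copy of T3 `zel_sq` -/
theorem spbt5_zel_sq : C.zel * C.zel = 1 := by
  unfold zel
  rw [C.S.hs_mul _ (-1) (-1) (by simp) (by simp)]
  have : (-1 : F) * (-1) = 1 := by ring
  rw [this, C.S.hs_one]

/-- T5 [M]  **the kernel of `π`.** -/
theorem ker_pi (hstb : ∀ (H : Type v) [Group H], StbInjAt l F H) (g : G) (hg : C.π g = 1) : g = 1 ∨ g = C.zel :=
  spbt5_core C hstb (zel_eq C) (zel_central C) (spbt5_zel_sq C) (pi_zel C) g hg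

/-- T8 [S-M]  `G` is finite: `Ω` is finite, `ker π ⊆ {1, zel}` (T5) is finite (model: SPN T8, `Helper1/SPNT8core.lean`). -/
theorem finite (C : CovB l F G) (hstb : ∀ (H : Type v) [Group H], StbInjAt l F H) : Finite G :=
  spbt8_core C (ker_pi C hstb)

end CovB

end T

end Cfsg.Agent.Lib.helper3.SPB
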