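import Mathlib
import Cfsg.Prelude.Def_Classical
import Cfsg.Prelude.Def_KGroupFacts
import Cfsg.Agent.Lib.helper3.SPB.Defs
import Cfsg.Agent.Lib.helper8.SPNT7

/-!
# Project SPB (designer helper3; S2094), row T7 (`CovB.perfect`), verbatim vs `helper3/SPB/Skel.lean.txt`.  Writer: helper11.
Port of helper8's SPN T7 (`spnt7_exists_b` is cited from there); the short root elements through `SysB.ls` at `u = 1`.
-/

set_option autoImplicit false

namespace Cfsg.Agent.Lib.helper3.SPB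

open Cfsg.Agent.Lib.helper15.St2 Cfsg.Agent.Lib.helper3.STC Cfsg.Agent.Lib.Lead.STD Cfsg.Agent.Lib.Lead.STB
  Cfsg.Agent.Lib.Lead.SPN Cfsg.Agent.Lib.Helper16 Cfsg.Agent.Lib.Helper12.OMB

universe u v w

open scoped commutatorElement

section T

namespace CovB

variable {l : ℕ} {F : Type u} [Field F] [Fintype F] {G : Type v} [Group G] (C : CovB l F G)

omit [Fintype F] in
/-- the long root elements are commutators -/
theorem spbt7_long (C : CovB l F G) {a c : Fin l ⊕ Fin l} (hac : a ≠ c) (hac' : a ≠ ng c) (t : F) :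
    C.S.x a c t ∈ commutator G := by
  obtain ⟨b, hab, hab', hbc, hbc'⟩ := spnt7_exists_b l C.hl a c
  have h := C.S.comm3 a b c hab hab' hbc hbc' hac hac' t 1
  rw [mul_one] at h
  rw [← h, commutator_def]
  have : C.S.x a b t * C.S.x b c 1 * (C.S.x a b t)⁻¹ * (C.S.x b c 1)⁻¹ =
      ⁅C.S.x a b t, C.S.x b c 1⁆ := (commutatorElement_def _ _).symm
  rw [this]
  exact Subgroup.commutator_mem_commutator (Subgroup.mem_top _) (Subgroup.mem_top _)

omit [Fintype F] in
/-- the short root elements are products of commutators -/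
theorem spbt7_short (C : CovB l F G) (a : Fin l ⊕ Fin l) (t : F) : C.S.xs a t ∈ commutator G := by
  obtain ⟨b, hab, hab', -, -⟩ := spnt7_exists_b l C.hl a a
  have h := C.S.ls a b hab hab' t 1
  rw [mul_one, one_pow, mul_one] at h
  have hab2 : a ≠ ng (ng b) := by rw [ng_ng]; exact hab
  have h1 : C.S.x a (ng b) t ∈ commutator G := spbt7_long C hab' hab2 t
  have h2 : C.S.x a b t * C.S.xs b 1 * (C.S.x a b t)⁻¹ * (C.S.xs b 1)⁻¹ ∈ commutator G := by
    have : C.S.x a b t * C.S.xs b 1 * (C.S.x a b t)⁻¹ * (C.S.xs b 1)⁻¹ =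
        ⁅C.S.x a b t, C.S.xs b 1⁆ := (commutatorElement_def _ _).symm
    rw [this, commutator_def]
    exact Subgroup.commutator_mem_commutator (Subgroup.mem_top _) (Subgroup.mem_top _)
  have h3 : C.S.xs a t = (C.S.x a b t * C.S.xs b 1 * (C.S.x a b t)⁻¹ * (C.S.xs b 1)⁻¹) * (C.S.x a (ng b) t)⁻¹ := by
    rw [h]; group
  rw [h3]
  exact mul_mem h2 (inv_mem h1)

/-- T7 [S-M]  `G` is perfect: `x a c t = ⁅x a b t, x b c 1⁆` (`SysD.comm3`, `b ∉ {±a, ±c}`, which exists as `l ≥ 3`), and `xs a t = ⁅x a b t, xs b 1⁆ * (x a (ng b) t)⁻¹` (`S.ls` at `u = 1`);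
`C.gen`; `Subgroup.closure_le` (model: SPN T7, `helper8/SPNT7.lean`). -/
theorem perfect (C : CovB l F G) : commutator G = ⊤ := by
  rw [eq_top_iff, ← C.gen]
  unfold SysB.XQ
  rw [Subgroup.closure_le]
  rintro g (⟨a, c, t, hac, hac', -, rfl⟩ | ⟨a, t, -, rfl⟩)
  · exact spbt7_long C hac hac' t
  · exact spbt7_short C a t

end CovB

end T

end Cfsg.Agent.Lib.helper3.SPB
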