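import Mathlib
import Cfsg.Prelude.Def_Classical
import Cfsg.Prelude.Def_KGroupFacts
import Cfsg.Agent.Lib.helper3.SPB.Defs
import Cfsg.Agent.Lib.Helper22.SPBG1
import Cfsg.Agent.Lib.Helper18.SPBK1
import Cfsg.Agent.Lib.Helper18.SPBT9
import Cfsg.Agent.Lib.Helper26.SPBT2
import Cfsg.Agent.Lib.Helper11.SPBT5
import Cfsg.Agent.Lib.Helper11.SPBT7
import Cfsg.Agent.Lib.Helper29.SPBT10core
import Cfsg.Agent.Lib.helper23.SPBM1core
import Cfsg.Agent.Lib.Helper22.SPBM2core

/-!
# Project SPB (designer helper3; S2094), row M3 (`s2094_core`), verbatim vs `helper3/SPB/Skel.lean.txt`.  Writer: helper11.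
Assembly of G1 `exists_covB`, K2 `CovB.ker_sig_equiv`, and own-name one-line wrappers of T10 / M1 / M2 over their landed cores
(`spbt10_core`, `spbm1_core`, `spbm2_core`): `CovB.spbm3_stem`, `CovB.spbm3_mult_trivial`, `CovB.spbm3_schur` (same statements as the
Skel rows T10 `CovB.stem`, M1 `CovB.mult_trivial`, M2 `CovB.schur`; own names, so their owners can still land the verbatim rows).
`2 ≠ 0` in `F` as `q` is odd.
-/

set_option autoImplicit false

namespace Cfsg.Agent.Lib.helper3.SPB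

open Cfsg.Agent.Lib.helper15.St2 Cfsg.Agent.Lib.helper3.STC Cfsg.Agent.Lib.Lead.STD Cfsg.Agent.Lib.Lead.STB
  Cfsg.Agent.Lib.Lead.SPN Cfsg.Agent.Lib.Helper16 Cfsg.Agent.Lib.Helper12.OMB

universe u v w

section M

/-- own-name copy of the statement of T10 `CovB.stem` -/
theorem CovB.spbm3_stem {l : ℕ} {F : Type u} [Field F] [Fintype F] {G : Type v} [Group G] (C : CovB l F G)
    (hstb : ∀ (H : Type v) [Group H], StbInjAt l F H) (homb : OmbSys l F) (hcen : OmbCenter l F) :
    Cfsg.IsStemExtension C.sig :=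
  CovB.spbt10_core C (fun g => CovB.zel_central C g) (fun g hg => CovB.ker_pi C hstb g hg) (CovB.pi_surj C homb)
    (CovB.perfect C) hcen

/-- own-name copy of the statement of M1 `CovB.mult_trivial` -/
theorem CovB.spbm3_mult_trivial {l : ℕ} {F : Type u} [Field F] [Fintype F] {G : Type v} [Group G] (C : CovB l F G)
    (hz : C.zel ≠ 1) (hstb : ∀ (H : Type v) [Group H], StbInjAt l F H) (hceb : CebSplitAt l F G) :
    Cfsg.HasCyclicSchurMultiplier G 1 :=
  CovB.spbm1_core C hz hceb (CovB.finite C hstb)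

/-- own-name copy of the statement of M2 `CovB.schur` -/
theorem CovB.spbm3_schur {l : ℕ} {F : Type u} [Field F] [Fintype F] {G : Type u} [Group G] (C : CovB l F G)
    (hstb : ∀ (H : Type u) [Group H], StbInjAt l F H) (homb : OmbSys l F) (hcen : OmbCenter l F)
    (hG : Cfsg.HasCyclicSchurMultiplier G 1) {A : Type w} [CommGroup A] (e : Nonempty (C.sig.ker ≃* A)) :
    Cfsg.HasSchurMultiplier (Cfsg.POmega F (Cfsg.quadFormOdd l F)) A :=
  CovB.spbm2_core C (CovB.finite C hstb) (CovB.spbm3_stem C hstb homb hcen) hG e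

/-- a finite field of odd order has `2 ≠ 0` -/
theorem spbm3_two_ne_zero {F : Type u} [Field F] [Fintype F] {q : ℕ} (hF : Fintype.card F = q) (hq : Odd q) : (2 : F) ≠ 0 := by
  intro h2
  have hd : ringChar F ∣ 2 := ringChar.dvd (by exact_mod_cast h2)
  have hp : (ringChar F).Prime := CharP.char_is_prime F (ringChar F)
  have h2' : ringChar F = 2 := (Nat.prime_dvd_prime_iff_eq hp Nat.prime_two).1 hd
  have := FiniteField.even_card_iff_char_two.1 h2'
  rw [hF] at this
  rcases hq with ⟨k, hk⟩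
  omega

/-- M3 [S]  **S2094 from STB, OMB, CEB**: `(2 : F) ≠ 0` as `q` is odd (`hF`, `hq`: otherwise `CharP F 2` and `2 ∣ q`); G1, K2, M1, M2.  (Model: SPN M3, `Helper11/SPNM3.lean`.) -/
theorem s2094_core {F : Type u} [Field F] [Fintype F] {q : ℕ} (hF : Fintype.card F = q) (hq : Odd q) (m : ℕ) (hm : 3 ≤ m)
    (hstb : ∀ (H : Type u) [Group H], StbInjAt m F H) (homb : OmbSys m F) (hcen : OmbCenter m F)
    (hceb : ∀ (G : Type u) [Group G], CebSplitAt m F G) :
    Cfsg.HasCyclicSchurMultiplier (Cfsg.POmega F (Cfsg.quadFormOdd m F)) 2 := by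
  have h2 : (2 : F) ≠ 0 := spbm3_two_ne_zero hF hq
  obtain ⟨G, _, C, hz⟩ := exists_covB (l := m) (F := F) hm homb
  have hz' : C.zel ≠ 1 := hz h2
  exact CovB.spbm3_schur C hstb homb hcen (CovB.spbm3_mult_trivial C hz' hstb (hceb G)) (CovB.ker_sig_equiv C hstb hcen hz')

end M

end Cfsg.Agent.Lib.helper3.SPB
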