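import Mathlib
import Cfsg.Agent.Lib.Helper19.SPD.Defs

/-!
# SPD row SELFDUAL (helper11): `selfdual_even`
-/

set_option autoImplicit false

open Polynomial

namespace Cfsg.Agent.Lib.Helper19.SPD

variable {F : Type*} [Field F] {d : ℕ}

/-- iterated Frobenius: `expand (q ^ k) f = f ^ (q ^ k)` over a finite field with `q` elements. -/
theorem spdselfdual_expand_card_pow [Fintype F] (f : F[X]) (k : ℕ) :
    expand F ((Fintype.card F) ^ k) f = f ^ ((Fintype.card F) ^ k) := by
  induction k with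
  | zero => simp
  | succ k ih =>
    rw [pow_succ, ← Polynomial.expand_expand, FiniteField.expand_card, map_pow, ih, ← pow_mul]

/-- in `ZMod r` (`r` prime), if `x` has even order `i` then `x ^ (i / 2) = -1`. -/
theorem spdselfdual_half_pow (r : ℕ) [Fact r.Prime] (x : ZMod r) (i : ℕ) (hi : i = orderOf x)
    (hi0 : 0 < i) (hie : Even i) : x ^ (i / 2) = -1 := by
  obtain ⟨k, hk⟩ := hie
  have hk2 : i / 2 = k := by omega
  rw [hk2]
  have hsq : (x ^ k) * (x ^ k) = 1 := by
    rw [← pow_add, ← hk, hi, pow_orderOf_eq_one]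
  have h2 : (x ^ k - 1) * (x ^ k + 1) = 0 := by
    have : (x ^ k - 1) * (x ^ k + 1) = x ^ k * x ^ k - 1 := by ring
    rw [this, hsq, sub_self]
  rcases mul_eq_zero.mp h2 with h | h
  · exfalso
    have h1 : x ^ k = 1 := sub_eq_zero.mp h
    have hdvd : orderOf x ∣ k := orderOf_dvd_of_pow_eq_one h1
    rw [← hi] at hdvd
    have hkpos : 0 < k := by omega
    have := Nat.le_of_dvd hkpos hdvd
    omega
  · exact eq_neg_of_add_eq_zero_left h

/-- a power of an operator applied to a vector killed by the operator vanishes. -/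
theorem spdselfdual_pow_apply_zero {V : Type*} [AddCommGroup V] [Module F V] (T : V →ₗ[F] V) (v : V)
    (hv : T v = 0) (N : ℕ) (hN : 0 < N) : (T ^ N) v = 0 := by
  obtain ⟨m, rfl⟩ : ∃ m, N = m + 1 := ⟨N - 1, by omega⟩
  rw [pow_succ, Module.End.mul_apply, hv, map_zero]

theorem selfdual_even [Fintype F] {p q : ℕ} [Fact p.Prime] [CharP F p] (hq : Fintype.card F = q)
    (r : ℕ) [Fact r.Prime] (hrp : r ≠ p) (i : ℕ) (hi : i = orderOf (q : ZMod r)) (hie : Even i)
    (y : (Fin d ⊕ Fin d → F) →ₗ[F] (Fin d ⊕ Fin d → F)) (hy : y ^ r = 1)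
    (g : F[X]) (v : Fin d ⊕ Fin d → F) (hv : aeval y g v = 0) : aeval (y ^ (r - 1)) g v = 0 := by
  have hr : r.Prime := Fact.out
  have hp : p.Prime := Fact.out
  -- `q = p ^ n`
  obtain ⟨n, _, hn⟩ := FiniteField.card F p
  have hqn : q = p ^ (n : ℕ) := by rw [← hq, hn]
  -- `(q : ZMod r) ≠ 0`
  have hq0 : (q : ZMod r) ≠ 0 := by
    intro h0
    rw [ZMod.natCast_eq_zero_iff] at h0
    rw [hqn] at h0
    have := hr.dvd_of_dvd_pow h0
    exact hrp ((Nat.prime_dvd_prime_iff_eq hr hp).mp this)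
  -- `0 < i`
  have hi0 : 0 < i := by
    rw [hi]
    apply orderOf_pos_iff.mpr
    rw [isOfFinOrder_iff_pow_eq_one]
    exact ⟨r - 1, by have := hr.two_le; omega, ZMod.pow_card_sub_one_eq_one hq0⟩
  have hhalf : (q : ZMod r) ^ (i / 2) = -1 := spdselfdual_half_pow r _ i hi hi0 hie
  set N : ℕ := q ^ (i / 2) with hN
  have hNcast : ((N + 1 : ℕ) : ZMod r) = 0 := by
    rw [hN]; push_cast; rw [hhalf]; ring
  rw [ZMod.natCast_eq_zero_iff] at hNcast
  obtain ⟨m, hm⟩ := hNcast
  have hmpos : 0 < m := by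
    rcases Nat.eq_zero_or_pos m with h | h
    · rw [h] at hm; omega
    · exact h
  have hr2 := hr.two_le
  have hNeq : N = r * (m - 1) + (r - 1) := by
    obtain ⟨m', rfl⟩ : ∃ m', m = m' + 1 := ⟨m - 1, by omega⟩
    have : r * (m' + 1) = r * m' + r := by ring
    simp only [Nat.add_sub_cancel]
    omega
  have hyN : y ^ N = y ^ (r - 1) := by
    rw [hNeq, pow_add, pow_mul, hy, one_pow, one_mul]
  have hNpos : 0 < N := by
    rw [hN]
    apply pow_pos
    rw [hqn]
    exact pow_pos hp.pos _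
  rw [← hyN, ← Polynomial.expand_aeval, hN, ← hq, spdselfdual_expand_card_pow, map_pow]
  apply spdselfdual_pow_apply_zero _ _ hv
  rw [hq]
  exact hNpos

end Cfsg.Agent.Lib.Helper19.SPD
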