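import Mathlib
import Cfsg.Prelude.Def_Classical
import Cfsg.Prelude.Def_KGroupFacts
import Cfsg.Agent.Lib.Lead.SPM2.Defs

/-!
# Project SPM2 (designer lead; S2099), rows K4 K5 CORES (helper11): the kernel of `sig`.  Port of `Helper1.SPNK4core`.

`spm2k4_core`: `CovM.ker_sig_of_neg` with the STATEMENT of T5 `ker_pi` (its conclusion, given `hstm`) as a hypothesis (T11 is inlined as `spm2k4_mem_ker_sig`).
`spm2k5_core`: `CovM.ker_sig_char_two` with the STATEMENTS of T5 `ker_pi` and T9 `zel_char_two` as hypotheses.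
-/

set_option autoImplicit false

namespace Cfsg.Agent.Lib.Lead.SPM2

open Cfsg.Agent.Lib.helper15.St2 Cfsg.Agent.Lib.helper3.STC Cfsg.Agent.Lib.Lead.STD Cfsg.Agent.Lib.helper17.STM
  Cfsg.Agent.Lib.Lead.SPN Cfsg.Agent.Lib.Helper16
open Cfsg.Agent.Lib.Helper12.OMN (omatM oglM omatM_mul omatM_one omatM_injective oglM_coe oglM_injective)

universe u v w

namespace CovM

variable {m : ℕ} {F : Type u} [Field F] {A B : F} [Fact (∀ r : F, r ^ 2 ≠ -B + A * r)] {G : Type v} [Group G] (C : CovM m F A B G)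

/-- own-name copy of T11 -/
theorem spm2k4_mem_ker_sig (g : G) : g ∈ C.sig.ker ↔ C.π g ∈ Subgroup.center ↥(Cfsg.Omega F (Cfsg.quadFormMinus m F A B)) := by
  rw [MonoidHom.mem_ker]
  unfold CovM.sig
  rw [MonoidHom.comp_apply]
  exact QuotientGroup.eq_one_iff _

omit [Fact (∀ r : F, r ^ 2 ≠ -B + A * r)] in
/-- an element of `Ω⁻` with matrix `-1` is central -/
theorem spm2k4_central_of_neg (z : ↥(Cfsg.Omega F (Cfsg.quadFormMinus m F A B))) (hz : omatM z = -1) :
    z ∈ Subgroup.center ↥(Cfsg.Omega F (Cfsg.quadFormMinus m F A B)) := by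
  rw [Subgroup.mem_center_iff]
  intro y
  apply omatM_injective
  rw [omatM_mul, omatM_mul, hz, neg_one_mul, mul_neg_one]

theorem spm2k4_core (hker : ∀ g : G, C.π g = 1 → g = 1 ∨ g = C.zel) (hcen : OmnCenter m F A B) (g₀ : G) (h₀ : omatM (C.π g₀) = -1) :
    g₀ ∈ C.sig.ker ∧ ∀ g ∈ C.sig.ker, g = 1 ∨ g = C.zel ∨ g = g₀ ∨ g = g₀ * C.zel := by
  constructor
  · rw [spm2k4_mem_ker_sig]
    exact spm2k4_central_of_neg (C.π g₀) h₀
  · intro g hg
    rw [spm2k4_mem_ker_sig] at hg
    rcases hcen (C.π g) hg with h | h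
    · have h1 : C.π g = 1 := omatM_injective (by rw [omatM_one]; exact h)
      rcases hker g h1 with h' | h'
      · left; exact h'
      · right; left; exact h'
    · have h1 : C.π g = C.π g₀ := omatM_injective (by rw [h₀]; exact h)
      have h2 : C.π (g₀⁻¹ * g) = 1 := by rw [map_mul, map_inv, h1, inv_mul_cancel]
      rcases hker _ h2 with h' | h'
      · right; right; left
        exact (inv_mul_eq_one.mp h').symm
      · right; right; right
        rw [← h']
        group

theorem spm2k5_core (hker : ∀ g : G, C.π g = 1 → g = 1 ∨ g = C.zel) (hz2 : (2 : F) = 0 → C.zel = 1) (hcen : OmnCenter m F A B)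
    (h2 : (2 : F) = 0) (g : G) (hg : g ∈ C.sig.ker) : g = 1 := by
  rw [spm2k4_mem_ker_sig] at hg
  have hneg : (-1 : Matrix (Im (Fin m)) (Im (Fin m)) F) = 1 := by
    have h1 : (-1 : F) = 1 := by
      have : (1 : F) + 1 = 0 := by rw [one_add_one_eq_two]; exact h2
      exact neg_eq_of_add_eq_zero_left this
    ext i j
    rw [Matrix.neg_apply]
    by_cases hij : i = j
    · subst hij
      rw [Matrix.one_apply_eq, h1]
    · rw [Matrix.one_apply_ne hij, neg_zero]
  have h1 : C.π g = 1 := by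
    apply omatM_injective
    rw [omatM_one]
    rcases hcen (C.π g) hg with h | h
    · exact h
    · rw [h, hneg]
  rcases hker g h1 with h | h
  · exact h
  · rw [h, hz2 h2]

end CovM

end Cfsg.Agent.Lib.Lead.SPM2
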