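import Mathlib
import Cfsg.Prelude.Def_Classical
import Cfsg.Prelude.Def_KGroupFacts
import Cfsg.Agent.Lib.Lead.SPM2.Defs
import Cfsg.Agent.Lib.helper8.SPNT7
import Cfsg.Agent.Lib.Helper21.STMB2

/-!
# Project SPM2 (designer lead; S2099), rows T7 (`CovM.perfect`), T9 (`CovM.zel_char_two`), T11 (`CovM.mem_ker_sig`), verbatim vs `Lead/SPM2/Skel.lean.txt`.  Writer: helper11.
T7: port of `Helper11/SPBT7.lean` (helper8's `spnt7_exists_b` is cited); the short root elements through `SysM.ls` at `t = 1`.  T9: STM B3 `hs_one` (`Helper21.STMB2`).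
-/

set_option autoImplicit false

namespace Cfsg.Agent.Lib.Lead.SPM2

open Cfsg.Agent.Lib.helper15.St2 Cfsg.Agent.Lib.helper3.STC Cfsg.Agent.Lib.Lead.STD Cfsg.Agent.Lib.helper17.STM
  Cfsg.Agent.Lib.Lead.SPN Cfsg.Agent.Lib.Helper16
open Cfsg.Agent.Lib.Helper12.OMN (omatM oglM omatM_mul omatM_one omatM_injective oglM_coe oglM_injective)

universe u v w

open scoped commutatorElement

section T

namespace CovM

variable {m : ℕ} {F : Type u} [Field F] [Fintype F] {A B : F} [Fact (∀ r : F, r ^ 2 ≠ -B + A * r)] {G : Type v} [Group G] (C : CovM m F A B G)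

/-- T9 [S]  in characteristic two `-1 = 1` in `Kq F A B` (`neg_one_eq_one_iff`-style: `(2 : Kq F A B) = algebraMap F _ 2 = 0`) and `hs a 1 = 1` (STM B3 `hs_one`). -/
theorem zel_char_two (h2 : (2 : F) = 0) : C.zel = 1 := by
  have h1 : (-1 : Kq F A B) = 1 := by
    have h3 : (2 : Kq F A B) = 0 := by
      have : (2 : Kq F A B) = algebraMap F (Kq F A B) 2 := by rw [map_ofNat]
      rw [this, h2, map_zero]
    have : (1 : Kq F A B) + 1 = 0 := by rw [one_add_one_eq_two]; exact h3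
    exact neg_eq_of_add_eq_zero_left this
  unfold zel
  rw [h1]
  exact C.S.hs_one _

omit [Fintype F] in
/-- the long root elements are commutators -/
theorem spm2t7_long (C : CovM m F A B G) {a c : Fin m ⊕ Fin m} (hac : a ≠ c) (hac' : a ≠ ng c) (t : F) :
    C.S.x a c t ∈ commutator G := by
  obtain ⟨b, hab, hab', hbc, hbc'⟩ := spnt7_exists_b m C.hl a c
  have h := C.S.comm3 a b c hab hab' hbc hbc' hac hac' t 1
  rw [mul_one] at h
  rw [← h, commutator_def]
  have : C.S.x a b t * C.S.x b c 1 * (C.S.x a b t)⁻¹ * (C.S.x b c 1)⁻¹ =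
      ⁅C.S.x a b t, C.S.x b c 1⁆ := (commutatorElement_def _ _).symm
  rw [this]
  exact Subgroup.commutator_mem_commutator (Subgroup.mem_top _) (Subgroup.mem_top _)

omit [Fintype F] in
/-- the short root elements are products of commutators -/
theorem spm2t7_short (C : CovM m F A B G) (a : Fin m ⊕ Fin m) (u : Kq F A B) : C.S.xs a u ∈ commutator G := by
  obtain ⟨b, hab, hab', -, -⟩ := spnt7_exists_b m C.hl a a
  have h := C.S.ls a b hab hab' 1 u
  rw [one_smul, one_mul] at h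
  have hab2 : a ≠ ng (ng b) := by rw [ng_ng]; exact hab
  have h1 : C.S.x a (ng b) (nm u) ∈ commutator G := spm2t7_long C hab' hab2 (nm u)
  have h2 : C.S.x a b 1 * C.S.xs b u * (C.S.x a b 1)⁻¹ * (C.S.xs b u)⁻¹ ∈ commutator G := by
    have : C.S.x a b 1 * C.S.xs b u * (C.S.x a b 1)⁻¹ * (C.S.xs b u)⁻¹ =
        ⁅C.S.x a b 1, C.S.xs b u⁆ := (commutatorElement_def _ _).symm
    rw [this, commutator_def]
    exact Subgroup.commutator_mem_commutator (Subgroup.mem_top _) (Subgroup.mem_top _)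
  have h3 : C.S.xs a u = (C.S.x a b 1 * C.S.xs b u * (C.S.x a b 1)⁻¹ * (C.S.xs b u)⁻¹) * (C.S.x a (ng b) (nm u))⁻¹ := by
    rw [h]; group
  rw [h3]
  exact mul_mem h2 (inv_mem h1)

/-- T7 [S-M]  `G` is perfect: `x a c t = ⁅x a b t, x b c 1⁆` (`SysD.comm3`, `b ∉ {±a, ±c}`, which exists as `m ≥ 3`), and `xs a u = ⁅x a b 1, xs b u⁆ * (x a (ng b) (nm u))⁻¹` (`S.ls` at `t = 1`; `one_smul`, `one_mul`);
`C.gen`; `Subgroup.closure_le` (model: SPB T7 `Helper11/SPBT5.lean`, SPN T7 `helper8/SPNT7.lean`). -/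
theorem perfect (C : CovM m F A B G) : commutator G = ⊤ := by
  rw [eq_top_iff, ← C.gen]
  unfold SysM.XQ
  rw [Subgroup.closure_le]
  rintro g (⟨a, c, t, hac, hac', -, rfl⟩ | ⟨a, t, -, rfl⟩)
  · exact spm2t7_long C hac hac' t
  · exact spm2t7_short C a t

/-- T11 [S]  `QuotientGroup.eq_one_iff` (model SPN T11). -/
theorem mem_ker_sig (g : G) : g ∈ C.sig.ker ↔ C.π g ∈ Subgroup.center ↥(Cfsg.Omega F (Cfsg.quadFormMinus m F A B)) := by
  rw [MonoidHom.mem_ker]
  unfold CovM.sig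
  rw [MonoidHom.comp_apply]
  exact QuotientGroup.eq_one_iff _

end CovM

end T

end Cfsg.Agent.Lib.Lead.SPM2
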