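import Mathlib
import Cfsg.Prelude.Def_Classical
import Cfsg.Prelude.Def_KGroupFacts
import Cfsg.Agent.Lib.Lead.SPM2.Defs
import Cfsg.Agent.Lib.Helper11.SPM2T5core
import Cfsg.Agent.Lib.Helper11.SPM2K4core
import Cfsg.Agent.Lib.Helper11.SPM2T7
import Cfsg.Agent.Lib.Helper20.SPM2T0

/-!
# Project SPM2 (designer lead; S2099), rows T5 (`CovM.ker_pi`), T8 (`CovM.finite`), K4 (`CovM.ker_sig_of_neg`), K5 (`CovM.ker_sig_char_two`), verbatim vs `Lead/SPM2/Skel.lean.txt`.  Writer: helper11.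
Wrappers of `spm2t5_core`, `spm2t8_core`, `spm2k4_core`, `spm2k5_core` on T1 `zel_eq`, T2 `zel_central`, T3 `zel_sq`, T4 `pi_zel`, T9 `zel_char_two`.
-/

set_option autoImplicit false

namespace Cfsg.Agent.Lib.Lead.SPM2

open Cfsg.Agent.Lib.helper15.St2 Cfsg.Agent.Lib.helper3.STC Cfsg.Agent.Lib.Lead.STD Cfsg.Agent.Lib.helper17.STM
  Cfsg.Agent.Lib.Lead.SPN Cfsg.Agent.Lib.Helper16
open Cfsg.Agent.Lib.Helper12.OMN (omatM oglM omatM_mul omatM_one omatM_injective oglM_coe oglM_injective)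

universe u v w

section T

namespace CovM

variable {m : ℕ} {F : Type u} [Field F] [Fintype F] {A B : F} [Fact (∀ r : F, r ^ 2 ≠ -B + A * r)] {G : Type v} [Group G] (C : CovM m F A B G)

/-- T5 [M]  **the kernel of `π`.** -/
theorem ker_pi (hstm : ∀ (H : Type v) [Group H], StmInjAt m F A B H) (g : G) (hg : C.π g = 1) : g = 1 ∨ g = C.zel :=
  spm2t5_core C hstm (zel_eq C) (zel_central C) (zel_sq C) (pi_zel C) g hg

/-- T8 [S-M]  `G` is finite: `Ω⁻` is finite, `ker π ⊆ {1, zel}` (T5) is finite. -/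
theorem finite (C : CovM m F A B G) (hstm : ∀ (H : Type v) [Group H], StmInjAt m F A B H) : Finite G :=
  spm2t8_core C (ker_pi C hstm)

end CovM

end T

section K

namespace CovM

variable {m : ℕ} {F : Type u} [Field F] [Fintype F] {A B : F} [Fact (∀ r : F, r ^ 2 ≠ -B + A * r)] {G : Type v} [Group G] (C : CovM m F A B G)

/-- K4 [S-M]  a preimage `g₀` of `-1`: `ker sig = {1, zel, g₀, g₀ zel}`. -/
theorem ker_sig_of_neg (hstm : ∀ (H : Type v) [Group H], StmInjAt m F A B H) (hcen : OmnCenter m F A B) (g₀ : G) (h₀ : omatM (C.π g₀) = -1) :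
    g₀ ∈ C.sig.ker ∧ ∀ g ∈ C.sig.ker, g = 1 ∨ g = C.zel ∨ g = g₀ ∨ g = g₀ * C.zel :=
  spm2k4_core C (ker_pi C hstm) hcen g₀ h₀

/-- K5 [S-M]  characteristic two: `ker sig = ⊥`. -/
theorem ker_sig_char_two (hstm : ∀ (H : Type v) [Group H], StmInjAt m F A B H) (hcen : OmnCenter m F A B) (h2 : (2 : F) = 0) (g : G) (hg : g ∈ C.sig.ker) : g = 1 :=
  spm2k5_core C (ker_pi C hstm) (zel_char_two C) hcen h2 g hg

end CovM

end K

end Cfsg.Agent.Lib.Lead.SPM2
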