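import Mathlib
import Cfsg.Prelude.Def_Classical
import Cfsg.Prelude.Def_KGroupFacts
import Cfsg.Agent.Lib.Lead.SPN.Defs
import Cfsg.Agent.Lib.Lead.SPN.Defs2
import Cfsg.Agent.Lib.helper4.SPNM1b
import Cfsg.Agent.Lib.helper4.SPNM1
import Cfsg.Agent.Lib.helper4.SPNK7
import Cfsg.Agent.Lib.Helper1.SPNG2

/-!
# Project SPN (lead; S2096 + S2097, the multiplier of `PΩ⁺_{2l}(q)`), rows M3 M4, verbatim vs `Lead/SPN/Skel.lean.txt`.  Writer: helper11.
`s2096_core` (M3), `s2097_core` (M4): assemblies of G2 `exists_cov`, K7 / K8 `Cov.ker_sig_equiv_odd / _even`, M1 `Cov.mult_trivial`, M2 `Cov.schur`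
(`CedSplitAt` is the verbatim definition in `helper4.SPNM1b`).
-/

set_option autoImplicit false

namespace Cfsg.Agent.Lib.Lead.SPN

open Cfsg.Agent.Lib.helper15.St2 Cfsg.Agent.Lib.helper3.STC Cfsg.Agent.Lib.Lead.STD Cfsg.Agent.Lib.Helper16

universe u v w

/-- M3 [S]  S2096 from CED: G2, K7, M1, M2. -/
theorem s2096_core {F : Type u} [Field F] [Fintype F] {q : ℕ} (hF : Fintype.card F = q) (l : ℕ) (hl : 5 ≤ l) (hodd : Odd l)
    (hced : ∀ (G : Type u) [Group G], CedSplitAt l F G) :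
    Cfsg.HasCyclicSchurMultiplier (Cfsg.POmega F (Cfsg.quadFormPlus l F)) (Nat.gcd 4 (q ^ l - 1)) := by
  obtain ⟨G, _, C, hz⟩ := exists_cov (l := l) (F := F) (by omega : 4 ≤ l)
  exact Cov.schur C (Cov.mult_trivial C hz (hced G)) (Cov.ker_sig_equiv_odd C hF hodd hz)

/-- M4 [S]  S2097 from CED: G2, K8, M1, M2. -/
theorem s2097_core {F : Type u} [Field F] [Fintype F] {q : ℕ} (hF : Fintype.card F = q) (l : ℕ) (hl : 4 ≤ l) (heven : Even l)
    (hced : ∀ (G : Type u) [Group G], CedSplitAt l F G) :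
    Cfsg.HasSchurMultiplier (Cfsg.POmega F (Cfsg.quadFormPlus l F))
      (Multiplicative (ZMod (Nat.gcd 2 (q ^ l - 1)) × ZMod (Nat.gcd 2 (q ^ l - 1)))) := by
  obtain ⟨G, _, C, hz⟩ := exists_cov (l := l) (F := F) hl
  exact Cov.schur C (Cov.mult_trivial C hz (hced G)) (Cov.ker_sig_equiv_even C hF heven hz)

end Cfsg.Agent.Lib.Lead.SPN
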