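import Mathlib
import Cfsg.Prelude.Def_LieTypeChar
import Cfsg.Prelude.Def_ChevStructure
import Cfsg.Agent.Lib.helper14.SQD.Defs
import Cfsg.Agent.S0243
import Cfsg.Agent.S0263

/-!
# Project SQD (designer helper14), row L3 `card_psl_two_part` (helper11)

The 2-part of `|PSL_n(2^f)|` is `2 ^ (f * (n * (n - 1) / 2))`: `S0243.result`, `S0263.prod_split`, `S0263.not_dvd_prod`.
The pure `ℕ` lemma (the statement of row X12) is proved here under the own name `sqdl3_two_part`, so the row needs no other row.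
-/

set_option autoImplicit false

namespace Cfsg.Agent.Lib.helper14.SQD

open Cfsg Cfsg.Lie Matrix

universe u v

/-- the 2-part of a number given by an order formula `d * n = (2 ^ f) ^ N * M` with `d`, `M` odd (= statement of row X12). -/
theorem sqdl3_two_part (f N n M d : ℕ) (hd : d * n = (2 ^ f) ^ N * M) (hdo : ¬ 2 ∣ d)
    (hMo : ¬ 2 ∣ M) : ∃ r, n = 2 ^ (f * N) * r ∧ ¬ 2 ∣ r := by
  have hpow : (2 ^ f) ^ N = 2 ^ (f * N) := (pow_mul 2 f N).symm
  rw [hpow] at hd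
  have hcop : Nat.Coprime (2 ^ (f * N)) d :=
    Nat.Coprime.pow_left _ ((Nat.Prime.coprime_iff_not_dvd Nat.prime_two).2 hdo)
  have hdvd : 2 ^ (f * N) ∣ n := hcop.dvd_of_dvd_mul_left ⟨M, hd⟩
  obtain ⟨r, hr⟩ := hdvd
  refine ⟨r, hr, ?_⟩
  intro h2
  apply hMo
  have hpos : 0 < 2 ^ (f * N) := Nat.pos_of_ne_zero (by positivity)
  have hM : M = d * r := by
    apply Nat.eq_of_mul_eq_mul_left hpos
    rw [← hd, hr]
    ring
  rw [hM]
  exact Dvd.dvd.mul_left h2 d

/-- L3 [M]. `Cfsg.Agent.S0243.result` and `∏ i : Fin n, (q ^ n - q ^ i) = q ^ (n * (n - 1) / 2) * ∏ i, (q ^ (n - i) - 1)`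
(`Cfsg.Agent.S0263.prod_split`), the second factor odd (`Cfsg.Agent.S0263.not_dvd_prod`), `gcd n (q - 1) * (q - 1)` odd; X12. -/
theorem card_psl_two_part {F : Type} [Field F] [Fintype F] [CharP F 2] (f : ℕ) (hF : Fintype.card F = 2 ^ f)
    (n : ℕ) (hn : 2 ≤ n) : ∃ r, Nat.card (Matrix.ProjectiveSpecialLinearGroup (Fin n) F) =
      2 ^ (f * (n * (n - 1) / 2)) * r ∧ ¬ 2 ∣ r := by
  have hf : f ≠ 0 := by
    intro h0
    rw [h0, pow_zero] at hF
    have := Fintype.one_lt_card (α := F)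
    omega
  have h2q : 2 ∣ 2 ^ f := dvd_pow_self 2 hf
  have hq1 : 1 ≤ 2 ^ f := Nat.one_le_two_pow
  have hodd : ¬ 2 ∣ 2 ^ f - 1 := by
    intro h
    have := (Nat.dvd_sub h2q h)
    rw [Nat.sub_sub_self hq1] at this
    exact absurd this (by norm_num)
  have hform := Cfsg.Agent.S0243.result (F := F) hF n hn
  rw [Cfsg.Agent.S0263.prod_split, ← mul_assoc] at hform
  refine sqdl3_two_part f (n * (n - 1) / 2) _ _ _ hform ?_
    (Cfsg.Agent.S0263.not_dvd_prod 2 (2 ^ f) n Nat.prime_two h2q hq1)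
  intro h
  rcases (Nat.Prime.dvd_mul Nat.prime_two).1 h with h | h
  · exact hodd (dvd_trans h (Nat.gcd_dvd_right _ _))
  · exact hodd h

end Cfsg.Agent.Lib.helper14.SQD
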