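import Mathlib
import Cfsg.Prelude.Def_LieTypeChar
import Cfsg.Prelude.Def_ChevStructure
import Cfsg.Agent.Lib.helper14.SQD.Defs
import Cfsg.Agent.Lib.Helper11.SQDL3

/-!
# Project SQD (designer helper14), row L4 = FAM1 `good2_psl` (helper11): the core

`sqdl4_core`: `Good2 (PSL_n(F))` from the statements of X10 (`good2_quot_card` at `S = SL_n`, `N = center`), X13 (`sqd_comap`) and
X14 (`card_comap`) at `f = toGL`, T3b (`card_uutGL`), T6 (`sqd_uutGL`), L1 (`uutGL_le_range_sl`), L2 (`slU_inf_center`); L3 is cited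
(`Helper11.SQDL3`).
-/

set_option autoImplicit false

namespace Cfsg.Agent.Lib.helper14.SQD

open Cfsg Cfsg.Lie Matrix

universe u v

/-- **L4 core**. -/
theorem sqdl4_core {F : Type} [Field F] [Fintype F] [CharP F 2] (n : ℕ) (hn : 2 ≤ n)
    (hX10 : ∀ (U : Subgroup (Matrix.SpecialLinearGroup (Fin n) F)) (k r : ℕ), IsPGroup 2 U →
      2 ^ k ≤ Nat.card U → U ⊓ Subgroup.center (Matrix.SpecialLinearGroup (Fin n) F) = ⊥ →
      Nat.card (Matrix.SpecialLinearGroup (Fin n) F ⧸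
        Subgroup.center (Matrix.SpecialLinearGroup (Fin n) F)) = 2 ^ k * r → ¬ 2 ∣ r → SqD U →
      Good2 (Matrix.SpecialLinearGroup (Fin n) F ⧸
        Subgroup.center (Matrix.SpecialLinearGroup (Fin n) F)))
    (hX13 : ∀ K : Subgroup (GL (Fin n) F),
      K ≤ (Matrix.SpecialLinearGroup.toGL : Matrix.SpecialLinearGroup (Fin n) F →* GL (Fin n) F).range →
      SqD K → SqD (K.comap (Matrix.SpecialLinearGroup.toGL :
        Matrix.SpecialLinearGroup (Fin n) F →* GL (Fin n) F)))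
    (hX14 : ∀ K : Subgroup (GL (Fin n) F),
      K ≤ (Matrix.SpecialLinearGroup.toGL : Matrix.SpecialLinearGroup (Fin n) F →* GL (Fin n) F).range →
      Nat.card (K.comap (Matrix.SpecialLinearGroup.toGL :
        Matrix.SpecialLinearGroup (Fin n) F →* GL (Fin n) F)) = Nat.card K)
    (hT3b : Nat.card (uutGL n F) = Fintype.card F ^ (n * (n - 1) / 2))
    (hT6 : SqD (uutGL n F))
    (hL1 : uutGL n F ≤
      (Matrix.SpecialLinearGroup.toGL : Matrix.SpecialLinearGroup (Fin n) F →* GL (Fin n) F).range)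
    (hL2 : slU n F ⊓ Subgroup.center (Matrix.SpecialLinearGroup (Fin n) F) = ⊥) :
    Good2 (Matrix.ProjectiveSpecialLinearGroup (Fin n) F) := by
  obtain ⟨f, -, hF⟩ := FiniteField.card F 2
  obtain ⟨r, hr, hro⟩ := card_psl_two_part (F := F) (f : ℕ) hF n hn
  have hcard : Nat.card (slU n F) = 2 ^ ((f : ℕ) * (n * (n - 1) / 2)) := by
    unfold slU
    rw [hX14 (uutGL n F) hL1, hT3b, hF, ← pow_mul]
  exact hX10 (slU n F) ((f : ℕ) * (n * (n - 1) / 2)) r (IsPGroup.of_card hcard) (le_of_eq hcard.symm) hL2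
    hr hro (hX13 (uutGL n F) hL1 hT6)

end Cfsg.Agent.Lib.helper14.SQD
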