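import Mathlib
import Cfsg.Prelude.Def_LieTypeChar
import Cfsg.Prelude.Def_ChevStructure
import Cfsg.Agent.Lib.helper14.SQD.Defs
import Cfsg.Agent.Lib.Helper11.SQDL4core
import Cfsg.Agent.Lib.Helper1.SQDX4
import Cfsg.Agent.Lib.Helper18.SQDX2
import Cfsg.Agent.Lib.Helper27.SQDT3
import Cfsg.Agent.Lib.Helper28.SQDT6
import Cfsg.Agent.Lib.Helper24.SQDL1
import Cfsg.Agent.Lib.Helper24.SQDL2

/-!
# Project SQD (designer helper14), row L4 = FAM1 `good2_psl` (helper11), verbatim

`sqdl4_core` on the landed X10 (`Helper1.SQDX4`), X13 X14 (`Helper18.SQDX2`), T3 (`Helper27.SQDT3`), T6 (`Helper28.SQDT6`),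
L1 L2 (`Helper24.SQDL1`, `SQDL2`), L3 (`Helper11.SQDL3`).
-/

set_option autoImplicit false

namespace Cfsg.Agent.Lib.helper14.SQD

open Cfsg Cfsg.Lie Matrix

universe u v

/-- FAM1 (block L). -/
theorem good2_psl {F : Type} [Field F] [Fintype F] [CharP F 2] (n : ℕ) (hn : 2 ≤ n) :
    Good2 (Matrix.ProjectiveSpecialLinearGroup (Fin n) F) :=
  sqdl4_core n hn
    (fun U k r hp hU hZ hM hr hS =>
      good2_quot_card (Subgroup.center (Matrix.SpecialLinearGroup (Fin n) F)) U k r hp hU hZ hM hr hS)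
    (fun K hK h => sqd_comap _ Matrix.SpecialLinearGroup.toGL_injective K hK h)
    (fun K hK => card_comap _ Matrix.SpecialLinearGroup.toGL_injective K hK)
    (card_uutGL n) sqd_uutGL (uutGL_le_range_sl n F) (slU_inf_center n F)

end Cfsg.Agent.Lib.helper14.SQD
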