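import Mathlib
import Cfsg.Prelude.Def_LieTypeChar
import Cfsg.Agent.Lib.helper14.SQD.Defs
import Cfsg.Agent.Lib.helper14.SQD.DefsU
import Cfsg.Agent.Lib.Helper24.SQD.DefsO

/-!
# Project SQD (designer helper14, block O by helper24), row OP3 `sgP_le_range` (helper11): the core

`sqdop3_core`: OP3 from the statements of OW2 (`omegaToGL_range` at `quadFormPlus k F`), OG4 (`sg_le_comm` at `H = GL`),
OP1 (`lev_mem_iso_plus`), OP2 (`sieg_mem_iso_plus`).
-/

set_option autoImplicit false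

namespace Cfsg.Agent.Lib.helper14.SQD

open Cfsg Cfsg.Lie Matrix

universe u v

/-- **OP3 core**. -/
theorem sqdop3_core {k : ℕ} {F : Type u} [Field F] (hk : 3 ≤ k)
    (hOW2 : (omegaToGL F (quadFormPlus k F)).range =
      ⁅isometryGroup F (quadFormPlus k F), isometryGroup F (quadFormPlus k F)⁆)
    (hOG4 : ∀ (φ : GL (Fin k ⊕ Fin k) F →* GL (Fin k ⊕ Fin k) F) (O : Subgroup (GL (Fin k ⊕ Fin k) F)),
      3 ≤ k → (∀ g : GL (Fin k) F, φ (levHom (RingHom.id F) g) ∈ O) →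
      (∀ S ∈ altAdd k F, φ (siegHom (Multiplicative.ofAdd S)) ∈ O) →
      (sgGrp (RingHom.id F) (altAdd k F)).map φ ≤ ⁅O, O⁆)
    (hOP1 : ∀ g : GL (Fin k) F, levHom (RingHom.id F) g ∈ isometryGroup F (quadFormPlus k F))
    (hOP2 : ∀ S ∈ altAdd k F,
      siegHom (Multiplicative.ofAdd S) ∈ isometryGroup F (quadFormPlus k F)) :
    sgGrp (RingHom.id F) (altAdd k F) ≤ (omegaToGL F (quadFormPlus k F)).range := by
  rw [hOW2]
  have h := hOG4 (MonoidHom.id _) (isometryGroup F (quadFormPlus k F)) hk hOP1 hOP2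
  rwa [Subgroup.map_id] at h

end Cfsg.Agent.Lib.helper14.SQD
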