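import Mathlib
import Cfsg.Prelude.Def_LieTypeChar
import Cfsg.Agent.Lib.helper14.SQD.Defs
import Cfsg.Agent.Lib.helper14.SQD.DefsU
import Cfsg.Agent.Lib.Helper24.SQD.DefsO
import Cfsg.Agent.Lib.Helper9.SQDOW
import Cfsg.Agent.Lib.Helper9.SQDOG4
import Cfsg.Agent.Lib.helper15.SQDOP1
import Cfsg.Agent.Lib.Helper25.SQDOP2
import Cfsg.Agent.Lib.Helper11.SQDOP3core

/-!
# Project SQD (designer helper14, block O by helper24), row OP3 `sgP_le_range` (helper11), verbatim

`sqdop3_core` on the landed OW2 (`Helper9.SQDOW`), OG4 (`Helper9.SQDOG4`), OP1 (`helper15.SQDOP1`), OP2 (`Helper25.SQDOP2`).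
-/

set_option autoImplicit false

namespace Cfsg.Agent.Lib.helper14.SQD

open Cfsg Cfsg.Lie Matrix

universe u v

section OP
variable {k : ℕ}

/-- OP3 [E-M]. OW2, OG4 with `φ = MonoidHom.id _` (`Subgroup.map_id`), OP1, OP2. -/
theorem sgP_le_range {F : Type u} [Field F] [CharP F 2] (hk : 3 ≤ k) :
    sgGrp (RingHom.id F) (altAdd k F) ≤ (omegaToGL F (quadFormPlus k F)).range :=
  sqdop3_core hk (omegaToGL_range (quadFormPlus k F))
    (fun φ O hk hlev hsieg => sg_le_comm φ O hk hlev hsieg)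
    (fun g => lev_mem_iso_plus g) (fun S hS => sieg_mem_iso_plus S hS)

end OP

end Cfsg.Agent.Lib.helper14.SQD
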