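import Mathlib
import Cfsg.Prelude.Def_LieTypeChar
import Cfsg.Agent.Lib.helper14.SQD.Defs
import Cfsg.Agent.Lib.helper14.SQD.DefsU
import Cfsg.Agent.Lib.Helper24.SQD.DefsO
import Cfsg.Agent.Lib.Lead.OmegaCenter2
import Cfsg.Agent.Lib.Helper16.PlusFam

/-!
# Project SQD (designer helper14, block O by helper24), row OP4 `omega_plus_center` (helper11), verbatim

The centre of `Ω⁺_{2k}(F)` is trivial in characteristic 2: `Lead.OC2.center_eq_bot` on `Helper16.qfPlus`.
-/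

set_option autoImplicit false

namespace Cfsg.Agent.Lib.helper14.SQD

open Cfsg Cfsg.Lie Matrix

universe u v

section OP
variable {k : ℕ}

/-- OP4 [E]. `Cfsg.Agent.Lib.Lead.OC2.center_eq_bot (Cfsg.Agent.Lib.Helper16.qfPlus k F)
(Cfsg.Agent.Lib.Helper16.qfPlus_nondeg k F) _` (modules `Cfsg.Agent.Lib.Lead.OmegaCenter2`, `Cfsg.Agent.Lib.Helper16.PlusFam`;
`qfPlus_coe` is `rfl`; `Fintype.card (Fin k ⊕ Fin k) = 2 * k`); compare the char-2 branch of `Cfsg.Agent.S0293.result`. -/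
theorem omega_plus_center {F : Type} [Field F] [Fintype F] [CharP F 2] (hk : 2 ≤ k) :
    Subgroup.center ↥(Omega F (quadFormPlus k F)) = ⊥ := by
  have h := Cfsg.Agent.Lib.Lead.OC2.center_eq_bot (Cfsg.Agent.Lib.Helper16.qfPlus k F)
    (Cfsg.Agent.Lib.Helper16.qfPlus_nondeg k F)
    (by rw [Fintype.card_sum, Fintype.card_fin]; omega)
  rw [Cfsg.Agent.Lib.Helper16.qfPlus_coe] at h
  exact h

end OP

end Cfsg.Agent.Lib.helper14.SQD
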