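import Mathlib
import Cfsg.Prelude.Def_LieTypeChar
import Cfsg.Prelude.Def_ChevStructure
import Cfsg.Prelude.Def_ChevF4
import Cfsg.Prelude.Def_LieTwisted
import Cfsg.Agent.Lib.helper8.ChevTF35
import Cfsg.Agent.Lib.helper8.ChevTwU2
import Cfsg.Agent.Lib.helper14.SQD.Defs
import Cfsg.Agent.Lib.helper14.SQD.DefsTF

/-!
# Project SQD (designer helper14), block TF, row TF15 `tf_two_part` (helper11), verbatim

The 2-part of `|²F₄(q)|`, `q = 2 ^ (2 * m + 1)`, is `q ^ 12`: helper8's `h8tf_card_both`; the cofactor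
`(q - 1) (q ^ 3 + 1) (q ^ 4 - 1) (q ^ 6 + 1)` is odd.
-/

set_option autoImplicit false

namespace Cfsg.Agent.Lib.helper14.SQD

open Cfsg Cfsg.Lie Cfsg.Lie.ChevalleyDatum Cfsg.Agent.Lib.helper8

universe u v

/-- the cofactor of the order of `²F₄(Q)` is odd for even `Q ≥ 2`. -/
theorem sqdtf15_odd (P : ℕ) (hP : 1 ≤ P) :
    ¬ 2 ∣ (2 * P - 1) * ((2 * P) ^ 3 + 1) * ((2 * P) ^ 4 - 1) * ((2 * P) ^ 6 + 1) := by
  obtain ⟨A, hA⟩ : ∃ A, (2 * P) ^ 3 = 2 * A := ⟨4 * P ^ 3, by ring⟩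
  obtain ⟨B, hB⟩ : ∃ B, (2 * P) ^ 4 = 2 * B := ⟨8 * P ^ 4, by ring⟩
  obtain ⟨C, hC⟩ : ∃ C, (2 * P) ^ 6 = 2 * C := ⟨32 * P ^ 6, by ring⟩
  have hB1 : 1 ≤ B := by
    have h1 : 1 ≤ (2 * P) ^ 4 := Nat.one_le_pow _ _ (by omega)
    omega
  rw [hA, hB, hC]
  intro hd
  rcases (Nat.Prime.dvd_mul Nat.prime_two).1 hd with hd | hd
  · rcases (Nat.Prime.dvd_mul Nat.prime_two).1 hd with hd | hd
    · rcases (Nat.Prime.dvd_mul Nat.prime_two).1 hd with hd | hd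
      · omega
      · omega
    · omega
  · omega

/-- TF15 [E-M]. `(h8tf_card_both hK).2`; `q = 2 ^ (2 * m + 1)` is even and `≥ 2`, so `q - 1`, `q ^ 3 + 1`, `q ^ 4 - 1`,
`q ^ 6 + 1` are odd (`Nat.odd_mul`, `Nat.even_pow`, `Nat.Even.sub_odd`); `q ^ 12 = 2 ^ ((2 * m + 1) * 12)` (`pow_mul`). -/
theorem tf_two_part {K : Type u} [Field K] [Fintype K] (m : ℕ) (hK : Fintype.card K = 2 ^ (2 * m + 1)) :
    ∃ r, Nat.card ↥(twistedF4 K (2 ^ m)) = 2 ^ ((2 * m + 1) * 12) * r ∧ ¬ 2 ∣ r := by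
  have h := (h8tf_card_both hK).2
  have hQ2 : 2 ^ (2 * m + 1) = 2 * 2 ^ (2 * m) := by rw [pow_succ]; ring
  have hP : 1 ≤ 2 ^ (2 * m) := Nat.one_le_two_pow
  refine ⟨(2 * 2 ^ (2 * m) - 1) * ((2 * 2 ^ (2 * m)) ^ 3 + 1) * ((2 * 2 ^ (2 * m)) ^ 4 - 1) *
    ((2 * 2 ^ (2 * m)) ^ 6 + 1), ?_, sqdtf15_odd _ hP⟩
  rw [h, pow_mul, hQ2]
  ring

end Cfsg.Agent.Lib.helper14.SQD
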