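import Mathlib

set_option autoImplicit false

namespace Cfsg.Agent.Lib.Helper20.SS

/-- exponent arithmetic for `arith_T1` -/
theorem h11_t1_exp (b : ℕ) (hb : 16 ≤ b) :
    6 + 3 * b + (b + 4) * (2 ^ ((b + 5) / 2) + 5) ≤ 2 ^ (b - 1) := by
  induction b using Nat.strong_induction_on with
  | _ b ih =>
    rcases Nat.lt_or_ge b 18 with h18 | h18
    · interval_cases b <;> norm_num
    · obtain ⟨j, rfl⟩ : ∃ j, b = j + 2 := ⟨b - 2, by omega⟩
      have hj : 16 ≤ j := by omega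
      have IH := ih j (by omega) hj
      have hc : (j + 2 + 5) / 2 = (j + 5) / 2 + 1 := by omega
      have he : j + 2 - 1 = (j - 1) + 2 := by omega
      rw [hc, he, pow_succ, pow_succ, pow_succ]
      set X := 2 ^ ((j + 5) / 2) with hX
      set Y := 2 ^ (j - 1) with hY
      nlinarith [Nat.zero_le (j * X), Nat.zero_le X, Nat.zero_le Y]

/-- SS-T1 -/
theorem arith_T1 {n k : ℕ} (hk : 2 ^ 16 ≤ k) (hn : n ≤ 8 * k) :
    8 * k ^ 3 * n ^ (Nat.sqrt n + 6) < 2 ^ (k / 2) := by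
  have hk0 : k ≠ 0 := by
    intro h; subst h; norm_num at hk
  set b := Nat.log 2 k with hb
  have hb1 : 2 ^ b ≤ k := Nat.pow_log_le_self 2 hk0
  have hb2 : k < 2 ^ (b + 1) := Nat.lt_pow_succ_log_self (by norm_num) k
  have hb16 : 16 ≤ b := Nat.le_log_of_pow_le (by norm_num) hk
  have hexp := h11_t1_exp b hb16
  set c := (b + 5) / 2 with hc
  have hk3 : k ^ 3 < 2 ^ (3 * (b + 1)) := by
    have := Nat.pow_lt_pow_left hb2 (by norm_num : 3 ≠ 0)
    rwa [← pow_mul, Nat.mul_comm] at this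
  have hn2 : n < 2 ^ (b + 4) := by
    have : (2:ℕ) ^ (b + 4) = 8 * 2 ^ (b + 1) := by ring
    omega
  have hs : Nat.sqrt n < 2 ^ c := by
    rw [Nat.sqrt_lt']
    calc n < 2 ^ (b + 4) := hn2
      _ ≤ 2 ^ (2 * c) := Nat.pow_le_pow_right (by norm_num) (by omega)
      _ = (2 ^ c) ^ 2 := by rw [← pow_mul, Nat.mul_comm]
  have hnp : n ^ (Nat.sqrt n + 6) ≤ 2 ^ ((b + 4) * (2 ^ c + 5)) := by
    calc n ^ (Nat.sqrt n + 6) ≤ (2 ^ (b + 4)) ^ (Nat.sqrt n + 6) :=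
          Nat.pow_le_pow_left hn2.le _
      _ ≤ (2 ^ (b + 4)) ^ (2 ^ c + 5) :=
          Nat.pow_le_pow_right (by positivity) (by omega)
      _ = 2 ^ ((b + 4) * (2 ^ c + 5)) := by rw [← pow_mul]
  have hhalf : 2 ^ (b - 1) ≤ k / 2 := by
    rw [Nat.le_div_iff_mul_le (by norm_num)]
    calc 2 ^ (b - 1) * 2 = 2 ^ (b - 1 + 1) := by rw [pow_succ]
      _ = 2 ^ b := by congr 1; omega
      _ ≤ k := hb1
  calc 8 * k ^ 3 * n ^ (Nat.sqrt n + 6)
      < 8 * 2 ^ (3 * (b + 1)) * 2 ^ ((b + 4) * (2 ^ c + 5)) := by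
        apply Nat.mul_lt_mul_of_lt_of_le
        · exact Nat.mul_lt_mul_of_pos_left hk3 (by norm_num)
        · exact hnp
        · positivity
    _ = 2 ^ (3 + 3 * (b + 1) + (b + 4) * (2 ^ c + 5)) := by
        rw [pow_add, pow_add]; norm_num
    _ ≤ 2 ^ (2 ^ (b - 1)) := Nat.pow_le_pow_right (by norm_num) (by omega)
    _ ≤ 2 ^ (k / 2) := Nat.pow_le_pow_right (by norm_num) hhalf

end Cfsg.Agent.Lib.Helper20.SS
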