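import Mathlib

set_option autoImplicit false

namespace Cfsg.Agent.Lib.Helper20.SS

/-- exponent arithmetic for `arith_T2` -/
theorem h11_t2_exp (b : ℕ) (hb : 16 ≤ b) :
    3 + (b + 1) * (2 * 2 ^ ((3 * b + 6) / 4) + 13) ≤ 6 * 2 ^ b := by
  induction b using Nat.strong_induction_on with
  | _ b ih =>
    rcases Nat.lt_or_ge b 20 with h20 | h20
    · interval_cases b <;> norm_num
    · obtain ⟨j, rfl⟩ : ∃ j, b = j + 4 := ⟨b - 4, by omega⟩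
      have hj : 16 ≤ j := by omega
      have IH := ih j (by omega) hj
      have hc : (3 * (j + 4) + 6) / 4 = (3 * j + 6) / 4 + 3 := by omega
      rw [hc, pow_succ, pow_succ, pow_succ, pow_succ, pow_succ, pow_succ, pow_succ]
      set X := 2 ^ ((3 * j + 6) / 4) with hX
      set Y := 2 ^ j with hY
      have hjX : 16 * X ≤ j * X := Nat.mul_le_mul_right _ hj
      nlinarith [Nat.zero_le (j * X), Nat.zero_le X, Nat.zero_le Y]

/-- SS-T2 -/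
theorem arith_T2 {n k : ℕ} (hk : 2 ^ 16 ≤ k) (hn : 8 * k < n) (hnk : n ^ 2 ≤ k ^ 3) :
    8 * k ^ 3 * n ^ (Nat.sqrt n + 6) < 2 ^ (6 * k) := by
  have hk0 : k ≠ 0 := by
    intro h; subst h; norm_num at hk
  have hkpos : 0 < k := Nat.pos_of_ne_zero hk0
  set b := Nat.log 2 k with hb
  have hb1 : 2 ^ b ≤ k := Nat.pow_log_le_self 2 hk0
  have hb2 : k < 2 ^ (b + 1) := Nat.lt_pow_succ_log_self (by norm_num) k
  have hb16 : 16 ≤ b := Nat.le_log_of_pow_le (by norm_num) hk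
  have hexp := h11_t2_exp b hb16
  set c := (3 * b + 6) / 4 with hc
  -- `n ≤ k ^ 2`
  have hnk2 : n ≤ k ^ 2 := by
    have h1 : n ^ 2 ≤ (k ^ 2) ^ 2 := by
      calc n ^ 2 ≤ k ^ 3 := hnk
        _ ≤ k ^ 4 := Nat.pow_le_pow_right hkpos (by norm_num)
        _ = (k ^ 2) ^ 2 := by ring
    exact le_of_pow_le_pow_left₀ (by norm_num) (Nat.zero_le _) h1
  have hn2 : n < 2 ^ (2 * (b + 1)) := by
    calc n ≤ k ^ 2 := hnk2
      _ < (2 ^ (b + 1)) ^ 2 := Nat.pow_lt_pow_left hb2 (by norm_num)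
      _ = 2 ^ (2 * (b + 1)) := by rw [← pow_mul, Nat.mul_comm]
  -- `s ^ 4 ≤ k ^ 3`
  have hs4 : (Nat.sqrt n) ^ 4 ≤ k ^ 3 := by
    have h1 : (Nat.sqrt n) ^ 2 ≤ n := Nat.sqrt_le' n
    calc (Nat.sqrt n) ^ 4 = ((Nat.sqrt n) ^ 2) ^ 2 := by ring
      _ ≤ n ^ 2 := Nat.pow_le_pow_left h1 2
      _ ≤ k ^ 3 := hnk
  have hs : Nat.sqrt n < 2 ^ c := by
    by_contra hlt
    have hge : 2 ^ c ≤ Nat.sqrt n := not_lt.mp hlt
    have h1 : (2 ^ c) ^ 4 ≤ (Nat.sqrt n) ^ 4 := Nat.pow_le_pow_left hge 4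
    have h2 : k ^ 3 < (2 ^ (b + 1)) ^ 3 := Nat.pow_lt_pow_left hb2 (by norm_num)
    have h3 : (2 ^ (b + 1)) ^ 3 ≤ (2 ^ c) ^ 4 := by
      rw [← pow_mul, ← pow_mul]
      exact Nat.pow_le_pow_right (by norm_num) (by omega)
    omega
  have hk3 : k ^ 3 < 2 ^ (3 * (b + 1)) := by
    have := Nat.pow_lt_pow_left hb2 (by norm_num : 3 ≠ 0)
    rwa [← pow_mul, Nat.mul_comm] at this
  have hnp : n ^ (Nat.sqrt n + 6) ≤ 2 ^ ((2 * (b + 1)) * (2 ^ c + 5)) := by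
    calc n ^ (Nat.sqrt n + 6) ≤ (2 ^ (2 * (b + 1))) ^ (Nat.sqrt n + 6) :=
          Nat.pow_le_pow_left hn2.le _
      _ ≤ (2 ^ (2 * (b + 1))) ^ (2 ^ c + 5) :=
          Nat.pow_le_pow_right (by positivity) (by omega)
      _ = 2 ^ ((2 * (b + 1)) * (2 ^ c + 5)) := by rw [← pow_mul]
  have hfin : 3 + 3 * (b + 1) + (2 * (b + 1)) * (2 ^ c + 5) ≤ 6 * k := by
    have h1 : 6 * 2 ^ b ≤ 6 * k := Nat.mul_le_mul_left _ hb1
    nlinarith [Nat.zero_le (b * 2 ^ c), Nat.zero_le (2 ^ c)]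
  calc 8 * k ^ 3 * n ^ (Nat.sqrt n + 6)
      < 8 * 2 ^ (3 * (b + 1)) * 2 ^ ((2 * (b + 1)) * (2 ^ c + 5)) := by
        apply Nat.mul_lt_mul_of_lt_of_le
        · exact Nat.mul_lt_mul_of_pos_left hk3 (by norm_num)
        · exact hnp
        · positivity
    _ = 2 ^ (3 + 3 * (b + 1) + (2 * (b + 1)) * (2 ^ c + 5)) := by
        rw [pow_add, pow_add]; norm_num
    _ ≤ 2 ^ (6 * k) := Nat.pow_le_pow_right (by norm_num) hfin

end Cfsg.Agent.Lib.Helper20.SS
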