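import Mathlib
import Cfsg.Agent.Lib.Helper20.SS.Defs

set_option autoImplicit false

namespace Cfsg.Agent.Lib.Helper20.SS

open Finset in
/-- SS-U2: a `k`-smooth binomial coefficient is at most `n ^ π(√n) * 4 ^ min k (n/3)`. -/
theorem choose_le_sqrt_bound {n k : ℕ} (hk : 0 < k) (hkn : 2 * k ≤ n) (h : Smooth n k) :
    n.choose k ≤ n ^ Nat.primeCounting (Nat.sqrt n) * 4 ^ min k (n / 3) := by
  have hn0 : 0 < n := by omega
  have hkn' : k ≤ n := by omega
  -- small `n` is impossible
  have hn4 : 4 ≤ n := by
    by_contra hlt
    have hk1 : k = 1 := by omega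
    subst hk1
    have hn2 : n ≠ 1 := by omega
    obtain ⟨p, hp, hpd⟩ := Nat.exists_prime_and_dvd hn2
    have := h p hp (by simpa using hpd)
    exact absurd hp.two_le (by omega)
  have hs2 : 2 ≤ Nat.sqrt n := by
    rw [Nat.le_sqrt]; omega
  set f := (n.choose k).factorization with hf
  have hprod := Nat.prod_pow_factorization_choose n k hkn'
  -- vanishing of `f`
  have hf0 : ∀ p, f p ≠ 0 → p.Prime ∧ p ≤ k := by
    intro p hp
    have hpp : p.Prime := by
      by_contra hnp
      exact hp (Nat.factorization_eq_zero_of_not_prime _ hnp)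
    refine ⟨hpp, h p hpp ?_⟩
    exact Nat.dvd_of_factorization_pos hp
  -- split the range
  rw [← hprod, ← Finset.prod_filter_mul_prod_filter_not (range (n + 1)) (fun p => p ≤ Nat.sqrt n)]
  apply Nat.mul_le_mul
  · -- small primes
    calc ∏ p ∈ (range (n + 1)).filter (fun p => p ≤ Nat.sqrt n), p ^ f p
        = ∏ p ∈ ((range (n + 1)).filter (fun p => p ≤ Nat.sqrt n)).filter Nat.Prime, p ^ f p := by
          refine (Finset.prod_filter_of_ne ?_).symm
          intro p _ hne
          by_contra hpp
          apply hne
          rw [hf, Nat.factorization_eq_zero_of_not_prime _ hpp, pow_zero]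
      _ ≤ ∏ _p ∈ ((range (n + 1)).filter (fun p => p ≤ Nat.sqrt n)).filter Nat.Prime, n := by
          apply Finset.prod_le_prod'
          intro p _
          exact Nat.pow_factorization_choose_le hn0
      _ = n ^ (((range (n + 1)).filter (fun p => p ≤ Nat.sqrt n)).filter Nat.Prime).card := by
          rw [Finset.prod_const]
      _ ≤ n ^ Nat.primeCounting (Nat.sqrt n) := by
          apply Nat.pow_le_pow_right hn0
          rw [Nat.primeCounting, Nat.primeCounting', Nat.count_eq_card_filter_range]
          apply Finset.card_le_card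
          intro p hp
          simp only [Finset.mem_filter, Finset.mem_range] at hp ⊢
          exact ⟨by omega, hp.2⟩
  · -- large primes
    have hsub : ∏ p ∈ (range (n + 1)).filter (fun p => ¬ p ≤ Nat.sqrt n), p ^ f p
        ≤ ∏ p ∈ (range (min k (n / 3) + 1)).filter Nat.Prime, p := by
      have h1 : ∏ p ∈ (range (n + 1)).filter (fun p => ¬ p ≤ Nat.sqrt n), p ^ f p
          = ∏ p ∈ ((range (n + 1)).filter (fun p => ¬ p ≤ Nat.sqrt n)).filter (fun p => f p ≠ 0),
              p ^ f p := by
        refine (Finset.prod_filter_of_ne ?_).symm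
        intro p _ hne hpp
        apply hne
        rw [hpp, pow_zero]
      rw [h1]
      have h2 : ∀ p ∈ ((range (n + 1)).filter (fun p => ¬ p ≤ Nat.sqrt n)).filter
          (fun p => f p ≠ 0), p ^ f p = p := by
        intro p hp
        simp only [Finset.mem_filter, Finset.mem_range] at hp
        have hlarge : n < p ^ 2 := by
          have h0 := hp.1.2
          have h1 : Nat.sqrt n < p := not_le.mp h0
          have := Nat.sqrt_lt'.mp h1
          simpa using this
        have hle : f p ≤ 1 := Nat.factorization_choose_le_one hlarge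
        have : f p = 1 := by omega
        rw [this, pow_one]
      rw [Finset.prod_congr rfl h2]
      apply Finset.prod_le_prod_of_subset_of_one_le'
      · intro p hp
        simp only [Finset.mem_filter, Finset.mem_range] at hp ⊢
        obtain ⟨⟨hpn, hps⟩, hfp⟩ := hp
        obtain ⟨hpp, hpk⟩ := hf0 p hfp
        refine ⟨?_, hpp⟩
        have hp2 : p ≠ 2 := by omega
        have h3 : 3 * p ≤ n := by
          by_contra hlt
          exact hfp (Nat.factorization_choose_of_lt_three_mul hp2 hpk (by omega) (by omega))
        have : p ≤ n / 3 := by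
          rw [Nat.le_div_iff_mul_le (by norm_num)]; omega
        have := le_min hpk this
        omega
      · intro p hp _
        simp only [Finset.mem_filter] at hp
        exact hp.2.one_le
    calc _ ≤ ∏ p ∈ (range (min k (n / 3) + 1)).filter Nat.Prime, p := hsub
      _ = primorial (min k (n / 3)) := rfl
      _ ≤ 4 ^ min k (n / 3) := primorial_le_four_pow _

end Cfsg.Agent.Lib.Helper20.SS
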