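import Mathlib
import Cfsg.Agent.Lib.Lead.STB.Defs
import Cfsg.Agent.Lib.helper23.STBB4

/-!
# Project STB (lead; family of S2094), rows W1 (`SysB.cj_w_xs_disj`) and B6 (`SysB.cj_xs_xs`), verbatim vs `Lead/STB/Skel1.lean.txt`.  Writer: helper11.
-/

set_option autoImplicit false

namespace Cfsg.Agent.Lib.Lead.STB

open Cfsg.Agent.Lib.helper15.St2 Cfsg.Agent.Lib.helper3.STC Cfsg.Agent.Lib.Lead.STD

universe v w

namespace SysB

variable {K : Type*} [Field K] {ι : Type*} {G : Type*} [Group G] (S : SysB K ι G)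

/-- B6 [S]  conjugation form of `ss`. -/
theorem cj_xs_xs {a b : ι ⊕ ι} (hab : a ≠ b) (hab' : a ≠ ng b) (t u : K) :
    cj (S.xs a t) (S.xs b u) = S.x a (ng b) (-(2 * t * u)) * S.xs b u := by
  have h := S.ss a b hab hab' t u
  unfold cj
  rw [← h]
  group

theorem stbw1_cj_mul (g h y : G) : cj (g * h) y = cj g (cj h y) := by
  unfold cj; group

/-- W1 [S-M]  the long Weyl element on a short root element with an index outside `{a, b, ng a, ng b}`: all three factors of `w a b u` commute with `xs c t` (B4). -/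
theorem cj_w_xs_disj {a b c : ι ⊕ ι} (hca : c ≠ a) (hcb : c ≠ b) (hca' : c ≠ ng a) (hcb' : c ≠ ng b) (u t : K) :
    cj (S.w a b u) (S.xs c t) = S.xs c t := by
  have hac : a ≠ ng c := by
    intro e
    apply hca'
    rw [e, ng_ng]
  have hbc : b ≠ ng c := by
    intro e
    apply hcb'
    rw [e, ng_ng]
  have h1 : ∀ s, cj (S.x a b s) (S.xs c t) = S.xs c t := fun s => S.cj_x_xs_comm (Ne.symm hcb) hac t s
  have h2 : ∀ s, cj (S.x b a s) (S.xs c t) = S.xs c t := fun s => S.cj_x_xs_comm (Ne.symm hca) hbc t s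
  show cj (S.toSysD.w a b u) (S.xs c t) = S.xs c t
  unfold SysD.w
  rw [stbw1_cj_mul, stbw1_cj_mul, h1, h2, h1]

end SysB

end Cfsg.Agent.Lib.Lead.STB
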