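import Mathlib
import Cfsg.Agent.Lib.helper15.St2
import Cfsg.Agent.Lib.helper3.STC.Defs
import Cfsg.Agent.Lib.helper3.STC.Defs2
import Cfsg.Agent.Lib.helper3.STC.Defs3

/-!
# Project STC (designer helper3), row F8 `IsMon_move` (helper11), verbatim
-/

set_option autoImplicit false

namespace Cfsg.Agent.Lib.helper3.STC

open Cfsg.Agent.Lib.helper15.St2

namespace SysC

variable {K : Type*} [Field K] {ι : Type*} {G : Type*} [Group G] (S : SysC K ι G)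

section F
variable [DecidableEq ι] (o : ι ⊕ ι)

/-- F8 [S]  moving a root element across a monomial element (model `Sys.IsMon_swap_move`). -/
theorem IsMon_move {g : G} {σ : Equiv.Perm (ι ⊕ ι)} {d : ι ⊕ ι → K} (hg : S.IsMon g σ d) {a b : ι ⊕ ι} (hab : a ≠ b) (t : K) :
    ∃ s : K, S.x a b t * g = g * S.x (σ⁻¹ a) (σ⁻¹ b) s := by
  obtain ⟨hd, hcj⟩ := hg
  have hne : σ⁻¹ a ≠ σ⁻¹ b := fun h => hab (σ⁻¹.injective h)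
  refine ⟨(d (σ⁻¹ a))⁻¹ * d (σ⁻¹ b) * t, ?_⟩
  have h1 := hcj (σ⁻¹ a) (σ⁻¹ b) hne ((d (σ⁻¹ a))⁻¹ * d (σ⁻¹ b) * t)
  have h2 : d (σ⁻¹ a) * (d (σ⁻¹ b))⁻¹ * ((d (σ⁻¹ a))⁻¹ * d (σ⁻¹ b) * t) = t := by
    have ha := hd (σ⁻¹ a)
    have hb := hd (σ⁻¹ b)
    calc d (σ⁻¹ a) * (d (σ⁻¹ b))⁻¹ * ((d (σ⁻¹ a))⁻¹ * d (σ⁻¹ b) * t)
        = (d (σ⁻¹ a) * (d (σ⁻¹ a))⁻¹) * ((d (σ⁻¹ b))⁻¹ * d (σ⁻¹ b)) * t := by ring
      _ = t := by rw [mul_inv_cancel₀ ha, inv_mul_cancel₀ hb, one_mul, one_mul]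
  have e1 : σ (σ⁻¹ a) = a := by simp
  have e2 : σ (σ⁻¹ b) = b := by simp
  rw [h2, e1, e2] at h1
  rw [← h1]
  unfold cj
  group

end F

end SysC

end Cfsg.Agent.Lib.helper3.STC
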