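import Mathlib
import Cfsg.Agent.Lib.helper15.St2
import Cfsg.Agent.Lib.helper3.STC.Defs
import Cfsg.Agent.Lib.helper3.STC.Defs2
import Cfsg.Agent.Lib.helper3.STC.Defs3
import Cfsg.Agent.Lib.Helper26.STCN1
import Cfsg.Agent.Lib.Helper12.STCN2
import Cfsg.Agent.Lib.Helper16.STCF5
import Cfsg.Agent.Lib.Helper11.STCF8

/-!
# Project STC (designer helper3), row F9 `lemA_long`: core (helper11)

`stcf9_core`: the conclusion of `lemA_long` from the statements of F1 `HW.short` (at `u = 1`), F6 `Yg_split`, F7 `Zg_eq` and `lemA_Z`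
(as hypotheses); the landed N1 (helper26), N2 (helper12), F5 (helper16) and F8 are cited.
-/

set_option autoImplicit false

namespace Cfsg.Agent.Lib.helper3.STC

open Cfsg.Agent.Lib.helper15.St2

namespace SysC

variable {K : Type*} [Field K] {ι : Type*} {G : Type*} [Group G] (S : SysC K ι G)

section F
variable [DecidableEq ι] (o : ι ⊕ ι)

omit [DecidableEq ι] in
theorem stcf9_ng_ne (a : ι ⊕ ι) : ng a ≠ a := by
  cases a <;> simp [ng]

omit [DecidableEq ι] in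
theorem stcf9_ng_ng (a : ι ⊕ ι) : ng (ng a) = a := by
  cases a <;> simp [ng]

omit [DecidableEq ι] in
theorem stcf9_ng_inj {a b : ι ⊕ ι} (h : ng a = ng b) : a = b := by
  rw [← stcf9_ng_ng a, h, stcf9_ng_ng]

/-- `(sws o j)⁻¹` maps `o ↦ j` and `ng o ↦ ng j`. -/
theorem stcf9_sws_inv {j : ι ⊕ ι} (hj' : j ≠ ng o) :
    (sws o j)⁻¹ o = j ∧ (sws o j)⁻¹ (ng o) = ng j := by
  have h1 : ng j ≠ j := stcf9_ng_ne j
  have h2 : ng o ≠ o := stcf9_ng_ne o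
  have h3 : ng j ≠ o := fun h => hj' (by rw [← h, stcf9_ng_ng])
  unfold sws
  rw [mul_inv_rev, Equiv.swap_inv, Equiv.swap_inv]
  constructor
  · rw [Equiv.Perm.mul_apply, Equiv.swap_apply_left, Equiv.swap_apply_of_ne_of_ne hj' h1.symm]
  · rw [Equiv.Perm.mul_apply, Equiv.swap_apply_of_ne_of_ne h2 hj'.symm, Equiv.swap_apply_left]

/-- F9 core. -/
theorem stcf9_core [Finite K] (hH : S.HH)
    (hF1 : ∀ j : ι ⊕ ι, j ≠ o → j ≠ ng o → S.IsMon (S.w o j 1) (sws o j) (dws o j 1))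
    (hF6 : ∀ y ∈ S.Yg o, y ∈ S.Zg o ∨
      ∃ j, j ≠ o ∧ j ≠ ng o ∧ ∃ u : K, u ≠ 0 ∧ ∃ y' ∈ S.Yj o j, y = S.x j o u * y')
    (hF7a : ∀ y ∈ S.Zg o, ∃ c : K, y = S.zz o c)
    (hF7b : ∀ (s c : K) {p : G}, p ∈ S.Phat o →
      S.x o (ng o) s * (S.zz o c * p) ∈ S.cell0 o ∨ S.x o (ng o) s * (S.zz o c * p) ∈ S.cell o (ng o))
    (s : K) {y p : G} (hy : y ∈ S.Yg o) (hp : p ∈ S.Phat o) :
    S.InD o (S.x o (ng o) s * (y * p)) := by
  rcases hF6 y hy with hZ | ⟨j, hj, hj', u, hu, y', hy', rfl⟩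
  · obtain ⟨c, rfl⟩ := hF7a y hZ
    rcases hF7b s c hp with h | h
    · exact Or.inl h
    · exact Or.inr ⟨ng o, stcf9_ng_ne o, h⟩
  · right
    refine ⟨j, hj, ?_⟩
    obtain ⟨y₂, hy₂, p₂, hp₂, h2⟩ := S.cell0_sub_cell o hH hj hj' hu hy' hp
    obtain ⟨s', hs'⟩ := S.IsMon_move (hF1 j hj hj') (stcf9_ng_ne o).symm s
    obtain ⟨e1, e2⟩ := stcf9_sws_inv o hj'
    rw [e1, e2] at hs'
    have hjn : j ≠ ng j := (stcf9_ng_ne j).symm
    have hnjo : ng j ≠ o := fun h => hj' (by rw [← h, stcf9_ng_ng])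
    have hnjo' : ng j ≠ ng o := fun h => hj (stcf9_ng_inj h)
    refine ⟨cj (S.x j (ng j) s') y₂, S.x_cj_mem_Yg o hjn hj hj' hnjo hnjo' s' y₂ hy₂,
      S.x j (ng j) s' * p₂,
      (S.Phat o).mul_mem (S.Pg_le_Phat o (S.x_mem_Pg o hjn hnjo hj' s')) hp₂, ?_⟩
    have h3 : S.x o (ng o) s * (S.x j o u * y' * p) = S.x o (ng o) s * (S.w o j 1 * y₂ * p₂) := by
      rw [h2]
    calc S.x o (ng o) s * (S.x j o u * y' * p)
        = (S.x o (ng o) s * S.w o j 1) * y₂ * p₂ := by rw [h3]; group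
      _ = S.w o j 1 * S.x j (ng j) s' * y₂ * p₂ := by rw [hs']
      _ = S.w o j 1 * cj (S.x j (ng j) s') y₂ * (S.x j (ng j) s' * p₂) := by
          unfold cj; group

end F

end SysC

end Cfsg.Agent.Lib.helper3.STC
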