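import Mathlib
import Cfsg.Agent.Lib.helper15.St2
import Cfsg.Agent.Lib.helper3.STC.Defs
import Cfsg.Agent.Lib.helper3.STC.Defs2
import Cfsg.Agent.Lib.helper3.STC.Defs3
import Cfsg.Agent.Lib.Helper11.STCF9core
import Cfsg.Agent.Lib.Helper22.STCF1
import Cfsg.Agent.Lib.helper23.STCF6
import Cfsg.Agent.Lib.Helper25.STCF7

/-!
# Project STC (designer helper3), row F9 `lemA_long` (helper11), verbatim
-/

set_option autoImplicit false

namespace Cfsg.Agent.Lib.helper3.STC

open Cfsg.Agent.Lib.helper15.St2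

namespace SysC

variable {K : Type*} [Field K] {ι : Type*} {G : Type*} [Group G] (S : SysC K ι G)

section F
variable [DecidableEq ι] (o : ι ⊕ ι)

/-- F9 [M]  the long root element on the big cell.  `Yg_split`: if `y ∈ Zg o`, `Zg_eq` and `lemA_Z`.  Otherwise `y * p = w o j 1 * y₂ * p₂` (`cell0_sub_cell`), and
`x o (ng o) s * w o j 1 = w o j 1 * x j (ng j) s'` (`IsMon_move` for `hW.short`: `(sws o j)⁻¹` maps `o ↦ j`, `ng o ↦ ng j`), and the `L`-type element `x j (ng j) s'` normalises `Yg o`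
(N2) and lies in `Pg o`: the product lies in `cell o j`. -/
theorem lemA_long [Finite K] [Finite ι] (hW : S.HW) (hH : S.HH) (s : K) {y p : G} (hy : y ∈ S.Yg o) (hp : p ∈ S.Phat o) :
    S.InD o (S.x o (ng o) s * (y * p)) :=
  S.stcf9_core o hH
    (fun j hj hj' => SysC.HW.short S hW (Ne.symm hj)
      (fun h => hj' (by rw [h, stcf9_ng_ng])) 1 one_ne_zero)
    (S.Yg_split o) (S.Zg_eq o) (fun s c _ hp => S.lemA_Z o s c hp) s hy hp

end F

end SysC

end Cfsg.Agent.Lib.helper3.STC
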