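import Mathlib
import Cfsg.Agent.Lib.helper15.St2
import Cfsg.Agent.Lib.helper7.StA
import Cfsg.Agent.Lib.helper7.StC
import Cfsg.Agent.Lib.helper7.StE
import Cfsg.Agent.Lib.Helper24.STCI1
import Cfsg.Agent.Lib.helper23.STCX2
import Cfsg.Agent.Lib.Helper27.STU.Defs
import Cfsg.Agent.Lib.Helper27.STU.Defs2
import Cfsg.Agent.Lib.Helper11.STUB3
import Cfsg.Agent.Lib.Helper11.STUX1

/-!
# Project STU (helper27, PSU S2291), row N4 (`Yg_decomp`).  By helper11 (model `Helper26.STCN4`).
-/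

set_option autoImplicit false

namespace Cfsg.Agent.Lib.Helper27.STU

open Cfsg.Agent.Lib.helper15.St2 Cfsg.Agent.Lib.helper7.St Cfsg.Agent.Lib.helper3.STC

namespace SysU

variable {F : Type*} [Field F] [StarRing F] {od : Prop} {ι : Type*} {G : Type*} [Group G] (S : SysU F od ι G)

section N
variable (o : ι ⊕ ι)

/-- N4 [M]  decomposition of `Yg o` along a short root subgroup `xs j o` (model `Helper26.STCN4`).  `closure_left_induction'`; for a generator `xs a o t`: `a = j`: `adds`.  Else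
`xs a o t * xs j o u = xs j o u * cj (xs j o (-u)) (xs a o t)` and the conjugate is `xs a o t` (`cj_comm_ss`, when `a ≠ ng j`) or `xl (ng o) _ * xs a o t` (when `a = ng j`:
`xs (ng j) o t = xs (ng o) j _` by `sym`, then `cj_ssl`-type); for a generator `xl (ng o) ξ`: it commutes with `xs j o u` (`cj_comm_sl`); all these lie in `Yj o j`. -/
theorem Yg_decomp {j : ι ⊕ ι} (hj : j ≠ o) (hj' : j ≠ ng o) :
    ∀ y ∈ S.Yg o, ∃ u : F, ∃ y' ∈ S.Yj o j, y = S.xs j o u * y' := by
  have hoo : ng o ≠ o := ng_ne o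
  have hnoj : ng o ≠ j := fun h => hj' h.symm
  -- the long root subgroup `xl (ng o)` commutes with `xs j o`
  have hcl : ∀ (ξ : Lam F od) (u : F), S.xl (ng o) ξ * S.xs j o u = S.xs j o u * S.xl (ng o) ξ := by
    intro ξ u
    refine S.comm_ls (ng o) j o hj hj' ?_ hoo.symm ξ u
    rw [ng_ng]
    exact hj
  refine closure_left_induction'
    (p := fun y => ∃ u : F, ∃ y' ∈ S.Yj o j, y = S.xs j o u * y') (S.XQ_gens_inv _) ?_ ?_
  · exact ⟨0, 1, one_mem _, by rw [S.stub3_xs_zero hj hj', one_mul]⟩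
  · rintro _ (⟨a, b, t, hab, hab', rfl, rfl⟩ | ⟨a, ξ, hQ, rfl⟩) g ⟨u, y', hy', rfl⟩
    · by_cases haj : a = j
      · subst haj
        exact ⟨t + u, y', hy', by rw [← mul_assoc, S.adds a b hab hab']⟩
      by_cases haj' : a = ng j
      · -- the commutator is a long root element
        subst haj'
        set t' : F := -(star t) with ht'
        have hsym : S.xs (ng j) b t = S.xs (ng b) j t' := by
          rw [S.sym (ng j) b hab hab' t, ng_ng]
        have hbj' : ng b ≠ ng j := fun h => hj (ng_inj.mp h).symm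
        have hssl := S.ssl (ng b) j hnoj hbj' t' u
        rw [ng_ng] at hssl
        -- `A * B * A⁻¹ * B⁻¹ = C`, so `A * B = C * B * A`
        have hAB : S.xs (ng b) j t' * S.xs j b u =
            S.xl (ng b) (Lam.tr (t' * u)) * S.xs j b u * S.xs (ng b) j t' := by
          rw [← hssl]; group
        refine ⟨u, S.xl (ng b) (Lam.tr (t' * u)) * S.xs (ng j) b t * y',
          mul_mem (mul_mem (S.xl_mem_XQ ⟨ng_ng b, hnoj⟩ _)
            (S.xs_mem_XQ hab hab' ⟨rfl, ng_ne j⟩ _)) hy', ?_⟩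
        rw [← mul_assoc, hsym, hAB, hcl]
        simp only [mul_assoc]
      · refine ⟨u, S.xs a b t * y', mul_mem (S.xs_mem_XQ hab hab' ⟨rfl, haj⟩ t) hy', ?_⟩
        rw [← mul_assoc, S.comm_ss a b j b hab hab' hj hj' (Ne.symm hj) hab (ne_ng b) haj', mul_assoc]
    · have ha : a = ng o := by rw [← hQ, ng_ng]
      subst ha
      refine ⟨u, S.xl (ng o) ξ * y', mul_mem (S.xl_mem_XQ ⟨ng_ng o, hnoj⟩ ξ) hy', ?_⟩
      rw [← mul_assoc, hcl, mul_assoc]

end N

end SysU

end Cfsg.Agent.Lib.Helper27.STU
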