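import Mathlib
import Cfsg.Agent.Lib.helper15.St2
import Cfsg.Agent.Lib.helper7.StA
import Cfsg.Agent.Lib.helper7.StC
import Cfsg.Agent.Lib.helper7.StE
import Cfsg.Agent.Lib.Helper24.STCI1
import Cfsg.Agent.Lib.helper23.STCX2
import Cfsg.Agent.Lib.Helper27.STU.Defs
import Cfsg.Agent.Lib.Helper27.STU.Defs2
import Cfsg.Agent.Lib.Helper11.STUB3
import Cfsg.Agent.Lib.Helper11.STUX1

/-!
# Project STU (helper27, PSU S2291), row N5 (`Yj_cj_mem_Yg`).  By helper11 (model `Helper12.STCN5`, plus the cases with `xl`).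
-/

set_option autoImplicit false

namespace Cfsg.Agent.Lib.Helper27.STU

open Cfsg.Agent.Lib.helper15.St2 Cfsg.Agent.Lib.helper7.St Cfsg.Agent.Lib.helper3.STC

namespace SysU

variable {F : Type*} [Field F] [StarRing F] {od : Prop} {ι : Type*} {G : Type*} [Group G] (S : SysU F od ι G)

/-- a short generator of `Yg j` -/
theorem stun5_xs_mem {c j : ι ⊕ ι} (hcj : c ≠ j) (hcj' : c ≠ ng j) (u : F) : S.xs c j u ∈ S.Yg j :=
  S.xs_mem_XQ hcj hcj' rfl u

/-- a long generator of `Yg j` -/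
theorem stun5_xl_mem (j : ι ⊕ ι) (η : Lam F od) : S.xl (ng j) η ∈ S.Yg j :=
  S.xl_mem_XQ (ng_ng j) η

section N
variable (o : ι ⊕ ι)

/-- N5 [M]  `Yj o j` normalises `Yg j` (model `Helper12.STCN5`).  `XQ_cj_mem`, then `cj_mem_of_gens`.  Generator `xs a o t` (`a ∉ {o, ng o, j}`) on a generator `xs c j u` (`c ≠ ± j`):
they commute unless `c = o` or `a = ng c`.  `c = o`, `a ≠ ng j`: `cj3`: `xs a j (t u) * xs o j u`.  `c = o`, `a = ng j`: `cj_ssl`: `xl (ng j) _ * xs o j u`.  `a = ng c`, `c ≠ o`: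
`xs a o t = xs (ng o) c _` (`sym`), `cj3`: `xs (ng o) j _ * xs c j u`.  On `xl (ng j) η`: `cj_comm_sl`.  Generator `xl (ng o) ξ` on `xs c j u`: `cj_comm_ls` unless `c = o`: `cj_ls`:
`xs (ng o) j _ * xl (ng j) _ * xs o j u`; on `xl (ng j) η`: `cj_hh`: `xs (ng o) j _ * xl (ng j) η`. -/
theorem Yj_cj_mem_Yg {j : ι ⊕ ι} (hj : j ≠ o) (hj' : j ≠ ng o) :
    ∀ y' ∈ S.Yj o j, ∀ z ∈ S.Yg j, cj y' z ∈ S.Yg j := by
  have hngj : ng j ≠ o := fun h => hj' (by rw [← h, ng_ng])
  have hngo : ng o ≠ j := fun h => hj' h.symm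
  have hnn : ng o ≠ ng j := fun h => hj (ng_inj.mp h).symm
  have hoj : o ≠ j := hj.symm
  have hoj' : o ≠ ng j := hngj.symm
  apply S.XQ_cj_mem
  · -- a short generator `xs a o t` of `Yj o j`
    rintro a b t hab hab' ⟨hbo, haj⟩ z hz
    subst hbo
    revert z hz
    apply cj_mem_of_gens
    rintro _ (⟨c, d, u, hcd, hcd', hdj, rfl⟩ | ⟨c, η, hQ, rfl⟩)
    · subst hdj
      -- `g = xs a b t` (`b = o`), `z = xs c d u` (`d = j`)
      by_cases hcb : c = b
      · subst hcb
        by_cases ha2 : a = ng d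
        · subst ha2
          have h := S.cj_ssl (a := ng d) (b := c) hab hab' t u
          rw [ng_ng] at h
          rw [h]
          exact (S.Yg d).mul_mem (S.stun5_xl_mem d _) (S.stun5_xs_mem hcd hcd' _)
        · rw [S.cj3 hab hab' hcd hcd' haj ha2 t u]
          exact (S.Yg d).mul_mem (S.stun5_xs_mem haj ha2 _) (S.stun5_xs_mem hcd hcd' _)
      · by_cases hac : a = ng c
        · -- `xs a o t = xs (ng o) c _`
          subst hac
          have hsym := S.sym (ng c) b hab hab' t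
          rw [ng_ng] at hsym
          rw [hsym]
          have h1 : ng b ≠ c := fun h => hab (by rw [← h, ng_ng])
          have h2 : ng b ≠ ng c := fun h => hcb (ng_inj.mp h).symm
          rw [S.cj3 h1 h2 hcd hcd' hngo hnn _ u]
          exact (S.Yg d).mul_mem (S.stun5_xs_mem hngo hnn _) (S.stun5_xs_mem hcd hcd' _)
        · rw [S.cj_comm_ss hab hab' hcd hcd' (fun h => hcb h.symm) haj hoj' hac t u]
          exact S.stun5_xs_mem hcd hcd' _
    · -- `z = xl (ng j) η`
      have hc : c = ng j := by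
        have : ng c = j := hQ
        rw [← this, ng_ng]
      subst hc
      rw [S.cj_comm_sl hab hab' (by rw [ng_ng]; exact haj) hoj' η t]
      exact S.stun5_xl_mem j η
  · -- the long generator `xl (ng o) ξ` of `Yj o j`
    rintro a ξ ⟨hQ, -⟩ z hz
    have ha : a = ng o := by rw [← hQ, ng_ng]
    subst ha
    revert z hz
    apply cj_mem_of_gens
    rintro _ (⟨c, d, u, hcd, hcd', hdj, rfl⟩ | ⟨c, η, hQ', rfl⟩)
    · subst hdj
      by_cases hco : c = o
      · subst hco
        have h := S.cj_ls (a := ng c) (b := d) hngo hnn ξ u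
        rw [ng_ng] at h
        rw [h]
        exact (S.Yg d).mul_mem ((S.Yg d).mul_mem (S.stun5_xs_mem hngo hnn _) (S.stun5_xl_mem d _))
          (S.stun5_xs_mem hcd hcd' _)
      · rw [S.cj_comm_ls hcd hcd' (by rw [ng_ng]; exact hco) hj' ξ u]
        exact S.stun5_xs_mem hcd hcd' _
    · have hc : c = ng j := by
        have : ng c = j := hQ'
        rw [← this, ng_ng]
      subst hc
      have h := S.cj_hh (a := ng o) (b := ng j) hnn (by rw [ng_ng]; exact hngo) ξ η
      rw [ng_ng] at h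
      rw [h]
      exact (S.Yg j).mul_mem (S.stun5_xs_mem hngo hnn _) (S.stun5_xl_mem j η)

end N

end SysU

end Cfsg.Agent.Lib.Helper27.STU
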