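import Mathlib

/-!
# Piece P4 of helper15's S2283 project: the cube of an element of order `q + 1` generates `F_{q²}`
-/

set_option autoImplicit false

namespace Cfsg.Agent.Lib.Helper11.SU3GCube

/-- arithmetic core: `r ∣ q`, `q + 1 ∣ 3 (r - 1)`, `2 ≤ r` force `q ∈ {2, 5, 8}` (or `q < 3`) -/
theorem arith_core (q r : ℕ) (hq3 : 3 ≤ q) (hq5 : q ≠ 5) (hq8 : q ≠ 8) (hr2 : 2 ≤ r) (hrq : r ∣ q)
    (hdvd : q + 1 ∣ 3 * (r - 1)) : False := by
  have hqpos : 0 < q := by omega
  have hrle : r ≤ q := Nat.le_of_dvd hqpos hrq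
  obtain ⟨j, hj⟩ := hdvd
  obtain ⟨c, hc⟩ := hrq
  have hj12 : j = 1 ∨ j = 2 := by
    rcases Nat.lt_or_ge j 3 with h | h
    · rcases Nat.eq_zero_or_pos j with h0 | hpos
      · rw [h0] at hj; omega
      · omega
    · exfalso
      have : (q + 1) * 3 ≤ (q + 1) * j := Nat.mul_le_mul_left _ h
      omega
  have hc0 : c ≠ 0 := by
    rintro rfl
    omega
  rcases hj12 with rfl | rfl
  · -- 3 (r - 1) = q + 1
    have hc3 : c < 3 := by
      by_contra h
      push Not at h
      have : r * 3 ≤ r * c := Nat.mul_le_mul_left _ h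
      omega
    have hc12 : c = 1 ∨ c = 2 := by omega
    rcases hc12 with rfl | rfl
    · omega
    · omega
  · -- 3 (r - 1) = 2 (q + 1)
    have hc2 : c < 2 := by
      by_contra h
      push Not at h
      have : r * 2 ≤ r * c := Nat.mul_le_mul_left _ h
      omega
    have hc1 : c = 1 := by omega
    subst hc1
    omega

theorem closure_cube_eq_top {F : Type*} [Field F] [Fintype F] (q : ℕ) (hF : Fintype.card F = q ^ 2) (hq3 : 3 ≤ q) (hq5 : q ≠ 5) (hq8 : q ≠ 8) (lam : F) (hlam : orderOf lam = q + 1) : Subring.closure ({lam ^ 3} : Set F) = ⊤ := by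
  classical
  set R := Subring.closure ({lam ^ 3} : Set F) with hR
  have hcardF : 2 ≤ Fintype.card F := Fintype.one_lt_card
  -- R is closed under inverses
  have hinv : ∀ x ∈ R, x⁻¹ ∈ R := by
    intro x hx
    by_cases hx0 : x = 0
    · rw [hx0, inv_zero]; exact R.zero_mem
    · have h1 : x ^ (Fintype.card F - 1) = 1 := FiniteField.pow_card_sub_one_eq_one x hx0
      have h2 : x⁻¹ = x ^ (Fintype.card F - 2) := by
        apply inv_eq_of_mul_eq_one_right
        rw [← pow_succ']
        have : Fintype.card F - 2 + 1 = Fintype.card F - 1 := by omega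
        rw [this, h1]
      rw [h2]; exact pow_mem hx _
  let K : Subfield F := { R with inv_mem' := hinv }
  have hmemK : ∀ x : F, x ∈ K ↔ x ∈ R := fun x => Iff.rfl
  have hcardKR : Nat.card ↥K = Nat.card ↥R :=
    Nat.card_congr (Equiv.subtypeEquivRight hmemK)
  -- the tower formula
  have htower : Nat.card F = Nat.card ↥K ^ Module.finrank ↥K F :=
    Module.natCard_eq_pow_finrank
  set r := Nat.card ↥K with hr
  set m := Module.finrank ↥K F with hm
  have hq2 : q ^ 2 = r ^ m := by
    rw [← htower, Nat.card_eq_fintype_card, hF]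
  have hr2 : 2 ≤ r := by
    have : 1 < Nat.card ↥K := Finite.one_lt_card
    exact this
  have hlam0 : lam ≠ 0 := by
    rintro rfl
    rw [orderOf_eq_zero_iff'.mpr] at hlam
    · omega
    · intro n hn
      simp [zero_pow (Nat.pos_iff_ne_zero.mp hn)]
  have hlamK : lam ^ 3 ∈ K := (hmemK _).mpr (Subring.subset_closure (Set.mem_singleton _))
  -- (lam^3)^(r-1) = 1
  have hpow : (lam ^ 3) ^ (r - 1) = 1 := by
    have ha0 : (⟨lam ^ 3, hlamK⟩ : ↥K) ≠ 0 := by
      intro h
      have := congrArg Subtype.val h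
      simp at this
      exact hlam0 this
    have h1 : (Units.mk0 (⟨lam ^ 3, hlamK⟩ : ↥K) ha0) ^ Nat.card (↥K)ˣ = 1 := pow_card_eq_one'
    rw [Nat.card_units] at h1
    have h2 : (⟨lam ^ 3, hlamK⟩ : ↥K) ^ (Nat.card ↥K - 1) = 1 := by
      have := congrArg Units.val h1
      rwa [Units.val_pow_eq_pow_val, Units.val_mk0, Units.val_one] at this
    have h3 := congrArg Subtype.val h2
    rwa [SubmonoidClass.coe_pow, OneMemClass.coe_one] at h3
  have hdvd : q + 1 ∣ 3 * (r - 1) := by
    rw [← hlam]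
    apply orderOf_dvd_of_pow_eq_one
    rw [pow_mul]; exact hpow
  -- case analysis on m
  have hqpos : 0 < q := by omega
  rcases Nat.lt_or_ge m 2 with hm2 | hm2
  · -- m ≤ 1 : R = ⊤ by cardinality
    have hm1 : m = 1 := by
      rcases Nat.eq_zero_or_pos m with h0 | hpos
      · exfalso
        rw [h0, pow_zero] at hq2
        have : q ^ 2 ≥ 3 ^ 2 := Nat.pow_le_pow_left hq3 2
        omega
      · omega
    rw [hm1, pow_one] at hq2
    -- Nat.card R = Nat.card F
    have hcard : Nat.card ↥R.toAddSubgroup = Nat.card F := by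
      have h1 : Nat.card ↥R.toAddSubgroup = Nat.card ↥R :=
        Nat.card_congr (Equiv.subtypeEquivRight (fun x => Iff.rfl))
      rw [h1, ← hcardKR, ← hq2, Nat.card_eq_fintype_card, hF]
    have htop : R.toAddSubgroup = ⊤ := AddSubgroup.eq_top_of_card_eq _ hcard
    rw [eq_top_iff]
    intro x _
    have : x ∈ R.toAddSubgroup := by rw [htop]; trivial
    exact this
  · exfalso
    have hrq : r ∣ q := by
      have h1 : r ^ 2 ∣ q ^ 2 := by
        rw [hq2]; exact pow_dvd_pow r hm2
      exact (Nat.pow_dvd_pow_iff (by norm_num)).mp h1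
    exact arith_core q r hq3 hq5 hq8 hr2 hrq hdvd

end Cfsg.Agent.Lib.Helper11.SU3GCube
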