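import Mathlib
import Cfsg.Agent.Lib.helper17.SLP.Defs
import Cfsg.Agent.Lib.helper3.SP4.Defs
import Cfsg.Agent.Lib.Helper22.SU4.Defs
import Cfsg.Agent.Lib.Helper27.STU.Defs
import Cfsg.Agent.Lib.Helper27.STU.Defs3
import Cfsg.Agent.Lib.Helper19.SU5.Defs
import Cfsg.Agent.Lib.Helper5.SU4T9
import Cfsg.Prelude.Def_Classical

/-!
# Project SU5 (designer helper19), row C3 `cm_bdU`: the CORE under helper11's own names.
`su5c3h11_core`: `[y_b(ξ), y_d(η)] = x_c(-κ⁻¹ star ξ.v η.v)` for all parameters, with the STATEMENTS of F3 `lam_gen_KU`, F4 `lam_gen_FU`, T10 `yb_mulU`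
as hypotheses (SU4 T9 `xcd_addT` is cited from `Helper5.SU4T9`).
-/

set_option autoImplicit false

namespace Cfsg.Agent.Lib.Helper19.SU5

open Cfsg.Agent.Lib.helper17.SLP Cfsg.Agent.Lib.helper3.SP4 Cfsg.Agent.Lib.Helper22.SU4
open Cfsg.Agent.Lib.Helper27.STU (Lam XpM XmM XpS XmS SUm XpU XmU)

universe u v

section generic

variable {G : Type v} [Group G]

theorem su5c3h11_cm_mul_left (a a' c : G) : cm (a * a') c = a * cm a' c * a⁻¹ * cm a c := by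
  unfold cm; group

theorem su5c3h11_cm_mul_right (a c c' : G) : cm a (c * c') = cm a c * (c * cm a c' * c⁻¹) := by
  unfold cm; group

theorem su5c3h11_cm_inv_left (a c : G) : cm a⁻¹ c = a⁻¹ * (cm a c)⁻¹ * a := by
  unfold cm; group

theorem su5c3h11_cm_inv_right (a c : G) : cm a c⁻¹ = c⁻¹ * (cm a c)⁻¹ * c := by
  unfold cm; group

theorem su5c3h11_cm_conj (g a c : G) : cm (g * a * g⁻¹) (g * c * g⁻¹) = g * cm a c * g⁻¹ := by
  unfold cm; group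

end generic

section C

variable {F : Type u} {K : Type u} [Field F] [Field K] [StarRing F] [Fintype F] [Fintype K] {D : Tw F K}
  {G : Type v} [Group G]

omit [Fintype F] in
theorem su5c3h11_act_one (ξ : Lam F True) : Lam.act (1 : F) ξ = ξ := by
  ext <;> simp

omit [Fintype F] in
theorem su5c3h11_act_act (s t : F) (ξ : Lam F True) : Lam.act s (Lam.act t ξ) = Lam.act (s * t) ξ := by
  ext
  · simp [mul_assoc]
  · simp only [Lam.act_c, star_mul']; ring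

/-- C3 core. -/
theorem su5c3h11_core (P : RO D)
    (φa : Matrix.SpecialLinearGroup (Fin 2) F →* G) (φb : ↥(SUm F True) →* G) (H : HypU P φa φb)
    (R : TorU P φa φb)
    (hF3 : ∀ (H : Subgroup (Lam F True)),
      (∀ k : Kˣ, Lam.act ((D.ιu k : Fˣ) : F) P.ξ₁ ∈ H ∧ Lam.act ((D.ιu k : Fˣ) : F) P.ξ₂ ∈ H) → H = ⊤)
    (hF4 : ∀ (ξ₀ : Lam F True), ξ₀.v ≠ 0 → ∀ (H : Subgroup (Lam F True)), (∀ s : Fˣ, Lam.act (s : F) ξ₀ ∈ H) → H = ⊤)
    (hT10 : (∀ ξ η, yb φb (ξ * η) = yb φb ξ * yb φb η) ∧ yb φb 1 = 1 ∧ (∀ ξ, yb φb ξ⁻¹ = (yb φb ξ)⁻¹) ∧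
      (∀ ξ η, ybm φb (ξ * η) = ybm φb ξ * ybm φb η) ∧ ybm φb 1 = 1 ∧ (∀ ξ, ybm φb ξ⁻¹ = (ybm φb ξ)⁻¹) ∧
      (∀ ξ η, ydU φa φb (ξ * η) = ydU φa φb ξ * ydU φa φb η) ∧ ydU φa φb 1 = 1 ∧
      (∀ ξ, ydU φa φb ξ⁻¹ = (ydU φa φb ξ)⁻¹))
    (hbc : ∀ ξ t, Commute (yb φb ξ) (xcU P φa φb t))
    (hcd : ∀ t ξ, Commute (xcU P φa φb t) (ydU φa φb ξ)) :
    ∀ ξ η, cm (yb φb ξ) (ydU φa φb η) = xcU P φa φb (-(P.kap)⁻¹ * (star ξ.v * η.v)) := by
  obtain ⟨hbm, hb1, hbi, -, -, -, hdm, hd1, hdi⟩ := hT10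
  obtain ⟨hcadd, -, hc0, -, hcneg, -⟩ := xcd_addT φa (phiL P φb)
  have hcadd' : ∀ s t, xcU P φa φb (s + t) = xcU P φa φb s * xcU P φa φb t := hcadd
  have hc0' : xcU P φa φb 0 = 1 := hc0
  have hcneg' : ∀ t, xcU P φa φb (-t) = (xcU P φa φb t)⁻¹ := hcneg
  have hstar : ∀ y : K, star (D.ι y) = D.ι y := fun y => (P.hσ _).symm.trans (D.σ_ι y)
  -- the rules
  have rule_mul_left : ∀ ξ ξ' η, cm (yb φb ξ) (ydU φa φb η) = xcU P φa φb (-(P.kap)⁻¹ * (star ξ.v * η.v)) →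
      cm (yb φb ξ') (ydU φa φb η) = xcU P φa φb (-(P.kap)⁻¹ * (star ξ'.v * η.v)) →
      cm (yb φb (ξ * ξ')) (ydU φa φb η) = xcU P φa φb (-(P.kap)⁻¹ * (star (ξ * ξ').v * η.v)) := by
    intro ξ ξ' η h1 h2
    rw [hbm, su5c3h11_cm_mul_left, h1, h2]
    have := (hbc ξ (-(P.kap)⁻¹ * (star ξ'.v * η.v))).eq
    rw [this, mul_inv_cancel_right, ← hcadd']
    congr 1
    simp only [Lam.mul_v, star_add]; ring
  have rule_mul_right : ∀ ξ η η', cm (yb φb ξ) (ydU φa φb η) = xcU P φa φb (-(P.kap)⁻¹ * (star ξ.v * η.v)) →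
      cm (yb φb ξ) (ydU φa φb η') = xcU P φa φb (-(P.kap)⁻¹ * (star ξ.v * η'.v)) →
      cm (yb φb ξ) (ydU φa φb (η * η')) = xcU P φa φb (-(P.kap)⁻¹ * (star ξ.v * (η * η').v)) := by
    intro ξ η η' h1 h2
    rw [hdm, su5c3h11_cm_mul_right, h1, h2]
    have := (hcd (-(P.kap)⁻¹ * (star ξ.v * η'.v)) η).eq
    rw [← this, mul_inv_cancel_right, ← hcadd']
    congr 1
    simp only [Lam.mul_v]; ring
  have rule_one_left : ∀ η, cm (yb φb 1) (ydU φa φb η) = xcU P φa φb (-(P.kap)⁻¹ * (star (1 : Lam F True).v * η.v)) := by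
    intro η
    rw [hb1]
    simp only [Lam.one_v, star_zero, zero_mul, mul_zero, hc0']
    unfold cm; group
  have rule_one_right : ∀ ξ, cm (yb φb ξ) (ydU φa φb 1) = xcU P φa φb (-(P.kap)⁻¹ * (star ξ.v * (1 : Lam F True).v)) := by
    intro ξ
    rw [hd1]
    simp only [Lam.one_v, mul_zero, hc0']
    unfold cm; group
  have rule_inv_left : ∀ ξ η, cm (yb φb ξ) (ydU φa φb η) = xcU P φa φb (-(P.kap)⁻¹ * (star ξ.v * η.v)) →
      cm (yb φb ξ⁻¹) (ydU φa φb η) = xcU P φa φb (-(P.kap)⁻¹ * (star (ξ⁻¹).v * η.v)) := by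
    intro ξ η h1
    rw [hbi, su5c3h11_cm_inv_left, h1, ← hcneg']
    have := (hbc ξ (-(-(P.kap)⁻¹ * (star ξ.v * η.v)))).eq
    rw [mul_assoc, ← this, inv_mul_cancel_left]
    congr 1
    simp only [Lam.inv_v, star_neg]; ring
  have rule_inv_right : ∀ ξ η, cm (yb φb ξ) (ydU φa φb η) = xcU P φa φb (-(P.kap)⁻¹ * (star ξ.v * η.v)) →
      cm (yb φb ξ) (ydU φa φb η⁻¹) = xcU P φa φb (-(P.kap)⁻¹ * (star ξ.v * (η⁻¹).v)) := by
    intro ξ η h1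
    rw [hdi, su5c3h11_cm_inv_right, h1, ← hcneg']
    have := (hcd (-(-(P.kap)⁻¹ * (star ξ.v * η.v))) η).eq
    rw [mul_assoc, this, inv_mul_cancel_left]
    congr 1
    simp only [Lam.inv_v]; ring
  -- STAGE 1
  let S1 : Subgroup (Lam F True) :=
    { carrier := {ξ | cm (yb φb ξ) (ydU φa φb P.ξ₁) = xcU P φa φb (-(P.kap)⁻¹ * (star ξ.v * P.ξ₁.v))}
      mul_mem' := fun {a b} ha hb => rule_mul_left a b P.ξ₁ ha hb
      one_mem' := rule_one_left P.ξ₁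
      inv_mem' := fun {a} ha => rule_inv_left a P.ξ₁ ha }
  have hS1stab : ∀ (k : Kˣ) (ξ : Lam F True), ξ ∈ S1 → Lam.act ((D.ιu k : Fˣ) : F) ξ ∈ S1 := by
    intro k ξ hξ
    have hξ' : cm (yb φb ξ) (ydU φa φb P.ξ₁) = xcU P φa φb (-(P.kap)⁻¹ * (star ξ.v * P.ξ₁.v)) := hξ
    show cm (yb φb (Lam.act ((D.ιu k : Fˣ) : F) ξ)) (ydU φa φb P.ξ₁) =
      xcU P φa φb (-(P.kap)⁻¹ * (star (Lam.act ((D.ιu k : Fˣ) : F) ξ).v * P.ξ₁.v))
    have hk : star ((D.ιu k : Fˣ) : F) = ((D.ιu k : Fˣ) : F) := by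
      rw [Tw.ιu_coe]; exact hstar _
    have hk0 : ((D.ιu k : Fˣ) : F) ≠ 0 := Units.ne_zero _
    have e1 := R.b_yb (D.ιu k) ξ
    have e2 := R.b_yd (D.ιu k) P.ξ₁
    have e3 := R.bc (D.ιu k) (-(P.kap)⁻¹ * (star ξ.v * P.ξ₁.v))
    rw [hk] at e1 e2 e3
    have hq1 : ((D.ιu k : Fˣ) : F) ^ 2 / ((D.ιu k : Fˣ) : F) = ((D.ιu k : Fˣ) : F) := by
      field_simp
    have hq2 : ((D.ιu k : Fˣ) : F) / ((D.ιu k : Fˣ) : F) = 1 := div_self hk0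
    rw [hq1] at e1
    rw [hq2, su5c3h11_act_one] at e2
    have e4 := su5c3h11_cm_conj (hbF P φb (D.ιu k)) (yb φb ξ) (ydU φa φb P.ξ₁)
    rw [e1, e2, hξ', e3] at e4
    rw [e4]
    congr 1
    simp only [Lam.act_v, star_mul', hk]; ring
  have hS1 : S1 = ⊤ := by
    apply hF3
    intro k
    exact ⟨hS1stab k _ H.U8, hS1stab k _ H.U8b⟩
  have stage1 : ∀ ξ, cm (yb φb ξ) (ydU φa φb P.ξ₁) = xcU P φa φb (-(P.kap)⁻¹ * (star ξ.v * P.ξ₁.v)) := by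
    intro ξ
    have : ξ ∈ S1 := by rw [hS1]; trivial
    exact this
  -- STAGE 2
  let T : Subgroup (Lam F True) :=
    { carrier := {η | ∀ ξ, cm (yb φb ξ) (ydU φa φb η) = xcU P φa φb (-(P.kap)⁻¹ * (star ξ.v * η.v))}
      mul_mem' := fun {a b} ha hb ξ => rule_mul_right ξ a b (ha ξ) (hb ξ)
      one_mem' := fun ξ => rule_one_right ξ
      inv_mem' := fun {a} ha ξ => rule_inv_right ξ a (ha ξ) }
  have hT : T = ⊤ := by
    apply hF4 P.ξ₁ (by rw [P.hv₁]; exact one_ne_zero)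
    intro s ξ'
    show cm (yb φb ξ') (ydU φa φb (Lam.act (s : F) P.ξ₁)) =
      xcU P φa φb (-(P.kap)⁻¹ * (star ξ'.v * (Lam.act (s : F) P.ξ₁).v))
    have hs0 : (s : F) ≠ 0 := Units.ne_zero _
    have hss0 : star (s : F) ≠ 0 := fun h => hs0 (by simpa using congrArg star h)
    have e1 := R.a_yb s (Lam.act (s : F) ξ')
    have e2 := R.a_yd s P.ξ₁
    have e3 := R.ac s (-(P.kap)⁻¹ * (star (Lam.act (s : F) ξ').v * P.ξ₁.v))
    have hinv : ((s⁻¹ : Fˣ) : F) = (s : F)⁻¹ := by simp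
    rw [su5c3h11_act_act, hinv, inv_mul_cancel₀ hs0, su5c3h11_act_one] at e1
    have e4 := su5c3h11_cm_conj (rh φa s) (yb φb (Lam.act (s : F) ξ')) (ydU φa φb P.ξ₁)
    rw [e1, e2, stage1, e3] at e4
    rw [e4]
    congr 1
    simp only [Lam.act_v, star_mul', hinv, star_inv₀]
    field_simp
  intro ξ η
  have : η ∈ T := by rw [hT]; trivial
  exact this ξ

end C

end Cfsg.Agent.Lib.Helper19.SU5
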