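import Mathlib
import Cfsg.Agent.S0850
import Cfsg.Agent.Lib.Helper11.PfCross

/-!
Suzuki's CA theorem for groups of odd order, via the partition into centralizers
and Peterfalvi (7.11).
-/

set_option autoImplicit false

namespace Cfsg.Agent.Lib.Helper11.SuzukiCA

universe u

/-- centralizers of non-identity elements are abelian -/
def CA (G : Type*) [Group G] : Prop :=
  ∀ x : G, x ≠ 1 → ∀ a ∈ Subgroup.centralizer ({x} : Set G),
    ∀ b ∈ Subgroup.centralizer ({x} : Set G), a * b = b * a

section basic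

variable {G : Type*} [Group G]

theorem mem_cent {x a : G} : a ∈ Subgroup.centralizer ({x} : Set G) ↔ x * a = a * x := by
  rw [Subgroup.mem_centralizer_iff]
  simp

theorem ca_subgroup (h : CA G) (K : Subgroup G) : CA K := by
  intro x hx a ha b hb
  rw [mem_cent] at ha hb
  apply Subtype.ext
  exact h (x : G) (fun h1 => hx (Subtype.ext h1)) a (mem_cent.2 (congrArg Subtype.val ha)) b
    (mem_cent.2 (congrArg Subtype.val hb))

theorem cent_eq (h : CA G) {x y : G} (hx : x ≠ 1) (hy : y ≠ 1) (hxy : x * y = y * x) :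
    Subgroup.centralizer ({y} : Set G) = Subgroup.centralizer ({x} : Set G) := by
  ext a
  rw [mem_cent, mem_cent]
  constructor
  · intro ha
    -- a, x ∈ C(y)
    exact h y hy x (mem_cent.2 hxy.symm) a (mem_cent.2 ha)
  · intro ha
    exact h x hx y (mem_cent.2 hxy) a (mem_cent.2 ha)

theorem conj_cent {s h : G} (g : G) :
    h ∈ Subgroup.centralizer ({s} : Set G) ↔
      g * h * g⁻¹ ∈ Subgroup.centralizer ({g * s * g⁻¹} : Set G) := by
  rw [mem_cent, mem_cent]
  constructor
  · intro e
    calc g * s * g⁻¹ * (g * h * g⁻¹) = g * (s * h) * g⁻¹ := by group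
      _ = g * (h * s) * g⁻¹ := by rw [e]
      _ = g * h * g⁻¹ * (g * s * g⁻¹) := by group
  · intro e
    calc s * h = g⁻¹ * (g * s * g⁻¹ * (g * h * g⁻¹)) * g := by group
      _ = g⁻¹ * (g * h * g⁻¹ * (g * s * g⁻¹)) * g := by rw [e]
      _ = h * s := by group

theorem comm_lt {V : Subgroup G} [Group.IsSolvable V] (hV : V ≠ ⊥) : ⁅V, V⁆ < V := by
  rw [← Subgroup.nontrivial_iff_ne_bot] at hV
  have h1 := Group.IsSolvable.commutator_lt_top_of_nontrivial V
  rw [← Subgroup.map_subtype_lt_map_subtype] at h1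
  rw [commutator_def, Subgroup.map_commutator] at h1
  have h2 : Subgroup.map V.subtype ⊤ = V := by
    rw [← MonoidHom.range_eq_map, Subgroup.range_subtype]
  rwa [h2] at h1

end basic

section caseA

variable {G : Type u} [Group G] [Finite G]

/-- a CA-group with a proper nontrivial normal subgroup, all of whose proper subgroups are
solvable, is solvable -/
theorem solvable_of_normal (hCA : CA G)
    (ih : ∀ K : Subgroup G, K ≠ ⊤ → Group.IsSolvable K)
    (N : Subgroup G) (hNn : N.Normal) (hN1 : N ≠ ⊥) (hN2 : N ≠ ⊤) : Group.IsSolvable G := by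
  classical
  -- a minimal nontrivial solvable normal subgroup
  let S : Set (Subgroup G) := {V | V.Normal ∧ V ≠ ⊥ ∧ Group.IsSolvable V}
  have hS : S.Nonempty := ⟨N, hNn, hN1, ih N hN2⟩
  obtain ⟨V, hVS, hVmin⟩ := WellFounded.has_min (wellFounded_lt (α := Subgroup G)) S hS
  obtain ⟨hVn, hV1, hVs⟩ := hVS
  have hW : ⁅V, V⁆ = ⊥ := by
    by_contra hne
    have hlt : ⁅V, V⁆ < V := comm_lt hV1
    have hWn : (⁅V, V⁆).Normal := Subgroup.commutator_normal V V
    have hWs : Group.IsSolvable (⁅V, V⁆ : Subgroup G) :=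
      Group.isSolvable_of_isSolvable_injective (f := Subgroup.inclusion hlt.le)
        (Subgroup.inclusion_injective hlt.le)
    exact hVmin ⁅V, V⁆ ⟨hWn, hne, hWs⟩ hlt
  rw [Subgroup.commutator_eq_bot_iff_le_centralizer] at hW
  -- the centralizer of V
  obtain ⟨C, hC⟩ : ∃ C : Subgroup G, C = Subgroup.centralizer (V : Set G) := ⟨_, rfl⟩
  have hCn : C.Normal := by rw [hC]; infer_instance
  obtain ⟨v, hv1⟩ := (Subgroup.ne_bot_iff_exists_ne_one).1 hV1
  have hv1' : (v : G) ≠ 1 := fun h => hv1 (Subtype.ext h)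
  have hCv : C = Subgroup.centralizer ({(v : G)} : Set G) := by
    rw [hC]
    apply le_antisymm
    · exact Subgroup.centralizer_le (by simp)
    · intro a ha
      rw [Subgroup.mem_centralizer_iff]
      intro w hw
      have hw' : w ∈ Subgroup.centralizer ({(v : G)} : Set G) := by
        rw [mem_cent]
        have := hW v.2
        rw [Subgroup.mem_centralizer_iff] at this
        exact (this w hw).symm
      exact hCA v hv1' w hw' a ha
  have hfix : ∀ k ∈ C, k ≠ 1 → ∀ n : G, n * k = k * n → n ∈ C := by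
    intro k hk hk1 n hn
    have hkv : (v : G) * k = k * v := by
      rw [hCv, mem_cent] at hk
      exact hk
    have h1 := cent_eq hCA hv1' hk1 hkv
    rw [hCv, ← h1, mem_cent]
    exact hn.symm
  have hcop := Cfsg.Agent.S0850.coprime_index_card C hfix
  obtain ⟨E, hE⟩ := Subgroup.exists_right_complement'_of_coprime hcop.symm
  have hcard := hE.card_mul_card
  have hE2 : E ≠ ⊤ := by
    intro h
    rw [h, Subgroup.card_top] at hcard
    have hpos : 0 < Nat.card G := Nat.card_pos
    have h1 : Nat.card C = 1 := by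
      have : Nat.card C * Nat.card G = 1 * Nat.card G := by rw [hcard, one_mul]
      exact Nat.eq_of_mul_eq_mul_right hpos this
    rw [Subgroup.card_eq_one] at h1
    apply hv1'
    have : (v : G) ∈ C := by
      rw [hCv, mem_cent]
    rw [h1] at this
    exact Subgroup.mem_bot.1 this
  have hEs : Group.IsSolvable E := ih E hE2
  have hQs : Group.IsSolvable (G ⧸ C) :=
    Group.isSolvable_of_isSolvable_injective (f := (hE.symm.QuotientMulEquiv).toMonoidHom)
      (hE.symm.QuotientMulEquiv).injective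
  have hCs : Group.IsSolvable C := by
    apply Group.isSolvable_of_comm
    intro a b
    apply Subtype.ext
    have ha : (a : G) ∈ Subgroup.centralizer ({(v : G)} : Set G) := hCv ▸ a.2
    have hb : (b : G) ∈ Subgroup.centralizer ({(v : G)} : Set G) := hCv ▸ b.2
    exact hCA v hv1' a ha b hb
  exact (Group.isSolvable_iff_subgroup_quotient C).2 ⟨hCs, hQs⟩

end caseA

section caseB

variable {G : Type u} [Group G]

/-- the centralizers of non-identity elements -/
def Cents (G : Type u) [Group G] : Set (Subgroup G) :=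
  {A | ∃ x : G, x ≠ 1 ∧ A = Subgroup.centralizer ({x} : Set G)}

theorem cent_of_mem (hCA : CA G) {A : Subgroup G} (hA : A ∈ Cents G) {a : G} (ha : a ∈ A)
    (ha1 : a ≠ 1) : A = Subgroup.centralizer ({a} : Set G) := by
  obtain ⟨x, hx, rfl⟩ := hA
  rw [mem_cent] at ha
  exact (cent_eq hCA hx ha1 ha).symm

theorem cents_ne_bot {A : Subgroup G} (hA : A ∈ Cents G) : A ≠ ⊥ := by
  obtain ⟨x, hx, rfl⟩ := hA
  intro h
  apply hx
  have : x ∈ Subgroup.centralizer ({x} : Set G) := by rw [mem_cent]
  rw [h] at this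
  exact Subgroup.mem_bot.1 this

theorem cents_TI (hCA : CA G) {A : Subgroup G} (hA : A ∈ Cents G) :
    Cfsg.IsTISubset (A : Set G) := by
  intro g hg a ha hga
  by_contra ha1
  apply hg
  have h1 := cent_of_mem hCA hA ha ha1
  have hb1 : g * a * g⁻¹ ≠ 1 := by
    intro h
    apply ha1
    exact conj_eq_one_iff.1 h
  have h2 := cent_of_mem hCA hA hga hb1
  rw [Subgroup.mem_set_normalizer_iff]
  intro h
  have e1 : h ∈ (A : Set G) ↔ h ∈ Subgroup.centralizer ({a} : Set G) := by
    rw [← h1]; rfl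
  have e2 : g * h * g⁻¹ ∈ (A : Set G) ↔
      g * h * g⁻¹ ∈ Subgroup.centralizer ({g * a * g⁻¹} : Set G) := by
    rw [← h2]; rfl
  rw [e1, e2]
  exact conj_cent g

theorem cents_sylow [Finite G] (hCA : CA G) {A : Subgroup G} (hA : A ∈ Cents G) {p : ℕ}
    [hp : Fact p.Prime] (hpA : p ∣ Nat.card A) :
    ∃ S : Sylow p G, (S : Subgroup G) ≤ A ∧ (S : Subgroup G) ≠ ⊥ := by
  obtain ⟨u, hu⟩ := exists_prime_orderOf_dvd_card' (G := A) p hpA
  have hu1 : (u : G) ≠ 1 := by
    intro h
    have : u = 1 := Subtype.ext h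
    rw [this, orderOf_one] at hu
    exact hp.out.ne_one hu.symm
  have hpg : IsPGroup p (Subgroup.zpowers (u : G)) := by
    apply IsPGroup.of_card (n := 1)
    rw [Nat.card_zpowers, Subgroup.orderOf_coe, hu, pow_one]
  obtain ⟨S, hS⟩ := hpg.exists_le_sylow
  have huS : (u : G) ∈ (S : Subgroup G) := hS (Subgroup.mem_zpowers _)
  have hSnt : Nontrivial (S : Subgroup G) :=
    ⟨⟨⟨u, huS⟩, 1, fun h => hu1 (congrArg Subtype.val h)⟩⟩
  have hc := IsPGroup.center_nontrivial (G := (S : Subgroup G)) S.isPGroup'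
  obtain ⟨z, hz⟩ := exists_ne (1 : Subgroup.center (S : Subgroup G))
  have hz1 : ((z : (S : Subgroup G)) : G) ≠ 1 := by
    intro h
    apply hz
    apply Subtype.ext
    apply Subtype.ext
    exact h
  have hzu : (u : G) * ((z : (S : Subgroup G)) : G) = ((z : (S : Subgroup G)) : G) * u := by
    have := Subgroup.mem_center_iff.1 z.2 ⟨u, huS⟩
    exact congrArg Subtype.val this
  have hAu := cent_of_mem hCA hA u.2 hu1
  have hzA : ((z : (S : Subgroup G)) : G) ∈ A := by
    rw [hAu, mem_cent]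
    exact hzu
  have hAz := cent_of_mem hCA hA hzA hz1
  refine ⟨S, ?_, ?_⟩
  · intro s hs
    rw [hAz, mem_cent]
    have := Subgroup.mem_center_iff.1 z.2 ⟨s, hs⟩
    exact (congrArg Subtype.val this).symm
  · intro h
    apply hu1
    rw [h] at huS
    exact Subgroup.mem_bot.1 huS

theorem cents_ne_top (hCA : CA G) (hnc : ¬ ∀ a b : G, a * b = b * a) {A : Subgroup G}
    (hA : A ∈ Cents G) : A ≠ ⊤ := by
  intro h
  obtain ⟨x, hx, hAx⟩ := hA
  apply hnc
  intro a b
  have ha : a ∈ Subgroup.centralizer ({x} : Set G) := by rw [← hAx, h]; trivial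
  have hb : b ∈ Subgroup.centralizer ({x} : Set G) := by rw [← hAx, h]; trivial
  exact hCA x hx a ha b hb

theorem cents_lt_normalizer [Finite G] (hCA : CA G)
    (hsimple : ∀ N : Subgroup G, N.Normal → N = ⊥ ∨ N = ⊤)
    (hnc : ¬ ∀ a b : G, a * b = b * a) {A : Subgroup G} (hA : A ∈ Cents G) :
    A < Subgroup.normalizer (A : Set G) := by
  rw [lt_iff_le_and_ne]
  refine ⟨Subgroup.le_normalizer, ?_⟩
  intro hAN
  have hAtop : A ≠ ⊤ := cents_ne_top hCA hnc hA
  have hA1 := cents_ne_bot hA
  have hcard : Nat.card A ≠ 1 := by rwa [Ne, Subgroup.card_eq_one]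
  obtain ⟨p, hp, hpA⟩ := Nat.exists_prime_and_dvd hcard
  have : Fact p.Prime := ⟨hp⟩
  obtain ⟨S, hSA, hS1⟩ := cents_sylow hCA hA hpA
  have hTI := cents_TI hCA hA
  obtain ⟨s, hs1⟩ := (Subgroup.ne_bot_iff_exists_ne_one).1 hS1
  have hs1' : (s : G) ≠ 1 := fun h => hs1 (Subtype.ext h)
  have hNS : Subgroup.normalizer ((S : Subgroup G) : Set G) ≤ A := by
    intro n hn
    by_contra hnA
    apply hs1'
    apply hTI n (fun h => hnA (hAN.ge h)) s (hSA s.2)
    apply hSA
    exact ((Subgroup.mem_set_normalizer_iff).1 hn s).1 s.2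
  have hP : Subgroup.normalizer ((S : Subgroup G) : Set G) ≤
      Subgroup.centralizer ((S : Subgroup G) : Set G) := by
    intro n hn
    rw [Subgroup.mem_centralizer_iff]
    intro t ht
    obtain ⟨x, hx, hAx⟩ := hA
    have hnA := hNS hn
    have htA := hSA ht
    rw [hAx] at hnA htA
    exact hCA x hx t htA n hnA
  have hcomp := MonoidHom.ker_transferSylow_isComplement' S hP
  rcases hsimple _ (MonoidHom.normal_ker (MonoidHom.transferSylow S hP)) with h | h
  · rw [h] at hcomp
    have h2 : (S : Subgroup G) = ⊤ := Subgroup.isComplement'_bot_left.1 hcomp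
    apply hAtop
    rw [eq_top_iff, ← h2]
    exact hSA
  · rw [h] at hcomp
    exact hS1 (Subgroup.isComplement'_top_left.1 hcomp)

theorem cents_conj [Finite G] (hCA : CA G) {A B : Subgroup G} (hA : A ∈ Cents G)
    (hB : B ∈ Cents G) (hnc : ¬ Nat.Coprime (Nat.card A) (Nat.card B)) :
    ∃ g : G, ∀ h, h ∈ A ↔ g * h * g⁻¹ ∈ B := by
  obtain ⟨p, hp, hpA, hpB⟩ := Nat.Prime.not_coprime_iff_dvd.1 hnc
  have : Fact p.Prime := ⟨hp⟩
  obtain ⟨S, hSA, hS1⟩ := cents_sylow hCA hA hpA
  obtain ⟨T, hTB, hT1⟩ := cents_sylow hCA hB hpB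
  obtain ⟨g, hg⟩ := MulAction.exists_smul_eq G S T
  obtain ⟨s, hs1⟩ := (Subgroup.ne_bot_iff_exists_ne_one).1 hS1
  have hs1' : (s : G) ≠ 1 := fun h => hs1 (Subtype.ext h)
  have hgs : g * s * g⁻¹ ∈ (T : Subgroup G) := by
    rw [← hg, Sylow.smul_def, Sylow.pointwise_smul_def]
    have := Subgroup.smul_mem_pointwise_smul (s : G) (MulAut.conj g) (S : Subgroup G) s.2
    rwa [MulAut.smul_def, MulAut.conj_apply] at this
  have hgs1 : g * s * g⁻¹ ≠ 1 := fun h => hs1' (conj_eq_one_iff.1 h)
  have h1 := cent_of_mem hCA hA (hSA s.2) hs1'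
  have h2 := cent_of_mem hCA hB (hTB hgs) hgs1
  refine ⟨g, fun h => ?_⟩
  rw [h1, h2]
  exact conj_cent g

/-- conjugacy of the centralizers -/
def conjSetoid (G : Type u) [Group G] : Setoid (Cents G) where
  r A B := ∃ g : G, ∀ h, h ∈ A.1 ↔ g * h * g⁻¹ ∈ B.1
  iseqv :=
    { refl := fun A => ⟨1, fun h => by simp⟩
      symm := by
        rintro A B ⟨g, hg⟩
        refine ⟨g⁻¹, fun h => ?_⟩
        rw [hg]
        have : g * (g⁻¹ * h * g⁻¹⁻¹) * g⁻¹ = h := by group
        rw [this]
      trans := by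
        rintro A B C ⟨g, hg⟩ ⟨k, hk⟩
        refine ⟨k * g, fun h => ?_⟩
        rw [hg, hk]
        have : k * (g * h * g⁻¹) * k⁻¹ = k * g * h * (k * g)⁻¹ := by group
        rw [this] }

open Cfsg.Agent.Lib.Helper11.PfData Cfsg.Agent.Lib.Helper11.PfCross in
theorem simple_false [Finite G] (hodd : Odd (Nat.card G)) (hCA : CA G)
    (hsimple : ∀ N : Subgroup G, N.Normal → N = ⊥ ∨ N = ⊤)
    (hnc : ¬ ∀ a b : G, a * b = b * a) : False := by
  classical
  have := Fintype.ofFinite G
  let ι := Quotient (conjSetoid G)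
  have : Fintype ι := Fintype.ofFinite _
  let H : ι → Subgroup G := fun i => (Quotient.out i).1
  have hH : ∀ i, H i ∈ Cents G := fun i => (Quotient.out i).2
  have hfin : ∀ i, Fintype (H i) := fun i => Fintype.ofFinite _
  have hne : Nonempty ι := by
    have : ∃ x : G, x ≠ 1 := by
      by_contra h
      push Not at h
      apply hnc
      intro a b
      rw [h a, h b]
    obtain ⟨x, hx⟩ := this
    exact ⟨Quotient.mk _ ⟨_, x, hx, rfl⟩⟩
  have hTI : ∀ i, Cfsg.IsTISubset (H i : Set G) := fun i => cents_TI hCA (hH i)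
  have hF : ∀ i, Nonempty (FamData (H i)) := fun i =>
    famData_exists (H i) hodd (hTI i) (cents_ne_bot (hH i))
      (cents_lt_normalizer hCA hsimple hnc (hH i))
      (by
        intro h hh hh1
        have e := cent_of_mem hCA (hH i) hh hh1
        intro a ha
        rw [e]
        exact ha.2)
  have hcop : ∀ i j, i ≠ j → Nat.Coprime (Nat.card (H i)) (Nat.card (H j)) := by
    intro i j hij
    by_contra hn
    apply hij
    have := cents_conj hCA (hH i) (hH j) hn
    rw [← Quotient.out_eq i, ← Quotient.out_eq j]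
    exact Quotient.sound this
  have hcover : ∀ g : G, g ≠ 1 → ∃ i, ∃ x : G, x * g * x⁻¹ ∈ H i := by
    intro g hg
    let A : Cents G := ⟨Subgroup.centralizer {g}, g, hg, rfl⟩
    refine ⟨Quotient.mk _ A, ?_⟩
    have h1 : (conjSetoid G).r (Quotient.mk (conjSetoid G) A).out A :=
      Quotient.exact (Quotient.out_eq (Quotient.mk (conjSetoid G) A))
    obtain ⟨x, hx⟩ := (conjSetoid G).symm h1
    exact ⟨x, (hx g).1 (by change g ∈ Subgroup.centralizer {g}; rw [mem_cent])⟩
  exact no_partition H (fun i => (hF i).some) hodd hcop hTI hcover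

end caseB

/-- Suzuki's CA theorem in the odd order case -/
theorem ca_solvable : ∀ (n : ℕ) (G : Type u) [Group G] [Finite G], Nat.card G = n →
    Odd (Nat.card G) → CA G → Group.IsSolvable G := by
  intro n
  induction n using Nat.strong_induction_on with
  | _ n ih =>
    intro G _ _ hn hodd hCA
    have ihK : ∀ K : Subgroup G, K ≠ ⊤ → Group.IsSolvable K := by
      intro K hK
      apply ih (Nat.card K) _ K rfl (hodd.of_dvd_nat (Subgroup.card_subgroup_dvd_card K))
        (ca_subgroup hCA K)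
      rw [← hn]
      have h1 : Nat.card K ≤ Nat.card G := Subgroup.card_le_card_group K
      rcases h1.lt_or_eq with h2 | h2
      · exact h2
      · exact absurd (Subgroup.eq_top_of_card_eq K h2) hK
    by_cases hab : ∀ a b : G, a * b = b * a
    · exact Group.isSolvable_of_comm hab
    by_cases hs : ∃ N : Subgroup G, N.Normal ∧ N ≠ ⊥ ∧ N ≠ ⊤
    · obtain ⟨N, hN, h1, h2⟩ := hs
      exact solvable_of_normal hCA ihK N hN h1 h2
    · exfalso
      apply simple_false hodd hCA _ hab
      intro N hN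
      by_contra h
      push Not at h
      exact hs ⟨N, hN, h.1, h.2⟩

end Cfsg.Agent.Lib.Helper11.SuzukiCA
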