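import Mathlib
import Cfsg.Agent.Lib.helper3.T2E.Defs
import Cfsg.Agent.Lib.helper8.ChevTwE6H16
import Cfsg.Agent.Lib.helper8.ChevTwE6c

/-!
# T2E D12e (helper11), VERBATIM: `N¹ = ⟨T¹, n_J⟩` (helper8's `h8tw_N_gen` for `twistedE6`, with `h8twE6_nJ`)
-/

set_option autoImplicit false
set_option linter.unusedVariables false

namespace Cfsg.Agent.Lib.helper3.T2E

open Cfsg.Lie Cfsg.Lie.ChevalleyDatum Matrix
open Cfsg.Agent.Lib.helper8 Cfsg.Agent.Lib.Helper10.TEM Cfsg.Agent.Lib.helper7.Ce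
  Cfsg.Agent.Lib.helper15.St2

universe u

variable {K : Type u} [Field K] {q : ℕ} {f : K ≃+* K}

/-- the orbit representatives of helper8 are the `nO [k]`, `k < 4` -/
theorem t2ed12eh11_set : {x : GG K | ∃ J ∈ h8orbsE6, x = h8nWU chevE6 hB (J.map Fin.val)} =
    {g : GG K | ∃ k < 4, g = nO [k]} := by
  ext x
  constructor
  · rintro ⟨J, hJ, rfl⟩
    simp only [h8orbsE6, List.mem_cons, List.not_mem_nil, or_false] at hJ
    rcases hJ with rfl | rfl | rfl | rfl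
    · exact ⟨0, by norm_num, rfl⟩
    · exact ⟨1, by norm_num, rfl⟩
    · exact ⟨2, by norm_num, rfl⟩
    · exact ⟨3, by norm_num, rfl⟩
  · rintro ⟨k, hk, rfl⟩
    interval_cases k
    · exact ⟨[⟨1, by decide⟩], by simp [h8orbsE6], rfl⟩
    · exact ⟨[⟨3, by decide⟩], by simp [h8orbsE6], rfl⟩
    · exact ⟨[⟨2, by decide⟩, ⟨4, by decide⟩], by simp [h8orbsE6], rfl⟩
    · exact ⟨[⟨0, by decide⟩, ⟨5, by decide⟩], by simp [h8orbsE6], rfl⟩

theorem t2ed12eh11_nO_mem (hF : Frob q f) (k : ℕ) (hk : k < 4) : (nO [k] : GG K) ∈ N1 K q := by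
  have h1 : (nO [k] : GG K) ∈ {g : GG K | ∃ k < 4, g = nO [k]} := ⟨k, hk, rfl⟩
  rw [← t2ed12eh11_set] at h1
  obtain ⟨J, hJ, hx⟩ := h1
  rw [hx]
  refine ⟨h8nWU_mem_N chevE6 hB hA _ (h8J_lt chevE6 J), h8twE6_nJ hB hC q hF.neg J hJ⟩

theorem N1_gen [Fintype K] (hq : IsPrimePow q) (hK : Fintype.card K = q ^ 2) (hF : Frob q f) :
    N1 K q = T1 K q ⊔ Subgroup.closure {g : GG K | ∃ k < 4, g = nO [k]} := by
  apply le_antisymm
  · intro n hn
    obtain ⟨hn1, hn2⟩ := hn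
    obtain ⟨n', hn', hd⟩ := h8tw_N_gen chevE6 hB hB.{0} hA hBN hW hO2 h8sE6 h8tE6 h8pE6 h8qE6 h8eE6 (h8autE6 hA) f
      (h8mkRho chevE6 h8sE6 h8tE6 h8pE6 h8qE6 h8eE6 (h8autE6 hA)) (fun r => rfl) h8piE6 h8orbsE6
      (h8twE6 hA hBN) (twistedE6 K q)
      (h8twE6_fix hB hC hA q f hF.pow hF.inv)
      (h8twE6_nJ hB hC q hF.neg) n hn1 hn2
    rw [t2ed12eh11_set] at hn'
    have hn'1 : n' ∈ twistedE6 K q := by
      have hle : Subgroup.closure {g : GG K | ∃ k < 4, g = nO [k]} ≤ twistedE6 K q := by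
        rw [Subgroup.closure_le]
        rintro g ⟨k, hk, rfl⟩
        exact (t2ed12eh11_nO_mem hF k hk).2
      exact hle hn'
    have e : n = n' * (n'⁻¹ * n) := by group
    rw [e]
    refine Subgroup.mul_mem _ ((le_sup_right : _ ≤ T1 K q ⊔ _) hn') ((le_sup_left : T1 K q ≤ _) ?_)
    exact ⟨hd, Subgroup.mul_mem _ (Subgroup.inv_mem _ hn'1) hn2⟩
  · refine sup_le ?_ ?_
    · intro h hh
      exact ⟨h8H_le_N chevE6 hh.1, hh.2⟩
    · rw [Subgroup.closure_le]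
      rintro g ⟨k, hk, rfl⟩
      exact t2ed12eh11_nO_mem hF k hk


end Cfsg.Agent.Lib.helper3.T2E
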