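import Mathlib
import Cfsg.Agent.Lib.helper3.T2E.Defs
import Cfsg.Agent.Lib.helper8.ChevTwE6H16
import Cfsg.Agent.Lib.helper8.ChevTwE6c

/-!
# T2E D14 (helper11), VERBATIM: `N¹ / T¹ ≅ W(F₄)` (= helper8's `h8twE6_weyl` in terms of `N1`, `T1`)
-/

set_option autoImplicit false

namespace Cfsg.Agent.Lib.helper3.T2E

open Cfsg.Lie Cfsg.Lie.ChevalleyDatum Matrix
open Cfsg.Agent.Lib.helper8 Cfsg.Agent.Lib.Helper10.TEM Cfsg.Agent.Lib.helper7.Ce
  Cfsg.Agent.Lib.helper15.St2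

universe u

variable {K : Type u} [Field K] {q : ℕ} {f : K ≃+* K}

theorem weyl_hom [Fintype K] (hq : IsPrimePow q) (hK : Fintype.card K = q ^ 2) :
    ∃ φ : ↥(N1 K q) →* (CoxeterMatrix.F₄).Group, Function.Surjective φ ∧
      φ.ker = (T1 K q).subgroupOf (N1 K q) :=
  h8twE6_weyl hq hK


end Cfsg.Agent.Lib.helper3.T2E
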