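import Mathlib
import Cfsg.Agent.Lib.helper17.T3.Defs
import Cfsg.Agent.Lib.Helper19.T3A.Defs
import Cfsg.Agent.Lib.Helper19.T3A.Comb

/-!
# T3A K1 + K2 cores (helper11): the statements of the cited rows (D7; B1 T2 U4) as hypotheses
-/

set_option autoImplicit false

namespace Cfsg.Agent.Lib.helper17.T3

open Matrix Cfsg.Agent.Lib.helper15.St2 Cfsg.Agent.Lib.helper7.Ce Cfsg.Agent.Lib.Helper19.T3A

variable {F K : Type*} [Field F] [Field K] [Algebra F K]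

namespace SysT

variable {C : Cub F K} {Γ : Type*} [Group Γ] (Q : SysT C Γ)

theorem t3ak1h11_xs_mem_U {k : ZMod 6} (hk : pos k) (t : K) : Q.xs k t ∈ Q.U :=
  Subgroup.subset_closure (Or.inl ⟨k, t, hk, rfl⟩)

theorem t3ak1h11_xl_mem_U {k : ZMod 6} (hk : pos k) (c : F) : Q.xl k c ∈ Q.U :=
  Subgroup.subset_closure (Or.inr ⟨k, c, hk, rfl⟩)

theorem t3ak1h11_U_le_Bor : Q.U ≤ Q.Bor := le_sup_right

theorem t3ak1h11_xs_zero (k : ZMod 6) : Q.xs k 0 = 1 := by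
  have h := Q.adds k 0 0
  rw [add_zero] at h
  exact mul_eq_left.1 h

theorem t3ak1h11_xl_zero (k : ZMod 6) : Q.xl k 0 = 1 := by
  have h := Q.addl k 0 0
  rw [add_zero] at h
  exact mul_eq_left.1 h

theorem t3ak1h11_hs_one (k : ZMod 6) : Q.hs k 1 = 1 := by
  unfold SysT.hs; exact mul_inv_cancel _

theorem t3ak1h11_hl_one (k : ZMod 6) : Q.hl k 1 = 1 := by
  unfold SysT.hl; exact mul_inv_cancel _

/-- K1 core: D7 `isMon_nw` as hypothesis -/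
theorem t3ak1h11_core (D7 : ∀ w : List Bool, Q.IsMon (Q.nw w) (wdW w))
    (hM : Q.ModelOK) (s : Bool) {n : ℕ} (h1 : 1 ≤ n) (h6 : n ≤ 6) : Q.nw (alt s n) ∉ Q.Bor := by
  intro hmem
  obtain ⟨a, b, ha, hb, -, -, hs, hl⟩ := D7 (alt s n)
  have hcj : ∀ x ∈ Q.Bor, cj (Q.nw (alt s n)) x ∈ Q.Bor := fun x hx =>
    Q.Bor.mul_mem (Q.Bor.mul_mem hmem hx) (Q.Bor.inv_mem hmem)
  rcases neg_simple s n h1 h6 with ⟨j, hj, hj3⟩ | ⟨j, hj, hj5⟩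
  · have h2 := hcj _ (Q.t3ak1h11_U_le_Bor (Q.t3ak1h11_xs_mem_U hj (a j)⁻¹))
    rw [hs j (a j)⁻¹, hj3, mul_inv_cancel₀ (ha j)] at h2
    exact hM.bn_a h2
  · have h2 := hcj _ (Q.t3ak1h11_U_le_Bor (Q.t3ak1h11_xl_mem_U hj (b j)⁻¹))
    rw [hl j (b j)⁻¹, hj5, mul_inv_cancel₀ (hb j)] at h2
    exact hM.bn_b h2

section K

variable {G : Type*} [Group G] (π : Γ →* G)

theorem t3ak1h11_map_ws (k : ZMod 6) (t : K) : (Q.map π).ws k t = π (Q.ws k t) := by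
  simp [SysT.ws, SysT.map]

theorem t3ak1h11_map_wl (k : ZMod 6) (c : F) : (Q.map π).wl k c = π (Q.wl k c) := by
  simp [SysT.wl, SysT.map]

theorem t3ak1h11_map_hs (k : ZMod 6) (t : K) : (Q.map π).hs k t = π (Q.hs k t) := by
  unfold SysT.hs; rw [t3ak1h11_map_ws, t3ak1h11_map_ws, map_mul, map_inv]

theorem t3ak1h11_map_hl (k : ZMod 6) (c : F) : (Q.map π).hl k c = π (Q.hl k c) := by
  unfold SysT.hl; rw [t3ak1h11_map_wl, t3ak1h11_map_wl, map_mul, map_inv]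

theorem t3ak1h11_map_uprod (s0 : K) (l0 : F) (s1 : K) (l1 : F) (s2 : K) (l2 : F) :
    (Q.map π).uprod s0 l0 s1 l1 s2 l2 = π (Q.uprod s0 l0 s1 l1 s2 l2) := by
  simp [SysT.uprod, SysT.map]

/-- K2 core: B1 `mem_Bor_iff`, T2 `mem_Tor_iff`, U4 `U_normal_form` as hypotheses -/
theorem t3ak2h11_core
    (B1 : ∀ g : Γ, g ∈ Q.Bor → ∃ h ∈ Q.Tor, ∃ u ∈ Q.U, g = h * u)
    (T2 : ∀ g : Γ, g ∈ Q.Tor → ∃ (t : K) (c : F), t ≠ 0 ∧ c ≠ 0 ∧ g = Q.hs 0 t * Q.hl 2 c)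
    (U4 : ∀ u ∈ Q.U, ∃ (s0 : K) (l0 : F) (s1 : K) (l1 : F) (s2 : K) (l2 : F), u = Q.uprod s0 l0 s1 l1 s2 l2)
    (hM : (Q.map π).ModelOK) {g : Γ} (hg : g ∈ Q.Bor) (h1 : π g = 1) : g = 1 := by
  obtain ⟨h, hh, u, hu, rfl⟩ := B1 g hg
  obtain ⟨t, c, ht, hc, rfl⟩ := T2 h hh
  obtain ⟨s0, l0, s1, l1, s2, l2, rfl⟩ := U4 u hu
  have h2 : (Q.map π).hs 0 t * (Q.map π).hl 2 c * (Q.map π).uprod s0 l0 s1 l1 s2 l2 = 1 := by
    rw [t3ak1h11_map_hs, t3ak1h11_map_hl, t3ak1h11_map_uprod, ← map_mul, ← map_mul]; exact h1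
  obtain ⟨rfl, rfl, rfl, rfl, rfl, rfl, rfl, rfl⟩ := hM.tu t c s0 l0 s1 l1 s2 l2 ht hc h2
  unfold SysT.uprod
  rw [t3ak1h11_hs_one, t3ak1h11_hl_one, t3ak1h11_xs_zero, t3ak1h11_xl_zero, t3ak1h11_xs_zero, t3ak1h11_xl_zero,
    t3ak1h11_xs_zero, t3ak1h11_xl_zero]
  simp

end K


end SysT

end Cfsg.Agent.Lib.helper17.T3
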