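import Mathlib
import Cfsg.Agent.Lib.Helper11.T3AK1core

/-!
# T3A B11 core (helper11): `InM_xs_mul`, `InM_xl_mul` with the statements of D7, B9, B10 as hypotheses
-/

set_option autoImplicit false

namespace Cfsg.Agent.Lib.helper17.T3

open Matrix Cfsg.Agent.Lib.helper15.St2 Cfsg.Agent.Lib.helper7.Ce Cfsg.Agent.Lib.Helper19.T3A

variable {F K : Type*} [Field F] [Field K] [Algebra F K]

namespace SysT

variable {C : Cub F K} {Γ : Type*} [Group Γ] (Q : SysT C Γ)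

theorem t3ab11h11_core_s (D7 : ∀ w : List Bool, Q.IsMon (Q.nw w) (wdW w))
    (B9 : ∀ {b g : Γ}, b ∈ Q.Bor → Q.InM g → Q.InM (b * g))
    (B10 : ∀ (w : List Bool) {g : Γ}, Q.InM g → Q.InM (Q.nw w * g) ∧ Q.InM ((Q.nw w)⁻¹ * g))
    (k : ZMod 6) (t : K) {g : Γ} (hg : Q.InM g) : Q.InM (Q.xs k t * g) := by
  obtain ⟨n, -, hn⟩ := rot_S k
  obtain ⟨a, b, ha, -, -, -, hs, -⟩ := D7 (alt true (2 * n))
  have h1 := hs 0 ((a 0)⁻¹ * t)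
  rw [hn, mul_inv_cancel_left₀ (ha 0)] at h1
  have h2 : Q.xs k t * g = Q.nw (alt true (2 * n)) * (Q.xs 0 ((a 0)⁻¹ * t) * ((Q.nw (alt true (2 * n)))⁻¹ * g)) := by
    rw [← h1]; unfold cj; group
  rw [h2]
  exact (B10 _ (B9 (Q.t3ak1h11_U_le_Bor (Q.t3ak1h11_xs_mem_U (Or.inl rfl) _)) (B10 _ hg).2)).1

theorem t3ab11h11_core_l (D7 : ∀ w : List Bool, Q.IsMon (Q.nw w) (wdW w))
    (B9 : ∀ {b g : Γ}, b ∈ Q.Bor → Q.InM g → Q.InM (b * g))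
    (B10 : ∀ (w : List Bool) {g : Γ}, Q.InM g → Q.InM (Q.nw w * g) ∧ Q.InM ((Q.nw w)⁻¹ * g))
    (k : ZMod 6) (c : F) {g : Γ} (hg : Q.InM g) : Q.InM (Q.xl k c * g) := by
  obtain ⟨n, -, hn⟩ := rot_L k
  obtain ⟨a, b, -, hb, -, -, -, hl⟩ := D7 (alt true (2 * n))
  have h1 := hl 2 ((b 2)⁻¹ * c)
  rw [hn, mul_inv_cancel_left₀ (hb 2)] at h1
  have h2 : Q.xl k c * g = Q.nw (alt true (2 * n)) * (Q.xl 2 ((b 2)⁻¹ * c) * ((Q.nw (alt true (2 * n)))⁻¹ * g)) := by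
    rw [← h1]; unfold cj; group
  rw [h2]
  exact (B10 _ (B9 (Q.t3ak1h11_U_le_Bor (Q.t3ak1h11_xl_mem_U (Or.inr (Or.inr rfl)) _)) (B10 _ hg).2)).1


end SysT

end Cfsg.Agent.Lib.helper17.T3
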