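import Mathlib
import Cfsg.Agent.Lib.Helper11.T3AB11core
import Cfsg.Agent.Lib.Helper26.T3AD6
import Cfsg.Agent.Lib.helper14.T3AB9
import Cfsg.Agent.Lib.Helper20.T3AB10

/-!
# T3A B11 (helper11), VERBATIM: `InM_xs_mul`, `InM_xl_mul` (core + D7 `isMon_nw`, B9 `InM_Bor_mul`, B10 `InM_nw_mul`)
-/

set_option autoImplicit false

namespace Cfsg.Agent.Lib.helper17.T3

open Matrix Cfsg.Agent.Lib.helper15.St2 Cfsg.Agent.Lib.helper7.Ce Cfsg.Agent.Lib.helper7.CEU Cfsg.Agent.Lib.Helper19.T3A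

variable {F K : Type*} [Field F] [Field K] [Algebra F K]

namespace SysT

variable {C : Cub F K} {Γ : Type*} [Group Γ] (Q : SysT C Γ)

theorem InM_xs_mul [Finite K] (k : ZMod 6) (t : K) {g : Γ} (hg : Q.InM g) : Q.InM (Q.xs k t * g) :=
  Q.t3ab11h11_core_s Q.isMon_nw (fun hb hg => Q.InM_Bor_mul hb hg) (fun w _ hg => Q.InM_nw_mul w hg) k t hg

theorem InM_xl_mul [Finite K] (k : ZMod 6) (c : F) {g : Γ} (hg : Q.InM g) : Q.InM (Q.xl k c * g) :=
  Q.t3ab11h11_core_l Q.isMon_nw (fun hb hg => Q.InM_Bor_mul hb hg) (fun w _ hg => Q.InM_nw_mul w hg) k c hg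

end SysT

end Cfsg.Agent.Lib.helper17.T3
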