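import Mathlib
import Cfsg.Agent.Lib.helper17.T3.Defs
import Cfsg.Agent.Lib.Helper19.T3A.Defs
import Cfsg.Agent.Lib.Helper19.T3A.Comb

/-!
# T3A K0 (helper11), VERBATIM: functoriality of `Q.map π`
-/

set_option autoImplicit false

namespace Cfsg.Agent.Lib.helper17.T3

open Matrix Cfsg.Agent.Lib.helper15.St2 Cfsg.Agent.Lib.helper7.Ce Cfsg.Agent.Lib.Helper19.T3A

variable {F K : Type*} [Field F] [Field K] [Algebra F K]

namespace SysT

variable {C : Cub F K} {Γ : Type*} [Group Γ] (Q : SysT C Γ)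

section K

variable {G : Type*} [Group G] (π : Γ →* G)

theorem map_ws (k : ZMod 6) (t : K) : (Q.map π).ws k t = π (Q.ws k t) := by
  simp [SysT.ws, SysT.map]

theorem map_wl (k : ZMod 6) (c : F) : (Q.map π).wl k c = π (Q.wl k c) := by
  simp [SysT.wl, SysT.map]

theorem map_hs (k : ZMod 6) (t : K) : (Q.map π).hs k t = π (Q.hs k t) := by
  unfold SysT.hs; rw [map_ws, map_ws, map_mul, map_inv]

theorem map_hl (k : ZMod 6) (c : F) : (Q.map π).hl k c = π (Q.hl k c) := by
  unfold SysT.hl; rw [map_wl, map_wl, map_mul, map_inv]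

theorem t3ak0h11_map_nS (s : Bool) : (Q.map π).nS s = π (Q.nS s) := by
  cases s
  · simp only [SysT.nS, Bool.false_eq_true, if_false]; exact map_wl Q π 2 1
  · simp only [SysT.nS, if_true]; exact map_ws Q π 0 1

theorem map_nw (w : List Bool) : (Q.map π).nw w = π (Q.nw w) := by
  induction w with
  | nil => simp [SysT.nw]
  | cons s w ih =>
    have e1 : (Q.map π).nw (s :: w) = (Q.map π).nS s * (Q.map π).nw w := by simp [SysT.nw]
    have e2 : Q.nw (s :: w) = Q.nS s * Q.nw w := by simp [SysT.nw]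
    rw [e1, e2, map_mul, ih, t3ak0h11_map_nS]

theorem map_uprod (s0 : K) (l0 : F) (s1 : K) (l1 : F) (s2 : K) (l2 : F) :
    (Q.map π).uprod s0 l0 s1 l1 s2 l2 = π (Q.uprod s0 l0 s1 l1 s2 l2) := by
  simp [SysT.uprod, SysT.map]

theorem map_Bor {b : Γ} (hb : b ∈ Q.Bor) : π b ∈ (Q.map π).Bor := by
  have h : Q.Bor ≤ ((Q.map π).Bor).comap π := by
    unfold SysT.Bor
    refine sup_le ?_ ?_
    · unfold SysT.Tor
      rw [Subgroup.closure_le]
      rintro g ⟨t, c, ht, hc, rfl⟩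
      show π (Q.hs 0 t * Q.hl 2 c) ∈ (Q.map π).Tor ⊔ (Q.map π).U
      refine (le_sup_left : (Q.map π).Tor ≤ _) ?_
      rw [map_mul, ← map_hs, ← map_hl]
      exact Subgroup.subset_closure ⟨t, c, ht, hc, rfl⟩
    · unfold SysT.U SysT.UU
      rw [Subgroup.closure_le]
      rintro g (⟨k, t, hk, rfl⟩ | ⟨k, c, hk, rfl⟩)
      · show π (Q.xs k t) ∈ (Q.map π).Tor ⊔ Subgroup.closure _
        refine (le_sup_right : Subgroup.closure _ ≤ _) ?_
        exact Subgroup.subset_closure (Or.inl ⟨k, t, hk, rfl⟩)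
      · show π (Q.xl k c) ∈ (Q.map π).Tor ⊔ Subgroup.closure _
        refine (le_sup_right : Subgroup.closure _ ≤ _) ?_
        exact Subgroup.subset_closure (Or.inr ⟨k, c, hk, rfl⟩)
  exact h hb

end K


end SysT

end Cfsg.Agent.Lib.helper17.T3
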