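import Mathlib
import Cfsg.Agent.Lib.Helper11.T3AK1core
import Cfsg.Agent.Lib.Helper26.T3AD6
import Cfsg.Agent.Lib.helper23.T3AB1
import Cfsg.Agent.Lib.Helper13.T3AT2
import Cfsg.Agent.Lib.Helper1.T3AU4

/-!
# T3A K1 + K2 (helper11), VERBATIM: `ModelOK.nw_not_mem`, `Bor_ker_trivial` (cores + D7, B1, T2, U4)
-/

set_option autoImplicit false

namespace Cfsg.Agent.Lib.helper17.T3

open Matrix Cfsg.Agent.Lib.helper15.St2 Cfsg.Agent.Lib.helper7.Ce Cfsg.Agent.Lib.helper7.CEU Cfsg.Agent.Lib.Helper19.T3A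

variable {F K : Type*} [Field F] [Field K] [Algebra F K]

namespace SysT

variable {C : Cub F K} {Γ : Type*} [Group Γ] (Q : SysT C Γ)

section K

variable {G : Type*} [Group G] (π : Γ →* G)

theorem ModelOK.nw_not_mem (hM : Q.ModelOK) (s : Bool) {n : ℕ} (h1 : 1 ≤ n) (h6 : n ≤ 6) : Q.nw (alt s n) ∉ Q.Bor :=
  Q.t3ak1h11_core (Q.isMon_nw) hM s h1 h6

theorem Bor_ker_trivial [Finite K] (hM : (Q.map π).ModelOK) {g : Γ} (hg : g ∈ Q.Bor) (h1 : π g = 1) : g = 1 :=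
  Q.t3ak2h11_core π (fun g hg => (Q.mem_Bor_iff g).1 hg) (fun g hg => (Q.mem_Tor_iff g).1 hg) Q.U_normal_form hM hg h1

end K

end SysT

end Cfsg.Agent.Lib.helper17.T3
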