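import Mathlib
import Cfsg.Agent.Lib.Helper24.T3C.Defs2

/-!
# T3C R5 core (helper11): `exists_shortLift` with the statements of R2 and R3 as hypotheses
-/

set_option autoImplicit false

namespace Cfsg.Agent.Lib.Helper24.T3C

open Cfsg.Agent.Lib.helper15.St2 Cfsg.Agent.Lib.helper7.Ce Cfsg.Agent.Lib.helper17.T3

/-- a field with at least four elements has `s ≠ 0` with `s² ≠ 1` -/
theorem t3cr5h11_exists_sq_ne_one {K : Type*} [Field K] [Finite K] (h4 : 4 ≤ Nat.card K) :
    ∃ s : K, s ≠ 0 ∧ s ^ 2 ≠ 1 := by
  classical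
  have := Fintype.ofFinite K
  by_contra hcon
  push Not at hcon
  have hsub : (Finset.univ : Finset K) ⊆ {0, 1, -1} := by
    intro s _
    by_cases hs : s = 0
    · simp [hs]
    · have h1 := hcon s hs
      have h2 : (s - 1) * (s + 1) = 0 := by
        have : (s - 1) * (s + 1) = s ^ 2 - 1 := by ring
        rw [this, h1, sub_self]
      rcases mul_eq_zero.1 h2 with h3 | h3
      · simp [sub_eq_zero.1 h3]
      · simp [eq_neg_of_add_eq_zero_left h3]
  have h5 := Finset.card_le_card hsub
  have h3 : ({0, 1, -1} : Finset K).card ≤ 3 := Finset.card_le_three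
  rw [Finset.card_univ, ← Nat.card_eq_fintype_card] at h5
  omega

variable {F K : Type*} [Field F] [Field K] [Algebra F K] {C : Cub F K} {G : Type*} [Group G] {Γ : Type*} [Group Γ]
  {π : Γ →* G}

/-- R5 core: from the statements of R2 (existence of rank one lifts) and R3 (their uniqueness) -/
theorem t3cr5h11_core
    (R2 : ∀ T : St K G, ∃ T' : St K Γ, ∀ b t, π (T'.X b t) = T.X b t)
    (R3 : ∀ T₁ T₂ : St K Γ, (∀ b t, π (T₁.X b t) = π (T₂.X b t)) → ∀ b t, T₁.X b t = T₂.X b t)
    (S : SysT C G) : Nonempty (ShortLift S π) := by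
  choose T' hT' using fun k : ZMod 6 => R2 (S.sts k)
  have hT : ∀ k t, π ((T' k).X true t) = S.xs k t := by
    intro k t
    rw [hT' k true t]
    simp [SysT.sts]
  have hF : ∀ k t, π ((T' k).X false t) = S.xs (k + 3) (-t) := by
    intro k t
    rw [hT' k false t]
    simp [SysT.sts]
  refine ⟨{ xs := fun k t => (T' k).X true t, map_xs := hT, adds := fun k s t => (T' k).add true s t, equi := ?_ }⟩
  intro g k k' d hd h1 h2 t
  have key := R3 (conjSt (T' k) g) (scaleSt (T' k') d hd) ?_ true t
  · simpa [conjSt, scaleSt, scl] using key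
  · intro b u
    cases b
    · show π (cj g ((T' k).X false u)) = π ((T' k').X false (scl d false * u))
      rw [map_cj, hF, hF, h2]
      simp [scl]
    · show π (cj g ((T' k).X true u)) = π ((T' k').X true (scl d true * u))
      rw [map_cj, hT, hT, h1]
      simp [scl]


end Cfsg.Agent.Lib.Helper24.T3C
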