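import Mathlib
import Cfsg.Agent.Lib.Helper11.T3CR5core
import Cfsg.Agent.Lib.Helper22.T3CR2
import Cfsg.Agent.Lib.Helper22.T3CR3

/-!
# T3C R5 (helper11), VERBATIM: `exists_shortLift` (core + R2 `exists_st_lift` + R3 `st_lift_unique`)
-/

set_option autoImplicit false

namespace Cfsg.Agent.Lib.Helper24.T3C

open Cfsg.Agent.Lib.helper15.St2 Cfsg.Agent.Lib.helper7.Ce Cfsg.Agent.Lib.helper17.T3

variable {F K : Type*} [Field F] [Field K] [Algebra F K] {C : Cub F K} {G : Type*} [Group G] {Γ : Type*} [Group Γ]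
  {π : Γ →* G} {S : SysT C G}

/-- R5 [M] -/
theorem exists_shortLift [Finite K] [Finite Γ] (h : IsCE π) (h5 : 5 ≤ Nat.card K) (h9 : Nat.card K ≠ 9)
    (S : SysT C G) : Nonempty (ShortLift S π) :=
  t3cr5h11_core (exists_st_lift h h5 h9)
    (fun T₁ T₂ h12 => st_lift_unique h (t3cr5h11_exists_sq_ne_one (by omega)) T₁ T₂ h12) S

end Cfsg.Agent.Lib.Helper24.T3C
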