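import Mathlib
import Cfsg.Agent.Lib.Helper24.T3C.Defs2

/-!
# T3C U1 (helper11): the six Weyl fields `ws_s0 … ws_s5` upstairs, for every lift of the Weyl element

Each is `L.equi` at the field of `S` for the root and the field of `S` for the opposite root.
-/

set_option autoImplicit false

namespace Cfsg.Agent.Lib.Helper24.T3C

open Cfsg.Agent.Lib.helper15.St2 Cfsg.Agent.Lib.helper7.Ce Cfsg.Agent.Lib.helper17.T3

variable {F K : Type*} [Field F] [Field K] [Algebra F K] {C : Cub F K} {G : Type*} [Group G] {Γ : Type*} [Group Γ]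
  {π : Γ →* G} {S : SysT C G}

/-- index arithmetic in `ZMod 6` -/
theorem t3cu1h11_idx (k a b c : ZMod 6) (h : a + b = c) : k + a + b = k + c := by
  rw [add_assoc, h]

theorem t3cu1h11_idx0 (k a b : ZMod 6) (h : a + b = 0) : k + a + b = k := by
  rw [add_assoc, h, add_zero]

/-- the general shape of `equi` used for all twelve Weyl fields -/
theorem t3cu1h11_aux (L : ShortLift S π) (g : Γ) (k k' k3 k3' : ZMod 6) (hk : k + 3 = k3) (hk' : k' + 3 = k3')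
    (d e : K) (hde : d * e = 1)
    (h1 : ∀ u, cj (π g) (S.xs k u) = S.xs k' (d * u)) (h2 : ∀ u, cj (π g) (S.xs k3 u) = S.xs k3' (e * u)) (u : K) :
    cj g (L.xs k u) = L.xs k' (d * u) := by
  subst hk hk'
  have hd : d ≠ 0 := left_ne_zero_of_mul_eq_one hde
  have he : e = d⁻¹ := (eq_inv_of_mul_eq_one_right hde)
  subst he
  exact L.equi g k k' d hd h1 h2 u

theorem t3cu1h11_nm_ne_zero (C : Cub F K) {t : K} (ht : t ≠ 0) : C.nm t ≠ 0 := by
  intro h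
  have h1 := C.hnm t
  rw [h, map_zero] at h1
  have h2 : C.θ t ≠ 0 := fun h0 => ht (by simpa using (map_eq_zero C.θ).1 h0)
  have h3 : C.θ (C.θ t) ≠ 0 := fun h0 => h2 (by simpa using (map_eq_zero C.θ).1 h0)
  exact mul_ne_zero (mul_ne_zero ht h2) h3 h1.symm

variable (L : ShortLift S π)

/-- U1 [M] (six statements) -/
theorem ShortLift.ws_s0 (k : ZMod 6) (t u : K) (ht : t ≠ 0) (g : Γ) (hg : π g = S.ws k t) :
    cj g (L.xs k u) = L.xs (k + 3) (t⁻¹ ^ 2 * u) := by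
  refine t3cu1h11_aux L g k (k + 3) (k + 3) k rfl (t3cu1h11_idx0 k 3 3 (by decide)) (t⁻¹ ^ 2) (t ^ 2) ?_ ?_ ?_ u
  · field_simp
  · intro u; rw [hg]; exact S.ws_s0 k t u ht
  · intro u; rw [hg]; exact S.ws_s3 k t u ht

theorem ShortLift.ws_s1 (k : ZMod 6) (t u : K) (ht : t ≠ 0) (g : Γ) (hg : π g = S.ws k t) :
    cj g (L.xs (k + 1) u) = L.xs (k + 2) ((C.nm t)⁻¹ • (t ^ 2 * u)) := by
  have hn : algebraMap F K (C.nm t) ≠ 0 := by
    rw [Ne, map_eq_zero]; exact t3cu1h11_nm_ne_zero C ht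
  have e0 : (C.nm t)⁻¹ • (t ^ 2 * u) = (algebraMap F K (C.nm t))⁻¹ * t ^ 2 * u := by
    rw [Algebra.smul_def, map_inv₀]; ring
  rw [e0]
  refine t3cu1h11_aux L g (k + 1) (k + 2) (k + 4) (k + 5) (t3cu1h11_idx k 1 3 4 (by decide))
    (t3cu1h11_idx k 2 3 5 (by decide)) ((algebraMap F K (C.nm t))⁻¹ * t ^ 2) (algebraMap F K (C.nm t) * t⁻¹ ^ 2) ?_ ?_ ?_ u
  · field_simp
  · intro u; rw [hg]; refine (S.ws_s1 k t u ht).trans ?_; rw [Algebra.smul_def, map_inv₀]; ring_nf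
  · intro u; rw [hg]; refine (S.ws_s4 k t u ht).trans ?_; rw [Algebra.smul_def]; ring_nf

theorem ShortLift.ws_s2 (k : ZMod 6) (t u : K) (ht : t ≠ 0) (g : Γ) (hg : π g = S.ws k t) :
    cj g (L.xs (k + 2) u) = L.xs (k + 1) (-(C.nm t • (t⁻¹ ^ 2 * u))) := by
  have hn : algebraMap F K (C.nm t) ≠ 0 := by
    rw [Ne, map_eq_zero]; exact t3cu1h11_nm_ne_zero C ht
  have e0 : -(C.nm t • (t⁻¹ ^ 2 * u)) = -(algebraMap F K (C.nm t) * t⁻¹ ^ 2) * u := by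
    rw [Algebra.smul_def]; ring
  rw [e0]
  refine t3cu1h11_aux L g (k + 2) (k + 1) (k + 5) (k + 4) (t3cu1h11_idx k 2 3 5 (by decide))
    (t3cu1h11_idx k 1 3 4 (by decide)) (-(algebraMap F K (C.nm t) * t⁻¹ ^ 2)) (-((algebraMap F K (C.nm t))⁻¹ * t ^ 2)) ?_ ?_ ?_ u
  · field_simp
  · intro u; rw [hg]; refine (S.ws_s2 k t u ht).trans ?_; rw [Algebra.smul_def]; ring_nf
  · intro u; rw [hg]; refine (S.ws_s5 k t u ht).trans ?_; rw [Algebra.smul_def, map_inv₀]; ring_nf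

theorem ShortLift.ws_s3 (k : ZMod 6) (t u : K) (ht : t ≠ 0) (g : Γ) (hg : π g = S.ws k t) :
    cj g (L.xs (k + 3) u) = L.xs k (t ^ 2 * u) := by
  refine t3cu1h11_aux L g (k + 3) k k (k + 3) (t3cu1h11_idx0 k 3 3 (by decide)) rfl (t ^ 2) (t⁻¹ ^ 2) ?_ ?_ ?_ u
  · field_simp
  · intro u; rw [hg]; exact S.ws_s3 k t u ht
  · intro u; rw [hg]; exact S.ws_s0 k t u ht

theorem ShortLift.ws_s4 (k : ZMod 6) (t u : K) (ht : t ≠ 0) (g : Γ) (hg : π g = S.ws k t) :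
    cj g (L.xs (k + 4) u) = L.xs (k + 5) (C.nm t • (t⁻¹ ^ 2 * u)) := by
  have hn : algebraMap F K (C.nm t) ≠ 0 := by
    rw [Ne, map_eq_zero]; exact t3cu1h11_nm_ne_zero C ht
  have e0 : C.nm t • (t⁻¹ ^ 2 * u) = algebraMap F K (C.nm t) * t⁻¹ ^ 2 * u := by
    rw [Algebra.smul_def]; ring
  rw [e0]
  refine t3cu1h11_aux L g (k + 4) (k + 5) (k + 1) (k + 2) ?_ ?_
    (algebraMap F K (C.nm t) * t⁻¹ ^ 2) ((algebraMap F K (C.nm t))⁻¹ * t ^ 2) ?_ ?_ ?_ u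
  · rw [add_assoc]; congr 1
  · rw [add_assoc]; congr 1
  · field_simp
  · intro u; rw [hg]; refine (S.ws_s4 k t u ht).trans ?_; rw [Algebra.smul_def]; ring_nf
  · intro u; rw [hg]; refine (S.ws_s1 k t u ht).trans ?_; rw [Algebra.smul_def, map_inv₀]; ring_nf

theorem ShortLift.ws_s5 (k : ZMod 6) (t u : K) (ht : t ≠ 0) (g : Γ) (hg : π g = S.ws k t) :
    cj g (L.xs (k + 5) u) = L.xs (k + 4) (-((C.nm t)⁻¹ • (t ^ 2 * u))) := by
  have hn : algebraMap F K (C.nm t) ≠ 0 := by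
    rw [Ne, map_eq_zero]; exact t3cu1h11_nm_ne_zero C ht
  have e0 : -((C.nm t)⁻¹ • (t ^ 2 * u)) = -((algebraMap F K (C.nm t))⁻¹ * t ^ 2) * u := by
    rw [Algebra.smul_def, map_inv₀]; ring
  rw [e0]
  refine t3cu1h11_aux L g (k + 5) (k + 4) (k + 2) (k + 1) ?_ ?_
    (-((algebraMap F K (C.nm t))⁻¹ * t ^ 2)) (-(algebraMap F K (C.nm t) * t⁻¹ ^ 2)) ?_ ?_ ?_ u
  · rw [add_assoc]; congr 1
  · rw [add_assoc]; congr 1
  · field_simp
  · intro u; rw [hg]; refine (S.ws_s5 k t u ht).trans ?_; rw [Algebra.smul_def, map_inv₀]; ring_nf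
  · intro u; rw [hg]; refine (S.ws_s2 k t u ht).trans ?_; rw [Algebra.smul_def]; ring_nf


end Cfsg.Agent.Lib.Helper24.T3C
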