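import Mathlib
import Cfsg.Agent.Lib.helper8.T3M.Rel
import Cfsg.Agent.Lib.helper8.TDMU1
import Cfsg.Agent.Lib.Helper19.T3A.Defs

/-!
# T3M H3 + H4 (helper11), VERBATIM: the torus elements `hJ3 t (f t) (f² t) * hh 14 c` are diagonal, and `= 1` only for `t = 1`, `c = 1`
-/

set_option autoImplicit false

namespace Cfsg.Agent.Lib.helper8.T3M

open Cfsg.Lie Cfsg.Lie.ChevalleyDatum Matrix
open Cfsg.Agent.Lib.helper8
open Cfsg.Agent.Lib.helper23.TD4V
open Cfsg.Agent.Lib.helper17.T3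
open Cfsg.Agent.Lib.helper15.St2 Cfsg.Agent.Lib.helper7.Ce

universe u

variable {K : Type u} [Field K] {q : ℕ}

theorem t3mh3h11_nroots : chevD4.nroots = 24 := by decide +kernel

theorem t3mh3h11_kdata : h8K chevD4 18 18 = 2 ∧ h8K chevD4 13 18 = 0 ∧ h8K chevD4 12 18 = 0 ∧ h8K chevD4 14 18 = -1 ∧
    h8K chevD4 18 14 = -1 ∧ h8K chevD4 13 14 = -1 ∧ h8K chevD4 12 14 = -1 ∧ h8K chevD4 14 14 = 2 := by decide +kernel

/-- **H4** [S].  `h8hU_mem_H`. -/
theorem t3m_tor_mem_H (D : Dat K q) {t : K} {c : D.Fx} (ht : t ≠ 0) (hc : c ≠ 0) :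
    hJ3 t (D.f t) (D.f (D.f t)) * hh 14 (c : K) ∈ chevD4.diagonalSubgroup K := by
  have h24 := t3mh3h11_nroots
  unfold hJ3 hh
  refine Subgroup.mul_mem _ (Subgroup.mul_mem _ (Subgroup.mul_mem _ ?_ ?_) ?_) ?_
  · exact h8hU_mem_H chevD4 hB 18 (by omega) t ht
  · exact h8hU_mem_H chevD4 hB 13 (by omega) _ (D.f_ne_zero ht)
  · exact h8hU_mem_H chevD4 hB 12 (by omega) _ (D.f_ne_zero (D.f_ne_zero ht))
  · exact h8hU_mem_H chevD4 hB 14 (by omega) _ (D.coe_ne_zero hc)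

/-- the character of the torus element on the root group of `r` -/
theorem t3mh3h11_conj (a b c d : K) (ha : a ≠ 0) (hb : b ≠ 0) (hc : c ≠ 0) (hd : d ≠ 0) (r : ℕ) (hr : r < 24) (u : K) :
    (hJ3 a b c * hh 14 d) * X r u * (hJ3 a b c * hh 14 d)⁻¹ =
      X r (a ^ (h8K chevD4 18 r) * (b ^ (h8K chevD4 13 r) * (c ^ (h8K chevD4 12 r) * (d ^ (h8K chevD4 14 r) * u)))) := by
  have h24 := t3mh3h11_nroots
  have e : (hJ3 a b c * hh 14 d) * X r u * (hJ3 a b c * hh 14 d)⁻¹ =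
      hJ3 a b c * (hh 14 d * X r u * (hh 14 d)⁻¹) * (hJ3 a b c)⁻¹ := by group
  rw [e]
  unfold hJ3 hh X
  rw [h8hU_conj chevD4 hB 14 r (by omega) (by omega) d hd,
    h8hU_conj3 chevD4 hB 18 13 12 r (by omega) (by omega) (by omega) (by omega) a b c ha hb hc]

/-- **H3** [M]. -/
theorem t3m_tor_inj (D : Dat K q) {t : K} {c : D.Fx} (ht : t ≠ 0) (hc : c ≠ 0)
    (h : hJ3 t (D.f t) (D.f (D.f t)) * hh 14 (c : K) = 1) : t = 1 ∧ c = 1 := by
  have h24 := t3mh3h11_nroots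
  obtain ⟨k1, k2, k3, k4, k5, k6, k7, k8⟩ := t3mh3h11_kdata
  have hft := D.f_ne_zero ht
  have hfft := D.f_ne_zero hft
  have hcK := D.coe_ne_zero hc
  have key : ∀ r < 24, t ^ (h8K chevD4 18 r) * ((D.f t) ^ (h8K chevD4 13 r) * ((D.f (D.f t)) ^ (h8K chevD4 12 r) *
      ((c : K) ^ (h8K chevD4 14 r) * 1))) = 1 := by
    intro r hr
    have h1 := t3mh3h11_conj t (D.f t) (D.f (D.f t)) (c : K) ht hft hfft hcK r hr 1
    rw [h, one_mul, inv_one, mul_one] at h1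
    exact (h8xU_inj_t chevD4 hB (h8reflAll chevD4 (by simp)) (h8bn2_all chevD4 (by simp)) r (by omega) _ _ h1).symm
  have e18 := key 18 (by norm_num)
  have e14 := key 14 (by norm_num)
  rw [k1, k2, k3, k4] at e18
  rw [k5, k6, k7, k8] at e14
  simp only [zpow_zero, one_mul, mul_one, _root_.zpow_neg, zpow_one] at e18 e14
  have hc1 : (t : K) ^ 2 = c := by
    have h2 : (t : K) ^ (2 : ℤ) = t ^ 2 := by norm_cast
    rw [h2] at e18
    field_simp at e18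
    exact e18
  have hc2 : (c : K) ^ 2 = t * D.f t * D.f (D.f t) := by
    have h2 : (c : K) ^ (2 : ℤ) = (c : K) ^ 2 := by norm_cast
    rw [h2] at e14
    field_simp at e14
    rw [e14]
  have hfc : D.f (c : K) = c := D.f_coe c
  -- `c ^ 4 = N(t) ^ 2 = N(t ^ 2) = N(c) = c ^ 3`
  have h43 : (c : K) ^ 4 = (c : K) ^ 3 := by
    have e1 : (c : K) ^ 4 = ((c : K) ^ 2) ^ 2 := by ring
    have e2 : (t * D.f t * D.f (D.f t)) ^ 2 = t ^ 2 * D.f (t ^ 2) * D.f (D.f (t ^ 2)) := by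
      simp only [map_pow]; ring
    rw [e1, hc2, e2, hc1, hfc, hfc]; ring
  have hcone : (c : K) = 1 := by
    have h3 : (c : K) ^ 3 ≠ 0 := pow_ne_zero 3 hcK
    have : (c : K) ^ 3 * (c : K) = (c : K) ^ 3 * 1 := by
      rw [mul_one]
      calc (c : K) ^ 3 * (c : K) = (c : K) ^ 4 := by ring
        _ = (c : K) ^ 3 := h43
    exact mul_left_cancel₀ h3 this
  have ht2 : t ^ 2 = 1 := by rw [hc1, hcone]
  have hft1 : D.f t = t := by
    have : (t - 1) * (t + 1) = 0 := by ring_nf; rw [ht2]; ring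
    rcases mul_eq_zero.1 this with h1 | h1
    · rw [sub_eq_zero.1 h1, map_one]
    · rw [eq_neg_of_add_eq_zero_left h1, map_neg, map_one]
  have htone : t = 1 := by
    rw [hcone, hft1, hft1] at hc2
    have : t * t * t = t * (t ^ 2) := by ring
    rw [this, ht2, mul_one, one_pow] at hc2
    exact hc2.symm
  exact ⟨htone, Subtype.ext hcone⟩


end Cfsg.Agent.Lib.helper8.T3M
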