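import Mathlib
import Cfsg.Agent.Lib.helper23.TD4V.Defs
import Cfsg.Agent.Lib.Helper5.TD4VN2
import Cfsg.Agent.Lib.Helper11.TD4VC3core

/-!
# Project TD4V (designer helper23), row C3 `cov_d3` (helper11): the core, second version

`td4vc3_core2` = `td4vc3_core` with the hypothesis `hmul` (I2 `iota_mul`) weakened to nonzero torus parameters on BOTH sides
(`t ≠ 0` and `s ≠ 0`): the Skel's first statement of `iota_mul` is false at `s = 0` (helper16, msg 13576), so the landed row will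
carry `(hs : s ≠ 0)`.  Works with either version of `iota_mul`.
-/

set_option autoImplicit false

namespace Cfsg.Agent.Lib.helper23.TD4V

open Cfsg.Lie Cfsg.Lie.ChevalleyDatum Matrix
open Cfsg.Agent.Lib.helper8 Cfsg.Agent.Lib.helper8.TD4
open Cfsg.Agent.Lib.helper23.P4V

universe u v

section C3

variable {F K : Type u} [Field F] [Field K] [Fintype K]

/-- **C3 core, second version**: `cov_d3` on the cited statements, with the corrected I2 statement `iota_mul`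
(both torus parameters nonzero; the Skel's first version is false at `s = 0`, helper16's msg 13576). -/
theorem td4vc3_core2 (j : F →+* K) (q : ℕ) (t : K) (c : F) (x : GG K)
    (ht : t ≠ 0) (hc0 : c ≠ 0) (hc : j c = Nm q t)
    (hjpow : ∀ a : F, j a ^ q = j a)
    (hpre : ∀ z : K, z ^ q = z → ∃ a : F, j a = z)
    (hNmpow : ∀ z : K, Nm q z ^ q = Nm q z)
    (hTrker : ∀ r : K, ∃ s : K, s ≠ 0 ∧ Tr3 q (s * r) = 0)
    (hcover3 : ∀ ν : F, ν ≠ 0 → ∀ A : M2 F, A.det = ν ^ 2 → ∀ e a0 b0 : F, e ≠ 0 → a0 ≠ 0 → b0 ≠ 0 →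
      InSig ν A ∨ InSig ν (!![1, e; 0, 1] * A) ∨
        ∃ s : F, InSig ν (!![1, 0; s * a0, 1] * !![1, s * b0; 0, 1] * A))
    (hXa : ∀ s : K, Xa q s ∈ Q K q) (hXma : ∀ s : K, Xma q s ∈ Qm K q)
    (hXab : ∀ s : K, Xab q s ∈ Q K q)
    (hXlevi : ∀ r ∈ [14, 9], ∀ z : K, z ^ q = z → X r z ∈ twistedD4 K q ∧ X r z ∈ LK K)
    (hXQ : ∀ r ∈ [22, 23], ∀ z : K, z ^ q = z → X r z ∈ Q K q)
    (hXQm : ∀ r ∈ [1, 0], ∀ z : K, z ^ q = z → X r z ∈ Qm K q)
    (hmul : ∀ (A B : GL (Fin 2) F) (t s : K), t ≠ 0 → s ≠ 0 → j (A : M2 F).det = Nm q t →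
      iota j q (A * B) (t * s) = iota j q A t * iota j q B s)
    (hup : ∀ (A : GL (Fin 2) F) (c : F), (A : M2 F) = !![1, c; 0, 1] → iota j q A 1 = X 14 (j c))
    (hlow : ∀ (A : GL (Fin 2) F) (c : F), (A : M2 F) = !![1, 0; c, 1] → iota j q A 1 = X 9 (j c))
    (hdg : ∀ (A : GL (Fin 2) F) (c : F) (t : K), (A : M2 F) = !![1, 0; 0, c] →
      iota j q A t = hJ hB q t)
    (hA0 : ∀ s r c : K, 1 + s * r ≠ 0 → Xa q s * (Xma q r * X 0 c) =
      (Xma q (r / (1 + s * r)) * X 0 c) * hJ hB q (1 + s * r) * Xa q (s / (1 + s * r)))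
    (hG : ∀ s r c : K, ∃ v ∈ QmK K, ∃ u ∈ QK K,
      Xab q s * (Xma q r * X 0 c) = v * X 14 (Tr3 q (s * r) - Nm q s * c) * u)
    (hH : ∀ s r c : K, ∃ v ∈ QmK K, ∃ u ∈ QK K,
      X 22 s * (Xma q r * X 0 c) = v * (X 9 (s * c) * X 14 (s * Nm q r)) * u)
    (hcell : ∀ v l u : GG K, v ∈ QmK K → l ∈ LK K → l ∈ twistedD4 K q → u ∈ QK K →
      v * l * u ∈ twistedD4 K q → v ∈ Qm K q ∧ u ∈ Q K q)
    (hstep : ∀ y v v' l' u0 : GG K, y ∈ Q K q → u0 ∈ Q K q → y * v = v' * l' * u0 →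
      ∀ (A : GL (Fin 2) F) (t' : K), t' ≠ 0 → ∀ u ∈ Q K q,
        (∀ u'' ∈ Q K q, CovG q x (v' * (l' * iota j q A t') * u'')) →
        CovG q x (v * iota j q A t' * u))
    (hbig : ∀ v' ∈ Qm K q, ∀ u' ∈ Q K q, ∀ M : GL (Fin 2) F, InSig c (M : M2 F) →
      CovG q x (v' * iota j q M (t * t) * u'))
    (r1 : K) (hr1 : r1 ≠ 0) (r2 : F) (hr2 : r2 ≠ 0) (A : GL (Fin 2) F) (t' : K) (ht' : t' ≠ 0)
    (hA : j (A : M2 F).det = Nm q t') (u : GG K) (hu : u ∈ Q K q) :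
    CovG q x (Xma q r1 * X 0 (j r2) * iota j q A t' * u) := by
  have htt : t * t ≠ 0 := mul_ne_zero ht ht
  -- step 1: the parameters
  obtain ⟨d, hd⟩ : ∃ d : K, d = t * t / t' := ⟨_, rfl⟩
  have hd0 : d ≠ 0 := by rw [hd]; exact div_ne_zero htt ht'
  have hdt : d * t' = t * t := by rw [hd]; field_simp
  obtain ⟨s, hs⟩ : ∃ s : K, s = (d - 1) / r1 := ⟨_, rfl⟩
  have hsr : 1 + s * r1 = d := by rw [hs]; field_simp; ring
  obtain ⟨r', hr'⟩ : ∃ r' : K, r' = r1 / d := ⟨_, rfl⟩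
  have hr'0 : r' ≠ 0 := by rw [hr']; exact div_ne_zero hr1 hd0
  obtain ⟨n, hn⟩ := hpre (Nm q d) (hNmpow d)
  have hn0 : n ≠ 0 := by
    intro h
    rw [h, map_zero] at hn
    exact Nm_ne_zero q d hd0 hn.symm
  -- the Levi part after step 1
  have hlevi1 : hJ hB q d * iota j q A t' = iota j q (td4vc3_D n hn0 * A) (t * t) := by
    rw [← hdg (td4vc3_D n hn0) n d (td4vc3_D_val n hn0), ← hdt]
    exact (hmul (td4vc3_D n hn0) A d t' hd0 ht' (by rw [td4vc3_D_det, hn])).symm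
  obtain ⟨A', hA'⟩ : ∃ A' : GL (Fin 2) F, A' = td4vc3_D n hn0 * A := ⟨_, rfl⟩
  have hA'det : (A' : M2 F).det = c ^ 2 := by
    apply j.injective
    rw [hA', Units.val_mul, Matrix.det_mul, map_mul, td4vc3_D_det, hn, hA, ← Nm_mul, hdt, Nm_mul,
      map_pow, hc]
    ring
  rw [← hA'] at hlevi1
  -- memberships
  have hjr2 : X 0 (j r2) ∈ Qm K q := hXQm 0 (by simp) (j r2) (hjpow r2)
  have hv' : Xma q r' * X 0 (j r2) ∈ Qm K q := mul_mem (hXma r') hjr2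
  have hv'G : Xma q r' * X 0 (j r2) ∈ twistedD4 K q := (Subgroup.mem_inf.1 hv').2
  -- step 1
  have hid1 : Xa q s * (Xma q r1 * X 0 (j r2)) =
      (Xma q r' * X 0 (j r2)) * hJ hB q d * Xa q (s / d) := by
    have h := hA0 s r1 (j r2) (by rw [hsr]; exact hd0)
    rw [hsr, ← hr'] at h
    exact h
  refine hstep (Xa q s) (Xma q r1 * X 0 (j r2)) (Xma q r' * X 0 (j r2)) (hJ hB q d) (Xa q (s / d))
    (hXa s) (hXa _) hid1 A t' ht' u hu ?_
  intro u1 hu1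
  rw [hlevi1]
  -- the parameters of the second step
  obtain ⟨σ, hσ0, hσ⟩ := hTrker r'
  obtain ⟨nσ, hnσ⟩ := hpre (Nm q σ) (hNmpow σ)
  have hnσ0 : nσ ≠ 0 := by
    intro h
    rw [h, map_zero] at hnσ
    exact Nm_ne_zero q σ hσ0 hnσ.symm
  obtain ⟨b0, hb0⟩ := hpre (Nm q r') (hNmpow r')
  have hb00 : b0 ≠ 0 := by
    intro h
    rw [h, map_zero] at hb0
    exact Nm_ne_zero q r' hr'0 hb0.symm
  obtain ⟨e, he⟩ : ∃ e : F, e = -(nσ * r2) := ⟨_, rfl⟩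
  have he0 : e ≠ 0 := by rw [he]; exact neg_ne_zero.2 (mul_ne_zero hnσ0 hr2)
  have hje : j e = -(Nm q σ * j r2) := by rw [he, map_neg, map_mul, hnσ]
  rcases hcover3 c hc0 (A' : M2 F) hA'det e r2 b0 he0 hr2 hb00 with h1 | h2 | ⟨s3, h3⟩
  · -- `InSig c A'`
    exact hbig _ hv' u1 hu1 A' h1
  · -- `InSig c (U(e) A')`
    obtain ⟨v2, hv2, u2, hu2, hid2⟩ := hG σ r' (j r2)
    have hpar : Tr3 q (σ * r') - Nm q σ * j r2 = j e := by rw [hσ, zero_sub, hje]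
    rw [hpar] at hid2
    have hl2 := hXlevi 14 (by simp) (j e) (hjpow e)
    have hprodG : v2 * X 14 (j e) * u2 ∈ twistedD4 K q := by
      rw [← hid2]
      exact mul_mem (Subgroup.mem_inf.1 (hXab σ)).2 hv'G
    obtain ⟨hv2', hu2'⟩ := hcell v2 (X 14 (j e)) u2 hv2 hl2.2 hl2.1 hu2 hprodG
    refine hstep (Xab q σ) (Xma q r' * X 0 (j r2)) v2 (X 14 (j e)) u2 (hXab σ) hu2' hid2 A' (t * t)
      htt u1 hu1 ?_
    intro u3 hu3
    have hlevi2 : X 14 (j e) * iota j q A' (t * t) = iota j q (td4vc3_U e * A') (t * t) := by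
      rw [← hup (td4vc3_U e) e (td4vc3_U_val e)]
      have h := hmul (td4vc3_U e) A' 1 (t * t) one_ne_zero htt
        (by rw [td4vc3_U_det, map_one, Nm_one])
      rw [one_mul] at h
      exact h.symm
    rw [hlevi2]
    refine hbig v2 hv2' u3 hu3 (td4vc3_U e * A') ?_
    rw [Units.val_mul, td4vc3_U_val]
    exact h2
  · -- `InSig c (L(s r2) U(s b0) A')`
    obtain ⟨v3, hv3, u3, hu3, hid3⟩ := hH (j s3) r' (j r2)
    have hpar1 : j s3 * j r2 = j (s3 * r2) := (map_mul j s3 r2).symm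
    have hpar2 : j s3 * Nm q r' = j (s3 * b0) := by rw [map_mul, hb0]
    rw [hpar1, hpar2] at hid3
    have hl9 := hXlevi 9 (by simp) (j (s3 * r2)) (hjpow _)
    have hl14 := hXlevi 14 (by simp) (j (s3 * b0)) (hjpow _)
    have hprodG : v3 * (X 9 (j (s3 * r2)) * X 14 (j (s3 * b0))) * u3 ∈ twistedD4 K q := by
      rw [← hid3]
      exact mul_mem (Subgroup.mem_inf.1 (hXQ 22 (by simp) (j s3) (hjpow s3))).2 hv'G
    obtain ⟨hv3', hu3'⟩ := hcell v3 (X 9 (j (s3 * r2)) * X 14 (j (s3 * b0))) u3 hv3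
      (mul_mem hl9.2 hl14.2) (mul_mem hl9.1 hl14.1) hu3 hprodG
    refine hstep (X 22 (j s3)) (Xma q r' * X 0 (j r2)) v3
      (X 9 (j (s3 * r2)) * X 14 (j (s3 * b0))) u3 (hXQ 22 (by simp) (j s3) (hjpow s3)) hu3' hid3 A'
      (t * t) htt u1 hu1 ?_
    intro u4 hu4
    have hlevi3 : X 9 (j (s3 * r2)) * X 14 (j (s3 * b0)) * iota j q A' (t * t) =
        iota j q (td4vc3_L (s3 * r2) * (td4vc3_U (s3 * b0) * A')) (t * t) := by
      rw [← hlow (td4vc3_L (s3 * r2)) (s3 * r2) (td4vc3_L_val _),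
        ← hup (td4vc3_U (s3 * b0)) (s3 * b0) (td4vc3_U_val _)]
      have h1 := hmul (td4vc3_U (s3 * b0)) A' 1 (t * t) one_ne_zero htt
        (by rw [td4vc3_U_det, map_one, Nm_one])
      have h2 := hmul (td4vc3_L (s3 * r2)) (td4vc3_U (s3 * b0) * A') 1 (1 * (t * t)) one_ne_zero
        (by rw [one_mul]; exact htt)
        (by rw [td4vc3_L_det, map_one, Nm_one])
      rw [h1, one_mul, one_mul] at h2
      rw [h2, mul_assoc]
    rw [hlevi3]
    refine hbig v3 hv3' u4 hu4 (td4vc3_L (s3 * r2) * (td4vc3_U (s3 * b0) * A')) ?_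
    rw [Units.val_mul, Units.val_mul, td4vc3_L_val, td4vc3_U_val, ← Matrix.mul_assoc]
    exact h3

end C3

end Cfsg.Agent.Lib.helper23.TD4V
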