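import Mathlib
import Cfsg.Agent.Lib.helper23.TD4V.Defs
import Cfsg.Agent.Lib.Helper5.TD4VN2
import Cfsg.Agent.Lib.Helper5.TD4VN3
import Cfsg.Agent.Lib.Helper5.TD4VN6
import Cfsg.Agent.Lib.Helper18.TD4VF1
import Cfsg.Agent.Lib.Helper18.TD4VL3
import Cfsg.Agent.Lib.helper15.TD4VM1
import Cfsg.Agent.Lib.Helper9.TD4VM2
import Cfsg.Agent.Lib.Helper5.TD4VI2
import Cfsg.Agent.Lib.Helper16.TD4VI3
import Cfsg.Agent.Lib.helper23.TD4VT
import Cfsg.Agent.Lib.helper8.TD4VU8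
import Cfsg.Agent.Lib.Helper22.TD4VC0core
import Cfsg.Agent.Lib.Helper5.TD4VQ3
import Cfsg.Agent.Lib.Helper1.TD4VCB
import Cfsg.Agent.Lib.Helper11.TD4VC3core2

/-!
# Project TD4V (designer helper23), row C3 `cov_d3` (helper11), verbatim

`td4vc3_core2` on the landed rows F1 N2 N3 N4 N7 L3 M1 M2 I2 I3 T5 T6 T7 U8 CB; the conjugation step C0 goes through helper22's
`td4vc0_core` + the landed Q3 `iota_norm_Q'` (it does not wait for the verbatim `step`).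
-/

set_option autoImplicit false

namespace Cfsg.Agent.Lib.helper23.TD4V

open Cfsg.Lie Cfsg.Lie.ChevalleyDatum Matrix
open Cfsg.Agent.Lib.helper8 Cfsg.Agent.Lib.helper8.TD4
open Cfsg.Agent.Lib.helper23.P4V

universe u v

section C

variable {F K : Type u} {E : Type v} [Field F] [Field K] [Field E] [Fintype F] [Fintype K] [Fintype E]
  (j : F →+* K) (ι : K →+* E) (q : ℕ) (t τ : K) (m : E) (c θ : F)

/-- **C3** [H].  Step 1 as in C1 with T5 `move_A0`: `v' = Xma q r' * X 0 (j r2)`, `r' = r1 / d ≠ 0`, Levi part `iota A' (t t)`, `A' = diag(1,n) A` of determinant `c²`.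
N7 `Tr3_ker`: `σ ≠ 0` with `Tr3 q (σ r') = 0`; `e ∈ F` with `j e = -(Nm q σ * j r2) ≠ 0`; `b0` with `j b0 = Nm q r'`.  L3 `cover3` (`a0 = r2`):
* `InSig c A'`: CB.
* `InSig c (U(e) A')`: C0 with T6 `move_G` (`y = Xab q σ`, Levi part `X 14 (j e) = iota U(e) 1`), U8; CB.
* `InSig c (L(s r2) U(s b0) A')`: C0 with T7 `move_H` (`y = X 22 (j s)`, Levi part `X 9 (j (s r2)) * X 14 (j (s b0)) = iota (L(s r2) U(s b0)) 1`), U8; CB. -/
theorem cov_d3 (hX : Ctx j ι q t τ m c θ) (r1 : K) (hr1 : r1 ≠ 0) (r2 : F) (hr2 : r2 ≠ 0)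
    (A : GL (Fin 2) F) (t' : K) (ht' : t' ≠ 0) (hA : j (A : M2 F).det = Nm q t') (u : GG K)
    (hu : u ∈ Q K q) :
    CovG q (x0 hB q t τ) (Xma q r1 * X 0 (j r2) * iota j q A t' * u) :=
  td4vc3_core2 j q t c (x0 hB q t τ) (Ctx.t_ne j ι q t τ m c θ hX) (Ctx.c_ne j ι q t τ m c θ hX) hX.hc
    (fun a => j_pow j q hX.hF a)
    (fun z hz => exists_pre j q hX.hq hX.hF z hz)
    (fun z => Nm_pow q hX.hK z)
    (fun r => Tr3_ker q hX.hq hX.hF hX.hK r)
    (fun ν hν A hA e a0 b0 he ha0 hb0 => cover3 ν hν A hA e a0 b0 he ha0 hb0)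
    (fun s => Xa_mem q hX.hq hX.hK s) (fun s => Xma_mem q hX.hq hX.hK s)
    (fun s => Xab_mem q hX.hq hX.hK s)
    (fun r hr z hz => Xlevi_mem q hX.hq hX.hK r hr z hz)
    (fun r hr z hz => Xlong_mem_Q q hX.hq hX.hK r hr z hz)
    (fun r hr z hz => Xlong_mem_Qm q hX.hq hX.hK r hr z hz)
    (fun A B t s ht hs h => iota_mul j q A B t s ht hs h)
    (fun A c hA => iota_upper j q A c hA)
    (fun A c hA => iota_lower j q A c hA)
    (fun A c t hA => iota_dg j q A c t hA)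
    (fun s r c hd => move_A0 q hX.hq hX.hK s r c hd)
    (fun s r c => move_G q s r c)
    (fun s r c => move_H q s r c)
    (fun v l u hv hl hlG hu hg => cell_mem q hX.hq hX.hK v l u hv hl hlG hu hg)
    (fun y v v' l' u0 hy hu0 hid A t' ht' u hu H =>
      td4vc0_core j q (fun A t ht u hu => iota_norm_Q' j q hX.hq hX.hF hX.hK A t ht u hu)
        (x0 hB q t τ) y v v' l' u0 hy hu0 hid A t' ht' u hu H)
    (fun v' hv' u' hu' M hM => cov_big j ι q t τ m c θ hX v' hv' u' hu' M hM)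
    r1 hr1 r2 hr2 A t' ht' hA u hu

end C

end Cfsg.Agent.Lib.helper23.TD4V
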