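import Mathlib
import Cfsg.Prelude.Def_Characters
import Cfsg.Prelude.Def_OddOrderChar
import Cfsg.Agent.Lib.Helper11.TIFNStar

set_option autoImplicit false
open scoped ComplexConjugate

namespace Cfsg.Agent.Lib.Helper11

open Cfsg.Agent.Lib.helper7 Cfsg.Agent.Lib.Helper25 Cfsg.Agent.Lib.helper2

/-- a member of the relevant set is not constant on the non-identity elements of `K`, if the
relevant set has another member -/
theorem tifn_nonconst {N : Type*} [Group N] [Fintype N] (K : Subgroup N) [hK : K.Normal]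
    (hC : ∀ k ∈ K, k ≠ 1 → Subgroup.centralizer ({k} : Set N) ≤ K) {χ ξ : N → ℂ}
    (hχ : χ ∈ tifnSet K) (hξ : ξ ∈ tifnSet K) (hne : χ ≠ ξ) :
    ∃ k k' : N, k ∈ K ∧ k' ∈ K ∧ k ≠ 1 ∧ k' ≠ 1 ∧ χ k ≠ χ k' := by
  classical
  have := Fintype.ofFinite K
  by_contra hcon
  push Not at hcon
  obtain ⟨k₀, hk₀, hne₀⟩ := hχ.2
  have hk₀1 : k₀ ≠ 1 := by
    rintro rfl
    exact hne₀ rfl
  have hv : ∀ k : N, k ∈ K → k ≠ 1 → χ k = χ k₀ := fun k hk hk1 => hcon k k₀ hk hk₀ hk1 hk₀1
  have horth := irr_classInner (⟨χ, hχ.1⟩ : Cfsg.IrrCharacter N) ⟨ξ, hξ.1⟩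
  rw [if_neg (fun h => hne (congrArg Subtype.val h))] at horth
  unfold Cfsg.classInner at horth
  have hNne : (Nat.card N : ℂ) ≠ 0 := by exact_mod_cast Nat.card_pos.ne'
  have h1 : ∑ n : N, χ n * conj (ξ n) = 0 :=
    (mul_eq_zero.mp horth).resolve_left (inv_ne_zero hNne)
  have h2 : ∑ n : N, χ n * conj (ξ n) = ∑ k : K, χ k * conj (ξ k) := by
    rw [← h7_sum_subgroup K (fun n => χ n * conj (ξ n))]
    apply Finset.sum_congr rfl
    intro n _
    split_ifs with hn
    · rfl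
    · rw [tifn_vanish K hC hχ n hn, zero_mul]
  obtain ⟨b, hbpos, hb⟩ := irr_one_eq_finrank (⟨ξ, hξ.1⟩ : Cfsg.IrrCharacter N)
  change ξ 1 = (b : ℂ) at hb
  have hbne : (b : ℂ) ≠ 0 := by exact_mod_cast hbpos.ne'
  have h3 : ∑ k : K, χ k * conj (ξ k) = χ 1 * (b : ℂ) + χ k₀ * conj (∑ k ∈ (Finset.univ : Finset K).erase 1, ξ k) := by
    rw [← Finset.add_sum_erase Finset.univ _ (Finset.mem_univ (1 : K))]
    congr 1
    · simp only [Subgroup.coe_one]
      rw [hb, Complex.conj_natCast]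
    · rw [map_sum, Finset.mul_sum]
      apply Finset.sum_congr rfl
      intro k hk
      have hk1 : (k : N) ≠ 1 := by
        intro h'
        exact (Finset.mem_erase.mp hk).1 (Subtype.ext h')
      rw [hv k k.2 hk1]
  have h4 : ∑ k ∈ (Finset.univ : Finset K).erase 1, ξ k = -(b : ℂ) := by
    have h5 := tifn_sum_zero K hC hξ
    rw [← Finset.add_sum_erase Finset.univ _ (Finset.mem_univ (1 : K))] at h5
    simp only [Subgroup.coe_one] at h5
    rw [hb] at h5
    linear_combination h5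
  rw [h2, h3, h4, map_neg, Complex.conj_natCast] at h1
  apply hne₀
  have h6 : (b : ℂ) * (χ 1 - χ k₀) = 0 := by linear_combination h1
  have := (mul_eq_zero.mp h6).resolve_left hbne
  exact (sub_eq_zero.mp this).symm

end Cfsg.Agent.Lib.Helper11
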