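import Cfsg.Agent.Lib.helper7.TO.Basic

/-!
# TO / QDET: `mem_G_of` — `q` is determined by `f` and its vanishing on the pure tensors.
-/

set_option autoImplicit false

namespace Cfsg.Agent.Lib.helper7.TO

open Matrix Cfsg.Agent.Lib.helper7.TP Cfsg.Agent.Lib.Helper28.SympAbs
open scoped Kronecker

variable {a b : ℕ} {F : Type*} [Field F]

/-- the defect `x ↦ q (g x) - q x` of a matrix preserving `f`, as an additive map. -/
noncomputable def toqdet_D (C : Ctx a b F) (g : Matrix (Fin a × Fin b) (Fin a × Fin b) F)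
    (hf : ∀ x y : Fin a × Fin b → F, C.f (g *ᵥ x) (g *ᵥ y) = C.f x y) :
    (Fin a × Fin b → F) →+ F :=
  AddMonoidHom.mk' (fun x => C.q (g *ᵥ x) - C.q x) (by
    intro x y
    show C.q (g *ᵥ (x + y)) - C.q (x + y) = (C.q (g *ᵥ x) - C.q x) + (C.q (g *ᵥ y) - C.q y)
    rw [Matrix.mulVec_add, C.q_add, C.q_add, hf]
    ring)

theorem toqdet_D_apply (C : Ctx a b F) (g : Matrix (Fin a × Fin b) (Fin a × Fin b) F)
    (hf : ∀ x y : Fin a × Fin b → F, C.f (g *ᵥ x) (g *ᵥ y) = C.f x y) (x : Fin a × Fin b → F) :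
    toqdet_D C g hf x = C.q (g *ᵥ x) - C.q x := rfl

/-- matrix version of QDET. -/
theorem toqdet_mat (C : Ctx a b F) (g : Matrix (Fin a × Fin b) (Fin a × Fin b) F)
    (hf : ∀ x y : Fin a × Fin b → F, C.f (g *ᵥ x) (g *ᵥ y) = C.f x y)
    (hq : ∀ (u : Fin a → F) (w : Fin b → F), C.q (g *ᵥ ten u w) = 0)
    (x : Fin a × Fin b → F) : C.q (g *ᵥ x) = C.q x := by
  have h0 : toqdet_D C g hf x = 0 := by
    rw [eq_sum_ten x, map_sum]
    apply Finset.sum_eq_zero
    intro i _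
    rw [toqdet_D_apply, hq, C.q_ten, sub_zero]
  rw [toqdet_D_apply] at h0
  exact sub_eq_zero.mp h0

/-- QDET: `q` is determined by `f` and its vanishing on the pure tensors. -/
theorem mem_G_of (C : Ctx a b F) (g : Matrix.GeneralLinearGroup (Fin a × Fin b) F)
    (hf : ∀ x y : Fin a × Fin b → F,
      C.f ((g : Matrix (Fin a × Fin b) (Fin a × Fin b) F) *ᵥ x)
        ((g : Matrix (Fin a × Fin b) (Fin a × Fin b) F) *ᵥ y) = C.f x y)
    (hq : ∀ (u : Fin a → F) (w : Fin b → F),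
      C.q ((g : Matrix (Fin a × Fin b) (Fin a × Fin b) F) *ᵥ ten u w) = 0) : g ∈ C.G := by
  rw [C.mem_G]
  exact toqdet_mat C _ hf hq

end Cfsg.Agent.Lib.helper7.TO
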