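import Cfsg.Agent.Lib.helper7.TO.Basic
import Cfsg.Agent.Lib.Helper11.TOQDET

/-!
# TO / KISO: `kron_mem_G` and `T1_le_G`
-/

set_option autoImplicit false

namespace Cfsg.Agent.Lib.helper7.TO

open Matrix Cfsg.Agent.Lib.helper7.TP Cfsg.Agent.Lib.Helper28.SympAbs
open scoped Kronecker

variable {a b : ℕ} {F : Type*} [Field F]

/-- `x ↦ f (g x) Y` as a linear map. -/
noncomputable def tokiso_L (C : Ctx a b F) (g : Matrix (Fin a × Fin b) (Fin a × Fin b) F)
    (Y : Fin a × Fin b → F) : (Fin a × Fin b → F) →ₗ[F] F where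
  toFun x := C.f (g *ᵥ x) Y
  map_add' x y := by rw [Matrix.mulVec_add, C.hf.add_left]
  map_smul' c x := by rw [Matrix.mulVec_smul, C.hf.smul_left]; rfl

/-- `y ↦ f X (g y)` as a linear map. -/
noncomputable def tokiso_R (C : Ctx a b F) (g : Matrix (Fin a × Fin b) (Fin a × Fin b) F)
    (X : Fin a × Fin b → F) : (Fin a × Fin b → F) →ₗ[F] F where
  toFun y := C.f X (g *ᵥ y)
  map_add' x y := by rw [Matrix.mulVec_add, C.hf.add_right]
  map_smul' c x := by rw [Matrix.mulVec_smul, C.hf.smul_right]; rfl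

/-- a matrix preserving `f` on pairs of pure tensors preserves `f`. -/
theorem tokiso_f_ext (C : Ctx a b F) (g : Matrix (Fin a × Fin b) (Fin a × Fin b) F)
    (h : ∀ (u : Fin a → F) (w : Fin b → F) (u' : Fin a → F) (w' : Fin b → F),
      C.f (g *ᵥ ten u w) (g *ᵥ ten u' w') = C.f (ten u w) (ten u' w'))
    (x y : Fin a × Fin b → F) : C.f (g *ᵥ x) (g *ᵥ y) = C.f x y := by
  -- first variable, against a pure tensor
  have h1 : ∀ (u' : Fin a → F) (w' : Fin b → F) (x : Fin a × Fin b → F),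
      C.f (g *ᵥ x) (g *ᵥ ten u' w') = C.f x (ten u' w') := by
    intro u' w' x
    have : tokiso_L C g (g *ᵥ ten u' w') = tokiso_L C 1 (ten u' w') := by
      apply lin_ext_ten
      intro u w
      show C.f (g *ᵥ ten u w) (g *ᵥ ten u' w') = C.f ((1 : Matrix _ _ F) *ᵥ ten u w) (ten u' w')
      rw [Matrix.one_mulVec]
      exact h u w u' w'
    have h2 := LinearMap.congr_fun this x
    change C.f (g *ᵥ x) (g *ᵥ ten u' w') = C.f ((1 : Matrix _ _ F) *ᵥ x) (ten u' w') at h2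
    rwa [Matrix.one_mulVec] at h2
  have : tokiso_R C g (g *ᵥ x) = tokiso_R C 1 x := by
    apply lin_ext_ten
    intro u' w'
    show C.f (g *ᵥ x) (g *ᵥ ten u' w') = C.f x ((1 : Matrix _ _ F) *ᵥ ten u' w')
    rw [Matrix.one_mulVec]
    exact h1 u' w' x
  have h2 := LinearMap.congr_fun this y
  change C.f (g *ᵥ x) (g *ᵥ y) = C.f x ((1 : Matrix _ _ F) *ᵥ y) at h2
  rwa [Matrix.one_mulVec] at h2

/-- KISO: `α ⊗ β` is an isometry when `α`, `β` are similitudes with inverse multipliers. -/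
theorem kron_mem_G (C : Ctx a b F) (α : Matrix (Fin a) (Fin a) F) (β : Matrix (Fin b) (Fin b) F)
    (ν ν' : F) (hνν' : ν * ν' = 1)
    (hα : ∀ x x' : Fin a → F, C.f₁ (α *ᵥ x) (α *ᵥ x') = ν * C.f₁ x x')
    (hβ : ∀ y y' : Fin b → F, C.f₂ (β *ᵥ y) (β *ᵥ y') = ν' * C.f₂ y y')
    (g : Matrix.GeneralLinearGroup (Fin a × Fin b) F)
    (hg : (g : Matrix (Fin a × Fin b) (Fin a × Fin b) F) = α ⊗ₖ β) : g ∈ C.G := by
  apply mem_G_of C g
  · rw [hg]
    apply tokiso_f_ext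
    intro u w u' w'
    rw [kron_mulVec_ten, kron_mulVec_ten, C.f_ten, C.f_ten, hα, hβ]
    linear_combination (C.f₁ u u' * C.f₂ w w') * hνν'
  · intro u w
    rw [hg, kron_mulVec_ten, C.q_ten]

/-- T1G (from KISO). -/
theorem T1_le_G (C : Ctx a b F) : C.T1 ≤ C.G := by
  unfold Ctx.T1
  apply sup_le
  · rintro _ ⟨α, hα, rfl⟩
    apply kron_mem_G C (α : Matrix (Fin a) (Fin a) F) 1 1 1 (one_mul 1) _ _ _ (kA_coe α)
    · intro x x'
      rw [one_mul]
      exact TT_apply C.hf₁ α hα x x'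
    · intro y y'
      rw [Matrix.one_mulVec, Matrix.one_mulVec, one_mul]
  · rintro _ ⟨β, hβ, rfl⟩
    apply kron_mem_G C 1 (β : Matrix (Fin b) (Fin b) F) 1 1 (one_mul 1) _ _ _ (kB_coe β)
    · intro x x'
      rw [Matrix.one_mulVec, Matrix.one_mulVec, one_mul]
    · intro y y'
      rw [one_mul]
      exact TT_apply C.hf₂ β hβ y y'

end Cfsg.Agent.Lib.helper7.TO
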