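import Cfsg.Agent.Lib.Helper21.TOO.LDefs
import Cfsg.Agent.Lib.Helper21.TOO.LG1
import Cfsg.Agent.Lib.Helper13.TOOLQ5
import Cfsg.Agent.Lib.Helper13.TOOLQ8
import Cfsg.Agent.Lib.Helper27.TOOLQ7

/-!
# Project TOO, LOCAL block, row LU1 (`theta_selfadj`), verbatim from `Helper21/TOO/LSkel.lean.txt` (helper11).
-/

set_option autoImplicit false
set_option linter.unusedSectionVars false
set_option linter.unusedVariables false

namespace Cfsg.Agent.Lib.Helper28.TOO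

open Matrix
open scoped Kronecker
open Cfsg.Agent.Lib.helper7.TP Cfsg.Agent.Lib.Helper21.TS

variable {ι : Type*} [Fintype ι] [DecidableEq ι] {a b : ℕ} {F : Type*} [Field F]
  {J1 : Matrix (Fin a) (Fin a) F} {J2 : Matrix (Fin b) (Fin b) F}
  {M : Subgroup (Matrix.GeneralLinearGroup (Fin a × Fin b) F)}

/-- two independent functionals `f(w, ·)`, `f(w₁, ·)`: some `z ⊥ w` has `f(w₁, z) ≠ 0`. -/
theorem toolu1_exists_z {J : Matrix ι ι F} (hdet : J.det ≠ 0) {w w₁ : ι → F} (hw0 : w ≠ 0)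
    (hind : ∀ c : F, w₁ ≠ c • w) : ∃ z : ι → F, bf J w z = 0 ∧ bf J w₁ z ≠ 0 := by
  by_contra hcon
  push Not at hcon
  obtain ⟨y, hy⟩ := bf_nondeg hdet hw0
  apply hind (bf J w₁ y / bf J w y)
  by_contra hne
  have hne' : w₁ - (bf J w₁ y / bf J w y) • w ≠ 0 := sub_ne_zero.2 hne
  obtain ⟨x, hx⟩ := bf_nondeg hdet hne'
  apply hx
  have h1 : bf J w (x - (bf J w x / bf J w y) • y) = 0 := by
    rw [bf_sub_right, bf_smul_right]
    field_simp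
    ring
  have h2 := hcon _ h1
  rw [bf_sub_right, bf_smul_right] at h2
  rw [bf_sub_left, bf_smul_left]
  have h3 : bf J w₁ x = bf J w x / bf J w y * bf J w₁ y := sub_eq_zero.1 h2
  rw [h3]
  field_simp
  ring

/-- the adjoint `J⁻¹ θᵀ J` of `θ` for a symmetric invertible `J` -/
theorem toolu1_adj {J : Matrix (Fin a) (Fin a) F} (hJ : Jᵀ = J) (hdet : J.det ≠ 0)
    (θ : Matrix (Fin a) (Fin a) F) : (J⁻¹ * θᵀ * J)ᵀ * J = J * θ := by
  have hu : IsUnit J.det := isUnit_iff_ne_zero.2 hdet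
  rw [Matrix.transpose_mul, Matrix.transpose_mul, Matrix.transpose_transpose,
    Matrix.transpose_nonsing_inv, hJ, Matrix.mul_assoc, Matrix.mul_assoc,
    Matrix.nonsing_inv_mul _ hu, Matrix.mul_one]

theorem toolu1_mul_adj {J : Matrix (Fin a) (Fin a) F} (hdet : J.det ≠ 0)
    (θ : Matrix (Fin a) (Fin a) F) : J * (J⁻¹ * θᵀ * J) = θᵀ * J := by
  have hu : IsUnit J.det := isUnit_iff_ne_zero.2 hdet
  rw [← Matrix.mul_assoc, ← Matrix.mul_assoc, Matrix.mul_nonsing_inv _ hu, Matrix.one_mul]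

/-- LU1 [M]. NT ⟹ the `θ` of a pure class in `M ∩ Q` is self-adjoint.
(`pure_shape` with `θs = J1⁻¹ θᵀ J1`; `z ⊥ w` with `f(w₁,z) ≠ 0` (independent functionals); `g' = kB ρ_{w,z} ∈ T1 ≤ M` (`sieg_mem_Om`), `= PureM 1 1 _ w z` (`inQ_sieg`); `comm_pure`:
the commutator is `XBm J2 (f(w₁,z) • (θs - θ)) w ∈ M`, `θs - θ` skew-adjoint: `hNT` gives `θs = θ`.) -/
theorem theta_selfadj (C : OCtx J1 J2) (hT : T1 J1 J2 ≤ M) (hM : M ≤ OV J1 J2) (hNT : NTw J1 J2 M)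
    {g : Matrix.GeneralLinearGroup (Fin a × Fin b) F} (hg : g ∈ M) {w w₁ φ : Fin b → F} (hw0 : w ≠ 0)
    (hw : bf J2 w w = 0) (hφ : φ ⬝ᵥ w = 1)
    (hQ : InQ J2 (g : Matrix (Fin a × Fin b) (Fin a × Fin b) F) w)
    (hw₁ : bf J2 w₁ w₁ = 0) (hww₁ : bf J2 w w₁ = 0) (hind : ∀ c : F, w₁ ≠ c • w)
    (θ : Matrix (Fin a) (Fin a) F)
    (hcl : ∀ y : Fin b → F, bf J2 w y = 0 →
      Zc (g : Matrix (Fin a × Fin b) (Fin a × Fin b) F) φ y = bf J2 w₁ y • θ) :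
    SelfAdj J1 θ := by
  set θs : Matrix (Fin a) (Fin a) F := J1⁻¹ * θᵀ * J1 with hθs
  have hadj : θsᵀ * J1 = J1 * θ := toolu1_adj C.sym1 C.det1 θ
  have hmadj : J1 * θs = θᵀ * J1 := toolu1_mul_adj C.det1 θ
  obtain ⟨κ, hκ, hgm⟩ := pure_shape C (hM hg) hw0 hw hφ hQ hw₁ hww₁ θ θs hadj hcl
  obtain ⟨z, hz, hz1⟩ := toolu1_exists_z C.det2 hw0 hind
  obtain ⟨β, hβ, hβm⟩ := sieg_mem_Om C.sym2 C.two C.det2 hw hz
  have hg'M : Cfsg.Agent.Lib.helper7.TO.kB a b F β ∈ M :=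
    hT (Subgroup.mem_sup_right (Subgroup.mem_map_of_mem _ hβ))
  have hgm' : ((Cfsg.Agent.Lib.helper7.TO.kB a b F β : Matrix.GeneralLinearGroup (Fin a × Fin b) F) :
      Matrix (Fin a × Fin b) (Fin a × Fin b) F)
      = PureM J2 1 1 (-(bf J2 z z / 2) • (1 : Matrix (Fin a) (Fin a) F)) w z := by
    rw [Cfsg.Agent.Lib.helper7.TO.kB_coe, hβm]
    exact (inQ_sieg' (a := a) C.sym2 hw hz hφ).2.2
  have hcomm := comm_pure hw hww₁ hz C.sym2 θ θs κ 1 1 _ g _ hgm hgm'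
  have hmem : g * Cfsg.Agent.Lib.helper7.TO.kB a b F β * g⁻¹ * (Cfsg.Agent.Lib.helper7.TO.kB a b F β)⁻¹ ∈ M :=
    M.mul_mem (M.mul_mem (M.mul_mem hg hg'M) (M.inv_mem hg)) (M.inv_mem hg'M)
  have hskew : SkewAdj J1 (bf J2 w₁ z • (1 * θs - θ * 1)) := by
    unfold SkewAdj
    rw [Matrix.one_mul, Matrix.mul_one, Matrix.transpose_smul, Matrix.transpose_sub, Matrix.smul_mul,
      Matrix.mul_smul, Matrix.sub_mul, Matrix.mul_sub, hadj, hmadj, ← smul_neg, neg_sub]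
  have h0 := hNT _ w hskew hw0 hw ⟨_, hmem, hcomm⟩
  have h1 : 1 * θs - θ * 1 = 0 := by
    rcases smul_eq_zero.1 h0 with h | h
    · exact absurd h hz1
    · exact h
  rw [Matrix.one_mul, Matrix.mul_one, sub_eq_zero] at h1
  unfold SelfAdj
  rw [← hmadj, h1]

end Cfsg.Agent.Lib.Helper28.TOO
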