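import Cfsg.Agent.Lib.Helper21.TOO.LDefs
import Cfsg.Agent.Lib.Helper13.TOOLQ8
import Cfsg.Agent.Lib.Helper27.TOOLQ7

/-!
# Project TOO, LOCAL block, row LU2 (`theta_comm`), verbatim from `Helper21/TOO/LSkel.lean.txt` (helper11).
-/

set_option autoImplicit false
set_option linter.unusedSectionVars false
set_option linter.unusedVariables false

namespace Cfsg.Agent.Lib.Helper28.TOO

open Matrix
open scoped Kronecker
open Cfsg.Agent.Lib.helper7.TP Cfsg.Agent.Lib.Helper21.TS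

variable {ι : Type*} [Fintype ι] [DecidableEq ι] {a b : ℕ} {F : Type*} [Field F]
  {J1 : Matrix (Fin a) (Fin a) F} {J2 : Matrix (Fin b) (Fin b) F}
  {M : Subgroup (Matrix.GeneralLinearGroup (Fin a × Fin b) F)}

/-- the commutator `θ' θ - θ θ'` of two self-adjoint matrices is skew-adjoint -/
theorem toolu2_skew {J : Matrix (Fin a) (Fin a) F} {θ θ' : Matrix (Fin a) (Fin a) F}
    (hθ : SelfAdj J θ) (hθ' : SelfAdj J θ') (c : F) : SkewAdj J (c • (θ' * θ - θ * θ')) := by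
  unfold SelfAdj at hθ hθ'
  unfold SkewAdj
  rw [Matrix.transpose_smul, Matrix.transpose_sub, Matrix.transpose_mul, Matrix.transpose_mul,
    Matrix.smul_mul, Matrix.mul_smul, Matrix.sub_mul, Matrix.mul_sub]
  have e1 : θᵀ * θ'ᵀ * J = J * (θ * θ') := by
    rw [Matrix.mul_assoc, hθ', ← Matrix.mul_assoc, hθ, Matrix.mul_assoc]
  have e2 : θ'ᵀ * θᵀ * J = J * (θ' * θ) := by
    rw [Matrix.mul_assoc, hθ, ← Matrix.mul_assoc, hθ', Matrix.mul_assoc]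
  rw [e1, e2, ← smul_neg, neg_sub]

/-- LU2 [M]. NT ⟹ the `θ`'s of two pure classes at non-orthogonal `w₁, w₁'` commute (`pure_shape` twice, `comm_pure`, `θ' θ - θ θ'` is skew-adjoint). -/
theorem theta_comm (C : OCtx J1 J2) (hM : M ≤ OV J1 J2) (hNT : NTw J1 J2 M)
    {g g' : Matrix.GeneralLinearGroup (Fin a × Fin b) F} (hg : g ∈ M) (hg' : g' ∈ M)
    {w w₁ w₁' φ : Fin b → F} (hw0 : w ≠ 0) (hw : bf J2 w w = 0) (hφ : φ ⬝ᵥ w = 1)
    (hQ : InQ J2 (g : Matrix (Fin a × Fin b) (Fin a × Fin b) F) w)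
    (hQ' : InQ J2 (g' : Matrix (Fin a × Fin b) (Fin a × Fin b) F) w)
    (hw₁ : bf J2 w₁ w₁ = 0) (hww₁ : bf J2 w w₁ = 0) (hw₁' : bf J2 w₁' w₁' = 0) (hww₁' : bf J2 w w₁' = 0)
    (hne : bf J2 w₁ w₁' ≠ 0) (θ θ' : Matrix (Fin a) (Fin a) F) (hθ : SelfAdj J1 θ) (hθ' : SelfAdj J1 θ')
    (hcl : ∀ y : Fin b → F, bf J2 w y = 0 →
      Zc (g : Matrix (Fin a × Fin b) (Fin a × Fin b) F) φ y = bf J2 w₁ y • θ)
    (hcl' : ∀ y : Fin b → F, bf J2 w y = 0 →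
      Zc (g' : Matrix (Fin a × Fin b) (Fin a × Fin b) F) φ y = bf J2 w₁' y • θ') :
    θ * θ' = θ' * θ := by
  obtain ⟨κ, hκ, hgm⟩ := pure_shape C (hM hg) hw0 hw hφ hQ hw₁ hww₁ θ θ hθ hcl
  obtain ⟨κ', hκ', hgm'⟩ := pure_shape C (hM hg') hw0 hw hφ hQ' hw₁' hww₁' θ' θ' hθ' hcl'
  have hcomm := comm_pure hw hww₁ hww₁' C.sym2 θ θ κ θ' θ' κ' g g' hgm hgm'
  have hmem : g * g' * g⁻¹ * g'⁻¹ ∈ M :=
    M.mul_mem (M.mul_mem (M.mul_mem hg hg') (M.inv_mem hg)) (M.inv_mem hg')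
  have h0 := hNT (bf J2 w₁ w₁' • (θ' * θ - θ * θ')) w (toolu2_skew hθ hθ' _) hw0 hw
    ⟨_, hmem, hcomm⟩
  have h1 : θ' * θ - θ * θ' = 0 := by
    rcases smul_eq_zero.1 h0 with h | h
    · exact absurd h hne
    · exact h
  exact (sub_eq_zero.1 h1).symm

end Cfsg.Agent.Lib.Helper28.TOO
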