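import Cfsg.Agent.Lib.helper7.TP.Defs
import Cfsg.Agent.Lib.Helper16.AP5

/-!
# Project TP (S5637, leader helper7), piece FLAG : `lamA_of_lamE` VERBATIM; extras `tpflag_*`.

`SL_b` is transitive on non-zero flags `(w, ψ)` (`b ≥ 3`): `GL_b` is (helper16 `AP.exists_gl_flag`), and the determinant is
corrected by a diagonal matrix fixing `e₀` and `e_lastᵀ`.  Then conjugate by `1 ⊗ γ ∈ T0`.
-/

set_option autoImplicit false
set_option linter.unusedVariables false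

namespace Cfsg.Agent.Lib.helper7.TP

open Matrix
open scoped Kronecker

variable {a b : ℕ} {F : Type*} [Field F]

/-- `SL_b` maps the standard flag `(e₀, e_lastᵀ)` to any non-zero flag (`b ≥ 3`). -/
theorem tpflag_sl_flag (hb : 3 ≤ b) (w ψ : Fin b → F) (hw : w ≠ 0) (hψ : ψ ≠ 0) (h : ψ ⬝ᵥ w = 0) :
    ∃ β : Matrix (Fin b) (Fin b) F, β.det = 1 ∧
      β *ᵥ Pi.single (⟨0, by omega⟩ : Fin b) 1 = w ∧
      ψ ᵥ* β = Pi.single (⟨b - 1, by omega⟩ : Fin b) 1 := by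
  have hn : 2 ≤ b := by omega
  obtain ⟨g, hg1, hg2⟩ := Cfsg.Agent.Lib.Helper16.AP.exists_gl_flag hn
    (⟨w, ψ, hw, hψ, h⟩ : Cfsg.Agent.Lib.Helper16.AP.Flag b F)
  have hg1' : (g : Matrix (Fin b) (Fin b) F) *ᵥ Pi.single (⟨0, by omega⟩ : Fin b) 1 = w := hg1
  have hg2' : Pi.single (⟨b - 1, by omega⟩ : Fin b) 1 ᵥ*
      ((g⁻¹ : Matrix.GeneralLinearGroup (Fin b) F) : Matrix (Fin b) (Fin b) F) = ψ := hg2
  have hgi : ((g⁻¹ : Matrix.GeneralLinearGroup (Fin b) F) : Matrix (Fin b) (Fin b) F) *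
      (g : Matrix (Fin b) (Fin b) F) = 1 := by
    rw [← Units.val_mul, inv_mul_cancel]; rfl
  have hd : (g : Matrix (Fin b) (Fin b) F).det ≠ 0 := by
    have := (Matrix.isUnit_iff_isUnit_det _).mp g.isUnit
    exact this.ne_zero
  set i1 : Fin b := ⟨1, by omega⟩ with hi1
  set D : Matrix (Fin b) (Fin b) F :=
    Matrix.diagonal (fun i => if i1 = i then ((g : Matrix (Fin b) (Fin b) F).det)⁻¹ else 1) with hD
  refine ⟨(g : Matrix (Fin b) (Fin b) F) * D, ?_, ?_, ?_⟩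
  · rw [Matrix.det_mul, hD, Matrix.det_diagonal, Finset.prod_ite_eq, if_pos (Finset.mem_univ _),
      mul_inv_cancel₀ hd]
  · rw [← Matrix.mulVec_mulVec, hD, Matrix.diagonal_mulVec_single, if_neg, one_mul, hg1']
    intro h01
    have := congrArg Fin.val h01
    simp [hi1] at this
  · have h1 : ψ ᵥ* (g : Matrix (Fin b) (Fin b) F) = Pi.single (⟨b - 1, by omega⟩ : Fin b) 1 := by
      rw [← hg2', Matrix.vecMul_vecMul, hgi, Matrix.vecMul_one]
    rw [← Matrix.vecMul_vecMul, h1, hD, Matrix.single_vecMul_diagonal, if_neg, one_mul]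
    intro h01
    have := congrArg Fin.val h01
    simp only [hi1] at this
    omega

/-- `SL_b` is transitive on non-zero flags (`b ≥ 3`). -/
theorem tpflag_sl_trans (hb : 3 ≤ b) (w ψ w' ψ' : Fin b → F) (hw : w ≠ 0) (hψ : ψ ≠ 0)
    (h : ψ ⬝ᵥ w = 0) (hw' : w' ≠ 0) (hψ' : ψ' ≠ 0) (h' : ψ' ⬝ᵥ w' = 0) :
    ∃ γ : Matrix (Fin b) (Fin b) F, γ.det = 1 ∧ γ *ᵥ w = w' ∧ ψ' ᵥ* γ = ψ := by
  obtain ⟨β1, hd1, hv1, hc1⟩ := tpflag_sl_flag hb w ψ hw hψ h
  obtain ⟨β2, hd2, hv2, hc2⟩ := tpflag_sl_flag hb w' ψ' hw' hψ' h'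
  have hu1 : IsUnit β1.det := by rw [hd1]; exact isUnit_one
  have hi1 : β1⁻¹ * β1 = 1 := Matrix.nonsing_inv_mul β1 hu1
  have hi2 : β1 * β1⁻¹ = 1 := Matrix.mul_nonsing_inv β1 hu1
  refine ⟨β2 * β1⁻¹, ?_, ?_, ?_⟩
  · rw [Matrix.det_mul, Matrix.det_nonsing_inv, hd1, hd2, Ring.inverse_one, one_mul]
  · rw [← hv1, Matrix.mulVec_mulVec, Matrix.mul_assoc, hi1, Matrix.mul_one, hv2]
  · rw [← Matrix.vecMul_vecMul, hc2, ← hc1, Matrix.vecMul_vecMul, hi2, Matrix.vecMul_one]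

/-- `ELm` on a degenerate flag is `1`. -/
theorem tpflag_ELm_zero_left (ζ : Matrix (Fin a) (Fin a) F) (ψ : Fin b → F) :
    ELm ζ (0 : Fin b → F) ψ = 1 := by
  rw [Matrix.ext_iff_mulVec]
  intro v
  rw [ELm_mulVec, Matrix.one_mulVec]
  have : ten (ζ *ᵥ ctr ψ v) (0 : Fin b → F) = 0 := by
    funext p; simp [ten]
  rw [this, add_zero]

theorem tpflag_ELm_zero_right (ζ : Matrix (Fin a) (Fin a) F) (w : Fin b → F) :
    ELm ζ w (0 : Fin b → F) = 1 := by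
  rw [Matrix.ext_iff_mulVec]
  intro v
  rw [ELm_mulVec, Matrix.one_mulVec]
  have h1 : ctr (0 : Fin b → F) v = 0 := by
    funext i; simp [ctr]
  have : ten (ζ *ᵥ ctr (0 : Fin b → F) v) w = 0 := by
    rw [h1, Matrix.mulVec_zero]
    funext p; simp [ten]
  rw [this, add_zero]

/-- FLAG: one non-zero flag is as good as all flags. -/
theorem lamA_of_lamE (hb : 3 ≤ b) (M : Subgroup (Matrix.GeneralLinearGroup (Fin a × Fin b) F))
    (hTM : T0 a b F ≤ M) (ζ : Matrix (Fin a) (Fin a) F) (h : LamE M ζ) : LamA M ζ := by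
  obtain ⟨w, ψ, g0, hw, hψ, hψw, hg0, hg0M⟩ := h
  intro w' ψ' g' hψw' hg'
  by_cases hw' : w' = 0
  · have : g' = 1 := by
      apply Units.ext
      rw [hg', hw', tpflag_ELm_zero_left]
      rfl
    rw [this]
    exact M.one_mem
  by_cases hψ' : ψ' = 0
  · have : g' = 1 := by
      apply Units.ext
      rw [hg', hψ', tpflag_ELm_zero_right]
      rfl
    rw [this]
    exact M.one_mem
  obtain ⟨γ, hγd, hγw, hγψ⟩ := tpflag_sl_trans hb w ψ w' ψ' hw hψ hψw hw' hψ' hψw'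
  have hγ0 : γ.det ≠ 0 := by rw [hγd]; exact one_ne_zero
  have hdet : ((1 : Matrix (Fin a) (Fin a) F) ⊗ₖ γ).det = 1 := by
    rw [Matrix.det_kronecker, hγd, Matrix.det_one, one_pow, one_pow, one_mul]
  have hdet0 : ((1 : Matrix (Fin a) (Fin a) F) ⊗ₖ γ).det ≠ 0 := by rw [hdet]; exact one_ne_zero
  set A : Matrix.GeneralLinearGroup (Fin a × Fin b) F :=
    Matrix.GeneralLinearGroup.mkOfDetNeZero _ hdet0 with hA
  have hAv : (A : Matrix (Fin a × Fin b) (Fin a × Fin b) F) = (1 : Matrix (Fin a) (Fin a) F) ⊗ₖ γ := rfl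
  have hAT : A ∈ T0 a b F := by
    refine Subgroup.mem_inf.mpr ⟨?_, ?_⟩
    · refine ⟨1, Matrix.GeneralLinearGroup.mkOfDetNeZero γ hγ0, ?_⟩
      rw [hAv]
      rfl
    · rw [Cfsg.Geo.specialLinear, MonoidHom.mem_ker]
      apply Units.ext
      rw [Matrix.GeneralLinearGroup.val_det_apply, hAv, hdet]
      rfl
  have : g' = A * g0 * A⁻¹ := by
    rw [eq_mul_inv_iff_mul_eq]
    apply Units.ext
    rw [Units.val_mul, Units.val_mul, hg', hg0, hAv, ELm, ELm, Matrix.add_mul, Matrix.mul_add,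
      Matrix.one_mul, Matrix.mul_one, ← Matrix.mul_kronecker_mul, ← Matrix.mul_kronecker_mul,
      Matrix.mul_one, Matrix.one_mul, Matrix.vecMulVec_mul, Matrix.mul_vecMulVec, hγw, hγψ]
  rw [this]
  exact M.mul_mem (M.mul_mem (hTM hAT) hg0M) (M.inv_mem (hTM hAT))

end Cfsg.Agent.Lib.helper7.TP
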