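import Cfsg.Agent.Lib.Helper28.TOO.Defs
import Cfsg.Agent.Lib.helper6.TSSIEG
import Cfsg.Agent.Lib.Helper21.TOO.Transfer

/-!
# Project TOO (S5681), block WORLD 1, row WQ1 (`w1_sieg_ten_B`, `w1_sieg_ten_A`), verbatim from `helper7/TOO/WSkel.lean.txt` (helper11).
-/

set_option autoImplicit false
set_option linter.unusedVariables false
set_option linter.unusedSectionVars false

namespace Cfsg.Agent.Lib.Helper28.TOO

open Matrix
open scoped Kronecker
open Cfsg.Agent.Lib.helper7.TP Cfsg.Agent.Lib.Helper21.TS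

variable {a b : ℕ} {F : Type*} [Field F]
variable {J1 : Matrix (Fin a) (Fin a) F} {J2 : Matrix (Fin b) (Fin b) F}

theorem toowq1_sub_kron (A B : Matrix (Fin a) (Fin a) F) (C : Matrix (Fin b) (Fin b) F) :
    (A - B) ⊗ₖ C = A ⊗ₖ C - B ⊗ₖ C := by
  have h := Matrix.add_kronecker (A - B) B C
  rw [sub_add_cancel] at h
  exact eq_sub_of_add_eq h.symm

theorem toowq1_kron_sub (A : Matrix (Fin a) (Fin a) F) (B C : Matrix (Fin b) (Fin b) F) :
    A ⊗ₖ (B - C) = A ⊗ₖ B - A ⊗ₖ C := by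
  have h := Matrix.kronecker_add A (B - C) C
  rw [sub_add_cancel] at h
  exact eq_sub_of_add_eq h.symm

/-- WQ1 [M]. identification of the pure Siegel elements (check on pure tensors with `mat_ext_ten`, `sieg_mulVec`, `bf_JV_ten`, or `opm_kron`). -/
theorem w1_sieg_ten_B (u x : Fin a → F) (w : Fin b → F) (hw : bf J2 w w = 0) :
    sieg (JV J1 J2) (ten u w) (ten x w) = XBm J2 (Nw J1 u x) w := by
  unfold sieg XBm Nw
  rw [bf_JV_ten, hw, mul_zero, zero_div, zero_smul, sub_zero, ← opm_kron, ← opm_kron,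
    toowq1_sub_kron, add_sub_assoc]

theorem w1_sieg_ten_A (u : Fin a → F) (hu : bf J1 u u = 0) (w y : Fin b → F) :
    sieg (JV J1 J2) (ten u w) (ten u y) = XAm J1 u (Nw J2 w y) := by
  unfold sieg XAm Nw
  rw [bf_JV_ten, hu, zero_mul, zero_div, zero_smul, sub_zero, ← opm_kron, ← opm_kron,
    toowq1_kron_sub, add_sub_assoc]

end Cfsg.Agent.Lib.Helper28.TOO
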