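import Cfsg.Agent.Lib.Helper28.TOO.Defs
import Cfsg.Agent.Lib.helper6.TSSIEG
import Cfsg.Agent.Lib.Helper21.TOO.Transfer
import Cfsg.Agent.Lib.helper3.C3OISO

/-!
# Project TOO (S5681), block WORLD 1, row WX0 (`w1_ex_sing`), verbatim from `helper7/TOO/WSkel.lean.txt` (helper11).
Via helper3's `Cfsg.Agent.Lib.Helper10.C3O.iso_ex` (Chevalley–Warning) for the bilinear form `Matrix.toLinearMap₂' F J`.
-/

set_option autoImplicit false
set_option linter.unusedVariables false
set_option linter.unusedSectionVars false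

namespace Cfsg.Agent.Lib.Helper28.TOO

open Matrix
open scoped Kronecker
open Cfsg.Agent.Lib.helper7.TP Cfsg.Agent.Lib.Helper21.TS

variable {a b : ℕ} {F : Type*} [Field F]
variable {J1 : Matrix (Fin a) (Fin a) F} {J2 : Matrix (Fin b) (Fin b) F}

/-- general index type: a symmetric form in dimension `≥ 3` over a finite field has a non-zero singular vector -/
theorem toowx0_ex_sing {ι : Type*} [Fintype ι] [DecidableEq ι] [Finite F] {J : Matrix ι ι F} (hJ : Jᵀ = J)
    (hn : 3 ≤ Fintype.card ι) : ∃ u : ι → F, u ≠ 0 ∧ bf J u u = 0 := by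
  have hB : ∀ x y : ι → F, Matrix.toLinearMap₂' F J x y = bf J x y := fun x y => by
    rw [Matrix.toLinearMap₂'_apply']
    rfl
  obtain ⟨u, _, hu0, hu⟩ := Cfsg.Agent.Lib.Helper10.C3O.iso_ex (K := F) (Matrix.toLinearMap₂' F J)
    (fun x y => by rw [hB, hB, bf_symm hJ]) ⊤ (by rw [finrank_top, Module.finrank_fintype_fun_eq_card]; exact hn)
  exact ⟨u, hu0, by rw [← hB]; exact hu⟩

/-- WX0 [M]. a finite field has singular vectors in dimension `≥ 3` (`Helper28.OMax.ex_sing` with the empty family, `SymF (bf J)`). -/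
theorem w1_ex_sing [Fintype F] {n : ℕ} {J : Matrix (Fin n) (Fin n) F} (h2 : (2 : F) ≠ 0) (hJ : Jᵀ = J)
    (hdet : J.det ≠ 0) (hn : 3 ≤ n) : ∃ u : Fin n → F, u ≠ 0 ∧ bf J u u = 0 :=
  toowx0_ex_sing hJ (by rw [Fintype.card_fin]; exact hn)

end Cfsg.Agent.Lib.Helper28.TOO
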