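import Cfsg.Agent.Lib.Helper28.TOO.Defs
import Cfsg.Agent.Lib.helper6.TSSIEG
import Cfsg.Agent.Lib.Helper21.TOO.Transfer

/-!
# Project TOO (S5681), block WORLD 1, row WX1 (`w1_T1_le_Om`, `w1_T1_le_K0`), verbatim from `helper7/TOO/WSkel.lean.txt` (helper11).
-/

set_option autoImplicit false
set_option linter.unusedVariables false
set_option linter.unusedSectionVars false

namespace Cfsg.Agent.Lib.Helper28.TOO

open Matrix
open scoped Kronecker
open Cfsg.Agent.Lib.helper7.TP Cfsg.Agent.Lib.Helper21.TS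

/-- `Ω(J)` is the commutator subgroup `⁅O(J), O(J)⁆` inside `GL`. -/
theorem toowx1_Om_eq {ι : Type*} [Fintype ι] [DecidableEq ι] {F : Type*} [Field F] (J : Matrix ι ι F) :
    Om J = ⁅Iso J, Iso J⁆ := by
  unfold Om
  rw [commutator_def, Subgroup.map_commutator, ← MonoidHom.range_eq_map, Subgroup.range_subtype]

variable {a b : ℕ} {F : Type*} [Field F]
variable {J1 : Matrix (Fin a) (Fin a) F} {J2 : Matrix (Fin b) (Fin b) F}

theorem toowx1_kA_mem_Iso {α : Matrix.GeneralLinearGroup (Fin a) F} (hα : α ∈ Iso J1) :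
    Cfsg.Agent.Lib.helper7.TO.kA a b F α ∈ Iso (JV J1 J2) := by
  rw [mem_Iso, Cfsg.Agent.Lib.helper7.TO.kA_coe, JV, ← Matrix.kroneckerMap_transpose,
    ← Matrix.mul_kronecker_mul, ← Matrix.mul_kronecker_mul, (mem_Iso J1 α).mp hα,
    Matrix.transpose_one, Matrix.one_mul, Matrix.mul_one]

theorem toowx1_kB_mem_Iso {β : Matrix.GeneralLinearGroup (Fin b) F} (hβ : β ∈ Iso J2) :
    Cfsg.Agent.Lib.helper7.TO.kB a b F β ∈ Iso (JV J1 J2) := by
  rw [mem_Iso, Cfsg.Agent.Lib.helper7.TO.kB_coe, JV, ← Matrix.kroneckerMap_transpose,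
    ← Matrix.mul_kronecker_mul, ← Matrix.mul_kronecker_mul, (mem_Iso J2 β).mp hβ,
    Matrix.transpose_one, Matrix.one_mul, Matrix.mul_one]

theorem toowx1_kA_Om_le : (Om J1).map (Cfsg.Agent.Lib.helper7.TO.kA a b F) ≤ Om (JV J1 J2) := by
  rw [toowx1_Om_eq, toowx1_Om_eq, Subgroup.map_commutator]
  have h : (Iso J1).map (Cfsg.Agent.Lib.helper7.TO.kA a b F) ≤ Iso (JV J1 J2) := by
    rintro _ ⟨α, hα, rfl⟩
    exact toowx1_kA_mem_Iso hα
  exact Subgroup.commutator_mono h h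

theorem toowx1_kB_Om_le : (Om J2).map (Cfsg.Agent.Lib.helper7.TO.kB a b F) ≤ Om (JV J1 J2) := by
  rw [toowx1_Om_eq, toowx1_Om_eq, Subgroup.map_commutator]
  have h : (Iso J2).map (Cfsg.Agent.Lib.helper7.TO.kB a b F) ≤ Iso (JV J1 J2) := by
    rintro _ ⟨β, hβ, rfl⟩
    exact toowx1_kB_mem_Iso hβ
  exact Subgroup.commutator_mono h h

/-- WX1 [S-M]. `kA`, `kB` map `Iso` into `Iso (JV)` (cf. `kronG_mem_SpV`), and a group homomorphism maps commutators to commutators. -/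
theorem w1_T1_le_Om (C : OCtx J1 J2) : T1 J1 J2 ≤ Om (JV J1 J2) := by
  unfold T1
  exact sup_le toowx1_kA_Om_le toowx1_kB_Om_le

theorem w1_T1_le_K0 : T1 J1 J2 ≤ K0 a b F := by
  unfold T1
  refine sup_le ?_ ?_
  · rintro _ ⟨α, _, rfl⟩
    refine (mem_K0 _).mpr ⟨α, 1, ?_⟩
    rw [Cfsg.Agent.Lib.helper7.TO.kA_coe, Units.val_one]
  · rintro _ ⟨β, _, rfl⟩
    refine (mem_K0 _).mpr ⟨1, β, ?_⟩
    rw [Cfsg.Agent.Lib.helper7.TO.kB_coe, Units.val_one]

end Cfsg.Agent.Lib.Helper28.TOO
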