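import Cfsg.Agent.Lib.helper7.TO.Basic

/-!
# TO / PROPER: a non-trivial Siegel element of `A`-type is not a Kronecker product

`toproper_core` carries the extra hypothesis `C.f₂ w z = 0` (part of `SgA`); without it the statement
fails for `b = 2` (there `N₂ y = f₂(w,y) z - f₂(z,y) w = f₂(w,z) y` is scalar and `t = τ_u ⊗ 1 ∈ K0`).
-/

set_option autoImplicit false

namespace Cfsg.Agent.Lib.helper7.TO

open Matrix Cfsg.Agent.Lib.helper7.TP Cfsg.Agent.Lib.Helper28.SympAbs
open scoped Kronecker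

variable {a b : ℕ} {F : Type*} [Field F]

/-- the action of an `A`-type Siegel element on a pure tensor. -/
theorem toproper_act (C : Ctx a b F) (t : Matrix.GeneralLinearGroup (Fin a × Fin b) F)
    (u : Fin a → F) (w z : Fin b → F) (c : F) (ht : C.IsSgV t (ten u w) (ten u z) c)
    (x : Fin a → F) (y : Fin b → F) :
    (t : Matrix (Fin a × Fin b) (Fin a × Fin b) F) *ᵥ ten x y =
      ten x y + (c * C.f₁ u x) • ten u (C.f₂ w y • z - C.f₂ z y • w) := by
  rw [ht, Ctx.sgv, C.f_ten, C.f_ten, ten_sub_right, ten_smul_right, ten_smul_right]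
  module

/-- PROPER (with `f₂ w z = 0`). -/
theorem toproper_core (C : Ctx a b F) (t : Matrix.GeneralLinearGroup (Fin a × Fin b) F)
    (u : Fin a → F) (w z : Fin b → F) (c : F) (hu : u ≠ 0) (hc : c ≠ 0) (hw : w ≠ 0)
    (hz : ∀ l : F, z ≠ l • w) (hwz : C.f₂ w z = 0)
    (ht : C.IsSgV t (ten u w) (ten u z) c) : t ∉ K0 a b F := by
  intro hK
  obtain ⟨α, β, hαβ⟩ := (mem_K0 t).mp hK
  have hact : ∀ (x : Fin a → F) (y : Fin b → F),
      ten ((α : Matrix (Fin a) (Fin a) F) *ᵥ x) ((β : Matrix (Fin b) (Fin b) F) *ᵥ y) =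
        ten x y + (c * C.f₁ u x) • ten u (C.f₂ w y • z - C.f₂ z y • w) := by
    intro x y
    rw [← kron_mulVec_ten, ← hαβ]
    exact toproper_act C t u w z c ht x y
  -- `β` is scalar
  have h1 : ∀ y : Fin b → F,
      ten ((α : Matrix (Fin a) (Fin a) F) *ᵥ u) ((β : Matrix (Fin b) (Fin b) F) *ᵥ y) = ten u y := by
    intro y
    rw [hact u y, C.hf₁.alternating, mul_zero, zero_smul, add_zero]
  obtain ⟨i₀, hi₀⟩ : ∃ i, u i ≠ 0 := by
    by_contra hcon
    push Not at hcon
    exact hu (funext hcon)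
  obtain ⟨j₀, hj₀⟩ : ∃ j, w j ≠ 0 := by
    by_contra hcon
    push Not at hcon
    exact hw (funext hcon)
  set m := ((α : Matrix (Fin a) (Fin a) F) *ᵥ u) i₀ with hm
  have hmj : ∀ (y : Fin b → F) (j : Fin b),
      m * ((β : Matrix (Fin b) (Fin b) F) *ᵥ y) j = u i₀ * y j := by
    intro y j
    have := congrFun (h1 y) (i₀, j)
    simpa [ten] using this
  have hm0 : m ≠ 0 := by
    intro h0
    have := hmj w j₀
    rw [h0, zero_mul] at this
    exact mul_ne_zero hi₀ hj₀ this.symm
  have hβ : ∀ y : Fin b → F, (β : Matrix (Fin b) (Fin b) F) *ᵥ y = (u i₀ / m) • y := by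
    intro y
    funext j
    have := hmj y j
    simp only [Pi.smul_apply, smul_eq_mul]
    field_simp
    linear_combination this
  -- pick `x` with `f₁ u x ≠ 0`
  obtain ⟨x, hx⟩ := (C.hf₁.nondegenerate u hu).2
  have hN2w : C.f₂ w w • z - C.f₂ z w • w = 0 := by
    rw [C.hf₂.alternating, C.hf₂.skew z w, hwz]
    simp
  have h2 : (u i₀ / m) • ((α : Matrix (Fin a) (Fin a) F) *ᵥ x) = x := by
    have := hact x w
    rw [hN2w, ten_zero_right, smul_zero, add_zero, hβ, ten_smul_right, ← ten_smul_left] at this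
    exact ten_left_inj hw this
  -- now `N₂ y = 0` for all `y`
  have h3 : ∀ y : Fin b → F, C.f₂ w y • z - C.f₂ z y • w = 0 := by
    intro y
    have := hact x y
    rw [hβ, ten_smul_right, ← ten_smul_left, h2] at this
    have h0 : (c * C.f₁ u x) • ten u (C.f₂ w y • z - C.f₂ z y • w) = 0 := by
      have h' := this
      rw [left_eq_add] at h'
      exact h'
    rcases smul_eq_zero.mp h0 with h4 | h4
    · exact absurd h4 (mul_ne_zero hc hx)
    · rcases ten_eq_zero h4 with h5 | h5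
      · exact absurd h5 hu
      · exact h5
  obtain ⟨y, hy⟩ := (C.hf₂.nondegenerate w hw).2
  apply hz (C.f₂ z y / C.f₂ w y)
  have := h3 y
  have h6 : C.f₂ w y • z = C.f₂ z y • w := sub_eq_zero.mp this
  rw [div_eq_inv_mul, mul_smul, ← h6, smul_smul, inv_mul_cancel₀ hy, one_smul]

end Cfsg.Agent.Lib.helper7.TO
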