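import Cfsg.Agent.Lib.helper7.TO.Basic
import Cfsg.Agent.Lib.Helper11.TOPROPER

/-!
# TO / PROPER: `sgA_not_mem_K0` verbatim (amended statement, with `hwz : C.f₂ w z = 0`)
-/

set_option autoImplicit false

namespace Cfsg.Agent.Lib.helper7.TO

open Matrix Cfsg.Agent.Lib.helper7.TP Cfsg.Agent.Lib.Helper28.SympAbs
open scoped Kronecker

variable {a b : ℕ} {F : Type*} [Field F]

/-- PROPER: a non-trivial Siegel element of `A`-type is not a Kronecker product. -/
theorem sgA_not_mem_K0 (C : Ctx a b F) (t : Matrix.GeneralLinearGroup (Fin a × Fin b) F)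
    (u : Fin a → F) (w z : Fin b → F) (c : F) (hu : u ≠ 0) (hc : c ≠ 0) (hw : w ≠ 0)
    (hz : ∀ l : F, z ≠ l • w) (hwz : C.f₂ w z = 0)
    (ht : C.IsSgV t (ten u w) (ten u z) c) : t ∉ K0 a b F :=
  toproper_core C t u w z c hu hc hw hz hwz ht

end Cfsg.Agent.Lib.helper7.TO
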