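import Cfsg.Agent.Lib.helper7.TO.Basic
import Cfsg.Agent.Lib.Helper21.TPC1

/-!
# TO / UNIPA: `unipA_of_noSgA`

`g = 1 + u u* ⊗ η ∈ M ≤ G` forces `f₂ y (η y) = 0`; if `η w ∉ F w` then
`[tvB w 1, g] = S(u ⊗ w, u ⊗ η w; -1)` is a non-trivial Siegel element of `A`-type in `M`.
-/

set_option autoImplicit false

namespace Cfsg.Agent.Lib.helper7.TO

open Matrix Cfsg.Agent.Lib.helper7.TP Cfsg.Agent.Lib.Helper28.SympAbs
open scoped Kronecker

variable {a b : ℕ} {F : Type*} [Field F]

/-- the Siegel map as a linear map. -/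
noncomputable def tounipa_sgvL (C : Ctx a b F) (p v : Fin a × Fin b → F) (c : F) :
    (Fin a × Fin b → F) →ₗ[F] (Fin a × Fin b → F) where
  toFun := C.sgv p v c
  map_add' x y := by
    simp only [Ctx.sgv, C.hf.add_right]
    module
  map_smul' k x := by
    simp only [Ctx.sgv, C.hf.smul_right, RingHom.id_apply]
    module

/-- `IsSgV` can be checked on pure tensors. -/
theorem tounipa_isSgV_of_ten (C : Ctx a b F) (t : Matrix.GeneralLinearGroup (Fin a × Fin b) F)
    (p v : Fin a × Fin b → F) (c : F)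
    (h : ∀ (x : Fin a → F) (y : Fin b → F),
      (t : Matrix (Fin a × Fin b) (Fin a × Fin b) F) *ᵥ ten x y = C.sgv p v c (ten x y)) :
    C.IsSgV t p v c := by
  have : (t : Matrix (Fin a × Fin b) (Fin a × Fin b) F).mulVecLin = tounipa_sgvL C p v c := by
    apply lin_ext_ten
    intro x y
    exact h x y
  intro X
  exact LinearMap.congr_fun this X

/-- the matrix `y ↦ f₂ y z • w - f₂ y w • z`. -/
noncomputable def tounipa_D (C : Ctx a b F) (w z : Fin b → F) : Matrix (Fin b) (Fin b) F :=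
  Matrix.vecMulVec w (C.fl₂ z) - Matrix.vecMulVec z (C.fl₂ w)

theorem tounipa_D_mulVec (C : Ctx a b F) (w z y : Fin b → F) :
    tounipa_D C w z *ᵥ y = C.f₂ y z • w - C.f₂ y w • z := by
  rw [tounipa_D, Matrix.sub_mulVec, Matrix.vecMulVec_mulVec, Matrix.vecMulVec_mulVec, C.fl₂_dot,
    C.fl₂_dot]
  funext i
  simp only [Pi.sub_apply, Pi.smul_apply, smul_eq_mul, MulOpposite.smul_eq_mul_unop,
    MulOpposite.unop_op]
  ring

/-- UNIPA. -/
theorem unipA_of_noSgA (C : Ctx a b F)
    (M : Subgroup (Matrix.GeneralLinearGroup (Fin a × Fin b) F)) (hT : C.T1 ≤ M) (hG : M ≤ C.G)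
    (hno : ¬ C.SgA M) : C.UnipA M := by
  intro g hg u η hu hgη
  have hact : ∀ (x : Fin a → F) (y : Fin b → F),
      (g : Matrix (Fin a × Fin b) (Fin a × Fin b) F) *ᵥ ten x y =
        ten x y + C.f₁ x u • ten u (η *ᵥ y) := by
    intro x y
    rw [hgη, ERm_mulVec, C.ctrA_fl₁_ten, Matrix.mulVec_smul, ten_smul_right]
  obtain ⟨x₀, hx₀⟩ := (C.hf₁.nondegenerate u hu).1
  have hq : ∀ y : Fin b → F, C.f₂ y (η *ᵥ y) = 0 := by
    intro y
    have h1 := (C.mem_G g).mp (hG hg) (ten x₀ y)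
    rw [hact, C.q_add, C.q_ten, C.q_smul, C.q_ten, C.hf.smul_right, C.f_ten] at h1
    have h2 : C.f₁ x₀ u * (C.f₁ x₀ u * C.f₂ y (η *ᵥ y)) = 0 := by
      linear_combination h1
    rcases mul_eq_zero.mp h2 with h3 | h3
    · exact absurd h3 hx₀
    · rcases mul_eq_zero.mp h3 with h4 | h4
      · exact absurd h4 hx₀
      · exact h4
  -- `η` is self-adjoint
  have hsa : ∀ y y' : Fin b → F, C.f₂ (η *ᵥ y) y' = C.f₂ y (η *ᵥ y') := by
    intro y y'
    have h1 := hq (y + y')
    rw [Matrix.mulVec_add, C.hf₂.bilinear.add_left, C.hf₂.bilinear.add_right,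
      C.hf₂.bilinear.add_right, hq y, hq y'] at h1
    rw [C.hf₂.skew (η *ᵥ y) y']
    linear_combination -h1
  -- every vector is an eigenvector
  have heig : ∀ w : Fin b → F, ∃ l : F, η *ᵥ w = l • w := by
    intro w
    by_contra hcon
    push Not at hcon
    apply hno
    have hw : w ≠ 0 := by
      rintro rfl
      exact hcon 0 (by simp)
    set z := η *ᵥ w with hzdef
    have hwz : C.f₂ w z = 0 := hq w
    have hzw : C.f₂ z w = 0 := by rw [C.hf₂.skew, hwz, neg_zero]
    set t : Matrix.GeneralLinearGroup (Fin a × Fin b) F :=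
      ER (tounipa_D C w z) u (C.fl₁ u) (C.fl₁_self u) with htdef
    have htact : ∀ (x : Fin a → F) (y : Fin b → F),
        (t : Matrix (Fin a × Fin b) (Fin a × Fin b) F) *ᵥ ten x y =
          ten x y + C.f₁ x u • ten u (C.f₂ y z • w - C.f₂ y w • z) := by
      intro x y
      rw [htdef, ER_coe, ERm_mulVec, C.ctrA_fl₁_ten, Matrix.mulVec_smul, ten_smul_right,
        tounipa_D_mulVec]
    have hτ : C.tvB w 1 ∈ M := hT (C.tvB_mem_T1 w 1)
    have hrel : t * (g * C.tvB w 1) = C.tvB w 1 * g := by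
      apply Units.ext
      apply mat_ext_ten
      intro x y
      simp only [Units.val_mul, ← Matrix.mulVec_mulVec]
      simp only [C.tvB_mulVec_ten, hact, htact, Matrix.mulVec_add, Matrix.mulVec_smul,
        C.hf₁.alternating, ten_sub_right, ten_smul_right, C.hf₂.alternating, hwz, hsa, ← hzdef]
      module
    have htM : t ∈ M := by
      have : t = C.tvB w 1 * g * (g * C.tvB w 1)⁻¹ := by
        rw [← hrel, mul_inv_cancel_right]
      rw [this]
      exact M.mul_mem (M.mul_mem hτ hg) (M.inv_mem (M.mul_mem hg hτ))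
    refine ⟨t, u, w, z, -1, htM, hu, by simp, hw, hcon, hwz, ?_⟩
    apply tounipa_isSgV_of_ten
    intro x y
    rw [htact, Ctx.sgv, C.f_ten, C.f_ten, C.hf₁.skew u x, C.hf₂.skew w y, C.hf₂.skew z y,
      ten_sub_right, ten_smul_right, ten_smul_right]
    module
  rcases Nat.eq_zero_or_pos b with hb | hb
  · subst hb
    exact ⟨0, by ext i; exact i.elim0⟩
  · exact tpc1_scalar_of_all_eigen hb η heig

end Cfsg.Agent.Lib.helper7.TO
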