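import Mathlib
import Cfsg.Agent.Lib.Helper22.TD.Kron

/-!
# Project TSD (S5980), piece KRONONE: `rank (γ ⊗ 1_b - l) = b * rank (γ - l)` (mirror of
`Helper22.TD.td_rank_one_kron` + `td_one_kron_sub`).
-/

set_option autoImplicit false

namespace Cfsg.Agent.Lib.helper4.TSD

open Matrix
open scoped Kronecker

variable {F : Type*} [Field F]

/-- `γ ⊗ 1` is `1 ⊗ γ` up to the swap of the index pairs -/
theorem tsdkronone_reindex {a b : ℕ} (γ : Matrix (Fin a) (Fin a) F) :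
    Matrix.reindex (Equiv.prodComm (Fin a) (Fin b)) (Equiv.prodComm (Fin a) (Fin b))
        (γ ⊗ₖ (1 : Matrix (Fin b) (Fin b) F)) =
      (1 : Matrix (Fin b) (Fin b) F) ⊗ₖ γ := by
  ext ⟨j, i⟩ ⟨j', i'⟩
  simp [Matrix.kroneckerMap_apply, mul_comm]

/-- `rank (γ ⊗ 1_b) = b * rank γ` -/
theorem tsdkronone_rank {a b : ℕ} (γ : Matrix (Fin a) (Fin a) F) :
    (γ ⊗ₖ (1 : Matrix (Fin b) (Fin b) F)).rank = b * γ.rank := by
  rw [← Cfsg.Agent.Lib.Helper22.TD.td_rank_one_kron (a := b) (b := a) γ, ← tsdkronone_reindex γ,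
    Matrix.rank_reindex]

/-- `γ ⊗ 1 - l = (γ - l) ⊗ 1` -/
theorem tsdkronone_sub {a b : ℕ} (γ : Matrix (Fin a) (Fin a) F) (l : F) :
    γ ⊗ₖ (1 : Matrix (Fin b) (Fin b) F) - l • (1 : Matrix (Fin a × Fin b) (Fin a × Fin b) F) =
      (γ - l • (1 : Matrix (Fin a) (Fin a) F)) ⊗ₖ (1 : Matrix (Fin b) (Fin b) F) := by
  have h1 : (1 : Matrix (Fin a × Fin b) (Fin a × Fin b) F) =
      (1 : Matrix (Fin a) (Fin a) F) ⊗ₖ (1 : Matrix (Fin b) (Fin b) F) :=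
    (Matrix.one_kronecker_one).symm
  rw [sub_eq_iff_eq_add, h1, ← Matrix.smul_kronecker, ← Matrix.add_kronecker, sub_add_cancel]

/-- KRONONE [S-M]. The mirror of `Helper22.TD.td_rank_one_kron` + `td_one_kron_sub`. -/
theorem tsd_rank_kron_one {a b : ℕ} (γ : Matrix (Fin a) (Fin a) F) (l : F) :
    (γ ⊗ₖ (1 : Matrix (Fin b) (Fin b) F) - l • (1 : Matrix (Fin a × Fin b) (Fin a × Fin b) F)).rank =
      b * (γ - l • (1 : Matrix (Fin a) (Fin a) F)).rank := by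
  rw [tsdkronone_sub, tsdkronone_rank]

end Cfsg.Agent.Lib.helper4.TSD
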