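import Mathlib

/-!
# Project TSD (S5980), piece SIM: a Kronecker product preserving `J1 ⊗ J2` has factors that are similitudes with
inverse multipliers.  (Mathlib only.)
-/

set_option autoImplicit false

namespace Cfsg.Agent.Lib.helper4.TSD

open Matrix
open scoped Kronecker

variable {F : Type*} [Field F]

/-- `A ⊗ B = J1 ⊗ J2` with `J1, J2 ≠ 0` forces `A = μ J1`, `B = μ⁻¹ J2`. -/
theorem tsdsim_kron_eq {a b : ℕ} (J1 A : Matrix (Fin a) (Fin a) F) (J2 B : Matrix (Fin b) (Fin b) F)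
    (h1 : J1 ≠ 0) (h2 : J2 ≠ 0) (h : A ⊗ₖ B = J1 ⊗ₖ J2) :
    ∃ μ : F, μ ≠ 0 ∧ A = μ • J1 ∧ B = μ⁻¹ • J2 := by
  have hent : ∀ i j k l, A i j * B k l = J1 i j * J2 k l := by
    intro i j k l
    have := congrFun (congrFun h (i, k)) (j, l)
    simpa [Matrix.kroneckerMap_apply] using this
  obtain ⟨i₀, j₀, hJ1⟩ : ∃ i j, J1 i j ≠ 0 := by
    by_contra hcon
    push Not at hcon
    exact h1 (by ext i j; simpa using hcon i j)
  obtain ⟨k₀, l₀, hJ2⟩ : ∃ k l, J2 k l ≠ 0 := by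
    by_contra hcon
    push Not at hcon
    exact h2 (by ext k l; simpa using hcon k l)
  have h0 := hent i₀ j₀ k₀ l₀
  have hne : A i₀ j₀ * B k₀ l₀ ≠ 0 := by
    rw [h0]
    exact mul_ne_zero hJ1 hJ2
  have hA0 : A i₀ j₀ ≠ 0 := left_ne_zero_of_mul hne
  have hB0 : B k₀ l₀ ≠ 0 := right_ne_zero_of_mul hne
  refine ⟨A i₀ j₀ / J1 i₀ j₀, div_ne_zero hA0 hJ1, ?_, ?_⟩
  · ext i j
    rw [Matrix.smul_apply, smul_eq_mul]
    have e1 := hent i j k₀ l₀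
    have key : (A i j * J1 i₀ j₀) * B k₀ l₀ = (A i₀ j₀ * J1 i j) * B k₀ l₀ := by
      linear_combination (J1 i₀ j₀) * e1 - (J1 i j) * h0
    have key2 := mul_right_cancel₀ hB0 key
    rw [div_mul_eq_mul_div, eq_div_iff hJ1]
    exact key2
  · ext k l
    rw [Matrix.smul_apply, smul_eq_mul]
    have e1 := hent i₀ j₀ k l
    field_simp
    linear_combination e1

/-- SIM [S-M]. A Kronecker product preserving `J1 ⊗ J2` has factors that are similitudes with inverse multipliers. -/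
theorem tsd_sim {a b : ℕ} (J1 : Matrix (Fin a) (Fin a) F) (J2 : Matrix (Fin b) (Fin b) F) (h1 : J1 ≠ 0) (h2 : J2 ≠ 0)
    (α : Matrix (Fin a) (Fin a) F) (β : Matrix (Fin b) (Fin b) F)
    (h : (α ⊗ₖ β)ᵀ * (J1 ⊗ₖ J2) * (α ⊗ₖ β) = J1 ⊗ₖ J2) :
    ∃ μ : F, μ ≠ 0 ∧ αᵀ * J1 * α = μ • J1 ∧ βᵀ * J2 * β = μ⁻¹ • J2 := by
  have hT : (α ⊗ₖ β)ᵀ = αᵀ ⊗ₖ βᵀ := Matrix.kroneckerMap_transpose _ α β
  rw [hT, ← Matrix.mul_kronecker_mul, ← Matrix.mul_kronecker_mul] at h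
  exact tsdsim_kron_eq J1 (αᵀ * J1 * α) J2 (βᵀ * J2 * β) h1 h2 h

end Cfsg.Agent.Lib.helper4.TSD
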