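import Mathlib
import Cfsg.Agent.Lib.Helper16.PG20

/-!
# Project TSD (S5980), piece SKEW (second copy by helper11, seat-prefixed name): a skew-symmetric matrix
(`2 ≠ 0`) has even rank.
-/

set_option autoImplicit false
set_option linter.unusedVariables false

namespace Cfsg.Agent.Lib.helper4.TSD

open Matrix Module

variable {F : Type*} [Field F]

/-- SKEW (second copy): exact statement of `tsd_skew_rank_even`. -/
theorem tsdskew_h11_rank_even (h2 : (2 : F) ≠ 0) {n : ℕ} (M : Matrix (Fin n) (Fin n) F) (hM : Mᵀ = -M) :
    Even M.rank := by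
  classical
  let B : LinearMap.BilinForm F (Fin n → F) := Matrix.toBilin' M
  have hB : ∀ v w, B v w = v ⬝ᵥ (M *ᵥ w) := fun v w => Matrix.toBilin'_apply' M v w
  have hskew : ∀ v w, B v w = - B w v := by
    intro v w
    rw [hB, hB, Matrix.dotProduct_mulVec, ← Matrix.mulVec_transpose, hM, Matrix.neg_mulVec,
      neg_dotProduct, dotProduct_comm]
  have halt : B.IsAlt := by
    intro v
    have h := hskew v v
    have h' : (2 : F) * B v v = 0 := by linear_combination h
    rcases mul_eq_zero.mp h' with h0 | h0
    · exact absurd h0 h2
    · exact h0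
  set K : Submodule F (Fin n → F) := LinearMap.ker M.mulVecLin with hK
  obtain ⟨U, hU⟩ := Submodule.exists_isCompl K
  have hrank : M.rank = finrank F U := by
    have e1 : finrank F (LinearMap.range M.mulVecLin) + finrank F K = finrank F (Fin n → F) :=
      LinearMap.finrank_range_add_finrank_ker M.mulVecLin
    have e2 : finrank F K + finrank F U = finrank F (Fin n → F) :=
      Submodule.finrank_add_eq_of_isCompl hU
    have e3 : M.rank = finrank F (LinearMap.range M.mulVecLin) := rfl
    rw [e3]
    omega
  -- the restriction to `U` is non-degenerate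
  have hleft : ∀ u : U, (∀ u' : U, B (u : Fin n → F) (u' : Fin n → F) = 0) → u = 0 := by
    intro u hu
    have hall : ∀ v : Fin n → F, B (u : Fin n → F) v = 0 := by
      intro v
      have hv : v ∈ K ⊔ U := by
        rw [hU.sup_eq_top]
        exact Submodule.mem_top
      obtain ⟨k, hk, u', hu', rfl⟩ := Submodule.mem_sup.mp hv
      rw [map_add, hu ⟨u', hu'⟩, add_zero, hB]
      have : M *ᵥ k = 0 := by
        have := LinearMap.mem_ker.mp hk
        simpa using this
      rw [this, dotProduct_zero]
    have hMu : M *ᵥ (u : Fin n → F) = 0 := by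
      funext j
      have := hall (Pi.single j 1)
      rw [hskew, hB] at this
      have h3 : (Pi.single j (1 : F)) ⬝ᵥ (M *ᵥ (u : Fin n → F)) = (M *ᵥ (u : Fin n → F)) j := by
        simp
      rw [h3] at this
      simpa using this
    have huK : (u : Fin n → F) ∈ K := by
      rw [hK, LinearMap.mem_ker]
      simpa using hMu
    have hbot : (u : Fin n → F) ∈ K ⊓ U := ⟨huK, u.2⟩
    rw [hU.inf_eq_bot, Submodule.mem_bot] at hbot
    exact Subtype.ext hbot
  have hnd : (B.restrict U).Nondegenerate := by
    constructor
    · intro u hu
      exact hleft u (fun u' => hu u')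
    · intro u hu
      apply hleft u
      intro u'
      have := hu u'
      have e : (B.restrict U) u' u = B (u' : Fin n → F) (u : Fin n → F) := rfl
      rw [e] at this
      rw [hskew, this, neg_zero]
  have haltU : (B.restrict U).IsAlt := fun x => halt (x : Fin n → F)
  rw [hrank]
  exact Cfsg.Agent.Lib.Helper16.PG.alt_even_finrank (finrank F U) rfl (B.restrict U) haltU hnd

end Cfsg.Agent.Lib.helper4.TSD
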