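import Mathlib
import Cfsg.Prelude.Def_ChevStructure
import Cfsg.Prelude.Def_LieTwisted
import Cfsg.Agent.Lib.helper6.TWIE6.Defs
import Cfsg.Agent.Lib.helper14.INV.F4Defs
import Cfsg.Agent.Lib.helper8.ChevCent1
import Cfsg.Agent.Lib.helper8.ChevCommAll

/-! Project TWIE6, piece FUSEC (`te6_swap`): `x_66(1) x_68(1) = x_68(1) x_66(1)` in `E₆`
(any characteristic: `66 + 68` is not a root). -/

set_option autoImplicit false
set_option linter.unusedVariables false

namespace Cfsg.Agent.Lib.helper6.TWIE6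

open Cfsg.Lie Cfsg.Lie.ChevalleyDatum Cfsg.Agent.Lib.helper8 Cfsg.Agent.Lib.helper14
  Cfsg.Agent.Lib.helper14.INV

universe u

variable {K : Type u} [Field K]

theorem twie6fusec_terms : chevE6.commTerms 66 68 = [] := by decide +kernel

theorem twie6fusec_neg : (68 : ℕ) ≠ chevE6.negIdx.getD 66 0 := by decide +kernel

theorem twie6fusec_w1_prod (D : ChevalleyDatum) (hB : H8Base.{u} D) (R : List ℕ) :
    (w1 D hB R : GL D.Idx K) = (R.map fun r => h8xU D hB r (1 : K)).prod := by
  unfold w1 h8wordU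
  rw [List.map_map]
  rfl

/-- FUSEC : `x_66(1) x_68(1) = x_68(1) x_66(1)` -/
theorem te6_swap (hB : H8Base.{u} chevE6) :
    (w1 chevE6 hB [66, 68] : GL chevE6.Idx K) = w1 chevE6 hB [68, 66] := by
  have hD : chevE6 ∈ [chevG2, chevB2, chevD4, chevF4, chevE6, chevE7, chevE8] := by simp
  have hC := h8commAll.{u} chevE6 hD
  have hn : chevE6.nroots = 72 := rfl
  have h := h8comm_of_zero (F := K) chevE6 hB hC 66 68 (by rw [hn]; norm_num) (by rw [hn]; norm_num)
    twie6fusec_neg (fun _ c hc => by rw [twie6fusec_terms] at hc; simp at hc) 1 1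
  rw [twie6fusec_w1_prod, twie6fusec_w1_prod]
  simp only [List.map_cons, List.map_nil, List.prod_cons, List.prod_nil, mul_one]
  exact h.symm

end Cfsg.Agent.Lib.helper6.TWIE6
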