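import Mathlib
import Cfsg.Prelude.Def_ChevStructure
import Cfsg.Prelude.Def_LieTwisted
import Cfsg.Agent.Lib.helper6.TWIE6.Defs
import Cfsg.Agent.Lib.helper14.INV.F4Defs
import Cfsg.Agent.Lib.helper8.ChevW0

/-! Project TWIE6, piece FUSEM (`fuse_blocks_mem`): the conjugating element of a list of block
moves lies in a subgroup containing the elements of the blocks. -/

set_option autoImplicit false
set_option linter.unusedVariables false

namespace Cfsg.Agent.Lib.helper6.TWIE6

open Cfsg.Lie Cfsg.Lie.ChevalleyDatum Cfsg.Agent.Lib.helper8 Cfsg.Agent.Lib.helper14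
  Cfsg.Agent.Lib.helper14.INV

universe u

variable {K : Type u} [Field K]

theorem twie6fusem_w1_prod (D : ChevalleyDatum) (hB : H8Base.{u} D) (R : List ℕ) :
    (w1 D hB R : GL D.Idx K) = (R.map fun r => h8xU D hB r (1 : K)).prod := by
  unfold w1 h8wordU
  rw [List.map_map]
  rfl

theorem twie6fusem_moves_cons (b : Bool × List ℕ) (bs : List (Bool × List ℕ)) :
    te6Moves (b :: bs) = (b.2.reverse.map fun s => (b.1, s)) ++ te6Moves bs := by
  unfold te6Moves
  rw [List.flatMap_cons]

/-- FUSEM : the conjugating element of a list of block moves lies in a subgroup containing the elements of the blocks -/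
theorem fuse_blocks_mem (D : ChevalleyDatum) (hB : H8Base.{u} D) (G₁ : Subgroup (GL D.Idx K))
    (bs : List (Bool × List ℕ))
    (hbs : ∀ b ∈ bs, if b.1 then (w1 D hB b.2 : GL D.Idx K) ∈ G₁
      else (h8nWU D hB b.2 : GL D.Idx K) ∈ G₁) :
    (((te6Moves bs).reverse.map fun m => if m.1 then h8xU D hB m.2 (1 : K)
        else h8nU D hB (D.simple m.2) (1 : K)).prod) ∈ G₁ := by
  induction bs with
  | nil =>
    have : te6Moves ([] : List (Bool × List ℕ)) = [] := rfl
    rw [this]
    simp only [List.reverse_nil, List.map_nil, List.prod_nil]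
    exact G₁.one_mem
  | cons b bs ih =>
    have ih' := ih (fun c hc => hbs c (List.mem_cons_of_mem _ hc))
    have hb := hbs b List.mem_cons_self
    rw [twie6fusem_moves_cons, List.reverse_append, List.map_append, List.prod_append]
    refine G₁.mul_mem ih' ?_
    rw [← List.map_reverse, List.reverse_reverse, List.map_map]
    obtain ⟨b1, b2⟩ := b
    cases b1 with
    | true =>
      simp only [if_true] at hb
      rw [twie6fusem_w1_prod] at hb
      simpa [Function.comp_def] using hb
    | false =>
      simp only [Bool.false_eq_true, if_false] at hb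
      unfold h8nWU at hb
      simpa [Function.comp_def] using hb

end Cfsg.Agent.Lib.helper6.TWIE6
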