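import Mathlib
import Cfsg.Agent.Lib.Helper19.U3P.Defs
import Cfsg.Agent.Lib.helper14.SU3J
import Cfsg.Agent.Lib.Helper25.SU3P.Basic
import Cfsg.Agent.Lib.Helper25.SU3P.Center

/-!
# Project U3P (designer helper19, S2289), row X15 `B_S_iff`: core (helper11)

`u3px15_core`: the conclusion of `B_S_iff` from the statements of X13 `gen_U` and X14 `up_decomp` (as hypotheses).
-/

set_option autoImplicit false

namespace Cfsg.Agent.Lib.Helper19.U3P

open Cfsg.Agent.Lib.helper17.SLP Cfsg.Agent.Lib.helper14.SU3J Cfsg.Agent.Lib.Helper25.SU3P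
open Polynomial Matrix

universe u v

section X

variable {F : Type u} [Field F] [Fintype F] {K : Type u} [Field K] [Fintype K] {q : ℕ}

variable {D : Par F K q} {a b c : ↥(Cfsg.SU 3 F q)} {ρ : SL2 K →* ↥(Cfsg.SU 3 F q)}

omit [Fintype F] in
theorem u3px15_isUp_dd (σ : F →+* F) (l : F) : IsUp (dd σ l) := by
  refine ⟨?_, ?_, ?_⟩ <;> simp [dd]

/-- the elements of `closure {a, b}` are upper triangular in the coordinates `D.c`. -/
theorem u3px15_isUp_of_mem (hG : Gens D a b c ρ) (X : ↥(Cfsg.SU 3 F q))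
    (hX : X ∈ Subgroup.closure ({a, b} : Set ↥(Cfsg.SU 3 F q))) : IsUp (D.c.cj X) := by
  classical
  induction hX using Subgroup.closure_induction with
  | mem x hx =>
    simp only [Set.mem_insert_iff, Set.mem_singleton_iff] at hx
    rcases hx with rfl | rfl
    · rw [hG.ha]; exact (CenterAux.isUT_uu D.σ 1 D.β0).1
    · rw [hG.hb]; exact u3px15_isUp_dd D.σ _
  | one => rw [D.c.cj_one]; exact isUp_one
  | mul x y _ _ hx hy => rw [D.c.cj_mul]; exact (isUp_mul hx hy).1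
  | inv x _ hx =>
    have hfin : IsOfFinOrder x := isOfFinOrder_of_finite x
    have hpos : 0 < orderOf x := hfin.orderOf_pos
    have h1 : x⁻¹ = x ^ (orderOf x - 1) := by
      rw [inv_eq_iff_mul_eq_one, ← pow_succ', Nat.sub_add_cancel hpos, pow_orderOf_eq_one]
    rw [h1, D.c.cj_pow]
    exact (isUp_pow hx _).1

/-- X15 core: `closure {a, b}` is the set of the upper triangular elements. -/
theorem u3px15_core (hG : Gens D a b c ρ)
    (hX13 : ∀ X : ↥(Cfsg.SU 3 F q), IsUT (D.c.cj X) →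
      X ∈ Subgroup.closure ({a, b} : Set ↥(Cfsg.SU 3 F q)))
    (hX14 : ∀ X : ↥(Cfsg.SU 3 F q), IsUp (D.c.cj X) →
      ∃ (Y : ↥(Cfsg.SU 3 F q)) (i : ℤ), IsUT (D.c.cj Y) ∧ X = Y * b ^ i)
    (X : ↥(Cfsg.SU 3 F q)) :
    X ∈ Subgroup.closure ({a, b} : Set ↥(Cfsg.SU 3 F q)) ↔ IsUp (D.c.cj X) := by
  constructor
  · exact u3px15_isUp_of_mem hG X
  · intro hX
    obtain ⟨Y, i, hY, rfl⟩ := hX14 X hX
    exact Subgroup.mul_mem _ (hX13 Y hY)
      (Subgroup.zpow_mem _ (Subgroup.subset_closure (by simp)) i)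

end X

end Cfsg.Agent.Lib.Helper19.U3P
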