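import Mathlib
import Cfsg.Agent.Lib.Helper19.U3P.Defs
import Cfsg.Agent.Lib.helper7.U3PF7
import Cfsg.Agent.Lib.helper14.U3PX14
import Cfsg.Agent.Lib.Helper11.U3PX15core
import Cfsg.Agent.Lib.Helper5.U3PX13

/-!
# Project U3P (designer helper19, S2289), row X15 `B_S_iff` (helper11), verbatim

Wrapper of `u3px15_core` on X13 `gen_U`, X14 `up_decomp` (helper14) and F7 `par_basic` (helper7).
-/

set_option autoImplicit false

namespace Cfsg.Agent.Lib.Helper19.U3P

open Cfsg.Agent.Lib.helper17.SLP Cfsg.Agent.Lib.helper14.SU3J Cfsg.Agent.Lib.Helper25.SU3P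
open Polynomial Matrix

universe u v

section X

variable {F : Type u} [Field F] [Fintype F] {K : Type u} [Field K] [Fintype K] {q : ℕ}

variable {D : Par F K q} {a b c : ↥(Cfsg.SU 3 F q)} {ρ : SL2 K →* ↥(Cfsg.SU 3 F q)}

/-- X15 [S-M]  deps X13 X14.  `→`: `closure_induction` (`isUp_mul`, `isUp_one`, inverse of an upper triangular matrix: `X⁻¹ = X^(n-1)` for `n = orderOf X > 0`, `isUp_pow`).  `←`: X14 then X13 and `b^i ∈ H`. -/
theorem B_S_iff (hG : Gens D a b c ρ) (hF : Fintype.card F = q ^ 2) (hK : Fintype.card K = q) (hq : 4 ≤ q)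
    (hγ : D.γ0 ≠ 0) (X : ↥(Cfsg.SU 3 F q)) :
    X ∈ Subgroup.closure ({a, b} : Set ↥(Cfsg.SU 3 F q)) ↔ IsUp (D.c.cj X) := by
  obtain ⟨hσσ, -⟩ := par_basic D hF hK hq
  exact u3px15_core hG (fun X hX => gen_U hG hF hK hq hγ X hX)
    (fun X hX => up_decomp hG hσσ X hX) X

end X

end Cfsg.Agent.Lib.Helper19.U3P
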