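import Mathlib
import Cfsg.Agent.Lib.Helper19.U3P.Defs
import Cfsg.Agent.Lib.helper14.SU3J
import Cfsg.Agent.Lib.Helper25.SU3P.Basic

/-!
# Project U3P (designer helper19, S2289), row X9 `relB8_S`: core (helper11)

`u3px9_core`: the conclusion of `relB8_S` from the statements of X1 `uu_mul`, X3 `cj_b_U`, X4 `rho_x`, X5 `Z_of_alpha_zero`,
X6 `pw_U` (as hypotheses, at `σ := D.σ`, `p := 2`, `l := 1`).
-/

set_option autoImplicit false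

namespace Cfsg.Agent.Lib.Helper19.U3P

open Cfsg.Agent.Lib.helper17.SLP Cfsg.Agent.Lib.helper14.SU3J Cfsg.Agent.Lib.Helper25.SU3P
open Polynomial Matrix

universe u v

section X

variable {F : Type u} [Field F] [Fintype F] {K : Type u} [Field K] [Fintype K] {q : ℕ}

variable {D : Par F K q} {a b c : ↥(Cfsg.SU 3 F q)} {ρ : SL2 K →* ↥(Cfsg.SU 3 F q)}

omit [Fintype F] in
theorem u3px9_uu_zero (σ : F →+* F) : uu σ 0 0 = (1 : Matrix (Fin 3) (Fin 3) F) := by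
  ext i j
  fin_cases i <;> fin_cases j <;> simp [uu]

omit [Fintype F] [Fintype K] in
/-- the inverse of an element with unitriangular coordinates. -/
theorem u3px9_cj_inv
    (hX1 : ∀ α β α' β' : F, uu D.σ α β * uu D.σ α' β' = uu D.σ (α + α') (β + β' - α * D.σ α'))
    (X : ↥(Cfsg.SU 3 F q)) (α β : F) (hX : D.c.cj X = uu D.σ α β) :
    D.c.cj X⁻¹ = uu D.σ (-α) (-β - α * D.σ α) := by
  have h1 : D.c.cj X * D.c.cj X⁻¹ = 1 := D.c.cj_mul_inv X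
  have h2 : D.c.cj X * uu D.σ (-α) (-β - α * D.σ α) = 1 := by
    rw [hX, hX1, ← u3px9_uu_zero D.σ]
    congr 1
    · ring
    · rw [map_neg]; ring
  have h3 : D.c.cj X⁻¹ * D.c.cj X = 1 := D.c.cj_inv_mul X
  calc D.c.cj X⁻¹ = D.c.cj X⁻¹ * (D.c.cj X * uu D.σ (-α) (-β - α * D.σ α)) := by
        rw [h2, Matrix.mul_one]
    _ = uu D.σ (-α) (-β - α * D.σ α) := by rw [← Matrix.mul_assoc, h3, Matrix.one_mul]

omit [Fintype F] [Fintype K] in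
/-- the commutator of two elements with unitriangular coordinates lies over `α = 0`. -/
theorem u3px9_cj_cm
    (hX1 : ∀ α β α' β' : F, uu D.σ α β * uu D.σ α' β' = uu D.σ (α + α') (β + β' - α * D.σ α'))
    (X Y : ↥(Cfsg.SU 3 F q)) (α β α' β' : F) (hX : D.c.cj X = uu D.σ α β)
    (hY : D.c.cj Y = uu D.σ α' β') :
    ∃ δ : F, D.c.cj (cm X Y) = uu D.σ 0 δ := by
  have hXi := u3px9_cj_inv hX1 X α β hX
  have hYi := u3px9_cj_inv hX1 Y α' β' hY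
  refine ⟨β + β' - α * D.σ α' + (-β - α * D.σ α) - (α + α') * D.σ (-α) + (-β' - α' * D.σ α') -
    (α + α' + -α) * D.σ (-α'), ?_⟩
  unfold cm
  rw [D.c.cj_mul, D.c.cj_mul, D.c.cj_mul, hX, hY, hXi, hYi, hX1, hX1, hX1]
  congr 1
  ring

omit [Fintype F] [Fintype K] in
/-- an element over `α = 0` commutes with `a`. -/
theorem u3px9_comm_a (hG : Gens D a b c ρ)
    (hX1 : ∀ α β α' β' : F, uu D.σ α β * uu D.σ α' β' = uu D.σ (α + α') (β + β' - α * D.σ α'))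
    (X : ↥(Cfsg.SU 3 F q)) (β : F) (hX : D.c.cj X = uu D.σ 0 β) : Commute X a := by
  apply D.c.cj_inj
  rw [D.c.cj_mul, D.c.cj_mul, hX, hG.ha, hX1, hX1]
  congr 1
  · ring
  · rw [map_zero]; ring

omit [Fintype F] [Fintype K] in
/-- X9 core. -/
theorem u3px9_core (hG : Gens D a b c ρ) [Algebra (ZMod 2) F]
    (hX1 : ∀ α β α' β' : F, uu D.σ α β * uu D.σ α' β' = uu D.σ (α + α') (β + β' - α * D.σ α'))
    (hX3 : ∀ (X : ↥(Cfsg.SU 3 F q)) (α β : F), D.c.cj X = uu D.σ α β → ∀ i : ℤ,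
      D.c.cj (cj b X i) = uu D.σ (D.al ^ i * α) (D.bl ^ i * β))
    (hX4 : ∀ t : K, D.c.cj (ρ (xM t)) = uu D.σ 0 (D.γ0 * D.ι t))
    (hX5 : ∀ (X : ↥(Cfsg.SU 3 F q)) (β : F), D.c.cj X = uu D.σ 0 β → ∃ t : K, X = ρ (xM t))
    (hX6 : ∀ f : (ZMod 2)[X], ∃ β, D.c.cj (pw 2 b a 1 f) = uu D.σ (aeval (D.al ^ (1 : ℤ)) f) β) :
    ∃ C : ConstsB8 K, RelB8 ρ a b C ∧ C.mα = minpoly (ZMod 2) D.al := by
  have h2 : (2 : F) = 0 := by
    have h := map_ofNat (algebraMap (ZMod 2) F) 2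
    have h0 : (OfNat.ofNat 2 : ZMod 2) = 0 := by decide
    rw [h0, map_zero] at h
    exact h.symm
  -- `b4`
  have hb4 : ∃ t : K, a ^ 2 = ρ (xM t) := by
    apply hX5 (a ^ 2) (D.β0 + D.β0 - 1 * D.σ 1)
    rw [pow_two, D.c.cj_mul, hG.ha, hX1]
    congr 1
    rw [one_add_one_eq_two, h2]
  -- the commutators
  have hk : ∀ j : ℤ, ∃ t : K, cm a (cj b a j) = ρ (xM t) := by
    intro j
    obtain ⟨δ, hδ⟩ := u3px9_cj_cm hX1 a (cj b a j) 1 D.β0 _ _ hG.ha (hX3 a 1 D.β0 hG.ha j)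
    exact hX5 _ δ hδ
  -- `b8`
  have hb8 : ∃ t : K, pw 2 b a 1 (minpoly (ZMod 2) D.al) = ρ (xM t) := by
    obtain ⟨β, hβ⟩ := hX6 (minpoly (ZMod 2) D.al)
    rw [zpow_one, minpoly.aeval] at hβ
    exact hX5 _ β hβ
  obtain ⟨t4, ht4⟩ := hb4
  obtain ⟨s1, hs1⟩ := hk 1
  obtain ⟨s2, hs2⟩ := hk 2
  obtain ⟨s3, hs3⟩ := hk 3
  obtain ⟨s4, hs4⟩ := hk 4
  obtain ⟨s5, hs5⟩ := hk 5
  obtain ⟨t8, ht8⟩ := hb8
  have hc : ∀ i : ℤ, Commute (cj b (ρ (xM 1)) i) a := by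
    intro i
    have h := hX3 (ρ (xM 1)) 0 _ (hX4 1) i
    rw [mul_zero] at h
    exact u3px9_comm_a hG hX1 _ _ h
  refine ⟨⟨minpoly (ZMod 2) D.al, t4, s1, s2, s3, s4, s5, t8⟩, ⟨ht4, ?_, hc 1, hc 2, hs1, hs2, hs3, hs4, hs5, ht8⟩, rfl⟩
  exact u3px9_comm_a hG hX1 _ _ (hX4 1)

end X

end Cfsg.Agent.Lib.Helper19.U3P
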