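import Mathlib
import Cfsg.Agent.Lib.Helper19.U3P.Defs
import Cfsg.Agent.Lib.Helper19.U3PX1
import Cfsg.Agent.Lib.helper7.U3PF7
import Cfsg.Agent.Lib.helper7.U3PF8
import Cfsg.Agent.Lib.Helper11.U3PX9core

/-!
# Project U3P (designer helper19, S2289), row X9 `relB8_S` (helper11), verbatim

Wrapper of `u3px9_core` on helper19's landed X1 X3 X4 X5 X6 and helper7's landed F7 `par_basic`, F8 `nu_ne` (they give
`σ ∘ σ = id`, `σ γ₀ = -γ₀`, `γ₀ ≠ 0` at `q = 8`).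
-/

set_option autoImplicit false

namespace Cfsg.Agent.Lib.Helper19.U3P

open Cfsg.Agent.Lib.helper17.SLP Cfsg.Agent.Lib.helper14.SU3J Cfsg.Agent.Lib.Helper25.SU3P
open Polynomial Matrix

universe u v

section X

variable {F : Type u} [Field F] [Fintype F] {K : Type u} [Field K] [Fintype K] {q : ℕ}

variable {D : Par F K q} {a b c : ↥(Cfsg.SU 3 F q)} {ρ : SL2 K →* ↥(Cfsg.SU 3 F q)}

/-- X9 [M]  deps X1 X3 X4 X5 X6.  `q = 8`, `p = 2`.  `b4 b8` as in X8 (`mα := minpoly (ZMod 2) al`, X6 with `l = 1`).  `c0 c1 c2`: `cj b (ρ (xM 1)) i = uu σ 0 _` commutes with `a`.  `k_j`: `cm a (cj b a j)` is `uu σ 0 _` (X1), X5. -/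
theorem relB8_S (hG : Gens D a b c ρ) (hF : Fintype.card F = q ^ 2) (hK : Fintype.card K = q) (hq : q = 8)
    [Algebra (ZMod 2) F] :
    ∃ C : ConstsB8 K, RelB8 ρ a b C ∧ C.mα = minpoly (ZMod 2) D.al := by
  have hq4 : 4 ≤ q := by omega
  have hq5 : q ≠ 5 := by omega
  obtain ⟨hσσ, -, -, -, hγσ, -, -, -⟩ := par_basic D hF hK hq4
  obtain ⟨-, -, hγ⟩ := nu_ne D hF hK hq4 hq5
  exact u3px9_core hG (fun α β α' β' => uu_mul D.σ α β α' β')
    (fun X α β hX i => cj_b_U hG hσσ X α β hX i) (fun t => rho_x hG t)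
    (fun X β hX => Z_of_alpha_zero hG hγ hγσ X β hX) (fun f => pw_U hG hσσ 2 1 f)

end X

end Cfsg.Agent.Lib.Helper19.U3P
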