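import Cfsg.Agent.Lib.helper15.UD.Defs
import Cfsg.Agent.Lib.Helper29.ExtrL.Basic
import Cfsg.Agent.Lib.Helper28.Ld.Trans

/-!
# UD piece FRAME (helper11): transport of an orthogonal frame to the standard one

`frame_transport` verbatim from the UD skeleton; extras prefixed `frame_`.
-/

set_option autoImplicit false
set_option linter.unusedVariables false
set_option linter.unusedSectionVars false

namespace Cfsg.Agent.Lib.helper15.UD

open Matrix Cfsg.Agent.Lib.Helper28 Cfsg.Agent.Lib.Helper29.ExtrL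

variable {n q : ℕ} {F : Type*} [Field F] [Fintype F] {σ : F ≃+* F}

/-- the Gram matrix of the standard basis for `hermForm` -/
theorem frame_std_gram (hq : q ≠ 0) (i j : Fin n) :
    Cfsg.hermForm n F q (Pi.single i 1) (Pi.single j 1) = if i = j then 1 else 0 := by
  unfold Cfsg.hermForm
  rw [Finset.sum_eq_single i]
  · rw [Pi.single_eq_same, one_mul]
    by_cases hij : i = j
    · subst hij
      rw [Pi.single_eq_same, one_pow, if_pos rfl]
    · rw [Pi.single_eq_of_ne hij, zero_pow hq, if_neg hij]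
  · intro k _ hk
    rw [Pi.single_eq_of_ne hk, zero_mul]
  · intro h
    exact absurd (Finset.mem_univ i) h

/-- an orthonormal family is linearly independent -/
theorem frame_li {f : (Fin n → F) → (Fin n → F) → F} (hf : Cfsg.Geo.IsUnitaryForm σ f) {m : ℕ}
    (d : Fin m → (Fin n → F)) (hgram : ∀ i j, f (d i) (d j) = if i = j then 1 else 0) :
    LinearIndependent F d := by
  classical
  rw [Fintype.linearIndependent_iff]
  intro c hc i
  have h := congrArg (fun y => f y (d i)) hc
  simp only [UForm.f_sum_left hf, hf.smul_left, hgram, UForm.f_zero_left hf] at h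
  simpa using h

/-- a one-dimensional non-degenerate subspace is spanned by a vector of norm one -/
theorem frame_unit {f : (Fin n → F) → (Fin n → F) → F} (hf : Cfsg.Geo.IsUnitaryForm σ f)
    (W : Submodule F (Fin n → F)) (hW : Cfsg.Geo.IsNondegenerateOn f W) (h1 : Module.finrank F W = 1) :
    ∃ d ∈ W, f d d = 1 ∧ ∀ y ∈ W, ∃ c : F, y = c • d := by
  obtain ⟨v, hv0, hv⟩ := finrank_eq_one_iff'.mp h1
  have hvW : (v : Fin n → F) ∈ W := v.2
  have hv0' : (v : Fin n → F) ≠ 0 := fun h => hv0 (Subtype.ext h)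
  have hspan : ∀ y ∈ W, ∃ c : F, y = c • (v : Fin n → F) := by
    intro y hy
    obtain ⟨c, hc⟩ := hv ⟨y, hy⟩
    exact ⟨c, by rw [← Submodule.coe_smul, hc]⟩
  obtain ⟨⟨x, hxW, hx⟩, _⟩ := hW v hvW hv0'
  obtain ⟨c, rfl⟩ := hspan x hxW
  rw [hf.smul_left] at hx
  have hν : f (v : Fin n → F) v ≠ 0 := fun h => hx (by rw [h, mul_zero])
  have hνf : σ (f (v : Fin n → F) v)⁻¹ = (f (v : Fin n → F) v)⁻¹ := by
    rw [map_inv₀, UForm.f_self_fixed hf]
  obtain ⟨a, ha⟩ := UForm.norm_surj hf _ hνf
  have ha0 : a ≠ 0 := by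
    rintro rfl
    rw [zero_mul] at ha
    exact inv_ne_zero hν ha.symm
  refine ⟨a • (v : Fin n → F), W.smul_mem a hvW, ?_, ?_⟩
  · rw [hf.smul_left, UForm.f_smul_right hf, ← mul_assoc, ha, inv_mul_cancel₀ hν]
  · intro y hy
    obtain ⟨c', rfl⟩ := hspan y hy
    exact ⟨c' / a, by rw [smul_smul, div_mul_cancel₀ _ ha0]⟩

section main
variable {t k : ℕ}

theorem frame_transport (hc : Ctx n q F σ) (D : Fin t → Submodule F (Fin n → F))
    (hD : Cfsg.Geo.IsNondegenerateMDecomposition (Cfsg.hermForm n F q) 1 D) :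
    ∃ P : Matrix.GeneralLinearGroup (Fin n) F, P ∈ Cfsg.GU n F q ∧
      ∀ g : Matrix.GeneralLinearGroup (Fin n) F, g ∈ Cfsg.Geo.decompositionStabilizer D ↔
        IsMono ((P⁻¹ * g * P : Matrix.GeneralLinearGroup (Fin n) F) : Matrix (Fin n) (Fin n) F) := by
  classical
  have hf := hc.form
  have htn : t = n := by
    have := Ld.card_eq D hD.decomp
    omega
  subst htn
  have hq : q ≠ 0 := by
    have := UHerm.two_le_q hc.card
    omega
  -- the frame
  have hfr : ∀ l, ∃ d ∈ D l, Cfsg.hermForm t F q d d = 1 ∧ ∀ y ∈ D l, ∃ c : F, y = c • d :=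
    fun l => frame_unit hf (D l) (hD.nondegenerate l) (hD.decomp.finrank_eq l)
  choose d hdD hdd hdspan using hfr
  have hgram : ∀ i j, Cfsg.hermForm t F q (d i) (d j) = if i = j then 1 else 0 := by
    intro i j
    by_cases hij : i = j
    · subst hij
      rw [if_pos rfl, hdd]
    · rw [if_neg hij]
      exact hD.orthogonal i j hij (d i) (hdD i) (d j) (hdD j)
  have hLId : LinearIndependent F d := frame_li hf d hgram
  have hLIe : LinearIndependent F (fun j : Fin t => (Pi.single j 1 : Fin t → F)) := by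
    have := (Pi.basisFun F (Fin t)).linearIndependent
    convert this using 1
    funext j
    rw [Pi.basisFun_apply]
  obtain ⟨P, hPU, hPe⟩ := helper6.HF.witt_tuple_gram hc.card
    (fun j : Fin t => (Pi.single j 1 : Fin t → F)) d hLIe hLId
    (fun i j => by rw [frame_std_gram hq, hgram])
  have hPinv : ∀ j, ((P⁻¹ : Matrix.GeneralLinearGroup (Fin t) F) : Matrix (Fin t) (Fin t) F) *ᵥ d j
      = Pi.single j 1 := by
    intro j
    rw [← hPe j, DecGen.gl_cancel]
  refine ⟨P, hPU, fun g => ?_⟩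
  -- the columns of `P⁻¹ g P`
  have hcol : ∀ a : Fin t,
      ((P⁻¹ * g * P : Matrix.GeneralLinearGroup (Fin t) F) : Matrix (Fin t) (Fin t) F) *ᵥ Pi.single a 1
        = ((P⁻¹ : Matrix.GeneralLinearGroup (Fin t) F) : Matrix (Fin t) (Fin t) F) *ᵥ
            ((g : Matrix (Fin t) (Fin t) F) *ᵥ d a) := by
    intro a
    rw [Cfsg.Agent.S5643.mul_mv, Cfsg.Agent.S5643.mul_mv, hPe]
  have hentry : ∀ (h : Matrix (Fin t) (Fin t) F) (i a : Fin t), (h *ᵥ Pi.single a 1) i = h i a := by
    intro h i a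
    rw [Matrix.mulVec_single_one]
    rfl
  constructor
  · rintro ⟨π, hπ⟩ a
    refine ⟨π a, fun i hi => ?_⟩
    have hmem : (g : Matrix (Fin t) (Fin t) F) *ᵥ d a ∈ D (π a) := by
      rw [← hπ a]
      exact ⟨d a, hdD a, by rw [Matrix.toLin'_apply]⟩
    obtain ⟨c, hc'⟩ := hdspan (π a) _ hmem
    rw [← hentry ((P⁻¹ * g * P : Matrix.GeneralLinearGroup (Fin t) F) : Matrix (Fin t) (Fin t) F) i a, hcol, hc',
      Matrix.mulVec_smul, hPinv, Pi.smul_apply, Pi.single_eq_of_ne hi, smul_zero]
  · intro hmono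
    set h : Matrix.GeneralLinearGroup (Fin t) F := P⁻¹ * g * P with hh
    choose κ hκ using hmono
    have hinj : Function.Injective κ := by
      intro a b hab
      exact gl_colAt_inj h (hκ a) (hab ▸ hκ b)
    have hbij : Function.Bijective κ := Finite.injective_iff_bijective.mp hinj
    have hga : ∀ a, (g : Matrix (Fin t) (Fin t) F) *ᵥ d a = ((h : Matrix (Fin t) (Fin t) F) (κ a) a) • d (κ a) := by
      intro a
      have h1 : (h : Matrix (Fin t) (Fin t) F) *ᵥ Pi.single a 1
          = ((h : Matrix (Fin t) (Fin t) F) (κ a) a) • Pi.single (κ a) 1 := by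
        funext i
        rw [hentry, Pi.smul_apply]
        by_cases hi : i = κ a
        · rw [hi, Pi.single_eq_same, smul_eq_mul, mul_one]
        · rw [Pi.single_eq_of_ne hi, smul_zero]
          exact hκ a i hi
      have h2 := hcol a
      rw [h1] at h2
      have h3 := congrArg (fun y => (P : Matrix (Fin t) (Fin t) F) *ᵥ y) h2
      simp only [DecGen.gl_cancel', Matrix.mulVec_smul, hPe] at h3
      exact h3.symm
    refine DecGen.stab_of_maps D hD.decomp.finrank_eq g (Equiv.ofBijective κ hbij) (fun i x hx => ?_)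
    obtain ⟨c, rfl⟩ := hdspan i x hx
    rw [Matrix.mulVec_smul, hga, Equiv.ofBijective_apply]
    exact (D (κ i)).smul_mem _ ((D (κ i)).smul_mem _ (hdD (κ i)))

end main

end Cfsg.Agent.Lib.helper15.UD
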