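import Cfsg.Agent.Lib.helper15.UD.Defs

/-!
# UD piece UNION (helper11): induction on the support, every isotropic vector lies in `ZZ`

`union_step` verbatim from the UD skeleton; extras prefixed `union_`.
-/

set_option autoImplicit false
set_option linter.unusedVariables false
set_option linter.unusedSectionVars false

namespace Cfsg.Agent.Lib.helper15.UD

open Matrix Cfsg.Agent.Lib.Helper28 Cfsg.Agent.Lib.Helper29.ExtrL

variable {n q : ℕ} {F : Type*} [Field F] [Fintype F] {σ : F ≃+* F}

/-- the zero vector lies in `XS` -/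
theorem union_zero_mem {f : (Fin n → F) → (Fin n → F) → F} (hf : Cfsg.Geo.IsUnitaryForm σ f)
    (M : Subgroup (Matrix.GeneralLinearGroup (Fin n) F)) : (0 : Fin n → F) ∈ UMax.XS f σ M := by
  refine ⟨UForm.f_zero_left hf 0, fun c hc t ht => ?_⟩
  have : t = 1 := by
    apply Units.ext
    apply Matrix.toLin'.injective
    apply LinearMap.ext
    intro x
    rw [Matrix.toLin'_apply, ht, smul_zero, add_zero]
    simp
  rw [this]
  exact M.one_mem

/-- the hyperbolic-closure step of UNION, for a general unitary form: `w` isotropic, `y₁ ∈ XS` with `f w y₁ = -ζ`, `ζ ≠ 0` skew,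
`w - y₁ ∈ XS` ⟹ `w ∈ XS`. -/
theorem union_close {f : (Fin n → F) → (Fin n → F) → F} (hf : Cfsg.Geo.IsUnitaryForm σ f)
    (M : Subgroup (Matrix.GeneralLinearGroup (Fin n) F)) {w y₁ : Fin n → F} {ζ : F} (hζ0 : ζ ≠ 0) (hζ : σ ζ = -ζ)
    (hy₁ : y₁ ∈ UMax.XS f σ M) (hy₂ : w - y₁ ∈ UMax.XS f σ M) (hwy : f w y₁ = -ζ) : w ∈ UMax.XS f σ M := by
  have hζi : σ ζ⁻¹ = -ζ⁻¹ := by rw [map_inv₀, hζ, inv_neg]
  have h := UMax.XS_tv hf M hy₂ hy₁ hζi
  have h1 : f (w - y₁) (ζ⁻¹ • y₁) = 1 := by
    rw [UForm.f_smul_right hf, UForm.f_sub_left hf, hwy, hy₁.1, hζi, sub_zero, neg_mul_neg, inv_mul_cancel₀ hζ0]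
  rw [h1, one_smul, sub_add_cancel] at h
  exact h

section main
variable {t k : ℕ}

theorem union_step (hc : Ctx n q F σ) (D : Fin t → Submodule F (Fin n → F))
    (hD : Cfsg.Geo.IsNondegenerateMDecomposition (Cfsg.hermForm n F q) k D)
    (M : Subgroup (Matrix.GeneralLinearGroup (Fin n) F))
    (hreal : ∀ i, ∀ c ∈ D i, c ≠ 0 → ∀ s ν : F, σ ν = ν → (k = 2 → s ≠ 0) →
      ∃ x ∈ D i, Cfsg.hermForm n F q x c = s ∧ Cfsg.hermForm n F q x x = ν)
    (hzeta : ∀ ν : F, σ ν = ν → ∃ ζ : F, ζ ≠ 0 ∧ σ ζ = -ζ ∧ (k = 2 → ζ - ν ≠ 0))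
    (hblock : ∀ i, ∀ v ∈ D i, Cfsg.hermForm n F q v v = 0 → v ∈ ZZ q σ M)
    (hall : ∀ a b, a ≠ b → PairGood q σ D M a b) (S : Finset (Fin t)) :
    ∀ c : Fin t → (Fin n → F), (∀ l, c l ∈ D l) → (∀ l, l ∉ S → c l = 0) →
      Cfsg.hermForm n F q (∑ l, c l) (∑ l, c l) = 0 → ∑ l, c l ∈ ZZ q σ M := by
  classical
  have hf := hc.form
  induction S using Finset.induction_on with
  | empty =>
    intro c hcD hsupp hiso
    have : ∑ l, c l = 0 := Finset.sum_eq_zero (fun l _ => hsupp l (Finset.notMem_empty l))
    rw [this]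
    exact union_zero_mem hf M
  | insert i S' hi ih =>
    intro c hcD hsupp hiso
    by_cases hci : c i = 0
    · -- smaller support
      apply ih c hcD _ hiso
      intro l hl
      by_cases hli : l = i
      · rw [hli]; exact hci
      · apply hsupp
        rw [Finset.mem_insert]
        push Not
        exact ⟨hli, hl⟩
    by_cases hex : ∃ j ∈ S', c j ≠ 0
    · obtain ⟨j, hjS, hcj⟩ := hex
      have hij : i ≠ j := fun h => hi (h ▸ hjS)
      set w := ∑ l, c l with hw
      set ν := Cfsg.hermForm n F q (c i) (c i) with hν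
      have hνf : σ ν = ν := UForm.f_self_fixed hf (c i)
      obtain ⟨ζ, hζ0, hζ, hζk⟩ := hzeta ν hνf
      obtain ⟨x, hxD, hxc, hxx⟩ := hreal j (c j) (hcD j) hcj (ζ - ν) (-ν) (by rw [map_neg, hνf]) hζk
      -- orthogonality
      have hix : Cfsg.hermForm n F q (c i) x = 0 := hD.orthogonal i j hij (c i) (hcD i) x hxD
      have hxi : Cfsg.hermForm n F q x (c i) = 0 := hD.orthogonal j i hij.symm x hxD (c i) (hcD i)
      have hwi : Cfsg.hermForm n F q w (c i) = ν := by
        rw [hw, UForm.f_sum_left hf, Finset.sum_eq_single i]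
        · intro l _ hl
          exact hD.orthogonal l i hl (c l) (hcD l) (c i) (hcD i)
        · intro h; exact absurd (Finset.mem_univ i) h
      have hwx : Cfsg.hermForm n F q w x = Cfsg.hermForm n F q (c j) x := by
        rw [hw, UForm.f_sum_left hf, Finset.sum_eq_single j]
        · intro l _ hl
          exact hD.orthogonal l j hl (c l) (hcD l) x hxD
        · intro h; exact absurd (Finset.mem_univ j) h
      have hjx : Cfsg.hermForm n F q (c j) x = -ζ - ν := by
        rw [hf.herm, hxc, map_sub, hζ, hνf]
      have hy₁iso : Cfsg.hermForm n F q (c i + x) (c i + x) = 0 := by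
        rw [hf.add_left, UForm.f_add_right hf, UForm.f_add_right hf, hix, hxi, hxx, ← hν]
        ring
      have hy₁ : c i + x ∈ ZZ q σ M := hall i j hij (c i) (hcD i) x hxD hy₁iso
      have hwy : Cfsg.hermForm n F q w (c i + x) = -ζ := by
        rw [UForm.f_add_right hf, hwi, hwx, hjx]
        ring
      -- the complement
      have hy₂ : w - (c i + x) ∈ ZZ q σ M := by
        set c' : Fin t → (Fin n → F) :=
          fun l => c l - (if l = i then c i else 0) - (if l = j then x else 0) with hc'
        have hsum : ∑ l, c' l = w - (c i + x) := by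
          simp only [hc', Finset.sum_sub_distrib, Finset.sum_ite_eq', Finset.mem_univ, if_true]
          rw [hw]
          abel
        rw [← hsum]
        apply ih c'
        · intro l
          simp only [hc']
          by_cases hli : l = i
          · subst hli
            rw [if_pos rfl, if_neg hij, sub_self, sub_zero]
            exact (D l).zero_mem
          · rw [if_neg hli, sub_zero]
            by_cases hlj : l = j
            · subst hlj
              rw [if_pos rfl]
              exact (D l).sub_mem (hcD l) hxD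
            · rw [if_neg hlj, sub_zero]
              exact hcD l
        · intro l hl
          simp only [hc']
          have hlj : l ≠ j := fun h => hl (h ▸ hjS)
          rw [if_neg hlj, sub_zero]
          by_cases hli : l = i
          · subst hli
            rw [if_pos rfl, sub_self]
          · rw [if_neg hli, sub_zero]
            apply hsupp
            rw [Finset.mem_insert]
            push Not
            exact ⟨hli, hl⟩
        · rw [hsum, UForm.f_sub_left hf, UForm.f_sub_right hf, UForm.f_sub_right hf, hiso, hwy, hy₁iso,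
            hf.herm (c i + x) w, hwy, map_neg, hζ]
          ring
      exact union_close hf M hζ0 hζ hy₁ hy₂ hwy
    · -- only one component
      push Not at hex
      have : ∑ l, c l = c i := by
        rw [Finset.sum_eq_single i]
        · intro l _ hl
          by_cases hlS : l ∈ S'
          · exact hex l hlS
          · apply hsupp
            rw [Finset.mem_insert]
            push Not
            exact ⟨hl, hlS⟩
        · intro h; exact absurd (Finset.mem_univ i) h
      rw [this] at hiso ⊢
      exact hblock i (c i) (hcD i) hiso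

end main

end Cfsg.Agent.Lib.helper15.UD
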