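import Mathlib
import Cfsg.Agent.Lib.Helper5.UNI.Defs
import Cfsg.Agent.Lib.helper8.ChevMono
import Cfsg.Agent.Lib.helper8.ChevBN3

/-!
Project UNI (S2314), row G2A `uni_subN_act` (verbatim vs `Helper5/UNI/Skel.lean.txt`): the
elements of `N_J = ⟨n_j, j ∈ J⟩ (B ⊓ N)` permute the root subgroups of `Φ_J`.
-/

set_option autoImplicit false

namespace Cfsg.Agent.Lib.Helper5.UNI

open Cfsg.Lie Cfsg.Lie.ChevalleyDatum Cfsg.Agent.Lib.helper8

section Chevalley

universe u

variable {F : Type u} [Field F]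

/-- the reflection in a fundamental root of `J` preserves the root subsystem `Φ_J` -/
theorem unig2a_refl_stable (D : ChevalleyDatum) (hA : H8ReflAll D) (J : Set ℕ) (i : ℕ)
    (hi : i < D.rank) (hiJ : i ∈ J) (s : ℕ) (hs : D.InRootSub J s) :
    D.InRootSub J (D.reflectRoot i s) := by
  obtain ⟨η, hR⟩ := h8reflAll_spec D hA i hi
  refine ⟨hR.lt s hs.1, fun j hj hjJ => ?_⟩
  rw [hR.tc2 j hj s hs.1, hs.2 j hj hjJ, if_neg, sub_zero]
  rintro rfl
  exact hjJ hiJ

section PLevel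

variable (D : ChevalleyDatum) (hB : H8Base.{u} D) (P : Cfsg.BNPair ↥(D.group F))
  (σ : ℕ → ↥(D.group F))

/-- G2a: the elements of `N_J` permute the root subgroups of `Φ_J` -/
theorem uni_subN_act (hA : H8ReflAll D) (hBN : H8BN D) (J : Finset ℕ)
    (hJ : ∀ j ∈ J, j < D.rank) (m : ↥(D.group F)) (hm : m ∈ subN P (σ '' (J : Set ℕ)))
    (hPB : P.B = (D.borelSubgroup F).subgroupOf (D.group F))
    (hPN : P.N = (D.monomialSubgroup F).subgroupOf (D.group F))
    (hσv : ∀ i, i < D.rank → ((σ i : ↥(D.group F)) : GL D.Idx F) = h8nU D hB (D.simple i) 1)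
    (r : ℕ) (hr : D.InRootSub (J : Set ℕ) r) :
    ∃ r', D.InRootSub (J : Set ℕ) r' ∧ H8Act D hB (m : GL D.Idx F) r r' := by
  obtain ⟨dep, par, horb⟩ := hBN.orb
  have hH : ∀ x : ↥(D.group F), x ∈ P.B ⊓ P.N → (x : GL D.Idx F) ∈ D.diagonalSubgroup F := by
    intro x hx
    rw [← h8_B_inf_N D hB hA dep par horb, Subgroup.mem_inf]
    rw [Subgroup.mem_inf] at hx
    have h1 := hx.1
    have h2 := hx.2
    rw [hPB, Subgroup.mem_subgroupOf] at h1
    rw [hPN, Subgroup.mem_subgroupOf] at h2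
    exact ⟨h1, h2⟩
  suffices H : ∀ m : ↥(D.group F), m ∈ subN P (σ '' (J : Set ℕ)) →
      ∀ r, D.InRootSub (J : Set ℕ) r →
      ∃ r', D.InRootSub (J : Set ℕ) r' ∧ H8Act D hB (m : GL D.Idx F) r r' from H m hm r hr
  intro m hm
  unfold subN at hm
  rw [← Subgroup.closure_eq (P.B ⊓ P.N), ← Subgroup.closure_union] at hm
  induction hm using Subgroup.closure_induction'' with
  | mem x hx =>
    intro r hr
    rcases hx with ⟨j, hj, rfl⟩ | hx
    · have hjr := hJ j (Finset.mem_coe.1 hj)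
      refine ⟨D.reflectRoot j r, unig2a_refl_stable D hA _ j hjr hj r hr, ?_⟩
      rw [hσv j hjr]
      exact h8act_nU D hB hA j hjr r hr.1
    · exact ⟨r, hr, h8perm_H_id D hB _ (hH x hx) r hr.1⟩
  | inv_mem x hx =>
    intro r hr
    rcases hx with ⟨j, hj, rfl⟩ | hx
    · have hjr := hJ j (Finset.mem_coe.1 hj)
      obtain ⟨η, hR⟩ := h8reflAll_spec D hA j hjr
      have hr' := unig2a_refl_stable D hA _ j hjr hj r hr
      refine ⟨D.reflectRoot j r, hr', ?_⟩
      rw [Subgroup.coe_inv, hσv j hjr]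
      have h := h8act_inv D hB _ _ _ (h8act_nU (F := F) D hB hA j hjr (D.reflectRoot j r) hr'.1)
      rwa [hR.invol r hr.1] at h
    · refine ⟨r, hr, ?_⟩
      rw [Subgroup.coe_inv]
      exact h8act_inv D hB _ _ _ (h8perm_H_id D hB _ (hH x hx) r hr.1)
  | one =>
    intro r hr
    refine ⟨r, hr, 1, one_ne_zero, fun t => ?_⟩
    rw [Subgroup.coe_one, one_mul, inv_one, mul_one, one_mul]
  | mul a b _ _ ha hb =>
    intro r hr
    obtain ⟨r', hr', h1⟩ := hb r hr
    obtain ⟨r'', hr'', h2⟩ := ha r' hr'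
    refine ⟨r'', hr'', ?_⟩
    rw [Subgroup.coe_mul]
    exact h8act_mul D hB _ _ r r' r'' h1 h2

end PLevel

end Chevalley

end Cfsg.Agent.Lib.Helper5.UNI
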