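import Mathlib
import Cfsg.Agent.Lib.Helper5.UNI.Defs
import Cfsg.Agent.Lib.helper14.StChev

/-!
Project UNI (S2314), row G2B `uni_h1J` (verbatim vs `Helper5/UNI/Skel.lean.txt`): every `j ∈ J`
is a left descent of `n_J⁻¹`.  Copy of the `h1` block of helper14's `st_chev_main`, with the
longest word of `W_J` in place of `w₀`.
-/

set_option autoImplicit false

namespace Cfsg.Agent.Lib.Helper5.UNI

open Cfsg.Lie Cfsg.Lie.ChevalleyDatum Cfsg.Agent.Lib.helper8 Cfsg.Agent.Lib.helper3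
  Cfsg.Agent.Lib.helper14

section Chevalley

universe u

variable {F : Type u} [Field F]

/-- the coroot vector of the `j`-th fundamental root is the `j`-th unit vector (from the table
check) -/
theorem unig2b_coroot_simple (D : ChevalleyDatum) (hT : uniTabChk D = true) (j : ℕ)
    (hj : j < D.rank) (i : ℕ) (hi : i < D.rank) :
    (D.coroot.getD (D.simple j) #[]).getD i 0 = if i = j then 1 else 0 := by
  unfold uniTabChk at hT
  simp only [Bool.and_eq_true, List.all_eq_true, List.mem_range, decide_eq_true_eq] at hT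
  exact hT.1.2 j hj i hi

/-- a fundamental root `p_j`, `j ∈ J`, lies in `Φ_J` -/
theorem unig2b_simple_inRootSub (D : ChevalleyDatum) (hBN : H8BN D) (hT : uniTabChk D = true)
    (J : Set ℕ) (j : ℕ) (hj : j < D.rank) (hjJ : j ∈ J) : D.InRootSub J (D.simple j) := by
  refine ⟨(h8simple_pos D hBN j hj).1, fun i hi hiJ => ?_⟩
  rw [unig2b_coroot_simple D hT j hj i hi, if_neg]
  rintro rfl
  exact hiJ hjJ

section PLevel

variable (D : ChevalleyDatum) (hB : H8Base.{u} D) (P : Cfsg.BNPair ↥(D.group F))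
  (σ : ℕ → ↥(D.group F))

/-- G2b: every `j ∈ J` is a left descent of `n_J⁻¹` -/
theorem uni_h1J (hA : H8ReflAll D) (hBN : H8BN D) (hW : H8BN2 D) (hO2 : H8Ord2 D)
    (hT : uniTabChk D = true)
    (hPB : P.B = (D.borelSubgroup F).subgroupOf (D.group F))
    (hPN : P.N = (D.monomialSubgroup F).subgroupOf (D.group F))
    (hPS : P.S = {n : ↥(D.group F) | ∃ i < D.rank,
      ((n : GL D.Idx F) : Matrix D.Idx D.Idx F) = D.nMat F (D.simple i) 1})
    (hσv : ∀ i, i < D.rank → ((σ i : ↥(D.group F)) : GL D.Idx F) = h8nU D hB (D.simple i) 1)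
    (J : Finset ℕ) (hJ : ∀ j ∈ J, j < D.rank) (w : List ℕ) (hw : IsLongWord D (J : Set ℕ) w)
    (n : ↥(D.group F)) (hn : (n : GL D.Idx F) = h8nWU D hB w) :
    ∀ j ∈ J, ¬ Pp P (σ j) n⁻¹ := by
  intro j hjJ
  have hj := hJ j hjJ
  have hwr : ∀ i ∈ w, i < D.rank := fun i hi => (hw.1 i hi).1
  have hpj := h8simple_pos D hBN j hj
  have hsub := unig2b_simple_inRootSub D hBN hT (J : Set ℕ) j hj (Finset.mem_coe.2 hjJ)
  have hnegρ : D.IsNegRoot (h8sW D w (D.simple j)) := hw.2.1 _ hpj hsub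
  have hσS : σ j ∈ P.S := by
    rw [hPS]
    refine ⟨j, hj, ?_⟩
    rw [hσv j hj, h8nU_val]
  have hnN : n ∈ P.N := by
    rw [hPN, Subgroup.mem_subgroupOf, hn]
    exact h8nWU_mem_N D hB hA w hwr
  refine st_not_Pp_of_neg D hB P hPB hA hBN hW hO2 hPN hσS j hj (hσv j hj)
    (P.N.inv_mem hnN) (h8sW D w (D.simple j)) hnegρ.1 ?_ (h8pos_of_neg D hB hBN hO2 _ hnegρ)
  have e : ((n⁻¹ : ↥(D.group F)) : GL D.Idx F)⁻¹ = h8nWU D hB w := by
    rw [Subgroup.coe_inv, inv_inv, hn]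
  rw [e]
  exact h8actN_act D hB _ _ _ (h8actN_word D hB hA w hwr (D.simple j) hpj.1)

end PLevel

end Chevalley

end Cfsg.Agent.Lib.Helper5.UNI
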