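import Mathlib
import Cfsg.Agent.Lib.Helper11.UNS.Defs

/-!
Project UNS (S2316), block K (rows K1-K8, verbatim vs `Helper11/UNS/Skel.lean.txt`): arithmetic of
the block function.
-/

set_option autoImplicit false

namespace Cfsg.Agent.Lib.Helper11.UNS

open Matrix Cfsg.Agent.Lib.helper14.SpBN

universe u

variable {F : Type u} [Field F] {m : ℕ}

theorem blk_succ (J : Finset ℕ) (r : ℕ) :
    blk m J (r + 1) = blk m J r + if sidx m r ∈ J then 0 else 1 := by
  unfold blk
  rw [Finset.range_add_one, Finset.filter_insert]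
  by_cases h : sidx m r ∈ J
  · rw [if_pos h, if_neg (not_not.2 h), add_zero]
  · rw [if_neg h, if_pos h, Finset.card_insert_of_notMem]
    intro hr
    rw [Finset.mem_filter, Finset.mem_range] at hr
    exact lt_irrefl _ hr.1

theorem blk_mono (J : Finset ℕ) {r s : ℕ} (h : r ≤ s) : blk m J r ≤ blk m J s := by
  unfold blk
  exact Finset.card_le_card (Finset.filter_subset_filter _ (Finset.range_mono h))

theorem unsk_sidx_mirror (r : ℕ) (hr : r + 2 ≤ 2 * m) : sidx m (2 * m - 2 - r) = sidx m r := by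
  unfold sidx
  split_ifs <;> omega

theorem blk_mirror (J : Finset ℕ) (r : ℕ) (hr : r ≤ 2 * m - 1) :
    blk m J r + blk m J (2 * m - 1 - r) = blk m J (2 * m - 1) := by
  induction r with
  | zero =>
    have : blk m J 0 = 0 := by
      unfold blk
      rw [Finset.range_zero, Finset.filter_empty, Finset.card_empty]
    rw [this, zero_add, Nat.sub_zero]
  | succ r ih =>
    have ih' := ih (by omega)
    have e1 : 2 * m - 1 - r = (2 * m - 1 - (r + 1)) + 1 := by omega
    have e2 : 2 * m - 1 - (r + 1) = 2 * m - 2 - r := by omega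
    rw [e1, blk_succ, e2, unsk_sidx_mirror r (by omega)] at ih'
    rw [blk_succ, e2]
    omega

theorem bfJ_swap (J : Finset ℕ) (x : Fin m ⊕ Fin m) :
    bfJ J x + bfJ J x.swap = blk m J (2 * m - 1) := by
  unfold bfJ
  have h := rk_add_swap x
  have e : rk x.swap = 2 * m - 1 - rk x := by omega
  rw [e]
  exact blk_mirror J (rk x) (by omega)

theorem bfJ_sym (J : Finset ℕ) (x y : Fin m ⊕ Fin m) (h : bfJ J y < bfJ J x) :
    bfJ J x.swap < bfJ J y.swap := by
  have h1 := bfJ_swap J x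
  have h2 := bfJ_swap J y
  omega

theorem bfJ_pc (J : Finset ℕ) (k : Fin m) :
    bfJ J (pc k) = bfJ J (pa k) + if k.val ∈ J then 0 else 1 := by
  unfold bfJ
  rw [rk_pc, rk_pa, blk_succ]
  have e : sidx m k.val = k.val := if_pos k.2
  rw [e]

theorem rk_lt_of_bfJ_lt (J : Finset ℕ) {x y : Fin m ⊕ Fin m} (h : bfJ J x < bfJ J y) :
    rk x < rk y := by
  by_contra hc
  have := blk_mono (m := m) J (not_lt.1 hc)
  unfold bfJ at h
  omega

theorem adj_cases (x y : Fin m ⊕ Fin m) (h : rk y = rk x + 1) :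
    (∃ k : Fin m, x = pa k ∧ y = pc k) ∨ ∃ k : Fin m, x = (pc k).swap ∧ y = (pa k).swap := by
  by_cases hx : rk x < m
  · left
    exact ⟨⟨rk x, hx⟩, eq_pa_of_rk rfl, eq_pc_of_rk h⟩
  · right
    have hy := rk_lt y
    have h1 := rk_add_swap x
    have h2 := rk_add_swap y
    have hk : rk y.swap < m := by omega
    have e1 : y.swap = pa ⟨rk y.swap, hk⟩ := eq_pa_of_rk rfl
    have e2 : x.swap = pc ⟨rk y.swap, hk⟩ :=
      eq_pc_of_rk (by show rk x.swap = rk y.swap + 1; omega)
    refine ⟨⟨rk y.swap, hk⟩, ?_, ?_⟩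
    · rw [← e2, Sum.swap_swap]
    · rw [← e1, Sum.swap_swap]

end Cfsg.Agent.Lib.Helper11.UNS
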