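import Mathlib
import Cfsg.Agent.Lib.Helper11.UNS.Defs
import Cfsg.Agent.Lib.Helper11.UNSK

/-!
Project UNS (S2316), rows G3 / G4: cores (the statement of W5 `exists_rev` enters as the
hypothesis `IsRev J (wJ m J)`, the statement of G2 `mono_mem_subN` as `hG2`).
-/

set_option autoImplicit false

namespace Cfsg.Agent.Lib.Helper11.UNS

open Matrix Cfsg.Agent.Lib.helper14.SpBN Cfsg.Agent.Lib.helper3 Cfsg.Agent.Lib.helper14
  Cfsg.Agent.Lib.Helper5.UNI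

universe u

variable {F : Type u} [Field F] {m : ℕ}

/-- own copy of row G0 -/
theorem unsg4_sigmaS_eq (k : Fin m) : sigmaS m F k.val = sRef k := by
  unfold sigmaS
  rw [dif_pos k.2]

/-- core of G4: the descents of `n_J⁻¹` -/
theorem unsg4_core (hm : 0 < m) (J : Finset ℕ) (hJ : J ⊆ Finset.range m)
    (hrev : IsRev J (wJ m J)) :
    ∀ j ∈ J, ¬ Pp (spBN (F := F) hm) (sigmaS m F j) (nJ F m J)⁻¹ := by
  intro j hj
  have hjm : j < m := Finset.mem_range.1 (hJ hj)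
  have hs : sigmaS m F j = sRef (⟨j, hjm⟩ : Fin m) := unsg4_sigmaS_eq (F := F) ⟨j, hjm⟩
  rw [hs]
  apply not_Pp_of_neg hm ⟨j, hjm⟩ (nJ F m J)⁻¹ (SwC_inv (SwC_wJ m J))
    (isMono_inv _ (SwC_wJ m J) (isMono_nJ F m J))
  have h1 : ((wJ m J)⁻¹).symm = wJ m J := by
    rw [Equiv.Perm.inv_def, Equiv.symm_symm]
  rw [h1]
  apply hrev.2.2 (pa ⟨j, hjm⟩) (pc ⟨j, hjm⟩)
  · rw [bfJ_pc, if_pos hj, add_zero]
  · rw [rk_pa, rk_pc]
    exact Nat.lt_succ_self _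

/-- core of G3 -/
theorem unsg3_core (hm : 0 < m) (J : Finset ℕ) (hrev : IsRev J (wJ m J))
    (hG2 : ∀ (n : ↥(Matrix.symplecticGroup (Fin m) F)) (π : Equiv.Perm (Fin m ⊕ Fin m)),
      SwC π → IsMono n.1 π → BP J π →
        n ∈ subN (spBN (F := F) hm) (sigmaS m F '' (J : Set ℕ))) :
    nJ F m J ∈ subN (spBN (F := F) hm) (sigmaS m F '' (J : Set ℕ)) :=
  hG2 (nJ F m J) (wJ m J) (SwC_wJ m J) (isMono_nJ F m J) hrev.2.1

end Cfsg.Agent.Lib.Helper11.UNS
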