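import Mathlib
import Cfsg.Agent.Lib.Helper11.UNS.Defs
import Cfsg.Agent.Lib.Helper11.UNSG4core
import Cfsg.Agent.Lib.Helper20.UNSW5core
import Cfsg.Agent.Lib.Helper9.UNSW1
import Cfsg.Agent.Lib.Helper13.UNSW2

/-!
Project UNS (S2316), row G4 `uns_h1J` (verbatim): `unsg4_core` on the landed rows W1 `BP_tauS`,
W2 `rev_of_simple` and helper20's `unsw5_core` (the content of W5).
-/

set_option autoImplicit false

namespace Cfsg.Agent.Lib.Helper11.UNS

open Matrix Cfsg.Agent.Lib.helper14.SpBN Cfsg.Agent.Lib.helper3 Cfsg.Agent.Lib.helper14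
  Cfsg.Agent.Lib.Helper5.UNI

universe u

variable {F : Type u} [Field F] {m : ℕ}

/-- the longest element of `W_J` reverses every block (W5 through its landed core) -/
theorem unsg4_wJ_isRev (J : Finset ℕ) : IsRev J (wJ m J) :=
  wJ_isRev J (unsw5_core J (fun k hk => BP_tauS J k hk) (fun π h1 h2 h3 => rev_of_simple J π h1 h2 h3))

/-- G4 [S-M]  deps W5 K6 G0.  `j < m`, `k = ⟨j, _⟩`; `not_Pp_of_neg hm k _ (SwC_inv _) (isMono_inv _ _ _)`
for `(nJ F m J)⁻¹` with `(wJ m J)⁻¹`, whose `symm` is `wJ m J`; `rk (wJ (pc k)) < rk (wJ (pa k))` by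
`IsRev` (K6: same block; `rk_pa`, `rk_pc`). -/
theorem uns_h1J (hm : 0 < m) (J : Finset ℕ) (hJ : J ⊆ Finset.range m) :
    ∀ j ∈ J, ¬ Pp (spBN (F := F) hm) (sigmaS m F j) (nJ F m J)⁻¹ :=
  unsg4_core hm J hJ (unsg4_wJ_isRev J)

end Cfsg.Agent.Lib.Helper11.UNS
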