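import Mathlib
import Cfsg.Agent.Lib.Helper11.UNS.Defs
import Cfsg.Agent.Lib.Helper11.UNSG4core
import Cfsg.Agent.Lib.Helper11.UNSG4
import Cfsg.Agent.Lib.Helper16.UNSG2

/-!
Project UNS (S2316), row G3 `nJ_mem_subN` (verbatim): `unsg3_core` on the landed rows.
-/

set_option autoImplicit false

namespace Cfsg.Agent.Lib.Helper11.UNS

open Matrix Cfsg.Agent.Lib.helper14.SpBN Cfsg.Agent.Lib.helper3 Cfsg.Agent.Lib.helper14
  Cfsg.Agent.Lib.Helper5.UNI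

universe u

variable {F : Type u} [Field F] {m : ℕ}

/-- G3 [S]  deps W5 G2: `wJ_isRev`, `isMono_nJ`, `SwC_wJ`. -/
theorem nJ_mem_subN (hm : 0 < m) (J : Finset ℕ) :
    nJ F m J ∈ subN (spBN (F := F) hm) (sigmaS m F '' (J : Set ℕ)) :=
  unsg3_core hm J (unsg4_wJ_isRev J) (fun n π h1 h2 h3 => mono_mem_subN hm J n π h1 h2 h3)

end Cfsg.Agent.Lib.Helper11.UNS
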