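import Mathlib
import Cfsg.Agent.Lib.Helper11.UNS.Defs

/-!
Project UNS (S2316), row W7 `rev_rev` (verbatim): the product of two block reversals is
increasing inside every block.
-/

set_option autoImplicit false

namespace Cfsg.Agent.Lib.Helper11.UNS

open Matrix Cfsg.Agent.Lib.helper14.SpBN Cfsg.Agent.Lib.helper3 Cfsg.Agent.Lib.helper14
  Cfsg.Agent.Lib.Helper5.UNI

universe u

variable {F : Type u} [Field F] {m : ℕ}

/-- W7 [S]  two reversals. -/
theorem rev_rev (J : Finset ℕ) {π ρ : Equiv.Perm (Fin m ⊕ Fin m)} (h1 : IsRev J π)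
    (h2 : IsRev J ρ) (x y : Fin m ⊕ Fin m) (hb : bfJ J x = bfJ J y) (h : rk x < rk y) :
    rk ((π * ρ) x) < rk ((π * ρ) y) := by
  rw [Equiv.Perm.mul_apply, Equiv.Perm.mul_apply]
  have h3 : rk (ρ y) < rk (ρ x) := h2.2.2 x y hb h
  have h4 : bfJ J (ρ y) = bfJ J (ρ x) := by rw [h2.2.1 y, h2.2.1 x, hb]
  exact h1.2.2 (ρ y) (ρ x) h4 h3

end Cfsg.Agent.Lib.Helper11.UNS
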