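import Mathlib
import Cfsg.Agent.Lib.Helper11.UNS.Defs
import Cfsg.Agent.Lib.Helper11.UNSK
import Cfsg.Agent.Lib.Helper11.UNSW7

/-!
Project UNS (S2316), row G5 (second writer helper11, own names): core of `uns_h2J`, the statements
of the rows G1 `subN_perm`, W2 `rev_of_simple` and W5 (as `IsRev J (wJ m J)`) are hypotheses; W6 and
G0 are proved here under own names.
-/

set_option autoImplicit false

namespace Cfsg.Agent.Lib.Helper11.UNS

open Matrix Cfsg.Agent.Lib.helper14.SpBN Cfsg.Agent.Lib.helper3 Cfsg.Agent.Lib.helper14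
  Cfsg.Agent.Lib.Helper5.UNI

universe u

variable {F : Type u} [Field F] {m : ℕ}

/-- own copy of row W6 -/
theorem unsg5h11_isRev_inv (J : Finset ℕ) {π : Equiv.Perm (Fin m ⊕ Fin m)} (h : IsRev J π) :
    IsRev J π⁻¹ := by
  refine ⟨SwC_inv h.1, BP_inv J h.2.1, ?_⟩
  intro x y hb hxy
  by_contra hcon
  have hle : rk (π⁻¹ x) ≤ rk (π⁻¹ y) := Nat.le_of_not_lt hcon
  rcases Nat.lt_or_eq_of_le hle with hlt | heq
  · have hb2 : bfJ J (π⁻¹ x) = bfJ J (π⁻¹ y) := by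
      rw [BP_inv J h.2.1 x, BP_inv J h.2.1 y, hb]
    have h3 := h.2.2 (π⁻¹ x) (π⁻¹ y) hb2 hlt
    rw [Equiv.Perm.inv_def, Equiv.apply_symm_apply, Equiv.apply_symm_apply] at h3
    exact absurd hxy (Nat.lt_asymm h3)
  · have h4 : x = y := (π⁻¹).injective (rk_injective heq)
    rw [h4] at hxy
    exact Nat.lt_irrefl _ hxy

/-- own copy of row G0 -/
theorem unsg5h11_sigmaS_eq (k : Fin m) : sigmaS m F k.val = sRef k := by
  unfold sigmaS
  rw [dif_pos k.2]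

/-- core of G5 (`uns_h2J`) -/
theorem unsg5h11_core (hm : 0 < m) (J : Finset ℕ) (hJ : J ⊆ Finset.range m)
    (hrev : IsRev J (wJ m J))
    (hG1 : ∀ g : ↥(Matrix.symplecticGroup (Fin m) F),
      g ∈ subN (spBN (F := F) hm) (sigmaS m F '' (J : Set ℕ)) →
        ∃ π : Equiv.Perm (Fin m ⊕ Fin m), SwC π ∧ IsMono g.1 π ∧ BP J π)
    (hW2 : ∀ π : Equiv.Perm (Fin m ⊕ Fin m), SwC π → BP J π →
      (∀ k : Fin m, k.val ∈ J → rk (π (pc k)) < rk (π (pa k))) → IsRev J π) :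
    ∀ g ∈ subN (spBN (F := F) hm) (sigmaS m F '' (J : Set ℕ)),
      (∀ j ∈ J, ¬ Pp (spBN (F := F) hm) (sigmaS m F j) g) →
      ∀ j ∈ J, Pp (spBN (F := F) hm) (sigmaS m F j) (g * nJ F m J) := by
  intro g hg hneg j hj
  obtain ⟨π, hS, hM, hB⟩ := hG1 g hg
  have hdesc : ∀ k : Fin m, k.val ∈ J → rk (π.symm (pc k)) < rk (π.symm (pa k)) := by
    intro k hk
    rcases rk_neg_or_pos k π with h | h
    · exfalso
      apply hneg k.val hk
      rw [unsg5h11_sigmaS_eq]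
      exact Pp_of_pos hm k g hS hM h
    · exact h
  have hrevπ : IsRev J π⁻¹ :=
    hW2 π⁻¹ (SwC_inv hS) (BP_inv J hB) (fun k hk => by
      rw [Equiv.Perm.inv_def]
      exact hdesc k hk)
  have hM2 : IsMono (g * nJ F m J).1 (π * wJ m J) := isMono_mul hM (isMono_nJ F m J)
  have hS2 : SwC (π * wJ m J) := SwC_mul hS (SwC_wJ m J)
  have hjm : j < m := Finset.mem_range.1 (hJ hj)
  have hs : sigmaS m F j = sRef (⟨j, hjm⟩ : Fin m) := unsg5h11_sigmaS_eq (F := F) ⟨j, hjm⟩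
  rw [hs]
  apply Pp_of_pos hm ⟨j, hjm⟩ _ hS2 hM2
  have h5 : (π * wJ m J).symm = (wJ m J)⁻¹ * π⁻¹ := by
    rw [← Equiv.Perm.inv_def, _root_.mul_inv_rev]
  rw [h5]
  apply rev_rev J (unsg5h11_isRev_inv J hrev) hrevπ (pa ⟨j, hjm⟩) (pc ⟨j, hjm⟩)
  · rw [bfJ_pc, if_pos hj, add_zero]
  · rw [rk_pa, rk_pc]
    exact Nat.lt_succ_self _

end Cfsg.Agent.Lib.Helper11.UNS
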