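import Mathlib
import Cfsg.Agent.Lib.Helper11.UNS.Defs

/-!
Project UNS (S2316), row G6 `uns_hH` (verbatim): the torus `B ⊓ N` lies in `n_J B n_J⁻¹`.
(Self-contained: the membership in the conjugate is unfolded here, row E0 is not needed.)
-/

set_option autoImplicit false

namespace Cfsg.Agent.Lib.Helper11.UNS

open Matrix Cfsg.Agent.Lib.helper14.SpBN Cfsg.Agent.Lib.helper3 Cfsg.Agent.Lib.helper14
  Cfsg.Agent.Lib.Helper5.UNI

universe u

variable {F : Type u} [Field F] {m : ℕ}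

/-- own copy of the content of row E0 (one direction) -/
theorem unsg6_mem_conj (n g : ↥(Matrix.symplecticGroup (Fin m) F))
    (h : n⁻¹ * g * n ∈ Bsp m F) : g ∈ (Bsp m F).map (MulAut.conj n).toMonoidHom := by
  rw [Subgroup.mem_map]
  refine ⟨n⁻¹ * g * n, h, ?_⟩
  simp only [MulEquiv.toMonoidHom_eq_coe, MonoidHom.coe_coe, MulAut.conj_apply]
  group

/-- G6 [S-M]  dep E0.  `t ∈ Bsp ⊓ Nsp`: `n⁻¹ * t * n ∈ Bsp` by `conj_torus_mem n⁻¹ t _ ht` (SpBNi; `nJ_mem_Nsp`). -/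
theorem uns_hH (J : Finset ℕ) :
    Bsp m F ⊓ Nsp m F ≤ (Bsp m F).map (MulAut.conj (nJ F m J)).toMonoidHom := by
  intro t ht
  apply unsg6_mem_conj
  have h := conj_torus_mem (nJ F m J)⁻¹ t ((Nsp m F).inv_mem (nJ_mem_Nsp F m J)) ht
  rwa [inv_inv] at h

end Cfsg.Agent.Lib.Helper11.UNS
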