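import Mathlib
import Cfsg.Agent.Lib.Helper11.UNS.Defs
import Cfsg.Agent.Lib.Helper5.UNIABS
import Cfsg.Agent.Lib.Helper27.SpFusA
import Cfsg.Agent.Lib.Helper11.UNSG3
import Cfsg.Agent.Lib.Helper11.UNSG4
import Cfsg.Agent.Lib.Helper11.UNSG5h11
import Cfsg.Agent.Lib.Helper11.UNSG6
import Cfsg.Agent.Lib.helper3.UNSG1core
import Cfsg.Agent.Lib.Helper9.UNSW1
import Cfsg.Agent.Lib.Helper13.UNSW2
import Cfsg.Agent.Lib.helper4.UNSE4
import Cfsg.Agent.Lib.Helper22.UNST1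
import Cfsg.Agent.Lib.Helper22.UNST2
import Cfsg.Agent.Lib.Helper12.UNST3
import Cfsg.Agent.Lib.Helper26.UNST4

/-!
Project UNS = S2316: the number of `p`-elements of `Sp_{2m}(q)` is `q ^ (2 m²)`.  The final glue:
helper5's `uniabs_main` on helper14's (B,N)-pair `spBN hm`, with the rows of the project.
-/

set_option autoImplicit false

namespace Cfsg.Agent.Lib.Helper11.UNS

open Matrix Cfsg.Agent.Lib.helper14.SpBN Cfsg.Agent.Lib.helper3 Cfsg.Agent.Lib.helper14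
  Cfsg.Agent.Lib.Helper5.UNI

universe u

/-- the statement of row G5 `uns_h2J`, from the landed cores -/
theorem unsmain_h2J {F : Type u} [Field F] {m : ℕ} (hm : 0 < m) (J : Finset ℕ)
    (hJ : J ⊆ Finset.range m) :
    ∀ g ∈ subN (spBN (F := F) hm) (sigmaS m F '' (J : Set ℕ)),
      (∀ j ∈ J, ¬ Pp (spBN (F := F) hm) (sigmaS m F j) g) →
      ∀ j ∈ J, Pp (spBN (F := F) hm) (sigmaS m F j) (g * nJ F m J) :=
  unsg5h11_core hm J hJ (unsg4_wJ_isRev J)
    (fun g hg => unsg1_core hm J hJ (fun k hk => BP_tauS J k hk) g hg)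
    (fun π h1 h2 h3 => rev_of_simple J π h1 h2 h3)

/-- MAIN = S2316. -/
theorem uns_main {F : Type*} [Field F] [Fintype F] (p : ℕ) [Fact p.Prime] [CharP F p] (m : ℕ) :
    Nat.card {g : ↥(Matrix.symplecticGroup (Fin m) F) // ∃ k : ℕ, orderOf g = p ^ k} =
      Fintype.card F ^ (2 * m ^ 2) := by
  rcases Nat.eq_zero_or_pos m with rfl | hm
  · have h1 : Subsingleton ↥(Matrix.symplecticGroup (Fin 0) F) :=
      ⟨fun a b => Subtype.ext (Matrix.ext fun i => (IsEmpty.false i).elim)⟩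
    have h2 : Subsingleton {g : ↥(Matrix.symplecticGroup (Fin 0) F) // ∃ k : ℕ, orderOf g = p ^ k} :=
      inferInstance
    have h3 : Nonempty {g : ↥(Matrix.symplecticGroup (Fin 0) F) // ∃ k : ℕ, orderOf g = p ^ k} :=
      ⟨⟨1, 0, by rw [orderOf_one, pow_zero]⟩⟩
    rw [Nat.card_unique]
    norm_num
  · have hUH : Uup m F ⊓ (Bsp m F ⊓ Nsp m F) = ⊥ := by
      rw [eq_bot_iff]
      rintro g ⟨hU, hT⟩
      rw [Subgroup.mem_bot]
      exact eq_one_of_mem_Uup_of_mem_Tsp g hU hT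
    have key := uniabs_main p (spBN (F := F) hm) (Finset.range m) (sigmaS m F)
      (fun i hi => sigmaS_mem hm i (Finset.mem_range.1 hi))
      (Uup m F) (Bsp m F ⊓ Nsp m F) (Cfsg.Agent.Lib.Helper27.SpFus.uSylow hm p)
      (Cfsg.Agent.Lib.Helper27.SpFus.coe_uSylow hm p)
      B_eq_sup (le_trans inf_le_left Cfsg.Agent.Lib.Helper27.SpFus.Bsp_le_normalizer_Uup) hUH
      (fun J hJ => ⟨nJ F m J, nJ_mem_subN hm J, uns_h1J hm J hJ, unsmain_h2J hm J hJ,
        uns_hE hm J hJ, uns_hH J⟩)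
      (uns_htop hm) (uns_hst hm)
    rw [key, card_Uup p hm, ← pow_mul]
    congr 1
    ring

end Cfsg.Agent.Lib.Helper11.UNS
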