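import Mathlib
import Cfsg.Agent.Lib.helper6.UTP.Defs
import Cfsg.Agent.Lib.Helper28.UForm
import Cfsg.Agent.Lib.Helper27.UDREAL

/-!
# UTP piece ALLTV, core (helper11): from the planes to everything

`utpalltv_core` = `alltv_of_plane` of the UTP skeleton with the STATEMENT of `xsu_pair` (XSAPI) at the index type `Fin a × Fin b` as a hypothesis.
Proof: induction on the support with respect to the orthogonal decomposition `V = ⊕_i e_i ⊗ B` (the argument of UD's UNION):
`PairGood` for two blocks comes from the hypothesis on hyperbolic planes (`⟨e_i, e_j⟩` is one), the realisation lemma is UD's REAL for `B` (`b ≥ 3`).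
-/

set_option autoImplicit false
set_option linter.unusedSectionVars false
set_option linter.unusedVariables false

namespace Cfsg.Agent.Lib.helper6.UTP

open Matrix
open scoped Kronecker
open Cfsg.Agent.Lib.helper7.TP

variable {F : Type*} [Field F] {a b : ℕ}

/-- the standard hermitian form on `F^k` is a unitary form -/
theorem utpalltv_unitary (σ : F ≃+* F) (hσ : Inv2 σ) (k : ℕ) :
    Cfsg.Geo.IsUnitaryForm σ (hf σ : (Fin k → F) → (Fin k → F) → F) where
  ne_refl := by
    intro h
    obtain ⟨x, hx⟩ := hσ.moved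
    apply hx
    rw [h]
    rfl
  involutive := hσ.invol
  add_left := fun x y v => hf_add_left σ x y v
  smul_left := fun c x v => hf_smul_left σ c x v
  herm := fun v w => hf_herm σ hσ v w
  nondegenerate := by
    intro v hv
    constructor
    · by_contra h
      push Not at h
      exact hv (hf_nondeg σ v h)
    · by_contra h
      push Not at h
      exact hv (hf_nondeg' σ hσ v h)

/-- realisation in `B = F^b`, `b ≥ 3` -/
theorem utpalltv_real [Fintype F] (σ : F ≃+* F) (hσ : Inv2 σ) (hb : 3 ≤ b) (w : Fin b → F) (hw : w ≠ 0)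
    (s ν : F) (hν : σ ν = ν) : ∃ m : Fin b → F, hf σ m w = s ∧ hf σ m m = ν := by
  have hU := utpalltv_unitary σ hσ b
  have hfr : Module.finrank F (⊤ : Submodule F (Fin b → F)) = b := by
    rw [finrank_top, Module.finrank_fintype_fun_eq_card, Fintype.card_fin]
  obtain ⟨x, _, h1, h2⟩ := Cfsg.Agent.Lib.helper15.UD.real hU (⊤ : Submodule F (Fin b → F))
    (fun v _ hv => by
      obtain ⟨⟨x, hx⟩, ⟨y, hy⟩⟩ := hU.nondegenerate v hv
      exact ⟨⟨x, Submodule.mem_top, hx⟩, ⟨y, Submodule.mem_top, hy⟩⟩)
    (by rw [hfr]; omega) w Submodule.mem_top hw s ν hν (by rw [hfr]; omega)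
  exact ⟨x, h1, h2⟩

/-- the Gram matrix of the standard basis -/
theorem utpalltv_hf_single (σ : F ≃+* F) {k : ℕ} (i j : Fin k) :
    hf σ (Pi.single i 1 : Fin k → F) (Pi.single j 1) = if i = j then 1 else 0 := by
  rw [hf, single_dotProduct, one_mul, cj_apply]
  by_cases hij : i = j
  · subst hij
    rw [Pi.single_eq_same, map_one, if_pos rfl]
  · rw [Pi.single_eq_of_ne hij, map_zero, if_neg hij]

/-- the form on two block vectors -/
theorem utpalltv_hf_block (σ : F ≃+* F) (i j : Fin a) (m m' : Fin b → F) :
    hf σ (ten (Pi.single i 1) m) (ten (Pi.single j 1) m') = if i = j then hf σ m m' else 0 := by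
  rw [hf_ten, utpalltv_hf_single]
  split_ifs <;> simp

theorem utpalltv_hf_sum_left (σ : F ≃+* F) {ι κ : Type*} [Fintype ι] (s : Finset κ) (g : κ → (ι → F))
    (y : ι → F) : hf σ (∑ l ∈ s, g l) y = ∑ l ∈ s, hf σ (g l) y := by
  unfold hf
  rw [sum_dotProduct]

/-- every vector is the sum of its block components -/
theorem utpalltv_decomp (v : Fin a × Fin b → F) :
    v = ∑ l : Fin a, ten (Pi.single l 1) (fun j => v (l, j)) := by
  funext p
  obtain ⟨i, j⟩ := p
  rw [Finset.sum_apply, Finset.sum_eq_single i]
  · simp [ten]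
  · intro l _ hl
    simp [ten, Pi.single_eq_of_ne (Ne.symm hl)]
  · intro h
    exact absurd (Finset.mem_univ i) h

/-- the zero vector lies in `XSu` -/
theorem utpalltv_zero_mem (σ : F ≃+* F) {ι : Type} [Fintype ι] [DecidableEq ι]
    (M : Subgroup (Matrix.GeneralLinearGroup ι F)) : (0 : ι → F) ∈ XSu σ M := by
  refine ⟨hf_zero_left σ 0, fun c hc t ht => ?_⟩
  have : t = 1 := by
    apply Units.ext
    apply Matrix.toLin'.injective
    apply LinearMap.ext
    intro x
    rw [Matrix.toLin'_apply, ht, smul_zero, add_zero]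
    simp
  rw [this]
  exact M.one_mem

/-- two blocks: every isotropic vector of `(e_i ⊗ B) + (e_j ⊗ B)` is in `XSu` -/
theorem utpalltv_pair [Fintype F] (σ : F ≃+* F) (hσ : Inv2 σ)
    (M : Subgroup (Matrix.GeneralLinearGroup (Fin a × Fin b) F))
    (hpl : ∀ (u u' : Fin a → F), cj σ u ⬝ᵥ u = 0 → cj σ u' ⬝ᵥ u' = 0 → hf σ u u' ≠ 0 →
      ∀ m m' : Fin b → F, hf σ (ten u m + ten u' m') (ten u m + ten u' m') = 0 →
        ten u m + ten u' m' ∈ XSu σ M)
    (i j : Fin a) (hij : i ≠ j) (m m' : Fin b → F)
    (hiso : hf σ (ten (Pi.single i 1) m + ten (Pi.single j 1) m')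
      (ten (Pi.single i 1) m + ten (Pi.single j 1) m') = 0) :
    ten (Pi.single i 1) m + ten (Pi.single j 1) m' ∈ XSu σ M := by
  have hU := utpalltv_unitary σ hσ a
  obtain ⟨lam, hlam⟩ := Cfsg.Agent.Lib.Helper28.UForm.norm_surj hU (-1) (by rw [map_neg, map_one])
  obtain ⟨x, hx⟩ := hσ.moved
  have hx0 : x ≠ 0 := by
    rintro rfl
    exact hx (map_zero σ)
  have hsx0 : σ x ≠ 0 := by
    intro h
    apply hx0
    have := congrArg σ h
    rwa [hσ.invol, map_zero] at this
  set ε := x / σ x with hε
  have hε1 : ε ≠ 1 := by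
    intro h
    rw [hε, div_eq_one_iff_eq hsx0] at h
    exact hx h.symm
  have hεn : ε * σ ε = 1 := by
    rw [hε, map_div₀, hσ.invol]
    field_simp
  have hlam0 : lam ≠ 0 := by
    rintro rfl
    rw [zero_mul] at hlam
    exact one_ne_zero (neg_eq_zero.mp hlam.symm)
  have hsε1 : σ ε ≠ 1 := by
    intro h
    apply hε1
    have := congrArg σ h
    rwa [hσ.invol, map_one] at this
  set ei : Fin a → F := Pi.single i 1 with hei
  set ej : Fin a → F := Pi.single j 1 with hej
  have hii : hf σ ei ei = 1 := by rw [utpalltv_hf_single, if_pos rfl]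
  have hjj : hf σ ej ej = 1 := by rw [utpalltv_hf_single, if_pos rfl]
  have hijf : hf σ ei ej = 0 := by rw [utpalltv_hf_single, if_neg hij]
  have hjif : hf σ ej ei = 0 := by rw [utpalltv_hf_single, if_neg hij.symm]
  set u : Fin a → F := ei + lam • ej with hu
  set u' : Fin a → F := ei + (lam * ε) • ej with hu'
  have huu : hf σ u u = 0 := by
    rw [hu]
    simp only [hf_add_left, hf_add_right, hf_smul_left, hf_smul_right, hii, hjj, hijf, hjif]
    linear_combination hlam
  have hu'u' : hf σ u' u' = 0 := by
    rw [hu']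
    simp only [hf_add_left, hf_add_right, hf_smul_left, hf_smul_right, hii, hjj, hijf, hjif, map_mul]
    linear_combination (ε * σ ε) * hlam - hεn
  have huu' : hf σ u u' ≠ 0 := by
    rw [hu, hu']
    simp only [hf_add_left, hf_add_right, hf_smul_left, hf_smul_right, hii, hjj, hijf, hjif, map_mul]
    intro h
    apply hsε1
    have h2 : 1 - σ ε = 0 := by linear_combination h - σ ε * hlam
    exact (sub_eq_zero.mp h2).symm
  have h1ε : 1 - ε ≠ 0 := fun h => hε1 (sub_eq_zero.mp h).symm
  set δ := (lam * (1 - ε))⁻¹ with hδ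
  have hδ1 : lam * (1 - ε) * δ = 1 := by
    rw [hδ]
    exact mul_inv_cancel₀ (mul_ne_zero hlam0 h1ε)
  set m₁ : Fin b → F := δ • (m' - (lam * ε) • m) with hm₁
  set m₁' : Fin b → F := m - m₁ with hm₁'
  have heq : ten u m₁ + ten u' m₁' = ten ei m + ten ej m' := by
    rw [hu, hu', hm₁']
    simp only [ten_add_left, ten_smul_left]
    have e1 : ∀ z : Fin a → F, ten z (m - m₁) = ten z m - ten z m₁ := by
      intro z
      funext p
      simp only [ten, Pi.sub_apply]
      ring
    rw [e1, e1]
    have e2 : ten ej m₁ = δ • (ten ej m' - (lam * ε) • ten ej m) := by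
      rw [hm₁]
      funext p
      simp only [ten, Pi.smul_apply, Pi.sub_apply, smul_eq_mul]
      ring
    rw [e2]
    have e3 : ∀ (X Y Z : Fin a × Fin b → F),
        X + lam • (δ • (Y - (lam * ε) • Z)) + (ten ei m - X + (lam * ε) • (Z - δ • (Y - (lam * ε) • Z)))
          = ten ei m + (lam * (1 - ε) * δ) • Y + ((lam * ε) * (1 - lam * (1 - ε) * δ)) • Z := by
      intro X Y Z
      module
    rw [e3, hδ1]
    simp
  rw [← heq]
  apply hpl u u' ((iso_iff σ u).mpr huu) ((iso_iff σ u').mpr hu'u') huu'
  rw [heq]
  exact hiso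

/-- induction on the support (the argument of UD's UNION) -/
theorem utpalltv_union [Fintype F] (σ : F ≃+* F) (hσ : Inv2 σ) (ha : 2 ≤ a) (hb : 3 ≤ b)
    (M : Subgroup (Matrix.GeneralLinearGroup (Fin a × Fin b) F))
    (hpair : ∀ {y z : Fin a × Fin b → F}, y ∈ XSu σ M → z ∈ XSu σ M → hf σ y z ≠ 0 →
      σ (hf σ y z) = -hf σ y z → y + z ∈ XSu σ M)
    (hpl : ∀ (u u' : Fin a → F), cj σ u ⬝ᵥ u = 0 → cj σ u' ⬝ᵥ u' = 0 → hf σ u u' ≠ 0 →
      ∀ m m' : Fin b → F, hf σ (ten u m + ten u' m') (ten u m + ten u' m') = 0 →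
        ten u m + ten u' m' ∈ XSu σ M) (S : Finset (Fin a)) :
    ∀ c : Fin a → (Fin b → F), (∀ l, l ∉ S → c l = 0) →
      hf σ (∑ l, ten (Pi.single l 1) (c l)) (∑ l, ten (Pi.single l 1) (c l)) = 0 →
      ∑ l, ten (Pi.single l 1) (c l) ∈ XSu σ M := by
  classical
  have hten0 : ∀ z : Fin a → F, ten z (0 : Fin b → F) = 0 := by
    intro z
    funext p
    simp [ten]
  induction S using Finset.induction_on with
  | empty =>
    intro c hsupp hiso
    have : ∑ l, ten (Pi.single l 1) (c l) = 0 :=
      Finset.sum_eq_zero (fun l _ => by rw [hsupp l (Finset.notMem_empty l), hten0])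
    rw [this]
    exact utpalltv_zero_mem σ M
  | insert i S' hi ih =>
    intro c hsupp hiso
    by_cases hci : c i = 0
    · apply ih c _ hiso
      intro l hl
      by_cases hli : l = i
      · rw [hli]; exact hci
      · apply hsupp
        rw [Finset.mem_insert]
        push Not
        exact ⟨hli, hl⟩
    by_cases hex : ∃ j ∈ S', c j ≠ 0
    · obtain ⟨j, hjS, hcj⟩ := hex
      have hij : i ≠ j := fun h => hi (h ▸ hjS)
      set w := ∑ l, ten (Pi.single l 1) (c l) with hw
      set ν := hf σ (c i) (c i) with hν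
      have hνf : σ ν = ν := (hf_herm σ hσ (c i) (c i)).symm
      obtain ⟨ζ, hζ0, hζ⟩ := Cfsg.Agent.Lib.Helper28.UForm.exists_K0 (utpalltv_unitary σ hσ b)
      obtain ⟨x, hxc, hxx⟩ := utpalltv_real σ hσ hb (c j) hcj (ζ - ν) (-ν) (by rw [map_neg, hνf])
      set y₁ := ten (Pi.single i 1) (c i) + ten (Pi.single j 1) x with hy₁def
      -- products with the whole vector
      have hwi : ∀ m : Fin b → F, hf σ w (ten (Pi.single i 1) m) = hf σ (c i) m := by
        intro m
        rw [hw, utpalltv_hf_sum_left, Finset.sum_eq_single i]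
        · rw [utpalltv_hf_block, if_pos rfl]
        · intro l _ hl
          rw [utpalltv_hf_block, if_neg hl]
        · intro h; exact absurd (Finset.mem_univ i) h
      have hwj : ∀ m : Fin b → F, hf σ w (ten (Pi.single j 1) m) = hf σ (c j) m := by
        intro m
        rw [hw, utpalltv_hf_sum_left, Finset.sum_eq_single j]
        · rw [utpalltv_hf_block, if_pos rfl]
        · intro l _ hl
          rw [utpalltv_hf_block, if_neg hl]
        · intro h; exact absurd (Finset.mem_univ j) h
      have hjx : hf σ (c j) x = -ζ - ν := by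
        rw [hf_herm σ hσ, hxc, map_sub, hζ, hνf]
      have hy₁iso : hf σ y₁ y₁ = 0 := by
        rw [hy₁def]
        simp only [hf_add_left, hf_add_right, utpalltv_hf_block, if_neg hij, if_neg hij.symm, hxx,
          ← hν, if_true]
        ring
      have hy₁ : y₁ ∈ XSu σ M := utpalltv_pair σ hσ M hpl i j hij (c i) x hy₁iso
      have hwy : hf σ w y₁ = -ζ := by
        rw [hy₁def, hf_add_right, hwi, hwj, hjx]
        ring
      have hy₂ : w - y₁ ∈ XSu σ M := by
        set c' : Fin a → (Fin b → F) :=
          fun l => c l - (if l = i then c i else 0) - (if l = j then x else 0) with hc'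
        have hsum : ∑ l, ten (Pi.single l 1) (c' l) = w - y₁ := by
          have e1 : ∀ l, ten (Pi.single l 1 : Fin a → F) (c' l)
              = ten (Pi.single l 1) (c l) - (if l = i then ten (Pi.single i 1) (c i) else 0)
                - (if l = j then ten (Pi.single j 1) x else 0) := by
            intro l
            simp only [hc']
            by_cases hli : l = i
            · subst hli
              rw [if_pos rfl, if_pos rfl, if_neg hij, if_neg hij]
              funext p
              simp [ten]
            · by_cases hlj : l = j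
              · subst hlj
                rw [if_neg hli, if_neg hli, if_pos rfl, if_pos rfl]
                funext p
                simp only [ten, Pi.sub_apply, Pi.zero_apply]
                ring
              · rw [if_neg hli, if_neg hli, if_neg hlj, if_neg hlj]
                simp
          simp only [e1, Finset.sum_sub_distrib, Finset.sum_ite_eq', Finset.mem_univ, if_true]
          rw [hw, hy₁def]
          abel
        rw [← hsum]
        apply ih c'
        · intro l hl
          simp only [hc']
          have hlj : l ≠ j := fun h => hl (h ▸ hjS)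
          rw [if_neg hlj, sub_zero]
          by_cases hli : l = i
          · subst hli
            rw [if_pos rfl, sub_self]
          · rw [if_neg hli, sub_zero]
            apply hsupp
            rw [Finset.mem_insert]
            push Not
            exact ⟨hli, hl⟩
        · rw [hsum, hf_sub_left, hf_sub_right, hf_sub_right, hiso, hwy, hy₁iso, hf_herm σ hσ y₁ w, hwy,
            map_neg, hζ]
          ring
      have hprod : hf σ (w - y₁) y₁ = -ζ := by
        rw [hf_sub_left, hwy, hy₁iso, sub_zero]
      have := hpair hy₂ hy₁ (by rw [hprod]; exact neg_ne_zero.mpr hζ0)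
        (by rw [hprod, map_neg, hζ])
      rwa [sub_add_cancel] at this
    · -- only one component
      push Not at hex
      have hone : ∑ l, ten (Pi.single l 1) (c l) = ten (Pi.single i 1) (c i) := by
        rw [Finset.sum_eq_single i]
        · intro l _ hl
          have : c l = 0 := by
            by_cases hlS : l ∈ S'
            · exact hex l hlS
            · apply hsupp
              rw [Finset.mem_insert]
              push Not
              exact ⟨hl, hlS⟩
          rw [this, hten0]
        · intro h; exact absurd (Finset.mem_univ i) h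
      rw [hone] at hiso ⊢
      -- another index
      obtain ⟨j, hj⟩ : ∃ j : Fin a, i ≠ j := by
        by_cases h0 : i = ⟨0, by omega⟩
        · exact ⟨⟨1, by omega⟩, by rw [h0]; simp [Fin.ext_iff]⟩
        · exact ⟨⟨0, by omega⟩, h0⟩
      have := utpalltv_pair σ hσ M hpl i j hj (c i) 0 (by rw [hten0, add_zero]; exact hiso)
      rwa [hten0, add_zero] at this

/-- ALLTV core: `alltv_of_plane` with the statement of `xsu_pair` (at `Fin a × Fin b`) as a hypothesis -/
theorem utpalltv_core [Fintype F] (σ : F ≃+* F) (hσ : Inv2 σ) (ha : 2 ≤ a) (hb : 3 ≤ b)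
    (M : Subgroup (Matrix.GeneralLinearGroup (Fin a × Fin b) F))
    (hpair : ∀ {y z : Fin a × Fin b → F}, y ∈ XSu σ M → z ∈ XSu σ M → hf σ y z ≠ 0 →
      σ (hf σ y z) = -hf σ y z → y + z ∈ XSu σ M)
    (hpl : ∀ (u u' : Fin a → F), cj σ u ⬝ᵥ u = 0 → cj σ u' ⬝ᵥ u' = 0 → hf σ u u' ≠ 0 →
      ∀ m m' : Fin b → F, hf σ (ten u m + ten u' m') (ten u m + ten u' m') = 0 →
        ten u m + ten u' m' ∈ XSu σ M) : AllTv σ M := by
  intro y hy
  rw [utpalltv_decomp y] at hy ⊢
  exact utpalltv_union σ hσ ha hb M hpair hpl Finset.univ _ (fun l hl => absurd (Finset.mem_univ l) hl) hy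

end Cfsg.Agent.Lib.helper6.UTP
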