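import Mathlib
import Cfsg.Agent.Lib.helper6.UTP.Defs
import Cfsg.Agent.Lib.Helper11.UTPALLTVcore
import Cfsg.Agent.Lib.Helper18.UTPXSAPI

/-!
# UTP piece ALLTV (helper11): `alltv_of_plane` verbatim = `utpalltv_core` + `xsu_pair` (XSAPI, helper18)
-/

set_option autoImplicit false
set_option linter.unusedSectionVars false
set_option linter.unusedVariables false

namespace Cfsg.Agent.Lib.helper6.UTP

open Matrix
open scoped Kronecker
open Cfsg.Agent.Lib.helper7.TP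

variable {F : Type*} [Field F] {a b : ℕ}

theorem alltv_of_plane [Fintype F] (σ : F ≃+* F) (hσ : Inv2 σ) (ha : 2 ≤ a) (hb : 3 ≤ b)
    (hb4 : a = 2 ∨ 4 ≤ b)
    (M : Subgroup (Matrix.GeneralLinearGroup (Fin a × Fin b) F)) (hMS : M ≤ SUm σ (Fin a × Fin b))
    (hpl : ∀ (u u' : Fin a → F), cj σ u ⬝ᵥ u = 0 → cj σ u' ⬝ᵥ u' = 0 → hf σ u u' ≠ 0 →
      ∀ m m' : Fin b → F, hf σ (ten u m + ten u' m') (ten u m + ten u' m') = 0 →
        ten u m + ten u' m' ∈ XSu σ M) : AllTv σ M :=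
  utpalltv_core σ hσ ha hb M (fun hy hz hyz hskew => xsu_pair σ hσ M hy hz hyz hskew) hpl

end Cfsg.Agent.Lib.helper6.UTP
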