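import Mathlib
import Cfsg.Agent.Lib.helper6.UTP.Defs
import Cfsg.Agent.Lib.helper7.TP.MeetC
import Cfsg.Agent.Lib.Helper24.UTPISOSUB
import Cfsg.Agent.Lib.Helper22.UTPBTV

/-!
# UTP piece MEET, core (helper11)

`utpmeet_core` = `meet_u` of the UTP skeleton with the STATEMENTS of PGRP, NS, STAB, C1G (for the given `M`, `g`, `w₀`) as hypotheses.
Port of `helper7.TP.tpmeet_core`: `EL (c • 1) w w* = EL 1 w (c • w*)`, so every TP lemma on `B`-transvections applies.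
-/

set_option autoImplicit false
set_option linter.unusedSectionVars false
set_option linter.unusedVariables false

namespace Cfsg.Agent.Lib.helper6.UTP

open Matrix Module
open scoped Kronecker
open Cfsg.Agent.Lib.helper7.TP

variable {F : Type*} [Field F] {a b : ℕ}

/-- `ELm (c • 1) w ψ = ELm 1 w (c • ψ)` -/
theorem utpmeet_ELm_smul (c : F) (w ψ : Fin b → F) :
    ELm (c • (1 : Matrix (Fin a) (Fin a) F)) w ψ = ELm (1 : Matrix (Fin a) (Fin a) F) w (c • ψ) := by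
  unfold ELm
  rw [Matrix.smul_kronecker, ← Matrix.kronecker_smul, Matrix.vecMulVec_smul]

/-- `EL (c • 1) w ψ = EL 1 w (c • ψ)` -/
theorem utpmeet_EL_smul (c : F) (w ψ : Fin b → F) (h : ψ ⬝ᵥ w = 0) :
    EL (c • (1 : Matrix (Fin a) (Fin a) F)) w ψ h
      = EL (1 : Matrix (Fin a) (Fin a) F) w (c • ψ) (by rw [smul_dotProduct, h, smul_zero]) := by
  apply Units.ext
  rw [EL_coe, EL_coe, utpmeet_ELm_smul]

/-- a non-zero skew element -/
theorem utpmeet_skew (σ : F ≃+* F) (hσ : Inv2 σ) : ∃ c : F, c ≠ 0 ∧ σ c = -c := by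
  obtain ⟨x, hx⟩ := hσ.moved
  refine ⟨x - σ x, fun h => hx (sub_eq_zero.mp h).symm, ?_⟩
  rw [map_sub, hσ.invol]
  ring

theorem utpmeet_core [Fintype F] (p : ℕ) [Fact p.Prime] [CharP F p] (σ : F ≃+* F) (hσ : Inv2 σ)
    (ha : 1 ≤ a) (hb : 4 ≤ b)
    (M : Subgroup (Matrix.GeneralLinearGroup (Fin a × Fin b) F)) (hTM : T0u σ a b ≤ M)
    (g : Matrix.GeneralLinearGroup (Fin a × Fin b) F) (hg : g ∈ M) (hgK : g ∉ K0 a b F)
    (w₀ : Fin b → F) (hw₀ : w₀ ≠ 0) (h₀ : cj σ w₀ ⬝ᵥ w₀ = 0)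
    (hPG : ∀ Q : Subgroup (Matrix.GeneralLinearGroup (Fin a × Fin b) F), Q ≤ M → IsPGroup p Q →
      ∀ (c : F), σ c = -c → c ≠ 0 → ∀ (w : Fin b → F), w ≠ 0 → ∀ h : cj σ w ⬝ᵥ w = 0,
        EL (c • (1 : Matrix (Fin a) (Fin a) F)) w (cj σ w) h ∈ Q → Q ≤ K0 a b F)
    (hNS : ∀ w : Fin b → F, w ≠ 0 → cj σ w ⬝ᵥ w = 0 →
      (∀ u : Fin a → F,
        ctr (cj σ w) ((g : Matrix (Fin a × Fin b) (Fin a × Fin b) F) *ᵥ ten u w₀) = 0) →
      ∃ w₁ : Fin b → F, w₁ ≠ 0 ∧ ∀ u : Fin a → F, ∃ u' : Fin a → F,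
        (g : Matrix (Fin a × Fin b) (Fin a × Fin b) F) *ᵥ ten u w₀ = ten u' w₁)
    (hST : ∀ w₁ : Fin b → F, w₁ ≠ 0 →
      (∀ u : Fin a → F, ∃ u' : Fin a → F,
        (g : Matrix (Fin a × Fin b) (Fin a × Fin b) F) *ᵥ ten u w₀ = ten u' w₁) → g ∈ K0 a b F)
    (hC1 : ∀ t : Matrix.GeneralLinearGroup (Fin a × Fin b) F, t ∈ K0 a b F →
      ((t : Matrix (Fin a × Fin b) (Fin a × Fin b) F) - 1) *
        ((t : Matrix (Fin a × Fin b) (Fin a × Fin b) F) - 1) = 0 →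
      ((t : Matrix (Fin a × Fin b) (Fin a × Fin b) F) - 1).rank = a →
      ∃ w' : Fin b → F, w' ≠ 0 ∧ ∀ v : Fin a × Fin b → F,
        (∃ v' : Fin a × Fin b → F,
          v = ((t : Matrix (Fin a × Fin b) (Fin a × Fin b) F) - 1) *ᵥ v') ↔ v ∈ Bline (a := a) w')
    (w : Fin b → F) (hw : w ≠ 0) (h : cj σ w ⬝ᵥ w = 0) (u : Fin a → F)
    (hv : ctr (cj σ w₀) (((g⁻¹ : Matrix.GeneralLinearGroup (Fin a × Fin b) F) :
      Matrix (Fin a × Fin b) (Fin a × Fin b) F) *ᵥ ten u w) = 0) :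
    ∃ u₀ : Fin a → F,
      ten u w = (g : Matrix (Fin a × Fin b) (Fin a × Fin b) F) *ᵥ ten u₀ w₀ := by
  classical
  obtain ⟨c₀, hc₀, hc₀s⟩ := utpmeet_skew σ hσ
  -- the covectors
  set ψ₀ : Fin b → F := c₀ • cj σ w₀ with hψ₀def
  set ψ : Fin b → F := c₀ • cj σ w with hψdef
  have hψ₀0 : ψ₀ ≠ 0 := smul_ne_zero hc₀ (fun h => hw₀ ((cj_eq_zero σ).mp h))
  have hψ0 : ψ ≠ 0 := smul_ne_zero hc₀ (fun h => hw ((cj_eq_zero σ).mp h))
  have hψ₀w : ψ₀ ⬝ᵥ w₀ = 0 := by rw [hψ₀def, smul_dotProduct, h₀, smul_zero]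
  have hψw : ψ ⬝ᵥ w = 0 := by rw [hψdef, smul_dotProduct, h, smul_zero]
  set x₀ : Matrix.GeneralLinearGroup (Fin a × Fin b) F :=
    EL (1 : Matrix (Fin a) (Fin a) F) w₀ ψ₀ hψ₀w with hx₀
  set x : Matrix.GeneralLinearGroup (Fin a × Fin b) F :=
    EL (1 : Matrix (Fin a) (Fin a) F) w ψ hψw with hx
  have hx₀' : x₀ = EL (c₀ • (1 : Matrix (Fin a) (Fin a) F)) w₀ (cj σ w₀) h₀ :=
    (utpmeet_EL_smul c₀ w₀ (cj σ w₀) h₀).symm
  have hx' : x = EL (c₀ • (1 : Matrix (Fin a) (Fin a) F)) w (cj σ w) h :=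
    (utpmeet_EL_smul c₀ w (cj σ w) h).symm
  set y : Matrix.GeneralLinearGroup (Fin a × Fin b) F := g * x₀ * g⁻¹ with hy
  have hx₀M : x₀ ∈ M := by rw [hx₀']; exact hTM (btv_mem σ hσ c₀ hc₀s w₀ h₀)
  have hxM : x ∈ M := by rw [hx']; exact hTM (btv_mem σ hσ c₀ hc₀s w h)
  have hyM : y ∈ M := M.mul_mem (M.mul_mem hg hx₀M) (M.inv_mem hg)
  have hxp : x ^ p = 1 := tpmeet_EL_pow_char p 1 w ψ hψw
  have hyp : y ^ p = 1 := by
    rw [hy, conj_pow, hx₀, tpmeet_EL_pow_char p 1 w₀ ψ₀ hψ₀w, mul_one, mul_inv_cancel]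
  -- the vector `v = u ⊗ w` is fixed by `x` and `y`
  have hxv : (x : Matrix (Fin a × Fin b) (Fin a × Fin b) F) *ᵥ ten u w = ten u w := by
    rw [hx, EL_coe, ELm_mulVec, ctr_ten, hψw, zero_smul, Matrix.mulVec_zero, tpmeet_ten_zero,
      add_zero]
  have hctr_smul : ∀ z : Fin a × Fin b → F, ctr ψ₀ z = c₀ • ctr (cj σ w₀) z := by
    intro z
    funext i
    simp only [ctr, hψ₀def, Pi.smul_apply, smul_eq_mul, Finset.mul_sum]
    apply Finset.sum_congr rfl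
    intro j _
    ring
  have hyv : (y : Matrix (Fin a × Fin b) (Fin a × Fin b) F) *ᵥ ten u w = ten u w := by
    have := tpmeet_conj_EL_move g w₀ ψ₀ hψ₀w (ten u w)
    rw [hctr_smul, hv, smul_zero, tpmeet_ten_zero, Matrix.mulVec_zero, sub_eq_zero] at this
    exact this
  -- how `x` and `y` move vectors
  have hxmove : ∀ z : Fin a × Fin b → F,
      (x : Matrix (Fin a × Fin b) (Fin a × Fin b) F) *ᵥ z - z ∈ Bline (a := a) w := by
    intro z
    refine ⟨ctr ψ z, ?_⟩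
    rw [hx, EL_coe, ELm_mulVec, Matrix.one_mulVec, add_sub_cancel_left]
  set S : Submodule F (Fin a × Fin b → F) :=
    (Bline (a := a) w₀).map (g : Matrix (Fin a × Fin b) (Fin a × Fin b) F).mulVecLin with hS
  have hymove : ∀ z : Fin a × Fin b → F,
      (y : Matrix (Fin a × Fin b) (Fin a × Fin b) F) *ᵥ z - z ∈ S := by
    intro z
    rw [hy, hx₀, tpmeet_conj_EL_move]
    exact ⟨_, ⟨_, rfl⟩, rfl⟩
  -- Sylow
  obtain ⟨P, d, hP, hPD, hdD, hxP, htP⟩ := tpmeet_sylow p x y hxp hyp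
  have hDM : Subgroup.closure {x, y} ≤ M := by
    rw [Subgroup.closure_le]
    rintro z (rfl | hz)
    · exact hxM
    · rw [Set.mem_singleton_iff] at hz
      subst hz
      exact hyM
  have hPK : P ≤ K0 a b F :=
    hPG P (hPD.trans hDM) hP c₀ hc₀s hc₀ w hw h (by rw [← hx']; exact hxP)
  have htK : d * y * d⁻¹ ∈ K0 a b F := hPK htP
  have ht_eq : d * y * d⁻¹ = (d * g) * x₀ * (d * g)⁻¹ := by
    rw [hy]
    group
  rw [ht_eq] at htK
  -- `C1`
  have hsq := tpmeet_conj_sq_zero (d * g) x₀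
    (by rw [hx₀, EL_coe]; exact tpmeet_ELm_sub_one_sq w₀ ψ₀ hψ₀w)
  have hrk : (((d * g * x₀ * (d * g)⁻¹ : Matrix.GeneralLinearGroup (Fin a × Fin b) F) :
      Matrix (Fin a × Fin b) (Fin a × Fin b) F) - 1).rank = a := by
    rw [tpmeet_conj_rank, hx₀, EL_coe, tpmeet_rank_ELm_sub_one w₀ ψ₀ hw₀ hψ₀0]
  obtain ⟨w', hw', hw'img⟩ := hC1 _ htK hsq hrk
  have himg : ∀ v : Fin a × Fin b → F, v ∈ Bline (a := a) w' ↔
      ∃ u₁ : Fin a → F, v = (d : Matrix (Fin a × Fin b) (Fin a × Fin b) F) *ᵥ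
        ((g : Matrix (Fin a × Fin b) (Fin a × Fin b) F) *ᵥ ten u₁ w₀) := by
    intro v
    rw [← hw'img v, hx₀, tpmeet_conj_EL_range (d * g) w₀ ψ₀ hψ₀w hψ₀0 v]
    simp only [Units.val_mul, Matrix.mulVec_mulVec]
  have hdinv : d⁻¹ ∈ Subgroup.closure {x, y} := Subgroup.inv_mem _ hdD
  by_cases hdep : ∃ c : F, w' = c • w
  · -- `w'` is a multiple of `w`
    obtain ⟨c, rfl⟩ := hdep
    have hc : c ≠ 0 := by
      rintro rfl
      exact hw' (zero_smul _ _)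
    have hmem : ten u w ∈ Bline (a := a) (c • w) := by
      refine ⟨c⁻¹ • u, ?_⟩
      rw [ten_smul_left, ten_smul_right, smul_smul, inv_mul_cancel₀ hc, one_smul]
    obtain ⟨u₁, hu₁⟩ := (himg _).mp hmem
    refine ⟨u₁, ?_⟩
    have hfix := tpmeet_closure_fix x y (ten u w) hxv hyv d⁻¹ hdinv
    rw [← hfix]
    conv_lhs => rw [hu₁]
    rw [Matrix.mulVec_mulVec, ← Units.val_mul, inv_mul_cancel, Units.val_one, Matrix.one_mulVec]
  · -- `w, w'` independent: contradiction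
    exfalso
    have hmove := tpmeet_closure_move x y (Bline (a := a) w) S hxmove hymove d hdD
    have hle : Bline (a := a) w' ≤ Bline (a := a) w ⊔ S := by
      intro l' hl'
      obtain ⟨u₁, rfl⟩ := (himg l').mp hl'
      have hsS : (g : Matrix (Fin a × Fin b) (Fin a × Fin b) F) *ᵥ ten u₁ w₀ ∈ S :=
        ⟨_, ⟨_, rfl⟩, rfl⟩
      have := Submodule.add_mem _
        (hmove ((g : Matrix (Fin a × Fin b) (Fin a × Fin b) F) *ᵥ ten u₁ w₀))
        (Submodule.mem_sup_right hsS)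
      rwa [sub_add_cancel] at this
    have hSfin : finrank F S ≤ a :=
      (Submodule.finrank_map_le _ _).trans (tpmeet_finrank_Bline (a := a) w₀ hw₀).le
    have hSle := tpmeet_le_sup_of_finrank (Bline (a := a) w) (Bline (a := a) w') S a
      (tpmeet_finrank_Bline w hw) (tpmeet_finrank_Bline w' hw') hSfin
      (tpmeet_Bline_inf w w' hw hdep) hle
    -- an isotropic vector perpendicular to `w` and `w'`
    let φ : (Fin b → F) →ₗ[F] (F × F) :=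
      { toFun := fun z => (z ⬝ᵥ cj σ w, z ⬝ᵥ cj σ w')
        map_add' := fun z z' => by simp [add_dotProduct]
        map_smul' := fun c z => by simp [smul_dotProduct] }
    have hker : 2 ≤ finrank F (LinearMap.ker φ) := by
      have h1 := LinearMap.finrank_range_add_finrank_ker φ
      have h2 : finrank F (LinearMap.range φ) ≤ 2 := by
        have := Submodule.finrank_le (LinearMap.range φ)
        rwa [Module.finrank_prod, Module.finrank_self] at this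
      rw [Module.finrank_fin_fun] at h1
      omega
    obtain ⟨w'', hw''ker, hw''0, hw''iso⟩ := exists_iso_in σ hσ (LinearMap.ker φ) hker
    have hφ : φ w'' = 0 := hw''ker
    have hw''w : cj σ w'' ⬝ᵥ w = 0 := by
      have h1 : w'' ⬝ᵥ cj σ w = 0 := congrArg Prod.fst hφ
      have h2 : hf σ w'' w = 0 := h1
      have h3 := hf_herm σ hσ w w''
      rw [h2, map_zero] at h3
      rw [dotProduct_comm]
      exact h3
    have hw''w' : cj σ w'' ⬝ᵥ w' = 0 := by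
      have h1 : w'' ⬝ᵥ cj σ w' = 0 := congrArg Prod.snd hφ
      have h2 : hf σ w'' w' = 0 := h1
      have h3 := hf_herm σ hσ w' w''
      rw [h2, map_zero] at h3
      rw [dotProduct_comm]
      exact h3
    have hkill : ∀ u₁ : Fin a → F,
        ctr (cj σ w'') ((g : Matrix (Fin a × Fin b) (Fin a × Fin b) F) *ᵥ ten u₁ w₀) = 0 := by
      intro u₁
      have hsS : (g : Matrix (Fin a × Fin b) (Fin a × Fin b) F) *ᵥ ten u₁ w₀ ∈ S :=
        ⟨_, ⟨_, rfl⟩, rfl⟩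
      obtain ⟨l, ⟨u₂, rfl⟩, l', ⟨u₃, rfl⟩, hsum⟩ := Submodule.mem_sup.mp (hSle hsS)
      rw [← hsum, ctr_add, ctr_ten, ctr_ten, hw''w, hw''w', zero_smul, zero_smul, add_zero]
    obtain ⟨w₁, hw₁, hw₁img⟩ := hNS w'' hw''0 hw''iso hkill
    exact hgK (hST w₁ hw₁ hw₁img)

end Cfsg.Agent.Lib.helper6.UTP
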