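import Mathlib
import Cfsg.Agent.Lib.helper6.UTP.Defs

/-!
# UTP STAB, back end (`utpstab11_beta`)

A pure `B`-space lemma: `w, w2` a hyperbolic pair, `Gam` a matrix fixing `w`, preserving `w^⊥` and a similitude of
ratio `lam⁻¹` on `w^⊥`; `nu σ(nu) lam = 1`.  Then there is an isometry `β` of `B` with `β w = nu⁻¹ w` and
`β y ≡ nu⁻¹ Gam y (mod w)` on `w^⊥`.
-/

set_option autoImplicit false
set_option linter.unusedSectionVars false
set_option linter.unusedVariables false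

namespace Cfsg.Agent.Lib.Helper11

open Matrix
open Cfsg.Agent.Lib.helper6.UTP

variable {F : Type*} [Field F]

/-- `y ↦ hf y w` as a linear functional. -/
def utpstab11_hfL (σ : F ≃+* F) {ι : Type*} [Fintype ι] (w : ι → F) : (ι → F) →ₗ[F] F where
  toFun y := hf σ y w
  map_add' x y := hf_add_left σ x y w
  map_smul' c x := by simp [hf_smul_left]

@[simp] theorem utpstab11_hfL_apply (σ : F ≃+* F) {ι : Type*} [Fintype ι] (w y : ι → F) :
    utpstab11_hfL σ w y = hf σ y w := rfl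

/-- the projection onto `⟨w, w2⟩^⊥` for a hyperbolic pair `w, w2`. -/
def utpstab11_P0 (σ : F ≃+* F) {ι : Type*} [Fintype ι] (w w2 : ι → F) : (ι → F) →ₗ[F] (ι → F) :=
  LinearMap.id - (utpstab11_hfL σ w2).smulRight w - (utpstab11_hfL σ w).smulRight w2

theorem utpstab11_P0_apply (σ : F ≃+* F) {ι : Type*} [Fintype ι] (w w2 z : ι → F) :
    utpstab11_P0 σ w w2 z = z - hf σ z w2 • w - hf σ z w • w2 := by
  simp [utpstab11_P0]

section pair
variable (σ : F ≃+* F) (hσ : Inv2 σ) {ι : Type*} [Fintype ι] (w w2 : ι → F)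
  (hw : hf σ w w = 0) (hw2 : hf σ w2 w2 = 0) (h12 : hf σ w2 w = 1)

include hσ h12 in
theorem utpstab11_h21 : hf σ w w2 = 1 := by
  rw [hf_herm σ hσ, h12, map_one]

include hσ hw h12 in
theorem utpstab11_P0_w (z : ι → F) : hf σ (utpstab11_P0 σ w w2 z) w = 0 := by
  rw [utpstab11_P0_apply]
  simp only [hf_sub_left, hf_smul_left, hw, h12]
  ring

include hσ hw2 h12 in
theorem utpstab11_P0_w2 (z : ι → F) : hf σ (utpstab11_P0 σ w w2 z) w2 = 0 := by
  rw [utpstab11_P0_apply]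
  simp only [hf_sub_left, hf_smul_left, hw2, utpstab11_h21 σ hσ w w2 h12]
  ring

include hσ hw h12 in
theorem utpstab11_w_P0 (z : ι → F) : hf σ w (utpstab11_P0 σ w w2 z) = 0 := by
  rw [hf_herm σ hσ, utpstab11_P0_w σ hσ w w2 hw h12, map_zero]

include hσ hw2 h12 in
theorem utpstab11_w2_P0 (z : ι → F) : hf σ w2 (utpstab11_P0 σ w w2 z) = 0 := by
  rw [hf_herm σ hσ, utpstab11_P0_w2 σ hσ w w2 hw2 h12, map_zero]

theorem utpstab11_P0_perp (z : ι → F) (hz : hf σ z w = 0) :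
    utpstab11_P0 σ w w2 z = z - hf σ z w2 • w := by
  rw [utpstab11_P0_apply, hz, zero_smul, sub_zero]

include hσ hw hw2 h12 in
theorem utpstab11_P0_P0 (y y' : ι → F) :
    hf σ (utpstab11_P0 σ w w2 y) (utpstab11_P0 σ w w2 y')
      = hf σ y y' - hf σ y w2 * hf σ w y' - hf σ y w * hf σ w2 y' := by
  have h1 : hf σ (utpstab11_P0 σ w w2 y) (utpstab11_P0 σ w w2 y')
      = hf σ y (utpstab11_P0 σ w w2 y') := by
    conv_lhs => rw [utpstab11_P0_apply σ w w2 y]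
    simp only [hf_sub_left, hf_smul_left, utpstab11_w_P0 σ hσ w w2 hw h12,
      utpstab11_w2_P0 σ hσ w w2 hw2 h12]
    ring
  rw [h1, utpstab11_P0_apply]
  simp only [hf_sub_right, hf_smul_right]
  rw [hf_herm σ hσ w y', hf_herm σ hσ w2 y']
  ring

end pair

section main
variable (σ : F ≃+* F) (hσ : Inv2 σ) {b : ℕ} (w w2 : Fin b → F)
  (hw : hf σ w w = 0) (hw2 : hf σ w2 w2 = 0) (h12 : hf σ w2 w = 1)
  (Gam : Matrix (Fin b) (Fin b) F) (hGw : Gam *ᵥ w = w)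
  (hGp : ∀ y, hf σ y w = 0 → hf σ (Gam *ᵥ y) w = 0)

/-- the candidate isometry as a linear map. -/
def utpstab11_betaL (nu : F) : (Fin b → F) →ₗ[F] (Fin b → F) :=
  nu⁻¹ • (utpstab11_hfL σ w2).smulRight w + σ nu • (utpstab11_hfL σ w).smulRight w2
    + nu⁻¹ • ((utpstab11_P0 σ w w2).comp (Gam.mulVecLin.comp (utpstab11_P0 σ w w2)))

theorem utpstab11_betaL_apply (nu : F) (y : Fin b → F) :
    utpstab11_betaL σ w w2 Gam nu y
      = (nu⁻¹ * hf σ y w2) • w + (σ nu * hf σ y w) • w2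
        + nu⁻¹ • utpstab11_P0 σ w w2 (Gam *ᵥ (utpstab11_P0 σ w w2 y)) := by
  simp [utpstab11_betaL, mul_smul]

include hσ hw hw2 h12 hGp in
theorem utpstab11_betaL_iso (lam nu : F)
    (hsim : ∀ z z', hf σ z w = 0 → hf σ z' w = 0 →
      lam * hf σ (Gam *ᵥ z) (Gam *ᵥ z') = hf σ z z')
    (hnu : nu * σ nu * lam = 1) (y y' : Fin b → F) :
    hf σ (utpstab11_betaL σ w w2 Gam nu y) (utpstab11_betaL σ w w2 Gam nu y') = hf σ y y' := by
  have h21 := utpstab11_h21 σ hσ w w2 h12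
  have hnu0 : nu ≠ 0 := by
    rintro rfl
    simp at hnu
  have hsnu0 : σ nu ≠ 0 := by
    intro h
    rw [h] at hnu
    simp at hnu
  have hlam0 : lam ≠ 0 := by
    rintro rfl
    simp at hnu
  have hpw : hf σ (utpstab11_P0 σ w w2 y) w = 0 := utpstab11_P0_w σ hσ w w2 hw h12 y
  have hpw' : hf σ (utpstab11_P0 σ w w2 y') w = 0 := utpstab11_P0_w σ hσ w w2 hw h12 y'
  have hG : hf σ (Gam *ᵥ (utpstab11_P0 σ w w2 y)) w = 0 := hGp _ hpw
  have hG' : hf σ (Gam *ᵥ (utpstab11_P0 σ w w2 y')) w = 0 := hGp _ hpw'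
  -- the `H^⊥`-components
  have hCC : hf σ (utpstab11_P0 σ w w2 (Gam *ᵥ (utpstab11_P0 σ w w2 y)))
      (utpstab11_P0 σ w w2 (Gam *ᵥ (utpstab11_P0 σ w w2 y')))
      = hf σ (Gam *ᵥ (utpstab11_P0 σ w w2 y)) (Gam *ᵥ (utpstab11_P0 σ w w2 y')) := by
    rw [utpstab11_P0_P0 σ hσ w w2 hw hw2 h12, hG,
      hf_herm σ hσ w (Gam *ᵥ (utpstab11_P0 σ w w2 y')), hG', map_zero]
    ring
  have hs := hsim _ _ hpw hpw'
  have hpp := utpstab11_P0_P0 σ hσ w w2 hw hw2 h12 y y'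
  have hX : hf σ (Gam *ᵥ (utpstab11_P0 σ w w2 y)) (Gam *ᵥ (utpstab11_P0 σ w w2 y'))
      = nu * σ nu * hf σ (utpstab11_P0 σ w w2 y) (utpstab11_P0 σ w w2 y') := by
    linear_combination (nu * σ nu) * hs
      - hf σ (Gam *ᵥ (utpstab11_P0 σ w w2 y)) (Gam *ᵥ (utpstab11_P0 σ w w2 y')) * hnu
  rw [utpstab11_betaL_apply, utpstab11_betaL_apply]
  simp only [hf_add_left, hf_add_right, hf_smul_left, hf_smul_right, hw, hw2, h12, h21,
    utpstab11_w_P0 σ hσ w w2 hw h12, utpstab11_w2_P0 σ hσ w w2 hw2 h12,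
    utpstab11_P0_w σ hσ w w2 hw h12, utpstab11_P0_w2 σ hσ w w2 hw2 h12, map_mul, map_inv₀,
    hσ.invol]
  rw [hCC, hX, hpp, hf_herm σ hσ w y', hf_herm σ hσ w2 y']
  field_simp
  ring

include hσ hw hw2 h12 hGw hGp in
/-- **UTP STAB, back end.** -/
theorem utpstab11_beta (lam nu : F)
    (hsim : ∀ z z', hf σ z w = 0 → hf σ z' w = 0 →
      lam * hf σ (Gam *ᵥ z) (Gam *ᵥ z') = hf σ z z')
    (hnu : nu * σ nu * lam = 1) :
    ∃ β : Matrix.GeneralLinearGroup (Fin b) F, β ∈ GUm σ (Fin b) ∧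
      (β : Matrix (Fin b) (Fin b) F) *ᵥ w = nu⁻¹ • w ∧
      ∀ y, hf σ y w = 0 →
        ∃ c : F, (β : Matrix (Fin b) (Fin b) F) *ᵥ y = nu⁻¹ • (Gam *ᵥ y) + c • w := by
  have h21 := utpstab11_h21 σ hσ w w2 h12
  have hiso := utpstab11_betaL_iso σ hσ w w2 hw hw2 h12 Gam hGp lam nu hsim hnu
  set L := utpstab11_betaL σ w w2 Gam nu with hL
  have hinj : Function.Injective (LinearMap.toMatrix' L).mulVec := by
    intro y y' hyy
    simp only [LinearMap.toMatrix'_mulVec] at hyy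
    have : y - y' = 0 := by
      apply hf_nondeg' σ hσ
      intro z
      rw [← hiso (y - y') z, map_sub, hyy, sub_self, hf_zero_left]
    exact sub_eq_zero.mp this
  have hunit : IsUnit (LinearMap.toMatrix' L) := Matrix.mulVec_injective_iff_isUnit.mp hinj
  refine ⟨hunit.unit, ?_, ?_, ?_⟩
  · rw [mem_GUm]
    intro x y
    rw [IsUnit.unit_spec, LinearMap.toMatrix'_mulVec, LinearMap.toMatrix'_mulVec]
    exact hiso x y
  · rw [IsUnit.unit_spec, LinearMap.toMatrix'_mulVec, hL, utpstab11_betaL_apply]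
    have hP : utpstab11_P0 σ w w2 w = 0 := by
      rw [utpstab11_P0_apply, h21, hw]
      simp
    rw [hP, Matrix.mulVec_zero, map_zero, smul_zero, hw, h21]
    simp
  · intro y hy
    refine ⟨nu⁻¹ * hf σ y w2 - nu⁻¹ * hf σ (Gam *ᵥ y) w2, ?_⟩
    rw [IsUnit.unit_spec, LinearMap.toMatrix'_mulVec, hL, utpstab11_betaL_apply]
    have hP : utpstab11_P0 σ w w2 y = y - hf σ y w2 • w := utpstab11_P0_perp σ w w2 y hy
    have hGy : Gam *ᵥ (y - hf σ y w2 • w) = Gam *ᵥ y - hf σ y w2 • w := by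
      rw [Matrix.mulVec_sub, Matrix.mulVec_smul, hGw]
    have hperp : hf σ (Gam *ᵥ y - hf σ y w2 • w) w = 0 := by
      rw [hf_sub_left, hf_smul_left, hGp y hy, hw]
      ring
    rw [hP, hGy, utpstab11_P0_perp σ w w2 _ hperp, hy, hf_sub_left, hf_smul_left, h21]
    module

end main

end Cfsg.Agent.Lib.Helper11
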