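import Mathlib
import Cfsg.Agent.Lib.helper6.UTP.Defs
import Cfsg.Agent.Lib.Helper11.UTPMEETcore
import Cfsg.Agent.Lib.Helper22.UTPC1G
import Cfsg.Agent.Lib.Helper27.UTPPGRPcore
import Cfsg.Agent.Lib.Helper19.UTPNS
import Cfsg.Agent.Lib.Helper19.UTPSTAB

/-!
# UTP piece MEET (helper11): `meet_u` verbatim = `utpmeet_core` + PGRP (core) + NS + STAB + C1G
-/

set_option autoImplicit false
set_option linter.unusedSectionVars false
set_option linter.unusedVariables false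

namespace Cfsg.Agent.Lib.helper6.UTP

open Matrix
open scoped Kronecker
open Cfsg.Agent.Lib.helper7.TP

variable {F : Type*} [Field F] {a b : ℕ}

theorem meet_u [Fintype F] (p : ℕ) [Fact p.Prime] [CharP F p] (σ : F ≃+* F) (hσ : Inv2 σ)
    (ha : 1 ≤ a) (hb : 4 ≤ b) (hdiv : ¬ b ∣ a)
    (M : Subgroup (Matrix.GeneralLinearGroup (Fin a × Fin b) F)) (hTM : T0u σ a b ≤ M)
    (hMS : M ≤ SUm σ (Fin a × Fin b)) (hNT : NTu σ M)
    (g : Matrix.GeneralLinearGroup (Fin a × Fin b) F) (hg : g ∈ M) (hgK : g ∉ K0 a b F)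
    (w₀ : Fin b → F) (hw₀ : w₀ ≠ 0) (h₀ : cj σ w₀ ⬝ᵥ w₀ = 0)
    (w : Fin b → F) (hw : w ≠ 0) (h : cj σ w ⬝ᵥ w = 0) (u : Fin a → F)
    (hv : ctr (cj σ w₀) (((g⁻¹ : Matrix.GeneralLinearGroup (Fin a × Fin b) F) :
      Matrix (Fin a × Fin b) (Fin a × Fin b) F) *ᵥ ten u w) = 0) :
    ∃ u₀ : Fin a → F,
      ten u w = (g : Matrix (Fin a × Fin b) (Fin a × Fin b) F) *ᵥ ten u₀ w₀ :=
  utpmeet_core p σ hσ ha hb M hTM g hg hgK w₀ hw₀ h₀
    (fun Q hQM hQ c hc hc0 w hw h hx =>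
      utppgrp_core p σ hσ ha (by omega) hdiv M hTM hMS hNT
        (fun t ht hsq hrk => sqzero_kron_gen ha (by omega) hdiv t ht hsq hrk)
        (fun w w' hw hw' h g hg hl => stab_u σ hσ ha (by omega) M hTM hMS hNT w w' hw hw' h g hg hl)
        Q hQM hQ c hc hc0 w hw h hx)
    (fun w hw h hp => ns_u σ hσ ha (by omega) hdiv M hTM hMS hNT g hg w₀ w hw₀ hw h₀ h hp)
    (fun w₁ hw₁ hl => stab_u σ hσ ha (by omega) M hTM hMS hNT w₀ w₁ hw₀ hw₁ h₀ g hg hl)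
    (fun t ht hsq hrk => sqzero_kron_gen ha (by omega) hdiv t ht hsq hrk)
    w hw h u hv

end Cfsg.Agent.Lib.helper6.UTP
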