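import Mathlib
import Cfsg.Agent.Lib.helper6.UTP.Defs
import Cfsg.Agent.Lib.Helper11.UTPMEETcore
import Cfsg.Agent.Lib.Helper24.UTPSWAP
import Cfsg.Agent.Lib.Helper22.UTPC1G

/-!
# UTP piece NEAR, core (helper11): `b = a + 1`, `a ≥ 4`

`utpnear_core` : for `g ∈ M`, the statements of PGRP (in the SWAPPED model, for `M.map swp`) and of NOISO (for `M`, `g`, `w₀`) are contradictory.
(`x` = the `A`-transvection at an isotropic `u`, defined as `swp⁻¹ (EL (c₀ • 1) u u*)`; `y = g x₀ g⁻¹`; Sylow in `⟨x, y⟩`; PGRP swapped: `P ≤ K0`;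
C1G: `d S = A ⊗ w'`; `A ⊗ w' ≤ S + u ⊗ B`; an element `s = ten u' w' - ten u z ≠ 0` of `S` killed by `ctr w*`, `w` isotropic.)
-/

set_option autoImplicit false
set_option linter.unusedSectionVars false
set_option linter.unusedVariables false

namespace Cfsg.Agent.Lib.helper6.UTP

open Matrix Module
open scoped Kronecker
open Cfsg.Agent.Lib.helper7.TP

variable {F : Type*} [Field F] {a b : ℕ}

/-- the `A`-line `u ⊗ B` -/
def utpnear_Aline (u : Fin a → F) : Submodule F (Fin a × Fin b → F) :=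
  LinearMap.range
    ({ toFun := fun m => ten u m
       map_add' := fun m m' => ten_add_right u m m'
       map_smul' := fun c m => ten_smul_right c u m } : (Fin b → F) →ₗ[F] (Fin a × Fin b → F))

theorem utpnear_mem_Aline (u : Fin a → F) (v : Fin a × Fin b → F) :
    v ∈ utpnear_Aline (b := b) u ↔ ∃ m : Fin b → F, ten u m = v := Iff.rfl

theorem utpnear_swv_add (v v' : Fin a × Fin b → F) : swv (v + v') = swv v + swv v' := by
  funext p
  simp [swv]

theorem utpnear_swv_inj {v v' : Fin a × Fin b → F} (h : swv v = swv v') : v = v' := by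
  funext p
  have := congrFun h p.swap
  simpa [swv] using this

/-- an isotropic non-zero vector perpendicular to two given vectors (`k ≥ 4`) -/
theorem utpnear_iso_perp2 [Finite F] (σ : F ≃+* F) (hσ : Inv2 σ) {k : ℕ} (hk : 4 ≤ k) (w' z : Fin k → F) :
    ∃ w : Fin k → F, w ≠ 0 ∧ cj σ w ⬝ᵥ w = 0 ∧ cj σ w ⬝ᵥ w' = 0 ∧ cj σ w ⬝ᵥ z = 0 := by
  let φ : (Fin k → F) →ₗ[F] (F × F) :=
    { toFun := fun y => (y ⬝ᵥ cj σ w', y ⬝ᵥ cj σ z)
      map_add' := fun y y' => by simp [add_dotProduct]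
      map_smul' := fun c y => by simp [smul_dotProduct] }
  have hker : 2 ≤ finrank F (LinearMap.ker φ) := by
    have h1 := LinearMap.finrank_range_add_finrank_ker φ
    have h2 : finrank F (LinearMap.range φ) ≤ 2 := by
      have := Submodule.finrank_le (LinearMap.range φ)
      rwa [Module.finrank_prod, Module.finrank_self] at this
    rw [Module.finrank_fin_fun] at h1
    omega
  obtain ⟨w, hwker, hw0, hwiso⟩ := exists_iso_in σ hσ (LinearMap.ker φ) hker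
  have hφ : φ w = 0 := hwker
  refine ⟨w, hw0, hwiso, ?_, ?_⟩
  · have h1 : w ⬝ᵥ cj σ w' = 0 := congrArg Prod.fst hφ
    have h2 : hf σ w w' = 0 := h1
    have h3 := hf_herm σ hσ w' w
    rw [h2, map_zero] at h3
    rw [dotProduct_comm]
    exact h3
  · have h1 : w ⬝ᵥ cj σ z = 0 := congrArg Prod.snd hφ
    have h2 : hf σ w z = 0 := h1
    have h3 := hf_herm σ hσ z w
    rw [h2, map_zero] at h3
    rw [dotProduct_comm]
    exact h3

/-- a vector outside the line of `u` (`k ≥ 2`) -/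
theorem utpnear_exists_indep {k : ℕ} (hk : 2 ≤ k) (u : Fin k → F) : ∃ u' : Fin k → F, ∀ c : F, u' ≠ c • u := by
  by_contra hcon
  push Not at hcon
  have htop : (⊤ : Submodule F (Fin k → F)) ≤ Submodule.span F {u} := by
    intro u' _
    obtain ⟨c, hc⟩ := hcon u'
    rw [hc]
    exact Submodule.smul_mem _ _ (Submodule.mem_span_singleton_self u)
  have h1 := Submodule.finrank_mono htop
  have h2 : finrank F (Submodule.span F {u}) ≤ 1 :=
    (finrank_span_le_card ({u} : Set (Fin k → F))).trans (by simp)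
  rw [finrank_top, Module.finrank_fin_fun] at h1
  omega

theorem utpnear_core [Fintype F] (p : ℕ) [Fact p.Prime] [CharP F p] (σ : F ≃+* F) (hσ : Inv2 σ)
    (ha : 4 ≤ a) (hab : b = a + 1)
    (M : Subgroup (Matrix.GeneralLinearGroup (Fin a × Fin b) F)) (hTM : T0u σ a b ≤ M)
    (hPG' : ∀ Q : Subgroup (Matrix.GeneralLinearGroup (Fin b × Fin a) F),
      Q ≤ M.map (swp a b F).toMonoidHom → IsPGroup p Q →
      ∀ (c : F), σ c = -c → c ≠ 0 → ∀ (u : Fin a → F), u ≠ 0 → ∀ h : cj σ u ⬝ᵥ u = 0,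
        EL (c • (1 : Matrix (Fin b) (Fin b) F)) u (cj σ u) h ∈ Q → Q ≤ K0 b a F)
    (g : Matrix.GeneralLinearGroup (Fin a × Fin b) F) (hg : g ∈ M)
    (w₀ : Fin b → F) (hw₀ : w₀ ≠ 0) (h₀ : cj σ w₀ ⬝ᵥ w₀ = 0)
    (hNO : ∀ u₀ : Fin a → F, u₀ ≠ 0 → ∀ w : Fin b → F, w ≠ 0 → cj σ w ⬝ᵥ w = 0 →
      ctr (cj σ w) ((g : Matrix (Fin a × Fin b) (Fin a × Fin b) F) *ᵥ ten u₀ w₀) ≠ 0) : False := by
  classical
  obtain ⟨f1, f2, f3, -⟩ := swp_facts (a := a) (b := b) σ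
  obtain ⟨c₀, hc₀, hc₀s⟩ := utpmeet_skew σ hσ
  -- an isotropic vector of `A`
  obtain ⟨u, -, hu0, huiso⟩ := exists_iso_in σ hσ (⊤ : Submodule F (Fin a → F))
    (by rw [finrank_top, Module.finrank_fin_fun]; omega)
  -- the `A`-transvection
  set X' : Matrix.GeneralLinearGroup (Fin b × Fin a) F :=
    EL (c₀ • (1 : Matrix (Fin b) (Fin b) F)) u (cj σ u) huiso with hX'
  set x : Matrix.GeneralLinearGroup (Fin a × Fin b) F := (swp a b F).symm X' with hx
  have hswx : swp a b F x = X' := by rw [hx, MulEquiv.apply_symm_apply]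
  have hX'T : X' ∈ T0u σ b a := btv_mem σ hσ c₀ hc₀s u huiso
  have hxT : x ∈ T0u σ a b := by
    rw [← f3] at hX'T
    obtain ⟨x', hx'T, hx'eq⟩ := hX'T
    have : x = x' := by
      rw [hx, ← hx'eq]
      exact (swp a b F).symm_apply_apply x'
    rw [this]
    exact hx'T
  have hxM : x ∈ M := hTM hxT
  have hxp : x ^ p = 1 := by
    rw [hx, ← map_pow, hX', tpmeet_EL_pow_char p _ u (cj σ u) huiso, map_one]
  have hxmove : ∀ z : Fin a × Fin b → F,
      (x : Matrix (Fin a × Fin b) (Fin a × Fin b) F) *ᵥ z - z ∈ utpnear_Aline (b := b) u := by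
    intro z
    have h1 := swp_mulVec x z
    rw [hswx, hX', EL_coe, ELm_mulVec] at h1
    refine ⟨(c₀ • (1 : Matrix (Fin b) (Fin b) F)) *ᵥ ctr (cj σ u) (swv z), ?_⟩
    show ten u _ = _
    apply utpnear_swv_inj
    rw [swv_ten]
    have h2 : swv ((x : Matrix (Fin a × Fin b) (Fin a × Fin b) F) *ᵥ z - z)
        = swv ((x : Matrix (Fin a × Fin b) (Fin a × Fin b) F) *ᵥ z) - swv z := by
      funext q
      simp [swv]
    rw [h2, ← h1, add_sub_cancel_left]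
  -- the `B`-transvection and its conjugate
  set ψ₀ : Fin b → F := c₀ • cj σ w₀ with hψ₀def
  have hψ₀0 : ψ₀ ≠ 0 := smul_ne_zero hc₀ (fun h => hw₀ ((cj_eq_zero σ).mp h))
  have hψ₀w : ψ₀ ⬝ᵥ w₀ = 0 := by rw [hψ₀def, smul_dotProduct, h₀, smul_zero]
  set x₀ : Matrix.GeneralLinearGroup (Fin a × Fin b) F :=
    EL (1 : Matrix (Fin a) (Fin a) F) w₀ ψ₀ hψ₀w with hx₀
  have hx₀' : x₀ = EL (c₀ • (1 : Matrix (Fin a) (Fin a) F)) w₀ (cj σ w₀) h₀ :=
    (utpmeet_EL_smul c₀ w₀ (cj σ w₀) h₀).symm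
  set y : Matrix.GeneralLinearGroup (Fin a × Fin b) F := g * x₀ * g⁻¹ with hy
  have hx₀M : x₀ ∈ M := by rw [hx₀']; exact hTM (btv_mem σ hσ c₀ hc₀s w₀ h₀)
  have hyM : y ∈ M := M.mul_mem (M.mul_mem hg hx₀M) (M.inv_mem hg)
  have hyp : y ^ p = 1 := by
    rw [hy, conj_pow, hx₀, tpmeet_EL_pow_char p 1 w₀ ψ₀ hψ₀w, mul_one, mul_inv_cancel]
  set S : Submodule F (Fin a × Fin b → F) :=
    (Bline (a := a) w₀).map (g : Matrix (Fin a × Fin b) (Fin a × Fin b) F).mulVecLin with hS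
  have hymove : ∀ z : Fin a × Fin b → F,
      (y : Matrix (Fin a × Fin b) (Fin a × Fin b) F) *ᵥ z - z ∈ S := by
    intro z
    rw [hy, hx₀, tpmeet_conj_EL_move]
    exact ⟨_, ⟨_, rfl⟩, rfl⟩
  -- Sylow
  obtain ⟨P, d, hP, hPD, hdD, hxP, htP⟩ := tpmeet_sylow p x y hxp hyp
  have hDM : Subgroup.closure {x, y} ≤ M := by
    rw [Subgroup.closure_le]
    rintro z (rfl | hz)
    · exact hxM
    · rw [Set.mem_singleton_iff] at hz
      subst hz
      exact hyM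
  -- PGRP in the swapped model
  have hPK : P ≤ K0 a b F := by
    have hQ' : P.map (swp a b F).toMonoidHom ≤ K0 b a F :=
      hPG' (P.map (swp a b F).toMonoidHom) (Subgroup.map_mono (hPD.trans hDM))
        (hP.map _) c₀ hc₀s hc₀ u hu0 huiso ⟨x, hxP, hswx⟩
    intro t ht
    exact (f1 t).mp (hQ' ⟨t, ht, rfl⟩)
  have htK : d * y * d⁻¹ ∈ K0 a b F := hPK htP
  have ht_eq : d * y * d⁻¹ = (d * g) * x₀ * (d * g)⁻¹ := by
    rw [hy]
    group
  rw [ht_eq] at htK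
  -- `C1G`
  have hsq := tpmeet_conj_sq_zero (d * g) x₀
    (by rw [hx₀, EL_coe]; exact tpmeet_ELm_sub_one_sq w₀ ψ₀ hψ₀w)
  have hrk : (((d * g * x₀ * (d * g)⁻¹ : Matrix.GeneralLinearGroup (Fin a × Fin b) F) :
      Matrix (Fin a × Fin b) (Fin a × Fin b) F) - 1).rank = a := by
    rw [tpmeet_conj_rank, hx₀, EL_coe, tpmeet_rank_ELm_sub_one w₀ ψ₀ hw₀ hψ₀0]
  have hdiv : ¬ b ∣ a := by
    intro hdv
    have := Nat.le_of_dvd (by omega) hdv
    omega
  obtain ⟨w', hw', hw'img⟩ := sqzero_kron_gen (by omega) (by omega) hdiv _ htK hsq hrk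
  have himg : ∀ v : Fin a × Fin b → F, v ∈ Bline (a := a) w' ↔
      ∃ u₁ : Fin a → F, v = (d : Matrix (Fin a × Fin b) (Fin a × Fin b) F) *ᵥ
        ((g : Matrix (Fin a × Fin b) (Fin a × Fin b) F) *ᵥ ten u₁ w₀) := by
    intro v
    rw [← hw'img v, hx₀, tpmeet_conj_EL_range (d * g) w₀ ψ₀ hψ₀w hψ₀0 v]
    simp only [Units.val_mul, Matrix.mulVec_mulVec]
  have hmove := tpmeet_closure_move x y (utpnear_Aline (b := b) u) S hxmove hymove d hdD
  -- a vector of `A` outside `F u`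
  obtain ⟨u', hu'⟩ := utpnear_exists_indep (by omega : 2 ≤ a) u
  obtain ⟨u₁, hu₁⟩ := (himg (ten u' w')).mp ⟨u', rfl⟩
  have hsS : (g : Matrix (Fin a × Fin b) (Fin a × Fin b) F) *ᵥ ten u₁ w₀ ∈ S := ⟨_, ⟨_, rfl⟩, rfl⟩
  have hsum : ten u' w' ∈ utpnear_Aline (b := b) u ⊔ S := by
    have := Submodule.add_mem _
      (hmove ((g : Matrix (Fin a × Fin b) (Fin a × Fin b) F) *ᵥ ten u₁ w₀))
      (Submodule.mem_sup_right hsS)
    rwa [sub_add_cancel, ← hu₁] at this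
  obtain ⟨l, ⟨z, rfl⟩, s, ⟨_, ⟨u₂, rfl⟩, rfl⟩, hls⟩ := Submodule.mem_sup.mp hsum
  -- `s ≠ 0`
  have hu₂ : u₂ ≠ 0 := by
    rintro rfl
    obtain ⟨j₀, hj₀⟩ : ∃ j, w' j ≠ 0 := by
      by_contra hcon
      push Not at hcon
      exact hw' (funext hcon)
    apply hu' (z j₀ / w' j₀)
    funext i
    have := congrFun hls (i, j₀)
    simp only [LinearMap.coe_mk, AddHom.coe_mk, tpmeet_ten_zero, Matrix.mulVecLin_apply, Matrix.mulVec_zero,
      add_zero, ten, Pi.add_apply, Pi.zero_apply] at this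
    rw [Pi.smul_apply, smul_eq_mul]
    field_simp
    rw [← this]
    ring
  obtain ⟨w, hw0, hwiso, hww', hwz⟩ := utpnear_iso_perp2 σ hσ (by omega : 4 ≤ b) w' z
  apply hNO u₂ hu₂ w hw0 hwiso
  have hs : (g : Matrix (Fin a × Fin b) (Fin a × Fin b) F) *ᵥ ten u₂ w₀ = ten u' w' - ten u z := by
    have : ten u z + (g : Matrix (Fin a × Fin b) (Fin a × Fin b) F) *ᵥ ten u₂ w₀ = ten u' w' := hls
    rw [← this]
    abel
  rw [hs, tpmeet_ctr_sub, ctr_ten, ctr_ten, hww', hwz, zero_smul, zero_smul, sub_zero]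

end Cfsg.Agent.Lib.helper6.UTP
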