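import Mathlib
import Cfsg.Agent.Lib.helper6.UTP.Defs
import Cfsg.Agent.Lib.Helper11.UTPNEARcore
import Cfsg.Agent.Lib.Helper11.UTPMEET
import Cfsg.Agent.Lib.Helper24.UTPNOISOcore
import Cfsg.Agent.Lib.Helper24.UTPISOSUB
import Cfsg.Agent.Lib.Helper24.UTPSWAP

/-!
# UTP piece NEAR (helper11): `nt_le_near` verbatim = `utpnear_core` + PGRP core (swapped model) + NOISO core + MEET
+ ISOSUB + SWAP
-/

set_option autoImplicit false
set_option linter.unusedSectionVars false
set_option linter.unusedVariables false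

namespace Cfsg.Agent.Lib.helper6.UTP

open Matrix
open scoped Kronecker
open Cfsg.Agent.Lib.helper7.TP

variable {F : Type*} [Field F] {a b : ℕ}

theorem nt_le_near [Fintype F] (p : ℕ) [Fact p.Prime] [CharP F p] (σ : F ≃+* F) (hσ : Inv2 σ)
    (ha : 4 ≤ a) (hab : b = a + 1)
    (M : Subgroup (Matrix.GeneralLinearGroup (Fin a × Fin b) F)) (hTM : T0u σ a b ≤ M)
    (hMS : M ≤ SUm σ (Fin a × Fin b)) (hNT : NTu σ M)
    (hNT' : NTu σ (M.map (swp a b F).toMonoidHom)) : M ≤ K0 a b F := by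
  intro g hg
  by_contra hgK
  obtain ⟨f1, f2, f3, -⟩ := swp_facts (a := a) (b := b) σ
  obtain ⟨w₀, -, hw₀, h₀⟩ := exists_iso_in σ hσ (⊤ : Submodule F (Fin b → F))
    (by rw [finrank_top, Module.finrank_fin_fun]; omega)
  have hTM' : T0u σ b a ≤ M.map (swp a b F).toMonoidHom := by
    rw [← f3]
    exact Subgroup.map_mono hTM
  have hMS' : M.map (swp a b F).toMonoidHom ≤ SUm σ (Fin b × Fin a) := by
    rintro _ ⟨t, ht, rfl⟩
    exact (f2 t).mpr (hMS ht)
  have hdiv' : ¬ a ∣ b := by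
    intro hdv
    rw [hab] at hdv
    have h1 : a ∣ 1 := (Nat.dvd_add_right (dvd_refl a)).mp hdv
    have := Nat.le_of_dvd one_pos h1
    omega
  have hdiv : ¬ b ∣ a := by
    intro hdv
    have := Nat.le_of_dvd (by omega) hdv
    omega
  exact utpnear_core p σ hσ ha hab M hTM
    (fun Q hQM hQ c hc hc0 u hu h hx =>
      utppgrp_core p σ hσ (by omega) (by omega) hdiv' (M.map (swp a b F).toMonoidHom) hTM' hMS' hNT'
        (fun t ht hsq hrk => sqzero_kron_gen (by omega) (by omega) hdiv' t ht hsq hrk)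
        (fun w w' hw hw' h g hg hl =>
          stab_u σ hσ (by omega) (by omega) (M.map (swp a b F).toMonoidHom) hTM' hMS' hNT' w w' hw hw' h
            g hg hl)
        Q hQM hQ c hc hc0 u hu h hx)
    g hg w₀ hw₀ h₀
    (fun u₀ hu₀ w hw h =>
      utpnoiso_core σ hσ (by omega) M
        (fun g' hg' hgK' w₀' hw₀' h₀' w' hw' h' u' hv' =>
          meet_u p σ hσ (by omega) (by omega) hdiv M hTM hMS hNT g' hg' hgK' w₀' hw₀' h₀' w' hw' h' u' hv')
        g hg hgK w₀ hw₀ h₀ u₀ hu₀ w hw h)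

end Cfsg.Agent.Lib.helper6.UTP
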