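import Mathlib
import Cfsg.Agent.Lib.helper6.UTP.Defs
import Cfsg.Agent.Lib.Helper28.Transport
import Cfsg.Agent.Lib.Helper28.UHerm
import Cfsg.Agent.Lib.Helper28.OTensU
import Cfsg.Agent.Lib.Helper20.ASUCHSTD

/-!
# UTP piece TRANSFER (helper11): S5670 from the standard model

`s5670_of_std` verbatim from the UTP skeleton; extras prefixed `utptransfer_`.
-/

set_option autoImplicit false
set_option linter.unusedSectionVars false
set_option linter.unusedVariables false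

namespace Cfsg.Agent.Lib.helper6.UTP

open Matrix
open scoped Kronecker
open Cfsg.Agent.Lib.helper7.TP

variable {F : Type*} [Field F]

/-! ## `formOfGram` in matrix form -/

theorem utptransfer_fog (σ : F ≃+* F) {κ : Type} [Fintype κ] (G : Matrix κ κ F) (x y : κ → F) :
    Cfsg.Geo.formOfGram (σ : F → F) G x y = x ⬝ᵥ (G *ᵥ cj σ y) := by
  unfold Cfsg.Geo.formOfGram
  simp only [dotProduct, Matrix.mulVec, cj, Finset.mul_sum, mul_assoc]

theorem utptransfer_cj_mulVec (σ : F ≃+* F) {κ : Type} [Fintype κ] (K : Matrix κ κ F) (y : κ → F) :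
    cj σ (K *ᵥ y) = K.map σ *ᵥ cj σ y := by
  funext i
  simp only [cj, Matrix.mulVec, dotProduct, map_sum, map_mul, Matrix.map_apply]

theorem utptransfer_fog_mul (σ : F ≃+* F) {κ : Type} [Fintype κ] [DecidableEq κ] (G K : Matrix κ κ F)
    (x y : κ → F) :
    Cfsg.Geo.formOfGram (σ : F → F) G (K *ᵥ x) (K *ᵥ y)
      = Cfsg.Geo.formOfGram (σ : F → F) (Kᵀ * G * K.map σ) x y := by
  rw [utptransfer_fog, utptransfer_fog, utptransfer_cj_mulVec, ← Matrix.mulVec_mulVec, ← Matrix.mulVec_mulVec,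
    Matrix.dotProduct_mulVec x Kᵀ, Matrix.vecMul_transpose]

theorem utptransfer_fog_one (σ : F ≃+* F) {κ : Type} [Fintype κ] [DecidableEq κ] (x y : κ → F) :
    Cfsg.Geo.formOfGram (σ : F → F) (1 : Matrix κ κ F) x y = hf σ x y := by
  rw [utptransfer_fog, Matrix.one_mulVec, hf]

/-! ## unitary forms and their Gram matrices -/

theorem utptransfer_unitary (σ : F ≃+* F) {q : ℕ} (hσq : ∀ x, σ x = x ^ q) (hinv : Inv2 σ) {k : ℕ}
    {f : (Fin k → F) → (Fin k → F) → F} (hf : Cfsg.Geo.IsUnitaryFormPow q f) :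
    Cfsg.Geo.IsUnitaryForm σ f where
  ne_refl := by
    intro h
    obtain ⟨x, hx⟩ := hinv.moved
    apply hx
    rw [h]
    rfl
  involutive := hinv.invol
  add_left := hf.add_left
  smul_left := hf.smul_left
  herm := fun v w => by rw [hσq]; exact hf.herm v w
  nondegenerate := hf.nondegenerate

theorem utptransfer_gram_herm {q : ℕ} {k : ℕ} {f : (Fin k → F) → (Fin k → F) → F}
    (hf : Cfsg.Geo.IsUnitaryFormPow q f) :
    Cfsg.Agent.Lib.Helper19.ASU.uadj q (Cfsg.Geo.gramMatrix f) = Cfsg.Geo.gramMatrix f := by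
  ext i j
  unfold Cfsg.Agent.Lib.Helper19.ASU.uadj
  rw [Matrix.map_apply, Matrix.transpose_apply]
  unfold Cfsg.Geo.gramMatrix
  exact (hf.herm _ _).symm

theorem utptransfer_gram_det (σ : F ≃+* F) {k : ℕ} {f : (Fin k → F) → (Fin k → F) → F}
    (hf : Cfsg.Geo.IsUnitaryForm σ f) : (Cfsg.Geo.gramMatrix f).det ≠ 0 := by
  intro hdet
  obtain ⟨v, hv0, hv⟩ := Matrix.exists_mulVec_eq_zero_iff.mpr hdet
  have hw0 : cj σ v ≠ 0 := fun h => hv0 ((cj_eq_zero σ).mp h)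
  obtain ⟨⟨x, hx⟩, _⟩ := hf.nondegenerate (cj σ v) hw0
  apply hx
  rw [Cfsg.Agent.Lib.Helper28.OTensU.u_gram hf]
  have : ∀ a, ∑ b, x a * Cfsg.Geo.gramMatrix f a b * σ (cj σ v b)
      = x a * (Cfsg.Geo.gramMatrix f *ᵥ v) a := by
    intro a
    simp only [Matrix.mulVec, dotProduct, cj, hf.involutive, Finset.mul_sum, mul_assoc]
  simp only [this, hv, Pi.zero_apply, mul_zero, Finset.sum_const_zero]

/-! ## the Kronecker product of two invertible matrices, as an element of `GL` -/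

/-- `S₁ ⊗ S₂` as an element of `GL (Fin a × Fin b) F` -/
noncomputable def utptransfer_kron {a b : ℕ} (S₁ : Matrix.GeneralLinearGroup (Fin a) F)
    (S₂ : Matrix.GeneralLinearGroup (Fin b) F) : Matrix.GeneralLinearGroup (Fin a × Fin b) F where
  val := (S₁ : Matrix (Fin a) (Fin a) F) ⊗ₖ (S₂ : Matrix (Fin b) (Fin b) F)
  inv := ((S₁⁻¹ : Matrix.GeneralLinearGroup (Fin a) F) : Matrix (Fin a) (Fin a) F) ⊗ₖ
    ((S₂⁻¹ : Matrix.GeneralLinearGroup (Fin b) F) : Matrix (Fin b) (Fin b) F)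
  val_inv := by
    rw [← Matrix.mul_kronecker_mul, ← Units.val_mul, ← Units.val_mul, mul_inv_cancel, mul_inv_cancel,
      Units.val_one, Units.val_one, Matrix.one_kronecker_one]
  inv_val := by
    rw [← Matrix.mul_kronecker_mul, ← Units.val_mul, ← Units.val_mul, inv_mul_cancel, inv_mul_cancel,
      Units.val_one, Units.val_one, Matrix.one_kronecker_one]

theorem utptransfer_kron_mem {a b : ℕ} (S₁ : Matrix.GeneralLinearGroup (Fin a) F)
    (S₂ : Matrix.GeneralLinearGroup (Fin b) F) :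
    utptransfer_kron S₁ S₂ ∈ Cfsg.Geo.kroneckerSubgroup a b F := ⟨S₁, S₂, rfl⟩

/-- the Gram matrix of the tensor form in the new basis -/
theorem utptransfer_kron_gram (σ : F ≃+* F) {a b : ℕ} (S₁ G₁ : Matrix (Fin a) (Fin a) F)
    (S₂ G₂ : Matrix (Fin b) (Fin b) F) (h₁ : S₁ᵀ * G₁ * S₁.map σ = 1) (h₂ : S₂ᵀ * G₂ * S₂.map σ = 1) :
    (S₁ ⊗ₖ S₂)ᵀ * (G₁ ⊗ₖ G₂) * (S₁ ⊗ₖ S₂).map σ = 1 := by
  have hmap : (S₁ ⊗ₖ S₂).map σ = S₁.map σ ⊗ₖ S₂.map σ := by
    ext ⟨i, j⟩ ⟨k, l⟩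
    simp [Matrix.kroneckerMap_apply, map_mul]
  rw [hmap, ← Matrix.kroneckerMap_transpose, ← Matrix.mul_kronecker_mul, ← Matrix.mul_kronecker_mul, h₁, h₂,
    Matrix.one_kronecker_one]

/-- transport of maximality along an injective homomorphism `φ` with `φ⁻¹ S = S'` (copy of `helper7.TP.isMaximalIn_map`). -/
theorem utptransfer_isMaximalIn_map {G G' : Type*} [Group G] [Group G'] (φ : G →* G')
    (hφ : Function.Injective φ) (H' S' : Subgroup G) (S : Subgroup G')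
    (hS : ∀ g, g ∈ S' ↔ φ g ∈ S) (hSr : S ≤ φ.range)
    (hmax : Cfsg.Geo.IsMaximalIn S' (H' ⊓ S')) :
    Cfsg.Geo.IsMaximalIn S (H'.map φ ⊓ S) := by
  obtain ⟨hlt, hmx⟩ := hmax
  have hmapS' : S'.map φ = S := by
    apply le_antisymm
    · rintro _ ⟨g, hg, rfl⟩
      exact (hS g).mp hg
    · intro x hx
      obtain ⟨g, rfl⟩ := hSr hx
      exact ⟨g, (hS g).mpr hx, rfl⟩
  have hinf : H'.map φ ⊓ S = (H' ⊓ S').map φ := by
    rw [← hmapS']
    exact (Subgroup.map_inf H' S' φ hφ).symm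
  rw [hinf]
  refine ⟨?_, ?_⟩
  · rw [← hmapS']
    exact (Subgroup.map_lt_map_iff_of_injective hφ).mpr hlt
  · intro M hHM hMS
    have hMr : M ≤ φ.range := hMS.trans hSr
    have hM : (M.comap φ).map φ = M := by
      rw [Subgroup.map_comap_eq, inf_eq_right.mpr hMr]
    rcases hmx (M.comap φ)
        (by
          rw [← Subgroup.map_le_iff_le_comap]
          exact hHM)
        (by
          intro g hg
          exact (hS g).mpr (hMS hg)) with h | h
    · left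
      rw [← hM, h]
    · right
      rw [← hM, h, hmapS']

/-- the transported element acts through `g` in the coordinates `x ↦ P (x ∘ e)` -/
theorem utptransfer_tmap_mulVec {n n₁ n₂ : ℕ} (e : Fin n ≃ Fin n₁ × Fin n₂)
    (P : Matrix.GeneralLinearGroup (Fin n) F) (g : Matrix.GeneralLinearGroup (Fin n₁ × Fin n₂) F)
    (x : Fin n₁ × Fin n₂ → F) :
    ((Cfsg.Agent.Lib.Helper28.Transport.tmap e.symm P g : Matrix.GeneralLinearGroup (Fin n) F) :
        Matrix (Fin n) (Fin n) F) *ᵥ ((P : Matrix (Fin n) (Fin n) F) *ᵥ (x ∘ e))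
      = (P : Matrix (Fin n) (Fin n) F) *ᵥ
          (((g : Matrix (Fin n₁ × Fin n₂) (Fin n₁ × Fin n₂) F) *ᵥ x) ∘ e) := by
  change ((MulAut.conj P (Cfsg.Geo.glReindex e.symm g) : Matrix.GeneralLinearGroup (Fin n) F) :
        Matrix (Fin n) (Fin n) F) *ᵥ _ = _
  rw [MulAut.conj_apply, Units.val_mul, Units.val_mul, ← Matrix.mulVec_mulVec, ← Matrix.mulVec_mulVec,
    Matrix.mulVec_mulVec _ _ (P : Matrix (Fin n) (Fin n) F), ← Units.val_mul, inv_mul_cancel, Units.val_one,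
    Matrix.one_mulVec, Cfsg.Agent.Lib.Helper28.Transport.reindex_coe]
  congr 1
  rw [Matrix.reindex_apply, Matrix.submatrix_mulVec_equiv]
  simp [Function.comp_assoc]

/-- the action of `glReindex e.symm K` on `x ∘ e` -/
theorem utptransfer_reindex_mulVec {n n₁ n₂ : ℕ} (e : Fin n ≃ Fin n₁ × Fin n₂)
    (K : Matrix.GeneralLinearGroup (Fin n₁ × Fin n₂) F) (x : Fin n₁ × Fin n₂ → F) :
    ((Cfsg.Geo.glReindex e.symm K : Matrix.GeneralLinearGroup (Fin n) F) : Matrix (Fin n) (Fin n) F) *ᵥ (x ∘ e)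
      = ((K : Matrix (Fin n₁ × Fin n₂) (Fin n₁ × Fin n₂) F) *ᵥ x) ∘ e := by
  rw [Cfsg.Agent.Lib.Helper28.Transport.reindex_coe, Matrix.reindex_apply, Matrix.submatrix_mulVec_equiv]
  simp [Function.comp_assoc]

theorem s5670_of_std {F : Type*} [Field F] [Fintype F] (n q : ℕ) (hF : Fintype.card F = q ^ 2)
    (n₁ n₂ : ℕ) (e : Fin n ≃ Fin n₁ × Fin n₂) (P : Matrix.GeneralLinearGroup (Fin n) F)
    (f₁ : (Fin n₁ → F) → (Fin n₁ → F) → F) (f₂ : (Fin n₂ → F) → (Fin n₂ → F) → F)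
    (hf₁ : Cfsg.Geo.IsUnitaryFormPow q f₁) (hf₂ : Cfsg.Geo.IsUnitaryFormPow q f₂)
    (hT : Cfsg.Geo.IsTensorFormStructure (fun x : F => x ^ q) (Cfsg.hermForm n F q) f₁ f₂ e P)
    (hstd : ∀ σ : F ≃+* F, Inv2 σ → (∀ x, σ x = x ^ q) →
      Cfsg.Geo.IsMaximalIn (SUm σ (Fin n₁ × Fin n₂)) (T0u σ n₁ n₂)) :
    Cfsg.Geo.IsMaximalIn (Cfsg.GU n F q ⊓ Cfsg.Geo.specialLinear (Fin n) F)
      (Cfsg.Geo.tensorProductSubgroup n₁ n₂ e P ⊓
        (Cfsg.GU n F q ⊓ Cfsg.Geo.specialLinear (Fin n) F)) := by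
  classical
  obtain ⟨σ, hσq, hform⟩ := Cfsg.Agent.Lib.Helper28.UHerm.herm_unitary hF n
  have hinv : Inv2 σ := ⟨hform.involutive, by
    by_contra h
    push Not at h
    exact hform.ne_refl (RingEquiv.ext h)⟩
  have hσfun : (fun a : F => a ^ q) = (σ : F → F) := funext fun a => (hσq a).symm
  have hu₁ := utptransfer_unitary σ hσq hinv hf₁
  have hu₂ := utptransfer_unitary σ hσq hinv hf₂
  obtain ⟨S₁, hS₁⟩ := Cfsg.Agent.Lib.Helper19.ASU.uc_herm_std q hF (Cfsg.Geo.gramMatrix f₁)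
    (utptransfer_gram_det σ hu₁) (utptransfer_gram_herm hf₁)
  obtain ⟨S₂, hS₂⟩ := Cfsg.Agent.Lib.Helper19.ASU.uc_herm_std q hF (Cfsg.Geo.gramMatrix f₂)
    (utptransfer_gram_det σ hu₂) (utptransfer_gram_herm hf₂)
  rw [hσfun] at hS₁ hS₂
  obtain ⟨c, hc0, hTc⟩ := hT
  rw [hσfun] at hTc
  set K := utptransfer_kron S₁ S₂ with hK
  have hKmem : K ∈ Cfsg.Geo.kroneckerSubgroup n₁ n₂ F := utptransfer_kron_mem S₁ S₂
  set P' : Matrix.GeneralLinearGroup (Fin n) F := P * Cfsg.Geo.glReindex e.symm K with hP'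
  -- the form in the new coordinates
  have hform' : ∀ x y : Fin n₁ × Fin n₂ → F,
      Cfsg.hermForm n F q ((P' : Matrix (Fin n) (Fin n) F) *ᵥ (x ∘ e))
        ((P' : Matrix (Fin n) (Fin n) F) *ᵥ (y ∘ e)) = c * hf σ x y := by
    intro x y
    rw [hP', Units.val_mul, ← Matrix.mulVec_mulVec, ← Matrix.mulVec_mulVec, utptransfer_reindex_mulVec,
      utptransfer_reindex_mulVec, hTc, utptransfer_fog_mul]
    have : ((K : Matrix (Fin n₁ × Fin n₂) (Fin n₁ × Fin n₂) F))ᵀ *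
        (Cfsg.Geo.gramMatrix f₁ ⊗ₖ Cfsg.Geo.gramMatrix f₂) *
        ((K : Matrix (Fin n₁ × Fin n₂) (Fin n₁ × Fin n₂) F)).map σ = 1 :=
      utptransfer_kron_gram σ _ _ _ _ hS₁ hS₂
    rw [this, utptransfer_fog_one]
  -- every vector is `P' (x ∘ e)`
  have hsurj : ∀ u : Fin n → F, ∃ x : Fin n₁ × Fin n₂ → F,
      u = (P' : Matrix (Fin n) (Fin n) F) *ᵥ (x ∘ e) := by
    intro u
    refine ⟨(((P'⁻¹ : Matrix.GeneralLinearGroup (Fin n) F) : Matrix (Fin n) (Fin n) F) *ᵥ u) ∘ e.symm, ?_⟩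
    have : ((((P'⁻¹ : Matrix.GeneralLinearGroup (Fin n) F) : Matrix (Fin n) (Fin n) F) *ᵥ u) ∘ e.symm) ∘ e
        = ((P'⁻¹ : Matrix.GeneralLinearGroup (Fin n) F) : Matrix (Fin n) (Fin n) F) *ᵥ u := by
      funext i
      simp
    rw [this, Matrix.mulVec_mulVec, ← Units.val_mul, mul_inv_cancel, Units.val_one, Matrix.one_mulVec]
  -- the two tensor product subgroups coincide
  have htens : Cfsg.Geo.tensorProductSubgroup n₁ n₂ e P
      = (Cfsg.Geo.kroneckerSubgroup n₁ n₂ F).map (Cfsg.Agent.Lib.Helper28.Transport.tmap e.symm P') := by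
    rw [Cfsg.Agent.Lib.Helper28.Transport.tensor_eq_map]
    have hrel : ∀ g : Matrix.GeneralLinearGroup (Fin n₁ × Fin n₂) F,
        Cfsg.Agent.Lib.Helper28.Transport.tmap e.symm P' g
          = Cfsg.Agent.Lib.Helper28.Transport.tmap e.symm P (K * g * K⁻¹) := by
      intro g
      change MulAut.conj P' (Cfsg.Geo.glReindex e.symm g)
        = MulAut.conj P (Cfsg.Geo.glReindex e.symm (K * g * K⁻¹))
      rw [MulAut.conj_apply, MulAut.conj_apply, hP', map_mul, map_mul, map_inv]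
      group
    apply le_antisymm
    · rintro _ ⟨g, hg, rfl⟩
      refine ⟨K⁻¹ * g * K, Subgroup.mul_mem _ (Subgroup.mul_mem _ (Subgroup.inv_mem _ hKmem) hg) hKmem, ?_⟩
      rw [hrel]
      congr 1
      group
    · rintro _ ⟨g, hg, rfl⟩
      refine ⟨K * g * K⁻¹, Subgroup.mul_mem _ (Subgroup.mul_mem _ hKmem hg) (Subgroup.inv_mem _ hKmem), ?_⟩
      rw [hrel]
  rw [htens]
  have hmax := hstd σ hinv hσq
  apply utptransfer_isMaximalIn_map (Cfsg.Agent.Lib.Helper28.Transport.tmap e.symm P')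
    (Cfsg.Agent.Lib.Helper28.Transport.tmap_injective e.symm P')
    (Cfsg.Geo.kroneckerSubgroup n₁ n₂ F) (SUm σ (Fin n₁ × Fin n₂))
    (Cfsg.GU n F q ⊓ Cfsg.Geo.specialLinear (Fin n) F)
  · intro g
    unfold SUm
    rw [Subgroup.mem_inf, Subgroup.mem_inf, ← Cfsg.Agent.Lib.Helper28.Transport.tmap_SL e.symm P' g]
    apply and_congr_left
    intro _
    constructor
    · intro hg u v
      obtain ⟨x, rfl⟩ := hsurj u
      obtain ⟨y, rfl⟩ := hsurj v
      change Cfsg.hermForm n F q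
        (((Cfsg.Agent.Lib.Helper28.Transport.tmap e.symm P' g : Matrix.GeneralLinearGroup (Fin n) F) :
          Matrix (Fin n) (Fin n) F) *ᵥ _)
        (((Cfsg.Agent.Lib.Helper28.Transport.tmap e.symm P' g : Matrix.GeneralLinearGroup (Fin n) F) :
          Matrix (Fin n) (Fin n) F) *ᵥ _) = _
      rw [utptransfer_tmap_mulVec, utptransfer_tmap_mulVec, hform', hform', (mem_GUm σ g).mp hg]
    · intro hg
      rw [mem_GUm]
      intro x y
      have h := hg ((P' : Matrix (Fin n) (Fin n) F) *ᵥ (x ∘ e)) ((P' : Matrix (Fin n) (Fin n) F) *ᵥ (y ∘ e))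
      change Cfsg.hermForm n F q
        (((Cfsg.Agent.Lib.Helper28.Transport.tmap e.symm P' g : Matrix.GeneralLinearGroup (Fin n) F) :
          Matrix (Fin n) (Fin n) F) *ᵥ _)
        (((Cfsg.Agent.Lib.Helper28.Transport.tmap e.symm P' g : Matrix.GeneralLinearGroup (Fin n) F) :
          Matrix (Fin n) (Fin n) F) *ᵥ _) = _ at h
      rw [utptransfer_tmap_mulVec, utptransfer_tmap_mulVec, hform', hform'] at h
      exact mul_left_cancel₀ hc0 h
  · intro x _
    refine ⟨(Cfsg.Geo.glReindex e.symm).symm ((MulAut.conj P').symm x), ?_⟩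
    change (MulAut.conj P') ((Cfsg.Geo.glReindex e.symm) ((Cfsg.Geo.glReindex e.symm).symm
      ((MulAut.conj P').symm x))) = x
    rw [MulEquiv.apply_symm_apply, MulEquiv.apply_symm_apply]
  · exact hmax

end Cfsg.Agent.Lib.helper6.UTP
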