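import Cfsg.Agent.Lib.helper15.WB.Defs

set_option autoImplicit false

namespace Cfsg.Agent.Lib.Helper11.WBHd

open Matrix Cfsg.Agent.Lib.helper15.SUn Cfsg.Agent.Lib.helper15.WB

section blk

variable {F : Type*} [Field F]

/-- block diagonal matrix `diag(d, A')` of size `m + 2` -/
def blk (d : F) {m : ℕ} (A' : Matrix (Fin (m + 1)) (Fin (m + 1)) F) :
    Matrix (Fin (m + 2)) (Fin (m + 2)) F :=
  Matrix.of (fun i j =>
    Fin.cases (Fin.cases d (fun _ => 0) j) (fun i' => Fin.cases 0 (fun j' => A' i' j') j) i)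

@[simp] theorem blk_zero_zero (d : F) {m : ℕ} (A' : Matrix (Fin (m + 1)) (Fin (m + 1)) F) :
    blk d A' 0 0 = d := rfl

@[simp] theorem blk_zero_succ (d : F) {m : ℕ} (A' : Matrix (Fin (m + 1)) (Fin (m + 1)) F)
    (j : Fin (m + 1)) : blk d A' 0 j.succ = 0 := rfl

@[simp] theorem blk_succ_zero (d : F) {m : ℕ} (A' : Matrix (Fin (m + 1)) (Fin (m + 1)) F)
    (i : Fin (m + 1)) : blk d A' i.succ 0 = 0 := rfl

@[simp] theorem blk_succ_succ (d : F) {m : ℕ} (A' : Matrix (Fin (m + 1)) (Fin (m + 1)) F)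
    (i j : Fin (m + 1)) : blk d A' i.succ j.succ = A' i j := rfl

theorem blk_det (d : F) {m : ℕ} (A' : Matrix (Fin (m + 1)) (Fin (m + 1)) F) :
    (blk d A').det = d * A'.det := by
  rw [Matrix.det_succ_row_zero, Fin.sum_univ_succ]
  have h0 : (blk d A').submatrix Fin.succ (Fin.succAbove 0) = A' := by
    ext i j
    simp [Fin.succAbove_zero]
  rw [h0]
  have hrest : ∀ j : Fin (m + 1), (-1 : F) ^ (j.succ : ℕ) * blk d A' 0 j.succ *
      ((blk d A').submatrix Fin.succ j.succ.succAbove).det = 0 := by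
    intro j
    rw [blk_zero_succ, mul_zero, zero_mul]
  rw [Finset.sum_eq_zero (fun j _ => hrest j)]
  simp

theorem cg_blk_zero_zero (σ : F ≃+* F) (d : F) {m : ℕ}
    (A' : Matrix (Fin (m + 1)) (Fin (m + 1)) F) (Z : Matrix (Fin (m + 2)) (Fin (m + 2)) F) :
    cg σ (blk d A') Z 0 0 = d * Z 0 0 * σ d := by
  unfold cg
  rw [Matrix.mul_apply, Fin.sum_univ_succ]
  have hrest : ∀ l : Fin (m + 1),
      (blk d A' * Z) 0 l.succ * ((blk d A').map σ)ᵀ l.succ 0 = 0 := by
    intro l
    rw [Matrix.transpose_apply, Matrix.map_apply, blk_zero_succ, map_zero, mul_zero]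
  rw [Finset.sum_eq_zero (fun l _ => hrest l), add_zero, Matrix.transpose_apply,
    Matrix.map_apply, blk_zero_zero, Matrix.mul_apply, Fin.sum_univ_succ]
  have hrest2 : ∀ k : Fin (m + 1), blk d A' 0 k.succ * Z k.succ 0 = 0 := by
    intro k
    rw [blk_zero_succ, zero_mul]
  rw [Finset.sum_eq_zero (fun k _ => hrest2 k), add_zero, blk_zero_zero]

theorem cg_blk_succ_succ (σ : F ≃+* F) (d : F) {m : ℕ}
    (A' : Matrix (Fin (m + 1)) (Fin (m + 1)) F) (Z : Matrix (Fin (m + 2)) (Fin (m + 2)) F)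
    (i j : Fin (m + 1)) :
    cg σ (blk d A') Z i.succ j.succ = cg σ A' (Z.submatrix Fin.succ Fin.succ) i j := by
  unfold cg
  have h0 : (blk d A' * Z) i.succ 0 * ((blk d A').map σ)ᵀ 0 j.succ = 0 := by
    rw [Matrix.transpose_apply, Matrix.map_apply, blk_succ_zero, map_zero, mul_zero]
  rw [Matrix.mul_apply, Fin.sum_univ_succ, h0, zero_add, Matrix.mul_apply]
  apply Finset.sum_congr rfl
  intro l _
  rw [Matrix.transpose_apply, Matrix.map_apply, blk_succ_succ, Matrix.transpose_apply,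
    Matrix.map_apply]
  congr 1
  rw [Matrix.mul_apply, Fin.sum_univ_succ, blk_succ_zero, zero_mul, zero_add, Matrix.mul_apply]
  apply Finset.sum_congr rfl
  intro k _
  rw [blk_succ_succ, Matrix.submatrix_apply]

end blk

section H

variable {F : Type*} [Field F] [Fintype F] [DecidableEq F] {q : ℕ} {σ : F ≃+* F}

/-- H-d : the lower-right blocks of the members with zero (0,0) entry are GL-invariant -/
theorem block_inv (hF : Fintype.card F = q ^ 2) (hσ : ∀ x, σ x = x ^ q) (m : ℕ)
    (T : Finset (Matrix (Fin (m + 2)) (Fin (m + 2)) F)) (hT : ∀ X ∈ T, IsHerm σ X)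
    (hinv : ∀ X ∈ T, ∀ A : Matrix (Fin (m + 2)) (Fin (m + 2)) F, A.det = 1 → cg σ A X ∈ T)
    (Z : Matrix (Fin (m + 2)) (Fin (m + 2)) F) (hZ : Z ∈ T) (hZ0 : Z 0 0 = 0)
    (A' : Matrix (Fin (m + 1)) (Fin (m + 1)) F) (hA' : A'.det ≠ 0) :
    ∃ Z' ∈ T, Z' 0 0 = 0 ∧
      Z'.submatrix Fin.succ Fin.succ = cg σ A' (Z.submatrix Fin.succ Fin.succ) := by
  have hdet : (blk (A'.det)⁻¹ A').det = 1 := by
    rw [blk_det, inv_mul_cancel₀ hA']
  refine ⟨cg σ (blk (A'.det)⁻¹ A') Z, hinv Z hZ _ hdet, ?_, ?_⟩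
  · rw [cg_blk_zero_zero, hZ0, mul_zero, zero_mul]
  · ext i j
    rw [Matrix.submatrix_apply, cg_blk_succ_succ]

/-- the norm-type map `x ↦ x ^ (q + 1)` on units -/
theorem fixed_count (hF : Fintype.card F = q ^ 2) :
    q - 1 ≤ (Finset.univ.filter (fun x : F => x ^ q = x ∧ x ≠ 0)).card := by
  classical
  have hq0 : 0 < q := by
    rcases Nat.eq_zero_or_pos q with h | h
    · subst h
      have : 0 < Fintype.card F := Fintype.card_pos
      omega
    · exact h
  -- the hom
  let f : Fˣ →* Fˣ := powMonoidHom (q + 1)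
  have hker : Nat.card f.ker ≤ q + 1 := by
    have h1 : Nat.card f.ker =
        (Finset.univ.filter (fun a : Fˣ => a ^ (q + 1) = 1)).card := by
      rw [Nat.card_eq_fintype_card, Fintype.card_subtype]
      apply congrArg
      ext a
      simp [f, MonoidHom.mem_ker]
    rw [h1]
    exact IsCyclic.card_pow_eq_one_le (Nat.succ_pos q)
  have hcard : Nat.card Fˣ = q ^ 2 - 1 := by
    rw [Nat.card_eq_fintype_card, Fintype.card_units, hF]
  have hprod : Nat.card f.ker * Nat.card f.range = q ^ 2 - 1 := by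
    rw [← hcard]
    have := Subgroup.card_mul_index f.ker
    rw [Subgroup.index_ker] at this
    exact this
  have hrange : q - 1 ≤ Nat.card f.range := by
    by_contra hlt
    rw [not_le] at hlt
    have h2 : Nat.card f.ker * Nat.card f.range ≤ (q + 1) * Nat.card f.range :=
      Nat.mul_le_mul_right _ hker
    have hq1 : 1 ≤ q := hq0
    have h3 : (q + 1) * Nat.card f.range < (q + 1) * (q - 1) :=
      Nat.mul_lt_mul_of_pos_left hlt (Nat.succ_pos q)
    have h4 : (q + 1) * (q - 1) = q ^ 2 - 1 := by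
      obtain ⟨k, rfl⟩ : ∃ k, q = k + 1 := ⟨q - 1, by omega⟩
      simp only [Nat.add_sub_cancel]
      have : (k + 1) ^ 2 = (k + 1 + 1) * k + 1 := by ring
      omega
    omega
  -- injection of the range into the filter set
  have hinj : Nat.card f.range ≤
      (Finset.univ.filter (fun x : F => x ^ q = x ∧ x ≠ 0)).card := by
    rw [Nat.card_eq_fintype_card, ← Fintype.card_coe]
    apply Fintype.card_le_of_injective
      (fun y : f.range => (⟨((y : Fˣ) : F), by
        rw [Finset.mem_filter]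
        refine ⟨Finset.mem_univ _, ?_, Units.ne_zero _⟩
        obtain ⟨x, hx⟩ := y.2
        have hx' : ((y : Fˣ) : F) = (x : F) ^ (q + 1) := by
          rw [← hx]; simp [f]
        rw [hx', ← pow_mul, Nat.add_mul, one_mul, pow_add, ← sq, ← hF, FiniteField.pow_card,
          pow_succ, mul_comm]⟩ :
        {x // x ∈ Finset.univ.filter (fun x : F => x ^ q = x ∧ x ≠ 0)}))
    intro y y' h
    have h1 : ((y : Fˣ) : F) = ((y' : Fˣ) : F) := congrArg Subtype.val h
    exact Subtype.ext (Units.ext h1)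
  exact le_trans hrange hinj

/-- number of admissible first rows -/
theorem card_rows (hF : Fintype.card F = q ^ 2) (hσ : ∀ x, σ x = x ^ q) (m : ℕ) :
    (q - 1) * q ^ (2 * m) ≤
      (Finset.univ.filter (fun ξ : Fin (m + 1) → F => σ (ξ 0) = ξ 0 ∧ ξ 0 ≠ 0)).card := by
  classical
  set S0 := Finset.univ.filter (fun x : F => x ^ q = x ∧ x ≠ 0) with hS0
  have h0 : q - 1 ≤ S0.card := fixed_count hF
  have h1 : Fintype.card (Fin m → F) = q ^ (2 * m) := by
    rw [Fintype.card_fun, Fintype.card_fin, hF, ← pow_mul]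
  have h2 : (S0 ×ˢ (Finset.univ : Finset (Fin m → F))).card ≤
      (Finset.univ.filter (fun ξ : Fin (m + 1) → F => σ (ξ 0) = ξ 0 ∧ ξ 0 ≠ 0)).card := by
    apply Finset.card_le_card_of_injOn (fun p => Fin.cons p.1 p.2)
    · intro p hp
      rw [Finset.coe_product, Set.mem_prod] at hp
      have hp1 : p.1 ^ q = p.1 ∧ p.1 ≠ 0 := by
        have := hp.1
        rw [Finset.mem_coe, hS0, Finset.mem_filter] at this
        exact this.2
      rw [Finset.mem_coe, Finset.mem_filter]
      refine ⟨Finset.mem_univ _, ?_, ?_⟩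
      · simp only [Fin.cons_zero]
        rw [hσ]; exact hp1.1
      · simp only [Fin.cons_zero]
        exact hp1.2
    · intro p _ p' _ h
      have := Fin.cons_injective2 h
      exact Prod.ext this.1 this.2
  rw [Finset.card_product, Finset.card_univ, h1] at h2
  exact le_trans (Nat.mul_le_mul_right _ h0) h2

end H

end Cfsg.Agent.Lib.Helper11.WBHd
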