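import Cfsg.Agent.Lib.helper15.WB.Defs

set_option autoImplicit false

namespace Cfsg.Agent.Lib.Helper11.WBRb

open Matrix Cfsg.Agent.Lib.helper15.SUn Cfsg.Agent.Lib.helper15.WB

section R

variable {G : Type*} [Group G] {V : Type*} [AddCommGroup V] [Module ℂ V] [FiniteDimensional ℂ V]
  {U : Type*} [AddCommGroup U] [Finite U]

/-- the basic transport: `ρ g⁻¹` maps the `ψ`-eigenspace into the `ψ ∘ α`-eigenspace -/
theorem transport (ρ : Representation ℂ G V) (φ : U → G) (g : G) (α : U →+ U)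
    (h : ∀ a, g * φ a * g⁻¹ = φ (α a)) {ψ : AddChar U ℂ} {v : V}
    (hv : ∀ a, ρ (φ a) v = ψ a • v) (a : U) :
    ρ (φ a) (ρ g⁻¹ v) = (ψ.compAddMonoidHom α) a • ρ g⁻¹ v := by
  have h1 : φ a * g⁻¹ = g⁻¹ * φ (α a) := by
    rw [← h a]; group
  have h2 : ρ (φ a) (ρ g⁻¹ v) = ρ (φ a * g⁻¹) v := by
    rw [map_mul]; rfl
  rw [h2, h1, map_mul]
  show ρ g⁻¹ (ρ (φ (α a)) v) = _
  rw [hv (α a), map_smul]
  rfl

theorem occ_comp (ρ : Representation ℂ G V) (φ : U → G) (g : G) (α : U →+ U)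
    (h : ∀ a, g * φ a * g⁻¹ = φ (α a)) {ψ : AddChar U ℂ} (hψ : ψ ∈ Occ ρ φ) :
    ψ.compAddMonoidHom α ∈ Occ ρ φ := by
  obtain ⟨v, hv0, hv⟩ := hψ
  refine ⟨ρ g⁻¹ v, ?_, fun a => transport ρ φ g α h hv a⟩
  intro h0
  apply hv0
  have : ρ g (ρ g⁻¹ v) = v := by
    have : ρ g (ρ g⁻¹ v) = ρ (g * g⁻¹) v := by rw [map_mul]; rfl
    rw [this, mul_inv_cancel, map_one]; rfl
  rw [← this, h0, map_zero]

theorem finrank_eig_comp_ge (ρ : Representation ℂ G V) (φ : U → G) (g : G) (α : U →+ U)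
    (h : ∀ a, g * φ a * g⁻¹ = φ (α a)) (ψ : AddChar U ℂ) :
    Module.finrank ℂ (eig ρ φ ψ) ≤ Module.finrank ℂ (eig ρ φ (ψ.compAddMonoidHom α)) := by
  let f : eig ρ φ ψ →ₗ[ℂ] eig ρ φ (ψ.compAddMonoidHom α) :=
    { toFun := fun v => ⟨ρ g⁻¹ (v : V), fun a => transport ρ φ g α h (mem_eig.mp v.2) a⟩
      map_add' := by
        intro v w
        apply Subtype.ext
        simp
      map_smul' := by
        intro c v
        apply Subtype.ext
        simp }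
  apply LinearMap.finrank_le_finrank_of_injective (f := f)
  intro v w hvw
  apply Subtype.ext
  have h1 : ρ g⁻¹ (v : V) = ρ g⁻¹ (w : V) := congrArg Subtype.val hvw
  have key : ∀ x : V, ρ g (ρ g⁻¹ x) = x := by
    intro x
    have : ρ g (ρ g⁻¹ x) = ρ (g * g⁻¹) x := by rw [map_mul]; rfl
    rw [this, mul_inv_cancel, map_one]; rfl
  rw [← key (v : V), h1, key]

end R

end Cfsg.Agent.Lib.Helper11.WBRb
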